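/-
Kernel-friendly loops (`allBelow`, `sumBelow`, `allL`, `cntL`) and the bit-mask model of subsets of the 24 Golay points:
`gIdx`/`gPt`/`gEquiv` (points as 0..23, the extra point is 23), `ofMask`, `toMask`, `pc24` (fast population count).
-/
import Cfsg.Agent.Base

set_option autoImplicit false

namespace CL.Spor
open Cfsg

/-! ### Loops that the kernel evaluates quickly -/

/-- `f k` for all `k < n` (constant stack depth in the kernel). -/
def allBelow (f : ℕ → Bool) (n : ℕ) : Bool :=
  Nat.rec (motive := fun _ => Bool) true (fun k ih => and (f k) ih) n

theorem allBelow_iff (f : ℕ → Bool) (n : ℕ) : allBelow f n = true ↔ ∀ k < n, f k = true := by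
  induction n with
  | zero => simp [allBelow]
  | succ n ih =>
    have : allBelow f (n + 1) = (f n && allBelow f n) := rfl
    rw [this, Bool.and_eq_true, ih]
    constructor
    · rintro ⟨h1, h2⟩ k hk
      rcases Nat.lt_succ_iff_lt_or_eq.1 hk with h | h
      · exact h2 k h
      · exact h ▸ h1
    · intro h
      exact ⟨h n (Nat.lt_succ_self n), fun k hk => h k (Nat.lt_succ_of_lt hk)⟩

/-- `f k` for some `k < n`. -/
def anyBelow (f : ℕ → Bool) (n : ℕ) : Bool :=
  Nat.rec (motive := fun _ => Bool) false (fun k ih => or (f k) ih) n

theorem anyBelow_iff (f : ℕ → Bool) (n : ℕ) : anyBelow f n = true ↔ ∃ k < n, f k = true := by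
  induction n with
  | zero => simp [anyBelow]
  | succ n ih =>
    have : anyBelow f (n + 1) = (f n || anyBelow f n) := rfl
    rw [this, Bool.or_eq_true, ih]
    constructor
    · rintro (h | ⟨k, hk, h⟩)
      · exact ⟨n, Nat.lt_succ_self n, h⟩
      · exact ⟨k, Nat.lt_succ_of_lt hk, h⟩
    · rintro ⟨k, hk, h⟩
      rcases Nat.lt_succ_iff_lt_or_eq.1 hk with h' | h'
      · exact Or.inr ⟨k, h', h⟩
      · exact Or.inl (h' ▸ h)

/-- `∑ k < n, f k` (stack depth linear in `n`: nest it for `n` above a few thousand). -/
def sumBelow (f : ℕ → ℕ) (n : ℕ) : ℕ :=
  Nat.rec (motive := fun _ => ℕ) 0 (fun k ih => Nat.add (f k) ih) n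

theorem sumBelow_eq (f : ℕ → ℕ) (n : ℕ) : sumBelow f n = ∑ k ∈ Finset.range n, f k := by
  induction n with
  | zero => simp [sumBelow]
  | succ n ih =>
    have : sumBelow f (n + 1) = f n + sumBelow f n := rfl
    rw [this, ih, Finset.sum_range_succ, add_comm]

/-- The number of `k < n` with `f k`. -/
def cntBelow (f : ℕ → Bool) (n : ℕ) : ℕ :=
  Nat.rec (motive := fun _ => ℕ) 0 (fun k ih => cond (f k) (Nat.succ ih) ih) n

theorem cntBelow_eq (f : ℕ → Bool) (n : ℕ) :
    cntBelow f n = ((Finset.range n).filter fun k => f k = true).card := by
  induction n with
  | zero => simp [cntBelow]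
  | succ n ih =>
    have : cntBelow f (n + 1) = cond (f n) (Nat.succ (cntBelow f n)) (cntBelow f n) := rfl
    rw [this, ih, Finset.range_add_one, Finset.filter_insert]
    cases h : f n
    · simp
    · simp

/-- `List.all`, by the recursor. -/
def allL {α : Type} (f : α → Bool) (l : List α) : Bool :=
  List.rec (motive := fun _ => Bool) true (fun a _ ih => and (f a) ih) l

theorem allL_iff {α : Type} (f : α → Bool) (l : List α) : allL f l = true ↔ ∀ a ∈ l, f a = true := by
  induction l with
  | nil => simp [allL]
  | cons a l ih =>
    have : allL f (a :: l) = (f a && allL f l) := rfl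
    rw [this, Bool.and_eq_true, ih]; simp

/-- `List.any`, by the recursor. -/
def anyL {α : Type} (f : α → Bool) (l : List α) : Bool :=
  List.rec (motive := fun _ => Bool) false (fun a _ ih => or (f a) ih) l

theorem anyL_iff {α : Type} (f : α → Bool) (l : List α) : anyL f l = true ↔ ∃ a ∈ l, f a = true := by
  induction l with
  | nil => simp [anyL]
  | cons a l ih =>
    have : anyL f (a :: l) = (f a || anyL f l) := rfl
    rw [this, Bool.or_eq_true, ih]; simp

/-- `List.countP`, by the recursor. -/
def cntL {α : Type} (f : α → Bool) (l : List α) : ℕ :=
  List.rec (motive := fun _ => ℕ) 0 (fun a _ ih => cond (f a) (Nat.succ ih) ih) l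

theorem cntL_eq {α : Type} (f : α → Bool) (l : List α) : cntL f l = l.countP f := by
  induction l with
  | nil => simp [cntL]
  | cons a l ih =>
    have : cntL f (a :: l) = cond (f a) (Nat.succ (cntL f l)) (cntL f l) := rfl
    rw [this, ih, List.countP_cons]
    cases f a <;> simp

/-! ### Points as numbers -/

/-- The number of a point: residues are `0..22`, the extra point is `23`. -/
def gIdx (p : GolayPt) : ℕ := Option.rec 23 (fun x : ZMod 23 => x.val) p

/-- The point with a given number. -/
def gPt (n : ℕ) : GolayPt := if n < 23 then some (n : ZMod 23) else none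

@[simp] theorem gIdx_none : gIdx none = 23 := rfl
@[simp] theorem gIdx_some (x : ZMod 23) : gIdx (some x) = x.val := rfl

theorem gIdx_lt (p : GolayPt) : gIdx p < 24 := by revert p; decide +kernel
@[simp] theorem gPt_gIdx (p : GolayPt) : gPt (gIdx p) = p := by revert p; decide +kernel
theorem gIdx_gPt {n : ℕ} (h : n < 24) : gIdx (gPt n) = n := by
  have : ∀ n < 24, gIdx (gPt n) = n := by decide +kernel
  exact this n h
theorem gIdx_injective : Function.Injective gIdx := fun p q h => by
  rw [← gPt_gIdx p, h, gPt_gIdx]
theorem gIdx_eq_iff {p : GolayPt} {n : ℕ} (h : n < 24) : gIdx p = n ↔ p = gPt n :=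
  ⟨fun e => by rw [← e, gPt_gIdx], fun e => by rw [e, gIdx_gPt h]⟩

/-- The points as `Fin 24`. -/
def gEquiv : GolayPt ≃ Fin 24 where
  toFun p := ⟨gIdx p, gIdx_lt p⟩
  invFun i := gPt i
  left_inv p := gPt_gIdx p
  right_inv i := Fin.ext (gIdx_gPt i.2)

@[simp] theorem gEquiv_val (p : GolayPt) : (gEquiv p : ℕ) = gIdx p := rfl
@[simp] theorem gEquiv_symm_apply (i : Fin 24) : gEquiv.symm i = gPt i := rfl

theorem forall_pt {P : GolayPt → Prop} : (∀ p, P p) ↔ ∀ n < 24, P (gPt n) :=
  ⟨fun h _ _ => h _, fun h p => gPt_gIdx p ▸ h _ (gIdx_lt p)⟩

theorem card_golayPt : Fintype.card GolayPt = 24 := by decide +kernel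

/-! ### Subsets as bit masks -/

/-- The set of points whose bit is set in `m`. -/
def ofMask (m : ℕ) : Finset GolayPt := Finset.univ.filter fun p => m.testBit (gIdx p) = true

/-- The bit mask of a set of points. -/
def toMask (s : Finset GolayPt) : ℕ := Nat.ofBits fun i : Fin 24 => decide (gPt i ∈ s)

@[simp] theorem mem_ofMask {m : ℕ} {p : GolayPt} : p ∈ ofMask m ↔ m.testBit (gIdx p) = true := by
  simp [ofMask]

theorem toMask_lt (s : Finset GolayPt) : toMask s < 2 ^ 24 := Nat.ofBits_lt_two_pow _

theorem testBit_toMask (s : Finset GolayPt) (i : ℕ) :
    (toMask s).testBit i = decide (i < 24 ∧ gPt i ∈ s) := by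
  rw [toMask, Nat.testBit_ofBits]
  by_cases h : i < 24 <;> simp [h]

@[simp] theorem testBit_toMask_gIdx (s : Finset GolayPt) (p : GolayPt) :
    (toMask s).testBit (gIdx p) = decide (p ∈ s) := by
  simp [testBit_toMask, gIdx_lt]

@[simp] theorem ofMask_toMask (s : Finset GolayPt) : ofMask (toMask s) = s := by
  ext p; simp

theorem toMask_ofMask (m : ℕ) : toMask (ofMask m) = m % 2 ^ 24 := by
  apply Nat.eq_of_testBit_eq
  intro i
  rw [testBit_toMask, Nat.testBit_mod_two_pow]
  by_cases h : i < 24
  · simp [h, gIdx_gPt h]
  · simp [h]

theorem toMask_ofMask_of_lt {m : ℕ} (h : m < 2 ^ 24) : toMask (ofMask m) = m := by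
  rw [toMask_ofMask, Nat.mod_eq_of_lt h]

theorem toMask_injective : Function.Injective toMask := fun s t h => by
  rw [← ofMask_toMask s, h, ofMask_toMask]

theorem ofMask_inj {a b : ℕ} (ha : a < 2 ^ 24) (hb : b < 2 ^ 24) : ofMask a = ofMask b ↔ a = b :=
  ⟨fun h => by rw [← toMask_ofMask_of_lt ha, h, toMask_ofMask_of_lt hb], fun h => h ▸ rfl⟩

theorem exists_mask (s : Finset GolayPt) : ∃ m < 2 ^ 24, s = ofMask m :=
  ⟨toMask s, toMask_lt s, (ofMask_toMask s).symm⟩

theorem ofMask_mod (m : ℕ) : ofMask (m % 2 ^ 24) = ofMask m := by
  rw [← toMask_ofMask, ofMask_toMask]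

theorem ofMask_and (a b : ℕ) : ofMask (a &&& b) = ofMask a ∩ ofMask b := by
  ext p; simp
theorem ofMask_or (a b : ℕ) : ofMask (a ||| b) = ofMask a ∪ ofMask b := by
  ext p; simp
theorem ofMask_xor (a b : ℕ) : ofMask (a ^^^ b) = symmDiff (ofMask a) (ofMask b) := by
  ext p
  simp only [mem_ofMask, Nat.testBit_xor, Finset.mem_symmDiff]
  cases a.testBit (gIdx p) <;> cases b.testBit (gIdx p) <;> simp
@[simp] theorem ofMask_zero : ofMask 0 = ∅ := by ext p; simp
theorem ofMask_full : ofMask 16777215 = Finset.univ := by
  ext p
  have : ∀ p, Nat.testBit 16777215 (gIdx p) = true := by decide +kernel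
  simp [this]
theorem ofMask_compl (a : ℕ) : ofMask (a ^^^ 16777215) = (ofMask a)ᶜ := by
  rw [ofMask_xor, ofMask_full]
  ext p; simp [Finset.mem_symmDiff]
theorem ofMask_sdiff (a b : ℕ) : ofMask (a ^^^ (a &&& b)) = ofMask a \ ofMask b := by
  ext p
  simp only [mem_ofMask, Nat.testBit_xor, Nat.testBit_and, Finset.mem_sdiff]
  cases a.testBit (gIdx p) <;> cases b.testBit (gIdx p) <;> simp
theorem ofMask_two_pow {i : ℕ} (h : i < 24) : ofMask (2 ^ i) = {gPt i} := by
  ext p
  simp only [mem_ofMask, Nat.testBit_two_pow, decide_eq_true_eq, Finset.mem_singleton]
  rw [eq_comm, gIdx_eq_iff h]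

theorem toMask_inter (s t : Finset GolayPt) : toMask (s ∩ t) = toMask s &&& toMask t := by
  rw [← ofMask_inj (toMask_lt _) (Nat.and_lt_two_pow _ (toMask_lt _)), ofMask_and]; simp
theorem toMask_union (s t : Finset GolayPt) : toMask (s ∪ t) = toMask s ||| toMask t := by
  rw [← ofMask_inj (toMask_lt _) (Nat.or_lt_two_pow (toMask_lt _) (toMask_lt _)), ofMask_or]; simp
theorem toMask_symmDiff (s t : Finset GolayPt) : toMask (symmDiff s t) = toMask s ^^^ toMask t := by
  rw [← ofMask_inj (toMask_lt _) (Nat.xor_lt_two_pow (toMask_lt _) (toMask_lt _)), ofMask_xor]; simp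
theorem toMask_compl (s : Finset GolayPt) : toMask sᶜ = toMask s ^^^ 16777215 := by
  rw [← ofMask_inj (toMask_lt _) (Nat.xor_lt_two_pow (toMask_lt _) (by norm_num)), ofMask_compl]; simp
theorem toMask_empty : toMask ∅ = 0 := by
  rw [← ofMask_inj (toMask_lt _) (by norm_num)]; simp
theorem toMask_singleton (p : GolayPt) : toMask {p} = 2 ^ gIdx p := by
  rw [← ofMask_inj (toMask_lt _) (Nat.pow_lt_pow_right (by norm_num) (gIdx_lt p)),
    ofMask_two_pow (gIdx_lt p)]; simp

theorem ofMask_subset_iff {a b : ℕ} (ha : a < 2 ^ 24) : ofMask a ⊆ ofMask b ↔ a &&& b = a := by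
  rw [← ofMask_inj _ ha, ofMask_and, Finset.inter_eq_left]
  rw [Nat.and_comm]; exact Nat.and_lt_two_pow _ ha
theorem ofMask_disjoint_iff {a b : ℕ} (ha : a < 2 ^ 24) :
    Disjoint (ofMask a) (ofMask b) ↔ a &&& b = 0 := by
  rw [← ofMask_inj _ (by norm_num), ofMask_and, ofMask_zero, Finset.disjoint_iff_inter_eq_empty]
  rw [Nat.and_comm]; exact Nat.and_lt_two_pow _ ha

/-! ### Population count -/

/-- Table of the population counts of the numbers below 4096, four bits each. -/
def pcTab : ℕ := 0xcbbabaa9baa9a998baa9a998a9989887baa9a998a9989887a998988798878776baa9a998a9989887a998988798878776a9989887988787769887877687767665baa9a998a9989887a998988798878776a9989887988787769887877687767665a998988798878776988787768776766598878776877676658776766576656554baa9a998a9989887a998988798878776a9989887988787769887877687767665a998988798878776988787768776766598878776877676658776766576656554a9989887988787769887877687767665988787768776766587767665766565549887877687767665877676657665655487767665766565547665655465545443baa9a998a9989887a998988798878776a9989887988787769887877687767665a99898879887877698878776877676659887877687767665877676657665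6554a9989887988787769887877687767665988787768776766587767665766565549887877687767665877676657665655487767665766565547665655465545443a998988798878776988787768776766598878776877676658776766576656554988787768776766587767665766565548776766576656554766565546554544398878776877676658776766576656554877676657665655476656554655454438776766576656554766565546554544376656554655454436554544354434332baa9a998a9989887a998988798878776a9989887988787769887877687767665a998988798878776988787768776766598878776877676658776766576656554a9989887988787769887877687767665988787768776766587767665766565549887877687767665877676657665655487767665766565547665655465545443a998988798878776988787768776766598878776877676658776766576656554988787768776766587767665766565548776766576656554766565546554544398878776877676658776766576656554877676657665655476656554655454438776766576656554766565546554544376656554655454436554544354434332a998988798878776988787768776766598878776877676658776766576656554988787768776766587767665766565548776766576656554766565546554544398878776877676658776766576656554877676657665655476656554655454438776766576656554766565546554544376656554655454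4365545443544343329887877687767665877676657665655487767665766565547665655465545443877676657665655476656554655454437665655465545443655454435443433287767665766565547665655465545443766565546554544365545443544343327665655465545443655454435443433265545443544343325443433243323221baa9a998a9989887a998988798878776a9989887988787769887877687767665a998988798878776988787768776766598878776877676658776766576656554a9989887988787769887877687767665988787768776766587767665766565549887877687767665877676657665655487767665766565547665655465545443a998988798878776988787768776766598878776877676658776766576656554988787768776766587767665766565548776766576656554766565546554544398878776877676658776766576656554877676657665655476656554655454438776766576656554766565546554544376656554655454436554544354434332a998988798878776988787768776766598878776877676658776766576656554988787768776766587767665766565548776766576656554766565546554544398878776877676658776766576656554877676657665655476656554655454438776766576656554766565546554544376656554655454436554544354434332988787768776766587767665766565548776766576656554766565546554544387767665766565547665655465545443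7665655465545443655454435443433287767665766565547665655465545443766565546554544365545443544343327665655465545443655454435443433265545443544343325443433243323221a998988798878776988787768776766598878776877676658776766576656554988787768776766587767665766565548776766576656554766565546554544398878776877676658776766576656554877676657665655476656554655454438776766576656554766565546554544376656554655454436554544354434332988787768776766587767665766565548776766576656554766565546554544387767665766565547665655465545443766565546554544365545443544343328776766576656554766565546554544376656554655454436554544354434332766565546554544365545443544343326554544354434332544343324332322198878776877676658776766576656554877676657665655476656554655454438776766576656554766565546554544376656554655454436554544354434332877676657665655476656554655454437665655465545443655454435443433276656554655454436554544354434332655454435443433254434332433232218776766576656554766565546554544376656554655454436554544354434332766565546554544365545443544343326554544354434332544343324332322176656554655454436554544354434332655454435443433254434332433232216554544354434332544343324332322154434332433232214332322132212110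

/-- Population count of a number below 4096. -/
def pc12 (x : ℕ) : ℕ := Nat.land (Nat.shiftRight pcTab (Nat.mul 4 x)) 15

/-- Population count of the low 24 bits. -/
def pc24 (m : ℕ) : ℕ := Nat.add (pc12 (Nat.land m 4095)) (pc12 (Nat.land (Nat.shiftRight m 12) 4095))

theorem pc12_spec : ∀ x < 4096, pc12 x = cntBelow (fun i => x.testBit i) 12 := by
  have : allBelow (fun x => Nat.beq (pc12 x) (cntBelow (fun i => x.testBit i) 12)) 4096 = true := by
    decide +kernel
  intro x hx
  exact Nat.eq_of_beq_eq_true ((allBelow_iff _ _).1 this x hx)

theorem card_ofMask_range (m : ℕ) :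
    (ofMask m).card = ((Finset.range 24).filter fun i => m.testBit i = true).card := by
  apply Finset.card_bij (fun p _ => gIdx p)
  · intro p hp; simp at hp; simp [hp, gIdx_lt]
  · intro p _ q _ h; exact gIdx_injective h
  · intro i hi
    simp at hi
    exact ⟨gPt i, by simp [gIdx_gPt hi.1, hi.2], gIdx_gPt hi.1⟩

theorem card_ofMask (m : ℕ) : (ofMask m).card = pc24 m := by
  have h1 : Nat.land m 4095 < 4096 := Nat.and_lt_two_pow (n := 12) m (by norm_num)
  have h2 : Nat.land (Nat.shiftRight m 12) 4095 < 4096 := Nat.and_lt_two_pow (n := 12) _ (by norm_num)
  have e : pc24 m = pc12 (Nat.land m 4095) + pc12 (Nat.land (Nat.shiftRight m 12) 4095) := rfl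
  rw [card_ofMask_range, e, pc12_spec _ h1, pc12_spec _ h2, cntBelow_eq, cntBelow_eq]
  have h4095 : ∀ i < 12, Nat.testBit 4095 i = true := by decide +kernel
  rw [Finset.card_filter, Finset.card_filter, Finset.card_filter, show (24 : ℕ) = 12 + 12 from rfl,
    Finset.sum_range_add]
  congr 1
  · refine Finset.sum_congr rfl fun i hi => ?_
    have : (Nat.land m 4095).testBit i = m.testBit i := by
      show (m &&& 4095).testBit i = _
      rw [Nat.testBit_and, h4095 i (Finset.mem_range.1 hi), Bool.and_true]
    rw [this]
  · refine Finset.sum_congr rfl fun i hi => ?_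
    have : (Nat.land (Nat.shiftRight m 12) 4095).testBit i = m.testBit (12 + i) := by
      show ((m >>> 12) &&& 4095).testBit i = _
      rw [Nat.testBit_and, h4095 i (Finset.mem_range.1 hi), Bool.and_true, Nat.testBit_shiftRight]
    rw [this]

theorem pc24_toMask (s : Finset GolayPt) : pc24 (toMask s) = s.card := by
  rw [← card_ofMask, ofMask_toMask]

end CL.Spor
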