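/-
The model groups `P0` (Sylow 2-subgroup of `M₁₂`) and `H0` (centraliser of a 2-central involution).
-/
import Cfsg.Agent.Spor.M12cTab
import Cfsg.Agent.Spor.TabGrp

set_option autoImplicit false

namespace CL.M12c
open CL.PcL CL.Spor

instance : Valid 64 6 63 tP iP := ⟨by decide, [1, 2, 4, 8, 16, 32], by decide +kernel, by decide +kernel⟩

theorem asH1 : asB 192 8 255 tH 1 = true := by decide +kernel
theorem asH2 : asB 192 8 255 tH 2 = true := by decide +kernel
theorem asH4 : asB 192 8 255 tH 4 = true := by decide +kernel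
theorem asH8 : asB 192 8 255 tH 8 = true := by decide +kernel
theorem asH16 : asB 192 8 255 tH 16 = true := by decide +kernel
theorem asH32 : asB 192 8 255 tH 32 = true := by decide +kernel
theorem asH64 : asB 192 8 255 tH 64 = true := by decide +kernel

instance : Valid 192 8 255 tH iH := ⟨by decide, [1, 2, 4, 8, 16, 32, 64], by decide +kernel, by
  simp only [List.forall_mem_cons, asH1, asH2, asH4, asH8, asH16, asH32, asH64, List.not_mem_nil, false_imp_iff,
    implies_true, and_self]⟩

abbrev P0 : Type := TG 64 6 63 tP iP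
abbrev H0 : Type := TG 192 8 255 tH iH

/-- Elements by number. -/
abbrev pp (a : ℕ) : P0 := TG.of a
abbrev hh (a : ℕ) : H0 := TG.of a

theorem card_P0 : Nat.card P0 = 64 := TG.card
theorem card_H0 : Nat.card H0 = 192 := TG.card

def io : P0 →* H0 := MonoidHom.mk' (fun a => hh a.1) (by decide +kernel)
theorem io_inj : Function.Injective io := (injective_iff_map_eq_one _).2 (by decide +kernel)

/-- The automorphism of `P0` interchanging `V0` and `W0`. -/
def tau : P0 →* P0 := MonoidHom.mk' (fun a => pp (tf 64 6 63 0xfbff3debbe39bafb2daaba29db7d35cb3c319e69648e286079f71d69b61938f30d28b2095975154934111c61440c2040 a.1)) (by decide +kernel)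
theorem tau_tau : ∀ a, tau (tau a) = a := by decide +kernel

/-- The automorphisms of order 3 of the two quaternion factors of `Q0`. -/
def xi1 (a : P0) : P0 := pp (tf 64 5 31 0xdebfeef3389caf6ad2305a9ee6b128188e629020 a.1)
def xi2 (a : P0) : P0 := pp (tf 64 5 31 0x7b9ac5a928ffbbcdeb38bdab49ca30398a418820 a.1)
def xi (a : P0) : P0 := pp (tf 64 5 31 0x5a9ee6b128debfeef3389caf6ad230188e629020 a.1)

abbrev Z0 : Subgroup P0 := TG.sub 0x3 (by decide +kernel)
abbrev U0 : Subgroup P0 := TG.sub 0xc0000003 (by decide +kernel)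
abbrev V0 : Subgroup P0 := TG.sub 0xc0300c03 (by decide +kernel)
abbrev W0 : Subgroup P0 := TG.sub 0xc00c3003 (by decide +kernel)
abbrev V2 : Subgroup P0 := TG.sub 0xc0000003c0000003 (by decide +kernel)
abbrev R0 : Subgroup P0 := TG.sub 0xc33c3cc3c33c3cc3 (by decide +kernel)
abbrev X0 : Subgroup P0 := TG.sub 0x3c3c00c30000c3 (by decide +kernel)
abbrev Q0 : Subgroup P0 := TG.sub 0xffffffff (by decide +kernel)
abbrev T0 : Subgroup P0 := TG.sub 0xcccc3333 (by decide +kernel)
abbrev W2 : Subgroup P0 := TG.sub 0xcc03003 (by decide +kernel)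
abbrev F0 : Subgroup P0 := TG.sub 0x4401001 (by decide +kernel)
abbrev MA : Subgroup P0 := TG.sub 0x3c3c3c3cc3c3c3c3 (by decide +kernel)
abbrev MB : Subgroup P0 := TG.sub 0xffff00ff0000ff (by decide +kernel)
abbrev Ta : Subgroup P0 := TG.sub 0x3cc33cc3 (by decide +kernel)
abbrev Tb : Subgroup P0 := TG.sub 0xff0f00f (by decide +kernel)

theorem card_U0 : Nat.card U0 = 4 := (TG.card_subgroup _).trans (by decide +kernel)
theorem card_V0 : Nat.card V0 = 8 := (TG.card_subgroup _).trans (by decide +kernel)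
theorem card_W0 : Nat.card W0 = 8 := (TG.card_subgroup _).trans (by decide +kernel)
theorem card_V2 : Nat.card V2 = 8 := (TG.card_subgroup _).trans (by decide +kernel)
theorem card_R0 : Nat.card R0 = 32 := (TG.card_subgroup _).trans (by decide +kernel)
theorem card_Q0 : Nat.card Q0 = 32 := (TG.card_subgroup _).trans (by decide +kernel)
theorem card_T0 : Nat.card T0 = 16 := (TG.card_subgroup _).trans (by decide +kernel)
theorem card_W2 : Nat.card W2 = 8 := (TG.card_subgroup _).trans (by decide +kernel)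
theorem card_F0 : Nat.card F0 = 4 := (TG.card_subgroup _).trans (by decide +kernel)
theorem card_MA : Nat.card MA = 32 := (TG.card_subgroup _).trans (by decide +kernel)
theorem card_MB : Nat.card MB = 32 := (TG.card_subgroup _).trans (by decide +kernel)
theorem card_Ta : Nat.card Ta = 16 := (TG.card_subgroup _).trans (by decide +kernel)
theorem card_Tb : Nat.card Tb = 16 := (TG.card_subgroup _).trans (by decide +kernel)

/-! ### Presentations -/

def RP : Rules := [(0, 0, []), (1, 0, [0, 1]), (1, 1, [0]), (2, 0, [0, 2]), (2, 1, [0, 1, 2]), (2, 2, [0]),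
  (3, 0, [0, 3]), (3, 1, [1, 3]), (3, 2, [2, 3]), (3, 3, [0]), (4, 0, [0, 4]), (4, 1, [1, 4]), (4, 2, [2, 4]),
  (4, 3, [0, 3, 4]), (4, 4, [0]), (5, 0, [0, 5]), (5, 1, [0, 2, 5]), (5, 2, [0, 1, 5]), (5, 3, [0, 4, 5]),
  (5, 4, [0, 3, 5]), (5, 5, [])]
def RH : Rules := [(6, 0, [0, 6]), (6, 1, [2, 6]), (6, 2, [1, 2, 6]), (6, 3, [4, 6]), (6, 4, [3, 4, 6]),
  (6, 5, [5, 7]), (6, 6, [7]), (6, 7, []), (7, 0, [0, 7]), (7, 1, [1, 2, 7]), (7, 2, [1, 7]), (7, 3, [3, 4, 7]),
  (7, 4, [3, 7]), (7, 5, [5, 6]), (7, 6, []), (7, 7, [6])]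

def bitsW (n a : ℕ) : List ℕ := (List.range n).filter fun k => a.testBit k

theorem nfP : NF (fun k => pp (2 ^ k)) 6 (fun a => bitsW 6 a.1) RP 40 :=
  ⟨by decide +kernel, by decide +kernel, by decide +kernel, by decide +kernel⟩
theorem nfH : NF (fun k => hh (2 ^ k)) 8 (fun a => bitsW 8 a.1) (RP ++ RH) 60 :=
  ⟨by decide +kernel, by decide +kernel, by decide +kernel, by decide +kernel⟩

end CL.M12c
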