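/-
The model groups `Qm = 2^(1+4)_+` and `H1` (centraliser of a fixed-point-free involution of `A₈`).
Numbers of elements: `z = 1`, `α₀ = 30`, `α₁ = 18`, `α₂ = 12`, `s = 32`, `x = 64`.
-/
import Cfsg.Agent.Spor.A8cTab
import Cfsg.Agent.Spor.M12cH0

set_option autoImplicit false

namespace CL.A8c
open CL.PcL CL.Spor

instance : Valid 32 5 31 tQ iQ := ⟨by decide, [1, 2, 4, 8, 16], by decide +kernel, by decide +kernel⟩

theorem asH1 : asB 192 8 255 tH 1 = true := by decide +kernel
theorem asH2 : asB 192 8 255 tH 2 = true := by decide +kernel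
theorem asH4 : asB 192 8 255 tH 4 = true := by decide +kernel
theorem asH8 : asB 192 8 255 tH 8 = true := by decide +kernel
theorem asH16 : asB 192 8 255 tH 16 = true := by decide +kernel
theorem asH32 : asB 192 8 255 tH 32 = true := by decide +kernel
theorem asH64 : asB 192 8 255 tH 64 = true := by decide +kernel

instance : Valid 192 8 255 tH iH := ⟨by decide, [1, 2, 4, 8, 16, 32, 64], by decide +kernel, by
  simp only [List.forall_mem_cons, asH1, asH2, asH4, asH8, asH16, asH32, asH64, List.not_mem_nil, false_imp_iff,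
    implies_true, and_self]⟩

abbrev Qm : Type := TG 32 5 31 tQ iQ
abbrev H1 : Type := TG 192 8 255 tH iH

/-- Elements by number. -/
abbrev qq (a : ℕ) : Qm := TG.of a
abbrev ee (a : ℕ) : H1 := TG.of a

theorem card_Qm : Nat.card Qm = 32 := TG.card
theorem card_H1 : Nat.card H1 = 192 := TG.card

/-- The action of `x`, and the two possible actions of `s`. -/
def xq (a : Qm) : Qm := qq (tf 32 5 31 0x5a9ee6b128debfeef3389caf6ad230188e629020 a.1)
def t0 (a : Qm) : Qm := qq (tf 32 5 31 0xffb7aef3197b96a6b109bda72ad21131c4321420 a.1)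
def t1 (a : Qm) : Qm := qq (tf 32 5 31 0xff9eebd8c7de96a9c843ef1acad085c650984420 a.1)

/-- The automorphism of order 3 of the second quaternion factor. -/
def om : Qm →* Qm := MonoidHom.mk' (fun a => qq (tf 32 5 31 0x7b9ac5a928ffbbcdeb38bdab49ca30398a418820 a.1))
  (by decide +kernel)

/-- An automorphism of order 3 permuting `V0`, `V1`, `V2`. -/
def th : H1 →* H1 := MonoidHom.mk' (fun a => ee (tf 192 8 255 0xb3b2b7b6b5b4b1b0abaaafaeadaca9a8bbbabfbebdbcb9b8a3a2a7a6a5a4a1a093929796959491908b8a8f8e8d8c89889b9a9f9e9d9c9998838287868584818073727776757471706b6a6f6e6d6c69687b7a7f7e7d7c7978636267666564616053525756555451504b4a4f4e4d4c49485b5a5f5e5d5c5958434247464544414033323736353431302b2a2f2e2d2c29283b3a3f3e3d3c3938232227262524212013121716151411100b0a0f0e0d0c09081b1a1f1e1d1c19180302070605040100 a.1)) (by decide +kernel)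
/-- The central automorphism. -/
def ka : H1 →* H1 := MonoidHom.mk' (fun a => ee (tf 192 8 255 0xbebfbcbdbabbb8b9b6b7b4b5b2b3b0b1aeafacadaaaba8a9a6a7a4a5a2a3a0a19f9e9d9c9b9a999897969594939291908f8e8d8c8b8a898887868584838281807e7f7c7d7a7b787976777475727370716e6f6c6d6a6b686966676465626360615f5e5d5c5b5a595857565554535251504f4e4d4c4b4a494847464544434241403e3f3c3d3a3b383936373435323330312e2f2c2d2a2b282926272425222320211f1e1d1c1b1a191817161514131211100f0e0d0c0b0a09080706050403020100 a.1)) (by decide +kernel)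
theorem th_th : ∀ a, th (th (th a)) = a := by decide +kernel
theorem ka_ka : ∀ a, ka (ka a) = a := by decide +kernel

abbrev PP : Subgroup H1 := TG.sub 0xffffffffffffffff (by decide +kernel)
abbrev EE : Subgroup H1 := TG.sub 0xc00c3003c00c3003 (by decide +kernel)
abbrev FF : Subgroup H1 := TG.sub 0xc00c3003 (by decide +kernel)
abbrev V1 : Subgroup H1 := TG.sub 0x300cc003 (by decide +kernel)
abbrev V2 : Subgroup H1 := TG.sub 0xcc03003 (by decide +kernel)
abbrev U1 : Subgroup H1 := TG.sub 0xc0003 (by decide +kernel)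
abbrev R0 : Subgroup H1 := TG.sub 0xc33c3cc3c33c3cc3 (by decide +kernel)
abbrev Va : Subgroup H1 := TG.sub 0x8200080000001 (by decide +kernel)
abbrev Vb : Subgroup H1 := TG.sub 0x8000000240000001 (by decide +kernel)

theorem card_PP : Nat.card PP = 64 := (TG.card_subgroup _).trans (by decide +kernel)
theorem card_EE : Nat.card EE = 16 := (TG.card_subgroup _).trans (by decide +kernel)
theorem card_V1 : Nat.card V1 = 8 := (TG.card_subgroup _).trans (by decide +kernel)
theorem card_U1 : Nat.card U1 = 4 := (TG.card_subgroup _).trans (by decide +kernel)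
theorem card_R0 : Nat.card R0 = 32 := (TG.card_subgroup _).trans (by decide +kernel)
theorem card_Va : Nat.card Va = 4 := (TG.card_subgroup _).trans (by decide +kernel)

/-! ### Presentations -/

def RQ : Rules := [(0, 0, []), (1, 0, [0, 1]), (1, 1, [0]), (2, 0, [0, 2]), (2, 1, [0, 1, 2]), (2, 2, [0]),
  (3, 0, [0, 3]), (3, 1, [1, 3]), (3, 2, [2, 3]), (3, 3, [0]), (4, 0, [0, 4]), (4, 1, [1, 4]), (4, 2, [2, 4]),
  (4, 3, [0, 3, 4]), (4, 4, [0])]
def R1 : Rules := RQ ++ [(5, 0, [0, 5]), (5, 1, [0, 4, 5]), (5, 2, [0, 3, 5]), (5, 3, [0, 2, 5]), (5, 4, [0, 1, 5]),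
  (5, 5, [])] ++ M12c.RH

theorem nfQ : NF (fun k => qq (2 ^ k)) 5 (fun a => M12c.bitsW 5 a.1) RQ 40 :=
  ⟨by decide +kernel, by decide +kernel, by decide +kernel, by decide +kernel⟩
theorem nfH1 : NF (fun k => ee (2 ^ k)) 8 (fun a => M12c.bitsW 8 a.1) R1 60 :=
  ⟨by decide +kernel, by decide +kernel, by decide +kernel, by decide +kernel⟩

end CL.A8c
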