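/-
Simplicity of the Mathieu groups inside `M24`; sharp 5-transitivity of dodecad stabilisers, orders of their point stabilisers.
-/
import Cfsg.Agent.Spor.M24Tools
import Cfsg.Agent.Spor.SimpleCrit

set_option autoImplicit false

namespace CL.Spor
open Cfsg MulAction
open scoped Pointwise

/-! ### Criteria -/

theorem mem_normal_of_pow_prime {G : Type*} [Group G] [Finite G] (N : Subgroup G) [N.Normal] {p : ℕ} (hp : p.Prime)
    (h1 : p ∣ Nat.card N) (h2 : ¬ p ^ 2 ∣ Nat.card G) {x : G} (hx : x ^ p = 1) : x ∈ N := by
  have h3 : ¬ p ∣ N.index := fun h => h2 (by rw [← N.index_mul_card, pow_two]; exact mul_dvd_mul h h1)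
  rw [← QuotientGroup.eq_one_iff]
  have a1 : (x : G ⧸ N) ^ p = 1 := by rw [← QuotientGroup.mk_pow, hx, QuotientGroup.mk_one]
  have a2 : (x : G ⧸ N) ^ N.index = 1 := pow_card_eq_one'
  have := pow_gcd_eq_one.2 ⟨a1, a2⟩
  rwa [(Nat.coprime_iff_gcd_eq_one.1 ((Nat.Prime.coprime_iff_not_dvd hp).2 h3)), pow_one] at this

section crit
variable {G X : Type*} [Group G] [MulAction G X] [DecidableEq X]

/-- An invariant finite set as a sub-action. -/
def subAct (H : Subgroup G) (U : Finset X) (hU : ∀ g ∈ H, g • U = U) : SubMulAction H X where
  carrier := U
  smul_mem' g _ hx := (smul_mem_iff_of_smul_eq (hU g g.2) _).2 hx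

theorem card_subAct (H : Subgroup G) (U : Finset X) (hU : ∀ g ∈ H, g • U = U) : Nat.card (subAct H U hU) = U.card :=
  Nat.card_eq_finsetCard U

/-- `H` is 2-transitive on `U`, elementwise. -/
def TwoTransOn (H : Subgroup G) (U : Finset X) : Prop :=
  ∀ a ∈ U, ∀ b ∈ U, ∀ c ∈ U, ∀ d ∈ U, a ≠ b → c ≠ d → ∃ g ∈ H, g • a = c ∧ g • b = d

theorem subAct_two {H : Subgroup G} {U : Finset X} (hU : ∀ g ∈ H, g • U = U) (h : TwoTransOn H U) :
    IsMultiplyPretransitive H (subAct H U hU) 2 := by
  rw [is_two_pretransitive_iff]
  intro a b c d h1 h2
  obtain ⟨g, hg, e1, e2⟩ := h a a.2 b b.2 c c.2 d d.2 (fun e => h1 (Subtype.ext e)) (fun e => h2 (Subtype.ext e))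
  exact ⟨⟨g, hg⟩, Subtype.ext e1, Subtype.ext e2⟩

theorem subAct_faithful {H : Subgroup G} {U : Finset X} (hU : ∀ g ∈ H, g • U = U) (hf : H ⊓ fixS U = ⊥) :
    FaithfulSMul H (subAct H U hU) := by
  refine ⟨fun {a b} h => ?_⟩
  have : ((a⁻¹ * b : H) : G) ∈ H ⊓ fixS U := by
    refine ⟨(a⁻¹ * b).2, mem_fixS.2 fun p hp => ?_⟩
    have := congrArg Subtype.val (h ⟨p, hp⟩)
    change (a : G) • p = (b : G) • p at this
    simp [mul_smul, ← this]
  rw [hf, Subgroup.mem_bot] at this
  exact inv_mul_eq_one.1 (Subtype.ext this)

theorem card_dvd_of_normal {H : Subgroup G} {U : Finset X} (hU : ∀ g ∈ H, g • U = U) (h : TwoTransOn H U)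
    (hf : H ⊓ fixS U = ⊥) (hne : U.Nonempty) (N : Subgroup H) [N.Normal] (hN : N ≠ ⊥) : U.card ∣ Nat.card N := by
  have := subAct_faithful hU hf
  have := isPreprimitive_of_is_two_pretransitive (subAct_two hU h)
  have := pretransitive_of_normal (Ω := subAct H U hU) N hN
  have : Nonempty (subAct H U hU) := let ⟨x, hx⟩ := hne; ⟨⟨x, hx⟩⟩
  rw [← card_subAct H U hU]
  exact card_dvd_card_of_pretransitive

theorem simple_of_pow_prime [Finite G] {H : Subgroup G} {U : Finset X} (hU : ∀ g ∈ H, g • U = U) (h : TwoTransOn H U)
    (hf : H ⊓ fixS U = ⊥) (hne : U.Nonempty) {p : ℕ} (hp : p.Prime) (h1 : p ∣ U.card) (h2 : ¬ p ^ 2 ∣ Nat.card H)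
    (h3 : 1 < Nat.card H) (hgen : ∀ K ≤ H, (∀ x ∈ H, x ^ p = 1 → x ∈ K) → K = H) : IsSimpleGroup H := by
  have : Nontrivial H := Finite.one_lt_card_iff_nontrivial.1 h3
  refine ⟨fun N hN => ?_⟩
  by_cases hb : N = ⊥
  · exact Or.inl hb
  right
  have h4 := h1.trans (card_dvd_of_normal hU h hf hne N hb)
  have h5 := hgen (N.map H.subtype) (Subgroup.map_subtype_le _) fun x hx e =>
    ⟨⟨x, hx⟩, mem_normal_of_pow_prime N hp h4 h2 (Subtype.ext e), rfl⟩
  rw [eq_top_iff]
  intro g _
  obtain ⟨k, hk, e⟩ : (g : G) ∈ N.map H.subtype := h5.symm ▸ g.2
  rwa [← Subtype.ext e]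

/-- The point stabiliser of the sub-action. -/
def stabSubActEquiv {H : Subgroup G} {U : Finset X} (hU : ∀ g ∈ H, g • U = U) (a : subAct H U hU) :
    stabilizer H a ≃* (H ⊓ stabilizer G (a : X) : Subgroup G) where
  toFun g := ⟨g.1.1, g.1.2, congrArg Subtype.val g.2⟩
  invFun g := ⟨⟨g.1, g.2.1⟩, Subtype.ext g.2.2⟩
  left_inv _ := rfl
  right_inv _ := rfl
  map_mul' _ _ := rfl

theorem simple_of_stabilizer {H : Subgroup G} {U : Finset X} (hU : ∀ g ∈ H, g • U = U) (h : TwoTransOn H U)
    (hf : H ⊓ fixS U = ⊥) (h2 : 2 ≤ U.card) (hn : ¬ IsPrimePow U.card) {a : X} (ha : a ∈ U)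
    (hs : IsSimpleGroup (H ⊓ stabilizer G a : Subgroup G)) : IsSimpleGroup H := by
  have := subAct_faithful hU hf
  have : Finite (subAct H U hU) := U.finite_toSet
  exact isSimpleGroup_of_stabilizer_simple (subAct_two hU h) (by rwa [card_subAct]) (by rwa [card_subAct]) ⟨a, ha⟩
    ((stabSubActEquiv hU ⟨a, ha⟩).isSimpleGroup)

theorem twoTransOn_of {H : Subgroup G} {U : Finset X} (hU : ∀ g ∈ H, g • U = U)
    (h1 : ∀ a ∈ U, ∀ b ∈ U, ∃ g ∈ H, g • a = b)
    (h2 : ∀ a ∈ U, ∀ b ∈ U, ∀ c ∈ U, b ≠ a → c ≠ a → ∃ g ∈ H, g • a = a ∧ g • b = c) : TwoTransOn H U := by
  intro a ha b hb c hc d hd hab hcd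
  obtain ⟨g, hg, e⟩ := h1 a ha c hc
  obtain ⟨k, hk, e1, e2⟩ := h2 c hc (g • b) ((smul_mem_iff_of_smul_eq (hU g hg) _).2 hb) d hd
    (by rw [← e]; simpa using hab.symm) hcd.symm
  exact ⟨k * g, mul_mem hk hg, by rw [mul_smul, e, e1], by rw [mul_smul, e2]⟩

theorem isSimpleGroup_map_conj {H : Subgroup G} (g : G) (h : IsSimpleGroup H) :
    IsSimpleGroup (H.map (MulAut.conj g).toMonoidHom) :=
  ((MulAut.conj g).subgroupMap H).symm.isSimpleGroup

end crit

theorem eq_of_gen_pow {H : Subgroup M24} {X : List ℕ} (hX : ∀ P ∈ X, Good H P) (hg : H = gen X) {p : ℕ}
    (hp : allL (fun P => Nat.beq (ppow P p) pone) X = true) :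
    ∀ K ≤ H, (∀ x ∈ H, x ^ p = 1 → x ∈ K) → K = H := by
  intro K hK h
  refine le_antisymm hK (hg ▸ gen_le_of fun P hP => h _ (hX P hP).m24_mem ?_)
  exact ((hX P hP).rep.pow p).eq_one_iff.2 (Nat.eq_of_beq_eq_true ((allL_iff _ _).1 hp P hP))

/-! ### Point stabilisers -/

theorem fixS_smul_compl (F : Finset GolayPt) : ∀ g ∈ (fixS F : Subgroup M24), g • Fᶜ = Fᶜ := fun g hg => by
  rw [smul_finset_compl', smul_eq_of_fix (mem_fixS.1 hg)]

theorem fixS_inf_compl (F : Finset GolayPt) : (fixS F : Subgroup M24) ⊓ fixS Fᶜ = ⊥ := by
  rw [eq_bot_iff]
  rintro g ⟨h1, h2⟩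
  rw [Subgroup.mem_bot]
  ext p : 2
  by_cases hp : p ∈ F
  · exact mem_fixS.1 h1 p hp
  · exact mem_fixS.1 h2 p (Finset.mem_compl.2 hp)

theorem fixS_twoTransOn {F : Finset GolayPt} (hF : F.card ≤ 3) : TwoTransOn (fixS F : Subgroup M24) Fᶜ := by
  apply twoTransOn_of (fixS_smul_compl F)
  · intro a ha b hb
    exact M24_exists_fix_smul (by omega) (Finset.mem_compl.1 ha) (Finset.mem_compl.1 hb)
  · intro a ha b hb c hc h1 h2
    obtain ⟨g, hg, e⟩ := M24_exists_fix_smul (F := insert a F) ((Finset.card_insert_le _ _).trans (by omega))
      (a := b) (b := c) (by simpa [h1] using hb) (by simpa [h2] using hc)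
    rw [fixS_insert] at hg
    exact ⟨g, hg.1, hg.2, e⟩

theorem fixS_simple_of {F : ℕ} {k : ℕ} (hk : k ≤ 3) (hF : pc24 F = k) {n p : ℕ}
    (hc : Nat.card (fixS (ofMask F) : Subgroup M24) = n) (hp : p.Prime) (h1 : p ∣ 24 - k) (h2 : ¬ p ^ 2 ∣ n) (h3 : 1 < n)
    (X : List ℕ) (prog : List (ℕ × ℕ × ℕ)) (S base : List ℕ)
    (h : (allL inM24 X && allL (fixesPts F) X && allL (fun P => Nat.beq (ppow P p) pone) X &&
      (slpOK prog X && subL S (X ++ prog.map (·.2.2)) && Nat.beq (ordLB base S) n)) = true)
    {F' : Finset GolayPt} (hF' : F'.card = k) : IsSimpleGroup (fixS F' : Subgroup M24) := by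
  have hcard : (ofMask F).card = k := by rw [card_ofMask, hF]
  obtain ⟨g, rfl⟩ := M24_exists_smul_finset (s := ofMask F) (t := F') (by omega) (by omega)
  rw [fixS_smul]
  apply isSimpleGroup_map_conj
  rw [Bool.and_eq_true, Bool.and_eq_true, Bool.and_eq_true] at h
  have hX := good_fixS_all (good_top_of_all h.1.1.1) h.1.1.2
  have hcc : (ofMask F)ᶜ.card = 24 - k := by rw [Finset.card_compl, card_golayPt, hcard]
  exact simple_of_pow_prime (fixS_smul_compl _) (fixS_twoTransOn (by omega)) (fixS_inf_compl _)
    (by rw [← Finset.card_pos, hcc]; omega) hp (hcc ▸ h1) (hc ▸ h2) (hc ▸ h3)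
    (eq_of_gen_pow hX (eq_gen_of_slp hX prog S base hc.le h.2) h.1.2)

theorem fixS_one_simple {F : Finset GolayPt} (hF : F.card = 1) : IsSimpleGroup (fixS F : Subgroup M24) :=
  fixS_simple_of (F := 8388608) (p := 23) (by norm_num) (by decide +kernel)
    (card_fixS_one (by rw [card_ofMask]; decide +kernel)) (by norm_num) (by norm_num) (by norm_num) (by norm_num)
    [977541754112778340435194349111021264, 976975797910620205263584386042250678]
    [(0, 1, 980371209769254527201003805238276305), (0, 2, 957984541067232473384817086273011283), (0, 3, 965955608536701471353214873452822754), (0, 3, 978122266054896787913067870484607232), (5, 4, 980737158188923803501870285814577685), (0, 6, 955451919630761007098149710834540659), (0, 7, 978362102641386961908203144396347776), (2, 7, 966360769954627579549087038255614560), (0, 1, 968699594148255423388884142850675744), (2, 5, 982708467664034509085921802555441248), (0, 6, 970445408708901273950004478639914112), (0, 4, 964919725152568507152099542833564288), (0, 8, 980221661907796547801126602266747936), (4, 4, 983548720921252936276249910206105632), (1, 1, 978345694340655832408399992627379232),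 (0, 6, 967740158201845833001993232100594720), (0, 7, 984638240118494783025925654209346592), (0, 8, 976535162629086147856836173658035232), (0, 5, 972766255438396667691208066674067488), (10, 6, 965145377691155966049863155575237664), (0, 11, 962701389575478709701246524509980704), (2, 7, 971514113759178494102127272400652320), (0, 1, 975728708050008715525885598301784096), (2, 2, 970193480443446128102086410848864288), (0, 5, 979121071158219704299181131031480352), (2, 0, 972606645568131968584696805283956768)]
    [977541754112778340435194349111021264, 976975797910620205263584386042250678, 978122266054896787913067870484607232, 978362102641386961908203144396347776, 966360769954627579549087038255614560, 968699594148255423388884142850675744, 980221661907796547801126602266747936, 983548720921252936276249910206105632, 972766255438396667691208066674067488, 962701389575478709701246524509980704, 975728708050008715525885598301784096, 979121071158219704299181131031480352, 972606645568131968584696805283956768] [0, 1, 2, 3, 4, 5] (by decide +kernel) hF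

theorem fixS_two_simple {F : Finset GolayPt} (hF : F.card = 2) : IsSimpleGroup (fixS F : Subgroup M24) :=
  fixS_simple_of (F := 8388609) (p := 11) (by norm_num) (by decide +kernel)
    (card_fixS_two (by rw [card_ofMask]; decide +kernel)) (by norm_num) (by norm_num) (by norm_num) (by norm_num)
    [962170198403540170206958218646966656, 981792315247390675597971358472260832]
    [(0, 1, 968500906843588912537329934418590112), (0, 2, 971341162316183979733109534755537504), (0, 2, 984634266419259376437859840975910464), (0, 4, 960111374877864978741192677731220512), (2, 5, 972606450774103726290798398916725280), (0, 6, 980879596862487023132933089867078336), (0, 7, 978045846855852092028980123711653920), (0, 3, 958880886225179355692879003842417696), (0, 4, 972565964629716649537065389937594400), (0, 5, 974348381543563806990328123373604896), (0, 3, 979009376701573398715910484610648096), (7, 4, 962202149165103568940783269136810016), (0, 5, 963624119179102360779043266457241632), (4, 6, 983065186069560088325262430649336864), (0, 7, 963685108385193801494102439109366816), (0, 8, 959853163247546395233549600942103584), (0, 12, 962129910481450954006188409131436064),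 (0, 4, 980224387687010295957922729495201824), (5, 7, 982079684599265169493092003182970912), (0, 6, 969949438024470287715447028907837472), (0, 9, 961365507626256404119956257276790816), (8, 4, 984674686509231270848998217272133664), (0, 11, 983141956895601025126892051911247904), (5, 0, 961409415667826064667231448532617248), (0, 3, 976531636853126291160407323722221600)]
    [962170198403540170206958218646966656, 981792315247390675597971358472260832, 960111374877864978741192677731220512, 978045846855852092028980123711653920, 979009376701573398715910484610648096, 963624119179102360779043266457241632, 962129910481450954006188409131436064, 980224387687010295957922729495201824, 961365507626256404119956257276790816, 983141956895601025126892051911247904, 976531636853126291160407323722221600] [1, 2, 3, 4, 5] (by decide +kernel) hF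

theorem fixS_three_simple {F : Finset GolayPt} (hF : F.card = 3) : IsSimpleGroup (fixS F : Subgroup M24) :=
  fixS_simple_of (F := 8388611) (p := 7) (by norm_num) (by decide +kernel)
    (card_fixS_three (by rw [card_ofMask]; decide +kernel)) (by norm_num) (by norm_num) (by norm_num) (by norm_num)
    [979164355295539280984649962471171104, 981450038326717452528164990749220896]
    [(0, 1, 966151755312534964206032280174933024), (0, 1, 961267828742082669809140519257983008), (0, 3, 958733664361030043514535938203454496), (0, 4, 980188261825550150526218219667436576), (0, 4, 971860988311219713093134432158058528), (6, 6, 980393506191737627144025133599201312), (0, 6, 975071395273340039765531633765306400), (0, 7, 976949341374442118142219776239668256), (0, 9, 982769631805873051938917216028067872), (8, 10, 975395198607664076463911520818530336), (0, 0, 979158210438034036931139658402891808), (0, 1, 974066987549930544647866466396932128), (0, 7, 972848450169392308864318595955656736), (0, 3, 971863989228759034920585190470420512), (9, 5, 984559288045672395699075860841728032), (6, 5, 984235865005994746954145143334668320), (0, 6, 968906083514973741211873616520742944),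 (0, 8, 972512676110088067912772961567868960), (3, 0, 976531636853126291160407323722221600)]
    [979164355295539280984649962471171104, 981450038326717452528164990749220896, 971860988311219713093134432158058528, 982769631805873051938917216028067872, 975395198607664076463911520818530336, 971863989228759034920585190470420512, 984559288045672395699075860841728032, 972512676110088067912772961567868960, 976531636853126291160407323722221600] [2, 3, 4, 5] (by decide +kernel) hF

theorem M24_simple : IsSimpleGroup M24 := by
  have h : IsSimpleGroup (fixS (∅ : Finset GolayPt) : Subgroup M24) := by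
    have hc : (∅ : Finset GolayPt)ᶜ.card = 24 := by rw [Finset.card_compl, card_golayPt]; rfl
    refine simple_of_stabilizer (fixS_smul_compl _) (fixS_twoTransOn (by simp)) (fixS_inf_compl _) (by omega)
      (by rw [hc]; decide +kernel) (a := none) (by simp) ?_
    rw [← fixS_insert]; exact fixS_one_simple (by simp)
  rw [fixS_empty] at h
  exact Subgroup.topEquiv.symm.isSimpleGroup

/-! ### Dodecad stabilisers -/

theorem dodecad_five_flag {d d' s : Finset GolayPt} (hd : d ∈ dodecads) (hd' : d' ∈ dodecads) (hs : s.card = 5)
    (h : s ⊆ d) (h' : s ⊆ d') : ∃ g ∈ (fixS s : Subgroup M24), g • d = d' := by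
  obtain ⟨k, hk⟩ := M24_exists_smul_finset (s := s) (t := ofMask 8388623) (by omega) (by rw [hs, card_ofMask]; decide +kernel)
  have hS : ∀ P ∈ [976531636853126291160407323722221600, 968708902336673183175954409307867168, 970452748381697609285226999098476576], Good (fixS (ofMask 8388623)) P :=
    good_fixS_all (good_top_of_all (by decide +kernel)) (by decide +kernel)
  have hc : descOK (fun i => and (Nat.beq (pc24 (enc i)) 12) (Nat.beq (Nat.land 8388623 (enc i)) 8388623)) 4096
    ([976531636853126291160407323722221600, 968708902336673183175954409307867168, 970452748381697609285226999098476576].map fun P => lin (cTab P)) (fun _ => 0) (fun _ => 31) 0x1a0000000000000000000000000000000000000000000000000000000000000000000000000000000000000000000000000000000000000000000000000000000000000000000000000000000000000000000000000000000000000000000000000000000000000000000000000000000000000000000000000000000000000000000000000000000000000000000000000000000000000000000000000000000000000000000000000000000000000000000000000000000000000000000000000000000000000000000000000000000000000000000000000000000000000000000000000000000000000000000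000000000000000000000000000000000000000000000000000000000000000000000000000000000000000000000000000000000000000000000000000000000000000000000000000000000000000000000000000000000000000000000000000000000000000000000000000000000000000000000000000000000000000000000000000000000000000000000000000000000000000000000000000000000001a00000000000000000000000000000000000000000000000000000000000000000000000000000000000000000000000000000000000000000000000000000000000000000000000000000000000000000000000000000000000000000000000000000000000000000000000000000000000000000000000000000000000000000000000000000000000000000000000000000000000000000000000000000000000000000000000000000000000000000000000000000000000000000000000000000000000000000000000000000000000000000000000000000000000000000000000000000000000000000000000000000000000000000000000000000008000000000000000000000000000000000000000000000000000000000000000000000000000000000000000000000000000000000000000000000000000000000000000000000000000000000000002000000000000000000000000000000000000000000000000000000000000000000000000000000000000000000000000000000000000000000000000000000000000000000000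0000000000000000000000000000000000000000000000000000000000000000000000000000000000000000000000000000000000000000001a000000000000000000000000000000000000000000000000000000000000001a000000000000000000000000000000000000000000000000000000000000000000000000000000000000000000000000000000000000000000000000000000000000000000000000000000000000000000000000000000000000000000000000000000000000000000000000000000000000000000000000000000000000000000000000000000000000000000000000000000000000000000000000000000000000000000000000000000000000000000000000000000000000000000000000000000000000000000000000000000000000000000000000000000000000000000000000000000000000000000000000000000000000000000000000000000000000000000000000000000000000000000000000000000000000000000000011000000000000000000000000000000000000000000000000000000000000000000000000000000000000000000000000000000000000000000000000000000000000000000000000000000000000000000000000000000000000000000000000000000000000000000000000000000000000000000000000000000000000002000000000000000000000000000000000000000000000000000000000000000000000000000000000000000000000000000000000000000000000000000000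0000000000000000000000000000000001900000000000000000000000000000000000000000000000000000000000000000000000000000000000000000000001000000000000000000000000000000000000000000000000000000000000000000000000000000000000000000000002000000000000000000000000000000000000000000000000000000000000000000000000000000000000000000000000000000000000000000000000000000000000000000000000000000000000000000000000000000000000000000000000000000000000000000000000000000018000000000000000000000000000000000000000000000000000000000000000000000000000000000000000000000000000000000000000000000000000000000000000000000000000000000000000000000000000000000000000000000022000000000000000000000000000000000000000000000000000000000000000000000000000000000000000000000000000000000000000000000000000000000000000000000000000000000000001a0000000000000000000000000000000000000000000000000000000000000000000000000000000000000000000000290000000000000000000000000000000000000000000000000000000000000019000000000000000000000000000000120000000000000000000000000000000000000000000000000000000000000000000000000000000000000000000000000000000000000000000000000000000000000000000000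00000000000000002200000000000000000000000000000000000000000000000000000000000000000000000000000000000000000000000000000000000000000000000000000000000000000000000000000000000000000000000000000000000000000000000000000000000000000000000000000000000000000000000000000000000000000000000000000000000000000000000000000000000000000000000000000000000000000000000000000000000000000000000000000000000000000000000000000000000000000000000000000000000000000000000000000000000000000000000000000000000000000000000000000000000000000000000000000020000000000000000000000000000000000000000000000000000000000000000000000000000000000000000000000000000000000000000000000000000000000000000000000000000000000000000000000000000000000000000000000000000000000000000000000000000000000000000000000000000000000000001100000000000000000000000000000000000000000000000000000000000000190000000000000000000000000000002a000000000000000000000000000000000000000000000000000000000000000000000000000000000000000000000000000000000000000000000000000000000000000000000000000000000000000000000000000000000000000000000000000000000000000000000000000000000000000000000000000000000000000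000000000000000000000000000000000000000000000000000000000000000000000000000000000000000000000000000000000000000000000000000000000000000000000000000000000000000220000000000000000000000000000000000000000000000000000000000000000000000000000000000000000000000000000000000000000000000000000000000000000000000000000000000000018000000000000000000000000000000000000000000000000000000000000000000000000000000000000000000000029000000000000000000000000000000000000000000000000000000000000001a00000000000000000000000000000000000000000000000000000000000000000000000000000000000000000000000000000000000000000000000000000000000000000000000000000000000000000000000000000000000000000000002200000000000000000000000000000000000000000000000000000000000000000000000000000000000000000000002000000000000000000000000000000000000000000000000000000000000000190000000000000000000000000000000000000000000000000000000000000000000000000000000000000000000000280000000000000000000000000000000000000000000000000000000000000000000000000000000000000000000000000000000000000000000000000000001900000000000000000000000000000000000000000000000000000000000000000000000000000000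000000000000000000000000000000000000000000000000000000000000000000000000000000000000000000000000000000000000000000000000000000000000000000000000000000000000000000000000000000090000000000000000000000000000000000000000000000000000000000000012000000000000000000000000000000000000000000000000000000000000000000000000000000000000000000000010000000000000000000000000000000000000000000000000000000000000000000000000000000000000000000000000000000000000000000000000000000000000000000000000000000000000000000000000000000000000000000000021000000000000000000000000000000000000000000000000000000000000000000000000000000000000000000000000000000000000000000000000000000000000000000000000000000000000001800000000000000000000000000000000000000000000000000000000000000180000000000000000000000000000002a00000000000000000000000000000000000000000000000000000000000000000000000000000000000000000000000000000000000000000000000000000000000000000000000000000000000000000000000000000000000000000000000000000000000000000000000000000018000000000000000000000000000000190000000000000000000000000000000000000000000000000000000000000010000000000000000000000000000000000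000000000000000000000000000000000000000000000000000000000000022000000000000000000000000000000000000000000000000000000000000000000000000000000000000000000000021000000000000000000000000000000000000000000000000000000000000000000000000000000000000000000000000000000000000000000000000000000000000000000000000000000000000002100000000000000000000000000000000000000000000000000000000000000120000000000000000000000000000000a000000000000000000000000000000000000000000000000000000000000000000000000000000000000000000000000000000000000000000000000000000000000000000000000000000000000002800000000000000000000000000000000000000000000000000000000000000000000000000000000000000000000000000000000000000000000000000000000000000000000000000000000000000 = true := by decide +kernel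
  have key : ∀ {d : Finset GolayPt}, d ∈ dodecads → s ⊆ d → ∃ x < 4096, k • d = cw x ∧
      (and (Nat.beq (pc24 (enc x)) 12) (Nat.beq (Nat.land 8388623 (enc x)) 8388623)) = true := by
    intro d hd h
    have h1 : k • d ∈ dodecads := (M24_smul_dodecads k.2).2 hd
    obtain ⟨x, hx, e⟩ := exists_cw h1.1
    refine ⟨x, hx, e, ?_⟩
    rw [Bool.and_eq_true, Nat.beq_eq, Nat.beq_eq, ← cw_mem_dodecads hx, ← e]
    refine ⟨h1, (ofMask_subset_iff (by norm_num)).1 ?_⟩
    rw [← hk, ← cw, ← e]
    exact Finset.smul_finset_subset_smul_finset h
  obtain ⟨x, hx, e1, v1⟩ := key hd h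
  obtain ⟨y, hy, e2, v2⟩ := key hd' h'
  obtain ⟨g, hg, e⟩ := cert_same (actsBy_cw hS _) hc hx hy v1 v2 rfl
  refine ⟨k⁻¹ * g * k, ?_, by rw [mul_smul, mul_smul, e1, e, ← e2, inv_smul_smul]⟩
  rw [← hk, fixS_smul, Subgroup.mem_map_equiv] at hg
  simpa using hg

/-- A permutation carrying at most five points of `d` into `d'` is matched by an element of `M24` carrying `d` to `d'`. -/
theorem dodecad_exists_eq_on5 {d d' s : Finset GolayPt} (hd : d ∈ dodecads) (hd' : d' ∈ dodecads) (hs : s.card = 5)
    (h : s ⊆ d) (τ : Equiv.Perm GolayPt) (h' : τ • s ⊆ d') : ∃ g : M24, g • d = d' ∧ ∀ x ∈ s, g • x = τ x := by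
  obtain ⟨g, hg⟩ := M24_exists_eq_on s hs.le τ
  have e : g • s = τ • s := by
    ext x
    simp only [Finset.mem_smul_finset]
    exact exists_congr fun y => and_congr_right fun hy => by rw [hg y hy]; rfl
  obtain ⟨k, hk, e2⟩ := dodecad_five_flag ((M24_smul_dodecads g.2).2 hd) hd' (s := τ • s)
    (by rw [Finset.card_smul_finset, hs]) (e ▸ Finset.smul_finset_subset_smul_finset h) h'
  refine ⟨k * g, by rw [mul_smul]; exact e2, fun x hx => ?_⟩
  rw [mul_smul, hg x hx]
  exact mem_fixS.1 hk _ (Finset.smul_mem_smul_finset hx)

theorem dodecad_fix_smul {d F : Finset GolayPt} (hd : d ∈ dodecads) (hF : F ⊆ d) (h4 : F.card ≤ 4) {a b : GolayPt}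
    (ha : a ∈ d) (hb : b ∈ d) (ha' : a ∉ F) (hb' : b ∉ F) :
    ∃ g ∈ stabilizer M24 d ⊓ (fixS F : Subgroup M24), g • a = b := by
  obtain ⟨s, h1, h2, h3⟩ := Finset.exists_subsuperset_card_eq (Finset.insert_subset ha hF) (n := 5)
    ((Finset.card_insert_le _ _).trans (by omega)) (by rw [hd.2]; norm_num)
  obtain ⟨g, e1, e2⟩ := dodecad_exists_eq_on5 hd hd h3 h2 (Equiv.swap a b) (by
    intro x hx
    obtain ⟨y, hy, rfl⟩ := Finset.mem_smul_finset.1 hx
    show Equiv.swap a b y ∈ d
    rw [Equiv.swap_apply_def]
    split_ifs
    exacts [hb, ha, h2 hy])
  refine ⟨g, ⟨e1, mem_fixS.2 fun p hp => ?_⟩, by rw [e2 a (h1 (Finset.mem_insert_self _ _)), Equiv.swap_apply_left]⟩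
  rw [e2 p (h1 (Finset.mem_insert_of_mem hp)), Equiv.swap_apply_of_ne_of_ne]
  · rintro rfl; exact ha' hp
  · rintro rfl; exact hb' hp

theorem card_dodecad_fix_insert {d F : Finset GolayPt} (hd : d ∈ dodecads) (hF : F ⊆ d) (h4 : F.card ≤ 4) {p : GolayPt}
    (hp : p ∈ d) (hp' : p ∉ F) : Nat.card (stabilizer M24 d ⊓ fixS F : Subgroup M24) =
      (12 - F.card) * Nat.card (stabilizer M24 d ⊓ fixS (insert p F) : Subgroup M24) := by
  rw [card_eq_ncard_orbit_mul _ p, fixS_insert, ← inf_assoc, orbit_eq_of_trans (U := (d \ F : Finset GolayPt)),
    Set.ncard_coe_finset, Finset.card_sdiff_of_subset hF, hd.2]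
  · rintro g ⟨h1, h2⟩
    rw [Finset.mem_coe, ← smul_eq_of_fix (mem_fixS.1 h2), ← mem_stabilizer_iff.1 h1, ← Finset.smul_finset_sdiff]
    exact Finset.smul_mem_smul_finset (Finset.mem_sdiff.2 ⟨hp, hp'⟩)
  · intro y hy
    rw [Finset.mem_coe, Finset.mem_sdiff] at hy
    exact dodecad_fix_smul hd hF h4 hp hy.1 hp' hy.2

theorem card_dodecad_fix_mul {d F : Finset GolayPt} (hd : d ∈ dodecads) (hF : F ⊆ d) (h5 : F.card ≤ 5) :
    Nat.descFactorial 12 F.card * Nat.card (stabilizer M24 d ⊓ fixS F : Subgroup M24) = 95040 := by
  induction F using Finset.induction_on with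
  | empty => rw [fixS_empty, inf_top_eq, card_stabilizer_dodecad hd]; simp
  | insert p F hp ih =>
    rw [Finset.card_insert_of_notMem hp] at h5 ⊢
    have hF' := (Finset.subset_insert _ _).trans hF
    rw [← ih hF' (by omega), card_dodecad_fix_insert hd hF' (by omega) (hF (Finset.mem_insert_self _ _)) hp,
      Nat.descFactorial_succ]; ring

theorem card_dodecad_fix_one {d F : Finset GolayPt} (hd : d ∈ dodecads) (hF : F ⊆ d) (h : F.card = 1) :
    Nat.card (stabilizer M24 d ⊓ fixS F : Subgroup M24) = 7920 := by
  have := card_dodecad_fix_mul hd hF (by omega)
  rw [h, show Nat.descFactorial 12 1 = 12 by decide +kernel] at this; omega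
theorem card_dodecad_fix_two {d F : Finset GolayPt} (hd : d ∈ dodecads) (hF : F ⊆ d) (h : F.card = 2) :
    Nat.card (stabilizer M24 d ⊓ fixS F : Subgroup M24) = 720 := by
  have := card_dodecad_fix_mul hd hF (by omega)
  rw [h, show Nat.descFactorial 12 2 = 132 by decide +kernel] at this; omega
theorem card_dodecad_fix_three {d F : Finset GolayPt} (hd : d ∈ dodecads) (hF : F ⊆ d) (h : F.card = 3) :
    Nat.card (stabilizer M24 d ⊓ fixS F : Subgroup M24) = 72 := by
  have := card_dodecad_fix_mul hd hF (by omega)
  rw [h, show Nat.descFactorial 12 3 = 1320 by decide +kernel] at this; omega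
theorem card_dodecad_fix_four {d F : Finset GolayPt} (hd : d ∈ dodecads) (hF : F ⊆ d) (h : F.card = 4) :
    Nat.card (stabilizer M24 d ⊓ fixS F : Subgroup M24) = 8 := by
  have := card_dodecad_fix_mul hd hF (by omega)
  rw [h, show Nat.descFactorial 12 4 = 11880 by decide +kernel] at this; omega
theorem dodecad_fix_five_eq_bot {d F : Finset GolayPt} (hd : d ∈ dodecads) (hF : F ⊆ d) (h : F.card = 5) :
    (stabilizer M24 d ⊓ fixS F : Subgroup M24) = ⊥ := by
  have := card_dodecad_fix_mul hd hF (by omega)
  rw [h, show Nat.descFactorial 12 5 = 95040 by decide +kernel] at this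
  rw [← Subgroup.card_eq_one]; omega

theorem fixS_anti {G X : Type*} [Group G] [MulAction G X] {F F' : Finset X} (h : F ⊆ F') :
    (fixS F' : Subgroup G) ≤ fixS F := fun _ hg => mem_fixS.2 fun p hp => mem_fixS.1 hg p (h hp)

theorem dodecad_fix_eq_bot {d F : Finset GolayPt} (hd : d ∈ dodecads) (h : 5 ≤ (F ∩ d).card) :
    (stabilizer M24 d ⊓ fixS F : Subgroup M24) = ⊥ := by
  obtain ⟨s, h1, h2⟩ := Finset.exists_subset_card_eq h
  rw [eq_bot_iff, ← dodecad_fix_five_eq_bot hd (h1.trans Finset.inter_subset_right) h2]
  exact inf_le_inf_left _ (fixS_anti (h1.trans Finset.inter_subset_left))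

theorem stabilizer_compl (s : Finset GolayPt) : stabilizer M24 sᶜ = stabilizer M24 s := by
  ext g; rw [mem_stabilizer_iff, mem_stabilizer_iff, smul_finset_compl', compl_inj_iff]

theorem dodecad_fix_smul_sdiff {d F : Finset GolayPt} :
    ∀ g ∈ stabilizer M24 d ⊓ (fixS F : Subgroup M24), g • (d \ F) = d \ F := by
  rintro g ⟨h1, h2⟩
  rw [Finset.smul_finset_sdiff, smul_eq_of_fix (mem_fixS.1 h2), mem_stabilizer_iff.1 h1]

theorem dodecad_twoTransOn {d F : Finset GolayPt} (hd : d ∈ dodecads) (hF : F ⊆ d) (h3 : F.card ≤ 3) :
    TwoTransOn (stabilizer M24 d ⊓ (fixS F : Subgroup M24)) (d \ F) := by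
  apply twoTransOn_of dodecad_fix_smul_sdiff
  · intro a ha b hb
    rw [Finset.mem_sdiff] at ha hb
    exact dodecad_fix_smul hd hF (by omega) ha.1 hb.1 ha.2 hb.2
  · intro a ha b hb c hc h1 h2
    rw [Finset.mem_sdiff] at ha hb hc
    obtain ⟨g, hg, e⟩ := dodecad_fix_smul hd (Finset.insert_subset ha.1 hF) ((Finset.card_insert_le _ _).trans (by omega))
      hb.1 hc.1 (by simpa [h1] using hb.2) (by simpa [h2] using hc.2)
    rw [fixS_insert] at hg
    exact ⟨g, ⟨hg.1, hg.2.1⟩, hg.2.2, e⟩

theorem dodecad_faithful {d F : Finset GolayPt} (hd : d ∈ dodecads) (h3 : F.card ≤ 7) :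
    stabilizer M24 d ⊓ (fixS F : Subgroup M24) ⊓ fixS (d \ F) = ⊥ := by
  rw [eq_bot_iff, ← dodecad_fix_eq_bot hd (F := d \ F)]
  · exact inf_le_inf_right _ inf_le_left
  · rw [Finset.inter_eq_left.2 Finset.sdiff_subset]
    have := Finset.le_card_sdiff F d
    rw [hd.2] at this; omega

theorem dodecad_point_trans {d d' : Finset GolayPt} (hd : d ∈ dodecads) (hd' : d' ∈ dodecads) {p p' : GolayPt}
    (hp : p ∈ d) (hp' : p' ∈ d') : ∃ g : M24, g • d = d' ∧ g • p = p' := by
  obtain ⟨g, rfl⟩ := exists_smul_eq_of_base (M24_dodecad_trans0 hd) (M24_dodecad_trans0 hd')
  obtain ⟨k, hk, e⟩ := dodecad_fix_smul hd' (Finset.empty_subset _) (by simp) (Finset.smul_mem_smul_finset hp) hp'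
    (by simp) (by simp)
  exact ⟨k * g, by rw [mul_smul, mem_stabilizer_iff.1 hk.1], by rw [mul_smul, e]⟩

theorem map_conj_inf {G : Type*} [Group G] (H K : Subgroup G) (g : G) : (H ⊓ K).map (MulAut.conj g).toMonoidHom =
    H.map (MulAut.conj g).toMonoidHom ⊓ K.map (MulAut.conj g).toMonoidHom :=
  Subgroup.map_inf _ _ _ (MulAut.conj g).injective

theorem dodecad_point_simple {d : Finset GolayPt} (hd : d ∈ dodecads) {p : GolayPt} (hp : p ∈ d) :
    IsSimpleGroup (stabilizer M24 d ⊓ stabilizer M24 p : Subgroup M24) := by
  have h0 : gPt 0 ∈ dod0 := by rw [dod0, mem_ofMask]; decide +kernel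
  obtain ⟨g, rfl, rfl⟩ := dodecad_point_trans dod0_mem hd h0 hp
  rw [stabilizer_smul_eq_stabilizer_map_conj, stabilizer_smul_eq_stabilizer_map_conj, ← map_conj_inf]
  apply isSimpleGroup_map_conj
  have hsub : {gPt 0} ⊆ dod0 := by simpa using h0
  have hc := card_dodecad_fix_one dod0_mem hsub (by simp)
  have hX : ∀ P ∈ [653156264528663497988512428474839552, 840719005927936033772290883779628544], Good (stabilizer M24 dod0 ⊓ fixS {gPt 0}) P := by
    rw [fixS_singleton]
    exact good_inf_all (good_stab_all (good_top_of_all (by decide +kernel)) (by decide +kernel))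
      (good_pt_all (good_top_of_all (by decide +kernel)) (by norm_num) (by decide +kernel))
  have hcc : (dod0 \ {gPt 0}).card = 11 := by rw [Finset.card_sdiff_of_subset hsub, dod0_mem.2]; simp
  rw [← fixS_singleton (gPt 0)]
  exact simple_of_pow_prime dodecad_fix_smul_sdiff (dodecad_twoTransOn dod0_mem hsub (by simp))
    (dodecad_faithful dod0_mem (by simp)) (by rw [← Finset.card_pos, hcc]; omega) (p := 11) (by norm_num)
    (by rw [hcc]) (by rw [hc]; norm_num) (by rw [hc]; norm_num)
    (eq_of_gen_pow hX (eq_gen_of_slp hX [(1, 0, 608212634172959030646630443426879616), (0, 1, 891381132628121948382745378857103392), (1, 3, 809404193000014150926934903227845664), (1, 1, 927412748617160840094224286828573728), (0, 1, 898580922525004370691937197180095520), (0, 3, 304579249945195430392487283424235552), (0, 3, 897916913241984914003551997432766496), (0, 4, 715461294005770680473893921775552544), (6, 5, 978285479959546319884869025487394848), (0, 6, 235410610152873002895006743971282976), (0, 8, 479866820170475379175668521514382368), (0, 8, 227578386318009578406903204956702752), (4, 4, 944538627742660781242037951888164896), (0, 1,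 629994123837064240816195434993748000), (0, 6, 608405391266436187982588441666881568)]
      [653156264528663497988512428474839552, 840719005927936033772290883779628544, 891381132628121948382745378857103392, 809404193000014150926934903227845664, 715461294005770680473893921775552544, 227578386318009578406903204956702752, 608405391266436187982588441666881568] [1, 2, 3, 4] hc.le (by decide +kernel)) (by decide +kernel))

theorem dodecad_simple {d : Finset GolayPt} (hd : d ∈ dodecads) : IsSimpleGroup (stabilizer M24 d) := by
  obtain ⟨p, hp⟩ : d.Nonempty := by rw [← Finset.card_pos, hd.2]; norm_num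
  have h1 := dodecad_twoTransOn hd (Finset.empty_subset _) (by simp)
  have h2 := dodecad_faithful hd (F := ∅) (by simp)
  rw [fixS_empty, inf_top_eq, Finset.sdiff_empty] at h1 h2
  exact simple_of_stabilizer (fun _ hg => hg) h1 h2 (by rw [hd.2]; norm_num) (by rw [hd.2]; decide +kernel) hp
    (dodecad_point_simple hd hp)

/-- Any set of at most five points of a dodecad can be carried onto any equinumerous set of points of any dodecad. -/
theorem dodecad_subset_trans {d d' s s' : Finset GolayPt} (hd : d ∈ dodecads) (hd' : d' ∈ dodecads) (hs : s ⊆ d)
    (hs' : s' ⊆ d') (h5 : s.card ≤ 5) (h : s.card = s'.card) : ∃ g : M24, g • d = d' ∧ g • s = s' := by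
  obtain ⟨t, a1, a2, a3⟩ := Finset.exists_subsuperset_card_eq hs h5 (by rw [hd.2]; norm_num)
  obtain ⟨t', b1, b2, b3⟩ := Finset.exists_subsuperset_card_eq hs' (h ▸ h5) (by rw [hd'.2]; norm_num)
  obtain ⟨k, hk⟩ := M24_exists_smul_finset (s := s) (t := s') h5 h
  obtain ⟨τ, h1, h2⟩ : ∃ τ : Equiv.Perm GolayPt, τ • s' = s' ∧ τ • (k • t) = t' := by
    have c1 : s' ⊆ k • t := hk ▸ Finset.smul_finset_subset_smul_finset a1
    have e : (k • t \ t' : Finset GolayPt) ≃ (t' \ k • t : Finset GolayPt) := Fintype.equivOfCardEq (by
      rw [Fintype.card_coe, Fintype.card_coe]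
      exact Finset.card_sdiff_eq_card_sdiff_iff.2 (by rw [Finset.card_smul_finset, a3, b3]))
    obtain ⟨g, hg⟩ := M24_exists_smul_finset (s := k • t \ s') (t := t' \ s')
      ((Finset.card_le_card Finset.sdiff_subset).trans (by rw [Finset.card_smul_finset, a3]))
      (by rw [Finset.card_sdiff_of_subset c1, Finset.card_sdiff_of_subset b1, Finset.card_smul_finset, a3, b3])
    have inj : Set.InjOn (fun x => if x ∈ s' then x else g • x) (k • t : Finset GolayPt) := by
      intro x hx y hy e
      have m : ∀ z ∈ k • t, z ∉ s' → g • z ∉ s' := fun z hz hz' hc =>
        (Finset.mem_sdiff.1 (hg ▸ Finset.smul_mem_smul_finset (Finset.mem_sdiff.2 ⟨hz, hz'⟩))).2 hc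
      by_cases h1 : x ∈ s' <;> by_cases h2 : y ∈ s' <;> simp only [h1, h2, if_true, if_false] at e
      · exact e
      · exact absurd (e ▸ h1) (m y hy h2)
      · exact absurd (e ▸ h2) (m x hx h1)
      · exact (smul_left_cancel_iff g).1 e
    obtain ⟨τ, hτ⟩ := Equiv.Perm.exists_extending_pair (f := fun x : (k • t : Finset GolayPt) => (x : GolayPt))
      (g := fun x => if (x : GolayPt) ∈ s' then (x : GolayPt) else g • (x : GolayPt)) Subtype.val_injective
      (fun x y e => Subtype.ext (inj x.2 y.2 e))
    refine ⟨τ, smul_eq_of_fix fun p hp => by simpa [hp] using hτ ⟨p, c1 hp⟩, ?_⟩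
    apply Finset.eq_of_subset_of_card_le _ (by rw [Finset.card_smul_finset, Finset.card_smul_finset, a3, b3])
    intro x hx
    obtain ⟨y, hy, rfl⟩ := Finset.mem_smul_finset.1 hx
    have := hτ ⟨y, hy⟩
    show τ y ∈ t'
    rw [this]
    by_cases h1 : y ∈ s'
    · simpa [h1] using b1 h1
    · simp only [h1, if_false]
      exact (Finset.mem_sdiff.1 (hg ▸ Finset.smul_mem_smul_finset (Finset.mem_sdiff.2 ⟨hy, h1⟩))).1
  obtain ⟨g, e1, e2⟩ := dodecad_exists_eq_on5 hd hd' a3 a2 (τ * (k : Equiv.Perm GolayPt)) (by
    rw [mul_smul]; exact (le_of_eq h2).trans b2)
  refine ⟨g, e1, ?_⟩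
  rw [← h1, ← hk]
  ext x
  simp only [Finset.mem_smul_finset]
  constructor
  · rintro ⟨y, hy, rfl⟩; exact ⟨k • y, ⟨y, hy, rfl⟩, (e2 y (a1 hy)).symm⟩
  · rintro ⟨_, ⟨y, hy, rfl⟩, rfl⟩; exact ⟨y, hy, e2 y (a1 hy)⟩

/-- The stabiliser of a dodecad and of three of its points is transitive on the complementary dodecad. -/
theorem dodecad_fix_three_trans_compl {d F : Finset GolayPt} (hd : d ∈ dodecads) (hF : F ⊆ d) (h3 : F.card = 3)
    {x y : GolayPt} (hx : x ∉ d) (hy : y ∉ d) : ∃ g ∈ stabilizer M24 d ⊓ (fixS F : Subgroup M24), g • x = y := by
  obtain ⟨k, rfl, rfl⟩ := dodecad_subset_trans dod0_mem hd (s := ofMask 7)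
    ((ofMask_subset_iff (by norm_num)).2 (by decide +kernel)) hF (by rw [card_ofMask]; decide +kernel)
    (by rw [card_ofMask, h3]; decide +kernel)
  have hS : ∀ P ∈ [608405391266436187982588441666881568, 232652365823391711183829569059784736, 796025918939784314627536738561984544], Good (stabilizer M24 dod0 ⊓ fixS (ofMask 7)) P :=
    good_inf_all (good_stab_all (good_top_of_all (by decide +kernel)) (by decide +kernel))
      (good_fixS_all (good_top_of_all (by decide +kernel)) (by decide +kernel))
  obtain ⟨g, hg, e⟩ := exists_fix_smul_of_orb hS (b := 23) (m := 340831 ^^^ 16777215) (by norm_num) (by decide +kernel)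
    (p := k⁻¹ • x) (q := k⁻¹ • y)
    (by rw [ofMask_compl, Finset.mem_compl, Finset.inv_smul_mem_iff]; exact hx)
    (by rw [ofMask_compl, Finset.mem_compl, Finset.inv_smul_mem_iff]; exact hy)
  refine ⟨k * g * k⁻¹, ?_, by rw [mul_smul, mul_smul, e, smul_inv_smul]⟩
  rw [stabilizer_smul_eq_stabilizer_map_conj, fixS_smul, ← map_conj_inf]
  exact ⟨g, hg, rfl⟩

end CL.Spor
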