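/-
Search certificates (machine generated) for the uniqueness of S(2,5,21) (plain, and with a marked hyperoval), S(3,6,22), S(4,7,23).
-/
import Cfsg.Agent.Spor.DesignSearchSt

set_option autoImplicit false
set_option maxRecDepth 100000

namespace CL.Spor.Des

def p21b_std : List ℕ := [31, 481, 7681, 122881, 139810, 149764, 168008, 197776, 274564, 279618, 295696, 329768, 533768, 544816, 559234, 590404, 1058896, 1065608, 1082404, 1118466, 1966081]
def p21b_c0 : Cert := (.node 66560 [] (.br 197776 (.node 65540 [] (.br 590404 (.node 1032 [] (.br 533768 (.node 132 [] (.br 274564 (.node 260 [] (.br 149764 (.node 136 [] (.br 1065608 (.node 72 [] (.br 168008 (.node 80 [] (.br 1058896 (.node 272 [] (.br 295696 (.done 0x149ca307b9ac5a928398a418820) .nil)) .nil)) .nil)) .nil)) .nil)) .nil)) .nil)) .nil)) .nil))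
def p21b_c1 : Cert := (.node 3 [98,131,164,197,230,263,296,329,362,395,428,461,494,527,560,593,626,659] (.br 31 (.node 33 [230,263,296,329,362,395,428,461,494,527,560,593,626,659] (.br 481 (.node 513 [362,395,428,461,494,527,560,593,626,659] (.br 7681 (.node 8193 [494,527,560,593,626,659] (.br 122881 (.node 131073 [626,659] (.br 1966081 (.node 34 [329,362,395,461,494,527,593,626,659] (.br 139810 (.node 66 [362,395,494,527,626,659] (.br 279618 (.node 130 [395,527,659] (.br 559234 (.node 258 [] (.br 1118466 (.node 1056 [98,131] (.sym 590884 0x107b9b49ca2c5a928398a418820 1082404 (.br 1082404 (.node 2080 [131] (.br 329768 (.node 48 [] (.br 544816 p21b_c0 .nil)) .nil)) .nil))) .nil)) .nil)) .nil)) .nil)) .nil)) .nil)) .nil)) .nil)) .nil))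
def p21b_cert : Cert := p21b_c1

theorem p21b_check : stCheck 21 2 5 2 2 5 p21b_std p21b_cert = true := by decide +kernel

def h21_std : List ℕ := [451, 3589, 4720, 28681, 33960, 74020, 149538, 229393, 264472, 299014, 345152, 402048, 540820, 567360, 590346, 660736, 1057810, 1098496, 1120384, 1179724, 1835041]
def h21_c0 : Cert := (.node 24 [] (.br 264472 (.node 40 [] (.br 33960 (.node 48 [] (.br 4720 (.node 1088 [] (.br 345152 (.node 2112 [] (.br 567360 (.node 2176 [] (.br 1120384 (.node 640 [] (.br 402048 (.node 768 [] (.br 1098496 (.node 1280 [] (.br 660736 (.done 0x149ca307b9ac5a928398a418820) .nil)) .nil)) .nil)) .nil)) .nil)) .nil)) .nil)) .nil)) .nil))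
def h21_c1 : Cert := (.node 3 [230,263,296,329,362,395,428,461,494,527,560,593,626,659] (.br 451 (.node 5 [329,362,395,428,461,494,527,560,593,626,659] (.br 3589 (.node 9 [428,461,494,527,560,593,626,659] (.br 28681 (.node 17 [527,560,593,626,659] (.br 229393 (.node 33 [626,659] (.br 1835041 (.node 6 [428,461,527,560,626,659] (.br 299014 (.node 10 [329,362,560,659] (.br 590346 (.node 18 [362,461] (.br 1057810 (.node 34 [] (.br 149538 (.node 12 [230,263] (.br 1179724 (.node 20 [263] (.br 540820 (.node 36 [] (.br 74020 h21_c0 .nil)) .nil)) .nil)) .nil)) .nil)) .nil)) .nil)) .nil)) .nil)) .nil)) .nil)) .nil))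
def h21_cert : Cert := h21_c1

theorem h21_check : stCheck 21 2 5 2 6 2 h21_std h21_cert = true := by decide +kernel

def s22_std : List ℕ := [63, 963, 5480, 5780, 10580, 10920, 15363, 49368, 49956, 85376, 94784, 104496, 107532, 153612, 156720, 167488, 176512, 196836, 197400, 245763, 279621, 282898, 296098, 299529, 330246, 336017, 395553, 401482, 542818, 549129, 559237, 565778, 591393, 594058, 656646, 659537, 789528, 798756, 885056, 934528, 1067537, 1073286, 1083658, 1089633, 1115218, 1118469, 1180809, 1184290, 1317056, 1320704, 1392680, 1474580, 1573296, 1573452, 1627136, 1779712, 2115082, 2117793, 2131217, 2134086, 2164809, 2171170, 2230418, 2236933, 2359692, 2359920, 2418688, 2561024, 2628352, 2630848, 2703380, 2785320, 3148836, 3158040, 3244672, 3293504, 3932163]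
def s22_c0 : Cert := (.node 2816 [] (.br 2628352 (.node 21504 [] (.br 1627136 (.node 70656 [] (.br 2561024 (.node 26624 [] (.br 2418688 (.node 75776 [] (.br 1779712 (.done 0x2b49ca307b9ac5a928398a418820) .nil)) .nil)) .nil)) .nil)) .nil))
def s22_c1 : Cert := (.node 2096 [] (.br 104496 (.node 1216 [] (.br 2630848 (.node 2240 [] (.br 1317056 (.node 262464 [] (.br 885056 (.node 16704 [] (.br 3293504 (.node 1600 [] (.br 167488 (.node 4672 [] (.br 94784 (.node 1408 [] (.br 85376 (.node 4480 [] (.br 176512 (.node 17024 [] (.br 934528 (.node 33408 [] (.br 3244672 (.node 1792 [] (.br 1320704 s22_c0 .nil)) .nil)) .nil)) .nil)) .nil)) .nil)) .nil)) .nil)) .nil)) .nil)) .nil)) .nil))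
def s22_c2 : Cert := (.node 168 [] (.br 10920 (.node 1036 [] (.br 107532 (.node 2060 [] (.br 153612 (.node 16404 [] (.br 2703380 (.node 32788 [] (.br 1474580 (.node 1060 [] (.br 3148836 (.node 4132 [] (.br 798756 (.node 1048 [] (.br 789528 (.node 4120 [] (.br 3158040 (.node 16424 [] (.br 1392680 (.node 32808 [] (.br 2785320 (.node 1072 [] (.br 156720 s22_c1 .nil)) .nil)) .nil)) .nil)) .nil)) .nil)) .nil)) .nil)) .nil)) .nil)) .nil)) .nil))
def s22_c3 : Cert := (.node 546 [] (.br 1184290 (.node 76 [] (.br 1573452 (.node 140 [] (.br 2359692 (.node 592 [] (.br 2359920 (.node 176 [] (.br 1573296 (.node 84 [] (.br 10580 (.node 148 [] (.br 5780 (.node 100 [] (.br 196836 (.node 292 [] (.br 49956 (.node 88 [] (.br 49368 (.node 280 [] (.br 197400 (.node 104 [] (.br 5480 s22_c2 .nil)) .nil)) .nil)) .nil)) .nil)) .nil)) .nil)) .nil)) .nil)) .nil)) .nil)) .nil))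
def s22_c4 : Cert := (.node 518 [] (.br 330246 (.node 1090 [] (.br 1115218 (.node 2114 [] (.br 542818 (.node 74 [] (.br 401482 (.node 17410 [] (.br 2115082 (.node 16402 [] (.br 282898 (.node 1058 [] (.br 296098 (.node 138 [] (.br 594058 (.node 266 [] (.br 1083658 (.node 146 [] (.br 2230418 (.node 530 [] (.br 565778 (.node 290 [] (.br 2171170 s22_c3 .nil)) .nil)) .nil)) .nil)) .nil)) .nil)) .nil)) .nil)) .nil)) .nil)) .nil)) .nil))
def s22_c5 : Cert := (.node 133121 [] (.br 395553 (.node 131081 [] (.br 1180809 (.node 2065 [] (.br 1067537 (.node 265 [] (.br 549129 (.node 521 [] (.br 299529 (.node 273 [] (.br 2131217 (.node 145 [] (.br 336017 (.node 161 [] (.br 2117793 (.node 545 [] (.br 591393 (.node 70 [] (.sym 598086 0x20f8b98b6aa93ac907498a418820 2134086 (.sym 1181766 0x16d62a75a49f1838e9418a418820 2134086 (.br 2134086 (.node 134 [] (.br 1073286 (.node 262 [] (.br 656646 s22_c4 .nil)) .nil)) .nil)))) .nil)) .nil)) .nil)) .nil)) .nil)) .nil)) .nil)) .nil)) .nil))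
def s22_c6 : Cert := (.node 7 [131,164,197,230,263,296,329,362,395,428,461,494,527,560,593,626,659,692] (.br 63 (.node 67 [263,296,329,362,395,428,461,494,527,560,593,626,659,692] (.br 963 (.node 1027 [395,428,461,494,527,560,593,626,659,692] (.br 15363 (.node 16387 [527,560,593,626,659,692] (.br 245763 (.node 262147 [659,692] (.br 3932163 (.node 69 [362,395,428,494,527,560,626,659,692] (.br 279621 (.node 133 [395,428,527,560,659,692] (.br 559237 (.node 261 [428,560,692] (.br 1118469 (.node 517 [] (.br 2236933 (.node 2113 [131,164] (.sym 1181769 0x2307bab49c9ac5a928398a418820 2164809 (.br 2164809 (.node 4161 [164] (.br 659537 (.node 97 [] (.br 1089633 s22_c5 .nil)) .nil)) .nil))) .nil)) .nil)) .nil)) .nil)) .nil)) .nil)) .nil)) .nil)) .nil))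
def s22_cert : Cert := s22_c6

theorem s22_check : stCheck 22 3 6 5 3 6 s22_std s22_cert = true := by decide +kernel

def s23_std : List ℕ := [127, 1927, 6626, 7706, 10961, 11561, 13132, 13492, 19252, 19660, 21161, 21841, 24986, 26210, 30727, 98737, 99913, 104492, 111234, 118018, 122964, 164508, 165220, 170753, 174130, 184394, 189569, 197458, 197802, 208388, 208993, 215065, 217476, 295722, 296146, 305540, 307225, 313441, 316932, 328420, 328988, 334977, 337994, 348210, 353025, 393673, 394801, 399444, 406786, 412290, 417836, 491527, 559243, 561430, 565797, 572480, 574400, 574520, 592197, 594136, 595744, 599059, 606734, 616608, 658024, 658832, 660493, 663750, 672035, 684560, 762120, 789542, 791107, 794992, 796296, 802965, 809224, 887312, 954528, 1000512, 1083736, 1085088, 1085637, 1090574, 1098259, 1110304, 1116310, 1118475, 1122872, 1123776, 1131557, 1137216, 1182787, 1184294, 1188117, 1194120, 1196272, 1197832, 1283088, 1313293, 1315728, 1315944, 1319075, 1327430, 1338384, 1425544, 1483328, 1509664,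 1573292, 1574484, 1579057, 1583874, 1594498, 1597513, 1671266, 1755140, 1770113, 1869057, 1912836, 1966106, 2132550, 2135075, 2138344, 2139920, 2146573, 2152592, 2165640, 2165872, 2167317, 2171174, 2179267, 2192392, 2230437, 2232632, 2234048, 2236939, 2245654, 2255168, 2343456, 2361619, 2363534, 2368581, 2374176, 2376280, 2377120, 2462016, 2526216, 2564240, 2622130, 2622794, 2631708, 2634113, 2641409, 2642020, 2720900, 2785361, 2824194, 2940930, 2949161, 3015428, 3146593, 3146905, 3153156, 3158098, 3164202, 3170948, 3254273, 3309954, 3342412, 3440692, 3474946, 3559425, 3707400, 3752208, 3810336, 3934400, 4230165, 4231792, 4232584, 4235587, 4243622, 4254216, 4262435, 4265030, 4268173, 4274448, 4276584, 4277904, 4327694, 4329619, 4334496, 4334680, 4342341, 4348960, 4425920, 4458680, 4460352, 4460837, 4465174, 4473867, 4485312, 4564000, 4636944, 4657672, 4719385, 4719841, 4725380, 4730922, 4737106, 4744452, 4837377, 4883970, 4915252, 5013580, 5046658, 5122049, 5243594, 5244210, 5253220, 5256705, 5261697,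 5263388, 5341956, 5406761, 5464066, 5543938, 5570641, 5637252, 5808272, 5835784, 5902656, 6046240, 6291924, 6293036, 6297673, 6302850, 6312706, 6316081, 6389786, 6467588, 6489345, 6587009, 6637572, 6684770, 6850848, 6890048, 6963336, 7083024, 7390272, 7409824, 7473680, 7610632, 7864327]
def s23_c0 : Cert := (.node 83008 [] (.br 1000512 (.done 0x5ab49ca307b9ac5a928398a418820) .nil))
def s23_c1 : Cert := (.node 35008 [] (.br 4425920 (.node 264384 [] (.br 3934400 (.node 12480 [] (.br 4485312 (.node 1856 [] (.br 4460352 (.node 10560 [] (.br 2255168 (.node 37184 [] (.br 2462016 (.node 135488 [] (.br 5902656 (.node 6720 [] (.br 1137216 (.node 41536 [] (.br 1483328 (.node 74304 [] (.br 6890048 (.node 7232 [] (.br 572480 (.node 50240 [] (.br 7390272 s23_c0 .nil)) .nil)) .nil)) .nil)) .nil)) .nil)) .nil)) .nil)) .nil)) .nil)) .nil)) .nil))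
def s23_c2 : Cert := (.node 35104 [] (.br 6850848 (.node 67872 [] (.br 1509664 (.node 12576 [] (.br 1110304 (.node 6688 [] (.br 2374176 (.node 49696 [] (.br 2343456 (.node 279072 [] (.br 6046240 (.node 7200 [] (.br 4348960 (.node 42016 [] (.br 4564000 (.node 140320 [] (.br 3810336 (.node 960 [] (.br 574400 (.node 1472 [] (.br 1123776 (.node 1728 [] (.br 2234048 s23_c1 .nil)) .nil)) .nil)) .nil)) .nil)) .nil)) .nil)) .nil)) .nil)) .nil)) .nil)) .nil))
def s23_c3 : Cert := (.node 133648 [] (.br 7473680 (.node 12816 [] (.br 684560 (.node 11280 [] (.br 1338384 (.node 37904 [] (.br 1283088 (.node 267280 [] (.br 7083024 (.node 928 [] (.br 4334496 (.node 1440 [] (.br 2377120 (.node 1696 [] (.br 1085088 (.node 10400 [] (.br 616608 (.node 37024 [] (.br 954528 (.node 69792 [] (.br 7409824 (.node 1824 [] (.br 595744 s23_c2 .nil)) .nil)) .nil)) .nil)) .nil)) .nil)) .nil)) .nil)) .nil)) .nil)) .nil)) .nil))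
def s23_c4 : Cert := (.node 1136 [] (.br 2165872 (.node 912 [] (.br 1315728 (.node 1424 [] (.br 658832 (.node 1680 [] (.br 4277904 (.node 6288 [] (.br 2152592 (.node 41104 [] (.br 5808272 (.node 73872 [] (.br 2564240 (.node 1808 [] (.br 2139920 (.node 6416 [] (.br 4274448 (.node 49424 [] (.br 4636944 (.node 82192 [] (.br 3752208 (.node 35344 [] (.br 887312 s23_c3 .nil)) .nil)) .nil)) .nil)) .nil)) .nil)) .nil)) .nil)) .nil)) .nil)) .nil)) .nil))
def s23_c5 : Cert := (.node 6408 [] (.br 809224 (.node 41224 [] (.br 762120 (.node 270600 [] (.br 7610632 (.node 10760 [] (.br 4254216 (.node 37384 [] (.br 3707400 (.node 70152 [] (.br 4657672 (.node 35848 [] (.br 2526216 (.node 68616 [] (.br 5835784 (.node 13320 [] (.br 2192392 (.node 240 [] (.br 1196272 (.node 368 [] (.br 794992 (.node 624 [] (.br 4231792 s23_c4 .nil)) .nil)) .nil)) .nil)) .nil)) .nil)) .nil)) .nil)) .nil)) .nil)) .nil)) .nil))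
def s23_c6 : Cert := (.node 1112 [] (.br 4334680 (.node 232 [] (.br 2138344 (.node 360 [] (.br 4276584 (.node 616 [] (.br 658024 (.node 1128 [] (.br 1315944 (.node 904 [] (.br 2165640 (.node 1416 [] (.br 4232584 (.node 1672 [] (.br 796296 (.node 6280 [] (.br 1194120 (.node 49288 [] (.br 1425544 (.node 147592 [] (.br 6963336 (.node 1800 [] (.br 1197832 s23_c5 .nil)) .nil)) .nil)) .nil)) .nil)) .nil)) .nil)) .nil)) .nil)) .nil)) .nil)) .nil))
def s23_c7 : Cert := (.node 5636 [] (.br 316932 (.node 51204 [] (.br 1755140 (.node 83972 [] (.br 6637572 (.node 45060 [] (.br 6467588 (.node 77828 [] (.br 1912836 (.node 184 [] (.br 4458680 (.node 312 [] (.br 2232632 (.node 568 [] (.br 1122872 (.node 1080 [] (.br 574520 (.node 216 [] (.br 594136 (.node 344 [] (.br 1083736 (.node 600 [] (.br 2376280 s23_c6 .nil)) .nil)) .nil)) .nil)) .nil)) .nil)) .nil)) .nil)) .nil)) .nil)) .nil)) .nil))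
def s23_c8 : Cert := (.node 4196 [] (.br 2642020 (.node 2436 [] (.br 305540 (.node 4484 [] (.br 217476 (.node 2692 [] (.br 4725380 (.node 8836 [] (.br 3170948 (.node 33924 [] (.br 2720900 (.node 132228 [] (.br 5637252 (.node 33540 [] (.br 5341956 (.node 131844 [] (.br 3015428 (.node 3332 [] (.br 3153156 (.node 9476 [] (.br 4744452 (.node 3588 [] (.br 208388 s23_c7 .nil)) .nil)) .nil)) .nil)) .nil)) .nil)) .nil)) .nil)) .nil)) .nil)) .nil)) .nil))
def s23_c9 : Cert := (.node 65612 [] (.br 3342412 (.node 180 [] (.br 13492 (.node 308 [] (.br 19252 (.node 32820 [] (.br 3440692 (.node 65588 [] (.br 4915252 (.node 212 [] (.br 6291924 (.node 596 [] (.br 1574484 (.node 2132 [] (.br 399444 (.node 8276 [] (.br 122964 (.node 228 [] (.br 328420 (.node 356 [] (.br 165220 (.node 2148 [] (.br 5253220 s23_c8 .nil)) .nil)) .nil)) .nil)) .nil)) .nil)) .nil)) .nil)) .nil)) .nil)) .nil)) .nil))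
def s23_c10 : Cert := (.node 90114 [] (.br 5464066 (.node 156 [] (.br 164508 (.node 284 [] (.br 328988 (.node 2076 [] (.br 2631708 (.node 4124 [] (.br 5263388 (.node 172 [] (.br 1573292 (.node 556 [] (.br 6293036 (.node 2092 [] (.br 104492 (.node 8236 [] (.br 417836 (.node 204 [] (.br 19660 (.node 332 [] (.br 13132 (.node 32844 [] (.br 5013580 s23_c9 .nil)) .nil)) .nil)) .nil)) .nil)) .nil)) .nil)) .nil)) .nil)) .nil)) .nil)) .nil))
def s23_c11 : Cert := (.node 4738 [] (.br 111234 (.node 3202 [] (.br 6302850 (.node 5250 [] (.br 1594498 (.node 2818 [] (.br 1583874 (.node 4866 [] (.br 6312706 (.node 3330 [] (.br 118018 (.node 5378 [] (.br 406786 (.node 34306 [] (.br 4883970 (.node 67074 [] (.br 3474946 (.node 38914 [] (.br 5543938 (.node 71682 [] (.br 2824194 (.node 57346 [] (.br 2940930 s23_c10 .nil)) .nil)) .nil)) .nil)) .nil)) .nil)) .nil)) .nil)) .nil)) .nil)) .nil)) .nil))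
def s23_c12 : Cert := (.node 4146 [] (.br 348210 (.node 210 [] (.br 296146 (.node 338 [] (.br 197458 (.node 2130 [] (.br 4737106 (.node 4178 [] (.br 3158098 (.node 226 [] (.br 6626 (.node 610 [] (.br 26210 (.node 32866 [] (.br 1671266 (.node 131170 [] (.br 6684770 (.node 33154 [] (.br 3309954 (.node 65922 [] (.br 5046658 (.node 2690 [] (.br 412290 s23_c11 .nil)) .nil)) .nil)) .nil)) .nil)) .nil)) .nil)) .nil)) .nil)) .nil)) .nil)) .nil))
def s23_c13 : Cert := (.node 298 [] (.br 295722 (.node 2090 [] (.br 3164202 (.node 4138 [] (.br 4730922 (.node 202 [] (.br 5243594 (.node 1048602 [] (.br 1966106 (.node 32794 [] (.br 6389786 (.node 330 [] (.br 2622794 (.node 2122 [] (.br 337994 (.node 4170 [] (.br 184394 (.node 178 [] (.br 2622130 (.node 306 [] (.br 5244210 (.node 2098 [] (.br 174130 s23_c12 .nil)) .nil)) .nil)) .nil)) .nil)) .nil)) .nil)) .nil)) .nil)) .nil)) .nil)) .nil))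
def s23_c14 : Cert := (.node 166 [] (.br 4243622 (.node 16406 [] (.br 2245654 (.node 534 [] (.br 4465174 (.node 1062 [] (.br 789542 (.node 8230 [] (.br 2171174 (.node 550 [] (.br 1184294 (.node 326 [] (.br 1327430 (.node 582 [] (.br 2132550 (.node 1094 [] (.br 4265030 (.node 8330 [] (.br 24986 (.node 538 [] (.br 7706 (.node 170 [] (.br 197802 s23_c13 .nil)) .nil)) .nil)) .nil)) .nil)) .nil)) .nil)) .nil)) .nil)) .nil)) .nil)) .nil))
def s23_c15 : Cert := (.node 5633 [] (.br 5256705 (.node 43009 [] (.br 3254273 (.node 141313 [] (.br 5122049 (.node 53249 [] (.br 4837377 (.node 151553 [] (.br 3559425 (.node 142 [] (.sym 1196174 0x5a959b98d5ca117a909394c418820 2363534 (.br 2363534 (.node 270 [] (.br 4327694 (.node 526 [] (.br 606734 (.node 1038 [] (.br 1090574 (.node 2182 [] (.br 1116310 (.node 8326 [] (.br 663750 (.node 524310 [] (.br 561430 s23_c14 .nil)) .nil)) .nil)) .nil)) .nil)) .nil)) .nil))) .nil)) .nil)) .nil)) .nil)) .nil))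
def s23_c16 : Cert := (.node 4193 [] (.br 208993 (.node 2433 [] (.br 5261697 (.node 4481 [] (.br 2634113 (.node 524929 [] (.br 1770113 (.node 33409 [] (.br 6587009 (.node 3201 [] (.br 334977 (.node 9345 [] (.br 189569 (.node 2817 [] (.br 170753 (.node 8961 [] (.br 353025 (.node 34049 [] (.br 1869057 (.node 66817 [] (.br 6489345 (.node 3585 [] (.br 2641409 s23_c15 .nil)) .nil)) .nil)) .nil)) .nil)) .nil)) .nil)) .nil)) .nil)) .nil)) .nil)) .nil))
def s23_c17 : Cert := (.node 337 [] (.br 21841 (.node 2073 [] (.br 215065 (.node 4121 [] (.br 307225 (.node 32809 [] (.br 5406761 (.node 65577 [] (.br 2949161 (.node 2121 [] (.br 6297673 (.node 8265 [] (.br 1597513 (.node 2097 [] (.br 1579057 (.node 8241 [] (.br 6316081 (.node 32849 [] (.br 2785361 (.node 65617 [] (.br 5570641 (.node 2145 [] (.br 313441 s23_c16 .nil)) .nil)) .nil)) .nil)) .nil)) .nil)) .nil)) .nil)) .nil)) .nil)) .nil)) .nil))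
def s23_c18 : Cert := (.node 1093 [] (.br 2368581 (.node 153 [] (.br 3146905 (.node 281 [] (.br 4719385 (.node 1185 [] (.br 4719841 (.node 353 [] (.br 3146593 (.node 169 [] (.br 21161 (.node 297 [] (.br 11561 (.node 201 [] (.br 393673 (.node 585 [] (.br 99913 (.node 177 [] (.br 98737 (.node 561 [] (.br 394801 (.node 209 [] (.br 10961 s23_c17 .nil)) .nil)) .nil)) .nil)) .nil)) .nil)) .nil)) .nil)) .nil)) .nil)) .nil)) .nil))
def s23_c19 : Cert := (.node 1037 [] (.br 660493 (.node 2181 [] (.br 2230437 (.node 4229 [] (.br 1085637 (.node 149 [] (.br 802965 (.node 34821 [] (.br 4230165 (.node 32805 [] (.br 565797 (.node 2117 [] (.br 592197 (.node 277 [] (.br 1188117 (.node 533 [] (.br 2167317 (.node 293 [] (.br 4460837 (.node 1061 [] (.br 1131557 (.node 581 [] (.br 4342341 s23_c18 .nil)) .nil)) .nil)) .nil)) .nil)) .nil)) .nil)) .nil)) .nil)) .nil)) .nil)) .nil))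
def s23_c20 : Cert := (.node 266243 [] (.br 791107 (.node 262163 [] (.br 2361619 (.node 4131 [] (.br 2135075 (.node 531 [] (.br 1098259 (.node 1043 [] (.br 599059 (.node 547 [] (.br 4262435 (.node 291 [] (.br 672035 (.node 323 [] (.br 4235587 (.node 1091 [] (.br 1182787 (.node 141 [] (.sym 1196173 0x46127b58e5d6969a50a398a418820 4268173 (.sym 2363533 0x31cd5d2d59c2517a149398a418820 4268173 (.br 4268173 (.node 269 [] (.br 2146573 (.node 525 [] (.br 1313293 s23_c19 .nil)) .nil)) .nil)))) .nil)) .nil)) .nil)) .nil)) .nil)) .nil)) .nil)) .nil)) .nil))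
def s23_c21 : Cert := (.node 15 [164,197,230,263,296,329,362,395,428,461,494,527,560,593,626,659,692,725] (.br 127 (.node 135 [296,329,362,395,428,461,494,527,560,593,626,659,692,725] (.br 1927 (.node 2055 [428,461,494,527,560,593,626,659,692,725] (.br 30727 (.node 32775 [560,593,626,659,692,725] (.br 491527 (.node 524295 [692,725] (.br 7864327 (.node 139 [395,428,461,527,560,593,659,692,725] (.br 559243 (.node 267 [428,461,560,593,692,725] (.br 1118475 (.node 523 [461,593,725] (.br 2236939 (.node 1035 [] (.br 4473867 (.node 4227 [164,197] (.sym 2363539 0x4a307dab49b9ac5a928398a418820 4329619 (.br 4329619 (.node 8323 [197] (.br 1319075 (.node 195 [] (.br 2179267 s23_c20 .nil)) .nil)) .nil))) .nil)) .nil)) .nil)) .nil)) .nil)) .nil)) .nil)) .nil)) .nil))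
def s23_cert : Cert := s23_c21

theorem s23_check : stCheck 23 4 7 10 4 7 s23_std s23_cert = true := by decide +kernel

end CL.Spor.Des
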