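/-
Search certificates (machine generated) for the uniqueness of S(4,5,11), S(5,6,12).
-/
import Cfsg.Agent.Spor.DesignSearchSt

set_option autoImplicit false
set_option maxRecDepth 100000

namespace CL.Spor.Des

def s11_std : List ℕ := [31, 103, 121, 179, 188, 205, 214, 234, 302, 309, 331, 348, 370, 391, 410, 425, 465, 484, 555, 566, 597, 602, 620, 654, 665, 677, 707, 752, 781, 787, 824, 838, 865, 916, 930, 968, 1069, 1082, 1102, 1107, 1140, 1163, 1173, 1190, 1240, 1249, 1302, 1305, 1315, 1349, 1384, 1420, 1456, 1474, 1543, 1564, 1585, 1609, 1634, 1682, 1704, 1732, 1802, 1828, 1872, 1921]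
def s11_c0 : Cert := (.node 360 [] (.br 1384 (.node 680 [] (.br 1704 (.node 456 [] (.br 968 (.node 240 [] (.br 752 (.node 432 [] (.br 1456 (.node 848 [] (.br 1872 (.done 0x2928398a418820) .nil)) .nil)) .nil)) .nil)) .nil)) .nil))
def s11_c1 : Cert := (.node 60 [] (.br 188 (.node 92 [] (.br 348 (.node 540 [] (.br 1564 (.node 108 [] (.br 620 (.node 396 [] (.br 1420 (.node 116 [] (.br 1140 (.node 404 [] (.br 916 (.node 228 [] (.br 484 (.node 804 [] (.br 1828 (.node 708 [] (.br 1732 (.node 312 [] (.br 824 (.node 216 [] (.br 1240 s11_c0 .nil)) .nil)) .nil)) .nil)) .nil)) .nil)) .nil)) .nil)) .nil)) .nil)) .nil)) .nil))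
def s11_c2 : Cert := (.node 166 [] (.br 1190 (.node 326 [] (.br 838 (.node 58 [] (.br 1082 (.node 90 [] (.br 602 (.node 154 [] (.br 410 (.node 106 [] (.br 234 (.node 778 [] (.br 1802 (.node 114 [] (.br 370 (.node 658 [] (.br 1682 (.node 610 [] (.br 1634 (.node 418 [] (.br 930 (.node 450 [] (.br 1474 s11_c1 .nil)) .nil)) .nil)) .nil)) .nil)) .nil)) .nil)) .nil)) .nil)) .nil)) .nil)) .nil))
def s11_c3 : Cert := (.node 232 [] (.br 744 (.node 808 [] (.br 1832 (.node 456 [] (.br 1480 (.node 368 [] (.br 1392 (.node 432 [] (.br 944 (.node 720 [] (.br 1744 (.done 0x1d09514c418820) .nil)) .nil)) .nil)) .nil)) .nil)) .nil))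
def s11_c4 : Cert := (.node 60 [] (.br 572 (.node 92 [] (.br 1116 (.node 156 [] (.br 412 (.node 108 [] (.br 364 (.node 652 [] (.br 1676 (.node 116 [] (.br 244 (.node 788 [] (.br 1812 (.node 612 [] (.br 1636 (.node 420 [] (.br 1444 (.node 452 [] (.br 964 (.node 184 [] (.br 1208 (.node 344 [] (.br 856 s11_c3 .nil)) .nil)) .nil)) .nil)) .nil)) .nil)) .nil)) .nil)) .nil)) .nil)) .nil)) .nil))
def s11_c5 : Cert := (.node 294 [] (.br 806 (.node 198 [] (.br 1222 (.node 58 [] (.br 314 (.node 90 [] (.br 218 (.node 538 [] (.br 1562 (.node 106 [] (.br 1130 (.node 394 [] (.br 906 (.node 114 [] (.br 626 (.node 402 [] (.br 1426 (.node 226 [] (.br 482 (.node 674 [] (.br 1698 (.node 834 [] (.br 1858 s11_c4 .nil)) .nil)) .nil)) .nil)) .nil)) .nil)) .nil)) .nil)) .nil)) .nil)) .nil)) .nil))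
def s11_c6 : Cert := (.node 585 [] (.br 1609 (.node 561 [] (.br 1585 (.node 209 [] (.br 465 (.node 225 [] (.br 1249 (.node 353 [] (.br 865 (.node 897 [] (.br 1921 (.node 46 [] (.br 174 (.node 270 [] (.br 1294 (.node 78 [] (.br 590 (.node 278 [] (.br 342 (.node 150 [] (.br 662 (.node 54 [] (.br 1078 s11_c5 .nil)) .nil)) .nil)) .nil)) .nil)) (.br 302 (.node 142 [] (.br 654 (.node 78 [] (.br 1102 (.node 150 [] (.br 214 (.node 278 [] (.br 1302 (.node 54 [] (.br 566 s11_c2 .nil)) .nil)) .nil)) .nil)) .nil)) .nil))) .nil)) .nil)) .nil)) .nil)) .nil)) .nil))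
def s11_c7 : Cert := (.node 232 [] (.br 744 (.node 808 [] (.br 1832 (.node 456 [] (.br 1480 (.node 368 [] (.br 1392 (.node 432 [] (.br 944 (.node 720 [] (.br 1744 (.done 0x20e53254418820) .nil)) .nil)) .nil)) .nil)) .nil)) .nil))
def s11_c8 : Cert := (.node 60 [] (.br 572 (.node 92 [] (.br 1116 (.node 156 [] (.br 412 (.node 108 [] (.br 364 (.node 652 [] (.br 1676 (.node 116 [] (.br 244 (.node 788 [] (.br 1812 (.node 612 [] (.br 1636 (.node 420 [] (.br 1444 (.node 452 [] (.br 964 (.node 184 [] (.br 1208 (.node 344 [] (.br 856 s11_c7 .nil)) .nil)) .nil)) .nil)) .nil)) .nil)) .nil)) .nil)) .nil)) .nil)) .nil)) .nil))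
def s11_c9 : Cert := (.node 166 [] (.br 678 (.node 326 [] (.br 1350 (.node 58 [] (.br 122 (.node 538 [] (.br 666 (.node 282 [] (.br 1306 (.node 170 [] (.br 426 (.node 586 [] (.br 1610 (.node 562 [] (.br 1586 (.node 210 [] (.br 466 (.node 226 [] (.br 1250 (.node 354 [] (.br 866 (.node 898 [] (.br 1922 s11_c8 .nil)) .nil)) .nil)) .nil)) .nil)) .nil)) .nil)) .nil)) .nil)) .nil)) .nil)) .nil))
def s11_c10 : Cert := (.node 360 [] (.br 872 (.node 424 [] (.br 1448 (.node 712 [] (.br 1736 (.node 240 [] (.br 1264 (.node 816 [] (.br 1840 (.node 464 [] (.br 976 (.done 0x18a74292418820) .nil)) .nil)) .nil)) .nil)) .nil)) .nil))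
def s11_c11 : Cert := (.node 60 [] (.br 124 (.node 156 [] (.br 1180 (.node 284 [] (.br 796 (.node 556 [] (.br 1580 (.node 204 [] (.br 460 (.node 180 [] (.br 436 (.node 596 [] (.br 1620 (.node 228 [] (.br 740 (.node 356 [] (.br 1380 (.node 900 [] (.br 1924 (.node 184 [] (.br 696 (.node 344 [] (.br 1368 s11_c10 .nil)) .nil)) .nil)) .nil)) .nil)) .nil)) .nil)) .nil)) .nil)) .nil)) .nil)) .nil))
def s11_c12 : Cert := (.node 166 [] (.br 1190 (.node 326 [] (.br 838 (.node 154 [] (.br 410 (.node 538 [] (.br 602 (.node 58 [] (.br 1082 (.node 106 [] (.br 234 (.node 778 [] (.br 1802 (.node 114 [] (.br 370 (.node 658 [] (.br 1682 (.node 610 [] (.br 1634 (.node 418 [] (.br 930 (.node 450 [] (.br 1474 s11_c11 .nil)) .nil)) .nil)) .nil)) .nil)) .nil)) .nil)) .nil)) .nil)) .nil)) .nil)) .nil))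
def s11_c13 : Cert := (.node 393 [] (.br 905 (.node 113 [] (.br 625 (.node 401 [] (.br 1425 (.node 225 [] (.br 481 (.node 673 [] (.br 1697 (.node 833 [] (.br 1857 (.node 46 [] (.br 302 (.node 526 [] (.br 654 (.node 78 [] (.br 1102 (.node 54 [] (.br 566 (.node 86 [] (.br 214 (.node 278 [] (.br 1302 s11_c12 .nil)) .nil)) .nil)) .nil)) .nil)) (.br 1070 (.node 78 [] (.br 206 (.node 270 [] (.br 782 (.node 86 [] (.br 598 (.node 54 [] (.br 310 (.node 150 [] (.br 1174 s11_c9 .nil)) .nil)) .nil)) .nil)) .nil)) .nil))) .nil)) .nil)) .nil)) .nil)) .nil)) .nil))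
def s11_c14 : Cert := (.node 45 [] (.sym 301 0x14ca49d0418820 1069 (.br 173 (.node 1061 [] (.br 1077 (.node 277 [] (.br 341 (.node 149 [] (.br 661 (.node 293 [] (.br 805 (.node 269 [] (.br 1293 (.node 77 [] (.br 589 (.node 197 [] (.br 1221 (.node 537 [] (.br 1561 (.node 297 [] (.br 313 (.node 89 [] (.br 217 (.node 105 [] (.br 1129 s11_c13 .nil)) .nil)) .nil)) .nil)) .nil)) .nil)) .nil)) .nil)) .nil)) .nil)) .nil)) (.br 1069 (.node 269 [] (.br 781 (.node 77 [] (.br 205 (.node 165 [] (.br 677 (.node 53 [] (.br 309 (.node 85 [] (.br 597 (.node 149 [] (.br 1173 (.node 325 [] (.br 1349 (.node 57 [] (.br 121 (.node 169 [] (.br 425 (.node 153 [] (.br 665 (.node 281 [] (.br 1305 s11_c6 .nil)) .nil)) .nil)) .nil)) .nil)) .nil)) .nil)) .nil)) .nil)) .nil)) .nil)) .nil))))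
def s11_c15 : Cert := (.node 15 [164,197,230,263,296,329] (.br 31 (.node 39 [230,263,296,329] (.br 103 (.node 135 [296,329] (.br 391 (.node 519 [] (.br 1543 (.node 43 [263,329] (.sym 171 0x20ea498a418820 555 (.br 555 (.node 139 [] (.sym 203 0x14ca4a0e418820 1163 (.br 1163 (.node 75 [] (.br 331 (.node 163 [] (.br 179 (.node 291 [] (.br 1315 (.node 275 [] (.br 787 (.node 83 [] (.br 1107 (.node 195 [] (.br 707 s11_c14 .nil)) .nil)) .nil)) .nil)) .nil)) .nil)) .nil))) .nil))) .nil)) .nil)) .nil)) .nil))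
def s11_cert : Cert := s11_c15

theorem s11_check : stCheck 11 4 5 14 4 5 s11_std s11_cert = true := by decide +kernel

def s12_std : List ℕ := [63, 207, 243, 252, 350, 359, 377, 411, 429, 438, 469, 490, 605, 619, 630, 663, 686, 697, 730, 741, 783, 821, 826, 851, 876, 924, 931, 966, 969, 1008, 1111, 1133, 1146, 1182, 1195, 1205, 1241, 1254, 1309, 1326, 1331, 1355, 1396, 1415, 1464, 1484, 1490, 1505, 1563, 1575, 1596, 1614, 1649, 1677, 1714, 1731, 1748, 1768, 1814, 1833, 1861, 1880, 1890, 1930, 1937, 1956, 2139, 2158, 2165, 2205, 2215, 2234, 2262, 2281, 2327, 2347, 2364, 2381, 2418, 2446, 2481, 2499, 2520, 2532, 2590, 2605, 2611, 2631, 2680, 2699, 2740, 2764, 2769, 2786, 2841, 2854, 2890, 2900, 2913, 2949, 2962, 2984, 3087, 3126, 3129, 3164, 3171, 3219, 3244, 3269, 3274, 3312, 3354, 3365, 3398, 3409, 3432, 3465, 3476, 3490, 3605, 3626, 3657, 3666, 3684, 3718, 3736, 3745, 3843, 3852, 3888, 4032]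
def s12_c0 : Cert := (.node 1578 [] (.br 3626 (.node 1226 [] (.br 3274 (.node 842 [] (.br 2890 (.node 906 [] (.br 1930 (.node 370 [] (.br 2418 (.node 690 [] (.br 1714 (.node 466 [] (.br 1490 (.node 1618 [] (.br 3666 (.node 914 [] (.br 2962 (.node 738 [] (.br 2786 (.node 866 [] (.br 1890 (.node 1442 [] (.br 3490 (.done 0x5a928398a418820) .nil)) .nil)) .nil)) .nil)) .nil)) .nil)) .nil)) .nil)) .nil)) .nil)) .nil)) .nil))
def s12_c1 : Cert := (.node 790 [] (.br 1814 (.node 230 [] (.br 1254 (.node 806 [] (.br 2854 (.node 454 [] (.br 966 (.node 1350 [] (.br 3398 (.node 1670 [] (.br 3718 (.node 122 [] (.br 1146 (.node 186 [] (.br 2234 (.node 314 [] (.br 826 (.node 218 [] (.br 730 (.node 1306 [] (.br 3354 (.node 234 [] (.br 490 s12_c0 .nil)) .nil)) .nil)) .nil)) .nil)) .nil)) .nil)) .nil)) .nil)) .nil)) .nil)) .nil))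
def s12_c2 : Cert := (.node 94 [] (.br 350 (.node 158 [] (.br 1182 (.node 542 [] (.br 2590 (.node 110 [] (.br 2158 (.node 174 [] (.br 686 (.node 302 [] (.br 1326 (.node 590 [] (.br 1614 (.node 398 [] (.br 2446 (.node 118 [] (.br 630 (.node 182 [] (.br 438 (.node 1078 [] (.br 3126 (.node 214 [] (.br 2262 s12_c1 .nil)) .nil)) .nil)) .nil)) .nil)) .nil)) .nil)) .nil)) .nil)) .nil)) .nil)) .nil))
def s12_c3 : Cert := (.node 809 [] (.br 1833 (.node 457 [] (.br 969 (.node 1609 [] (.br 3657 (.node 1417 [] (.br 3465 (.node 625 [] (.br 1649 (.node 433 [] (.br 2481 (.node 721 [] (.br 2769 (.node 1361 [] (.br 3409 (.node 913 [] (.br 1937 (.node 481 [] (.br 1505 (.node 865 [] (.br 2913 (.node 1697 [] (.br 3745 s12_c2 .nil)) .nil)) .nil)) .nil)) .nil)) .nil)) .nil)) .nil)) .nil)) .nil)) .nil)) .nil))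
def s12_c4 : Cert := (.node 1557 [] (.br 3605 (.node 229 [] (.br 741 (.node 1317 [] (.br 3365 (.node 1221 [] (.br 3269 (.node 837 [] (.br 1861 (.node 901 [] (.br 2949 (.node 121 [] (.br 377 (.node 185 [] (.br 697 (.node 1081 [] (.br 3129 (.node 217 [] (.br 1241 (.node 793 [] (.br 2841 (.node 233 [] (.br 2281 s12_c3 .nil)) .nil)) .nil)) .nil)) .nil)) .nil)) .nil)) .nil)) .nil)) .nil)) .nil)) .nil))
def s12_c5 : Cert := (.node 810 [] (.br 1834 (.node 458 [] (.br 970 (.node 1610 [] (.br 3658 (.node 1418 [] (.br 3466 (.node 626 [] (.br 1650 (.node 434 [] (.br 2482 (.node 722 [] (.br 2770 (.node 1362 [] (.br 3410 (.node 914 [] (.br 1938 (.node 482 [] (.br 1506 (.node 866 [] (.br 2914 (.node 1698 [] (.br 3746 (.done 0x4254b31ca418820) .nil)) .nil)) .nil)) .nil)) .nil)) .nil)) .nil)) .nil)) .nil)) .nil)) .nil)) .nil))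
def s12_c6 : Cert := (.node 1558 [] (.br 3606 (.node 230 [] (.br 742 (.node 1318 [] (.br 3366 (.node 1222 [] (.br 3270 (.node 838 [] (.br 1862 (.node 902 [] (.br 2950 (.node 122 [] (.br 378 (.node 186 [] (.br 698 (.node 1082 [] (.br 3130 (.node 218 [] (.br 1242 (.node 794 [] (.br 2842 (.node 234 [] (.br 2282 s12_c5 .nil)) .nil)) .nil)) .nil)) .nil)) .nil)) .nil)) .nil)) .nil)) .nil)) .nil)) .nil))
def s12_c7 : Cert := (.node 94 [] (.br 606 (.node 158 [] (.br 2206 (.node 286 [] (.br 1310 (.node 110 [] (.br 1134 (.node 174 [] (.br 430 (.node 558 [] (.br 2606 (.node 334 [] (.br 2382 (.node 654 [] (.br 1678 (.node 118 [] (.br 2166 (.node 182 [] (.br 1206 (.node 310 [] (.br 822 (.node 214 [] (.br 470 s12_c6 .nil)) .nil)) .nil)) .nil)) .nil)) .nil)) .nil)) .nil)) .nil)) .nil)) .nil)) .nil))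
def s12_c8 : Cert := (.node 1577 [] (.br 3625 (.node 1225 [] (.br 3273 (.node 841 [] (.br 2889 (.node 905 [] (.br 1929 (.node 369 [] (.br 2417 (.node 689 [] (.br 1713 (.node 465 [] (.br 1489 (.node 1617 [] (.br 3665 (.node 913 [] (.br 2961 (.node 737 [] (.br 2785 (.node 865 [] (.br 1889 (.node 1441 [] (.br 3489 s12_c7 .nil)) .nil)) .nil)) .nil)) .nil)) .nil)) .nil)) .nil)) .nil)) .nil)) .nil)) .nil))
def s12_c9 : Cert := (.node 789 [] (.br 1813 (.node 229 [] (.br 1253 (.node 805 [] (.br 2853 (.node 453 [] (.br 965 (.node 1349 [] (.br 3397 (.node 1669 [] (.br 3717 (.node 121 [] (.br 1145 (.node 185 [] (.br 2233 (.node 313 [] (.br 825 (.node 217 [] (.br 729 (.node 1305 [] (.br 3353 (.node 233 [] (.br 489 s12_c8 .nil)) .nil)) .nil)) .nil)) .nil)) .nil)) .nil)) .nil)) .nil)) .nil)) .nil)) .nil))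
def s12_c10 : Cert := (.node 93 [] (.br 349 (.node 541 [] (.br 2589 (.node 157 [] (.br 1181 (.node 557 [] (.br 685 (.node 301 [] (.br 1325 (.node 109 [] (.br 2157 (.node 589 [] (.br 1613 (.node 397 [] (.br 2445 (.node 117 [] (.br 629 (.node 181 [] (.br 437 (.node 1077 [] (.br 3125 (.node 213 [] (.br 2261 s12_c9 .nil)) .nil)) .nil)) .nil)) .nil)) .nil)) .nil)) .nil)) .nil)) .nil)) .nil)) (.br 605 (.node 285 [] (.br 1309 (.node 157 [] (.br 2205 (.node 301 [] (.br 429 (.node 557 [] (.br 2605 (.node 109 [] (.br 1133 (.node 333 [] (.br 2381 (.node 653 [] (.br 1677 (.node 117 [] (.br 2165 (.node 181 [] (.br 1205 (.node 309 [] (.br 821 (.node 213 [] (.br 469 s12_c4 .nil)) .nil)) .nil)) .nil)) .nil)) .nil)) .nil)) .nil)) .nil)) .nil)) .nil)) .nil)))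
def s12_c11 : Cert := (.node 1196 [] (.br 3244 (.node 460 [] (.br 1484 (.node 716 [] (.br 2764 (.node 1804 [] (.br 3852 (.node 372 [] (.br 1396 (.node 692 [] (.br 2740 (.node 724 [] (.br 1748 (.node 852 [] (.br 2900 (.node 1428 [] (.br 3476 (.node 484 [] (.br 2532 (.node 1636 [] (.br 3684 (.node 932 [] (.br 1956 s12_c10 .nil)) .nil)) .nil)) .nil)) .nil)) .nil)) .nil)) .nil)) .nil)) .nil)) .nil)) .nil))
def s12_c12 : Cert := (.node 1171 [] (.br 3219 (.node 1123 [] (.br 3171 (.node 419 [] (.br 931 (.node 451 [] (.br 2499 (.node 707 [] (.br 1731 (.node 1795 [] (.br 3843 (.node 124 [] (.br 252 (.node 316 [] (.br 2364 (.node 572 [] (.br 1596 (.node 1116 [] (.br 3164 (.node 412 [] (.br 924 (.node 364 [] (.br 876 s12_c11 .nil)) .nil)) .nil)) .nil)) .nil)) .nil)) .nil)) .nil)) .nil)) .nil)) .nil)) .nil))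
def s12_c13 : Cert := (.node 1194 [] (.br 3242 (.node 458 [] (.br 1482 (.node 714 [] (.br 2762 (.node 1802 [] (.br 3850 (.node 370 [] (.br 1394 (.node 690 [] (.br 2738 (.node 722 [] (.br 1746 (.node 850 [] (.br 2898 (.node 1426 [] (.br 3474 (.node 482 [] (.br 2530 (.node 1634 [] (.br 3682 (.node 930 [] (.br 1954 (.done 0x4a0c752ca418820) .nil)) .nil)) .nil)) .nil)) .nil)) .nil)) .nil)) .nil)) .nil)) .nil)) .nil)) .nil))
def s12_c14 : Cert := (.node 1558 [] (.br 3606 (.node 230 [] (.br 742 (.node 1318 [] (.br 3366 (.node 1222 [] (.br 3270 (.node 838 [] (.br 1862 (.node 902 [] (.br 2950 (.node 122 [] (.br 250 (.node 314 [] (.br 2362 (.node 570 [] (.br 1594 (.node 1114 [] (.br 3162 (.node 410 [] (.br 922 (.node 362 [] (.br 874 s12_c13 .nil)) .nil)) .nil)) .nil)) .nil)) .nil)) .nil)) .nil)) .nil)) .nil)) .nil)) .nil))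
def s12_c15 : Cert := (.node 94 [] (.br 606 (.node 158 [] (.br 2206 (.node 286 [] (.br 1310 (.node 110 [] (.br 1134 (.node 174 [] (.br 430 (.node 558 [] (.br 2606 (.node 334 [] (.br 2382 (.node 654 [] (.br 1678 (.node 118 [] (.br 2166 (.node 182 [] (.br 1206 (.node 310 [] (.br 822 (.node 214 [] (.br 470 s12_c14 .nil)) .nil)) .nil)) .nil)) .nil)) .nil)) .nil)) .nil)) .nil)) .nil)) .nil)) .nil))
def s12_c16 : Cert := (.node 1577 [] (.br 3625 (.node 1225 [] (.br 3273 (.node 841 [] (.br 2889 (.node 905 [] (.br 1929 (.node 369 [] (.br 2417 (.node 689 [] (.br 1713 (.node 465 [] (.br 1489 (.node 1617 [] (.br 3665 (.node 913 [] (.br 2961 (.node 737 [] (.br 2785 (.node 865 [] (.br 1889 (.node 1441 [] (.br 3489 s12_c15 .nil)) .nil)) .nil)) .nil)) .nil)) .nil)) .nil)) .nil)) .nil)) .nil)) .nil)) .nil))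
def s12_c17 : Cert := (.node 1173 [] (.br 3221 (.node 1125 [] (.br 3173 (.node 421 [] (.br 933 (.node 453 [] (.br 2501 (.node 709 [] (.br 1733 (.node 1797 [] (.br 3845 (.node 121 [] (.br 1145 (.node 185 [] (.br 2233 (.node 313 [] (.br 825 (.node 217 [] (.br 729 (.node 1305 [] (.br 3353 (.node 233 [] (.br 489 s12_c16 .nil)) .nil)) .nil)) .nil)) .nil)) .nil)) .nil)) .nil)) .nil)) .nil)) .nil)) .nil))
def s12_c18 : Cert := (.node 1578 [] (.br 3626 (.node 1226 [] (.br 3274 (.node 842 [] (.br 2890 (.node 906 [] (.br 1930 (.node 370 [] (.br 2418 (.node 690 [] (.br 1714 (.node 466 [] (.br 1490 (.node 1618 [] (.br 3666 (.node 914 [] (.br 2962 (.node 738 [] (.br 2786 (.node 866 [] (.br 1890 (.node 1442 [] (.br 3490 (.done 0x399095a8a418820) .nil)) .nil)) .nil)) .nil)) .nil)) .nil)) .nil)) .nil)) .nil)) .nil)) .nil)) .nil))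
def s12_c19 : Cert := (.node 1174 [] (.br 3222 (.node 1126 [] (.br 3174 (.node 422 [] (.br 934 (.node 454 [] (.br 2502 (.node 710 [] (.br 1734 (.node 1798 [] (.br 3846 (.node 122 [] (.br 1146 (.node 186 [] (.br 2234 (.node 314 [] (.br 826 (.node 218 [] (.br 730 (.node 1306 [] (.br 3354 (.node 234 [] (.br 490 s12_c18 .nil)) .nil)) .nil)) .nil)) .nil)) .nil)) .nil)) .nil)) .nil)) .nil)) .nil)) .nil))
def s12_c20 : Cert := (.node 94 [] (.br 2142 (.node 158 [] (.br 414 (.node 542 [] (.br 1566 (.node 110 [] (.br 622 (.node 174 [] (.br 1198 (.node 302 [] (.br 2350 (.node 334 [] (.br 1358 (.node 654 [] (.br 2702 (.node 118 [] (.br 246 (.node 310 [] (.br 1334 (.node 566 [] (.br 2614 (.node 342 [] (.br 854 s12_c19 .nil)) .nil)) .nil)) .nil)) .nil)) .nil)) .nil)) .nil)) .nil)) .nil)) .nil)) .nil))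
def s12_c21 : Cert := (.node 1193 [] (.br 3241 (.node 457 [] (.br 1481 (.node 713 [] (.br 2761 (.node 1801 [] (.br 3849 (.node 369 [] (.br 1393 (.node 689 [] (.br 2737 (.node 721 [] (.br 1745 (.node 849 [] (.br 2897 (.node 1425 [] (.br 3473 (.node 481 [] (.br 2529 (.node 1633 [] (.br 3681 (.node 929 [] (.br 1953 s12_c20 .nil)) .nil)) .nil)) .nil)) .nil)) .nil)) .nil)) .nil)) .nil)) .nil)) .nil)) .nil))
def s12_c22 : Cert := (.node 1557 [] (.br 3605 (.node 229 [] (.br 741 (.node 1317 [] (.br 3365 (.node 1221 [] (.br 3269 (.node 837 [] (.br 1861 (.node 901 [] (.br 2949 (.node 121 [] (.br 249 (.node 313 [] (.br 2361 (.node 569 [] (.br 1593 (.node 1113 [] (.br 3161 (.node 409 [] (.br 921 (.node 361 [] (.br 873 s12_c21 .nil)) .nil)) .nil)) .nil)) .nil)) .nil)) .nil)) .nil)) .nil)) .nil)) .nil)) .nil))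
def s12_c23 : Cert := (.node 93 [] (.br 605 (.node 1053 [] (.br 1309 (.node 157 [] (.br 2205 (.node 109 [] (.br 1133 (.node 173 [] (.br 429 (.node 557 [] (.br 2605 (.node 333 [] (.br 2381 (.node 653 [] (.br 1677 (.node 309 [] (.br 821 (.node 1077 [] (.br 1205 (.node 117 [] (.br 2165 (.node 213 [] (.br 469 s12_c22 .nil)) .nil)) .nil)) .nil)) .nil)) .nil)) .nil)) .nil)) .nil)) .nil)) .nil)) (.br 2141 (.node 157 [] (.br 413 (.node 541 [] (.br 1565 (.node 173 [] (.br 1197 (.node 109 [] (.br 621 (.node 301 [] (.br 2349 (.node 333 [] (.br 1357 (.node 653 [] (.br 2701 (.node 117 [] (.br 245 (.node 1077 [] (.br 1333 (.node 565 [] (.br 2613 (.node 341 [] (.br 853 s12_c17 .nil)) .nil)) .nil)) .nil)) .nil)) .nil)) .nil)) .nil)) .nil)) .nil)) .nil)) .nil)))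
def s12_c24 : Cert := (.node 812 [] (.br 1836 (.node 460 [] (.br 972 (.node 1612 [] (.br 3660 (.node 1420 [] (.br 3468 (.node 628 [] (.br 1652 (.node 436 [] (.br 2484 (.node 724 [] (.br 2772 (.node 1364 [] (.br 3412 (.node 916 [] (.br 1940 (.node 484 [] (.br 1508 (.node 868 [] (.br 2916 (.node 1700 [] (.br 3748 s12_c23 .nil)) .nil)) .nil)) .nil)) .nil)) .nil)) .nil)) .nil)) .nil)) .nil)) .nil)) .nil))
def s12_c25 : Cert := (.node 787 [] (.br 1811 (.node 227 [] (.br 1251 (.node 803 [] (.br 2851 (.node 451 [] (.br 963 (.node 1347 [] (.br 3395 (.node 1667 [] (.br 3715 (.node 124 [] (.br 380 (.node 188 [] (.br 700 (.node 1084 [] (.br 3132 (.node 220 [] (.br 1244 (.node 796 [] (.br 2844 (.node 236 [] (.br 2284 s12_c24 .nil)) .nil)) .nil)) .nil)) .nil)) .nil)) .nil)) .nil)) .nil)) .nil)) .nil)) .nil))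
def s12_c26 : Cert := (.node 91 [] (.sym 603 0x31d6a424a418820 2139 (.br 347 (.node 2123 [] (.br 2155 (.node 555 [] (.br 683 (.node 299 [] (.br 1323 (.node 587 [] (.br 1611 (.node 539 [] (.br 2587 (.node 155 [] (.br 1179 (.node 395 [] (.br 2443 (.node 1075 [] (.br 3123 (.node 595 [] (.br 627 (.node 179 [] (.br 435 (.node 211 [] (.br 2259 s12_c25 .nil)) .nil)) .nil)) .nil)) .nil)) .nil)) .nil)) .nil)) .nil)) .nil)) .nil)) (.br 2139 (.node 539 [] (.br 1563 (.node 155 [] (.br 411 (.node 331 [] (.br 1355 (.node 107 [] (.br 619 (.node 171 [] (.br 1195 (.node 299 [] (.br 2347 (.node 651 [] (.br 2699 (.node 115 [] (.br 243 (.node 339 [] (.br 851 (.node 307 [] (.br 1331 (.node 563 [] (.br 2611 s12_c12 .nil)) .nil)) .nil)) .nil)) .nil)) .nil)) .nil)) .nil)) .nil)) .nil)) .nil)) .nil))))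
def s12_c27 : Cert := (.node 327 [] (.br 359 (.node 583 [] (.br 2631 (.node 551 [] (.br 1575 (.node 167 [] (.br 2215 (.node 391 [] (.br 1415 (.node 440 [] (.br 1464 (.node 2616 [] (.br 2680 (.node 472 [] (.br 2520 (.node 856 [] (.br 1880 (.node 1688 [] (.br 3736 (.node 744 [] (.br 1768 (.node 1384 [] (.br 3432 s12_c26 .nil)) .nil)) .nil)) .nil)) .nil)) .nil)) .nil)) .nil)) .nil)) .nil)) .nil)) .nil))
def s12_c28 : Cert := (.node 31 [197,230,263,296,329,362] (.br 63 (.node 79 [263,296,329,362] (.br 207 (.node 271 [329,362] (.br 783 (.node 1039 [] (.br 3087 (.node 496 [362] (.br 1008 (.node 1264 [] (.br 3312 (.node 1840 [] (.br 3888 (.node 1984 [] (.br 4032 (.node 87 [296,362] (.sym 343 0x4a16a398a418820 1111 (.br 1111 (.node 2976 [] (.br 2984 (.node 279 [] (.sym 407 0x399285a8a418820 2327 (.br 2327 (.node 151 [] (.br 663 s12_c27 .nil)) .nil))) .nil)) .nil))) .nil)) .nil)) .nil)) .nil)) .nil)) .nil)) .nil)) .nil))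
def s12_cert : Cert := s12_c28

theorem s12_check : stCheck 12 5 6 29 5 6 s12_std s12_cert = true := by decide +kernel

end CL.Spor.Des
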