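import Cfsg.Agent.Spor.J23CertBC0
import Cfsg.Agent.Spor.J23CertBC1
import Cfsg.Agent.Spor.J23CertBC2
import Cfsg.Agent.Spor.J23CertBC3

/-! coset enumeration certificate generated by tools/tc -/

set_option maxRecDepth 100000
set_option autoImplicit false
set_option linter.all false

namespace CL.TC.J23B

theorem mz0 : AllZ mF 1 (nat_lit 33321) := (AllZ.step (AllZ.step (AllZ.step (AllZ.step (AllZ.step (AllZ.step (AllZ.step (AllZ.step (AllZ.step (AllZ.step (AllZ.step (AllZ.step (AllZ.step (AllZ.step (AllZ.step (AllZ.step (AllZ.step (AllZ.step (AllZ.step (AllZ.step (AllZ.nil mF 1) (nat_lit 1666) (nat_lit 1667) rfl m0) (nat_lit 1666) (nat_lit 3333) rfl m1) (nat_lit 1666) (nat_lit 4999) rfl m2) (nat_lit 1666) (nat_lit 6665) rfl m3) (nat_lit 1666) (nat_lit 8331) rfl m4) (nat_lit 1666) (nat_lit 9997) rfl m5) (nat_lit 1666) (nat_lit 11663) rfl m6) (nat_lit 1666) (nat_lit 13329) rfl m7) (nat_lit 1666) (nat_lit 14995) rfl m8) (nat_lit 1666) (nat_lit 16661) rfl m9) (nat_lit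 1666) (nat_lit 18327) rfl m10) (nat_lit 1666) (nat_lit 19993) rfl m11) (nat_lit 1666) (nat_lit 21659) rfl m12) (nat_lit 1666) (nat_lit 23325) rfl m13) (nat_lit 1666) (nat_lit 24991) rfl m14) (nat_lit 1666) (nat_lit 26657) rfl m15) (nat_lit 1666) (nat_lit 28323) rfl m16) (nat_lit 1666) (nat_lit 29989) rfl m17) (nat_lit 1666) (nat_lit 31655) rfl m18) (nat_lit 1666) (nat_lit 33321) rfl m19)
theorem mz1 : AllZ mF 1 (nat_lit 66641) := (AllZ.step (AllZ.step (AllZ.step (AllZ.step (AllZ.step (AllZ.step (AllZ.step (AllZ.step (AllZ.step (AllZ.step (AllZ.step (AllZ.step (AllZ.step (AllZ.step (AllZ.step (AllZ.step (AllZ.step (AllZ.step (AllZ.step (AllZ.step mz0 (nat_lit 1666) (nat_lit 34987) rfl m20) (nat_lit 1666) (nat_lit 36653) rfl m21) (nat_lit 1666) (nat_lit 38319) rfl m22) (nat_lit 1666) (nat_lit 39985) rfl m23) (nat_lit 1666) (nat_lit 41651) rfl m24) (nat_lit 1666) (nat_lit 43317) rfl m25) (nat_lit 1666) (nat_lit 44983) rfl m26) (nat_lit 1666) (nat_lit 46649) rfl m27)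 (nat_lit 1666) (nat_lit 48315) rfl m28) (nat_lit 1666) (nat_lit 49981) rfl m29) (nat_lit 1666) (nat_lit 51647) rfl m30) (nat_lit 1666) (nat_lit 53313) rfl m31) (nat_lit 1666) (nat_lit 54979) rfl m32) (nat_lit 1666) (nat_lit 56645) rfl m33) (nat_lit 1666) (nat_lit 58311) rfl m34) (nat_lit 1666) (nat_lit 59977) rfl m35) (nat_lit 1666) (nat_lit 61643) rfl m36) (nat_lit 1666) (nat_lit 63309) rfl m37) (nat_lit 1666) (nat_lit 64975) rfl m38) (nat_lit 1666) (nat_lit 66641) rfl m39)
theorem mz2 : AllZ mF 1 (nat_lit 78490) := (AllZ.step (AllZ.step (AllZ.step (AllZ.step (AllZ.step (AllZ.step (AllZ.step (AllZ.step mz1 (nat_lit 1666) (nat_lit 68307) rfl m40) (nat_lit 1666) (nat_lit 69973) rfl m41) (nat_lit 1666) (nat_lit 71639) rfl m42) (nat_lit 1666) (nat_lit 73305) rfl m43) (nat_lit 1666) (nat_lit 74971) rfl m44) (nat_lit 1666) (nat_lit 76637) rfl m45) (nat_lit 1666) (nat_lit 78303) rfl m46) (nat_lit 187) (nat_lit 78490) rfl m47)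
theorem xz0 : XZ xF (nat_lit 1085) := (XZ.step (XZ.step (XZ.step (XZ.step (XZ.step (XZ.step (XZ.step (XZ.step (XZ.step (XZ.step (XZ.step (XZ.step (XZ.step (XZ.step (XZ.step (XZ.step (XZ.step (XZ.step (XZ.step (XZ.step (XZ.nil xF) s0 (nat_lit 1) (nat_lit 52) (by decide +kernel) x0) s1 (nat_lit 53) (nat_lit 105) (by decide +kernel) x1) s2 (nat_lit 106) (nat_lit 157) (by decide +kernel) x2) s3 (nat_lit 158) (nat_lit 209) (by decide +kernel) x3) s4 (nat_lit 210) (nat_lit 261) (by decide +kernel) x4) s5 (nat_lit 262) (nat_lit 312) (by decide +kernel) x5) s6 (nat_lit 313) (nat_lit 363) (by decide +kernel) x6) s7 (nat_lit 364) (nat_lit 414) (by decide +kernel) x7) s8 (nat_lit 415) (nat_lit 465) (by decide +kernel) x8) s9 (nat_lit 466) (nat_lit 518) (by decide +kernel) x9) s10 (nat_lit 519) (nat_lit 571) (by decide +kernel) x10) s11 (nat_lit 572) (nat_lit 626) (by decide +kernel) x11) s12 (nat_lit 627) (nat_lit 681) (by decide +kernel) x12) s13 (nat_lit 682) (nat_lit 737)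 (by decide +kernel) x13) s14 (nat_lit 738) (nat_lit 794) (by decide +kernel) x14) s15 (nat_lit 795) (nat_lit 852) (by decide +kernel) x15) s16 (nat_lit 853) (nat_lit 910) (by decide +kernel) x16) s17 (nat_lit 911) (nat_lit 969) (by decide +kernel) x17) s18 (nat_lit 970) (nat_lit 1026) (by decide +kernel) x18) s19 (nat_lit 1027) (nat_lit 1085) (by decide +kernel) x19)
theorem xz1 : XZ xF (nat_lit 2150) := (XZ.step (XZ.step (XZ.step (XZ.step (XZ.step (XZ.step (XZ.step (XZ.step (XZ.step (XZ.step (XZ.step (XZ.step (XZ.step (XZ.step (XZ.step (XZ.step (XZ.step (XZ.step (XZ.step (XZ.step xz0 s20 (nat_lit 1086) (nat_lit 1143) (by decide +kernel) x20) s21 (nat_lit 1144) (nat_lit 1201) (by decide +kernel) x21) s22 (nat_lit 1202) (nat_lit 1260) (by decide +kernel) x22) s23 (nat_lit 1261) (nat_lit 1317) (by decide +kernel) x23) s24 (nat_lit 1318) (nat_lit 1377) (by decide +kernel) x24) s25 (nat_lit 1378) (nat_lit 1437) (by decide +kernel) x25) s26 (nat_lit 1438) (nat_lit 1496)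 (by decide +kernel) x26) s27 (nat_lit 1497) (nat_lit 1544) (by decide +kernel) x27) s28 (nat_lit 1545) (nat_lit 1591) (by decide +kernel) x28) s29 (nat_lit 1592) (nat_lit 1638) (by decide +kernel) x29) s30 (nat_lit 1639) (nat_lit 1688) (by decide +kernel) x30) s31 (nat_lit 1689) (nat_lit 1739) (by decide +kernel) x31) s32 (nat_lit 1740) (nat_lit 1791) (by decide +kernel) x32) s33 (nat_lit 1792) (nat_lit 1842) (by decide +kernel) x33) s34 (nat_lit 1843) (nat_lit 1894) (by decide +kernel) x34) s35 (nat_lit 1895) (nat_lit 1947) (by decide +kernel) x35) s36 (nat_lit 1948) (nat_lit 1997) (by decide +kernel) x36) s37 (nat_lit 1998) (nat_lit 2049) (by decide +kernel) x37) s38 (nat_lit 2050) (nat_lit 2100) (by decide +kernel) x38) s39 (nat_lit 2101) (nat_lit 2150) (by decide +kernel) x39)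
theorem xz2 : XZ xF (nat_lit 3121) := (XZ.step (XZ.step (XZ.step (XZ.step (XZ.step (XZ.step (XZ.step (XZ.step (XZ.step (XZ.step (XZ.step (XZ.step (XZ.step (XZ.step (XZ.step (XZ.step (XZ.step (XZ.step (XZ.step (XZ.step xz1 s40 (nat_lit 2151) (nat_lit 2201) (by decide +kernel) x40) s41 (nat_lit 2202) (nat_lit 2252) (by decide +kernel) x41) s42 (nat_lit 2253) (nat_lit 2303) (by decide +kernel) x42) s43 (nat_lit 2304) (nat_lit 2353) (by decide +kernel) x43) s44 (nat_lit 2354) (nat_lit 2403) (by decide +kernel) x44) s45 (nat_lit 2404) (nat_lit 2453) (by decide +kernel) x45) s46 (nat_lit 2454) (nat_lit 2502) (by decide +kernel) x46) s47 (nat_lit 2503) (nat_lit 2550) (by decide +kernel) x47) s48 (nat_lit 2551) (nat_lit 2598) (by decide +kernel) x48) s49 (nat_lit 2599) (nat_lit 2646) (by decide +kernel) x49) s50 (nat_lit 2647) (nat_lit 2694) (by decide +kernel) x50) s51 (nat_lit 2695) (nat_lit 2743) (by decide +kernel) x51) s52 (nat_lit 2744) (nat_lit 2795) (by decide +kernel)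 x52) s53 (nat_lit 2796) (nat_lit 2839) (by decide +kernel) x53) s54 (nat_lit 2840) (nat_lit 2887) (by decide +kernel) x54) s55 (nat_lit 2888) (nat_lit 2936) (by decide +kernel) x55) s56 (nat_lit 2937) (nat_lit 2983) (by decide +kernel) x56) s57 (nat_lit 2984) (nat_lit 3030) (by decide +kernel) x57) s58 (nat_lit 3031) (nat_lit 3076) (by decide +kernel) x58) s59 (nat_lit 3077) (nat_lit 3121) (by decide +kernel) x59)
theorem xz3 : XZ xF (nat_lit 4046) := (XZ.step (XZ.step (XZ.step (XZ.step (XZ.step (XZ.step (XZ.step (XZ.step (XZ.step (XZ.step (XZ.step (XZ.step (XZ.step (XZ.step (XZ.step (XZ.step (XZ.step (XZ.step (XZ.step (XZ.step xz2 s60 (nat_lit 3122) (nat_lit 3168) (by decide +kernel) x60) s61 (nat_lit 3169) (nat_lit 3215) (by decide +kernel) x61) s62 (nat_lit 3216) (nat_lit 3262) (by decide +kernel) x62) s63 (nat_lit 3263) (nat_lit 3309) (by decide +kernel) x63) s64 (nat_lit 3310) (nat_lit 3356) (by decide +kernel) x64) s65 (nat_lit 3357) (nat_lit 3403) (by decide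 +kernel) x65) s66 (nat_lit 3404) (nat_lit 3449) (by decide +kernel) x66) s67 (nat_lit 3450) (nat_lit 3495) (by decide +kernel) x67) s68 (nat_lit 3496) (nat_lit 3541) (by decide +kernel) x68) s69 (nat_lit 3542) (nat_lit 3586) (by decide +kernel) x69) s70 (nat_lit 3587) (nat_lit 3632) (by decide +kernel) x70) s71 (nat_lit 3633) (nat_lit 3679) (by decide +kernel) x71) s72 (nat_lit 3680) (nat_lit 3725) (by decide +kernel) x72) s73 (nat_lit 3726) (nat_lit 3771) (by decide +kernel) x73) s74 (nat_lit 3772) (nat_lit 3817) (by decide +kernel) x74) s75 (nat_lit 3818) (nat_lit 3863) (by decide +kernel) x75) s76 (nat_lit 3864) (nat_lit 3909) (by decide +kernel) x76) s77 (nat_lit 3910) (nat_lit 3955) (by decide +kernel) x77) s78 (nat_lit 3956) (nat_lit 4001) (by decide +kernel) x78) s79 (nat_lit 4002) (nat_lit 4046) (by decide +kernel) x79)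
theorem xz4 : XZ xF (nat_lit 4829) := (XZ.step (XZ.step (XZ.step (XZ.step (XZ.step (XZ.step (XZ.step (XZ.step (XZ.step (XZ.step (XZ.step (XZ.step (XZ.step (XZ.step (XZ.step (XZ.step (XZ.step xz3 s80 (nat_lit 4047) (nat_lit 4092) (by decide +kernel) x80) s81 (nat_lit 4093) (nat_lit 4138) (by decide +kernel) x81) s82 (nat_lit 4139) (nat_lit 4184) (by decide +kernel) x82) s83 (nat_lit 4185) (nat_lit 4230) (by decide +kernel) x83) s84 (nat_lit 4231) (nat_lit 4277) (by decide +kernel) x84) s85 (nat_lit 4278) (nat_lit 4324) (by decide +kernel) x85) s86 (nat_lit 4325) (nat_lit 4371) (by decide +kernel) x86) s87 (nat_lit 4372) (nat_lit 4419) (by decide +kernel) x87) s88 (nat_lit 4420) (nat_lit 4466) (by decide +kernel) x88) s89 (nat_lit 4467) (nat_lit 4513) (by decide +kernel) x89) s90 (nat_lit 4514) (nat_lit 4560) (by decide +kernel) x90) s91 (nat_lit 4561) (nat_lit 4606) (by decide +kernel) x91) s92 (nat_lit 4607) (nat_lit 4652) (by decide +kernel) x92) s93 (nat_lit 4653)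 (nat_lit 4699) (by decide +kernel) x93) s94 (nat_lit 4700) (nat_lit 4746) (by decide +kernel) x94) s95 (nat_lit 4747) (nat_lit 4795) (by decide +kernel) x95) s96 (nat_lit 4796) (nat_lit 4829) (by decide +kernel) x96)
/-- the certificate (78489 points) is valid -/
theorem valid : cert.Valid (fun i => invL.getD i i) rels subs 6 :=
  ⟨by decide +kernel, tabok, by decide +kernel, mz2, xz4⟩
theorem cert_N : cert.N = 78489 := rfl

end CL.TC.J23B
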