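/- data for the Hall-Janko group (generated by tools/mx) -/
import Cfsg.Agent.Spor.J2U

set_option autoImplicit false
set_option maxRecDepth 100000

namespace CL.J2

open CL.Mx

noncomputable def xc : ℕ :=
 0xb41d622035a9feaabf06c8970cba7fa95fd5

noncomputable def z0 : ℕ :=
 0x800400200100280e4002001000800400a039

theorem slpN : (ops2 12).slp [xc] aS0 [.mul 2 3, .mul 1 5, .mul 2 1, .mul 5 4, .mul 6 4, .mul 9 1, .mul 4 8, .mul 10 4,
 .mul 1 11, .mul 12 13, .mul 13 10, .mul 14 15, .mul 16 1, .mul 7 17, .mul 16 18, .mul 19 17,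
 .mul 19 20, .inv 21 (0x4b40268a31d0601dcdd269a68c141705937a), .conj 0 21 22, .mul 23 0, .mul 23 0, .mul 25 23, .mul 25 24, .mul 0 25,
 .mul 23 27, .mul 23 26, .mul 0 30, .mul 28 23, .mul 32 23, .mul 29 23, .mul 34 31, .mul 30 33,
 .mul 36 35, .mul 29 31, .mul 38 33, .mul 28 36, .mul 36 31, .mul 37 41, .mul 42 39, .mul 33 43,
 .mul 41 40, .mul 44 39, .mul 36 43, .mul 45 46, .mul 43 44, .mul 44 47, .mul 49 48, .mul 40 47,
 .mul 51 50, .mul 52 51, .mul 40 48, .mul 45 54, .mul 48 40, .mul 40 54, .mul 56 48, .mul 54 53,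
 .mul 58 56, .mul 56 60, .mul 48 48, .mul 51 58, .mul 51 53, .mul 62 53, .mul 62 66, .mul 64 66,
 .mul 48 56, .mul 48 56, .mul 68 48, .mul 48 51, .mul 66 70, .mul 70 68, .mul 74 62, .mul 72 74,
 .mul 66 66, .mul 76 48, .mul 62 74, .mul 78 79, .mul 79 74, .mul 48 80, .mul 74 80, .mul 83 82,
 .mul 84 80, .mul 84 84, .mul 57 55, .mul 59 87, .mul 67 88, .mul 71 89, .mul 77 90, .inv 91 (0x4d8167ca739aec131360b9e29d569407a4df),
 .mul 92 86, .mul 81 82, .mul 82 85, .mul 61 59, .mul 65 96, .mul 69 97, .mul 75 98, .inv 99 (0xae519a8a7af8110c5b94e69c9c5e134146ea),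
 .mul 100 95, .mul 82 84, .mul 94 102, .mul 61 59, .mul 63 104, .mul 65 105, .mul 67 106, .mul 69 107,
 .mul 71 108, .inv 109 (0x885fe9087461bc8cee167a561c5870227b9d), .mul 110 103, .mul 101 111, .mul 112 101, .mul 93 113, .mul 101 111, .mul 101 113,
 .mul 116 114, .mul 116 115, .mul 116 118, .mul 101 93, .mul 93 117, .mul 116 120, .mul 119 101, .mul 119 122,
 .mul 123 93, .mul 122 125, .mul 125 124, .mul 121 126, .mul 123 125, .mul 129 126, .mul 126 130, .mul 128 127,
 .mul 126 123, .mul 133 131, .mul 116 134, .mul 131 132, .mul 131 135, .mul 127 137, .mul 131 136, .mul 138 127,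
 .mul 140 123, .mul 141 131, .mul 139 140, .mul 116 141, .mul 116 139, .mul 142 139, .mul 139 116, .mul 139 144,
 .mul 138 146, .mul 146 138, .mul 144 144, .mul 148 138, .mul 152 138, .mul 144 152, .mul 138 150, .mul 150 116,
 .mul 140 152, .mul 152 116, .mul 152 154, .mul 156 116, .mul 160 159, .mul 145 143, .mul 153 162, .inv 163 (0xeb0db8200d005bcb62c0ae0e008034f2a88f),
 .mul 164 161, .mul 160 160, .mul 147 143, .mul 151 167, .mul 153 168, .mul 155 169, .inv 170 (0x70cb04200f004bce5e31012800803cf2e7a7), .mul 171 166,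
 .mul 172 172, .mul 165 165, .mul 172 174, .mul 173 174, .mul 172 165, .mul 165 177, .mul 174 165, .mul 178 179,
 .mul 175 172, .mul 180 165, .mul 179 175, .mul 182 176, .mul 183 181, .mul 185 176, .mul 186 181, .mul 187 184,
 .mul 188 186, .mul 187 189, .mul 190 175, .mul 191 186, .mul 191 190, .mul 192 193, .mul 191 194, .mul 153 195,
 .mul 155 196, .mul 157 197, .mul 143 195, .mul 149 199, .mul 151 200, .mul 155 201, .mul 145 143, .mul 149 203,
 .mul 153 204, .mul 157 205, .mul 55 206, .mul 57 207, .mul 61 208, .mul 63 209, .mul 67 210, .mul 75 211,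
 .mul 149 145, .mul 155 213, .mul 158 214, .mul 59 215, .mul 65 216, .mul 67 217, .mul 71 218, .mul 73 219,
 .mul 75 220, .mul 77 221] [] [] aS0 [198,202,212,222] = true := by decide +kernel

theorem x_pow : Nat.beq ((ops2 12).powK xc 3 7) (one2 12) = true := by decide +kernel

theorem x_ne : (ops2 12).neOff 3 w3 w3 [(1, xc)] [] 0 0 1 = true := by decide +kernel

theorem x_cnt : (ops2 12).commCnt 3 w3 kB kF uB uF [xc] 6048 13 100 = 7 := by decide +kernel

theorem z_cnt : (ops2 12).commCnt 3 w3 kB kF uB uF [z0] 6048 13 100 = 1920 := by decide +kernel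

noncomputable def qS : List ℕ :=
 [0x400800200f0098837801002000803c22ee35,
 0xa30630200f08a84d54c18c2800823412e521,
 0xa00600200d0088074002801800803402201d,
 0x800400200d00a8064002001000803402a019]

noncomputable def qB : List ℕ :=
 [0x600a00200300f8887801802800800c236e19,
 0xa306302003082b4964c18c28008204d3e901,
 0xa30630200f08884354c18c28008234126519,
 0xa00600200100280d4002801800800400a035,
 0x800400200100280e4002001000800400a039]

noncomputable def qF : List ℕ :=
 [0x2d8b1be8,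
 0x33cc3c39,
 0xd8363969,
 0x4190b7dd,
 0x84dea66a]

theorem qslp : (ops2 12).slp [] qS [.mul 2 3, .mul 1 1, .mul 0 4, .mul 0 1, .mul 6 7, .mul 5 3, .mul 0 5, .mul 0 0,
 .mul 9 0, .mul 6 11, .mul 9 12, .mul 12 10, .mul 8 10, .mul 10 15, .mul 14 16, .mul 13 17,
 .mul 11 14, .mul 17 20, .mul 17 18, .mul 19 10, .mul 17 23, .mul 24 14, .mul 19 17, .mul 17 26,
 .mul 27 14, .mul 17 25, .mul 29 28, .mul 22 29, .mul 27 31, .mul 21 31, .mul 22 25, .mul 25 21,
 .mul 30 33, .mul 32 25, .mul 21 25, .mul 32 38, .mul 30 32, .mul 36 40, .mul 36 34] qB [35,37,39,41,42] [] [] = true := by decide +kernel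

theorem qpl : planesOk qF 32 14 = true := by decide +kernel

theorem qkeys : keysR 12 3 w3 (zipL qF qB) 32 = true := by decide +kernel

noncomputable def qN0 : List (ℕ × ℕ) :=
 [(16, 0x82d8),
 (8, 0xf8007c),
 (4, 0x80e0000),
 (2, 0x20022),
 (1, 0x15541544),
 (2, 0x22201113),
 (4, 0xb060509),
 (8, 0x4600d4),
 (16, 0x26b3)]

theorem qsch0 : (ops2 12).schreier 3 w3 qB qF [] (0x400800200f0098837801002000803c22ee35) qN0 [] 0 32 = true := by decide +kernel

noncomputable def qN1 : List (ℕ × ℕ) :=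
 [(16, 0x926c),
 (8, 0xd600e0),
 (4, 0xa08080c),
 (2, 0x20),
 (1, 0x50050544),
 (2, 0x20011320),
 (4, 0x7050a0f),
 (8, 0x2900ce),
 (16, 0x926c)]

theorem qsch1 : (ops2 12).schreier 3 w3 qB qF [] (0xa30630200f08a84d54c18c2800823412e521) qN1 [] 0 32 = true := by decide +kernel

noncomputable def qN2 : List (ℕ × ℕ) :=
 [(16, 0x9c5c),
 (8, 0xdc000a),
 (4, 0x80a040c),
 (2, 0x2020),
 (1, 0x51051510),
 (2, 0x21223201),
 (4, 0x5030607),
 (8, 0x2004b),
 (16, 0x318)]

theorem qsch2 : (ops2 12).schreier 3 w3 qB qF [] (0xa00600200d0088074002801800803402201d) qN2 [] 0 32 = true := by decide +kernel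

noncomputable def qN3 : List (ℕ × ℕ) :=
 [(16, 0x6c88),
 (8, 0x8e00e0),
 (4, 0x20a0208),
 (2, 0x2000200),
 (1, 0x4415405),
 (2, 0x12330213),
 (4, 0x805020a),
 (8, 0x8e00e8),
 (16, 0x4d8e)]

theorem qsch3 : (ops2 12).schreier 3 w3 qB qF [] (0x800400200d00a8064002001000803402a019) qN3 [] 0 32 = true := by decide +kernel

noncomputable def cS : List ℕ :=
 [0x43083023071098fd47c20c10c3840c3e91f2,
 0xd2031000830430204981441c20810808e248]

noncomputable def cB : List ℕ :=
 [0x710520c004302f8c5f40c834030c20e337ee,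
 0x22cc1400810c232753b24524208308cba4ce,
 0xc1002000830cd3e1d5420820208300f8a552,
 0x918b28038524415fa263ca04e3893054589c,
 0x63c834200300f8c6c6f24d1400800c33219d,
 0x420c038b1cd2d39f104304e38730b597d1,
 0x20400c23052089b92d10c30cc388346f9b49]

noncomputable def cF : List ℕ :=
 [0xe2d8a46d7a27c50,
 0x1cf37370d85577,
 0x9717345f2ef1ec7,
 0xc5f490674218669,
 0x77a1aba8b7744e,
 0x3906a3aea2a400c,
 0x440200428c20402]

theorem cslp : (ops2 12).slp [] cS [.mul 1 1, .mul 0 2, .mul 1 0, .mul 1 0, .mul 3 4, .mul 0 0, .mul 6 0, .mul 5 7,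
 .mul 0 9, .mul 7 9, .mul 10 11, .mul 12 8, .mul 7 1, .mul 11 13, .mul 14 12, .mul 11 15,
 .mul 11 3, .mul 1 12, .mul 1 18, .mul 20 17, .mul 16 19, .mul 19 22, .mul 23 17, .mul 21 11,
 .mul 24 21, .mul 17 1, .mul 25 26, .mul 22 27, .mul 24 25, .mul 29 22, .mul 28 1, .mul 30 30,
 .mul 31 32, .mul 34 25, .mul 28 25, .mul 34 31, .mul 30 34, .mul 31 38, .mul 38 30, .mul 40 31,
 .mul 36 40, .mul 31 42, .mul 29 42, .mul 38 44] cB [33,35,37,39,41,43,45] [] [] = true := by decide +kernel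

theorem cpl : planesOk cF 60 42 = true := by decide +kernel

theorem ckeys : keysR 12 3 w3 (zipL cF cB) 60 = true := by decide +kernel

noncomputable def cN0 : List (ℕ × ℕ) :=
 [(32, 0x9b1af874),
 (16, 0x7d020000c380),
 (8, 0xf8001600640076),
 (4, 0x4040e0006080608),
 (2, 0x220020020000002),
 (1, 0x140511144011501),
 (2, 0x110020003121210),
 (4, 0xb0b0e0c08080108),
 (8, 0xf001e00660074),
 (16, 0x758e0000ec4f),
 (32, 0x9b1af874)]

theorem csch0 : (ops2 12).schreier 3 w3 cB cF [] (0x43083023071098fd47c20c10c3840c3e91f2) cN0 [] 0 60 = true := by decide +kernel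

noncomputable def cN1 : List (ℕ × ℕ) :=
 [(32, 0x55cca41a),
 (16, 0xea1400008a4c),
 (8, 0x5e00c0002200e2),
 (4, 0x800060808040c0a),
 (2, 0x202000000000000),
 (1, 0x5411545000150510),
 (2, 0x121313020200231),
 (4, 0x40d0708000a0801),
 (8, 0x9008500a400b5),
 (16, 0xb0220000ab25),
 (32, 0x5b4c7ba6)]

theorem csch1 : (ops2 12).schreier 3 w3 cB cF [] (0xd2031000830430204981441c20810808e248) cN1 [] 0 60 = true := by decide +kernel

theorem slpQ : (ops2 12).slp [] aS0 [.mul 0 1, .mul 1 4, .mul 3 2, .mul 6 1, .mul 0 5, .mul 1 8, .mul 1 3, .mul 7 9,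
 .mul 1 11, .mul 11 0, .mul 13 7, .mul 12 13, .mul 13 11, .mul 16 1, .mul 1 10, .mul 10 15,
 .mul 18 13, .mul 13 19, .mul 21 17, .mul 17 22, .mul 19 14, .mul 10 20, .mul 25 24, .mul 14 10,
 .mul 14 25, .mul 23 22, .mul 29 27, .mul 30 27, .mul 25 31, .mul 26 27, .mul 32 27, .mul 33 33,
 .mul 33 31, .mul 36 31, .mul 36 27, .mul 38 22, .mul 34 31, .mul 36 28, .mul 36 22, .mul 42 38,
 .mul 40 42, .mul 22 31, .mul 28 31, .mul 22 46, .mul 38 22, .mul 46 44, .mul 31 49, .mul 46 31,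
 .mul 46 48, .mul 51 22, .mul 53 49, .mul 53 46, .mul 55 55, .mul 42 48, .mul 55 57, .mul 55 53,
 .mul 53 22, .mul 59 58, .mul 61 61, .mul 39 35, .mul 43 63, .mul 45 64, .mul 47 65, .mul 50 66,
 .mul 56 67, .inv 68 (0x273711ab4dc882e049cfa44dd1e23fb8e248), .mul 69 62, .mul 60 49, .mul 43 37, .mul 45 72, .mul 47 73, .mul 52 74,
 .inv 75 (0x9e636468d0997e26f298192935765b8bdca9), .mul 76 71, .mul 70 70, .mul 70 70, .mul 70 79, .mul 78 77, .mul 78 77, .mul 82 80,
 .mul 79 77, .mul 81 82, .mul 83 79, .mul 82 84, .mul 77 79, .mul 86 84, .mul 85 87, .mul 85 90,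
 .mul 86 88, .mul 90 91, .mul 90 89, .mul 89 79, .mul 79 86, .mul 93 94, .mul 79 96, .mul 79 93,
 .mul 98 99, .mul 99 92, .mul 100 93, .mul 95 93, .mul 103 102, .mul 104 97, .mul 97 101, .mul 105 106,
 .mul 105 95, .mul 108 97, .mul 107 92, .mul 110 102, .mul 108 97, .mul 110 112, .mul 95 92, .mul 102 110,
 .mul 92 112, .mul 102 92, .mul 102 110, .mul 92 97, .mul 116 110, .mul 118 114, .mul 110 120, .mul 114 110,
 .mul 122 114, .mul 97 114, .mul 97 125, .mul 111 109, .mul 115 127, .mul 117 128, .mul 119 129, .inv 130 (0x830430200f08a8405cc10c2000823412e71d),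
 .mul 131 126, .mul 97 124, .mul 111 109, .mul 117 134, .mul 119 135, .mul 123 136, .inv 137 (0x70cb04200f006bc05631012800803cf26597), .mul 138 133,
 .mul 139 139, .mul 139 140, .mul 141 132, .mul 132 139, .mul 143 139, .mul 143 140, .mul 141 145, .mul 145 143,
 .mul 146 142, .mul 142 144, .mul 142 148, .mul 149 143, .mul 149 151, .mul 142 147, .mul 150 153, .mul 149 154,
 .mul 155 150, .mul 152 147, .mul 157 147, .mul 156 158, .mul 121 117, .mul 123 160, .mul 115 159, .mul 121 162,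
 .mul 109 159, .mul 117 164, .mul 123 165, .mul 109 159, .mul 113 167, .mul 115 168, .mul 117 169, .mul 123 170,
 .mul 41 37, .mul 43 172, .mul 47 173, .mul 50 174, .mul 52 175, .mul 56 176, .mul 115 111, .mul 117 178,
 .mul 119 179, .mul 121 180, .mul 123 181, .mul 39 182, .mul 41 183, .mul 45 184, .mul 50 185, .mul 52 186,
 .mul 54 187, .mul 56 188] (qS ++ cS) [161,163,166,171,177,189] [] [] = true := by decide +kernel

noncomputable def cqL : List (ℕ × List ℕ) :=
 [(0x43083023071098fd47c20c10c3840c3e91f2, [0x400800200300d8877801002000800c23ee25,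
 0xa0060020010008034002801800800400200d,
 0xa306302003082b4964c18c28008204d3e901,
 0x800400200d00a8064002001000803402a019]),
 (0xd2031000830430204981441c20810808e248, [0x400800200f0098837801002000803c22ee35,
 0x630a30200d08b84854c28c1800823c12a535,
 0x830430200f08a8405cc10c2000823412e71d,
 0xa30630200f08884354c18c28008234126519])]

theorem cq_norm : (ops2 12).normOk qS cqL = true := by decide +kernel

theorem slpCQ : (ops2 12).slp [] qS [.mul 2 3, .mul 1 1, .mul 0 4, .mul 0 1, .mul 6 7, .mul 5 3, .mul 0 5, .mul 0 0,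
 .mul 9 0, .mul 6 11, .mul 9 12, .mul 12 10, .mul 8 10, .mul 10 15, .mul 14 16, .mul 13 17,
 .mul 11 14, .mul 17 20, .mul 17 18, .mul 19 10, .mul 17 23, .mul 24 14, .mul 19 17, .mul 17 26,
 .mul 27 14, .mul 17 25, .mul 29 28, .mul 22 29, .mul 27 31, .mul 21 31, .mul 22 25, .mul 25 21,
 .mul 30 33, .mul 32 25, .mul 21 25, .mul 32 38, .mul 30 32, .mul 36 40, .mul 36 34, .mul 41 35,
 .mul 42 41, .mul 39 37, .mul 37 35, .mul 39 46, .mul 41 47, .mul 39 35, .mul 41 49, .mul 41 39] (z0 :: cqL.flatMap Prod.snd) [42,43,44,37,45,48,50,51,39] [] [] = true := by decide +kernel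

theorem c_pow : Nat.beq ((ops2 12).powM 3 w3 (zipL cF cB) 60 [2, 3, 5]) (low 60) = true := by decide +kernel

theorem z_comm : (ops2 12).commAll z0 (qS ++ cS) = true := by decide +kernel

theorem q_extra : (ops2 12).extraOk 3 w3 qS qB qF z0 32 5 12 = true := by decide +kernel

variable {G : Type*} [Group G] {ρ : Act2 G 12}

theorem qinB (h : ρ.model.AllIn ⊤ qS) : ρ.model.AllIn (ρ.model.gen qS) qB :=
  Model.slp_mem h.gen qslp

theorem qflat (hF : ρ.model.Faith 3 w3) (h : ρ.model.AllIn ⊤ qS) :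
    Model.Flat (ρ.model.gen qS) (ρ.model.tr qB qF) 32 := by
  refine flat_of_cert (qinB h) qpl ?_ qkeys
  refine List.forall_mem_cons.2 ⟨?_, List.forall_mem_cons.2 ⟨?_, List.forall_mem_cons.2 ⟨?_, List.forall_mem_cons.2 ⟨?_, List.forall_mem_nil _⟩⟩⟩⟩
  · exact Model.Schr.step hF (qinB h) (Model.allIn_nil _) (h _ (List.Mem.head _)).1 qpl (Model.schr_zero _ _ _ _ _) qsch0
  · exact Model.Schr.step hF (qinB h) (Model.allIn_nil _) (h _ (List.Mem.tail _ (List.Mem.head _))).1 qpl (Model.schr_zero _ _ _ _ _) qsch1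
  · exact Model.Schr.step hF (qinB h) (Model.allIn_nil _) (h _ (List.Mem.tail _ (List.Mem.tail _ (List.Mem.head _)))).1 qpl (Model.schr_zero _ _ _ _ _) qsch2
  · exact Model.Schr.step hF (qinB h) (Model.allIn_nil _) (h _ (List.Mem.tail _ (List.Mem.tail _ (List.Mem.tail _ (List.Mem.head _))))).1 qpl (Model.schr_zero _ _ _ _ _) qsch3

theorem cinB (h : ρ.model.AllIn ⊤ cS) : ρ.model.AllIn (ρ.model.gen cS) cB :=
  Model.slp_mem h.gen cslp

theorem cflat (hF : ρ.model.Faith 3 w3) (h : ρ.model.AllIn ⊤ cS) :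
    Model.Flat (ρ.model.gen cS) (ρ.model.tr cB cF) 60 := by
  refine flat_of_cert (cinB h) cpl ?_ ckeys
  refine List.forall_mem_cons.2 ⟨?_, List.forall_mem_cons.2 ⟨?_, List.forall_mem_nil _⟩⟩
  · exact Model.Schr.step hF (cinB h) (Model.allIn_nil _) (h _ (List.Mem.head _)).1 cpl (Model.schr_zero _ _ _ _ _) csch0
  · exact Model.Schr.step hF (cinB h) (Model.allIn_nil _) (h _ (List.Mem.tail _ (List.Mem.head _))).1 cpl (Model.schr_zero _ _ _ _ _) csch1


end CL.J2
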