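/-
Centralisers `2^{1+8}.(S₃ × S₃ × S₃)` (helper9), part D: definitions, the tensor cube model and the statements of
the intermediate results.
-/
import Cfsg.Agent.Spor.U6B
import Cfsg.Prelude.Def_Classical

set_option autoImplicit false

namespace CL.O8

open Subgroup CL.Even CL.Grp CL.U6 Cfsg

universe u

abbrev S3 : Type := Equiv.Perm (Fin 3)

abbrev X : Type := S3 × S3 × S3

instance instDecEqX : DecidableEq X := inferInstance

instance instFintypeX : Fintype X := inferInstance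

/-- The embedding of the `i`-th factor. -/
def emb (i : Fin 3) (w : S3) : X := (if i = 0 then w else 1, if i = 1 then w else 1, if i = 2 then w else 1)

def τ : S3 := Equiv.swap 0 2

/-- The transposition `s i` adds `i` to a subset (and fixes the basis vectors of subsets containing `i`). -/
def s (i : Fin 3) : X := emb i τ

/-- The transposition `ν i` exchanges the basis vectors of `S` and `S ∆ {i}`. -/
def ν (i : Fin 3) : X := emb i (Equiv.swap 0 1)

/-- An element of order three in the `i`-th factor. -/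
def ρ (i : Fin 3) : X := s i * ν i

/-- Membership in the Sylow 2-subgroup generated by the `s i`. -/
def InA (w : X) : Prop := (w.1 = 1 ∨ w.1 = τ) ∧ (w.2.1 = 1 ∨ w.2.1 = τ) ∧ (w.2.2 = 1 ∨ w.2.2 = τ)

instance (w : X) : Decidable (InA w) := by unfold InA; infer_instance

/-- The non-zero vectors of the plane. -/
def nv (a : Fin 3) (b : Fin 2) : ZMod 2 := if a.val = 2 ∨ a.val = b.val then 1 else 0

/-- The `i`-th binary digit. -/
def bit (i : ℕ) (k : Fin 8) : Fin 2 := ⟨k.val / 2 ^ i % 2, Nat.mod_lt _ (by norm_num)⟩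

/-- The matrix of the tensor cube. -/
def mat (w : X) : Matrix (Fin 8) (Fin 8) (ZMod 2) := fun k l =>
  nv (w.1 (bit 0 l).castSucc) (bit 0 k) * nv (w.2.1 (bit 1 l).castSucc) (bit 1 k) *
    nv (w.2.2 (bit 2 l).castSucc) (bit 2 k)

/-- The action on the tensor cube; the basis vector `e k` belongs to the subset with binary digits `k`. -/
def act (w : X) : Module.End (ZMod 2) V8 := Matrix.toLin' (mat w)

def e (k : Fin 8) : V8 := fun l => if l = k then 1 else 0

/-- The index of the singleton `{i}`. -/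
def sg (i : Fin 3) : Fin 8 := ![1, 2, 4] i

def q0 (v : V8) : ZMod 2 := v 0 * v 7 + v 1 * v 6 + v 2 * v 5 + v 3 * v 4

def B0 : LinearMap.BilinForm (ZMod 2) V8 := Matrix.toBilin' (Matrix.of fun k l => if l = k.rev then 1 else 0)

theorem act_apply (w : X) (v : V8) (k : Fin 8) : act w v k = mat w k 0 * v 0 + mat w k 1 * v 1 + mat w k 2 * v 2 +
    mat w k 3 * v 3 + mat w k 4 * v 4 + mat w k 5 * v 5 + mat w k 6 * v 6 + mat w k 7 * v 7 := by
  rw [act, Matrix.toLin'_apply, Matrix.mulVec, dotProduct, Fin.sum_univ_eight]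

theorem act_e (w : X) (l k : Fin 8) : act w (e l) k = mat w k l := by
  rw [act, Matrix.toLin'_apply, Matrix.mulVec, dotProduct, Finset.sum_eq_single l]
  · simp [e]
  · intro b _ hb; simp [e, hb]
  · simp

theorem B0_apply (v w : V8) : B0 v w = v 0 * w 7 + v 1 * w 6 + v 2 * w 5 + v 3 * w 4 + v 4 * w 3 + v 5 * w 2 +
    v 6 * w 1 + v 7 * w 0 := by
  rw [B0, Matrix.toBilin'_apply]
  simp only [Fin.sum_univ_eight]
  simp [Fin.rev, Fin.ext_iff]

theorem B0_e (v : V8) (l : Fin 8) : B0 v (e l) = v l.rev := by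
  rw [B0_apply]; fin_cases l <;> simp [e, Fin.rev, Fin.ext_iff]

theorem fix7 : ∀ w : X, (∀ k, mat w k 7 = e 7 k) ↔ InA w := by decide +kernel

theorem mat_mul (w w' : X) : mat (w * w') = mat w * mat w' := by
  have h : ∀ (a b : S3) (k l : Fin 2), nv ((a * b) l.castSucc) k =
      nv (a (0 : Fin 2).castSucc) k * nv (b l.castSucc) 0 + nv (a (1 : Fin 2).castSucc) k * nv (b l.castSucc) 1 := by
    decide +kernel
  ext k l
  rw [Matrix.mul_apply, Fin.sum_univ_eight]
  simp only [mat, Prod.fst_mul, Prod.snd_mul, h]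
  simp only [show bit 0 0 = 0 from rfl, show bit 1 0 = 0 from rfl, show bit 2 0 = 0 from rfl,
    show bit 0 1 = 1 from rfl, show bit 1 1 = 0 from rfl, show bit 2 1 = 0 from rfl,
    show bit 0 2 = 0 from rfl, show bit 1 2 = 1 from rfl, show bit 2 2 = 0 from rfl,
    show bit 0 3 = 1 from rfl, show bit 1 3 = 1 from rfl, show bit 2 3 = 0 from rfl,
    show bit 0 4 = 0 from rfl, show bit 1 4 = 0 from rfl, show bit 2 4 = 1 from rfl,
    show bit 0 5 = 1 from rfl, show bit 1 5 = 0 from rfl, show bit 2 5 = 1 from rfl,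
    show bit 0 6 = 0 from rfl, show bit 1 6 = 1 from rfl, show bit 2 6 = 1 from rfl,
    show bit 0 7 = 1 from rfl, show bit 1 7 = 1 from rfl, show bit 2 7 = 1 from rfl]
  ring

theorem act_mul (w w' : X) : act (w * w') = act w * act w' := by
  rw [act, mat_mul, Matrix.toLin'_mul]; rfl

theorem act_s (v : V8) : act (s 0) v = ![v 0, v 0 + v 1, v 2, v 2 + v 3, v 4, v 4 + v 5, v 6, v 6 + v 7] ∧
    act (s 1) v = ![v 0, v 1, v 0 + v 2, v 1 + v 3, v 4, v 5, v 4 + v 6, v 5 + v 7] ∧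
    act (s 2) v = ![v 0, v 1, v 2, v 3, v 0 + v 4, v 1 + v 5, v 2 + v 6, v 3 + v 7] := by
  simp only [funext_iff, act_apply]
  revert v
  decide +kernel

theorem act_ν (v : V8) : act (ν 0) v = ![v 1, v 0, v 3, v 2, v 5, v 4, v 7, v 6] ∧
    act (ν 1) v = ![v 2, v 3, v 0, v 1, v 6, v 7, v 4, v 5] ∧
    act (ν 2) v = ![v 4, v 5, v 6, v 7, v 0, v 1, v 2, v 3] := by
  simp only [funext_iff, act_apply]
  revert v
  decide +kernel

theorem act_one (v : V8) : act 1 v = v := by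
  simp only [funext_iff, act_apply]
  revert v
  decide +kernel

theorem act_fix7 {w : X} : act w (e 7) = e 7 ↔ InA w := by
  rw [← fix7, funext_iff]; simp only [act_e]

theorem eq_of_fix {v : V8} (h : ∀ i, act (s i) v = v) : v = 0 ∨ v = e 7 := by
  have h0 := h 0
  have h1 := h 1
  have h2 := h 2
  rw [(act_s v).1] at h0
  rw [(act_s v).2.1] at h1
  rw [(act_s v).2.2] at h2
  clear h
  revert v
  decide +kernel

theorem closure_sν : closure (Set.range s ∪ Set.range ν) = ⊤ := by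
  have h : ∀ (i : Fin 3) (w : S3), emb i w = 1 ∨ emb i w = s i ∨ emb i w = ν i ∨ emb i w = s i * ν i ∨
      emb i w = ν i * s i ∨ emb i w = s i * ν i * s i := by decide +kernel
  have h1 : ∀ i w, emb i w ∈ closure (Set.range s ∪ Set.range ν) := fun i w => by
    have a : s i ∈ closure (Set.range s ∪ Set.range ν) := subset_closure (Or.inl ⟨i, rfl⟩)
    have b : ν i ∈ closure (Set.range s ∪ Set.range ν) := subset_closure (Or.inr ⟨i, rfl⟩)
    rcases h i w with e | e | e | e | e | e <;> rw [e]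
    exacts [one_mem _, a, b, mul_mem a b, mul_mem b a, mul_mem (mul_mem a b) a]
  refine eq_top_iff.mpr fun w _ => ?_
  rw [show w = emb 0 w.1 * emb 1 w.2.1 * emb 2 w.2.2 by simp [emb]]
  exact mul_mem (mul_mem (h1 _ _) (h1 _ _)) (h1 _ _)

/-- The standard Sylow 2-subgroup. -/
def A0 : Subgroup X where
  carrier := {w | InA w}
  one_mem' := by change InA 1; decide +kernel
  mul_mem' := fun {a b} ha hb => act_fix7.mp (by
    rw [act_mul, Module.End.mul_apply, act_fix7.mpr hb, act_fix7.mpr ha])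
  inv_mem' := fun {a} ha => act_fix7.mp (by
    conv_lhs => rw [← act_fix7.mpr ha, ← Module.End.mul_apply, ← act_mul, inv_mul_cancel, act_one])

theorem mem_A0 {w : X} : w ∈ A0 ↔ InA w := Iff.rfl

theorem card_X : Nat.card X = 216 := by
  rw [Nat.card_eq_fintype_card]; decide +kernel

theorem card_A0 : Nat.card A0 = 8 := by
  change Nat.card {w : X // InA w} = 8
  rw [Nat.card_eq_fintype_card]
  decide +kernel

theorem card_le_eight {A : Subgroup X} (hA : IsPGroup 2 A) : Nat.card A ∣ 8 := by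
  obtain ⟨n, hn⟩ := IsPGroup.iff_card.mp hA
  have h1 := card_X ▸ A.card_subgroup_dvd_card
  rw [hn] at h1 ⊢
  exact (Nat.Coprime.pow_left n (by norm_num : Nat.Coprime 2 27)).dvd_of_dvd_mul_right (show 2 ^ n ∣ 8 * 27 from h1)

/-- Every 2-subgroup is conjugate into the standard one. -/
theorem exists_conj_A0 {A : Subgroup X} (hA : IsPGroup 2 A) : ∃ w : X, ∀ a ∈ A, InA (w * a * w⁻¹) := by
  have h0 : IsPGroup 2 A0 := IsPGroup.of_card (n := 3) card_A0
  obtain ⟨P, hP⟩ := hA.exists_le_sylow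
  obtain ⟨P', hP'⟩ := h0.exists_le_sylow
  obtain ⟨w, rfl⟩ := MulAction.exists_smul_eq X P P'
  refine ⟨w, fun a ha => ?_⟩
  rw [← mem_A0, eq_of_le_of_card_ge hP' (card_A0 ▸ Nat.le_of_dvd (by norm_num) (card_le_eight (w • P).isPGroup'))]
  exact ⟨a, hP ha, rfl⟩

theorem exists_conj_eq_A0 {A : Subgroup X} (hA : Nat.card A = 8) :
    ∃ w : X, ∀ a, a ∈ A ↔ InA (w * a * w⁻¹) := by
  obtain ⟨w, hw⟩ := exists_conj_A0 (A := A) (IsPGroup.of_card (n := 3) hA)
  have h1 : cj w A = A0 := eq_of_le_of_card_ge (by rintro _ ⟨a, ha, rfl⟩; exact hw a ha) (by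
    rw [card_A0, card_cj, hA])
  exact ⟨w, fun a => by rw [← mem_A0, ← h1, mem_cj]; simp [mul_assoc]⟩

theorem inA_of_norm : ∀ w : X, (∀ i, InA (w * s i * w⁻¹)) → InA w := by decide +kernel

variable {G : Type u} [Group G]

/-- The setting: `C(z) = Q.(S₃ × S₃ × S₃)` with `Q = 2^{1+8}`. -/
structure St (z : G) (Q : Subgroup G) (r : G → X) : Prop extends XE z Q where
  card : Nat.card Q = 512
  r_mul : ∀ {a b}, Commute a z → Commute b z → r (a * b) = r a * r b
  r_surj : ∀ w, ∃ c, Commute c z ∧ r c = w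
  r_ker : ∀ {c}, Commute c z → (r c = 1 ↔ c ∈ Q)

/-- A faithful orthogonal module. -/
structure OM (α : X →* Module.End (ZMod 2) V8) (B : LinearMap.BilinForm (ZMod 2) V8) (q : V8 → ZMod 2) : Prop where
  hq : ∀ v w, q (v + w) = q v + q w + B v w
  hN : ∀ r, (∀ y, B r y = 0) → r = 0
  inv : ∀ w v, q (α w v) = q v
  faith : ∀ w, (∀ v, α w v = v) → w = 1

namespace St

variable {z : G} {Q : Subgroup G} {r : G → X} (h : St z Q r)
include h

theorem r_Q {a : G} (ha : a ∈ Q) : r a = 1 := (h.r_ker (h.comm ha)).mpr ha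

theorem r_one : r 1 = 1 := h.r_Q Q.one_mem

theorem r_inv {a : G} (ha : Commute a z) : r a⁻¹ = (r a)⁻¹ :=
  eq_inv_of_mul_eq_one_left (by rw [← h.r_mul ha.inv_left ha, inv_mul_cancel, h.r_one])

theorem r_conj {a b : G} (ha : Commute a z) (hb : Commute b z) : r (a * b * a⁻¹) = r a * r b * (r a)⁻¹ := by
  rw [h.r_mul (ha.mul_left hb) ha.inv_left, h.r_mul ha hb, h.r_inv ha]

theorem r_pow {a : G} (ha : Commute a z) (n : ℕ) : r (a ^ n) = r a ^ n := by
  induction n with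
  | zero => rw [pow_zero, pow_zero, h.r_one]
  | succ n ih => rw [pow_succ, h.r_mul (ha.pow_left n) ha, ih, pow_succ]

theorem r_eq {a b : G} (ha : Commute a z) (hb : Commute b z) : r a = r b ↔ a * b⁻¹ ∈ Q := by
  rw [← h.r_ker (ha.mul_left hb.inv_left), h.r_mul ha hb.inv_left, h.r_inv hb, mul_inv_eq_one]

/-- The restriction of `r` to a subgroup of `C(z)`. -/
def hom {Y : Subgroup G} (hY : ∀ y ∈ Y, Commute y z) : Y →* X :=
  MonoidHom.mk' (fun y => r y) fun a b => h.r_mul (hY a a.2) (hY b b.2)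

theorem card_eq [Finite G] {Y : Subgroup G} (hY : ∀ y ∈ Y, Commute y z) :
    Nat.card Y = Nat.card (Y ⊓ Q : Subgroup G) * Nat.card (h.hom hY).range := by
  have h2 : (h.hom hY).ker = (Y ⊓ Q).subgroupOf Y := Subgroup.ext fun a => by
    rw [mem_subgroupOf, MonoidHom.mem_ker, mem_inf, and_iff_right a.2]; exact h.r_ker (hY a a.2)
  rw [← (h.hom hY).ker.card_mul_index, index_ker, h2, card_subgroupOf_of_le inf_le_left]

theorem conj [Finite G] (g : G) : St (g * z * g⁻¹) (cj g Q) fun c => r (g⁻¹ * c * g) := by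
  have k : ∀ {a}, Commute a (g * z * g⁻¹) → Commute (g⁻¹ * a * g) z := fun ha =>
    (CL.TT.commute_conj_iff g _ _).mp (by simpa [mul_assoc] using ha)
  refine ⟨h.toXE.conj g, by rw [card_cj, h.card], fun ha hb => ?_, fun w => ?_, fun hc => ?_⟩
  · rw [← h.r_mul (k ha) (k hb)]; congr 1; group
  · obtain ⟨c, hc, rfl⟩ := h.r_surj w
    exact ⟨g * c * g⁻¹, (CL.TT.commute_conj_iff g _ _).mpr hc, by congr 1; group⟩
  · rw [h.r_ker (k hc), mem_cj]

theorem exists_om [Finite G] : ∃ (π : G → V8) (α : X →* Module.End (ZMod 2) V8)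
    (B : LinearMap.BilinForm (ZMod 2) V8) (q : V8 → ZMod 2), LM z Q π (fun c => α (r c)) B q ∧ OM α B q := by
  obtain ⟨H, π, A, -, -, M⟩ := exists_LM h.toXE h.card
  choose f hf hr using h.r_surj
  have k : ∀ {c}, Commute c z → A (f (r c)) = A c := fun {c} hc => by
    have h1 := (h.r_eq (hf (r c)) hc).mp (hr _)
    rw [← inv_mul_cancel_right (f (r c)) c, M.A_mul (h.comm h1) hc]
    exact LinearMap.ext fun v => (M.A_ker (h.comm h1)).mpr h1 _
  let α : X →* Module.End (ZMod 2) V8 :=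
    { toFun := fun w => A (f w)
      map_one' := by rw [← h.r_one, k (Commute.one_left z)]; exact LinearMap.ext M.A_one
      map_mul' := fun a b => by
        rw [← M.A_mul (hf a) (hf b), ← k ((hf a).mul_left (hf b)), h.r_mul (hf a) (hf b), hr, hr] }
  have hα : ∀ {c}, Commute c z → α (r c) = A c := k
  refine ⟨π, α, H.B, H.q, ⟨M.π_mul, M.π_surj, M.π_zero, M.hq, M.hN, M.q_zero, M.B_zero, fun ha hb => ?_,
    fun hc ha => ?_, fun hc v => ?_, fun hc => ?_⟩, M.hq, M.hN, fun w v => M.A_q (hf w) v, fun w hw => ?_⟩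
  · rw [h.r_mul ha hb, map_mul]
  · rw [hα hc, M.A_π hc ha]
  · rw [hα hc, M.A_q hc]
  · rw [hα hc, M.A_ker hc]
  · rw [← hr w]; exact h.r_Q ((M.A_ker (hf w)).mp hw)

theorem conj_eq {a b : G} (ha : a ∈ Q) (hb : b ∈ Q) (hab : ¬ Commute a b) : a * b * a⁻¹ = b * z := by
  have := (h.mem_Z.mp (h.comm_mem ha hb)).resolve_left (mt commutatorElement_eq_one_iff_commute.mp hab)
  rw [h.comm hb, ← this, commutatorElement_def, inv_mul_cancel_right]

end St

/-- Facts on a commuting pair of conjugates when `z` is weakly closed in `Q`. -/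
structure WF (z : G) (Q : Subgroup G) (x : G) (P : Subgroup G) : Prop where
  sq : ∀ y ∈ Q, Commute y x → y * y = 1
  card : Nat.card (Q ⊓ centralizer ({x} : Set G) : Subgroup G) = 32
  cardB : Nat.card (Q ⊓ P : Subgroup G) = 4
  ker : ∀ a ∈ Q, x * a * x⁻¹ ≠ a * z
  tr : ∀ b ∈ Q ⊓ P, b ≠ 1 → ∃ a ∈ Q, x * a * x⁻¹ * a⁻¹ = b * z ∧ ∀ b' ∈ Q ⊓ P, b' ≠ 1 → b' ≠ b → ¬ Commute a b'

/-- A conjugate of `z` in `Q` in standard position. -/
structure NX (z : G) (Q : Subgroup G) (r : G → X) (g : G) : Prop where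
  mem : g * z * g⁻¹ ∈ Q
  ne : g * z * g⁻¹ ≠ z
  img : ∀ w, InA w → ∃ y ∈ cj g Q, Commute y z ∧ r y = w
  inA : ∀ y, Commute y z → Commute y (g * z * g⁻¹) → InA (r y)
  cm : ∀ y ∈ cj g Q, Commute y z → y ∉ Q → ∃ d ∈ Q, y * d * y⁻¹ * d⁻¹ = g * z * g⁻¹

/-- `Q / ⟨z⟩` is the tensor cube. -/
structure TM (z : G) (Q : Subgroup G) (r : G → X) (π : G → V8) : Prop extends St z Q r where
  lm : LM z Q π (fun c => act (r c)) B0 q0

/-- The central node and the root elements of the outer nodes. -/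
structure RA (z : G) (Q : Subgroup G) (r : G → X) (π : G → V8) (b m : G) (a f : Fin 3 → G) : Prop where
  bQ : b ∈ Q
  πb : π b = e 0
  msq : m * m = 1
  ord : (b * m) ^ 3 = 1
  xQ : m * z * m ∈ Q
  πx : π (m * z * m) = e 7
  fQ : ∀ i, f i ∈ Q
  πf : ∀ i, π (f i) = e (sg i)
  ha : ∀ i, a i = m * f i * m
  az : ∀ i, Commute (a i) z
  ra : ∀ i, r (a i) = s i
  com : ∀ i, a i * b * a i * b = f i

/-- A Levi complement. -/
structure LV (z : G) (r : G → X) (a n : Fin 3 → G) : Prop where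
  nsq : ∀ i, n i * n i = 1
  nz : ∀ i, Commute (n i) z
  rn : ∀ i, r (n i) = ν i
  ord : ∀ i, (a i * n i) ^ 3 = 1
  an : ∀ i j, i ≠ j → Commute (a i) (n j)
  nn : ∀ i j, Commute (n i) (n j)

/-- The Curtis–Tits relations of `D₄(2)`. -/
structure CT (b m : G) (a n : Fin 3 → G) : Prop where
  bsq : b * b = 1
  msq : m * m = 1
  asq : ∀ i, a i * a i = 1
  nsq : ∀ i, n i * n i = 1
  bm : (b * m) ^ 3 = 1
  ord : ∀ i, (a i * n i) ^ 3 = 1
  aa : ∀ i j, Commute (a i) (a j)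
  an : ∀ i j, i ≠ j → Commute (a i) (n j)
  nn : ∀ i j, Commute (n i) (n j)
  nb : ∀ i, n i * b * n i = a i * b * a i * b
  ma : ∀ i, m * a i * m = a i * b * a i * b
  br : ∀ i, n i * m * n i = m * n i * m

/-- The subgroup generated by the root elements. -/
def gen (b m : G) (a n : Fin 3 → G) : Subgroup G := closure ({b, m} ∪ Set.range a ∪ Set.range n)

def CT8 : Prop := ∀ (G : Type u) [Group G] [Finite G] [Nontrivial G] (b m : G) (a n : Fin 3 → G), CT b m a n →
  gen b m a n = ⊤ → center G = ⊥ → Nonempty (G ≃* Cfsg.Omega (ZMod 2) (Cfsg.quadFormPlus 4 (ZMod 2)))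

def LW : Prop := ∀ α B q, OM α B q → ∀ (A : Subgroup X) (U : Submodule (ZMod 2) V8), Nat.card A = 8 →
  (∀ u ∈ U, q u = 0) → (∀ a ∈ A, ∀ v, α a v + v ∈ U) → (∀ a ∈ A, ∀ u ∈ U, α a u = u) → False

def W1 : Prop := ∀ (G : Type u) [Group G] [Finite G] (z : G) (Q : Subgroup G) (r : G → X), St z Q r →
  (∀ k, k * z * k⁻¹ ∈ Q → k * z * k⁻¹ = z) → ∀ g, Commute (g * z * g⁻¹) z → g * z * g⁻¹ ≠ z →
  WF z Q (g * z * g⁻¹) (cj g Q)

def WC : Prop := ∀ (G : Type u) [Group G] [Finite G] (z : G) (Q : Subgroup G) (r : G → X), St z Q r →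
  (∀ k, k * z * k⁻¹ ∈ Q → k * z * k⁻¹ = z) → ∀ g, Commute (g * z * g⁻¹) z → g * z * g⁻¹ = z

def N1 : Prop := ∀ (G : Type u) [Group G] [Finite G] (z : G) (Q : Subgroup G) (r : G → X), St z Q r →
  ∀ g, g * z * g⁻¹ ∈ Q → g * z * g⁻¹ ≠ z → ∃ c, Commute c z ∧ NX z Q r (c * g)

def LN1 : Prop := ∀ α B q, OM α B q → ∀ v : V8, (∀ i, α (s i) v = v) → (∀ i, α (ρ i) v ≠ v) →
  (∀ a, InA a → a ≠ 1 → ∃ u, α a u + u = v) → ∀ i u, α (ρ i) u = u → u = 0

def LN2 : Prop := ∀ α B q, OM α B q → (∀ i u, α (ρ i) u = u → u = 0) → ∀ v : V8, v ≠ 0 → q v = 0 →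
  (∀ i, α (s i) v = v) → ∃ φ : V8 ≃ₗ[ZMod 2] V8, (∀ w u, φ (α w u) = act w (φ u)) ∧ (∀ u, q0 (φ u) = q u) ∧
    (∀ u u', B0 (φ u) (φ u') = B u u') ∧ φ v = e 7

def R1 : Prop := ∀ (G : Type u) [Group G] [Finite G] (z : G) (Q : Subgroup G) (r : G → X) (π : G → V8),
  TM z Q r π → ∀ g, NX z Q r g → π (g * z * g⁻¹) = e 7 → ∃ b m a f, RA z Q r π b m a f

def R2 : Prop := ∀ (G : Type u) [Group G] [Finite G] (z : G) (Q : Subgroup G) (r : G → X) (π : G → V8),
  TM z Q r π → ∀ a : Fin 3 → G, (∀ i, a i * a i = 1) → (∀ i, Commute (a i) z) → (∀ i, r (a i) = s i) →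
  (∀ i j, Commute (a i) (a j)) → ∃ n, LV z r a n

def R3 : Prop := ∀ (G : Type u) [Group G] [Finite G] (z : G) (Q : Subgroup G) (r : G → X) (π : G → V8),
  TM z Q r π → ∀ b m a f n, RA z Q r π b m a f → LV z r a n → (∀ i, n i * b * n i = f i) →
  ∀ i, n i * m * n i = m * n i * m

def F1 : Prop := ∀ (G : Type u) [Group G] [Finite G] (z : G) (Q : Subgroup G) (r : G → X) (π : G → V8),
  TM z Q r π → ∀ b m a f n, RA z Q r π b m a f → LV z r a n →
  (∀ c, Commute c z → c ∈ gen b m a n) ∧ center (gen b m a n) = ⊥ ∧ IsSimpleGroup G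

def F2 : Prop := ∀ (G : Type u) [Group G] [Finite G] (z : G) (Q : Subgroup G) (r : G → X) (π : G → V8),
  TM z Q r π → ∀ b m a f, RA z Q r π b m a f → ∀ M : Subgroup G, (∀ c, Commute c z → c ∈ M) → m ∈ M →
  (∀ g, Commute (g * z * g⁻¹) z → ∃ k ∈ M, k * z * k⁻¹ = g * z * g⁻¹) ∧ ∃ t, orderOf t = 2 ∧ ¬ IsConj z t

def F3 : Prop := ∀ (G : Type u) [Group G] [Finite G] [IsSimpleGroup G] (z : G) (Q : Subgroup G) (r : G → X),
  St z Q r → ∀ M : Subgroup G, (∀ c, Commute c z → c ∈ M) →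
  (∀ g, Commute (g * z * g⁻¹) z → ∃ k ∈ M, k * z * k⁻¹ = g * z * g⁻¹) → (∃ t, orderOf t = 2 ∧ ¬ IsConj z t) → M = ⊤

end CL.O8
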