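/-
The Golay code in the bit-mask model: `enc` (the 4096 code words), `isCode` (fast membership test), `GC` (supports of code words),
closure properties, weights, self-duality, counting principle `ncard_GC`, the action of permutations on masks and membership in `M24`.
-/
import Cfsg.Agent.Spor.GolayMask

set_option autoImplicit false

namespace CL.Spor
open Cfsg
open scoped Pointwise

/-- The supports of the words of the Golay code. -/
abbrev GC : Set (Finset GolayPt) := supports (golayCode : Set (GolayPt → ZMod 2))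

/-- The binary word with a given support. -/
def wordOf (s : Finset GolayPt) : GolayPt → ZMod 2 := fun p => if p ∈ s then 1 else 0

theorem zmod2_cases (x : ZMod 2) : x = 0 ∨ x = 1 := by revert x; decide

@[simp] theorem mem_support₂ {α : Type*} [Fintype α] {w : α → ZMod 2} {p : α} : p ∈ support₂ w ↔ w p ≠ 0 := by
  simp [support₂]

@[simp] theorem support₂_wordOf (s : Finset GolayPt) : support₂ (wordOf s) = s := by
  ext p; by_cases h : p ∈ s <;> simp [wordOf, h]

@[simp] theorem wordOf_support₂ (w : GolayPt → ZMod 2) : wordOf (support₂ w) = w := by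
  funext p
  rcases zmod2_cases (w p) with h | h <;> simp [wordOf, h]

theorem wordOf_injective : Function.Injective wordOf := fun s t h => by
  rw [← support₂_wordOf s, h, support₂_wordOf]

theorem support₂_injective : Function.Injective (support₂ : (GolayPt → ZMod 2) → Finset GolayPt) :=
  fun v w h => by rw [← wordOf_support₂ v, h, wordOf_support₂]

theorem wordOf_symmDiff (s t : Finset GolayPt) : wordOf (symmDiff s t) = wordOf s + wordOf t := by
  funext p
  by_cases h1 : p ∈ s <;> by_cases h2 : p ∈ t <;> simp [wordOf, Finset.mem_symmDiff, h1, h2]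
  decide

theorem support₂_add (v w : GolayPt → ZMod 2) : support₂ (v + w) = symmDiff (support₂ v) (support₂ w) := by
  apply wordOf_injective
  rw [wordOf_symmDiff]; simp

@[simp] theorem wordOf_empty : wordOf ∅ = 0 := by funext p; simp [wordOf]
@[simp] theorem wordOf_univ : wordOf Finset.univ = 1 := by funext p; simp [wordOf]

theorem hammingNorm_eq_card (w : GolayPt → ZMod 2) : hammingNorm w = (support₂ w).card := by
  simp [hammingNorm, support₂]

theorem mem_GC_iff_wordOf {s : Finset GolayPt} : s ∈ GC ↔ wordOf s ∈ golayCode :=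
  ⟨by rintro ⟨w, hw, rfl⟩; simpa using hw, fun h => ⟨_, h, support₂_wordOf s⟩⟩

theorem mem_golayCode_iff {w : GolayPt → ZMod 2} : w ∈ golayCode ↔ support₂ w ∈ GC := by
  rw [mem_GC_iff_wordOf, wordOf_support₂]

theorem GC_empty : (∅ : Finset GolayPt) ∈ GC := Spor.empty_mem_supports_golayCode
theorem GC_univ : (Finset.univ : Finset GolayPt) ∈ GC := Spor.univ_mem_supports_golayCode
theorem GC_symmDiff {s t : Finset GolayPt} (hs : s ∈ GC) (ht : t ∈ GC) : symmDiff s t ∈ GC := by
  rw [mem_GC_iff_wordOf] at *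
  rw [wordOf_symmDiff]; exact add_mem hs ht
theorem GC_compl {s : Finset GolayPt} (hs : s ∈ GC) : sᶜ ∈ GC := by
  have := GC_symmDiff hs GC_univ
  convert this using 1
  ext p; simp [Finset.mem_symmDiff]

/-! ### The systematic encoder -/

/-- XOR of the members of a list selected by the bits of `x`. -/
def xorSel (l : List ℕ) : ℕ → ℕ :=
  List.rec (motive := fun _ => ℕ → ℕ) (fun _ => 0)
    (fun b _ ih x => Nat.xor (cond (Nat.beq (Nat.mod x 2) 1) b 0) (ih (Nat.div x 2))) l

theorem xorSel_nil (x : ℕ) : xorSel [] x = 0 := rfl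
theorem xorSel_cons (b : ℕ) (l : List ℕ) (x : ℕ) :
    xorSel (b :: l) x = (if x % 2 = 1 then b else 0) ^^^ xorSel l (x / 2) := by
  have : xorSel (b :: l) x = (cond (Nat.beq (x % 2) 1) b 0) ^^^ xorSel l (x / 2) := rfl
  rw [this]
  by_cases h : x % 2 = 1
  · simp [h]
  · have : Nat.beq (x % 2) 1 = false := by
      rw [Bool.eq_false_iff]; intro h'; exact h (Nat.eq_of_beq_eq_true h')
    simp [h, this]

theorem xorSel_xor (l : List ℕ) (x y : ℕ) : xorSel l (x ^^^ y) = xorSel l x ^^^ xorSel l y := by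
  induction l generalizing x y with
  | nil => simp [xorSel_nil]
  | cons b l ih =>
    rw [xorSel_cons, xorSel_cons, xorSel_cons, Nat.xor_div_two, ih]
    simp only [Nat.xor_mod_two_eq_one]
    by_cases hx : x % 2 = 1 <;> by_cases hy : y % 2 = 1 <;>
      simp [hx, hy, Nat.xor_assoc, Nat.xor_left_comm]

/-- A family of sets containing `∅`, closed under symmetric difference and containing `ofMask b` for `b ∈ l`
contains every `ofMask (xorSel l x)`. -/
theorem xorSel_induction {P : Finset GolayPt → Prop} (h0 : P ∅)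
    (hx : ∀ s t, P s → P t → P (symmDiff s t)) (l : List ℕ) (hl : ∀ b ∈ l, P (ofMask b)) (x : ℕ) :
    P (ofMask (xorSel l x)) := by
  induction l generalizing x with
  | nil => simpa [xorSel_nil] using h0
  | cons b l ih =>
    rw [xorSel_cons, ofMask_xor]
    apply hx
    · split_ifs
      · exact hl b (by simp)
      · simpa using h0
    · exact ih (fun c hc => hl c (by simp [hc])) _

/-- The systematic basis: the `j`-th member has low twelve bits `2 ^ j`. -/
def golayBasis : List ℕ := [13062145, 4845570, 13938692, 7221256, 10170384, 11952160, 15515712, 2019456, 4038912, 8077824, 11654144, 14919680]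

/-- Masks of the 23 generating words and of the all-ones word. -/
def qrMasks : List ℕ := [340831, 681662, 1363324, 2726648, 5453296, 2517985, 5035970, 1683333, 3366666, 6733332, 5078057, 1767507, 3535014, 7070028, 5751449, 3114291, 6228582, 4068557, 8137114, 7885621, 7382635, 6376663, 4364719, 16777215]

/-- Table of the twelve check bits of the 4096 code words. -/
def encTab : ℕ := 0xfff38ab607152b4ec162ba5e91c569d831f64578220c8cbd64ca392d3ea6b07772f983ed0afcda430845de419197b50e4998ec006c739d25a7d4d13827ae0f6e5a90f31344bae7dbd2a15f9b55c0061c144fe88bbc97bcf56323682af721de68133d465ac9d9c7800d8e74927d0ba534ff3aa9b6eee042718804f5c1f06a5cb9be154d21e63216afc689328f5d7b7bc2a55620eca2bf71eb6b381ff4cb60c382945c1fdd885629173e6f93779b0cead2d8a3264750597019adef84e43bcd10a4e12267a8d6f8359f2c7c6bb38f1484c6e01b5ba9cf125d507a1bd433ef4baea69fe75200142d375dd9a8c0907c8964e35749011ebd9e83f44aca00d5397fe2708b7dedc2a9a43636cc70b285842d18cdf9513966a24651ebb2ce76fb1a3f0f850decab441834d95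1e090a57f63da482a2ed7b76703fe939c96d518df21874268530b9cccf8e3fbb117642c5eb065aa2fbb87cdf273526f3a8626ce19d5b12e9c45b1010c6548f8fa20be7e694ae1f40335bdf7aa4e889d077c029a35d6d3c149c250508ba4cf16ed1b5f1984ac66b3e5922c78dbf8312f675969e3109d7c8dd4a8c42037375f007eab9fe3e24baa16d4743b363dcfa9a0867de972e21a0dd553f94aceb09e874401ef0285a6f61a3bbfce724b51813466c8c0f955892d1c7db22e9e9c676a03fa23d7b3d74840a87f095ce0941534dde1abb5a72ffc53b0611a6428eefbdb91cc9265530f2c8746d81898f5fad101654c48b105bc2ef6c319bf3786227e526b8acd03cc494a38d6d771029e859d6dfaaa240e35b947e1f0b37edc81bd957522083cf641c869b2b75efb43c1660a152ffe8a47b80e0e4c91930545daf1da298eed607a72fd33a6b4c7396aeadb231e44be5790f7a30f04dc384d28a7d061739995ecf1d368b827f7256e236c9abc9fe58bd611144b58c002ac5f304f7179bbeee4f23aad06a55e7992178d0d8ac4d9c33046ab76c2e2825d7fcb89363f16c540218cb4be11fd6a5809f5862417cfd08852995c1b6dc3e812f4a1e66b3cafbf755b201d1da454e93bc9a0ef805470732b473adfd8a7960cee629384b43ecd40a150097519fdeaea82dda376423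e3f9677cb091f8d8d567912cb30c682c45971bb6e384ff1a50625ecf2ba32df587b2bc7e66213af968c5ce9bb151d248854f0c1a06fa9e6ebe012747d5ba034af3fc7d0088e2497136d435a99dc687af2218e6dbcc7b9f53326064c114fb88ed2f15a9b05c5f34341bab7de27fe0a6e0a959d75a2d4813d49c8e9003c76de119497e50b0aacdf435840b02777f9d3e8649a3c2d6ea34528270cdcb891956cd861f32b1ec462ea5bffa38fb657109a65d3d3914c4ed898072c07f45330bda7af20ee7b691ae4015c6048a8ffd5e12b9c15b46f6a83269e1cbbd7c8f223572c0eb565fa2af8b3feb147614238560bccc996851ddf7182b73706fec399638a4d2a7ed2d901e590f57a0dbcae44483176ab1f3f5f80a21654ebe2cb189dfc516963cc20b785d428ed92aca46633392fe770db7883a44fca50d05719041eed9bc0c0798934e6147d325d89adaef69ae702057a4bd133bf4e5bf9ca120d558f4481c6b01e35cf297c3bb6e17262a886fdb917e4f0e37b6daaaf245e30d721079ed598039c4c4a68d3222e576bdac8f6931cbf67834c18b405ec2b98a5ffd151600f7c8246881ddbc1c9923556614a6128befeb5f72afc03b5944531ddb1ae40f87a090ce5fa73d2b3874d2ece99673a0655d9281c2db7816463c890fc3befcb721b54ef5280a6a61fcee09b87140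41a5dd053a94fa0d678e922e7746b333d9face3b24eaa46d1370f057efb9a8d84adc470325939e610cd79788bfd317f62ac36b6e5c22916bd1e5f4981c200558bf4caa7c609ee3296737b423a8fddc9f0ea8004751d4da154b93e3cffba750b25e842f1a1b66e52c9591b3dc6867412cf808d11ad6f5859f0c510248ce4bb7f9b8c366f13ab26c7e2d2588a94dcc360435e299717dd08e4a23fad56a0301f7479ebeb4b08c502fc5a9fb58ed64111253e266ccab9f1836db877f2d0317699c5e9048c3d4d78a2be0795f7f30a6abade234e41fd63a3b4973c29dee8602a77935540daa1df47e80b0e1c94665a102fae8fb2e75bfb13c4086cf341986cdcd1b89525274e289707dc089a95dcd36143201e7469eaebf4a33fbd57a0d511249ce5bb01ac6f4858f0bb27c7f2d3586f9a8c266e13f843f1b1b76e2cfeba650a25967512df818d42c8590b3cc6637a422a8eddb7c709fe33960d4ca144b83ed9f1ea900575a2e65beb12c4765b103faf8fccd0b8852427186df351996c39dfe8702b77ed62a3a4963c57e90b1e1d94835440caa0df148d3d5d79a2c0307689c4e97abbde334f41ae0695e7f20a8fb48ec640115b09c512fd5ae1826da876f2353f267ccbb950f97a190de5844431cdb0ae3ecf99773b06ea72d2a3864dcbc0c98234561f7d8256891da5f62aec0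2b5714b6138bffee6921caf6683322f577bdbc888a4ffc150605c19b415ed2b7dabaf345f30a916e4e0e27b139d4c5a69d3c720078ed498bc37b6f5c329688afd217e62d201559bf5ca06bc1e4f4881270e056efa9af3b34eba47d14938e600cc799d85add471320a5cd043a84fdee19b971504646a332d9eacb0d778f923e7916563d891fc45d8280c2cb7ff5380b6a71f2beecb621a54738b4d3a7fd2a73606eec2991dbdae544931c900e580f47ae8b2fea146613c0fb575fb2a86841dcf70825239561bcdc9c5e02b8c14b4115d6058a9ffabd6c8e222577f6b83369f1c5ed998172d078a64d3c3904c30ef7b791be4e45230ada6af9f4581d6b11e4bf8ca020c55f17362b887fd25ce296c3ab6047c324d88add0c1799935e66a4ad123be4ebef79af70305292ee760da78fd93acb467334718040eec9b93a54fda51d0b21754fbe3cb66aa1f2f5e80dc21b795d528089cfc4168636d5aa024ae3fb9e7ebf01374036c434a98dcd7d1089e2597f66313bf978c22de586b2ac79855f0d1a16f4ce8bb051c24db31c692c5590f8c8d467812b50725fcf3ba61ba6e284ef140087509fcea94b53edd41a12e3e9667ca09fa83ddb3774281946cc860f35529271cddb8efa28fa656103b1fc472eb5b1aaddf535940ce109487e40b749b3c3d6fa3a02677e9d2e837ff0a7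e0b95e34241aab6de59c9e9103d768d74a2c4803dacc6b9e53226787bf2318f6dc2f05a8b04c5164d115fb98e356f237c9bbce1d268a826f75b59c012ad5f8fe48bc61014ae5690e7a20f7aebdb331f44c060738994ec14dd385d29a7830445caf0da57b90e1e4d91ed32a6a4c639398fed707b72183df651c969cc80bd857422760b153fff8aa2b65eeb42c1d9a1ef9055700d1ca444e83bb7970cfe6393632a472aded842985c0b6cc3962517dfd1882caebf655a20f813f4b1e76b6fca89263e16bb77c2f2835d01fc6a4808f5d541219cb5bef4f33abd07a5204e7169baee9ac5d9d331464e7892078c0d2bbece624a51ff0385b6f71a45882d0c7cb2913566d8c1f9b0877df973e2643a362dcea9deb19e9745010a0cd543f84a9dd5a8d421374968e3009c7cf3e34bba17d4275e006eaa9f06ec1b4f1884d251509ba5cf68daf8212e67bc67b3f5932cc770028e849d13cd495a39d6a946e1e0b27e7dfbaa340f355c49b115bd2e88f4fac10065327f527b8bcde6c219af3686711b6438effba5a62fec52b01f2d8756d918cb90cc826453ea22d7a3d6483e9f9c776b03841434cde0ab50a97f195de008ccf9413866dc71b295852d66fa1a2f0e85b24751fbb3ce93f54ada01d54748010ebc9efdc3a9b43736297ee2608a7dbea79ff753006a1ad423ee4bd0917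c9965e3042c374dd8a8259e2c6c6ab3f12367b8d7f84ba8cf025c509f1584d6e11be40235adf6aa30bf7e794be18a34d6c3c0495e899d177d027f3b8636cf19ab86cde27252110d6558f9fac5b02e8c44b15269531b9dcc86d418cf20873c5fb075ab2fe8e2fba11664c950e080a47f1dedab541934a76603ee929c73db483a2fd7161d145fe98bc2a05f8b54c0782bf731df68ac96bce562238d24a7c4d0385999ec106d73e31244aae6db37af0f7e5b90a07672e982ed74cb393d3fa6ce409187b40e1afdda5309453b4fc172bb5eeff28aa606155579221c8dbd81c469c830f6fad3d8b327472e6e93679a0c94e53bdd11a440587009acef61ea6b281ef4b55720fca3bf0fdc88462817db61c392955c4cb8be054c219805f5d1f16a228e5d6b7ac2f63316bfc789d7810d9e7592033c464ac8d9b9b7eef043716d0aa524fe3a1c5db055a92fc8e0fb811464726b533b9fcca6d618ef2287876403ce909c53d9481a2dd7e952e0a0a67f3defab741b34aa36d6e3c2497e8b9d377f02c400358df4aa10bd7e5949e1310f6578fbfae5b22eac46b15f398616cd198b84cdc27052f0937cb967e3242e376ddaa89ea59fd751004a18d403ec4b6baacf225e50bf1784f6e31b059c2c4c68b3d1216798d5f846f81a0f0c85924551dbb1ce28cef9613a66fc73b2b5872dddc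1a9943536097ce240887db3f74afa03d5674a012ebe9e028c5d4b78c2d631169fc5896cbabe254e21b807f5f1f36a99b5eed041714d08a504fc3af7830dbe7792233e466acad9b4e73bfd13a4605a7029aeefdad1d89325470e6c9347980c2fde88662a17fb63c3b2975c41e86b081cf4955520dca1bfee4291a7b60e3affda730b45807472c980ed54c9391d3da6757b223c8fbda1c669e832f61b4dc152b95ecff08a8604155829f711dd688c94bcc56023361f147feb8be2a25fab56c0c310448ae4db17ad0f5e5990ad26a7e4d238799bec306f7321fe6a680af5f54321bcb7be4fc889063c169b75c2d2815dbac7d9f333466e7a92278e0dd4f13a9d05a5004c7149b8ee97950cde61934328470adcd8f9a3efb057702d1ea464ea3b0cacbf455820d811f491e56b629a5c2b6ec3b62717ffd388cd30a684c439198ded507972a30645eaf2da77bb0e3e4f915609151ffd8a82b45ecb40c1383ff671cb69ec82bda576227b5bc032af5fafe68be61214156d235c99bcc1d0688824f7e06273a996ec34df387d2ba78e5490c7a00f5ae9db131d443f2f8776db18eb92cca2665351196418edfb85a42fcc50b0a41634ede2ab70ab7f395fe0ca20d783d4481e9d9c5769038944e1c0b07e5df9aa140d35e77202ae869d33cf497a3bd6127d525b89cdc6c0198f34867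c4bb135bf2ea8f6fae10265d3e14b9a15d4075c004ea89fbdd7a8f42337696ae3209e7c48d8f8012c679c65b3d5912c26ee1b6f1a84f25350bba7cf658a2d2c7eb2b13766f8c3f90bbcce424851df018596f51afeb39eb747012a0ed563fa4a90857dd971e24438360dcca9671a042eee9bb3a74ffa53d0092ce740d878dd91ac946533fc23b7b5d728289efc616a63921554dbe1cb46a81f0f5c80d171629885fd05cc294c38b6bf4781f6b31e6bfaca220e554a48d103bc4e9ef59ad70105247e326d8aadf0c379b937e68bd4c8c220575f6983169d1ce5e22bac16b4315f6078abff10ed7b5919e4c450308da4af7edb98372f07aa66d3e3924c3dbfae744b31e902e5a0f67a53894d1a7dd2873406cec099a6861def7282723b563bcfc9c8b0fe8144611c0db555f92a79cbe9303f76ad76a2e4823d17fd0a5e0995c340418ab4dee2f25aab06c5364f117fbb8e8cc4b9c530265879f2118d6dcfa08f8654101b1dc452e95ba1966ce862f3752b273cdfb854993c1d6da3802477c9d0e83aafdf735b40ee1294a7e60b950525dcf1ba41b86e084cf1fb33c6b2c7592f8e8d667a120e3c9647c809da81dd937542600a7529feeab4b73efd43a1236e436a9adcf7d308be27974d58a004ac3f99e5ebd01174b857f0f1a36f6ceabb251e24d661139f958c02dc584b28c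75ab9de134d418e0495c7f00a348f3d7d7ba2e03276a9c6e9c1806d8874f2153d265cc9b9afb68ee642117b0bc532ff5aecd2b8a52627386ff3719b6c82e45bcb10c45659101fad8f77eb0b3e1f94a35640eaa2df19dde8502977cd60a384943cb67712ff838d62ca592b3ec6d841f191b56e0cfcba4508252d4ea164ba3ef9f3eab007754378420a8cdd97c509de3196001c7449e8ebd4a13f9d55a06e2a9727de08ba97dcf363439b25c7d2d1584f988c066c13f51324bce7bb21ae6f685af04468330d9cac90d578d921e72a5ed063aa4ffee39bb71704df518096a51f0beccb421854b16763f893fc65da282c2eb7f20355bbf7ca26be1e6f4a819c35b6d5c1294888fd017c62693ae620ce79bd87adf47332070c054ef89ad3b14e9a45d1a8a6ffe152607c1bb435ef2bc6901c8f6483122d575bd9c8339f4c7a6bd3e72207aed6985da9af145d308914e4c0e07b1ecd99573906ca70d283844d70fb7a390fe5a44631edb2ae85f42acc00b551496118bdfeebc2c9a236563f7f82768b1dad86ade47232793be630cf79c3b04e8a44d1170d055ef99a36bf1e7f4b81e20255abf6ca5889fd117d628c34b6c5c0291bedcb521954cf508086a41f75db283c2fb7a16663e892fc80d478c920e75469331d9daceee29ba716043a5fd073ab4f41486108bcfe95f52adc0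1b52f7e82668a1dfbc3c9b23756da71d293854d0ecc99473806b44731fdb3ae60fa7a290ee5f72307bed798239e4c6a6ad39915e4d0e17b4da8af045c306c1ab425ee2bb8a7fff15360022c574bd8c8d6911c9f6583b35740faa3df67ea0b2e1e94dd61a394953c09dce8402877286ef3619a6cfcd3b8b527274658100fac8f92e55bdb11c4053c264cc8b9d1816d9875f26b0ac522fe5abfb78ef643119e0595d7f10a4ab8de034c41f03376b9c7e9248e3d6d7aa25f998c166d138b24c7c2d05831af6f785bf0e51224ace6bbc4a03f8d54a0101d7459e9ebaa96dce362437e2b9737df08e9f2eaa006753d4fa174bb3e87c409ce30965379421a8ddd72cb593b3fc6a67612ef828d1cfdba550925c840f181b46e902577d9d1e844983c0d6ca3fe1394b7e70b2aaedf635a400b1cc442e85bdfa18f965510652a272cdeb8b1976cf863f3264e116fba8ef2f35abb07c54878f2018c6d9cc5b9d53126bd77a2f4833d69cae9203e76d341419ab5de07fc0a4e08957cebbb351f24a856f0e1a26f12dd585b29c7c660138f948ce7d208ae2697336f437a9bdc89e4ebc010745d59a014ad3fca80dd8374421e3d9657c909a4b63eed42a1700b7539ffea51b96e184df1850425ccf0ba3f8f8d767b12eb32c6a2c6598ef49ac700055a49d113bd4ee0c279a936e6347f327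d8bad15cd295c39b6c170628884fd7bfbca320f55af4681e6b21e389ffc716b63ec22b7a5d62856a91f1f5d80821454cbe0cba3a64fea52d0771b043eef9bcd90ac846433192de750d978623a562bcec9b6871dff73820c0cb545f82ad8b1fe914561f903e5b0f77a2dbeae644a31973506dec19943884d0a7cd2d451309da5af00ec7b4918e4ba67d3f3934c6eda98272e074f6883069c1c9bd5c8d22157215e6068aafff5e32bbc17b4d6c1199f3586027c524b88cdb8f7faf103656c4ab125be2e4df8aa040c359945e1d0b17e23ce496a3ad6f77302be879d60aa7f295ee0b41734fde3ab0e9c9c476803da21d793d548fb93ccb267532f2e8766da1895a52fdc51b041186408ecfb3a0fd573fb4aeeb29ea746015439361dcda980847dc970e2a13666e8c2f9758b2d3c7fb2cf008586f41a1bbdce5249518c64b3c5902c58d9f8112d67e25250aba6cf36ef1b7f1b84175d005ea99fc3e04b8a14d4796be3309f7cadd6a8e42237c810f481e46b1cadbf555920a62617efd288729b5c3b6fc35329471addd887940cce60933d1fa474eb3be9a2efa056707e7b92378f0daac6d9e33246104d7159b9eec4f03a8d04a5e54221acb6be31ff6a780bf58b74c2c2805d5fc989163d1624de386d2aa7f06373b997ec4ae8db031c449e5590d7a10fbfe78bf613146b5ac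022ae5fd1d1689825f7056c234c98bc92b55edb41c14608150ffc8afc83bdb57722283ef661ca69098ced407872dd31a694c53967ba0e2e4e91b30745faf3daeb62c3a2965c3fdf88762b17855420cca0bf51e96b181df4705b7039afefa4e63bed12a41e6d9357990ccad0d88324475d09a514fd3a89b4eec04071333f467acbd9e7820dae7692c630168fc489128d5d5b79c2a806f5e1f26a7cbbbe354f2107ac0f4e5890d311449ae5db699aec206e73bd27a7f4d3389c95bcd561234828f701dc68f2a35fbb57c0261e146fea8bb1c769f833f6657a222c8ebddff18a9605150b4cc142b85e2afeda630a45fe4391b7b70e44c8390d3ca6907572d981edf5b32ebc47b1210e6568fafa9b85cdd271524f388606cc196e8a9d277e02ba37d6f3c34900bc7e4948e1d401359df5aa43d8480a2cd7976503de919c2deeab641a34f953e0b0a77fd8e1fb9115640c5cb045a82fb6d718ff2387626a532b9ecc197de250897dcdc0a9843436774b013ebf9ea3f64aea02d5824451cbb0ce56f91a1f0d85ec72b2a5862d38cff9713b66af1684e6e21b7babcf325f50c1206788d4f8159d2c5c69b3342f377ddba8e0927ca966e35a19d413ed4b8ea49fc75000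

/-- The twelve check bits belonging to the information bits `x < 4096`. -/
def chk (x : ℕ) : ℕ := Nat.land (Nat.shiftRight encTab (Nat.mul 12 x)) 4095

/-- The code word (as a mask) with information bits `x < 4096`. -/
def enc (x : ℕ) : ℕ := Nat.add x (Nat.mul 4096 (chk x))

/-- Fast test: the mask `m < 2 ^ 24` is a code word. -/
def isCode (m : ℕ) : Bool := Nat.beq (chk (Nat.land m 4095)) (Nat.shiftRight m 12)

theorem enc_spec : ∀ x < 4096, enc x = xorSel golayBasis x := by
  have : allBelow (fun x => Nat.beq (enc x) (xorSel golayBasis x)) 4096 = true := by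
    decide +kernel
  intro x hx
  exact Nat.eq_of_beq_eq_true ((allBelow_iff _ _).1 this x hx)

theorem chk_lt (x : ℕ) : chk x < 4096 := Nat.and_lt_two_pow (n := 12) _ (by norm_num)

theorem enc_def (x : ℕ) : enc x = x + 4096 * chk x := rfl

theorem enc_lt {x : ℕ} (hx : x < 4096) : enc x < 2 ^ 24 := by
  have := chk_lt x; rw [enc_def]; omega

theorem enc_mod {x : ℕ} (hx : x < 4096) : enc x % 4096 = x := by
  rw [enc_def]; omega

theorem isCode_iff {m : ℕ} : isCode m = true ↔ m = enc (m % 4096) := by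
  have h1 : Nat.land m 4095 = m % 4096 := Nat.and_two_pow_sub_one_eq_mod m 12
  have h2 : Nat.shiftRight m 12 = m / 4096 := Nat.shiftRight_eq_div_pow m 12
  rw [isCode, h1, h2, Nat.beq_eq, enc_def]; omega

theorem isCode_lt {m : ℕ} (h : isCode m = true) : m < 2 ^ 24 := by
  rw [isCode_iff.1 h]; exact enc_lt (Nat.mod_lt _ (by norm_num))

theorem isCode_enc {x : ℕ} (hx : x < 4096) : isCode (enc x) = true := by
  rw [isCode_iff, enc_mod hx]

theorem enc_xor {x y : ℕ} (hx : x < 4096) (hy : y < 4096) : enc (x ^^^ y) = enc x ^^^ enc y := by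
  rw [enc_spec x hx, enc_spec y hy, enc_spec _ (Nat.xor_lt_two_pow (n := 12) hx hy), xorSel_xor]

theorem isCode_xor {a b : ℕ} (ha : isCode a = true) (hb : isCode b = true) : isCode (a ^^^ b) = true := by
  rw [isCode_iff.1 ha, isCode_iff.1 hb, ← enc_xor (Nat.mod_lt _ (by norm_num)) (Nat.mod_lt _ (by norm_num))]
  exact isCode_enc (Nat.xor_lt_two_pow (n := 12) (Nat.mod_lt _ (by norm_num)) (Nat.mod_lt _ (by norm_num)))

theorem support₂_qrWord (t : ZMod 23) : support₂ (qrWord t) = ofMask (qrMasks.getD t.val 0) := by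
  ext p
  rw [mem_support₂, mem_ofMask]
  revert t p
  decide +kernel

theorem qrMasks_mem : ∀ b ∈ qrMasks, ofMask b ∈ GC := by
  intro b hb
  have : ∀ b ∈ qrMasks, b = 16777215 ∨ ∃ t : ZMod 23, b = qrMasks.getD t.val 0 := by decide +kernel
  rcases this b hb with rfl | ⟨t, rfl⟩
  · rw [ofMask_full]; exact GC_univ
  · rw [← support₂_qrWord]
    exact ⟨_, Submodule.subset_span (Or.inl ⟨t, rfl⟩), rfl⟩

theorem golayBasis_mem : ∀ b ∈ golayBasis, ofMask b ∈ GC := by
  intro b hb
  have : ∀ b ∈ golayBasis, ∃ c ∈ ([8390313, 280, 8389785, 1400, 8390330, 8390551, 8390093, 2000, 1347, 101, 8390243, 8390181] : List ℕ), b = xorSel qrMasks c := by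
    decide +kernel
  obtain ⟨c, -, rfl⟩ := this b hb
  exact xorSel_induction GC_empty (fun _ _ => GC_symmDiff) _ qrMasks_mem c

theorem enc_mem_GC {x : ℕ} (hx : x < 4096) : ofMask (enc x) ∈ GC := by
  rw [enc_spec x hx]
  exact xorSel_induction GC_empty (fun _ _ => GC_symmDiff) _ golayBasis_mem x

/-- Membership in the code is the fast test on the mask. -/
theorem mem_GC_iff {s : Finset GolayPt} : s ∈ GC ↔ isCode (toMask s) = true := by
  constructor
  · rintro ⟨w, hw, rfl⟩
    induction hw using Submodule.span_induction with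
    | mem w hw =>
      rcases hw with ⟨t, rfl⟩ | rfl
      · rw [support₂_qrWord, toMask_ofMask]
        revert t; decide +kernel
      · have : support₂ (1 : GolayPt → ZMod 2) = ofMask 16777215 := by
          rw [ofMask_full]; ext p; simp
        rw [this, toMask_ofMask]; decide +kernel
    | zero =>
      have : support₂ (0 : GolayPt → ZMod 2) = ∅ := by ext p; simp
      rw [this, toMask_empty]; decide +kernel
    | add v w _ _ hv hw => rw [support₂_add, toMask_symmDiff]; exact isCode_xor hv hw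
    | smul a v _ hv =>
      rcases zmod2_cases a with rfl | rfl
      · have : support₂ ((0 : ZMod 2) • v) = ∅ := by ext p; simp
        rw [this, toMask_empty]; decide +kernel
      · simpa using hv
  · intro h
    rw [← ofMask_toMask s, isCode_iff.1 h]
    exact enc_mem_GC (Nat.mod_lt _ (by norm_num))

theorem ofMask_mem_GC {m : ℕ} (hm : m < 2 ^ 24) : ofMask m ∈ GC ↔ isCode m = true := by
  rw [mem_GC_iff, toMask_ofMask_of_lt hm]

theorem ofMask_mem_GC_of_isCode {m : ℕ} (h : isCode m = true) : ofMask m ∈ GC :=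
  (ofMask_mem_GC (isCode_lt h)).2 h

theorem mem_GC_iff_enc {s : Finset GolayPt} : s ∈ GC ↔ ∃ x < 4096, s = ofMask (enc x) := by
  constructor
  · intro h
    refine ⟨toMask s % 4096, Nat.mod_lt _ (by norm_num), ?_⟩
    rw [← isCode_iff.1 (mem_GC_iff.1 h), ofMask_toMask]
  · rintro ⟨x, hx, rfl⟩; exact enc_mem_GC hx

/-- To prove something of all code words, check the 4096 masks. -/
theorem forall_GC {P : Finset GolayPt → Prop} : (∀ s ∈ GC, P s) ↔ ∀ x < 4096, P (ofMask (enc x)) :=
  ⟨fun h _ hx => h _ (enc_mem_GC hx), fun h s hs => by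
    obtain ⟨x, hx, rfl⟩ := mem_GC_iff_enc.1 hs; exact h x hx⟩

theorem ofMask_enc_injOn : Set.InjOn (fun x => ofMask (enc x)) (Finset.range 4096 : Set ℕ) := by
  intro x hx y hy h
  have hx' : x < 4096 := by simpa using hx
  have hy' : y < 4096 := by simpa using hy
  have := (ofMask_inj (enc_lt hx') (enc_lt hy')).1 h
  rw [← enc_mod hx', this, enc_mod hy']

/-- Induction over the code along the systematic basis. -/
theorem GC_induction {P : Finset GolayPt → Prop} (h0 : P ∅) (hx : ∀ s t, P s → P t → P (symmDiff s t))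
    (hb : ∀ b ∈ golayBasis, P (ofMask b)) : ∀ s ∈ GC, P s := by
  rw [forall_GC]
  intro x hx'
  rw [enc_spec x hx']
  exact xorSel_induction h0 hx _ hb x

/-- The number of `x < 4096` with `f x`, as a double loop. -/
def cnt4096 (f : ℕ → Bool) : ℕ := sumBelow (fun a => cntBelow (fun b => f (Nat.add (Nat.mul 64 a) b)) 64) 64

theorem sum_range_mul_eq (g : ℕ → ℕ) (m n : ℕ) : ∑ i ∈ Finset.range (m * n), g i =
    ∑ a ∈ Finset.range n, ∑ b ∈ Finset.range m, g (m * a + b) := by
  induction n with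
  | zero => simp
  | succ n ih => rw [Nat.mul_succ, Finset.sum_range_add, ih, Finset.sum_range_succ _ n]

theorem cnt4096_eq (f : ℕ → Bool) : cnt4096 f = ((Finset.range 4096).filter fun k => f k = true).card := by
  rw [cnt4096, sumBelow_eq]
  simp only [cntBelow_eq, Finset.card_filter]
  rw [show (4096 : ℕ) = 64 * 64 from rfl, sum_range_mul_eq]
  rfl

/-- Counting code words with a property that has a mask test. -/
theorem ncard_GC (P : Finset GolayPt → Prop) (f : ℕ → Bool)
    (h : ∀ x < 4096, P (ofMask (enc x)) ↔ f (enc x) = true) :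
    {s | s ∈ GC ∧ P s}.ncard = cnt4096 (fun x => f (enc x)) := by
  classical
  rw [cnt4096_eq, ← Finset.card_image_of_injOn (f := fun x => ofMask (enc x))
    (ofMask_enc_injOn.mono (by intro x hx; simp at hx ⊢; exact hx.1)), ← Set.ncard_coe_finset]
  congr 1
  ext s
  simp only [Set.mem_ofPred_eq, Finset.coe_image, Finset.coe_filter, Finset.mem_range, Set.mem_image]
  constructor
  · rintro ⟨hs, hP⟩
    obtain ⟨x, hx, rfl⟩ := mem_GC_iff_enc.1 hs
    exact ⟨x, ⟨hx, (h x hx).1 hP⟩, rfl⟩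
  · rintro ⟨x, ⟨hx, hf⟩, rfl⟩
    exact ⟨enc_mem_GC hx, (h x hx).2 hf⟩

/-! ### Weights and duality -/

theorem GC_card {s : Finset GolayPt} (hs : s ∈ GC) :
    s.card = 0 ∨ s.card = 8 ∨ s.card = 12 ∨ s.card = 16 ∨ s.card = 24 := by
  obtain ⟨x, hx, rfl⟩ := mem_GC_iff_enc.1 hs
  rw [card_ofMask]
  have : allBelow (fun x => Nat.testBit 16847105 (pc24 (enc x))) 4096 = true := by decide +kernel
  have h := (allBelow_iff _ _).1 this x hx
  have h2 : pc24 (enc x) < 25 := by
    rw [← card_ofMask]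
    have := Finset.card_le_univ (ofMask (enc x))
    rw [card_golayPt] at this; omega
  generalize pc24 (enc x) = k at h h2
  have : ∀ k < 25, Nat.testBit 16847105 k = true → k = 0 ∨ k = 8 ∨ k = 12 ∨ k = 16 ∨ k = 24 := by
    decide +kernel
  exact this k h2 h

theorem GC_four_dvd_card {s : Finset GolayPt} (hs : s ∈ GC) : 4 ∣ s.card := by
  rcases GC_card hs with h | h | h | h | h <;> rw [h] <;> norm_num

theorem card_symmDiff_add (s t : Finset GolayPt) :
    (symmDiff s t).card + 2 * (s ∩ t).card = s.card + t.card := by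
  have h1 := Finset.card_sdiff_add_card_inter s t
  have h2 := Finset.card_sdiff_add_card_inter t s
  have h3 : (symmDiff s t).card = (s \ t).card + (t \ s).card := by
    rw [symmDiff_def, Finset.sup_eq_union, Finset.card_union_of_disjoint]
    exact disjoint_sdiff_sdiff
  rw [Finset.inter_comm t s] at h2
  omega

theorem GC_even_inter {s t : Finset GolayPt} (hs : s ∈ GC) (ht : t ∈ GC) : Even (s ∩ t).card := by
  have h1 := GC_four_dvd_card hs
  have h2 := GC_four_dvd_card ht
  have h3 := GC_four_dvd_card (GC_symmDiff hs ht)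
  have := card_symmDiff_add s t
  rw [Nat.even_iff]; omega

theorem GC_eq_empty_of_card_lt {s : Finset GolayPt} (hs : s ∈ GC) (h : s.card < 8) : s = ∅ := by
  rw [← Finset.card_eq_zero]; have := GC_card hs; omega

theorem GC_ncard : GC.ncard = 4096 := by
  have := ncard_GC (fun _ => True) (fun _ => true) (by simp)
  simp only [and_true, Set.ofPred_mem_eq] at this
  rw [this]; decide +kernel

/-- Self-duality: a set meeting every basis word evenly is a code word. -/
theorem mem_GC_of_even_basis {s : Finset GolayPt} (h : ∀ b ∈ golayBasis, Even (s ∩ ofMask b).card) : s ∈ GC := by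
  set m := toMask s with hm
  have hc : ofMask (enc (m % 4096)) ∈ GC := enc_mem_GC (Nat.mod_lt _ (by norm_num))
  set t := symmDiff s (ofMask (enc (m % 4096))) with ht
  have h1 : ∀ b ∈ golayBasis, Even (t ∩ ofMask b).card := by
    intro b hb
    have e : t ∩ ofMask b = symmDiff (s ∩ ofMask b) (ofMask (enc (m % 4096)) ∩ ofMask b) := by
      ext p; simp only [ht, Finset.mem_inter, Finset.mem_symmDiff]; tauto
    have a1 := h b hb
    have a2 := GC_even_inter hc (golayBasis_mem b hb)
    have a3 := card_symmDiff_add (s ∩ ofMask b) (ofMask (enc (m % 4096)) ∩ ofMask b)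
    rw [e]; rw [Nat.even_iff] at *; omega
  have h2 : toMask t % 4096 = 0 := by
    rw [ht, toMask_symmDiff, toMask_ofMask_of_lt (enc_lt (Nat.mod_lt _ (by norm_num))), ← hm,
      show (4096 : ℕ) = 2 ^ 12 from rfl, Nat.xor_mod_two_pow, show (2 : ℕ) ^ 12 = 4096 from rfl,
      enc_mod (Nat.mod_lt _ (by norm_num)), Nat.xor_self]
  have key : allBelow (fun y => Nat.beq y 0 ||
      anyL (fun b => Nat.beq (Nat.mod (pc24 (Nat.land (Nat.mul 4096 y) b)) 2) 1) golayBasis) 4096 = true := by
    decide +kernel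
  have hy : toMask t / 4096 < 4096 := by have := toMask_lt t; omega
  have h3 := (allBelow_iff _ _).1 key _ hy
  have e4 : Nat.mul 4096 (toMask t / 4096) = toMask t := by
    show 4096 * (toMask t / 4096) = toMask t
    omega
  rw [Bool.or_eq_true, anyL_iff, e4, Nat.beq_eq] at h3
  rcases h3 with h3 | ⟨b, hb, h3⟩
  · have : t = ∅ := by rw [← ofMask_toMask t, show toMask t = 0 by omega, ofMask_zero]
    rw [ht, ← Finset.bot_eq_empty, symmDiff_eq_bot] at this
    rw [this]; exact hc
  · have a := h1 b hb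
    rw [← ofMask_toMask t, ← ofMask_and, card_ofMask, Nat.even_iff] at a
    rw [Nat.beq_eq] at h3
    have : pc24 (toMask t &&& b) % 2 = 1 := h3
    omega

theorem mem_GC_iff_even {s : Finset GolayPt} : s ∈ GC ↔ ∀ t ∈ GC, Even (s ∩ t).card :=
  ⟨fun hs _ ht => GC_even_inter hs ht, fun h => mem_GC_of_even_basis fun b hb => h _ (golayBasis_mem b hb)⟩

theorem sum_mul_eq_card_inter (v w : GolayPt → ZMod 2) :
    ∑ i, v i * w i = ((support₂ v ∩ support₂ w).card : ZMod 2) := by
  rw [Finset.card_eq_sum_ones, Nat.cast_sum, ← Finset.sum_subset (Finset.subset_univ (support₂ v ∩ support₂ w))]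
  · refine Finset.sum_congr rfl fun p hp => ?_
    simp only [Finset.mem_inter, mem_support₂] at hp
    rcases zmod2_cases (v p) with h | h
    · exact absurd h hp.1
    rcases zmod2_cases (w p) with h' | h'
    · exact absurd h' hp.2
    simp [h, h']
  · intro p _ hp
    simp only [Finset.mem_inter, mem_support₂, not_and, not_not] at hp
    by_cases h : v p = 0
    · simp [h]
    · simp [hp h]

/-! ### Octads and dodecads -/

theorem mem_octads {s : Finset GolayPt} : s ∈ octads ↔ s ∈ GC ∧ s.card = 8 := Iff.rfl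
theorem mem_dodecads {s : Finset GolayPt} : s ∈ dodecads ↔ s ∈ GC ∧ s.card = 12 := Iff.rfl

/-- Mask test for octads. -/
def isOct (m : ℕ) : Bool := and (isCode m) (Nat.beq (pc24 m) 8)
/-- Mask test for dodecads. -/
def isDod (m : ℕ) : Bool := and (isCode m) (Nat.beq (pc24 m) 12)

theorem mem_octads_iff {s : Finset GolayPt} : s ∈ octads ↔ isOct (toMask s) = true := by
  rw [mem_octads, mem_GC_iff, isOct, Bool.and_eq_true, Nat.beq_eq, pc24_toMask]
theorem mem_dodecads_iff {s : Finset GolayPt} : s ∈ dodecads ↔ isDod (toMask s) = true := by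
  rw [mem_dodecads, mem_GC_iff, isDod, Bool.and_eq_true, Nat.beq_eq, pc24_toMask]
theorem ofMask_mem_octads {m : ℕ} (hm : m < 2 ^ 24) : ofMask m ∈ octads ↔ isOct m = true := by
  rw [mem_octads_iff, toMask_ofMask_of_lt hm]
theorem ofMask_mem_dodecads {m : ℕ} (hm : m < 2 ^ 24) : ofMask m ∈ dodecads ↔ isDod m = true := by
  rw [mem_dodecads_iff, toMask_ofMask_of_lt hm]
theorem isOct_lt {m : ℕ} (h : isOct m = true) : m < 2 ^ 24 :=
  isCode_lt (by rw [isOct, Bool.and_eq_true] at h; exact h.1)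
theorem isDod_lt {m : ℕ} (h : isDod m = true) : m < 2 ^ 24 :=
  isCode_lt (by rw [isDod, Bool.and_eq_true] at h; exact h.1)

theorem octads_ncard : octads.ncard = 759 := by
  have := ncard_GC (fun s => s.card = 8) (fun m => Nat.beq (pc24 m) 8)
    (fun x _ => by rw [card_ofMask, Nat.beq_eq])
  exact this.trans (by decide +kernel)

theorem dodecads_ncard : dodecads.ncard = 2576 := by
  have := ncard_GC (fun s => s.card = 12) (fun m => Nat.beq (pc24 m) 12)
    (fun x _ => by rw [card_ofMask, Nat.beq_eq])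
  exact this.trans (by decide +kernel)

theorem golayBasis_octad : ∀ b ∈ golayBasis, ofMask b ∈ octads := by
  intro b hb
  have : ∀ b ∈ golayBasis, isOct b = true := by decide +kernel
  exact (ofMask_mem_octads (isOct_lt (this b hb))).2 (this b hb)

/-- The octads span the code. -/
theorem GC_induction_octads {P : Finset GolayPt → Prop} (h0 : P ∅)
    (hx : ∀ s t, P s → P t → P (symmDiff s t)) (hb : ∀ o ∈ octads, P o) : ∀ s ∈ GC, P s :=
  GC_induction h0 hx fun b hb' => hb _ (golayBasis_octad b hb')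

/-! ### Permutations -/

theorem smul_symmDiff (σ : Equiv.Perm GolayPt) (s t : Finset GolayPt) :
    σ • symmDiff s t = symmDiff (σ • s) (σ • t) := by
  ext p
  simp only [← Finset.inv_smul_mem_iff, Finset.mem_symmDiff]

theorem mem_setSystemAut_of_maps {α : Type*} [DecidableEq α] [Finite α] {B : Set (Finset α)} {σ : Equiv.Perm α}
    (h : ∀ s ∈ B, σ • s ∈ B) : σ ∈ setSystemAut B := by
  rw [MulAction.mem_stabilizer_iff]
  apply Set.eq_of_subset_of_ncard_le
  · rintro _ ⟨s, hs, rfl⟩; exact h s hs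
  · rw [Set.ncard_smul_set]
  · exact Set.toFinite _

theorem mem_setSystemAut_iff {α : Type*} [DecidableEq α] [Finite α] {B : Set (Finset α)} {σ : Equiv.Perm α} :
    σ ∈ setSystemAut B ↔ ∀ s ∈ B, σ • s ∈ B := by
  refine ⟨fun h s hs => ?_, mem_setSystemAut_of_maps⟩
  rw [MulAction.mem_stabilizer_iff] at h
  rw [← h]; exact Set.smul_mem_smul_set hs

theorem mem_M24_iff {σ : Equiv.Perm GolayPt} : σ ∈ M24 ↔ ∀ s ∈ GC, σ • s ∈ GC := mem_setSystemAut_iff

theorem mem_M24_iff_basis {σ : Equiv.Perm GolayPt} : σ ∈ M24 ↔ ∀ b ∈ golayBasis, σ • ofMask b ∈ GC := by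
  rw [mem_M24_iff]
  refine ⟨fun h b hb => h _ (golayBasis_mem b hb), fun h => ?_⟩
  apply GC_induction (P := fun s => σ • s ∈ GC) _ _ h
  · simpa using GC_empty
  · intro s t hs ht; rw [smul_symmDiff]; exact GC_symmDiff hs ht

theorem M24_smul_GC {σ : Equiv.Perm GolayPt} (hσ : σ ∈ M24) {s : Finset GolayPt} : σ • s ∈ GC ↔ s ∈ GC :=
  ⟨fun h => by simpa using mem_M24_iff.1 (inv_mem hσ) _ h, mem_M24_iff.1 hσ s⟩
theorem M24_smul_octads {σ : Equiv.Perm GolayPt} (hσ : σ ∈ M24) {s : Finset GolayPt} :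
    σ • s ∈ octads ↔ s ∈ octads := by
  rw [mem_octads, mem_octads, M24_smul_GC hσ, Finset.card_smul_finset]
theorem M24_smul_dodecads {σ : Equiv.Perm GolayPt} (hσ : σ ∈ M24) {s : Finset GolayPt} :
    σ • s ∈ dodecads ↔ s ∈ dodecads := by
  rw [mem_dodecads, mem_dodecads, M24_smul_GC hσ, Finset.card_smul_finset]

theorem M24_eq_aut_octads : M24 = setSystemAut octads := by
  ext σ
  rw [mem_setSystemAut_iff (B := octads)]
  refine ⟨fun h s hs => (M24_smul_octads h).2 hs, fun h => ?_⟩
  rw [mem_M24_iff]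
  apply GC_induction_octads (P := fun s => σ • s ∈ GC)
  · simpa using GC_empty
  · intro s t hs ht; rw [smul_symmDiff]; exact GC_symmDiff hs ht
  · intro o ho; exact (h o ho).1

/-- The image of the mask `m` (bits below `n`) under the map `f` of bit positions. -/
def actMaskN (f : ℕ → ℕ) (m n : ℕ) : ℕ :=
  Nat.rec (motive := fun _ => ℕ) 0
    (fun k ih => Nat.lor (Nat.shiftLeft (Nat.land (Nat.shiftRight m k) 1) (f k)) ih) n

/-- The image of a 24-bit mask under the map `f` of bit positions. -/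
def actMask (f : ℕ → ℕ) (m : ℕ) : ℕ := actMaskN f m 24

theorem testBit_actMaskN (f : ℕ → ℕ) (m n j : ℕ) :
    (actMaskN f m n).testBit j = true ↔ ∃ k < n, m.testBit k = true ∧ f k = j := by
  induction n with
  | zero => simp [actMaskN]
  | succ n ih =>
    have e : actMaskN f m (n + 1) = (((m >>> n) &&& 1) <<< f n) ||| actMaskN f m n := rfl
    have e2 : ((((m >>> n) &&& 1) <<< f n).testBit j = true) ↔ (m.testBit n = true ∧ f n = j) := by
      rw [Nat.testBit_shiftLeft, Nat.testBit_and, Nat.testBit_shiftRight]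
      simp only [Bool.and_eq_true, decide_eq_true_eq, Nat.testBit_one_eq_true_iff_self_eq_zero]
      constructor
      · rintro ⟨h1, h2, h3⟩
        rw [h3] at h2
        exact ⟨h2, by omega⟩
      · rintro ⟨h1, rfl⟩; simpa using h1
    rw [e, Nat.testBit_or, Bool.or_eq_true, ih, e2]
    constructor
    · rintro (h | ⟨k, hk, h⟩)
      · exact ⟨n, Nat.lt_succ_self n, h⟩
      · exact ⟨k, Nat.lt_succ_of_lt hk, h⟩
    · rintro ⟨k, hk, h⟩
      rcases Nat.lt_succ_iff_lt_or_eq.1 hk with h' | h'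
      · exact Or.inr ⟨k, h', h⟩
      · exact Or.inl (h' ▸ h)

theorem actMask_lt {f : ℕ → ℕ} (hf : ∀ k < 24, f k < 24) (m : ℕ) : actMask f m < 2 ^ 24 := by
  apply Nat.lt_pow_two_of_testBit
  intro i hi
  rw [Bool.eq_false_iff]
  intro h
  obtain ⟨k, hk, -, rfl⟩ := (testBit_actMaskN f m 24 i).1 h
  have := hf k hk; omega

/-- `f` is the permutation `σ` in the numbering of the points. -/
def Represents (f : ℕ → ℕ) (σ : Equiv.Perm GolayPt) : Prop := ∀ p, gIdx (σ p) = f (gIdx p)

theorem Represents.lt {f : ℕ → ℕ} {σ : Equiv.Perm GolayPt} (h : Represents f σ) : ∀ k < 24, f k < 24 := by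
  intro k hk
  have := h (gPt k)
  rw [gIdx_gPt hk] at this
  rw [← this]; exact gIdx_lt _

theorem Represents.smul_ofMask {f : ℕ → ℕ} {σ : Equiv.Perm GolayPt} (h : Represents f σ) (m : ℕ) :
    σ • ofMask m = ofMask (actMask f m) := by
  ext p
  rw [Finset.mem_smul_finset, mem_ofMask, actMask, testBit_actMaskN]
  constructor
  · rintro ⟨q, hq, rfl⟩
    exact ⟨gIdx q, gIdx_lt q, mem_ofMask.1 hq, (h q).symm⟩
  · rintro ⟨k, hk, h1, h2⟩
    refine ⟨gPt k, by simpa [gIdx_gPt hk] using h1, ?_⟩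
    apply gIdx_injective
    show gIdx (σ (gPt k)) = _
    rw [h, gIdx_gPt hk, h2]

theorem Represents.toMask_smul {f : ℕ → ℕ} {σ : Equiv.Perm GolayPt} (h : Represents f σ) (s : Finset GolayPt) :
    toMask (σ • s) = actMask f (toMask s) := by
  conv_lhs => rw [← ofMask_toMask s, h.smul_ofMask]
  exact toMask_ofMask_of_lt (actMask_lt h.lt _)

/-- Mask test for membership in `M24`. -/
def isM24 (f : ℕ → ℕ) : Bool := allL (fun b => isCode (actMask f b)) golayBasis

theorem Represents.mem_M24_iff {f : ℕ → ℕ} {σ : Equiv.Perm GolayPt} (h : Represents f σ) :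
    σ ∈ M24 ↔ isM24 f = true := by
  rw [mem_M24_iff_basis, isM24, allL_iff]
  refine forall₂_congr fun b _ => ?_
  rw [h.smul_ofMask, ofMask_mem_GC (actMask_lt h.lt _)]

theorem represents_self (σ : Equiv.Perm GolayPt) : Represents (fun k => gIdx (σ (gPt k))) σ := by
  intro p; simp

end CL.Spor
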