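/-
Simple groups of order 443520: the principal blocks for the primes 5, 7 and 11.
-/
import Cfsg.Agent.Spor.MOLink

set_option autoImplicit false
set_option maxRecDepth 100000

open Cfsg Finset CL.Char

namespace CL.Spor.MO

def A22 : List ℕ :=
  [1, 2, 3, 4, 5, 6, 7, 8, 9, 10, 11, 12, 14, 15, 16, 18, 20, 21, 22, 24, 28, 30, 32, 33, 35, 36, 40, 42, 44, 45, 48,
  55, 56, 60, 63, 64, 66, 70, 72, 77, 80, 84, 88, 90, 96, 99, 105, 110, 112, 120, 126, 128, 132, 140, 144, 154, 160,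
  165, 168, 176, 180, 192, 198, 210, 220, 224, 231, 240, 252, 264, 280, 288, 308, 315, 320, 330, 336, 352, 360, 384,
  385, 396, 420, 440, 448, 462, 480, 495, 504, 528, 560, 576, 616, 630, 640, 660, 672, 693, 704, 720, 770, 792, 840,
  880, 896, 924, 960, 990, 1008, 1056, 1120, 1152, 1155, 1232, 1260, 1320, 1344, 1386, 1408, 1440, 1540, 1584, 1680,
  1760, 1848, 1920, 1980, 2016, 2112, 2240, 2310, 2464, 2520, 2640, 2688, 2772, 2880, 3080, 3168, 3360, 3465, 3520,
  3696, 3960, 4032, 4224, 4480, 4620, 4928, 5040, 5280, 5544, 5760, 6160, 6336, 6720, 6930, 7040, 7392, 7920, 8064,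
  9240, 9856, 10080, 10560, 11088, 12320, 12672, 13440, 13860, 14784, 15840, 18480, 20160, 21120, 22176, 24640, 27720,
  29568, 31680, 36960, 40320, 44352, 49280, 55440, 63360, 73920, 88704, 110880, 147840, 221760, 443520]

def D22 : List ℕ :=
  [2, 3, 4, 5, 6, 7, 8, 9, 10, 11, 12, 14, 15, 16, 18, 20, 21, 22, 24, 28, 30, 32, 33, 35, 36, 40, 42, 44, 45, 48, 55,
  56, 60, 63, 64, 66, 70, 72, 77, 80, 84, 88, 90, 96, 99, 105, 110, 112, 120, 126, 128, 132, 140, 144, 154, 160, 165,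
  168, 176, 180, 192, 198, 210, 220, 224, 231, 240, 252, 264, 280, 288, 308, 315, 320, 330, 336, 352, 360, 384, 385,
  396, 420, 440, 448, 462, 480, 495, 504, 528, 560, 576, 616, 630, 640, 660]

def E22 : List ℕ :=
  [5, 6, 10, 11, 12, 16, 21, 22, 28, 32, 33, 44, 45, 55, 56, 60, 66, 72, 77, 88, 99, 105, 110, 120, 126, 132, 144,
  154, 160, 165, 176, 192, 198, 210, 220, 231, 252, 264, 280, 308, 320, 330, 336, 352, 384, 385, 396, 440, 462, 495,
  528, 560, 616, 660]

def T7 : List (ℕ × List (ℕ × ℤ)) :=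
  [(448, [(45, -11), (45, -11), (55, -1), (99, -13)]), (448, [(55, -1), (55, -1), (55, -1), (55, -1), (99, -13), (120,
  8)]), (448, [(55, -1), (55, -1), (99, -13), (120, 8), (330, -6), (440, -8)]), (448, [(55, -1), (66, 10), (66, 10),
  (120, 8)]), (1344, [(22, -6), (55, -1), (120, 8), (132, -8), (132, 20), (176, 8)]), (1344, [(55, -1), (66, 10), (66,
  10), (120, 8)]), (1344, [(55, -1), (99, 15), (99, 15), (120, 8), (132, 20), (132, 20)])]

def T5 : List (ℕ × List (ℕ × ℤ)) :=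
  [(120, [(21, 1), (22, 2), (22, 2)]), (240, [(21, 1), (22, 2), (22, 2)]), (320, [(11, -9), (12, -8), (12, -8)]),
  (320, [(21, 1), (99, -1), (154, -6), (231, -9)]), (320, [(21, 1), (99, -1), (154, 14), (231, 11)]), (320, [(99, -1),
  (126, -14), (126, 6), (154, -6)]), (320, [(99, -1), (126, 6), (126, 6), (154, 14)]), (420, [(11, -9), (12, -8), (12,
  -8)]), (640, [(21, 1), (22, 2), (22, 2)]), (840, [(11, -9), (12, -8), (12, -8)]), (960, [(11, -9), (12, -8), (12,
  -8)]), (1120, [(11, -9), (12, -8), (12, -8)]), (1120, [(11, -9), (44, 4), (144, -16), (176, -4)]), (1120, [(66,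
  -14), (99, -1), (144, -16), (176, -4)]), (1120, [(66, -14), (99, 19), (144, -16), (176, 16)]), (1120, [(66, 6), (99,
  -21), (144, 4), (176, -24)]), (1920, [(11, -9), (12, -8), (12, -8)]), (1920, [(11, -9), (21, 1), (231, 31), (264,
  24)]), (1920, [(21, -19), (22, -18), (22, -18)]), (1920, [(21, -19), (44, 4), (44, 4), (66, 26)]), (1920, [(21,
  -19), (66, 6), (66, 26), (154, 14)]), (1920, [(21, -19), (66, 26), (176, 16), (264, 24)]), (1920, [(21, 1), (22, 2),
  (22, 2)]), (1920, [(21, 1), (44, -16), (44, -16), (66, -34)]), (1920, [(21, 1), (66, -14), (66, -14), (154, -26)]),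
  (1920, [(21, 1), (99, -21), (154, -6), (231, -29)]), (2240, [(11, -9), (12, -8), (12, -8)]), (3360, [(11, -9), (12,
  -8), (12, -8)]), (3360, [(11, -9), (44, -16), (144, 24), (176, 16)]), (3360, [(11, -9), (44, 4), (144, -36), (176,
  -24)]), (6720, [(11, -9), (12, -8), (12, -8)]), (6720, [(11, -9), (44, -16), (144, 24), (176, 16)]), (6720, [(11,
  -9), (44, 24), (144, 24), (176, 56)]), (6720, [(66, 6), (99, 39), (144, 24), (176, 56)]), (13440, [(11, -9), (12,
  -8), (12, -8)])]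

def L7 : List (List ℕ × ℤ) :=
  [([10, 12, 12, 120], -105), ([10, 12, 45, 120], -72), ([10, 21, 45, 120], -105), ([10, 45, 120, 144], 60), ([12, 32,
  120, 144], 5), ([12, 56, 56, 120], 5), ([21, 120, 210, 210], 280)]

def L1 : List ((List ℕ × ℤ) × List ℕ × ℤ) :=
  [(([55, 99], 45), [21, 45, 45, 56], 126), (([55, 99], 45), [21, 45, 45, 210], 280), (([55, 99], 45), [45, 45, 56,
  252], -105), (([55, 120], 66), [21, 21, 56, 120], -105), (([55, 120], 66), [21, 56, 56, 120], -28), (([55, 120],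
  66), [21, 56, 120, 210], 126), (([55, 120], 66), [21, 56, 120, 252], -336), (([55, 120], 66), [21, 120, 210, 210],
  280), (([55, 120], 66), [56, 120, 210, 252], -105)]

theorem mem_A22 (d : ℕ) (h : d ∣ 443520) : d ∈ A22 :=
  (by decide +kernel : ∀ d ∈ divL [128, 9, 5, 7, 11], d ∈ A22) d (mem_divL _ (by norm_num) d (by simpa using h))

theorem c22_1 : ∀ q ∈ caseL A22 443520 11, q = (5, 1) ∨ degAll D22 443520 11 q.1 q.2 (if q.2 % 2 = 0 then 2 * 11 else 1)
    (fun _ _ => q.2 % 2 == 0) = true ∧ (q.2 % 2 = 0 → ychk A22 D22 443520 11 q.1 q.2 (fun _ => false) [] = true) := by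
  decide +kernel

theorem c22_2 : ∀ q ∈ caseL A22 443520 7, q.2 % 11 = 0 ∨ if q.2 % 2 = 0 then
    ychk A22 E22 443520 7 q.1 q.2 (· % 11 == 0) (if q.2 % 5 = 0 then [] else T7) = true else
    degAll E22 443520 7 q.1 q.2 (if q.2 % 2 = 0 then 2 * 7 else 1) (fun c F =>
      (q == (3, 1) && ((c, F) == ([55, 99], 45) || (c, F) == ([55, 120], 66))) || A22.all fun K =>
      K % 128 != 0 || K % 7 == 0 || K % 11 == 0 || valAll 443520 7 q.1 q.2 K c F fun _ => false) = true := by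
  decide +kernel

theorem c22_3 : ∀ r ∈ T7, extD E22 443520 11 5 1 r.1 r.2 [] (fun c F l U => L7.elem (c, F) &&
    extD E22 443520 5 4 1 r.1 U [(11, l)] fun _ _ _ _ => false) = true := by
  decide +kernel

theorem c22_4 : ∀ q ∈ caseL A22 443520 5, q.2 % 11 = 0 ∨ if q.2 % 2 = 0 then
    ychk A22 E22 443520 5 q.1 q.2 (· % 11 == 0) T5 = true else q.2 % 7 = 0 ∨ q = (4, 1) := by
  decide +kernel

theorem c22_5 : ∀ r ∈ T5, ∀ q ∈ L7, ext 443520 11 5 1 r.1 q.1 q.2 r.2 [] (fun _ _ => false) = true := by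
  decide +kernel

theorem c22_6 : ∀ q ∈ [([55, 99], (45 : ℤ)), ([55, 120], 66)], degAll E22 443520 11 5 1 (if 1 % 2 = 0 then 2 * 11 else 1)
    (fun c F => !(subB 11 id (fd 7 3 q.1 q.2) (fd 11 5 c F) && subB 7 id (fd 11 5 c F) (fd 7 3 q.1 q.2)) ||
      L1.elem (q, c, F)) = true := by
  decide +kernel

theorem c22_7 : ∀ r ∈ T5, r.1 % 7 = 0 ∨ ∀ q ∈ L1, ext 443520 7 3 1 r.1 q.1.1 q.1.2 r.2 [] (fun l U =>
    ext 443520 11 5 1 r.1 q.2.1 q.2.2 U [(7, l)] fun _ _ => false) = true := by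
  decide +kernel

theorem c22_8 : ∀ K ∈ A22, K % 2 = 0 → K % 5 ≠ 0 → K % 7 ≠ 0 → K % 11 ≠ 0 → ∀ q ∈ L1,
    ext 443520 7 3 1 K q.1.1 q.1.2 [] [] (fun l U => ext 443520 11 5 1 K q.2.1 q.2.2 U [(7, l)] fun l' U =>
      extD E22 443520 5 4 1 K U [(7, l), (11, l')] fun _ _ l'' _ => q == (([55, 99], 45), [21, 45, 45, 210], 280) &&
        l.isPerm [(55, 7), (99, 3), (45, -3), (45, -3)] &&
        l'.isPerm [(21, 5), (45, -3), (45, -3), (210, 2), (280, -8), (280, -8)] &&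
        l''.isPerm [(21, 5), (99, 3), (154, 10), (231, 7)]) = true := by
  decide +kernel

end CL.Spor.MO
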