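/-
Further restrictions on the degrees in a principal block of defect one.
-/
import Cfsg.Agent.Spor.MO22B

set_option autoImplicit false

open Cfsg Finset CL.Char
open scoped ComplexConjugate

namespace CL.Spor.MO

variable {G : Type*} [Group G] [Finite G]

theorem Sub.deg_sq_le {l : List ℕ} (h : Sub (fun χ : IrrCharacter G => dg χ) l) :
    1 + (l.map fun d => d * d).sum ≤ Nat.card G := by
  have := h.sum_le fun d => d * d
  simpa [charDegree_irrOne, ← sum_charDegree_sq, pow_two] using this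

/-- The least square of an integer congruent to `d` modulo `p`. -/
def wt (p d : ℕ) : ℕ := min (d % p) (p - d % p) * min (d % p) (p - d % p)

/-- Some degree occurring once in the block is too small for an element of prime order `q` dividing `v`. -/
def rq (p e v : ℕ) (c : List ℕ) (F : ℤ) (qs : List ℕ) : Bool :=
  qs.any fun q => v % q == 0 && (if e = p - 1 then fd p e c F else c).any fun d =>
    (fd p e c F).count d == 1 && Nat.blt d ((q - 1) * p)

/-- No block with parameters `e`, `v` survives. -/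
noncomputable def ychkR (A D : List ℕ) (g p e v : ℕ) (qs : List ℕ) (R : ℕ → Bool) : Bool :=
  degAll D g p e v (if v % 2 = 0 then 2 * p else 1) fun c F => rq p e v c F qs || (v % 2 == 0 &&
    (yL A g p (e * (p * v))).all fun K => R K || valAll g p e v K c F fun _ => false)

namespace PBk

variable {g p : ℕ} (b : PBk G g p)

theorem wt_le (he : b.e = p - 1) {l : List ℕ} (h : Sub (fun χ : IrrCharacter G => dg χ) l) :
    1 + (l.map (wt p)).sum ≤ p * b.v := by
  obtain ⟨W, hW⟩ := b.B.exists_int_of_e b.pp b.hx he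
  have h1 := h.sum_le (wt p)
  have h2 := b.two_lt
  rw [charDegree_irrOne, show wt p 1 = 1 by rw [wt, Nat.mod_eq_of_lt (by omega), min_eq_left (by omega)]] at h1
  refine h1.trans (Int.ofNat_le.mp ?_)
  rw [← b.hv, ← sum_int_sq_eq W hW, Nat.cast_sum]
  refine sum_le_sum fun χ _ => ?_
  obtain ⟨k, hk⟩ := (int_value_modEq b.pp χ.2.isCharacter (k := 1) (by rw [pow_one, ← orderOf_dvd_iff_pow_eq_one, b.hx])
    (hW χ)).dvd
  have h3 := Nat.div_add_mod (dg χ) p
  have h4 := Nat.mod_lt (dg χ) b.pp.pos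
  rw [wt, Nat.cast_mul, ← pow_two, sq_le_sq, Int.abs_natCast, le_abs]
  generalize dg χ % p = r at *
  have h5 : W χ = p * ((dg χ / p : ℕ) - k) + r := by rw [mul_sub, ← hk, ← Nat.cast_mul]; omega
  generalize ((dg χ / p : ℕ) : ℤ) - k = j at h5
  rcases lt_or_ge j 0 with hj | hj
  · have : (p : ℤ) * j ≤ p * (-1) := mul_le_mul_of_nonneg_left (by omega) (by positivity)
    omega
  · have : (0 : ℤ) ≤ p * j := by positivity
    omega

/-- A character constant on `p`-singular elements and determined in the block by its degree is rational. -/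
theorem exists_int {χ : IrrCharacter G} (h1 : χ ≠ irrOne G) (h : ∀ u, p ∣ orderOf u → (χ : G → ℂ) u = sg p (dg χ))
    (hc : (fd p b.e b.c b.F).count (dg χ) = 1) (u : G) : ∃ z : ℤ, (χ : G → ℂ) u = z := by
  classical
  have key : ∀ σ : ℂ ≃+* ℂ, galIrr σ χ ∈ b.S.filter fun ψ => dg χ = dg ψ := fun σ => by
    simp only [S, mem_filter, mem_erase, mem_union, charDegree_galIrr, and_true]
    refine ⟨fun e => h1 ((galIrr σ).injective (e.trans (Subtype.ext (funext fun y => ?_)))), b.B.mem_of_const _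
      (sg p (dg χ)) (by unfold sg; split_ifs <;> simp) fun y hy => by rw [galIrr_apply, h y hy, map_intCast]⟩
    simp [galIrr_apply, irrOne_apply]
  rw [fd, ← Multiset.coe_count, ← b.map_dg, Multiset.count_map, ← filter_val, ← card_def] at hc
  refine exists_int_of_gal fun σ => ?_
  rw [card_le_one.mp hc.le _ (key σ) _ (key (RingEquiv.refl ℂ))]
  rfl

theorem cc_sing (hv : b.v = 1) {u : G} (hu : p ∣ orderOf u) : cc u = p := by
  have h1 := b.cc_eq (orderOf_pow_orderOf_div (orderOf_pos u).ne' hu)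
  rw [hv, mul_one] at h1
  refine Nat.dvd_antisymm (h1 ▸ Subgroup.card_dvd_of_le fun y hy => ?_)
    (hu.trans (orderOf_dvd_card_of_mem (Subgroup.mem_centralizer_singleton_iff.mpr rfl)))
  rw [Subgroup.mem_centralizer_singleton_iff] at hy ⊢
  exact (Commute.pow_right hy _).eq

/-- The exceptional degree is not too small. -/
theorem f_big (hv : b.v = 1) (hF : 0 < b.F) {lo : ℕ} (h : ∀ χ ∈ b.X0, dg χ % p = 1 → lo ≤ dg χ) :
    (b.B.Y.card : ℤ) + lo * (p - b.e - b.B.Y.card) ≤ b.B.Y.card * (b.B.f * b.B.f) := by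
  classical
  have := Fintype.ofFinite G
  have hθ := isCharacter_sum b.B.Y (fun μ => (μ : G → ℂ) * fun y => conj ((μ : G → ℂ) y)) fun μ _ =>
    μ.2.isCharacter.mul μ.2.isCharacter.conj
  obtain ⟨m, hm, hm'⟩ := exists_mult hθ
  obtain ⟨μ, hμ⟩ := b.B.Y_nonempty b.pp
  have h1 := b.comb (z := p - b.e) (θ := ∑ μ ∈ b.B.Y, (μ : G → ℂ) * fun y => conj ((μ : G → ℂ) y)) (fun u hu => by
    have h2 := sum_irr_mul_conj_self u
    rw [b.cc_sing hv hu, ← sum_subset (subset_univ (b.B.X ∪ b.B.Y)) fun χ _ hχ => by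
      rw [mem_union, not_or] at hχ
      rw [b.out (by rw [b.hv, hv, mul_one]) χ hχ.1 hχ.2 u hu, zero_mul], sum_union (disjoint_left.mpr b.B.disj),
      sum_congr rfl (g := fun _ => 1) fun χ hχ => by
        rw [b.B.X_sing χ hχ u hu]
        rcases b.B.hs χ hχ with h | h <;> simp [h], sum_const, b.B.card_X] at h2
    simp only [Finset.sum_apply, Pi.mul_apply, ← h2]
    simp) hμ
  have h2 : m (irrOne G) = b.B.Y.card := by
    have := hm (irrOne G)
    rw [classInner_sum_left, sum_congr rfl (g := fun _ => 1) fun ν _ => by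
      rw [classInner_mul_left]
      simpa [irrOne_apply] using (classInner_irr ν ν).trans (if_pos rfl)] at this
    exact_mod_cast (by simpa using this.symm : (m (irrOne G) : ℂ) = b.B.Y.card)
  have h3 := hm' 1
  rw [Finset.sum_apply, sum_congr rfl (g := fun _ => (b.B.f : ℂ) * b.B.f) fun ν hν => by
    simp [← ν.2.cast_charDegree, b.B.deg_Y ν hν], sum_const, nsmul_eq_mul] at h3
  simp only [← IsIrrCharacter.cast_charDegree (Subtype.prop _)] at h3
  simp only [hm, h2, Int.sign_eq_one_of_pos hF, Int.cast_one, one_mul] at h1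
  have h4 : (b.B.Y.card : ℤ) + ∑ χ ∈ b.X0, sg p (dg χ) * m χ - m μ = p - b.e := by exact_mod_cast h1
  have h5 : (b.B.Y.card : ℤ) * (b.B.f * b.B.f) = ∑ χ, (m χ : ℤ) * dg χ := by exact_mod_cast h3
  have h6 : ∑ χ ∈ b.B.X, (m χ : ℤ) * dg χ ≤ ∑ χ, (m χ : ℤ) * dg χ :=
    sum_le_sum_of_subset_of_nonneg (subset_univ _) fun _ _ _ => by positivity
  have h7 : (lo : ℤ) * ∑ χ ∈ b.X0, sg p (dg χ) * m χ ≤ ∑ χ ∈ b.X0, (m χ : ℤ) * dg χ := by
    rw [mul_sum]
    refine sum_le_sum fun χ hχ => ?_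
    unfold sg
    split_ifs with h8
    · have := h χ hχ h8
      rw [one_mul, mul_comm]
      gcongr
    · have : (0 : ℤ) ≤ lo * m χ := by positivity
      have : (0 : ℤ) ≤ m χ * dg χ := by positivity
      linarith
  rw [b.sum_X, h2, charDegree_irrOne] at h6
  have h8 : (0 : ℤ) ≤ lo * m μ := by positivity
  rw [← h4, h5]
  push_cast at h6
  linarith

variable [IsSimpleGroup G]

theorem le_of_int {χ : IrrCharacter G} (h1 : χ ≠ irrOne G) (h : ∀ u, p ∣ orderOf u → (χ : G → ℂ) u = sg p (dg χ))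
    (hd : dg χ % p = 1 ∨ dg χ % p = p - 1) (hz : ∀ u, ∃ z : ℤ, (χ : G → ℂ) u = z) {q : ℕ} (hq : q.Prime) (hqp : q ≠ p)
    (hv : q ∣ b.v) : (q - 1) * p ≤ dg χ := by
  obtain ⟨u, hu, hu'⟩ := exists_mem_orderOf_prime _ hq (b.hv ▸ hv.mul_left p)
  choose Z hZ using hz
  have hc := (Nat.coprime_primes hq b.pp).mpr hqp
  have h2 : (p : ℤ) ∣ dg χ - sg p (dg χ) := by
    have h3 := b.two_lt
    have h4 := Nat.div_add_mod (dg χ) p
    unfold sg
    split_ifs with h5
    · exact ⟨(dg χ / p : ℕ), by rw [← Nat.cast_mul]; omega⟩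
    · exact ⟨(dg χ / p : ℕ) + 1, by rw [mul_add, ← Nat.cast_mul]; omega⟩
  have key : ∀ k ∈ range (q - 1), Z (u ^ (k + 1)) ≤ dg χ - q * p := fun k hk => by
    have h3 : orderOf (u ^ (k + 1)) = q := by
      rw [mem_range] at hk
      rw [Nat.Coprime.orderOf_pow (hu' ▸ (Nat.coprime_of_lt_prime (by omega) (by omega) hq)), hu']
    have h4 := Subgroup.mem_centralizer_singleton_iff.mp (pow_mem hu (k + 1))
    have h5 := modEq_of_commute b.pp b.hx h4 χ.2.isCharacter (hZ _) (h _ (by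
      rw [orderOf_mul_of_commute_prime h4 h3 b.hx hc]
      exact dvd_mul_left _ _))
    have h6 := (int_value_modEq hq χ.2.isCharacter (k := 1) (by rw [pow_one, ← h3, pow_orderOf_eq_one]) (hZ _)).dvd
    have h7 := (int_abs_lt_degree b.nc h1 (fun e => by rw [e, orderOf_one] at h3; exact hq.one_lt.ne h3)
      (hZ (u ^ (k + 1)))).2
    have h8 := (Nat.isCoprime_iff_coprime.mpr hc).mul_dvd h6 (by simpa using Int.dvd_sub h2 h5)
    have := Int.le_of_dvd (by omega) h8
    omega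
  obtain ⟨m, -, hm⟩ := fourier_nat χ.2.isCharacter (g := u) (n := q) (by rw [← hu', pow_orderOf_eq_one]) (one_pow q)
  obtain ⟨r, rfl⟩ := Nat.exists_eq_add_one_of_ne_zero hq.ne_zero
  simp only [one_pow, mul_one, sum_range_succ', pow_zero, ← χ.2.cast_charDegree] at hm
  simp only [hZ] at hm
  have h3 : ∑ k ∈ range r, Z (u ^ (k + 1)) + dg χ = (r + 1 : ℕ) * m := by exact_mod_cast hm
  have h4 := sum_le_card_nsmul _ _ _ key
  simp only [Nat.add_sub_cancel, card_range, nsmul_eq_mul] at h4 ⊢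
  have h5 : (0 : ℤ) ≤ (r + 1 : ℕ) * m := by positivity
  zify
  push_cast at h3 h4 h5
  nlinarith

theorem rq_false {qs : List ℕ} (hq : ∀ q ∈ qs, q.Prime ∧ q ≠ p) : rq p b.e b.v b.c b.F qs = false := by
  rw [← Bool.not_eq_true]
  simp only [rq, List.any_eq_true, Bool.and_eq_true, beq_iff_eq, Nat.blt_eq]
  rintro ⟨q, h1, h2, d, h3, h4, h5⟩
  obtain ⟨χ, k1, rfl, k2, k3⟩ : ∃ χ : IrrCharacter G, χ ≠ irrOne G ∧ dg χ = d ∧
      (∀ u, p ∣ orderOf u → (χ : G → ℂ) u = sg p (dg χ)) ∧ (dg χ % p = 1 ∨ dg χ % p = p - 1) := by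
    split_ifs at h3 with he
    · rw [fd, ← Multiset.mem_coe, ← b.map_dg, Multiset.mem_map] at h3
      obtain ⟨χ, k1, k2⟩ := h3
      have := b.mod_of_mem k1
      have := b.two_lt
      exact ⟨χ, fun e => b.one_notMem (e ▸ k1), k2, fun u => b.val_top he k1, by omega⟩
    · rw [c, Multiset.mem_sort, Multiset.mem_map] at h3
      obtain ⟨χ, k1, k2⟩ := h3
      exact ⟨χ, (b.mem_X0.mp k1).1, k2, fun u => b.val_X k1, (b.s_eq (b.mem_X0.mp k1).2).2⟩
  exact absurd (b.le_of_int k1 k2 k3 (b.exists_int k1 k2 h4) (hq q h1).1 (hq q h1).2 (Nat.dvd_of_mod_eq_zero h2))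
    h5.not_ge

theorem ychkR_false {A D qs : List ℕ} (hA : ∀ d, d ∣ g → d ∈ A) (hD : D.Pairwise (· < ·))
    (hD' : ∀ χ : IrrCharacter G, χ ≠ irrOne G → dg χ ∈ D) (hq : ∀ q ∈ qs, q.Prime ∧ q ≠ p) {R : ℕ → Bool}
    (hR : ∀ y : G, orderOf y = 2 → R (cc y) = false) : ¬ ychkR A D g p b.e b.v qs R = true := fun h => by
  have h1 := b.deg_true rfl rfl h hD hD'
  rw [b.rq_false hq, Bool.false_or, Bool.and_eq_true, beq_iff_eq] at h1
  obtain ⟨y, hy, h2⟩ := b.exists_y hA h1.1
  obtain ⟨T, hT, -⟩ := exists_invol_values b.perf hy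
  have h3 := List.all_eq_true.mp h1.2 _ h2
  rw [hR y hy, Bool.false_or] at h3
  obtain ⟨-, -, k⟩ := b.val_true hy hT h3
  simp at k

end PBk

end CL.Spor.MO
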