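/-
Simple groups of order 10200960 and 244823040: subgroups of index 23 and 24 from the principal blocks of defect one.
-/
import Cfsg.Agent.Spor.MO22C

set_option autoImplicit false
set_option maxRecDepth 100000

open Cfsg Finset CL.Char
open scoped ComplexConjugate Classical

namespace CL.Spor.MO

variable {G : Type*} [Group G] [Finite G]

/-- The total multiplicity of the irreducible characters of degree `d`. -/
noncomputable def Mu (m : IrrCharacter G → ℕ) (d : ℕ) : ℕ := ∑ χ with dg χ = d, m χ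

theorem sum_deg {m : IrrCharacter G → ℕ} {S : Finset (IrrCharacter G)} {D : Finset ℕ}
    (h1 : ∀ χ ∈ S, m χ ≠ 0 → dg χ ∈ D) (h2 : ∀ χ : IrrCharacter G, dg χ ∈ D → χ ∈ S) (f : ℕ → ℤ) :
    ∑ χ ∈ S, f (dg χ) * m χ = ∑ d ∈ D, f d * Mu m d := by
  rw [← sum_subset (s₁ := univ.filter fun χ : IrrCharacter G => dg χ ∈ D) (fun χ hχ => h2 χ (mem_filter.1 hχ).2)
    fun χ hχ h => by rw [not_not.1 fun e => h (mem_filter.2 ⟨mem_univ _, h1 χ hχ e⟩), Nat.cast_zero, mul_zero],
    ← sum_fiberwise_of_maps_to (g := fun χ : IrrCharacter G => dg χ) fun χ hχ => (mem_filter.1 hχ).2]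
  refine sum_congr rfl fun d hd => ?_
  rw [Mu, Nat.cast_sum, mul_sum]
  refine sum_congr ?_ fun χ hχ => by rw [(mem_filter.1 hχ).2]
  ext χ
  simp only [mem_filter, mem_univ, true_and]
  exact ⟨fun h => h.2, fun h => ⟨h ▸ hd, h⟩⟩

theorem exists_of_Mu {m : IrrCharacter G → ℕ} {d : ℕ} (h : Mu m d ≠ 0) : ∃ χ : IrrCharacter G, dg χ = d ∧ m χ ≠ 0 := by
  obtain ⟨χ, h1, h2⟩ := exists_ne_zero_of_sum_ne_zero h
  exact ⟨χ, (mem_filter.1 h1).2, h2⟩

theorem le_Mu (m : IrrCharacter G → ℕ) (χ : IrrCharacter G) : m χ ≤ Mu m (dg χ) :=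
  single_le_sum (f := m) (fun _ _ => Nat.zero_le _) (mem_filter.2 ⟨mem_univ _, rfl⟩)

theorem Mu_one (hG : commutator G = ⊤) (m : IrrCharacter G → ℕ) : Mu m 1 = m (irrOne G) := by
  rw [Mu, show (univ.filter fun χ : IrrCharacter G => dg χ = 1) = {irrOne G} from Finset.ext fun χ => by
    simp only [mem_filter, mem_univ, true_and, mem_singleton]
    exact ⟨eq_irrOne_of_degree_one hG, fun h => h ▸ charDegree_irrOne⟩, sum_singleton]

theorem ne_irrOne {χ : IrrCharacter G} (h : dg χ ≠ 1) : χ ≠ irrOne G := fun k => h (by rw [k, charDegree_irrOne])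

theorem exists_irr_lt_index {H : Subgroup G} (hH : H ≠ ⊤) :
    ∃ ψ : IrrCharacter G, ψ ≠ irrOne G ∧ dg ψ < H.index := by
  have := Fintype.ofFinite G
  have hθ := isCharacter_card_fixedBy_sub_one (G := G) (G ⧸ H)
  have h1 : 1 < H.index := Subgroup.one_lt_index_of_ne_top hH
  have e1 : (Nat.card (MulAction.fixedBy (G ⧸ H) (1 : G)) : ℂ) - 1 = (H.index - 1 : ℕ) := by
    rw [MulAction.fixedBy_one_eq_univ, Nat.card_univ, Nat.cast_sub h1.le, Nat.cast_one]; rfl
  obtain ⟨ψ, c1, c2⟩ := exists_irr_constituent hθ fun e => by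
    have := (congrFun e 1).symm.trans e1
    rw [Pi.zero_apply, eq_comm, Nat.cast_eq_zero] at this
    omega
  have c4 := degree_le_of_classInner_ne_zero hθ c1 c2 e1 c1.cast_charDegree.symm
  refine ⟨⟨ψ, c1⟩, fun e => c2 ?_, by change charDegree ψ < _; omega⟩
  obtain rfl : ψ = fun _ => 1 := congrArg Subtype.val e
  have h2 := classInner_card_fixedBy_one (G := G) (G ⧸ H)
  rw [Nat.card_eq_one_iff_unique.2 ⟨(MulAction.pretransitive_iff_subsingleton_quotient G (G ⧸ H)).1 inferInstance,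
    inferInstance⟩] at h2
  rw [show (fun g : G => (Nat.card (MulAction.fixedBy (G ⧸ H) g) : ℂ) - 1) =
    (fun g : G => (Nat.card (MulAction.fixedBy (G ⧸ H) g) : ℂ)) - fun _ => 1 from rfl, classInner_sub_left, h2,
    isIrrCharacter_one.classInner_self, Nat.cast_one, sub_self]

/-- A character of degree `n` with multiplicities `m`. -/
structure MC [Fintype G] (θ : G → ℂ) (n : ℕ) (m : IrrCharacter G → ℕ) : Prop where
  inner : ∀ χ : IrrCharacter G, classInner θ χ = m χ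
  sum : ∀ g, θ g = ∑ χ : IrrCharacter G, (m χ : ℂ) * (χ : G → ℂ) g
  one : θ 1 = n
  le : ∀ χ : IrrCharacter G, m χ ≠ 0 → dg χ ≤ n

theorem exists_MC [Fintype G] {θ : G → ℂ} (hθ : IsCharacter G θ) {n : ℕ} (hn : θ 1 = n) : ∃ m, MC θ n m := by
  obtain ⟨m, h1, h2⟩ := exists_mult hθ
  exact ⟨m, h1, h2, hn, fun χ h => degree_le_of_classInner_ne_zero hθ χ.2 (by rw [h1]; exact_mod_cast h) hn
    χ.2.cast_charDegree.symm⟩

namespace MC

variable [Fintype G] {θ : G → ℂ} {n : ℕ} {m : IrrCharacter G → ℕ} (M : MC θ n m)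
include M

theorem val {D : Finset ℕ} {u : G} (f : ℕ → ℤ) (h : ∀ χ, m χ ≠ 0 → dg χ ∈ D ∧ (χ : G → ℂ) u = f (dg χ)) :
    θ u = (∑ d ∈ D, f d * Mu m d : ℤ) := by
  rw [← sum_deg (S := univ) (fun χ _ k => (h χ k).1) fun _ _ => mem_univ _, M.sum]
  push_cast
  refine sum_congr rfl fun χ _ => ?_
  by_cases k : m χ = 0
  · simp [k]
  · rw [(h χ k).2, mul_comm]

theorem deg {D : Finset ℕ} (h : ∀ χ : IrrCharacter G, dg χ ≤ n → dg χ ∈ D) : (n : ℤ) = ∑ d ∈ D, (d : ℤ) * Mu m d := by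
  have := M.val (u := 1) (fun d => d) fun χ k => ⟨h χ (M.le χ k), by rw [← χ.2.cast_charDegree, Int.cast_natCast]⟩
  rw [M.one] at this
  exact_mod_cast this

theorem comb {g p : ℕ} (b : PBk G g p) (hv : b.v = 1) {z : ℤ} (h : ∀ u, p ∣ orderOf u → θ u = z)
    (hF : n < b.F.natAbs) {D : Finset ℕ} (h1 : ∀ d ∈ b.c, d ≤ n → d ∈ D)
    (h2 : ∀ d ∈ D, d ≠ 1 ∧ ¬ p ∣ d ∧ d < b.F.natAbs) : m (irrOne G) + ∑ d ∈ D, sg p d * Mu m d = z := by
  obtain ⟨μ, hμ⟩ : b.B.Y.Nonempty := card_pos.1 (Nat.pos_of_ne_zero fun e => by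
    have := b.B.card_Y
    have := b.two_lt
    rw [e] at *
    omega)
  have e := b.comb h hμ
  have h3 : m μ = 0 := by_contra fun k => by
    have := M.le μ k
    rw [b.B.deg_Y μ hμ, ← b.natAbs_F] at this
    omega
  rw [← sum_deg (S := b.X0) (fun χ hχ k => h1 _ (b.mem_c hχ) (M.le χ k)) fun χ hχ =>
    b.mem_X (b.mem_S hv (ne_irrOne (h2 _ hχ).1) (h2 _ hχ).2.1) (h2 _ hχ).2.2.ne]
  simp only [M.inner, h3, Nat.cast_zero, mul_zero, sub_zero] at e
  exact_mod_cast e

theorem comb_top {g p : ℕ} (b : PBk G g p) (hv : b.v = 1) (he : b.e = p - 1) {z : ℤ}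
    (h : ∀ u, p ∣ orderOf u → θ u = z) {D : Finset ℕ} (h1 : ∀ χ ∈ b.S, dg χ ≤ n → dg χ ∈ D)
    (h2 : ∀ d ∈ D, d ≠ 1 ∧ ¬ p ∣ d) : m (irrOne G) + ∑ d ∈ D, sg p d * Mu m d = z := by
  have e := b.comb_top he h
  rw [← sum_deg (S := b.S) (fun χ hχ k => h1 _ hχ (M.le χ k)) fun χ hχ =>
    b.mem_S hv (ne_irrOne (h2 _ hχ).1) (h2 _ hχ).2]
  simp only [M.inner] at e
  exact_mod_cast e

theorem irr (hθ : IsCharacter G θ) (h : Mu m n ≠ 0) : IsIrrCharacter G θ := by
  obtain ⟨χ, h1, h2⟩ := exists_of_Mu h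
  rw [eq_of_classInner_ne_zero_of_one_eq hθ χ.2 (by rw [M.inner]; exact_mod_cast h2)
    (by rw [M.one, ← χ.2.cast_charDegree, h1])]
  exact χ.2

end MC

theorem index_of_sym [Fintype G] {χ : IrrCharacter G} (hu : ∀ ψ : IrrCharacter G, dg ψ = dg χ → ψ = χ)
    (hr : ∀ g, (χ : G → ℂ) g⁻¹ = (χ : G → ℂ) g) (h3 : 3 < dg χ) (ha : IsIrrCharacter G (altSq (χ : G → ℂ)))
    {n : ℕ} {m : IrrCharacter G → ℕ} (M : MC (symSq (χ : G → ℂ)) n m) (hm : Mu m (dg χ) ≠ 0)
    (hmin : ∀ ψ : IrrCharacter G, ψ ≠ irrOne G → dg χ ≤ dg ψ) : ∃ H : Subgroup G, H.index = dg χ + 1 := by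
  obtain ⟨ψ, h1, h2⟩ := exists_of_Mu hm
  obtain ⟨H, h4, h5⟩ := exists_index_le_of_altSq χ.2 hr χ.2.cast_charDegree.symm h3 ha (by
    rw [χ.2.isCharacter.classInner_comm (χ.2.isCharacter.mul χ.2.isCharacter), ← symSq_add_altSq]
    exact classInner_ne_zero_of_add_left (isCharacter_symSq χ.2.isCharacter) (isCharacter_altSq χ.2.isCharacter)
      χ.2.isCharacter (by rw [M.inner, ← hu ψ h1]; exact_mod_cast h2))
  obtain ⟨φ, h6, h7⟩ := exists_irr_lt_index h4
  have := hmin φ h6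
  exact ⟨H, by omega⟩

theorem real_of_unique {χ : IrrCharacter G} (hu : ∀ ψ : IrrCharacter G, dg ψ = dg χ → ψ = χ) (u : G) :
    (χ : G → ℂ) u⁻¹ = (χ : G → ℂ) u ∧ ∃ z : ℤ, (χ : G → ℂ) u = z := by
  obtain ⟨z, hz⟩ : ∃ z : ℤ, (χ : G → ℂ) u = z := exists_int_of_gal fun σ => by rw [hu _ (charDegree_galIrr σ _)]
  exact ⟨by rw [← χ.2.conj_apply, hz, map_intCast], z, hz⟩

theorem PBk.mem_deg {g p : ℕ} (b : PBk G g p) {χ : IrrCharacter G} (h : χ ∈ b.S) :
    dg χ ∈ fd p b.e b.c b.F := by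
  rw [fd, ← Multiset.mem_coe, ← b.map_dg]
  exact Multiset.mem_map_of_mem _ h

theorem PBk.exists_unique {g p : ℕ} (b : PBk G g p) (hv : b.v = 1) {d : ℕ} (h1 : d ≠ 1) (h2 : ¬ p ∣ d)
    (h : (fd p b.e b.c b.F).count d = 1) : ∃ χ : IrrCharacter G, dg χ = d ∧ ∀ ψ : IrrCharacter G, dg ψ = dg χ → ψ = χ := by
  have e := dg_rep_of_mem b.map_dg (List.count_pos_iff.1 (h ▸ one_pos) : d ∈ fd p b.e b.c b.F)
  refine ⟨_, e, fun ψ k => by_contra fun hne => ?_⟩
  have := two_le_count b.map_dg (b.mem_S hv (ne_irrOne (by omega)) (by rwa [k, e]))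
    (b.mem_S hv (ne_irrOne (by omega)) (by rwa [e])) hne k
  rw [k, e] at this
  exact absurd (h ▸ this : 2 ≤ 1) (by norm_num)

/-- The principal blocks of a simple group of order 10200960. -/
structure M23B (G : Type*) [Group G] where
  a : PBk G 10200960 23
  b : PBk G 10200960 11
  ae : a.e = 11
  av : a.v = 1
  be : b.e = 5
  bv : b.v = 1
  ac : a.c = [22, 45, 45, 231, 231, 231, 896, 896, 990, 990]
  aF : a.F = 770
  bc : b.c = [45, 45, 230, 1035]
  bF : b.F = 896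
  val : ∃ (z : G) (T : IrrCharacter G → ℤ), orderOf z = 2 ∧ (∀ χ : IrrCharacter G, (χ : G → ℂ) z = T χ) ∧
    b.S.val.map (fun χ => (dg χ, T χ)) =
      ([(1035, 27), (230, 22), (45, -3), (45, -3), (896, 0), (896, 0)] : List (ℕ × ℤ))

namespace M23B

variable [IsSimpleGroup G] (D : M23B G)
include D

theorem degs (χ : IrrCharacter G) (h : dg χ ≤ 253) : dg χ ∈ ({1, 22, 45, 230, 231, 253} : Finset ℕ) := by
  have h0 := degree_pos χ
  simp only [mem_insert, mem_singleton]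
  by_cases h1 : χ = irrOne G
  · exact Or.inl (h1 ▸ charDegree_irrOne)
  by_cases h2 : 23 ∣ dg χ
  · by_cases h3 : 11 ∣ dg χ
    · omega
    · have := D.b.mem_deg (D.b.mem_S D.bv h1 h3)
      rw [D.bc, D.be, D.bF] at this
      simp [fd] at this
      omega
  · have := D.a.mem_deg (D.a.mem_S D.av h1 h2)
    rw [D.ac, D.ae, D.aF] at this
    simp [fd] at this
    omega

theorem mult [Fintype G] {θ : G → ℂ} {n : ℕ} {m : IrrCharacter G → ℕ} (M : MC θ n m) (hn : n ≤ 253) {x y : ℤ}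
    (h1 : ∀ u, 23 ∣ orderOf u → θ u = x) (h2 : ∀ u, 11 ∣ orderOf u → θ u = y) :
    (m (irrOne G) : ℤ) - Mu m 22 - Mu m 45 + Mu m 231 = x ∧ (m (irrOne G) : ℤ) + Mu m 45 - Mu m 230 = y ∧
      (n : ℤ) = m (irrOne G) + 22 * Mu m 22 + 45 * Mu m 45 + 230 * Mu m 230 + 231 * Mu m 231 + 253 * Mu m 253 := by
  have e1 := M.comb D.a D.av h1 (by rw [D.aF]; norm_num; omega) (D := {22, 45, 231})
    (fun d hd k => by rw [D.ac] at hd; simp at hd ⊢; omega) (by rw [D.aF]; decide)
  have e2 := M.comb D.b D.bv h2 (by rw [D.bF]; norm_num; omega) (D := {45, 230})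
    (fun d hd k => by rw [D.bc] at hd; simp at hd ⊢; omega) (by rw [D.bF]; decide)
  have e3 := M.deg fun χ h => D.degs χ (h.trans hn)
  norm_num [sg, Mu_one D.a.perf] at e1 e2 e3
  exact ⟨by linarith, by linarith, by linarith⟩

theorem char23 : Char23 G := by
  have := Fintype.ofFinite G
  refine ⟨?_, fun x hx => by rw [D.b.cc_eq hx, D.bv]⟩
  obtain ⟨χ, hd, hu⟩ := D.a.exists_unique D.av (d := 22) (by norm_num) (by norm_num) (by
    rw [D.ac, D.ae, D.aF]; decide)
  have hr := fun u => (real_of_unique hu u).1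
  have c1 : (χ : G → ℂ) 1 = 22 := by rw [← χ.2.cast_charDegree, hd]; norm_num
  have c23 : ∀ {u : G}, 23 ∣ orderOf u → (χ : G → ℂ) u = -1 := fun hu => by
    rw [D.a.val_X (D.a.mem_X (D.a.mem_S D.av (ne_irrOne (by omega)) (by omega)) (by rw [D.aF, hd]; decide)) hu, hd]
    norm_num [sg]
  have c11 : ∀ {u : G}, 11 ∣ orderOf u → (χ : G → ℂ) u = 0 := fun hu => D.b.val_zero (by omega) hu
  obtain ⟨m, M⟩ := exists_MC (isCharacter_altSq χ.2.isCharacter) (n := 231) (by simp [altSq, c1]; norm_num)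
  obtain ⟨m', M'⟩ := exists_MC (isCharacter_symSq χ.2.isCharacter) (n := 253) (by simp [symSq, c1]; norm_num)
  obtain ⟨e1, e2, e3⟩ := D.mult M (by norm_num) (x := 1) (y := 0)
    (fun u hu => by simp [altSq, c23 hu, c23 (dvd_orderOf_mul_self (by norm_num) (by norm_num) hu)])
    fun u hu => by simp [altSq, c11 hu, c11 (dvd_orderOf_mul_self (by norm_num) (by norm_num) hu)]
  obtain ⟨f1, f2, f3⟩ := D.mult M' (by norm_num) (x := 0) (y := 0)
    (fun u hu => by simp [symSq, c23 hu, c23 (dvd_orderOf_mul_self (by norm_num) (by norm_num) hu)])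
    fun u hu => by simp [symSq, c11 hu, c11 (dvd_orderOf_mul_self (by norm_num) (by norm_num) hu)]
  have h1 : m' (irrOne G) + m (irrOne G) = 1 := by
    have k := classInner_symSq_one_add χ.2 hr
    rw [show classInner (symSq (χ : G → ℂ)) (fun _ => 1) = _ from M'.inner (irrOne G),
      show classInner (altSq (χ : G → ℂ)) (fun _ => 1) = _ from M.inner (irrOne G)] at k
    exact_mod_cast k
  have h2 : m (irrOne G) = 0 := by
    by_contra h0
    obtain ⟨z, T, hz, hT, hS⟩ := D.val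
    have k := M.val (D := {1, 230}) (u := z) (fun d => if d = 1 then 1 else 22) fun ψ k => by
      have k1 := D.degs ψ ((M.le ψ k).trans (by norm_num))
      have k2 := le_Mu m ψ
      have k3 : dg ψ = 1 ∨ dg ψ = 230 := by
        simp only [mem_insert, mem_singleton] at k1
        rcases k1 with e | e | e | e | e | e <;> rw [e] at k2 <;> omega
      refine ⟨by simpa using k3, ?_⟩
      rcases k3 with e | e
      · rw [e, eq_irrOne_of_degree_one D.a.perf e]; simp
      · have k4 : (dg ψ, T ψ) ∈ D.b.S.val.map fun χ => (dg χ, T χ) :=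
          Multiset.mem_map_of_mem _ (D.b.mem_S D.bv (ne_irrOne (by omega)) (by omega))
        rw [hS, e] at k4
        simp at k4
        rw [hT, k4, e]; simp
    rw [altSq, ← pow_two z, ← hz, pow_orderOf_eq_one, c1, hT] at k
    norm_num [Mu_one D.a.perf, show m (irrOne G) = 1 by omega, show Mu m 230 = 1 by omega] at k
    have k5 : T χ * T χ = 68 := by
      rw [← Int.cast_inj (α := ℂ)]; push_cast; linear_combination 2 * k
    have k6 : T χ < 9 := by nlinarith
    have k7 : -9 < T χ := by nlinarith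
    generalize T χ = t at k5 k6 k7
    interval_cases t <;> omega
  obtain ⟨H, hH⟩ := index_of_sym hu hr (by omega) (M.irr (isCharacter_altSq χ.2.isCharacter) (by omega)) M'
    (by rw [hd]; omega) fun ψ k => by
      by_contra! h3
      have k1 := D.degs ψ (by omega)
      have k2 : dg ψ ≠ 1 := fun e => k (eq_irrOne_of_degree_one D.a.perf e)
      simp only [mem_insert, mem_singleton] at k1
      omega
  exact ⟨H, by omega⟩

end M23B

/-- The principal blocks of a simple group of order 244823040. -/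
structure M24B (G : Type*) [Group G] where
  a : PBk G 244823040 23
  b : PBk G 244823040 11
  av : a.v = 1
  bv : b.v = 1
  be : b.e = 10
  aF : 276 < a.F.natAbs
  ha : a.c.filter (· ≤ 276) = [45, 45, 231, 231, 252]
  hb : ((fd 11 10 b.c b.F).filter (· ≤ 276)).Perm [23, 45, 45, 252]

namespace M24B

variable [IsSimpleGroup G] (D : M24B G)
include D

omit [Finite G] [IsSimpleGroup G] in
theorem degA {d : ℕ} (h : d ∈ D.a.c) (k : d ≤ 276) : d ∈ ({45, 231, 252} : Finset ℕ) := by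
  have : d ∈ D.a.c.filter (· ≤ 276) := List.mem_filter.2 ⟨h, by simpa using k⟩
  rw [D.ha] at this
  simpa using this

omit [IsSimpleGroup G] in
theorem degB {χ : IrrCharacter G} (h : χ ∈ D.b.S) (k : dg χ ≤ 276) : dg χ ∈ ({23, 45, 252} : Finset ℕ) := by
  have := D.b.mem_deg h
  rw [D.be] at this
  simpa using D.hb.subset (List.mem_filter.2 ⟨this, by simpa using k⟩)

omit [IsSimpleGroup G] in
theorem degs (χ : IrrCharacter G) (h : dg χ ≤ 276) : dg χ ∈ ({1, 23, 45, 231, 252, 253} : Finset ℕ) := by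
  have h0 := degree_pos χ
  simp only [mem_insert, mem_singleton]
  by_cases h1 : χ = irrOne G
  · exact Or.inl (h1 ▸ charDegree_irrOne)
  by_cases h2 : 23 ∣ dg χ
  · by_cases h3 : 11 ∣ dg χ
    · omega
    · have := D.degB (D.b.mem_S D.bv h1 h3) h
      simp only [mem_insert, mem_singleton] at this
      omega
  · have h4 := D.aF
    have := D.degA (D.a.mem_c (D.a.mem_X (D.a.mem_S D.av h1 h2) (by omega))) h
    simp only [mem_insert, mem_singleton] at this
    omega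

theorem mult [Fintype G] {θ : G → ℂ} {n : ℕ} {m : IrrCharacter G → ℕ} (M : MC θ n m) (hn : n ≤ 276) {x y : ℤ}
    (h1 : ∀ u, 23 ∣ orderOf u → θ u = x) (h2 : ∀ u, 11 ∣ orderOf u → θ u = y) :
    (m (irrOne G) : ℤ) - Mu m 45 + Mu m 231 - Mu m 252 = x ∧ (m (irrOne G) : ℤ) + Mu m 23 + Mu m 45 - Mu m 252 = y ∧
      (n : ℤ) = m (irrOne G) + 23 * Mu m 23 + 45 * Mu m 45 + 231 * Mu m 231 + 252 * Mu m 252 + 253 * Mu m 253 := by
  have h4 := D.aF
  have e1 := M.comb D.a D.av h1 (by omega) (D := {45, 231, 252}) (fun d hd k => D.degA hd (k.trans hn))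
    (by simp only [mem_insert, mem_singleton]; omega)
  have e2 := M.comb_top D.b D.bv D.be h2 (D := {23, 45, 252}) (fun χ hχ k => D.degB hχ (k.trans hn)) (by decide)
  have e3 := M.deg fun χ h => D.degs χ (h.trans hn)
  norm_num [sg, Mu_one D.a.perf] at e1 e2 e3
  exact ⟨by linarith, by linarith, by linarith⟩

theorem char24 : Char24 G := by
  have := Fintype.ofFinite G
  refine ⟨?_, fun x hx => by rw [D.a.cc_eq hx, D.av]⟩
  obtain ⟨χ, hd, hu⟩ := D.b.exists_unique D.bv (d := 23) (by norm_num) (by norm_num) (by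
    rw [D.be, ← List.count_filter (p := (· ≤ 276)) (by decide), D.hb.count_eq]; decide)
  have hr := fun u => (real_of_unique hu u).1
  have c1 : (χ : G → ℂ) 1 = (23 : ℕ) := by rw [← χ.2.cast_charDegree, hd]
  have c23 : ∀ {u : G}, 23 ∣ orderOf u → (χ : G → ℂ) u = 0 := fun hu => D.a.val_zero (by omega) hu
  have c11 : ∀ {u : G}, 11 ∣ orderOf u → (χ : G → ℂ) u = 1 := fun hu => by
    rw [D.b.val_top D.be (D.b.mem_S D.bv (ne_irrOne (by omega)) (by omega)) hu, hd]
    norm_num [sg]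
  obtain ⟨m, M⟩ := exists_MC (isCharacter_altSq χ.2.isCharacter) (n := 253) (by simp [altSq, c1]; norm_num)
  obtain ⟨m', M'⟩ := exists_MC (isCharacter_symSq χ.2.isCharacter) (n := 276) (by simp [symSq, c1]; norm_num)
  obtain ⟨e1, e2, e3⟩ := D.mult M (by norm_num) (x := 0) (y := 0)
    (fun u hu => by simp [altSq, c23 hu, c23 (dvd_orderOf_mul_self (by norm_num) (by norm_num) hu)])
    fun u hu => by simp [altSq, c11 hu, c11 (dvd_orderOf_mul_self (by norm_num) (by norm_num) hu)]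
  obtain ⟨f1, f2, f3⟩ := D.mult M' (by norm_num) (x := 0) (y := 1)
    (fun u hu => by simp [symSq, c23 hu, c23 (dvd_orderOf_mul_self (by norm_num) (by norm_num) hu)])
    fun u hu => by simp [symSq, c11 hu, c11 (dvd_orderOf_mul_self (by norm_num) (by norm_num) hu)]
  obtain ⟨k1, k2⟩ := classInner_symSq_one_of_odd χ.2 hr c1 (by decide)
  have h1 : m' (irrOne G) = 1 := by exact_mod_cast (M'.inner (irrOne G)).symm.trans k1
  have h2 : m (irrOne G) = 0 := by exact_mod_cast (M.inner (irrOne G)).symm.trans k2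
  obtain ⟨H, hH⟩ := index_of_sym hu hr (by omega) (M.irr (isCharacter_altSq χ.2.isCharacter) (by omega)) M'
    (by rw [hd]; omega) fun ψ k => by
      by_contra! h3
      have k1 := D.degs ψ (by omega)
      have k2 : dg ψ ≠ 1 := fun e => k (eq_irrOne_of_degree_one D.a.perf e)
      simp only [mem_insert, mem_singleton] at k1
      omega
  exact ⟨H, by omega⟩

end M24B

end CL.Spor.MO
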