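/-
Simple groups of order 10200960: the structure of the principal blocks.
-/
import Cfsg.Agent.Spor.MO23A
import Cfsg.Agent.Spor.MO23C

set_option autoImplicit false
set_option maxRecDepth 100000

open Cfsg Finset CL.Char

namespace CL.Spor.MO

variable {G : Type*} [Group G] [Finite G]

theorem nonempty_M23B [IsSimpleGroup G] (hG : Nat.card G = 10200960) : Nonempty (M23B G) := by
  have hc := not_comm_of_card hG (by norm_num)
  obtain ⟨a⟩ := nonempty_blk (p := 23) hG hc (by norm_num) (by norm_num) (by norm_num) (by norm_num)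
  obtain ⟨b⟩ := nonempty_blk (p := 11) hG hc (by norm_num) (by norm_num) (by norm_num) (by norm_num)
  obtain ⟨c⟩ := nonempty_blk (p := 5) hG hc (by norm_num) (by norm_num) (by norm_num) (by norm_num)
  have hD : ∀ χ : IrrCharacter G, χ ≠ irrOne G → dg χ ∈ D23 := fun χ h =>
    (by decide +kernel : (A23.filter fun d => Nat.blt 1 d && Nat.ble (d * d) 10200960) = D23) ▸ a.mem_of_deg mem_A23 h
  obtain ⟨ae, av⟩ : a.e = 11 ∧ a.v = 1 := by
    simpa using (c23_1 _ (a.mem_caseL mem_A23)).resolve_right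
      (a.ychkR_false mem_A23 (by decide +kernel) hD (by simp) fun _ _ => rfl)
  have hE : ∀ χ : IrrCharacter G, χ ≠ irrOne G → dg χ ∈ E23 := fun χ h =>
    (by decide +kernel : ∀ d ∈ D23, d % 23 = 0 ∨ d % 23 = 1 ∨ d % 23 = 23 - 1 ∨ d % 23 = 11 ∨ d % 23 = 23 - 11 →
      d ∈ E23) _ (hD χ h) (ae ▸ a.deg_mod av h)
  have h23 : ∀ y : G, orderOf y = 2 → (cc y % 23 == 0) = false := fun y hy => by simpa using a.cc_mod (by omega) hy
  obtain ⟨be, bv⟩ : b.e = 5 ∧ b.v = 1 := by
    simpa using ((c23_2 _ (b.mem_caseL mem_A23)).resolve_left (a.v_mod b (by norm_num) (by omega))).resolve_right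
      (b.ychkR_false mem_A23 (by decide +kernel) hE (by decide) h23)
  have h11 : ∀ y : G, orderOf y = 2 → (cc y % 11 == 0) = false := fun y hy => by simpa using b.cc_mod (by omega) hy
  have hF' : ∀ χ : IrrCharacter G, χ ≠ irrOne G → dg χ = 11 ∨ dg χ ∈ F23 := fun χ h =>
    (by decide +kernel : ∀ d ∈ E23, d % 11 = 0 ∨ d % 11 = 1 ∨ d % 11 = 11 - 1 ∨ d % 11 = 5 ∨ d % 11 = 11 - 5 →
      d = 11 ∨ d ∈ F23) _ (hE χ h) (be ▸ b.deg_mod bv h)
  have hF : ∀ χ : IrrCharacter G, χ ≠ irrOne G → dg χ ∈ F23 := fun χ h => (hF' χ h).resolve_left fun h1 => by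
    have h2 : χ ∈ a.B.Y := (a.mem_S_iff.mp (a.mem_S av h (by omega))).resolve_left fun k => by
      have := (a.s_eq (a.mem_X0.mp k).2).2
      omega
    have h3 : a.B.f = 11 := h1 ▸ (a.B.deg_Y χ h2).symm
    have h4 : a.B.ε = 1 := by have := a.f_mod; omega
    have h5 := a.f_big av (by simp [PBk.F, h3, h4]) (lo := 25) fun ψ hψ k =>
      (hF' ψ (a.mem_X0.mp hψ).1).elim (by omega) fun k' =>
        (by decide +kernel : ∀ d ∈ F23, d % 23 = 1 → 25 ≤ d) _ k' k
    rw [a.card_Y, ae, h3] at h5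
    norm_num at h5
  have sF : F23.Pairwise (· < ·) := by decide +kernel
  obtain ⟨ce, cv⟩ : c.e = 4 ∧ c.v = 3 := by
    simpa using (((c23_3 _ (c.mem_caseL mem_A23)).resolve_left (a.v_mod c (by norm_num) (by omega))).resolve_left
      (b.v_mod c (by norm_num) (by omega))).resolve_right
      (c.ychkR_false mem_A23 sF hF (by decide) fun y hy => by rw [h23 y hy, h11 y hy]; rfl)
  obtain ⟨z, hz, hz'⟩ := exists_central_invol (G := G) (k := 6) (m := 79695) hG
  obtain ⟨Z, hZ, -⟩ := exists_invol_values a.perf hz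
  have h1 := c.deg_true ce cv c23_5 sF hF
  have h0 := c.rq_false (qs := [3]) (by decide)
  rw [ce, cv] at h0
  rw [h0, Bool.false_or] at h1
  have h2 := List.all_eq_true.mp h1 _ (mem_A23 _ (hG ▸ Subgroup.card_subgroup_dvd_card
    (Subgroup.centralizer ({z} : Set G))))
  rw [h11 z hz, h23 z hz, show (cc z % 128 != 0) = false by simpa using hz',
    show (cc z % 5 == 0) = false by simpa using c.cc_mod (by omega) hz, Bool.false_or, Bool.false_or, Bool.false_or,
    Bool.false_or] at h2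
  obtain ⟨l, -, k1, k2, -⟩ := c.ext_true hz hZ ce cv rfl rfl rfl Sub.nil (by simp) h2
  obtain ⟨l', k3, k4, k5, k6⟩ := b.ext_true hz hZ be bv rfl rfl rfl k2 (by simp)
    (List.all_eq_true.mp k1 (b.c, b.F) (List.mem_of_elem_eq_true (b.deg_true be bv c23_4 sF hF)))
  simp only [Bool.and_eq_true, beq_iff_eq, List.isPerm_iff, Prod.mk.injEq] at k4
  obtain ⟨⟨⟨hK, bc, bF⟩, k7⟩, k8⟩ := k4
  have k9 := k3.trans (Multiset.coe_eq_coe.mpr k7)
  have hU := k5.perm k8.symm
  have hH : ∀ χ : IrrCharacter G, χ ≠ irrOne G → dg χ ∈ G23 := fun χ h =>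
    (by decide +kernel : ∀ d ∈ F23, (¬ 11 ∣ d → d ∈ fd 11 5 [45, 45, 230, 1035] 896) → d ∈ G23) _ (hF χ h) fun k => by
      rw [← Multiset.mem_coe, ← bc, ← bF, ← be, fd, ← b.map_dg]
      exact Multiset.mem_map_of_mem _ (b.mem_S bv h k)
  have h3 := a.deg_true ae av c23_6 (by decide +kernel) hH
  have h4 : Sub (fun χ : IrrCharacter G => dg χ) (uni (u23.map Prod.fst) (fd 23 11 a.c a.F)) :=
    hU.fst.uni (Sub.of_eq a.one_notMem (ae ▸ a.map_dg))
  rw [show Nat.blt 10200960 _ = false by simpa [← Bool.not_eq_true, hG] using h4.deg_sq_le,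
    show Nat.blt (5 * 3) _ = false by simpa [← Bool.not_eq_true, cv] using c.wt_le ce h4, Bool.false_or, Bool.false_or,
    Bool.or_eq_true] at h3
  rcases h3 with h3 | h3
  · rw [beq_iff_eq, Prod.mk.injEq] at h3
    exact ⟨⟨a, b, ae, av, be, bv, h3.1, h3.2, bc, bF, z, Z, hz, hZ, k9⟩⟩
  · obtain ⟨-, -, k, -⟩ := a.ext_true hz hZ ae av hK rfl rfl hU (by
      simpa using ⟨fun l h => b.subB_true bv (φ := fun χ => (dg χ, Z χ)) (κ := Prod.fst) (fun _ => rfl) k9 h,
        fun l h => b.subB_true bv (φ := fun χ => dg χ) (fun _ => rfl) (by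
          rw [← Multiset.map_coe, ← k9, Multiset.map_map]; rfl) h⟩) h3
    simp at k

universe u

theorem h23 : H23.{u} := fun _ _ _ hG =>
  have := hG.1
  (nonempty_M23B hG.2).elim M23B.char23

end CL.Spor.MO
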