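/-
Sign changes and coordinate permutations between vectors of the same shape; `Co0 = ⟨N, ξ⟩` is transitive on the
vectors of sum of squares 64; the order and the centre of `Co0`.
-/
import Cfsg.Agent.Spor.LeechXi
import Cfsg.Agent.Spor.LeechConn
import Cfsg.Agent.Spor.M24Order

set_option autoImplicit false

namespace CL.Spor.Leech

open Cfsg Finset
open scoped Pointwise

/-- `M24` inside `Co0`. -/
noncomputable def pm : M24 →* Co0 := MonoidHom.mk' (fun g => permC g.1 g.2) fun g h => co0_ext' fun v => by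
  rw [mul_smul, coe_permC_smul, coe_permC_smul, coe_permC_smul]; rfl

theorem pm_apply (g : M24) (v : leechLattice) (i : GolayPt) :
    ((pm g • v : leechLattice) : GolayPt → ℤ) i = (v : GolayPt → ℤ) (g⁻¹ • i) :=
  congrFun (coe_permC_smul g.1 g.2 v) i

theorem pm_apply_smul (g : M24) (v : leechLattice) (i : GolayPt) :
    ((pm g • v : leechLattice) : GolayPt → ℤ) (g • i) = (v : GolayPt → ℤ) i := by
  rw [pm_apply, inv_smul_smul]

theorem pm_mem (g : M24) : pm g ∈ Nsub := permC_mem _ g.2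

theorem pm_injective : Function.Injective pm := fun g h e =>
  Subtype.ext (mono_inj (hσ := g.2) (hτ := h.2) (hc := Cset_empty) (hd := Cset_empty) e).1

theorem lev_pm (g : M24) (v : leechLattice) (k : ℤ) :
    lev ((pm g • v : leechLattice) : GolayPt → ℤ) k = g • lev v k := by
  ext i; rw [mem_lev, pm_apply, ← Finset.inv_smul_mem_iff, mem_lev]

theorem cres_pm (g : M24) (v : leechLattice) (k : ℤ) :
    cres ((pm g • v : leechLattice) : GolayPt → ℤ) k = g • cres v k := by
  ext i; rw [mem_cres, pm_apply, ← Finset.inv_smul_mem_iff, mem_cres]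

theorem eps_apply (c : Finset GolayPt) (hc : c ∈ Cset) (v : leechLattice) (i : GolayPt) :
    ((eps c hc • v : leechLattice) : GolayPt → ℤ) i = if i ∈ c then -(v : GolayPt → ℤ) i else (v : GolayPt → ℤ) i :=
  rfl

theorem eps_smul_of_disjoint {c : Finset GolayPt} (hc : c ∈ Cset) {v : leechLattice}
    (h : ∀ i ∈ c, (v : GolayPt → ℤ) i = 0) : eps c hc • v = v := Subtype.ext (funext fun i => by
  rw [eps_apply]; split_ifs with hi
  · rw [h i hi]; rfl
  · rfl)

theorem mem_Nsub_iff_eps_pm {g : Co0} : g ∈ Nsub ↔ ∃ c hc, ∃ σ : M24, g = eps c hc * pm σ :=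
  ⟨fun ⟨σ, hσ, c, hc, h⟩ => ⟨c, hc, ⟨σ, hσ⟩, h.trans (mono_eq_eps_mul ..)⟩,
    fun ⟨c, hc, σ, h⟩ => h ▸ Nsub.mul_mem (eps_mem c hc) (pm_mem σ)⟩

theorem M24_exists_fix_smul_finset {F s t : Finset GolayPt} (hs : Disjoint F s) (ht : Disjoint F t)
    (hc : s.card = t.card) (h5 : F.card + s.card ≤ 5) : ∃ g : M24, (∀ p ∈ F, g • p = p) ∧ g • s = t := by
  have e : s ≃ t := Fintype.equivOfCardEq (by simpa using hc)
  have inj : ∀ {u : Finset GolayPt}, Disjoint F u →
      Function.Injective (Sum.elim Subtype.val Subtype.val : F ⊕ u → GolayPt) := fun {u} hu =>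
    Function.Injective.sumElim Subtype.val_injective Subtype.val_injective fun a b h =>
      Finset.disjoint_left.1 hu a.2 (h ▸ b.2)
  obtain ⟨τ, hτ⟩ := Equiv.Perm.exists_extending_pair _ _ (inj hs)
    ((inj ht).comp (Equiv.sumCongr (Equiv.refl F) e).injective)
  obtain ⟨g, hg⟩ := M24_exists_eq_on (F ∪ s) ((card_union_le _ _).trans h5) τ
  refine ⟨g, fun p hp => (hg p (mem_union_left _ hp)).trans (hτ (Sum.inl ⟨p, hp⟩)), ?_⟩
  refine Finset.eq_of_subset_of_card_le (fun q hq => ?_) (by rw [card_smul_finset, hc])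
  obtain ⟨p, hp, rfl⟩ := Finset.mem_smul_finset.1 hq
  rw [hg p (mem_union_right _ hp), show τ p = e ⟨p, hp⟩ from hτ (Sum.inr ⟨p, hp⟩)]
  exact (e ⟨p, hp⟩).2

/-- The set of coordinates where two vectors differ. -/
def dif (v w : GolayPt → ℤ) : Finset GolayPt := univ.filter fun i => v i ≠ w i

@[simp] theorem mem_dif {v w : GolayPt → ℤ} {i : GolayPt} : i ∈ dif v w ↔ v i ≠ w i := by simp [dif]

theorem neg_eq_of_abs {a b : ℤ} (h : |a| = |b|) (hne : a ≠ b) : -a = b := by
  rcases abs_eq_abs.1 h with h | h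
  · exact absurd h hne
  · omega

theorem sgn_eq_of_inter {v w : GolayPt → ℤ} (h : ∀ i, |v i| = |w i|) {S c : Finset GolayPt}
    (hS : ∀ i, i ∉ S → v i = 0) (hc : c ∩ S = dif v w) : sgn c v = w := by
  funext i
  have h1 : i ∈ c ∧ i ∈ S ↔ v i ≠ w i := by rw [← mem_inter, hc, mem_dif]
  unfold sgn
  by_cases hi : i ∈ S
  · split_ifs with h2
    · exact neg_eq_of_abs (h i) (h1.1 ⟨h2, hi⟩)
    · by_contra h3; exact h2 (h1.2 h3).1
  · have h2 := hS i hi
    have h3 : w i = 0 := by have := h i; rw [h2, abs_zero] at this; exact abs_eq_zero.1 this.symm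
    rw [h2, h3]; simp

theorem dif_subset {v w : GolayPt → ℤ} (h : ∀ i, |v i| = |w i|) {S : Finset GolayPt}
    (hS : ∀ i, i ∉ S → v i = 0) : dif v w ⊆ S := fun i hi => by
  by_contra hi'
  have h2 := hS i hi'
  have := h i
  rw [h2, abs_zero] at this
  exact mem_dif.1 hi (h2.trans (abs_eq_zero.1 this.symm).symm)

theorem dif_mem_of_odd {v w : GolayPt → ℤ} (hv : v ∈ leechLattice) (hw : w ∈ leechLattice)
    (h : ∀ i, |v i| = |w i|) (ho : ∀ i, v i % 2 = 1) : dif v w ∈ Cset := by
  convert Cset_symmDiff (cres_mem hv (r := 3) (by norm_num) (by norm_num))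
    (cres_mem hw (r := 3) (by norm_num) (by norm_num)) using 1
  ext i
  rw [mem_dif, Finset.mem_symmDiff, mem_cres, mem_cres]
  have := ho i
  rcases abs_eq_abs.1 (h i) with h' | h' <;> omega

/-- Odd vectors with the same absolute values differ by the sign change on the set where they differ. -/
theorem eps_dif_smul {v w : leechLattice} (h : ∀ i, |(v : GolayPt → ℤ) i| = |(w : GolayPt → ℤ) i|)
    (ho : ∀ i, (v : GolayPt → ℤ) i % 2 = 1) : eps _ (dif_mem_of_odd v.2 w.2 h ho) • v = w :=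
  Subtype.ext (sgn_eq_of_inter h (S := univ) (fun i hi => absurd (mem_univ i) hi) (inter_univ _))

theorem dif_inter_cres_even {v w : GolayPt → ℤ} (hv : v ∈ leechLattice) (hw : w ∈ leechLattice)
    (h : ∀ i, |v i| = |w i|) (he : ∀ i, v i % 2 = 0) : (dif v w ∩ cres v 2).card % 2 = 0 := by
  have h1 := sum_mod_eight hv
  have h2 := sum_mod_eight hw
  have h3 : w none % 2 = 0 := by have := he none; rcases abs_eq_abs.1 (h none) with h' | h' <;> omega
  rw [he none] at h1
  rw [h3] at h2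
  have h4 : ∑ i, v i - ∑ i, w i = 4 * ∑ i ∈ dif v w, v i / 2 := by
    rw [← Finset.sum_sub_distrib, Finset.mul_sum]
    symm
    refine Finset.sum_subset_zero_on_sdiff (subset_univ _) (fun i hi => ?_) fun i hi => ?_
    · have := (mem_sdiff.1 hi).2
      rw [mem_dif, not_not] at this
      omega
    · have := neg_eq_of_abs (h i) (mem_dif.1 hi)
      have := he i
      omega
  have h5 := sum_mod_two_eq (dif v w) fun i => v i / 2
  have h6 : support₂ (red fun i => v i / 2) = cres v 2 := by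
    ext i; rw [mem_support_red, mem_cres]; have := he i; omega
  rw [h6] at h5
  omega

/-- Even vectors with the same absolute values, supported in a set `S` that contains no code word other than the
obvious ones, differ by a sign change that is trivial on the rest of `S`. -/
theorem exists_eps_of_even {v w : leechLattice} (h : ∀ i, |(v : GolayPt → ℤ) i| = |(w : GolayPt → ℤ) i|)
    (he : ∀ i, (v : GolayPt → ℤ) i % 2 = 0) {S : Finset GolayPt} (hS : ∀ i, i ∉ S → (v : GolayPt → ℤ) i = 0)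
    (hB : ∀ B ∈ Cset, B ⊆ S → B = ∅ ∨ B = cres v 2) :
    ∃ c, ∃ hc : c ∈ Cset, c ∩ S = dif v w ∧ eps c hc • v = w := by
  obtain ⟨c, hc, hcS⟩ := exists_Cset_inter (dif_subset h hS) fun B hB' hBS => by
    rcases hB B hB' hBS with rfl | rfl
    · simp
    · exact dif_inter_cres_even v.2 w.2 h he
  exact ⟨c, hc, hcS, Subtype.ext (sgn_eq_of_inter h hS hcS)⟩

theorem exists_eps_of_small {v w : leechLattice} (h : ∀ i, |(v : GolayPt → ℤ) i| = |(w : GolayPt → ℤ) i|)
    {S : Finset GolayPt} (hS : ∀ i, i ∉ S → (v : GolayPt → ℤ) i = 0) (h7 : S.card ≤ 7) :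
    ∃ c, ∃ hc : c ∈ Cset, c ∩ S = dif v w ∧ eps c hc • v = w := by
  obtain ⟨c, hc, hcS⟩ := exists_Cset_inter_of_card_le (dif_subset h hS) h7
  exact ⟨c, hc, hcS, Subtype.ext (sgn_eq_of_inter h hS hcS)⟩

/-- A set of at most 11 points containing an octad contains no other non-empty code word. -/
theorem Cset_subset_small {S o B : Finset GolayPt} (hS : S.card ≤ 11) (ho : o ∈ Cset) (h8 : o.card = 8)
    (hoS : o ⊆ S) (hB : B ∈ Cset) (hBS : B ⊆ S) : B = ∅ ∨ B = o := by
  have h1 := Finset.card_le_card hBS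
  rcases Cset_card hB with h | h | h | h | h
  · exact Or.inl (Finset.card_eq_zero.1 h)
  · refine Or.inr (octad_eq_of_inter hB ho h h8 ?_)
    have h2 := Finset.card_le_card (Finset.union_subset hBS hoS)
    have := Finset.card_union_add_card_inter B o
    omega
  all_goals omega

theorem Cset_subset_dodecad {d B : Finset GolayPt} (hd : d ∈ Cset) (h12 : d.card = 12) (hB : B ∈ Cset)
    (hBS : B ⊆ d) : B = ∅ ∨ B = d := by
  have h1 := Finset.card_le_card hBS
  have h2 := card_symmDiff_add B d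
  rw [Finset.inter_eq_left.2 hBS] at h2
  have h3 := Cset_card (Cset_symmDiff hB hd)
  rcases Cset_card hB with h | h | h | h | h
  · exact Or.inl (Finset.card_eq_zero.1 h)
  · omega
  · exact Or.inr (Finset.eq_of_subset_of_card_le hBS (by omega))
  all_goals omega

/-- A lattice vector given by numbered coordinates. -/
def lv (x : ℕ → ℤ) (h : inL x = true) : leechLattice := ⟨vecOf x, vecOf_mem h⟩

theorem xi_smul_lv {x y : ℕ → ℤ} (hx : inL x = true)
    (hy : allBelow (fun i => decide (mulN xiM x i = 2 * y i)) 24 = true) :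
    ((xi • lv x hx : leechLattice) : GolayPt → ℤ) = vecOf y := xi_smul_eq rfl hy

/-- A list of integers as a function on the numbers of the points. -/
def lf (l : List ℤ) (i : ℕ) : ℤ := l.getD i 0

/-! ### Transitivity on the crosses -/

section Trans

variable {H : Subgroup Co0}

theorem abs_eq_of_lev {x y : GolayPt → ℤ} (hx : sqNorm x ≤ 64) (hy : sqNorm y ≤ 64)
    (h : ∀ k : ℤ, 1 ≤ k → k ≤ 8 → lev x k = lev y k) (i : GolayPt) : |x i| = |y i| := by
  have h1 := abs_le_of_sqNorm_le (k := 8) (by norm_num) (by simpa using hx) i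
  have h2 := abs_le_of_sqNorm_le (k := 8) (by norm_num) (by simpa using hy) i
  by_cases h3 : 1 ≤ |x i|
  · have : i ∈ lev x |x i| := mem_lev.2 rfl
    rw [h _ h3 h1, mem_lev] at this
    exact this.symm
  by_cases h4 : 1 ≤ |y i|
  · have : i ∈ lev y |y i| := mem_lev.2 rfl
    rw [← h _ h4 h2, mem_lev] at this
    exact this
  have := abs_nonneg (x i)
  have := abs_nonneg (y i)
  omega

theorem abs_eq_ite {x : GolayPt → ℤ} {k : ℤ} (h : sqNorm x = (lev x k).card * k ^ 2) (i : GolayPt) :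
    |x i| = if i ∈ lev x k then k else 0 := by
  split_ifs with hi
  · exact mem_lev.1 hi
  · have h1 : sqNorm x = ∑ j ∈ lev x k, x j ^ 2 + ∑ j ∈ (lev x k)ᶜ, x j ^ 2 := (Finset.sum_add_sum_compl _ _).symm
    rw [Finset.sum_congr rfl (g := fun _ => k ^ 2) (fun j hj => by rw [← sq_abs, mem_lev.1 hj]),
      Finset.sum_const, nsmul_eq_mul, h, left_eq_add,
      Finset.sum_eq_zero_iff_of_nonneg fun _ _ => sq_nonneg _] at h1
    simpa using h1 i (mem_compl.2 hi)

theorem abs_eq_ite2 {x : GolayPt → ℤ} {k l : ℤ} (hkl : k ≠ l)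
    (h : sqNorm x = (lev x k).card * k ^ 2 + (lev x l).card * l ^ 2) (i : GolayPt) :
    |x i| = if i ∈ lev x k then k else if i ∈ lev x l then l else 0 := by
  split_ifs with hi hi'
  · exact mem_lev.1 hi
  · exact mem_lev.1 hi'
  · have h1 : sqNorm x = ∑ j ∈ lev x k ∪ lev x l, x j ^ 2 + ∑ j ∈ (lev x k ∪ lev x l)ᶜ, x j ^ 2 :=
      (Finset.sum_add_sum_compl _ _).symm
    rw [Finset.sum_union (lev_disjoint x hkl),
      Finset.sum_congr rfl (s₁ := lev x k) (g := fun _ => k ^ 2) (fun j hj => by rw [← sq_abs, mem_lev.1 hj]),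
      Finset.sum_congr rfl (s₁ := lev x l) (g := fun _ => l ^ 2) (fun j hj => by rw [← sq_abs, mem_lev.1 hj]),
      Finset.sum_const, Finset.sum_const, nsmul_eq_mul, nsmul_eq_mul, h, left_eq_add,
      Finset.sum_eq_zero_iff_of_nonneg fun _ _ => sq_nonneg _] at h1
    simpa using h1 i (by simp only [mem_compl, mem_union]; tauto)

/-- `(4,4,4,-4)` on the first tetrad. -/
def vB0 : leechLattice :=
  lv (lf [4,4,4,0,0,0,0,0,0,0,0,0,0,0,0,0,0,0,0,0,0,0,0,-4]) (by decide +kernel)

/-- `(6,2,2,2,2,2,2,-2)` on the first two tetrads. -/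
def vC0 : leechLattice :=
  lv (lf [2,2,2,0,2,0,0,0,0,0,0,0,0,2,0,0,2,0,0,0,0,0,-2,6]) (by decide +kernel)

theorem cross_of_B (hN : Nsub ≤ H) (hx : xi ∈ H) {v : leechLattice} (hn : sqNorm (v : GolayPt → ℤ) = 64)
    (h4 : (lev v 4).card = 4) : ∃ g ∈ H, ((g • v : leechLattice) : GolayPt → ℤ) ∈ stdCross := by
  obtain ⟨σ, hσ⟩ := M24_exists_smul_finset (s := lev v 4) (t := ofMask 8388615) (by omega)
    (by rw [h4, card_ofMask]; decide +kernel)
  rw [← lev_pm] at hσ
  have h1 := abs_eq_ite (x := (pm σ • v : leechLattice)) (k := 4)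
    (by rw [sqNorm_smul, hn, hσ, card_ofMask]; decide +kernel)
  rw [hσ] at h1
  obtain ⟨c, hc, -, h2⟩ := exists_eps_of_small (v := pm σ • v) (w := vB0) (S := ofMask 8388615)
    (fun i => (h1 i).trans (by revert i; decide +kernel))
    (fun i hi => by have := h1 i; rw [if_neg hi] at this; exact abs_eq_zero.1 this)
    (by rw [card_ofMask]; decide +kernel)
  refine ⟨xi * (eps c hc * pm σ), H.mul_mem hx (hN (Nsub.mul_mem (eps_mem ..) (pm_mem σ))), ?_⟩
  rw [mul_smul, mul_smul, h2, vB0, xi_smul_lv _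
    (y := lf [0,0,0,0,0,0,0,0,0,0,0,0,0,0,0,0,0,0,0,0,0,0,0,8]) (by decide +kernel)]
  exact ⟨none, 8, Or.inl rfl, by funext i; revert i; decide +kernel⟩

theorem cross_of_C (hN : Nsub ≤ H) (hx : xi ∈ H) {v : leechLattice} (hn : sqNorm (v : GolayPt → ℤ) = 64)
    {i : GolayPt} (h6 : |(v : GolayPt → ℤ) i| = 6) :
    ∃ g ∈ H, ((g • v : leechLattice) : GolayPt → ℤ) ∈ stdCross := by
  have hi : i ∈ lev v 6 := mem_lev.2 h6
  have hp := Finset.card_pos.2 ⟨i, hi⟩
  have hev := even_of_lev v.2 (k := 6) rfl hp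
  obtain ⟨k1, k2, k3⟩ := even_shape v.2 hn.le hev
  have c6 : (lev v 6).card = 1 := by omega
  have c2 : (lev v 2).card = 7 := by omega
  obtain ⟨T, hT, hT4⟩ := Finset.exists_subset_card_eq (s := lev v 2) (n := 4) (by omega)
  obtain ⟨σ1, h1⟩ := M24_trans1 i none
  have hd : none ∉ σ1 • T := fun h => by
    rw [← h1, Finset.smul_mem_smul_finset_iff] at h
    exact Finset.disjoint_left.1 (lev_disjoint (v : GolayPt → ℤ) (k := 2) (l := 6) (by norm_num)) (hT h) hi
  obtain ⟨σ2, h2, h2'⟩ := M24_exists_fix_smul_finset (F := {none}) (s := σ1 • T) (t := ofMask 23)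
    (by simpa using hd) (by decide +kernel) (by rw [card_smul_finset, hT4, card_ofMask]; decide +kernel)
    (by rw [card_smul_finset, hT4]; rfl)
  have h3 : (σ2 * σ1) • i = none := by rw [mul_smul, h1, h2 _ (mem_singleton_self _)]
  have h4 : (σ2 * σ1) • T = ofMask 23 := by rw [mul_smul, h2']
  set σ := σ2 * σ1
  have l6 : lev (pm σ • v : leechLattice) 6 = {none} := by
    rw [lev_pm, ← h3, ← Finset.smul_finset_singleton]
    congr 1
    exact (Finset.eq_of_subset_of_card_le (by simpa using h6) (by simp [c6])).symm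
  have hn' : sqNorm ((pm σ • v : leechLattice) : GolayPt → ℤ) = 64 := by rw [sqNorm_smul, hn]
  have ho : cres (pm σ • v : leechLattice) 2 = ofMask 12656663 := by
    refine octad_unique (s := ofMask 8388631) (by rw [card_ofMask]; decide +kernel)
      ⟨cres_mem (pm σ • v).2 (by norm_num) (by norm_num), ?_⟩
      ((ofMask_mem_octads (by norm_num)).2 (by decide +kernel)) ?_ (by decide +kernel)
    · rw [card_cres_two hn'.le, lev_pm, lev_pm, card_smul_finset, card_smul_finset]; omega
    · rw [cres_two_eq hn'.le, l6, lev_pm, show ofMask 8388631 = ofMask 23 ∪ {none} by decide +kernel, ← h4]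
      exact Finset.union_subset_union (Finset.smul_finset_subset_smul_finset hT) Subset.rfl
  have h5 := abs_eq_ite2 (x := (pm σ • v : leechLattice)) (k := 6) (l := 2) (by norm_num)
    (by rw [hn', lev_pm, lev_pm, card_smul_finset, card_smul_finset, c6, c2]; rfl)
  have l2 : ∀ p, p ∈ lev (pm σ • v : leechLattice) 6 ∨ p ∈ lev (pm σ • v : leechLattice) 2 ↔
      p ∈ ofMask 12656663 := fun p => by rw [← ho, cres_two_eq hn'.le, mem_union, or_comm]
  have h7 : ∀ p, |((pm σ • v : leechLattice) : GolayPt → ℤ) p| =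
      if p = none then 6 else if p ∈ ofMask 12656663 then 2 else 0 := fun p => by
    have := l2 p
    rw [h5]
    simp only [l6, mem_singleton] at this ⊢
    split_ifs <;> tauto
  obtain ⟨c, hc, -, h8⟩ := exists_eps_of_even (v := pm σ • v) (w := vC0) (S := ofMask 12656663)
    (fun p => (h7 p).trans (by revert p; decide +kernel)) (fun p => by rw [pm_apply]; exact hev _)
    (fun p hp => by
      have := h7 p
      rw [if_neg (by rintro rfl; exact hp (by decide +kernel)), if_neg hp] at this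
      exact abs_eq_zero.1 this)
    (fun B hB hBS => Cset_subset_small (by rw [card_ofMask]; decide +kernel)
      (cres_mem (pm σ • v).2 (by norm_num) (by norm_num)) (by rw [ho, card_ofMask]; decide +kernel) ho.le hB hBS)
  obtain ⟨g, hg, h9⟩ := cross_of_B hN hx (v := xi • vC0) (by rw [sqNorm_smul]; decide +kernel) (by
    rw [vC0, xi_smul_lv _ (y := lf [4,4,4,0,0,0,0,0,0,0,0,0,0,0,0,0,0,0,0,0,0,0,-4,0]) (by decide +kernel)]
    decide +kernel)
  refine ⟨g * (xi * (eps c hc * pm σ)),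
    H.mul_mem hg (H.mul_mem hx (hN (Nsub.mul_mem (eps_mem ..) (pm_mem σ)))), ?_⟩
  rw [mul_smul, mul_smul, mul_smul, h8]
  exact h9

theorem cross_of_norm64 (hN : Nsub ≤ H) (hx : xi ∈ H) (v : leechLattice) (hn : sqNorm (v : GolayPt → ℤ) = 64) :
    ∃ g ∈ H, ((g • v : leechLattice) : GolayPt → ℤ) ∈ stdCross := by
  refine conn64 (fun x => ∀ hx : x ∈ leechLattice, ∃ g ∈ H,
    ((g • (⟨x, hx⟩ : leechLattice) : leechLattice) : GolayPt → ℤ) ∈ stdCross)
    (fun x h hx => ⟨1, H.one_mem, by rwa [one_smul]⟩) (fun x _ y hy h1 h2 h3 h4 hx => ?_) v v.2 hn v.2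
  obtain ⟨g, hg, i, s, hs, h5⟩ := h4 hy
  have h6 := dot_smul g ⟨x, hx⟩ ⟨y, hy⟩
  rw [h5, dot_single, h3] at h6
  obtain ⟨k, hk, h7⟩ := cross_of_C hN ‹_› (v := g • ⟨x, hx⟩) (by rw [sqNorm_smul]; exact h1) (i := i) (by
    rcases hs with rfl | rfl <;> rcases abs_cases (((g • (⟨x, hx⟩ : leechLattice) : leechLattice) : GolayPt → ℤ) i)
      with h | h <;> omega)
  exact ⟨k * g, H.mul_mem hk hg, by rwa [mul_smul]⟩

theorem exists_Nsub_e8 {v : leechLattice} (h : (v : GolayPt → ℤ) ∈ stdCross) (j : GolayPt) :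
    ∃ g ∈ Nsub, g • v = e8 j := by
  obtain ⟨i, s, hs, h⟩ := h
  obtain ⟨σ, hσ⟩ := M24_trans1 i j
  have h1 : pm σ • e8 i = e8 j := Subtype.ext (funext fun p => by
    rw [pm_apply, coe_e8, coe_e8, Pi.single_apply, Pi.single_apply]
    simp only [inv_smul_eq_iff, hσ])
  rcases hs with rfl | rfl
  · exact ⟨pm σ, pm_mem σ, by rw [show v = e8 i from Subtype.ext h, h1]⟩
  · refine ⟨pm σ * negOne, Nsub.mul_mem (pm_mem σ) negOne_mem, ?_⟩
    rw [mul_smul, negOne_smul, show -v = e8 i from Subtype.ext (by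
      rw [AddSubgroup.coe_neg, h, coe_e8, ← Pi.single_neg]; rfl), h1]

theorem e8_of_norm64 (hN : Nsub ≤ H) (hx : xi ∈ H) (v : leechLattice) (hn : sqNorm (v : GolayPt → ℤ) = 64)
    (j : GolayPt) : ∃ g ∈ H, g • v = e8 j := by
  obtain ⟨g, hg, h⟩ := cross_of_norm64 hN hx v hn
  obtain ⟨k, hk, h'⟩ := exists_Nsub_e8 h j
  exact ⟨k * g, H.mul_mem (hN hk) hg, by rwa [mul_smul]⟩

/-- `Co0` is generated by the monomial group and `ξ`. -/
theorem eq_top_of_Nsub_xi (hN : Nsub ≤ H) (hx : xi ∈ H) : H = ⊤ := by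
  rw [eq_top_iff]
  intro g _
  obtain ⟨k, hk, h⟩ := cross_of_norm64 hN hx (g • e8 none) (by rw [sqNorm_smul, sqNorm_e8])
  rw [← mul_smul] at h
  simpa using H.mul_mem (H.inv_mem hk) (hN (mem_Nsub_of_one h))

end Trans

theorem exists_e8 (v : leechLattice) (hn : sqNorm (v : GolayPt → ℤ) = 64) (j : GolayPt) : ∃ g : Co0, g • v = e8 j := by
  obtain ⟨g, -, h⟩ := e8_of_norm64 (H := ⊤) le_top trivial v hn j
  exact ⟨g, h⟩

theorem trans64 {v w : leechLattice} (hv : sqNorm (v : GolayPt → ℤ) = 64) (hw : sqNorm (w : GolayPt → ℤ) = 64) :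
    ∃ g : Co0, g • v = w := exists_smul_eq_of_base (exists_e8 v hv none) (exists_e8 w hw none)

theorem ncard_shell_sub (n : ℤ) : {x : leechLattice | sqNorm (x : GolayPt → ℤ) = n}.ncard =
    {x : GolayPt → ℤ | x ∈ leechLattice ∧ sqNorm x = n}.ncard := by
  rw [← Set.ncard_image_of_injective _ Subtype.val_injective]
  refine congrArg Set.ncard (Set.ext fun x => ?_)
  exact ⟨by rintro ⟨y, hy, rfl⟩; exact ⟨y.2, hy⟩, fun h => ⟨⟨x, h.1⟩, h.2, rfl⟩⟩

theorem ncard_stdCross_sub : {x : leechLattice | (x : GolayPt → ℤ) ∈ stdCross}.ncard = 48 := by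
  have : {x : leechLattice | (x : GolayPt → ℤ) ∈ stdCross} =
      Set.range fun p : GolayPt × Bool => cond p.2 (e8 p.1) (-e8 p.1) := by
    ext x
    rw [Set.mem_ofPred_eq, mem_stdCross_iff]
    constructor
    · rintro ⟨i, h | h⟩
      · exact ⟨(i, true), Subtype.ext h.symm⟩
      · exact ⟨(i, false), Subtype.ext (by rw [h, Pi.single_neg]; rfl)⟩
    · rintro ⟨⟨i, _ | _⟩, rfl⟩
      · exact ⟨i, Or.inr (by rw [Pi.single_neg]; rfl)⟩
      · exact ⟨i, Or.inl rfl⟩
  rw [this, Set.ncard_range_of_injective]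
  · rw [Nat.card_prod, natCard_golayPt]; simp
  · rintro ⟨i, a⟩ ⟨j, b⟩ h
    have h1 := congrFun (congrArg Subtype.val h) i
    by_cases e : i = j
    · subst e
      cases a <;> cases b <;> simp [coe_e8] at h1 ⊢
    · cases a <;> cases b <;> simp [coe_e8, e] at h1

theorem card_Nsub' : Nat.card Nsub = 1002795171840 := by rw [card_Nsub, card_M24]

theorem card_stabilizer_e8 (i : GolayPt) : Nat.card (MulAction.stabilizer Co0 (e8 i)) = 20891566080 := by
  have h := card_eq_ncard_orbit_mul Nsub (e8 i)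
  rw [orbit_eq_of_trans (U := {x : leechLattice | (x : GolayPt → ℤ) ∈ stdCross})
    (fun g hg => mem_Nsub_iff_cross.1 hg _ ⟨i, 8, Or.inl rfl, rfl⟩) (fun y hy => by
      obtain ⟨g, hg, h⟩ := exists_Nsub_e8 hy i
      exact ⟨g⁻¹, Nsub.inv_mem hg, by rw [← h, inv_smul_smul]⟩),
    ncard_stdCross_sub, card_Nsub', inf_eq_right.2 fun g hg => mem_Nsub_of_one (i := i)
      (by rw [MulAction.mem_stabilizer_iff.1 hg]; exact ⟨i, 8, Or.inl rfl, rfl⟩)] at h
  omega

theorem card_Co0 : Nat.card Co0 = 8315553613086720000 := by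
  have h := card_eq_ncard_orbit_mul (⊤ : Subgroup Co0) (e8 none)
  rw [orbit_eq_of_trans (U := {x : leechLattice | sqNorm (x : GolayPt → ℤ) = 64})
    (fun g _ => (sqNorm_smul g _).trans (sqNorm_e8 _)) (fun y hy => by
      obtain ⟨g, h⟩ := trans64 (sqNorm_e8 none) hy
      exact ⟨g, trivial, h⟩), ncard_shell_sub, ncard_64, top_inf_eq, card_stabilizer_e8, Subgroup.card_top] at h
  rw [h]

scoped instance instFiniteCo0 : Finite Co0 := Nat.finite_of_card_ne_zero (by rw [card_Co0]; norm_num)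

theorem index_Nsub : Nsub.index = 8292375 := by
  have := Nsub.card_mul_index
  rw [card_Nsub', card_Co0] at this
  omega

theorem negOne_ne_one : negOne ≠ 1 := fun h => by
  have := congrFun (congrArg Subtype.val (negOne_smul (e8 none))) none
  rw [h, one_smul] at this
  simp [coe_e8] at this

theorem negOne_mul_self : negOne * negOne = 1 := co0_ext fun v => by
  rw [mul_smul, negOne_smul, negOne_smul, neg_neg, one_smul]

theorem negOne_mem_center : negOne ∈ Subgroup.center Co0 :=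
  Subgroup.mem_center_iff.2 fun g => co0_ext fun v => by rw [mul_smul, mul_smul, negOne_smul, negOne_smul, smul_neg]

/-- An element commuting with all sign changes is a sign change. -/
theorem eq_eps_of_commute {g : Co0} (h : ∀ c hc, eps c hc * g = g * eps c hc) : ∃ c hc, g = eps c hc := by
  have key : ∀ i j, j ≠ i → ((g • e8 i : leechLattice) : GolayPt → ℤ) j = 0 := fun i j hij => by
    obtain ⟨c, hc, h1⟩ := exists_Cset_inter_of_card_le (S := {i, j}) (A := {j}) (by simp)
      (Finset.card_le_two.trans (by norm_num))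
    have hi : i ∉ c := fun hi => hij (mem_singleton.1 (h1 ▸ mem_inter.2 ⟨hi, by simp⟩)).symm
    have hj : j ∈ c := (mem_inter.1 (h1 ▸ mem_singleton_self j)).1
    have h2 : eps c hc • (g • e8 i) = g • e8 i := by
      rw [← mul_smul, h, mul_smul, eps_smul_of_disjoint]
      intro k hk
      rw [coe_e8, Pi.single_eq_of_ne (by rintro rfl; exact hi hk)]
    have h3 := congrFun (congrArg Subtype.val h2) j
    rw [eps_apply, if_pos hj] at h3
    omega
  have hN : g ∈ Nsub := mem_Nsub_of_e8 fun i => by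
    refine mem_stdCross_of_abs (j := i) (by rw [sqNorm_smul, sqNorm_e8]) ?_
    have h1 := (sqNorm_smul g (e8 i)).trans (sqNorm_e8 i)
    rw [sqNorm, Finset.sum_eq_single i (fun j _ hj => by rw [key i j hj]; rfl) (by simp)] at h1
    exact (sq_eq_sq₀ (abs_nonneg _) (by norm_num)).1 (by rw [sq_abs, h1]; rfl)
  obtain ⟨σ, hσ, c, hc, rfl⟩ := hN
  have : σ = 1 := Equiv.ext fun i => by
    by_contra hi
    have := key i (σ i) hi
    rw [coe_mono_smul, coe_e8, signedPerm_single, Pi.single_eq_same] at this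
    split_ifs at this <;> omega
  subst this
  exact ⟨c, hc, rfl⟩

theorem pm_mul_eps (σ : M24) (c : Finset GolayPt) (hc : c ∈ Cset) :
    pm σ * eps c hc * (pm σ)⁻¹ = eps (σ • c) (image_mem_Cset σ.2 hc) := co0_ext' fun v => by
  funext i
  rw [mul_smul, mul_smul, pm_apply, eps_apply, eps_apply, ← map_inv, pm_apply, inv_inv, smul_inv_smul]
  simp only [Finset.inv_smul_mem_iff]

theorem eps_inj {c d : Finset GolayPt} {hc : c ∈ Cset} {hd : d ∈ Cset} (h : eps c hc = eps d hd) : c = d :=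
  (mono_inj h).2

theorem eps_empty : eps ∅ Cset_empty = 1 := mono_one

theorem eq_of_M24_invariant {c : Finset GolayPt} (h : ∀ σ : M24, σ • c = c) : c = ∅ ∨ c = univ := by
  rcases c.eq_empty_or_nonempty with h1 | ⟨i, hi⟩
  · exact Or.inl h1
  · refine Or.inr (Finset.eq_univ_of_forall fun j => ?_)
    obtain ⟨σ, rfl⟩ := M24_trans1 i j
    rw [← h σ]; exact Finset.smul_mem_smul_finset hi

theorem mem_center_iff {g : Co0} : g ∈ Subgroup.center Co0 ↔ g = 1 ∨ g = negOne := by
  constructor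
  · intro h
    rw [Subgroup.mem_center_iff] at h
    obtain ⟨c, hc, rfl⟩ := eq_eps_of_commute fun c hc => h _
    rcases eq_of_M24_invariant (c := c) (fun σ => eps_inj (hd := hc) (by
      rw [← pm_mul_eps σ c hc, h, mul_inv_cancel_right])) with rfl | rfl
    · exact Or.inl eps_empty
    · exact Or.inr rfl
  · rintro (rfl | rfl)
    · exact Subgroup.one_mem _
    · exact negOne_mem_center

theorem card_center : Nat.card (Subgroup.center Co0) = 2 := by
  have : (Subgroup.center Co0 : Set Co0) = {1, negOne} := Set.ext fun g => mem_center_iff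
  rw [← SetLike.coe_sort_coe, this, Nat.card_coe_set_eq, Set.ncard_pair negOne_ne_one.symm]

end CL.Spor.Leech
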