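/-
Transitivity of `Co0` on short vectors and on pairs of short vectors with given inner product.
-/
import Cfsg.Agent.Spor.LeechTrans

set_option autoImplicit false

namespace CL.Spor.Leech

open Cfsg Cfsg.Spor Finset
open scoped Pointwise

/-- The point `0`. -/
abbrev p0 : GolayPt := some 0

theorem p0_ne : p0 ≠ none := by decide

theorem coe_U : (leechU : GolayPt → ℤ) = Pi.single none 4 + Pi.single p0 4 := by
  funext i; revert i; decide +kernel
theorem coe_U' : (leechU' : GolayPt → ℤ) = Pi.single none 4 + Pi.single p0 (-4) := by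
  funext i; revert i; decide +kernel
theorem dot_U (x : GolayPt → ℤ) : dotInt x leechU = 4 * (x none + x p0) := by
  rw [coe_U, dot_add_right, dot_single, dot_single]; ring
theorem dot_U' (x : GolayPt → ℤ) : dotInt x leechU' = 4 * (x none - x p0) := by
  rw [coe_U', dot_add_right, dot_single, dot_single]; ring
theorem sqNorm_U : sqNorm (leechU : GolayPt → ℤ) = 32 := by decide +kernel
theorem sqNorm_U' : sqNorm (leechU' : GolayPt → ℤ) = 32 := by decide +kernel
theorem sqNorm_V : sqNorm (leechV : GolayPt → ℤ) = 48 := by decide +kernel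
theorem U_zero {i : GolayPt} (h1 : i ≠ none) (h2 : i ≠ p0) : (leechU : GolayPt → ℤ) i = 0 := by
  rw [coe_U]; simp [h1, h2]
theorem U'_zero {i : GolayPt} (h1 : i ≠ none) (h2 : i ≠ p0) : (leechU' : GolayPt → ℤ) i = 0 := by
  rw [coe_U']; simp [h1, h2]

/-- `(-3, 1^23)` as a lattice vector. -/
def lW : leechLattice := ⟨vecW, vecW_mem⟩

/-- `(1, -3, 1^22)` as a lattice vector. -/
def lW' : leechLattice := -(leechU + leechV)

/-- `(-4, 0, 4, 0^21)` as a lattice vector. -/
def lX : leechLattice := lv (lf [0,4,0,0,0,0,0,0,0,0,0,0,0,0,0,0,0,0,0,0,0,0,0,-4]) (by decide +kernel)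

theorem eps_fix {c : Finset GolayPt} (hc : c ∈ Cset) (h1 : none ∉ c) (h2 : p0 ∉ c) :
    eps c hc • leechU = leechU ∧ eps c hc • leechU' = leechU' :=
  ⟨eps_smul_of_disjoint hc fun _ hi => U_zero (by rintro rfl; exact h1 hi) (by rintro rfl; exact h2 hi),
    eps_smul_of_disjoint hc fun _ hi => U'_zero (by rintro rfl; exact h1 hi) (by rintro rfl; exact h2 hi)⟩

theorem pm_fix {σ : M24} (h1 : σ • (none : GolayPt) = none) (h2 : σ • p0 = p0) :
    pm σ • leechU = leechU ∧ pm σ • leechU' = leechU' := by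
  have key : ∀ i : GolayPt, (σ⁻¹ • i = none ↔ i = none) ∧ (σ⁻¹ • i = p0 ↔ i = p0) := fun i => by
    rw [inv_smul_eq_iff, inv_smul_eq_iff, h1, h2]; simp
  constructor <;> refine Subtype.ext (funext fun i => ?_) <;> rw [pm_apply]
  · simp only [coe_U, Pi.add_apply, Pi.single_apply, key]
  · simp only [coe_U', Pi.add_apply, Pi.single_apply, key]

/-! ### Shapes -/

theorem odd_of_one {x : GolayPt → ℤ} (hx : x ∈ leechLattice) {i : GolayPt} (h : x i % 2 = 1) (j : GolayPt) :
    x j % 2 = 1 := (parity_eq hx j i).trans h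

theorem even_of_one {x : GolayPt → ℤ} (hx : x ∈ leechLattice) {i : GolayPt} (h : x i % 2 = 0) (j : GolayPt) :
    x j % 2 = 0 := (parity_eq hx j i).trans h

theorem shape32_four {x : GolayPt → ℤ} (hx : x ∈ leechLattice) (hn : sqNorm x = 32) {i : GolayPt} (h : |x i| = 4) :
    ∃ j, j ≠ i ∧ |x j| = 4 ∧ ∀ k, k ≠ i → k ≠ j → x k = 0 := by
  have hi : i ∈ lev x 4 := mem_lev.2 h
  have hp := Finset.card_pos.2 ⟨i, hi⟩
  obtain ⟨k1, k2, k3⟩ := even_shape hx (by omega) (even_of_lev hx (k := 4) rfl hp)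
  have c4 : (lev x 4).card = 2 := by omega
  obtain ⟨j, hj, hji⟩ := Finset.exists_mem_ne (s := lev x 4) (by omega) i
  refine ⟨j, hji, mem_lev.1 hj, fun k h1 h2 => ?_⟩
  have h3 := abs_eq_ite (x := x) (k := 4) (by rw [hn, c4]; rfl) k
  rw [if_neg, abs_eq_zero] at h3
  · exact h3
  · intro hk
    have := Finset.card_le_card (show ({k, i, j} : Finset GolayPt) ⊆ lev x 4 by
      simp only [insert_subset_iff, singleton_subset_iff]; exact ⟨hk, hi, hj⟩)
    rw [Finset.card_eq_three.2 ⟨k, i, j, h1, h2, hji.symm, rfl⟩] at this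
    omega

/-- An odd vector whose norm is explained by one big coordinate has absolute value 1 elsewhere. -/
theorem abs_eq_one_of_odd {x : GolayPt → ℤ} (ho : ∀ i, x i % 2 = 1) {i : GolayPt} (hn : sqNorm x = x i ^ 2 + 23)
    {j : GolayPt} (hj : j ≠ i) : |x j| = 1 := by
  have pow_pos_of_ne : ∀ k, x k ≠ 0 → 0 < x k ^ 2 := fun k h => by positivity
  have h1 : ∀ k, 1 ≤ x k ^ 2 := fun k => by
    have := ho k
    have : 0 < x k ^ 2 := pow_pos_of_ne k (by omega)
    omega
  have h2 : ∑ k ∈ univ.erase i, (x k ^ 2 - 1) = 0 := by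
    rw [Finset.sum_sub_distrib, Finset.sum_const, Finset.card_erase_of_mem (mem_univ _), Finset.card_univ,
      Leech.card_golayPt]
    have := Finset.add_sum_erase univ (fun k => x k ^ 2) (mem_univ i)
    unfold sqNorm at hn
    simp only [nsmul_eq_mul] at *
    omega
  rw [Finset.sum_eq_zero_iff_of_nonneg fun k _ => by have := h1 k; omega] at h2
  have := h2 j (by simp [hj])
  exact (sq_eq_sq₀ (abs_nonneg _) (by norm_num)).1 (by rw [sq_abs]; omega)

theorem exists_44 {i j : GolayPt} (hij : i ≠ j) {a b : ℤ} (ha : a = 1 ∨ a = -1) (hb : b = 1 ∨ b = -1) :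
    ∃ y : leechLattice, sqNorm (y : GolayPt → ℤ) = 32 ∧ ∀ x, dotInt x y = 4 * (a * x i + b * x j) := by
  have hd : ∀ x : GolayPt → ℤ, dotInt x (Pi.single i (4 * a) + Pi.single j (4 * b)) = 4 * (a * x i + b * x j) :=
    fun x => by rw [dot_add_right, dot_single, dot_single]; ring
  refine ⟨⟨Pi.single i (4 * a) + Pi.single j (4 * b), ?_⟩, ?_, hd⟩
  · have : (Pi.single i (4 * a) + Pi.single j (4 * b) : GolayPt → ℤ) =
        fun k => 4 * (Pi.single i a + Pi.single j b : GolayPt → ℤ) k := by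
      funext k; simp only [Pi.add_apply, Pi.single_apply]; split_ifs <;> ring
    rw [this, four_mul_mem_iff]
    simp only [Pi.add_apply, Finset.sum_add_distrib, Finset.sum_pi_single', mem_univ, if_true]
    omega
  · rw [sqNorm_eq_dot, hd]
    simp only [Pi.add_apply, Pi.single_eq_same, Pi.single_eq_of_ne hij, Pi.single_eq_of_ne hij.symm]
    rcases ha with rfl | rfl <;> rcases hb with rfl | rfl <;> rfl

theorem exists_sign (a : ℤ) : ∃ s : ℤ, (s = 1 ∨ s = -1) ∧ s * a = |a| := by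
  rcases abs_cases a with h | h
  · exact ⟨1, Or.inl rfl, by omega⟩
  · exact ⟨-1, Or.inr rfl, by omega⟩

/-- A vector `(±4, ±4)` on two points away from `∞` and `0` with the signs of `x`. -/
theorem exists_44_perp (x : GolayPt → ℤ) {i j : GolayPt} (hij : i ≠ j) (h1 : i ≠ none) (h2 : i ≠ p0)
    (h3 : j ≠ none) (h4 : j ≠ p0) : ∃ y : leechLattice, sqNorm (y : GolayPt → ℤ) = 32 ∧
      dotInt (leechU : GolayPt → ℤ) y = 0 ∧ dotInt x y = 4 * (|x i| + |x j|) := by
  obtain ⟨a, ha, ha'⟩ := exists_sign (x i)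
  obtain ⟨b, hb, hb'⟩ := exists_sign (x j)
  obtain ⟨y, h5, h6⟩ := exists_44 hij ha hb
  exact ⟨y, h5, by rw [h6, U_zero h1 h2, U_zero h3 h4]; ring, by rw [h6, ha', hb']⟩

theorem exists_two_outside {s : Finset GolayPt} (h : 4 ≤ s.card) :
    ∃ i ∈ s, ∃ j ∈ s, i ≠ j ∧ i ≠ none ∧ i ≠ p0 ∧ j ≠ none ∧ j ≠ p0 := by
  have h1 : 1 < ((s.erase none).erase p0).card := by
    have := Finset.pred_card_le_card_erase (s := s) (a := none)
    have := Finset.pred_card_le_card_erase (s := s.erase none) (a := p0)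
    omega
  obtain ⟨i, hi, j, hj, hij⟩ := Finset.one_lt_card.1 h1
  simp only [mem_erase] at hi hj
  exact ⟨i, hi.2.2, j, hj.2.2, hij, hi.2.1, hi.1, hj.2.1, hj.1⟩

theorem exists_one_outside {s : Finset GolayPt} (h : 3 ≤ s.card) : ∃ i ∈ s, i ≠ none ∧ i ≠ p0 := by
  have h1 : 0 < ((s.erase none).erase p0).card := by
    have := Finset.pred_card_le_card_erase (s := s) (a := none)
    have := Finset.pred_card_le_card_erase (s := s.erase none) (a := p0)
    omega
  obtain ⟨i, hi⟩ := Finset.card_pos.1 h1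
  simp only [mem_erase] at hi
  exact ⟨i, hi.2.2, hi.2.1, hi.1⟩

/-- A vector `(±2^8)` on an octad with the signs of `x`, except possibly at one point. -/
theorem exists_oct_vec (x : GolayPt → ℤ) {o : Finset GolayPt} (ho : o ∈ octads) {e : GolayPt} (he : e ∈ o) :
    ∃ y : leechLattice, sqNorm (y : GolayPt → ℤ) = 32 ∧ (∀ k, k ∉ o → (y : GolayPt → ℤ) k = 0) ∧
      (dotInt x y = 2 * ∑ i ∈ o, |x i| ∨ dotInt x y = 2 * ∑ i ∈ o, |x i| - 4 * |x e|) := by
  obtain ⟨y, hy, h1, h2⟩ := exists_mem_fix (y := sv x (indZ 2 o)) (e := e)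
    (fun i => by unfold sv indZ; split_ifs <;> rfl)
    (by convert ho.1 using 1; ext i; rw [mem_cres]; unfold sv indZ; split_ifs <;> simp [*])
    (by unfold sv indZ; split_ifs <;> rfl)
  have h3 : dotInt x (sv x (indZ 2 o)) = 2 * ∑ i ∈ o, |x i| := by
    rw [dot_sv]
    simp only [indZ, mul_ite, mul_zero, Finset.sum_ite_mem, Finset.univ_inter, Finset.mul_sum, mul_comm]
  refine ⟨⟨y, hy⟩, ?_, fun k hk => ?_, ?_⟩
  · rw [sqNorm_congr_abs h1, sqNorm_congr_abs (abs_sv _ _), sqNorm_indZ, ho.2]; rfl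
  · have := h1 k
    rw [abs_sv, indZ, if_neg hk, abs_zero, abs_eq_zero] at this
    exact this
  · rcases abs_eq_abs.1 (h1 e) with h | h
    · left
      rw [← h3]
      congr 1
      funext i
      by_cases hi : i = e
      · rw [hi]; exact h
      · exact h2 i hi
    · right
      have h4 : y = sv x (indZ 2 o) - Pi.single e (2 * sv x (indZ 2 o) e) := by
        funext i
        by_cases hi : i = e
        · rw [hi, Pi.sub_apply, Pi.single_eq_same, h]; ring
        · rw [Pi.sub_apply, Pi.single_eq_of_ne hi, h2 i hi, sub_zero]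
      have h5 := mul_sv x (indZ 2 o) e
      rw [indZ, if_pos he] at h5
      change dotInt x y = _
      rw [h4, dot_sub_right, h3, dot_single]
      linarith

theorem dot_U_of_zero {y : GolayPt → ℤ} (h1 : y none = 0) (h2 : y p0 = 0) :
    dotInt (leechU : GolayPt → ℤ) y = 0 := by rw [dot_comm, dot_U, h1, h2]; rfl

/-! ### Orthogonal pairs of minimal vectors -/

theorem pair_orth {v w : leechLattice} (hv : sqNorm (v : GolayPt → ℤ) = 32) (hw : sqNorm (w : GolayPt → ℤ) = 32)
    (h : dotInt (v : GolayPt → ℤ) w = 0) : ∃ g : Co0, g • v = leechU ∧ g • w = leechU' := by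
  obtain ⟨g, hg⟩ := exists_e8 (v + w) (by rw [AddSubgroup.coe_add, sqNorm_add, hv, hw, h]; rfl) none
  have h1 := dot_smul g v (v + w)
  rw [hg, dot_e8, AddSubgroup.coe_add, dot_add_right, ← sqNorm_eq_dot, hv, h] at h1
  have h2 : ((g • v : leechLattice) : GolayPt → ℤ) none = 4 := by omega
  obtain ⟨j, hj, h3, h4⟩ := shape32_four (g • v).2 (by rw [sqNorm_smul, hv]) (i := none) (by rw [h2]; rfl)
  obtain ⟨σ, h5, h6⟩ := M24_trans2 hj.symm p0_ne.symm
  have h7 : ∀ i, i ∉ ({none, p0} : Finset GolayPt) → ((pm σ • g • v : leechLattice) : GolayPt → ℤ) i = 0 :=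
    fun i hi => by
      rw [pm_apply]
      simp only [mem_insert, mem_singleton, not_or] at hi
      exact h4 _ (by rw [Ne, inv_smul_eq_iff, h5]; exact hi.1) (by rw [Ne, inv_smul_eq_iff, h6]; exact hi.2)
  have h8 : ((pm σ • g • v : leechLattice) : GolayPt → ℤ) none = 4 := by rw [← h5, pm_apply_smul, h2]
  obtain ⟨c, hc, h9, h10⟩ := exists_eps_of_small (v := pm σ • g • v) (w := leechU) (S := {none, p0}) (fun i => by
    by_cases e1 : i = none
    · rw [e1, h8]; rfl
    by_cases e2 : i = p0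
    · rw [e2, ← h6, pm_apply_smul, h3, h6]; rfl
    · rw [h7 i (by simp [e1, e2]), U_zero e1 e2]) h7 (card_le_two.trans (by norm_num))
  have h11 : none ∉ c := fun h => mem_dif.1 (h9 ▸ mem_inter.2 ⟨h, by simp⟩) h8
  have h12 : (eps c hc * pm σ * g) • (v + w) = e8 none := by
    rw [mul_smul, hg, mul_smul, show pm σ • e8 none = e8 none from Subtype.ext (funext fun p => by
      rw [pm_apply, coe_e8, Pi.single_apply, Pi.single_apply]; simp only [inv_smul_eq_iff, h5]),
      eps_smul_of_disjoint hc fun i hi => by rw [coe_e8, Pi.single_eq_of_ne (by rintro rfl; exact h11 hi)]]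
  have h13 : (eps c hc * pm σ * g) • v = leechU := by rw [mul_smul, mul_smul, h10]
  refine ⟨_, h13, ?_⟩
  rw [smul_add, h13] at h12
  rw [eq_sub_of_add_eq' h12]
  exact Subtype.ext (by decide +kernel)

theorem exists_orth (v : leechLattice) :
    ∃ w : leechLattice, sqNorm (w : GolayPt → ℤ) = 32 ∧ dotInt (v : GolayPt → ℤ) w = 0 ∨
      64 < sqNorm (v : GolayPt → ℤ) := by
  by_cases hn : 64 < sqNorm (v : GolayPt → ℤ)
  · exact ⟨0, Or.inr hn⟩
  have h8 := abs_le_of_sqNorm_le (x := (v : GolayPt → ℤ)) (k := 8) (by norm_num) (by omega)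
  obtain ⟨i, -, j, -, hij, h⟩ := Finset.exists_ne_map_eq_of_card_lt_of_maps_to (s := univ) (t := Finset.Icc (0 : ℤ) 8)
    (by rw [card_univ, Leech.card_golayPt]; decide) (f := fun i => |(v : GolayPt → ℤ) i|)
    fun i _ => by simpa using h8 i
  obtain ⟨a, ha, ha'⟩ := exists_sign ((v : GolayPt → ℤ) i)
  obtain ⟨b, hb, hb'⟩ := exists_sign ((v : GolayPt → ℤ) j)
  obtain ⟨y, h1, h2⟩ := exists_44 hij ha (b := -b) (by omega)
  exact ⟨y, Or.inl ⟨h1, by rw [h2, neg_mul, ha', hb', h]; ring⟩⟩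

theorem exists_U {v : leechLattice} (hv : sqNorm (v : GolayPt → ℤ) = 32) : ∃ g : Co0, g • v = leechU := by
  obtain ⟨w, ⟨h1, h2⟩ | h⟩ := exists_orth v
  · exact (pair_orth hv h1 h2).imp fun _ h => h.1
  · omega

theorem trans32 {v w : leechLattice} (hv : sqNorm (v : GolayPt → ℤ) = 32) (hw : sqNorm (w : GolayPt → ℤ) = 32) :
    ∃ g : Co0, g • v = w := exists_smul_eq_of_base (exists_U hv) (exists_U hw)

theorem pair_of_base {G X : Type*} [Group G] [MulAction G X] {a b a' b' c d : X}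
    (h1 : ∃ g : G, g • a = c ∧ g • b = d) (h2 : ∃ g : G, g • a' = c ∧ g • b' = d) :
    ∃ g : G, g • a = a' ∧ g • b = b' := by
  obtain ⟨g, e1, e2⟩ := h1
  obtain ⟨k, e3, e4⟩ := h2
  exact ⟨k⁻¹ * g, by rw [mul_smul, e1, ← e3, inv_smul_smul], by rw [mul_smul, e2, ← e4, inv_smul_smul]⟩

/-- Normalising a pair `(v, w)` with `v` minimal through a minimal vector orthogonal to `v`. -/
theorem anchor {v w : leechLattice} (hv : sqNorm (v : GolayPt → ℤ) = 32) {n d e : ℤ}
    (hw : sqNorm (w : GolayPt → ℤ) = n) (h : dotInt (v : GolayPt → ℤ) w = 4 * d)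
    (hex : ∀ x : leechLattice, sqNorm (x : GolayPt → ℤ) = n → (x : GolayPt → ℤ) none + (x : GolayPt → ℤ) p0 = d →
      ∃ y : leechLattice, sqNorm (y : GolayPt → ℤ) = 32 ∧ dotInt (leechU : GolayPt → ℤ) y = 0 ∧
        |dotInt (x : GolayPt → ℤ) y| = 4 * |e|) :
    ∃ g : Co0, g • v = leechU ∧ 2 * ((g • w : leechLattice) : GolayPt → ℤ) none = d + e ∧
      2 * ((g • w : leechLattice) : GolayPt → ℤ) p0 = d - e := by
  obtain ⟨g, hg⟩ := exists_U hv
  have h1 := dot_smul g w v
  rw [hg, dot_U, dot_comm, h] at h1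
  obtain ⟨y, h2, h3, h4⟩ := hex (g • w) (by rw [sqNorm_smul, hw]) (by omega)
  obtain ⟨y, h2, h3, h4⟩ : ∃ y : leechLattice, sqNorm (y : GolayPt → ℤ) = 32 ∧
      dotInt (leechU : GolayPt → ℤ) y = 0 ∧ dotInt ((g • w : leechLattice) : GolayPt → ℤ) y = 4 * e := by
    by_cases h5 : dotInt ((g • w : leechLattice) : GolayPt → ℤ) y = 4 * e
    · exact ⟨y, h2, h3, h5⟩
    · refine ⟨-y, by rw [AddSubgroup.coe_neg, sqNorm_neg, h2], by rw [AddSubgroup.coe_neg, dot_neg_right, h3]; rfl, ?_⟩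
      rw [AddSubgroup.coe_neg, dot_neg_right]
      exact neg_eq_of_abs (by rw [h4, abs_mul]; rfl) h5
  obtain ⟨k, h5, h6⟩ := pair_orth sqNorm_U h2 h3
  have h7 := dot_smul k (g • w) leechU
  have h8 := dot_smul k (g • w) y
  rw [h5, dot_U, dot_U] at h7
  rw [h6, dot_U', h4] at h8
  refine ⟨k * g, by rw [mul_smul, hg, h5], ?_, ?_⟩ <;> rw [mul_smul] <;> omega

theorem U'_ok {x : GolayPt → ℤ} {e : ℤ} (h : |x none - x p0| = |e|) :
    ∃ y : leechLattice, sqNorm (y : GolayPt → ℤ) = 32 ∧ dotInt (leechU : GolayPt → ℤ) y = 0 ∧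
      |dotInt x y| = 4 * |e| :=
  ⟨leechU', sqNorm_U', by decide +kernel, by rw [dot_U', abs_mul, h]; rfl⟩

/-- Final step for odd vectors: a sign change fixing `U` and `U'`. -/
theorem fix_odd {x y : leechLattice} (h1 : (x : GolayPt → ℤ) none = (y : GolayPt → ℤ) none)
    (h2 : (x : GolayPt → ℤ) p0 = (y : GolayPt → ℤ) p0) (ho : (x : GolayPt → ℤ) none % 2 = 1) {i : GolayPt}
    (hi : (x : GolayPt → ℤ) i = (y : GolayPt → ℤ) i)
    (hx : sqNorm (x : GolayPt → ℤ) = (x : GolayPt → ℤ) i ^ 2 + 23)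
    (hy : sqNorm (y : GolayPt → ℤ) = (x : GolayPt → ℤ) i ^ 2 + 23) :
    ∃ g : Co0, g • leechU = leechU ∧ g • leechU' = leechU' ∧ g • x = y := by
  have hox := odd_of_one x.2 ho
  have hoy := odd_of_one y.2 (h1 ▸ ho)
  have h : ∀ j, |(x : GolayPt → ℤ) j| = |(y : GolayPt → ℤ) j| := fun j => by
    by_cases e : j = i
    · rw [e, hi]
    · rw [abs_eq_one_of_odd hox hx e, abs_eq_one_of_odd hoy (hi ▸ hy) e]
  have := eps_fix (dif_mem_of_odd x.2 y.2 h hox) (by simp [h1]) (by simp [h2])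
  exact ⟨_, this.1, this.2, eps_dif_smul h hox⟩

theorem abs_of_mem_or {x : GolayPt → ℤ} {k : ℤ} {i : GolayPt} (h : i ∈ lev x k) : x i = k ∨ x i = -k := by
  rw [mem_lev] at h; rcases abs_cases (x i) with h' | h' <;> omega

/-- Pairs of minimal vectors with inner product `-8`. -/
theorem pair_m8 {v w : leechLattice} (hv : sqNorm (v : GolayPt → ℤ) = 32) (hw : sqNorm (w : GolayPt → ℤ) = 32)
    (h : dotInt (v : GolayPt → ℤ) w = -8) : ∃ g : Co0, g • v = leechU ∧ g • w = lW' := by
  obtain ⟨g, h1, h2, h3⟩ := anchor hv hw (d := -2) (e := 4) (h.trans (by norm_num)) fun x hn hd => by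
    rcases parity_cases x.2 with he | ho
    · obtain ⟨k1, k2, k3⟩ := even_shape x.2 (by omega) he
      have h4 : 0 < (lev x 2).card + (lev x 6).card := by
        rw [← card_cres_two (by omega), Finset.card_pos]
        have := he none; have := he p0
        by_cases e : (x : GolayPt → ℤ) none % 4 = 2
        · exact ⟨none, mem_cres.2 e⟩
        · exact ⟨p0, mem_cres.2 (by omega)⟩
      obtain ⟨i, hi, j, hj, h5⟩ := exists_two_outside (s := lev x 2) (by omega)
      obtain ⟨y, h6, h7, h8⟩ := exists_44_perp x h5.1 h5.2.1 h5.2.2.1 h5.2.2.2.1 h5.2.2.2.2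
      exact ⟨y, h6, h7, by rw [h8, mem_lev.1 hi, mem_lev.1 hj]; rfl⟩
    · obtain ⟨k1, k2⟩ := odd_shape (x := x) (by omega) ho
      obtain ⟨k, hk⟩ := Finset.card_pos.1 (show 0 < (lev x 3).card by omega)
      have h5 : ∀ j, j ≠ k → |(x : GolayPt → ℤ) j| = 1 := fun j => abs_eq_one_of_odd ho
        (by rw [hn, ← sq_abs, mem_lev.1 hk]; rfl)
      by_cases e1 : k = none
      · have := abs_of_mem_or (e1 ▸ hk); have := abs_of_mem_or (mem_lev.2 (h5 p0 (e1 ▸ p0_ne)))
        exact U'_ok (by rw [show (x : GolayPt → ℤ) none - (x : GolayPt → ℤ) p0 = -4 by omega]; rfl)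
      by_cases e2 : k = p0
      · have := abs_of_mem_or (e2 ▸ hk); have := abs_of_mem_or (mem_lev.2 (h5 none (e2 ▸ p0_ne.symm)))
        exact U'_ok (by rw [show (x : GolayPt → ℤ) none - (x : GolayPt → ℤ) p0 = 4 by omega])
      obtain ⟨i, hi, h6⟩ := exists_one_outside (s := lev x 1) (by omega)
      obtain ⟨y, h6, h7, h8⟩ := exists_44_perp x (i := k) (j := i) (by
        rintro rfl; have := mem_lev.1 hi; have := mem_lev.1 hk; omega) e1 e2 h6.1 h6.2
      exact ⟨y, h6, h7, by rw [h8, mem_lev.1 hi, mem_lev.1 hk]; rfl⟩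
  obtain ⟨k, h4, -, h5⟩ := fix_odd (x := g • w) (y := lW') (i := p0)
    (by rw [show (lW' : GolayPt → ℤ) none = 1 from rfl]; omega)
    (by rw [show (lW' : GolayPt → ℤ) p0 = -3 from rfl]; omega) (by omega)
    (by rw [show (lW' : GolayPt → ℤ) p0 = -3 from rfl]; omega)
    (by rw [sqNorm_smul, hw, show ((g • w : leechLattice) : GolayPt → ℤ) p0 = -3 by omega]; rfl)
    (by rw [show ((g • w : leechLattice) : GolayPt → ℤ) p0 = -3 by omega]; decide +kernel)
  exact ⟨k * g, by rw [mul_smul, h1, h4], by rw [mul_smul, h5]⟩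

/-- Pairs of minimal vectors with inner product `-16`. -/
theorem pair_m16 {v w : leechLattice} (hv : sqNorm (v : GolayPt → ℤ) = 32) (hw : sqNorm (w : GolayPt → ℤ) = 32)
    (h : dotInt (v : GolayPt → ℤ) w = -16) : ∃ g : Co0, g • v = leechU ∧ g • w = lX := by
  obtain ⟨g, h1, h2, h3⟩ := anchor hv hw (d := -4) (e := -4) (h.trans (by norm_num)) fun x hn hd => by
    rcases parity_cases x.2 with he | ho
    · obtain ⟨k1, k2, k3⟩ := even_shape x.2 (by omega) he
      by_cases h4 : (lev x 2).card + (lev x 6).card = 0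
      · have h5 : ∀ i, (x : GolayPt → ℤ) i % 4 ≠ 2 := fun i hi => by
          rw [← card_cres_two (by omega)] at h4
          exact notMem_of_card_zero h4 i (mem_cres.2 hi)
        have h6 := abs_le_of_sqNorm_le (x := (x : GolayPt → ℤ)) (k := 6) (by norm_num) (by omega)
        have := h5 none; have := h5 p0; have := he none; have := he p0
        have := abs_le.1 (h6 none); have := abs_le.1 (h6 p0)
        refine U'_ok ?_
        rcases (by omega : (x : GolayPt → ℤ) none - (x : GolayPt → ℤ) p0 = 4 ∨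
          (x : GolayPt → ℤ) none - (x : GolayPt → ℤ) p0 = -4) with e | e <;> rw [e]
        rfl
      obtain ⟨i, hi, j, hj, h5⟩ := exists_two_outside (s := lev x 2) (by omega)
      obtain ⟨y, h6, h7, h8⟩ := exists_44_perp x h5.1 h5.2.1 h5.2.2.1 h5.2.2.2.1 h5.2.2.2.2
      exact ⟨y, h6, h7, by rw [h8, mem_lev.1 hi, mem_lev.1 hj]; rfl⟩
    · obtain ⟨k1, k2⟩ := odd_shape (x := x) (by omega) ho
      obtain ⟨k, hk⟩ := Finset.card_pos.1 (show 0 < (lev x 3).card by omega)
      have h5 : ∀ j, j ≠ k → |(x : GolayPt → ℤ) j| = 1 := fun j => abs_eq_one_of_odd ho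
        (by rw [hn, ← sq_abs, mem_lev.1 hk]; rfl)
      have h6 : k = none ∨ k = p0 := by
        by_contra e
        rw [not_or] at e
        have := abs_of_mem_or (mem_lev.2 (h5 none (Ne.symm e.1)))
        have := abs_of_mem_or (mem_lev.2 (h5 p0 (Ne.symm e.2)))
        omega
      have ho' : ofMask 2769128 ∈ octads := (ofMask_mem_octads (by norm_num)).2 (by decide +kernel)
      have h7 : ∀ i ∈ ofMask 2769128, i ≠ none ∧ i ≠ p0 := by decide +kernel
      have h8 : ofMask 2769128 ⊆ lev x 1 := fun i hi => mem_lev.2 (h5 i (by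
        rcases h6 with rfl | rfl
        · exact (h7 i hi).1
        · exact (h7 i hi).2))
      have he : gPt 3 ∈ ofMask 2769128 := by decide +kernel
      obtain ⟨y, h9, h10, h11⟩ := exists_oct_vec x ho' he
      refine ⟨y, h9, dot_U_of_zero (h10 _ fun h => (h7 _ h).1 rfl) (h10 _ fun h => (h7 _ h).2 rfl), ?_⟩
      rw [sum_abs_of_subset h8, ho'.2, mem_lev.1 (h8 he)] at h11
      have := eight_dvd_dot x.2 y.2
      rw [show dotInt (x : GolayPt → ℤ) y = 16 by omega]; rfl
  have h4 : ((g • w : leechLattice) : GolayPt → ℤ) none = -4 := by omega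
  have h5 : ((g • w : leechLattice) : GolayPt → ℤ) p0 = 0 := by omega
  obtain ⟨j, hj, h6, h7⟩ := shape32_four (g • w).2 (by rw [sqNorm_smul, hw]) (i := none) (by rw [h4]; rfl)
  have hj0 : j ≠ p0 := by rintro rfl; rw [h5] at h6; exact absurd h6 (by decide)
  obtain ⟨σ, h8, h9, h10⟩ := M24_trans3 (p := none) (q := p0) (r := j) (p' := none) (q' := p0) (r' := gPt 1)
    p0_ne.symm hj.symm hj0.symm p0_ne.symm (by decide +kernel) (by decide +kernel)
  have h11 : ∀ i, i ≠ none → i ≠ gPt 1 → ((pm σ • g • w : leechLattice) : GolayPt → ℤ) i = 0 := fun i e1 e2 => by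
    rw [pm_apply]
    exact h7 _ (by rw [Ne, inv_smul_eq_iff, h8]; exact e1) (by rw [Ne, inv_smul_eq_iff, h10]; exact e2)
  have h12 : ((pm σ • g • w : leechLattice) : GolayPt → ℤ) none = -4 := by rw [← h8, pm_apply_smul, h4]
  have h13 : ∀ i, i ≠ none → i ≠ gPt 1 → (lX : GolayPt → ℤ) i = 0 := by decide +kernel
  obtain ⟨c, hc, h14, h15⟩ := exists_eps_of_small (v := pm σ • g • w) (w := lX) (S := {none, p0, gPt 1}) (fun i => by
    by_cases e1 : i = none
    · rw [e1, h12]; rfl
    by_cases e2 : i = gPt 1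
    · rw [e2, ← h10, pm_apply_smul, h6, h10]; decide +kernel
    · rw [h11 i e1 e2, h13 i e1 e2]) (fun i hi => h11 i (by rintro rfl; simp at hi) (by rintro rfl; simp at hi))
    (card_le_three.trans (by norm_num))
  have h16 := eps_fix hc (fun h => mem_dif.1 (h14 ▸ mem_inter.2 ⟨h, by simp⟩) h12)
    (fun h => mem_dif.1 (h14 ▸ mem_inter.2 ⟨h, by simp⟩) (h11 _ p0_ne (by decide +kernel)))
  exact ⟨eps c hc * pm σ * g, by rw [mul_smul, h1, mul_smul, (pm_fix h8 h9).1, h16.1], by
    rw [mul_smul, mul_smul, h15]⟩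

theorem exists_hexad_avoiding {d : Finset GolayPt} (hd : d ∈ dodecads) :
    ∃ o ∈ octads, (o ∩ d).card = 6 ∧ none ∉ o ∧ p0 ∉ o := by
  revert d
  rw [forall_dodecads]
  intro m hm
  have : allL (fun m => anyL (fun m' => Nat.beq (Nat.land m' 8388609) 0 && Nat.beq (pc24 (Nat.land m' m)) 6)
    octadList) dodecadList = true := by decide +kernel
  obtain ⟨m', hm', h⟩ := (anyL_iff _ _).1 ((allL_iff _ _).1 this m hm)
  rw [Bool.and_eq_true] at h
  have h1 : ofMask m' ∩ ofMask 8388609 = ∅ := by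
    rw [← ofMask_and, show m' &&& 8388609 = 0 from Nat.eq_of_beq_eq_true h.1, ofMask_zero]
  refine ⟨_, ofMask_mem_octads_of_list hm', by
    rw [← ofMask_and, card_ofMask]; exact Nat.eq_of_beq_eq_true h.2, fun h2 => ?_, fun h2 => ?_⟩
  · exact notMem_empty _ (h1 ▸ mem_inter.2 ⟨h2, by decide +kernel⟩)
  · exact notMem_empty _ (h1 ▸ mem_inter.2 ⟨h2, by decide +kernel⟩)

/-- A vector of norm 48 and a minimal vector with inner product `-24`. -/
theorem pair_48_m24 {u x : leechLattice} (hu : sqNorm (u : GolayPt → ℤ) = 48) (hx : sqNorm (x : GolayPt → ℤ) = 32)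
    (h : dotInt (u : GolayPt → ℤ) x = -24) : ∃ g : Co0, g • u = leechV ∧ g • x = leechU := by
  obtain ⟨g, h1, h2⟩ := pair_m8 (v := x) (w := -(x + u)) hx
    (by rw [AddSubgroup.coe_neg, sqNorm_neg, AddSubgroup.coe_add, sqNorm_add, hu, hx, dot_comm, h]; rfl)
    (by rw [AddSubgroup.coe_neg, dot_neg_right, AddSubgroup.coe_add, dot_add_right, ← sqNorm_eq_dot, hx, dot_comm, h]
        rfl)
  rw [smul_neg, smul_add, h1, lW', neg_inj, add_right_inj] at h2
  exact ⟨g, h2, h1⟩

/-- A vector of norm 48 and a minimal vector with inner product `-16`. -/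
theorem pair_48_m16 {u x : leechLattice} (hu : sqNorm (u : GolayPt → ℤ) = 48) (hx : sqNorm (x : GolayPt → ℤ) = 32)
    (h : dotInt (u : GolayPt → ℤ) x = -16) : ∃ g : Co0, g • u = leechV ∧ g • x = leechU' := by
  obtain ⟨g, h1, h2, h3⟩ := anchor hx hu (d := -4) (e := -6) (by rw [dot_comm, h]; rfl) fun x hn hd => by
    rcases parity_cases x.2 with he | ho
    · obtain ⟨k1, k2, k3⟩ := even_shape x.2 (by omega) he
      have c6 : (lev x 6).card = 0 := by omega
      have c8 : (lev x 8).card = 0 := by omega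
      have hz : ∀ i, i ∉ lev x 2 → i ∉ lev x 4 → (x : GolayPt → ℤ) i = 0 := fun i e1 e2 =>
        eq_zero_of_not_mem_lev (by omega) he e1 e2 (notMem_of_card_zero c6 i) (notMem_of_card_zero c8 i)
      have hc : lev x 2 ∈ Cset := by
        have := cres_mem x.2 (r := 2) (by norm_num) (by norm_num)
        rwa [cres_two_eq (by omega), Finset.card_eq_zero.1 c6, union_empty] at this
      by_cases c4 : (lev x 4).card = 0
      · obtain ⟨o, ho, h4, h5, h6⟩ := exists_hexad_avoiding (d := lev x 2) ⟨hc, by omega⟩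
        obtain ⟨e, he1, he2⟩ := Finset.exists_mem_notMem_of_card_lt_card (s := o ∩ lev x 2) (t := o)
          (by rw [h4, ho.2]; norm_num)
        obtain ⟨y, h9, h10, h11⟩ := exists_oct_vec x ho he1
        refine ⟨y, h9, dot_U_of_zero (h10 _ h5) (h10 _ h6), ?_⟩
        rw [sum_abs_of_zero (m := 2) (fun i _ hi => hz i hi (notMem_of_card_zero c4 i)), h4,
          hz e (fun h => he2 (mem_inter.2 ⟨he1, h⟩)) (notMem_of_card_zero c4 e)] at h11
        rw [show dotInt (x : GolayPt → ℤ) y = 24 by simpa using h11]; rfl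
      obtain ⟨k, hk⟩ := Finset.card_eq_one.1 (show (lev x 4).card = 1 by omega)
      have hk' : k ∈ lev x 4 := by rw [hk]; exact mem_singleton_self k
      by_cases e : k ≠ none ∧ k ≠ p0
      · obtain ⟨i, hi, h6⟩ := exists_one_outside (s := lev x 2) (by omega)
        obtain ⟨y, h6, h7, h8⟩ := exists_44_perp x (i := k) (j := i) (by
          rintro rfl; have := mem_lev.1 hi; have := mem_lev.1 hk'; omega) e.1 e.2 h6.1 h6.2
        exact ⟨y, h6, h7, by rw [h8, mem_lev.1 hi, mem_lev.1 hk']; rfl⟩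
      have h4 : none ∉ lev x 2 ∧ p0 ∉ lev x 2 := by
        have h5 := abs_of_mem_or hk'
        rcases (show k = none ∨ k = p0 by tauto) with rfl | rfl <;> constructor <;> intro h6 <;>
          have := abs_of_mem_or h6 <;> omega
      obtain ⟨e, he⟩ := Finset.card_pos.1 (show 0 < (lev x 2).card by omega)
      obtain ⟨y, h9, h10, h11⟩ := exists_oct_vec x (o := lev x 2) ⟨hc, by omega⟩ he
      refine ⟨y, h9, dot_U_of_zero (h10 _ h4.1) (h10 _ h4.2), ?_⟩
      rw [sum_abs_of_subset Subset.rfl, mem_lev.1 he, show (lev x 2).card = 8 by omega] at h11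
      have h12 := sqNorm_ne_sixteen (leechLattice.sub_mem x.2 y.2)
      rw [sqNorm_sub, hn, h9] at h12
      rw [show dotInt (x : GolayPt → ℤ) y = 24 by omega]; rfl
    · obtain ⟨k1, k2⟩ := odd_shape (x := x) (by omega) ho
      by_cases c5 : (lev x 5).card = 0
      · have h6 := abs_le_of_sqNorm_le (x := (x : GolayPt → ℤ)) (k := 7) (by norm_num) (by omega)
        have h7 : ¬ (none ∈ lev x 3 ∧ p0 ∈ lev x 3) := fun h => by
          have := abs_of_mem_or h.1; have := abs_of_mem_or h.2; omega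
        have h8 : 1 < (((lev x 3).erase none).erase p0).card := by
          have := Finset.pred_card_le_card_erase (s := lev x 3) (a := none)
          have := Finset.pred_card_le_card_erase (s := (lev x 3).erase none) (a := p0)
          by_cases e : none ∈ lev x 3
          · rw [Finset.erase_eq_of_notMem (s := (lev x 3).erase none) fun h => h7 ⟨e, mem_of_mem_erase h⟩]
            omega
          · rw [Finset.erase_eq_of_notMem e] at *; omega
        obtain ⟨i, hi, j, hj, hij⟩ := Finset.one_lt_card.1 h8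
        simp only [mem_erase] at hi hj
        obtain ⟨y, h6, h7, h8⟩ := exists_44_perp x hij hi.2.1 hi.1 hj.2.1 hj.1
        exact ⟨y, h6, h7, by rw [h8, mem_lev.1 hi.2.2, mem_lev.1 hj.2.2]; rfl⟩
      obtain ⟨k, hk⟩ := Finset.card_pos.1 (show 0 < (lev x 5).card by omega)
      have h5 : ∀ j, j ≠ k → |(x : GolayPt → ℤ) j| = 1 := fun j => abs_eq_one_of_odd ho
        (by rw [hn, ← sq_abs, mem_lev.1 hk]; rfl)
      by_cases e1 : k = none
      · have := abs_of_mem_or (e1 ▸ hk); have := abs_of_mem_or (mem_lev.2 (h5 p0 (e1 ▸ p0_ne)))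
        exact U'_ok (by rw [show (x : GolayPt → ℤ) none - (x : GolayPt → ℤ) p0 = -6 by omega])
      by_cases e2 : k = p0
      · have := abs_of_mem_or (e2 ▸ hk); have := abs_of_mem_or (mem_lev.2 (h5 none (e2 ▸ p0_ne.symm)))
        exact U'_ok (by rw [show (x : GolayPt → ℤ) none - (x : GolayPt → ℤ) p0 = 6 by omega]; rfl)
      have := abs_of_mem_or (mem_lev.2 (h5 none (Ne.symm e1)))
      have := abs_of_mem_or (mem_lev.2 (h5 p0 (Ne.symm e2)))
      omega
  have h4 : ((g • u : leechLattice) : GolayPt → ℤ) none = -5 := by omega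
  have h5 : ((g • u : leechLattice) : GolayPt → ℤ) p0 = 1 := by omega
  obtain ⟨c, hc, h6⟩ := exists_Cset_inter_of_card_le (S := {none, p0}) (A := {p0}) (by simp)
    (card_le_two.trans (by norm_num))
  have h7 : none ∉ c := fun h => p0_ne (mem_singleton.1 (h6 ▸ mem_inter.2 ⟨h, by simp⟩)).symm
  have h8 : p0 ∈ c := (mem_inter.1 (h6 ▸ mem_singleton_self _)).1
  have h9 : eps c hc • leechU = leechU' := Subtype.ext (funext fun i => by
    rw [eps_apply]
    by_cases e1 : i = none
    · rw [e1, if_neg h7]; rfl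
    by_cases e2 : i = p0
    · rw [e2, if_pos h8]; rfl
    · rw [U_zero e1 e2, U'_zero e1 e2]; simp)
  have h10 : ((eps c hc • g • u : leechLattice) : GolayPt → ℤ) none = -5 := by rw [eps_apply, if_neg h7, h4]
  obtain ⟨k, -, h11, h12⟩ := fix_odd (x := eps c hc • g • u) (y := leechV) (i := none) h10
    (by rw [eps_apply, if_pos h8, h5]; rfl) (by rw [h10]; rfl) h10
    (by rw [sqNorm_smul, sqNorm_smul, hu, h10]; rfl) (by rw [h10, sqNorm_V]; rfl)
  exact ⟨k * eps c hc * g, by rw [mul_smul, mul_smul, h12], by rw [mul_smul, h1, mul_smul, h9, h11]⟩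

/-- A vector of norm 48 and a minimal vector with inner product `-8`. -/
theorem pair_48_m8 {u x : leechLattice} (hu : sqNorm (u : GolayPt → ℤ) = 48) (hx : sqNorm (x : GolayPt → ℤ) = 32)
    (h : dotInt (u : GolayPt → ℤ) x = -8) : ∃ g : Co0, g • u = leechV ∧ g • x = lW := by
  obtain ⟨g, hg⟩ := exists_e8 (-(u + x))
    (by rw [AddSubgroup.coe_neg, sqNorm_neg, AddSubgroup.coe_add, sqNorm_add, hu, hx, h]; rfl) none
  have h1 := dot_smul g x (-(u + x))
  rw [hg, dot_e8, AddSubgroup.coe_neg, dot_neg_right, AddSubgroup.coe_add, dot_add_right, ← sqNorm_eq_dot, hx,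
    dot_comm, h] at h1
  have h2 : ((g • x : leechLattice) : GolayPt → ℤ) none = -3 := by omega
  have ho := odd_of_one (g • x).2 (i := none) (by rw [h2]; rfl)
  have h3 : ∀ j, |((g • x : leechLattice) : GolayPt → ℤ) j| = |(lW : GolayPt → ℤ) j| := fun j => by
    by_cases e : j = none
    · rw [e, h2]; rfl
    · rw [abs_eq_one_of_odd ho (by rw [sqNorm_smul, hx, h2]; rfl) e]
      simp [lW, vecW, e]
  have h4 := eps_dif_smul h3 ho
  have h5 : eps _ (dif_mem_of_odd (g • x).2 lW.2 h3 ho) • e8 none = e8 none :=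
    eps_smul_of_disjoint _ fun i hi => by
      rw [coe_e8, Pi.single_eq_of_ne]
      rintro rfl
      exact mem_dif.1 hi h2
  refine ⟨_ * g, ?_, by rw [mul_smul, h4]⟩
  have h6 := congrArg (eps _ (dif_mem_of_odd (g • x).2 lW.2 h3 ho) • ·) hg
  simp only [smul_neg, smul_add, h4, h5] at h6
  rw [mul_smul, eq_sub_of_add_eq (neg_eq_iff_eq_neg.1 h6)]
  exact Subtype.ext (by decide +kernel)

theorem exists_V {u : leechLattice} (hu : sqNorm (u : GolayPt → ℤ) = 48) : ∃ g : Co0, g • u = leechV := by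
  obtain ⟨i, j, hij, h⟩ : ∃ i j, i ≠ j ∧ |(u : GolayPt → ℤ) i| + |(u : GolayPt → ℤ) j| = 2 := by
    rcases parity_cases u.2 with he | ho
    · obtain ⟨k1, k2, k3⟩ := even_shape u.2 (by omega) he
      obtain ⟨i, hi⟩ := Finset.card_pos.1 (show 0 < (lev u 2).card by omega)
      obtain ⟨j, hj⟩ := Finset.card_pos.1 (show 0 < (lev u 0).card by omega)
      rw [mem_lev] at hi hj
      exact ⟨i, j, by rintro rfl; omega, by omega⟩
    · obtain ⟨k1, k2⟩ := odd_shape (x := u) (by omega) ho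
      obtain ⟨i, hi, j, hj, hij⟩ := Finset.one_lt_card.1 (show 1 < (lev u 1).card by omega)
      rw [mem_lev] at hi hj
      exact ⟨i, j, hij, by omega⟩
  obtain ⟨a, ha, ha'⟩ := exists_sign ((u : GolayPt → ℤ) i)
  obtain ⟨b, hb, hb'⟩ := exists_sign ((u : GolayPt → ℤ) j)
  obtain ⟨y, h1, h2⟩ := exists_44 hij (a := -a) (b := -b) (by omega) (by omega)
  exact (pair_48_m8 hu h1 (by rw [h2, neg_mul, neg_mul, ha', hb']; omega)).imp fun _ h => h.1

theorem trans48 {v w : leechLattice} (hv : sqNorm (v : GolayPt → ℤ) = 48) (hw : sqNorm (w : GolayPt → ℤ) = 48) :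
    ∃ g : Co0, g • v = w := exists_smul_eq_of_base (exists_V hv) (exists_V hw)

/-- `(1, 5, 1^22)` as a lattice vector. -/
def lV' : leechLattice := -(leechV + leechU')

/-- Pairs of vectors of norm 48 with inner product `-32`. -/
theorem pair_48_48 {v w : leechLattice} (hv : sqNorm (v : GolayPt → ℤ) = 48) (hw : sqNorm (w : GolayPt → ℤ) = 48)
    (h : dotInt (v : GolayPt → ℤ) w = -32) : ∃ g : Co0, g • v = leechV ∧ g • w = lV' := by
  obtain ⟨g, h1, h2⟩ := pair_48_m16 (u := v) (x := -(v + w)) hv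
    (by rw [AddSubgroup.coe_neg, sqNorm_neg, AddSubgroup.coe_add, sqNorm_add, hv, hw, h]; rfl)
    (by rw [AddSubgroup.coe_neg, dot_neg_right, AddSubgroup.coe_add, dot_add_right, ← sqNorm_eq_dot, hv, h]; rfl)
  refine ⟨g, h1, ?_⟩
  rw [smul_neg, smul_add, h1] at h2
  rw [lV', ← h2]; abel

end CL.Spor.Leech
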