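/-
The monomial subgroup is maximal in `Co0`; `Co0 / {±1}` is simple.
-/
import Cfsg.Agent.Spor.LeechCount2
import Cfsg.Agent.Spor.LeechClasses
import Cfsg.Agent.Spor.M24Simple

set_option autoImplicit false

namespace CL.Spor.Leech

open Cfsg Cfsg.Spor Finset
open scoped Pointwise

theorem exists_N_vC0 {v : leechLattice} (hn : sqNorm (v : GolayPt → ℤ) = 64)
    {i : GolayPt} (h6 : |(v : GolayPt → ℤ) i| = 6) : ∃ g ∈ Nsub, g • v = vC0 := by
  have hi : i ∈ lev v 6 := mem_lev.2 h6
  have hp := Finset.card_pos.2 ⟨i, hi⟩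
  have hev := even_of_lev v.2 (k := 6) rfl hp
  obtain ⟨k1, k2, k3⟩ := even_shape v.2 hn.le hev
  have c6 : (lev v 6).card = 1 := by omega
  have c2 : (lev v 2).card = 7 := by omega
  obtain ⟨T, hT, hT4⟩ := Finset.exists_subset_card_eq (s := lev v 2) (n := 4) (by omega)
  obtain ⟨σ1, h1⟩ := M24_trans1 i none
  have hd : none ∉ σ1 • T := fun h => by
    rw [← h1, Finset.smul_mem_smul_finset_iff] at h
    exact Finset.disjoint_left.1 (lev_disjoint (v : GolayPt → ℤ) (k := 2) (l := 6) (by norm_num)) (hT h) hi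
  obtain ⟨σ2, h2, h2'⟩ := M24_exists_fix_smul_finset (F := {none}) (s := σ1 • T) (t := ofMask 23)
    (by simpa using hd) (by decide +kernel) (by rw [card_smul_finset, hT4, card_ofMask]; decide +kernel)
    (by rw [card_smul_finset, hT4]; rfl)
  have h3 : (σ2 * σ1) • i = none := by rw [mul_smul, h1, h2 _ (mem_singleton_self _)]
  have h4 : (σ2 * σ1) • T = ofMask 23 := by rw [mul_smul, h2']
  set σ := σ2 * σ1
  have l6 : lev (pm σ • v : leechLattice) 6 = {none} := by
    rw [lev_pm, ← h3, ← Finset.smul_finset_singleton]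
    congr 1
    exact (Finset.eq_of_subset_of_card_le (by simpa using h6) (by simp [c6])).symm
  have hn' : sqNorm ((pm σ • v : leechLattice) : GolayPt → ℤ) = 64 := by rw [sqNorm_smul, hn]
  have ho : cres (pm σ • v : leechLattice) 2 = ofMask 12656663 := by
    refine octad_unique (s := ofMask 8388631) (by rw [card_ofMask]; decide +kernel)
      ⟨cres_mem (pm σ • v).2 (by norm_num) (by norm_num), ?_⟩
      ((ofMask_mem_octads (by norm_num)).2 (by decide +kernel)) ?_ (by decide +kernel)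
    · rw [card_cres_two hn'.le, lev_pm, lev_pm, card_smul_finset, card_smul_finset]; omega
    · rw [cres_two_eq hn'.le, l6, lev_pm, show ofMask 8388631 = ofMask 23 ∪ {none} by decide +kernel, ← h4]
      exact Finset.union_subset_union (Finset.smul_finset_subset_smul_finset hT) Subset.rfl
  have h5 := abs_eq_ite2 (x := (pm σ • v : leechLattice)) (k := 6) (l := 2) (by norm_num)
    (by rw [hn', lev_pm, lev_pm, card_smul_finset, card_smul_finset, c6, c2]; rfl)
  have l2 : ∀ p, p ∈ lev (pm σ • v : leechLattice) 6 ∨ p ∈ lev (pm σ • v : leechLattice) 2 ↔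
      p ∈ ofMask 12656663 := fun p => by rw [← ho, cres_two_eq hn'.le, mem_union, or_comm]
  have h7 : ∀ p, |((pm σ • v : leechLattice) : GolayPt → ℤ) p| =
      if p = none then 6 else if p ∈ ofMask 12656663 then 2 else 0 := fun p => by
    have := l2 p
    rw [h5]
    simp only [l6, mem_singleton] at this ⊢
    split_ifs <;> tauto
  obtain ⟨c, hc, -, h8⟩ := exists_eps_of_even (v := pm σ • v) (w := vC0) (S := ofMask 12656663)
    (fun p => (h7 p).trans (by revert p; decide +kernel)) (fun p => by rw [pm_apply]; exact hev _)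
    (fun p hp => by
      have := h7 p
      rw [if_neg (by rintro rfl; exact hp (by decide +kernel)), if_neg hp] at this
      exact abs_eq_zero.1 this)
    (fun B hB hBS => Cset_subset_small (by rw [card_ofMask]; decide +kernel)
      (cres_mem (pm σ • v).2 (by norm_num) (by norm_num)) (by rw [ho, card_ofMask]; decide +kernel) ho.le hB hBS)
  exact ⟨eps c hc * pm σ, Nsub.mul_mem (eps_mem ..) (pm_mem σ), by rw [mul_smul, h8]⟩

/-- `x` is carried into the standard cross by an element of `H`. -/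
def InO (H : Subgroup Co0) (x : leechLattice) : Prop := ∃ g ∈ H, ((g • x : leechLattice) : GolayPt → ℤ) ∈ stdCross

section
variable {H : Subgroup Co0} {x y : leechLattice}

theorem InO.smul (h : InO H x) {k : Co0} (hk : k ∈ H) : InO H (k • x) := by
  obtain ⟨g, hg, h⟩ := h
  exact ⟨g * k⁻¹, H.mul_mem hg (H.inv_mem hk), by rwa [mul_smul, inv_smul_smul]⟩

theorem InO.of_smul {k : Co0} (h : InO H (k • x)) (hk : k ∈ H) : InO H x := by
  simpa using h.smul (H.inv_mem hk)

theorem InO.norm (h : InO H x) : sqNorm (x : GolayPt → ℤ) = 64 := by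
  obtain ⟨g, -, i, s, hs, h⟩ := h
  rw [← sqNorm_smul g, h, sqNorm_single]
  rcases hs with rfl | rfl <;> rfl

theorem InO.coord (h : InO H y) (x : leechLattice) :
    ∃ g ∈ H, ∃ i, 8 * |((g • x : leechLattice) : GolayPt → ℤ) i| = |dotInt (x : GolayPt → ℤ) y| := by
  obtain ⟨g, hg, i, s, hs, h⟩ := h
  refine ⟨g, hg, i, ?_⟩
  rw [← dot_smul g, h, dot_single, abs_mul, mul_comm]
  rcases hs with rfl | rfl <;> rfl

theorem top_of_C (hN : Nsub ≤ H) (h : InO H x) {i : GolayPt} (h6 : |(x : GolayPt → ℤ) i| = 6) : H = ⊤ := by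
  obtain ⟨n, hn, h1⟩ := exists_N_vC0 h.norm h6
  have h0 : InO H vC0 := h1 ▸ h.smul (hN hn)
  have key := conn64 (fun x => ∀ hx : x ∈ leechLattice, InO H ⟨x, hx⟩)
    (fun x h hx => ⟨1, H.one_mem, by rwa [one_smul]⟩) fun x _ y hy h1 h2 h3 h4 hx => by
      obtain ⟨g, hg, i, h5⟩ := (h4 hy).coord ⟨x, hx⟩
      obtain ⟨n, hn, h6⟩ := exists_N_vC0 (v := g • ⟨x, hx⟩) (by rw [sqNorm_smul]; exact h1) (i := i) (by
        rw [h3] at h5; norm_num at h5; omega)
      exact ((h6 ▸ h0).of_smul (hN hn)).of_smul hg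
  rw [eq_top_iff]
  intro g _
  obtain ⟨k, hk, h⟩ := key _ (g • e8 none).2 (by rw [sqNorm_smul, sqNorm_e8]) (g • e8 none).2
  change (((k • g • e8 none : leechLattice)) : GolayPt → ℤ) ∈ stdCross at h
  rw [← mul_smul] at h
  simpa using H.mul_mem (H.inv_mem hk) (hN (mem_Nsub_of_one h))

theorem top_of_dot48 (hN : Nsub ≤ H) (hx : InO H x) (hy : InO H y) (h : dotInt (x : GolayPt → ℤ) y = 48) :
    H = ⊤ := by
  obtain ⟨g, hg, i, h5⟩ := hy.coord x
  exact top_of_C hN (hx.smul hg) (i := i) (by rw [h] at h5; norm_num at h5; omega)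

theorem dot_eps (x : leechLattice) {c : Finset GolayPt} (hc : c ∈ Cset) :
    dotInt (x : GolayPt → ℤ) (eps c hc • x : leechLattice) =
      sqNorm (x : GolayPt → ℤ) - 2 * ∑ i ∈ c, (x : GolayPt → ℤ) i ^ 2 := by
  rw [dotInt, sqNorm, Finset.mul_sum, ← Finset.sum_ite_mem_eq c, ← Finset.sum_sub_distrib]
  refine Finset.sum_congr rfl fun i _ => ?_
  rw [eps_apply]; split_ifs <;> ring

theorem sum_sq_of_inter {x : GolayPt → ℤ} {c : Finset GolayPt} {k : ℤ} (h : ∀ i ∈ c, i ∉ lev x k → x i = 0) :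
    ∑ i ∈ c, x i ^ 2 = (c ∩ lev x k).card * k ^ 2 := by
  rw [← Finset.sum_subset Finset.inter_subset_left (s₁ := c ∩ lev x k) fun i hi hi' => by
    rw [h i hi fun h' => hi' (mem_inter.2 ⟨hi, h'⟩)]; rfl,
    Finset.sum_congr rfl (g := fun _ => k ^ 2) fun i hi => by rw [← sq_abs, mem_lev.1 (mem_inter.1 hi).2],
    Finset.sum_const, nsmul_eq_mul]

theorem top_of_four (hN : Nsub ≤ H) (hx : InO H x) {i : GolayPt} (h4 : |(x : GolayPt → ℤ) i| = 4) : H = ⊤ := by
  have hn := hx.norm
  have hi : i ∈ lev x 4 := mem_lev.2 h4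
  have hp := Finset.card_pos.2 ⟨i, hi⟩
  have hev := even_of_lev x.2 (k := 4) rfl hp
  obtain ⟨k1, k2, k3⟩ := even_shape x.2 hn.le hev
  have c6 : (lev x 6).card = 0 := by omega
  have c8 : (lev x 8).card = 0 := by omega
  have hz : ∀ i, i ∉ lev x 2 → i ∉ lev x 4 → (x : GolayPt → ℤ) i = 0 := fun i e1 e2 =>
    eq_zero_of_not_mem_lev hn.le hev e1 e2 (notMem_of_card_zero c6 i) (notMem_of_card_zero c8 i)
  by_cases c2 : (lev x 2).card = 0
  · obtain ⟨b, hb⟩ := Finset.card_pos.1 (show 0 < (lev x 0).card by omega)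
    have hb' : b ∉ lev x 4 := Finset.disjoint_left.1 (lev_disjoint _ (by norm_num)) hb
    obtain ⟨σ, h1, h2⟩ := M24_exists_fix_smul (F := (lev x 4).erase i) (a := i) (b := b)
      (by rw [card_erase_of_mem hi]; omega) (notMem_erase _ _) fun h => hb' (mem_of_mem_erase h)
    rw [mem_fixS] at h1
    refine top_of_dot48 hN hx (hx.smul (hN (pm_mem σ))) ?_
    rw [dotInt, ← Finset.sum_subset (subset_univ ((lev x 4).erase i)) fun j _ hj => ?_,
      Finset.sum_congr rfl (g := fun _ => (16 : ℤ)) fun j hj => ?_, Finset.sum_const, card_erase_of_mem hi,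
      show (lev x 4).card = 4 by omega]
    · rfl
    · rw [← h1 j hj, pm_apply_smul, h1 j hj, ← sq, ← sq_abs, mem_lev.1 (mem_of_mem_erase hj)]; rfl
    · by_cases e : j = i
      · rw [pm_apply, hz (σ⁻¹ • j) (notMem_of_card_zero c2 _), mul_zero]
        intro h3
        by_cases e' : σ⁻¹ • j = i
        · rw [inv_smul_eq_iff, h2] at e'
          exact hb' (e' ▸ e ▸ hi)
        · have := h1 _ (mem_erase.2 ⟨e', h3⟩)
          rw [smul_inv_smul] at this
          exact e' (this.symm.trans e)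
      · rw [hz j (notMem_of_card_zero c2 _) fun h => hj (mem_erase.2 ⟨e, h⟩), zero_mul]
  · have hc : lev x 2 ∈ Cset := by
      have := cres_mem x.2 (r := 2) (by norm_num) (by norm_num)
      rwa [cres_two_eq hn.le, Finset.card_eq_zero.1 c6, union_empty] at this
    obtain ⟨A, hA, hA2⟩ := Finset.exists_subset_card_eq (s := lev x 2) (n := 2) (by omega)
    have hu := Finset.card_union_le (lev x 2) (lev x 4)
    obtain ⟨c, hc', h1⟩ := exists_Cset_inter (S := lev x 2 ∪ lev x 4) (A := A) (hA.trans subset_union_left)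
      fun B hB hBS => by
        have : B = ∅ ∨ B = lev x 2 := by
          by_cases c8 : (lev x 2).card = 8
          · exact Cset_subset_small (by omega) hc c8 subset_union_left hB hBS
          · refine Cset_subset_dodecad hc (by omega) hB ?_
            have h1 := Cset_inter_even hB hc
            have h2 := Cset_card_mod hB
            have h3 := Finset.card_le_card (show B ⊆ B ∩ lev x 2 ∪ lev x 4 from fun j hj => by
              have := hBS hj
              simp only [mem_union, mem_inter] at this ⊢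
              tauto)
            have h4 := Finset.card_union_le (B ∩ lev x 2) (lev x 4)
            have h5 := Finset.card_le_card (inter_subset_left (s₁ := B) (s₂ := lev x 2))
            rw [← Finset.inter_eq_left]
            exact Finset.eq_of_subset_of_card_le inter_subset_left (by omega)
        rcases this with rfl | rfl
        · simp
        · rw [Finset.inter_eq_left.2 hA, hA2]
    refine top_of_dot48 hN hx (hx.smul (hN (eps_mem c hc'))) ?_
    have h2 : c ∩ lev x 2 = A := by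
      rw [← Finset.inter_eq_left.2 hA, ← h1, inter_assoc, Finset.inter_eq_right.2 subset_union_left]
    rw [dot_eps, hn, sum_sq_of_inter (k := 2) fun j hj hj' => hz j hj' fun h => hj' (hA (h1 ▸ mem_inter.2
      ⟨hj, mem_union_right _ h⟩)), h2, hA2]
    rfl

theorem exists_octad_disjoint {s : Finset GolayPt} (hs : s.card ≤ 5) : ∃ o ∈ octads, Disjoint o s := by
  obtain ⟨t, ht, htc⟩ := Finset.exists_subset_card_eq (s := (ofMask 2769128)ᶜ) (n := s.card)
    (hs.trans (by decide +kernel))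
  obtain ⟨σ, hσ⟩ := M24_exists_smul_finset (s := t) (t := s) (htc ▸ hs) htc
  refine ⟨σ • ofMask 2769128, (M24_smul_octads σ.2).2 ((ofMask_mem_octads (by norm_num)).2 (by decide +kernel)), ?_⟩
  rw [← hσ, Finset.disjoint_left]
  intro p h1 h2
  rw [← Finset.inv_smul_mem_iff] at h1 h2
  exact mem_compl.1 (ht h2) h1

theorem exists_octad_inter_four {o : Finset GolayPt} (ho : o ∈ octads) : ∃ o' ∈ octads, (o' ∩ o).card = 4 := by
  obtain ⟨T, hT, hT4⟩ := Finset.exists_subset_card_eq (s := o) (n := 4) (by rw [ho.2]; norm_num)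
  obtain ⟨p, -, hp⟩ := Finset.exists_mem_notMem_of_card_lt_card (s := o) (t := univ)
    (by rw [ho.2, card_univ, Leech.card_golayPt]; norm_num)
  obtain ⟨u, hu, hpu⟩ := sextetOf_cover hT4 p
  have h1 := sextetOf_union (self_mem_sextetOf hT4) hu (by rintro rfl; exact hp (hT hpu))
  have h2 := Finset.card_le_card (Finset.subset_inter (subset_union_left (s₂ := u)) hT)
  rcases octad_inter_card h1 ho with h | h | h | h
  · exact absurd (h ▸ mem_union_right _ hpu) hp
  · omega
  · omega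
  · exact ⟨_, h1, h⟩

theorem top_of_not_cross (hN : Nsub ≤ H) (hx : InO H x) (h : (x : GolayPt → ℤ) ∉ stdCross) : H = ⊤ := by
  have hn := hx.norm
  rcases parity_cases x.2 with hev | ho
  · obtain ⟨k1, k2, k3⟩ := even_shape x.2 hn.le hev
    rcases (lev x 8).eq_empty_or_nonempty with c8 | ⟨i, hi⟩
    swap
    · exact absurd (mem_stdCross_of_abs hn (mem_lev.1 hi)) h
    rcases (lev x 6).eq_empty_or_nonempty with c6 | ⟨i, hi⟩
    swap
    · exact top_of_C hN hx (mem_lev.1 hi)
    rcases (lev x 4).eq_empty_or_nonempty with c4 | ⟨i, hi⟩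
    swap
    · exact top_of_four hN hx (mem_lev.1 hi)
    have hc : lev x 2 ∈ Cset := by
      have := cres_mem x.2 (r := 2) (by norm_num) (by norm_num)
      rwa [cres_two_eq hn.le, c6, union_empty] at this
    rw [c4, c6, c8, card_empty] at k2
    obtain ⟨o, ho, h1⟩ := exists_octad_inter_four (o := (lev x 2)ᶜ) ⟨Cset_compl hc, by rw [card_compl24]; omega⟩
    have h2 := Finset.card_inter_add_card_sdiff o (lev x 2)
    rw [Finset.sdiff_eq_inter_compl, h1, ho.2] at h2
    have h3 := dot_eps x ho.1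
    rw [hn, sum_sq_of_inter (k := 2) fun j _ hj => eq_zero_of_not_mem_lev hn.le hev hj (by simp [c4]) (by simp [c6])
      (by simp [c8]), show (o ∩ lev x 2).card = 4 by omega] at h3
    obtain ⟨g, hg, i, h5⟩ := (hx.smul (hN (eps_mem o ho.1))).coord x
    exact top_of_four hN (hx.smul hg) (i := i) (by rw [h3] at h5; norm_num at h5; omega)
  · obtain ⟨k1, k2⟩ := odd_shape hn.le ho
    obtain ⟨o, ho', h1⟩ := exists_octad_disjoint (s := (lev x 1)ᶜ) (by rw [card_compl24]; omega)
    have h2 : o ⊆ lev x 1 := fun j hj => by simpa using Finset.disjoint_left.1 h1 hj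
    refine top_of_dot48 hN hx (hx.smul (hN (eps_mem o ho'.1))) ?_
    rw [dot_eps, hn, sum_sq_of_inter (k := 1) fun j hj hj' => absurd (h2 hj) hj', Finset.inter_eq_left.2 h2, ho'.2]
    rfl

end

theorem xi_e8 : xi • e8 none = vB0 := by
  have : xi • vB0 = e8 none := Subtype.ext (by
    rw [vB0, xi_smul_lv _ (y := lf [0,0,0,0,0,0,0,0,0,0,0,0,0,0,0,0,0,0,0,0,0,0,0,8]) (by decide +kernel)]
    decide +kernel)
  rw [← this, ← mul_smul, xi_mul_self, one_smul]

theorem not_mem_stdCross_of_abs {x : GolayPt → ℤ} {i : GolayPt} (h0 : x i ≠ 0) (h8 : |x i| ≠ 8) : x ∉ stdCross := by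
  rintro ⟨j, s, hs, rfl⟩
  by_cases e : i = j
  · rw [e, Pi.single_eq_same] at h8; rcases hs with rfl | rfl <;> exact h8 rfl
  · exact h0 (Pi.single_eq_of_ne e _)

theorem xi_not_mem : xi ∉ Nsub := fun h => by
  have := mem_Nsub_iff_cross.1 h (e8 none) ⟨none, 8, Or.inl rfl, rfl⟩
  rw [xi_e8] at this
  exact not_mem_stdCross_of_abs (i := none) (by decide +kernel) (by decide +kernel) this

theorem Nsub_isCoatom : IsCoatom Nsub := by
  refine ⟨fun h => xi_not_mem (h ▸ Subgroup.mem_top _), fun H hH => ?_⟩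
  obtain ⟨g, hg, hg'⟩ := SetLike.exists_of_lt hH
  exact top_of_not_cross hH.le (x := g • e8 none)
    (InO.smul ⟨1, H.one_mem, none, 8, Or.inl rfl, by rw [one_smul]; rfl⟩ hg) fun h => hg' (mem_Nsub_of_one h)

/-! ### Elements acting as `±1` on every minimal vector -/

theorem co0_ext_min {g h : Co0} (H : ∀ v : leechLattice, sqNorm (v : GolayPt → ℤ) = 32 → g • v = h • v) : g = h := by
  refine co0_ext fun v => ?_
  have hv : (v : GolayPt → ℤ) ∈ AddSubgroup.closure {x : GolayPt → ℤ | x ∈ leechLattice ∧ sqNorm x = 32} :=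
    closure_min.symm ▸ v.2
  have := AddSubgroup.closure_induction (p := fun x _ => ∀ hx : x ∈ leechLattice,
      g • (⟨x, hx⟩ : leechLattice) = h • (⟨x, hx⟩ : leechLattice))
    (fun x hx _ => H _ hx.2) (fun _ => (smul_zero g).trans (smul_zero h).symm)
    (fun x y hx hy h1 h2 _ => by
      rw [closure_min] at hx hy
      exact (smul_add g (⟨x, hx⟩ : leechLattice) ⟨y, hy⟩).trans
        (by rw [h1, h2]; exact (smul_add h (⟨x, hx⟩ : leechLattice) ⟨y, hy⟩).symm))
    (fun x hx h1 _ => by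
      rw [closure_min] at hx
      exact (smul_neg g (⟨x, hx⟩ : leechLattice)).trans (by rw [h1]; exact (smul_neg h (⟨x, hx⟩ : leechLattice)).symm))
    hv v.2
  exact this

theorem mem_center_of_pm {g : Co0}
    (h : ∀ v : leechLattice, sqNorm (v : GolayPt → ℤ) = 32 → g • v = v ∨ g • v = -v) : g ∈ Subgroup.center Co0 := by
  have orth : ∀ a b : leechLattice, g • a = a → g • b = -b → dotInt (a : GolayPt → ℤ) b = 0 := fun a b h1 h2 => by
    have := dot_smul g a b
    rw [h1, h2, AddSubgroup.coe_neg, dot_neg_right] at this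
    omega
  rw [mem_center_iff]
  by_contra hne
  rw [not_or] at hne
  obtain ⟨b, hb, hb'⟩ : ∃ b : leechLattice, sqNorm (b : GolayPt → ℤ) = 32 ∧ g • b = -b := by
    by_contra h1
    exact hne.1 (co0_ext_min fun v hv => by
      rw [one_smul]; exact (h v hv).resolve_right fun e => h1 ⟨v, hv, e⟩)
  obtain ⟨a, ha, ha'⟩ : ∃ a : leechLattice, sqNorm (a : GolayPt → ℤ) = 32 ∧ g • a = a := by
    by_contra h1
    exact hne.2 (co0_ext_min fun v hv => by
      rw [negOne_smul]; exact (h v hv).resolve_left fun e => h1 ⟨v, hv, e⟩)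
  obtain ⟨k, h1, h2⟩ := pair_orth ha hb (orth a b ha' hb')
  rcases h (k⁻¹ • lX) (by rw [sqNorm_smul]; decide +kernel) with h3 | h3
  · have := orth _ _ h3 hb'
    rw [← dot_smul k, h2, smul_inv_smul] at this
    exact absurd this (by decide +kernel)
  · have := orth _ _ ha' h3
    rw [← dot_smul k, h1, smul_inv_smul] at this
    exact absurd this (by decide +kernel)

theorem mem_center_of_congr {g : Co0} (h : ∀ v : leechLattice, sqNorm (v : GolayPt → ℤ) = 32 →
    ∃ w : leechLattice, ((g • v : leechLattice) : GolayPt → ℤ) - v = 2 • (w : GolayPt → ℤ)) :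
    g ∈ Subgroup.center Co0 := mem_center_of_pm fun v hv => by
  obtain ⟨w, hw⟩ := h v hv
  rcases short_congr (g • v).2 v.2 w.2 (by rw [sqNorm_smul, hv]; norm_num) (by rw [hv]; norm_num) hw with h | h | h
  · exact Or.inl (Subtype.ext h)
  · exact Or.inr (Subtype.ext h)
  · omega

/-! ### Normal subgroups -/

theorem eps_mul (c d : Finset GolayPt) (hc : c ∈ Cset) (hd : d ∈ Cset) :
    eps c hc * eps d hd = eps _ (Cset_symmDiff hc hd) := co0_ext' fun v => by
  rw [mul_smul, coe_eps_smul, coe_eps_smul, coe_eps_smul, sgn_sgn]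

theorem eps_mul_self (c : Finset GolayPt) (hc : c ∈ Cset) : eps c hc * eps c hc = 1 := co0_ext' fun v => by
  rw [mul_smul, coe_eps_smul, coe_eps_smul, sgn_sgn_self, one_smul]

theorem eps_comm (c d : Finset GolayPt) (hc : c ∈ Cset) (hd : d ∈ Cset) :
    eps c hc * eps d hd = eps d hd * eps c hc := by
  rw [eps_mul, eps_mul]; congr 1; exact symmDiff_comm _ _

/-- The Golay code modulo the all-ones word is an irreducible module. -/
theorem code_irreducible {P : Finset GolayPt → Prop} (hx : ∀ s t, P s → P t → P (symmDiff s t))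
    (hσ : ∀ (σ : M24) s, P s → P (σ • s)) (hu : P univ) {e : Finset GolayPt} (he : e ∈ Cset) (h0 : e ≠ ∅)
    (h1 : e ≠ univ) (hP : P e) : ∀ s ∈ Cset, P s := by
  have key : ∀ o ∈ octads, P o → ∀ s ∈ Cset, P s := fun o ho hPo =>
    GC_induction_octads (by simpa using hx _ _ hu hu) hx fun o' ho' => by
      obtain ⟨σ, h⟩ := exists_smul_eq_of_base (M24_octad_trans0 ho) (M24_octad_trans0 ho')
      exact h ▸ hσ σ o hPo
  rcases Cset_card he with h | h | h | h | h
  · exact absurd (card_eq_zero.1 h) h0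
  · exact key e ⟨he, h⟩ hP
  · have hd : ∀ d ∈ dodecads, P d := fun d hd => by
      obtain ⟨σ, h'⟩ := exists_smul_eq_of_base (M24_dodecad_trans0 ⟨he, h⟩) (M24_dodecad_trans0 hd)
      exact h' ▸ hσ σ e hP
    refine key (ofMask 13062145) ((ofMask_mem_octads (by norm_num)).2 (by decide +kernel)) ?_
    rw [show 13062145 = 340831 ^^^ 12739422 by decide +kernel, ofMask_xor]
    exact hx _ _ (hd _ ((ofMask_mem_dodecads (by norm_num)).2 (by decide +kernel)))
      (hd _ ((ofMask_mem_dodecads (by norm_num)).2 (by decide +kernel)))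
  · refine key eᶜ ⟨Cset_compl he, by rw [card_compl24, h]⟩ ?_
    have : eᶜ = symmDiff e univ := by ext i; simp [Finset.mem_symmDiff]
    exact this ▸ hx _ _ hP hu
  · exact absurd (Finset.eq_univ_of_card e (h.trans Leech.card_golayPt.symm)) h1

theorem exists_moved_word {σ : M24} (h : σ ≠ 1) : ∃ d ∈ Cset, symmDiff (σ • d) d ≠ ∅ ∧ symmDiff (σ • d) d ≠ univ := by
  obtain ⟨i, hi⟩ : ∃ i : GolayPt, σ • i ≠ i := by
    by_contra h1
    exact h (Subtype.ext (Equiv.ext fun i => not_not.1 fun e => h1 ⟨i, e⟩))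
  obtain ⟨k, -, hk⟩ := Finset.exists_mem_notMem_of_card_lt_card (s := {i, σ • i}) (t := univ)
    (card_le_two.trans_lt (by rw [card_univ, Leech.card_golayPt]; norm_num))
  simp only [mem_insert, mem_singleton, not_or] at hk
  obtain ⟨d, hd, h1⟩ := exists_Cset_inter_of_card_le (S := insert (σ • i) {i, k, σ • k}) (A := {i, k, σ • k})
    (subset_insert _ _) ((card_insert_le _ _).trans (by have := card_le_three (a := i) (b := k) (c := σ • k); omega))
  have h2 : ∀ p ∈ ({i, k, σ • k} : Finset GolayPt), p ∈ d := fun p hp => (mem_inter.1 (h1 ▸ hp)).1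
  have h3 : σ • i ∉ d := fun h => by
    have := h1 ▸ mem_inter.2 ⟨h, mem_insert_self _ _⟩
    simp only [mem_insert, mem_singleton, smul_left_cancel_iff] at this
    rcases this with e | e | e
    · exact hi e
    · exact hk.2 e.symm
    · exact hk.1 e.symm
  refine ⟨d, hd, Finset.ne_empty_of_mem (a := σ • i) (Finset.mem_symmDiff.2 (Or.inl
    ⟨Finset.smul_mem_smul_finset (h2 i (by simp)), h3⟩)), fun e => ?_⟩
  have := e ▸ mem_univ (σ • k)
  rw [Finset.mem_symmDiff] at this
  have h4 := Finset.smul_mem_smul_finset (a := σ) (h2 k (by simp))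
  have h5 := h2 (σ • k) (by simp)
  tauto

theorem eps_mem_of_normal {K : Subgroup Co0} (hK : ∀ n ∈ Nsub, ∀ g ∈ K, n * g * n⁻¹ ∈ K) (hn : negOne ∈ K)
    {g : Co0} (hg : g ∈ K) (hgN : g ∈ Nsub) (hgZ : g ∉ Subgroup.center Co0) : ∀ c hc, eps c hc ∈ K := by
  obtain ⟨e, he, h0, h1, h2⟩ : ∃ e, ∃ he : e ∈ Cset, e ≠ ∅ ∧ e ≠ univ ∧ eps e he ∈ K := by
    obtain ⟨c, hc, σ, rfl⟩ := mem_Nsub_iff_eps_pm.1 hgN
    by_cases hσ : σ = 1
    · rw [hσ, map_one, mul_one] at hg hgZ
      refine ⟨c, hc, ?_, ?_, hg⟩ <;> rintro rfl <;> apply hgZ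
      · rw [eps_empty]; exact Subgroup.one_mem _
      · exact negOne_mem_center
    · obtain ⟨d, hd, h1, h2⟩ := exists_moved_word hσ
      refine ⟨_, Cset_symmDiff (image_mem_Cset σ.2 hd) hd, h1, h2, ?_⟩
      have h3 := K.mul_mem hg (hK _ (eps_mem d hd) _ (K.inv_mem hg))
      have h4 := pm_mul_eps σ d hd
      have h5 : eps c hc * pm σ * (eps d hd * (eps c hc * pm σ)⁻¹ * (eps d hd)⁻¹) =
          eps c hc * (pm σ * eps d hd * (pm σ)⁻¹) * (eps c hc)⁻¹ * (eps d hd)⁻¹ := by group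
      rw [h5, h4, eps_comm c, mul_inv_cancel_right, inv_eq_of_mul_eq_one_right (eps_mul_self d hd), eps_mul] at h3
      exact h3
  intro c hc
  exact code_irreducible (P := fun s => ∃ hs : s ∈ Cset, eps s hs ∈ K)
    (fun s t ⟨hs, h1⟩ ⟨ht, h2⟩ => ⟨_, eps_mul s t hs ht ▸ K.mul_mem h1 h2⟩)
    (fun σ s ⟨hs, h1⟩ => ⟨_, pm_mul_eps σ s hs ▸ hK _ (pm_mem σ) _ h1⟩) ⟨_, hn⟩ he h0 h1 ⟨he, h2⟩ c hc |>.2

theorem pm_e8 (σ : M24) (i : GolayPt) : pm σ • e8 i = e8 (σ • i) := Subtype.ext (funext fun p => by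
  rw [pm_apply, coe_e8, coe_e8, Pi.single_apply, Pi.single_apply]
  simp only [inv_smul_eq_iff])

theorem top_of_eps_mem {K : Subgroup Co0} [hK : K.Normal] (h : ∀ c hc, eps c hc ∈ K) : K = ⊤ := by
  have hc : ofMask 13062145 ∈ Cset := ofMask_mem_GC_of_isCode (by decide +kernel)
  have h1 : (xi * eps _ hc * xi⁻¹) • e8 none = e8 p0 := by
    rw [inv_eq_of_mul_eq_one_right xi_mul_self, mul_smul, mul_smul, xi_e8,
      show eps _ hc • vB0 = lv (lf [-4,4,4,0,0,0,0,0,0,0,0,0,0,0,0,0,0,0,0,0,0,0,0,4]) (by decide +kernel) from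
        Subtype.ext (by rw [coe_eps_smul]; decide +kernel)]
    exact Subtype.ext (by
      rw [xi_smul_lv _ (y := lf [8,0,0,0,0,0,0,0,0,0,0,0,0,0,0,0,0,0,0,0,0,0,0,0]) (by decide +kernel)]
      decide +kernel)
  obtain ⟨d, hd, σ, h2⟩ := mem_Nsub_iff_eps_pm.1 (mem_Nsub_of_one (g := xi * eps _ hc * xi⁻¹) (i := none)
    (by rw [h1]; exact ⟨p0, 8, Or.inl rfl, rfl⟩))
  have h3 : pm σ ∈ K := by
    have := K.mul_mem (h d hd) (h2 ▸ hK.conj_mem _ (h _ hc) xi)
    rwa [← mul_assoc, eps_mul_self, one_mul] at this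
  have h4 : σ ≠ 1 := by
    rintro rfl
    rw [h2, map_one, mul_one] at h1
    have := congrFun (congrArg Subtype.val h1) p0
    rw [eps_apply, coe_e8, coe_e8, Pi.single_eq_same, Pi.single_eq_of_ne p0_ne] at this
    split_ifs at this <;> omega
  have h5 : K.comap pm = ⊤ := (M24_simple.eq_bot_or_eq_top_of_normal _ (hK.comap pm)).resolve_left fun e =>
    h4 (by rw [← Subgroup.mem_bot, ← e]; exact h3)
  have h6 : Nsub ≤ K := fun g hg => by
    obtain ⟨c, hc, τ, rfl⟩ := mem_Nsub_iff_eps_pm.1 hg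
    exact K.mul_mem (h c hc) (show τ ∈ K.comap pm from h5 ▸ Subgroup.mem_top τ)
  refine Nsub_isCoatom.2 K (lt_of_le_of_ne h6 fun e => ?_)
  have hc' : ofMask 10170384 ∈ Cset := ofMask_mem_GC_of_isCode (by decide +kernel)
  have h7 := mem_Nsub_iff_cross.1 (e ▸ hK.conj_mem _ (h _ hc') xi) (e8 none) ⟨none, 8, Or.inl rfl, rfl⟩
  rw [inv_eq_of_mul_eq_one_right xi_mul_self, mul_smul, mul_smul, xi_e8,
    show eps _ hc' • vB0 = lv (lf [4,4,4,0,0,0,0,0,0,0,0,0,0,0,0,0,0,0,0,0,0,0,0,4]) (by decide +kernel) from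
      Subtype.ext (by rw [coe_eps_smul]; decide +kernel),
    xi_smul_lv _ (y := lf [4,4,4,0,0,0,0,0,0,0,0,0,0,0,0,0,0,0,0,0,0,0,0,4]) (by decide +kernel)] at h7
  exact not_mem_stdCross_of_abs (i := none) (by decide +kernel) (by decide +kernel) h7

theorem dot_min_cases {u x : leechLattice} (hu : sqNorm (u : GolayPt → ℤ) = 32) (hx : sqNorm (x : GolayPt → ℤ) = 32) :
    x = u ∨ x = -u ∨ dotInt (u : GolayPt → ℤ) x ∈ ({-16, -8, 0, 8, 16} : Finset ℤ) := by
  by_cases h1 : x = u
  · exact Or.inl h1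
  by_cases h2 : x = -u
  · exact Or.inr (Or.inl h2)
  have h3 := le_sqNorm (u - x).2 fun e => h1 (by
    rw [ZeroMemClass.coe_eq_zero, sub_eq_zero] at e; exact e.symm)
  have h4 := le_sqNorm (u + x).2 fun e => h2 (by
    rw [ZeroMemClass.coe_eq_zero] at e; exact eq_neg_of_add_eq_zero_right e)
  rw [AddSubgroup.coe_sub, sqNorm_sub, hu, hx] at h3
  rw [AddSubgroup.coe_add, sqNorm_add, hu, hx] at h4
  have := eight_dvd_dot u.2 x.2
  simp only [mem_insert, mem_singleton]
  omega

theorem neg_mem_nbr {u x : leechLattice} {d : ℤ} : -x ∈ nbr u d ↔ x ∈ nbr u (-d) := by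
  rw [mem_nbr, mem_nbr, AddSubgroup.coe_neg, sqNorm_neg, dot_neg_right, neg_eq_iff_eq_neg]

theorem le_center_of_normal {K : Subgroup Co0} [hK : K.Normal] (hn : negOne ∈ K) (h : Nat.card K ∣ 16584750) :
    K ≤ Subgroup.center Co0 := by
  set O := MulAction.orbit K leechU with hO
  have hfix : ∀ g : Co0, g • leechU = leechU → ∀ y ∈ O, g • y ∈ O := by
    rintro g hg _ ⟨k, rfl⟩
    exact ⟨⟨_, hK.conj_mem _ k.2 g⟩, by
      change (g * k * g⁻¹) • leechU = g • (k : Co0) • leechU
      rw [mul_smul, mul_smul, inv_smul_eq_iff.2 hg.symm]⟩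
  have hneg : ∀ y ∈ O, -y ∈ O := by
    rintro _ ⟨k, rfl⟩
    exact ⟨⟨negOne, hn⟩ * k, by rw [← negOne_smul]; exact mul_smul _ _ _⟩
  have hall : ∀ d, (∀ y ∈ nbr leechU d, ∀ z ∈ nbr leechU d, ∃ g : Co0, g • leechU = leechU ∧ g • y = z) →
      O ∩ (nbr leechU d ∪ nbr leechU (-d)) = ∅ ∨ nbr leechU d ∪ nbr leechU (-d) ⊆ O := fun d ht => by
    rw [or_iff_not_imp_left, ← Ne, ← Set.nonempty_iff_ne_empty]
    rintro ⟨y, hy, hy'⟩
    obtain ⟨y, hy, hy'⟩ : ∃ y ∈ O, y ∈ nbr leechU d :=
      hy'.elim (fun h => ⟨y, hy, h⟩) fun h => ⟨-y, hneg y hy, neg_mem_nbr.2 h⟩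
    have : nbr leechU d ⊆ O := fun z hz => by
      obtain ⟨g, h1, h2⟩ := ht y hy' z hz
      exact h2 ▸ hfix g h1 y hy
    exact Set.union_subset this fun z hz => by simpa using hneg _ (this (neg_mem_nbr.2 hz))
  have hdvd : O.ncard ∣ 16584750 := (Dvd.intro _ (card_eq_ncard_orbit_mul K leechU).symm).trans h
  have hU : leechU ∈ O := MulAction.mem_orbit_self _
  have hOn : ∀ y ∈ O, sqNorm (y : GolayPt → ℤ) = 32 := by
    rintro _ ⟨k, rfl⟩; exact (sqNorm_smul k _).trans sqNorm_U
  have hne : leechU ≠ -leechU := fun e => absurd (congrArg Subtype.val e) (by decide +kernel)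
  have hdis : ∀ d e : ℤ, d ≠ e → Disjoint (nbr leechU d) (nbr leechU e) := fun d e hde =>
    Set.disjoint_left.2 fun y h1 h2 => hde (h1.2.symm.trans h2.2)
  have hsplit : O.ncard = 2 + (O ∩ (nbr leechU (-16) ∪ nbr leechU (- -16))).ncard +
      (O ∩ (nbr leechU (-8) ∪ nbr leechU (- -8))).ncard + (O ∩ (nbr leechU 0 ∪ nbr leechU (-0))).ncard := by
    have fin : ∀ d e, (O ∩ (nbr leechU d ∪ nbr leechU e)).Finite := fun d e =>
      ((nbr_finite _ _).union (nbr_finite _ _)).inter_of_right _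
    have d1 : dotInt (leechU : GolayPt → ℤ) leechU = 32 := by decide +kernel
    have d2 : dotInt (leechU : GolayPt → ℤ) (-leechU : leechLattice) = -32 := by decide +kernel
    rw [← Set.ncard_pair hne, ← Set.ncard_union_eq _ (Set.toFinite _) (fin _ _),
      ← Set.ncard_union_eq _ ((Set.toFinite _).union (fin _ _)) (fin _ _),
      ← Set.ncard_union_eq _ (((Set.toFinite _).union (fin _ _)).union (fin _ _)) (fin _ _)]
    · refine congrArg Set.ncard (Set.ext fun y => ⟨fun hy => ?_, ?_⟩)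
      · have h1 := hOn y hy
        have h2 := dot_min_cases sqNorm_U h1
        simp only [Set.mem_union, Set.mem_inter_iff, Set.mem_insert_iff, Set.mem_singleton_iff, mem_nbr, hy, h1,
          true_and, mem_insert, mem_singleton] at h2 ⊢
        norm_num
        tauto
      · rintro ((((rfl | rfl) | h) | h) | h)
        exacts [hU, hneg _ hU, h.1, h.1, h.1]
    all_goals
      rw [Set.disjoint_left]
      simp only [Set.mem_union, Set.mem_inter_iff, Set.mem_insert_iff, Set.mem_singleton_iff, mem_nbr]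
    · rintro y (((rfl | rfl) | h) | h) <;> omega
    · rintro y ((rfl | rfl) | h) <;> omega
    · rintro y (rfl | rfl) <;> omega
  have hcard : ∀ d n, (nbr leechU d).ncard = n → d ≠ 0 →
      (nbr leechU d ∪ nbr leechU (-d)).ncard = 2 * n := fun d n h1 h2 => by
    rw [Set.ncard_union_eq (hdis _ _ (by omega)) (nbr_finite _ _) (nbr_finite _ _), ncard_nbr_neg, h1, two_mul]
  have hc : ∀ (S : Set leechLattice) n, O ∩ S = ∅ ∨ S ⊆ O → S.ncard = n → (O ∩ S).ncard = 0 ∨ (O ∩ S).ncard = n :=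
    fun S n h1 h2 => h1.imp (fun h => by rw [h, Set.ncard_empty]) fun h => by rw [Set.inter_eq_right.2 h, h2]
  have h16 := hc _ _ (hall (-16) fun y hy z hz => pair_of_base (pair_m16 sqNorm_U hy.1 hy.2)
    (pair_m16 sqNorm_U hz.1 hz.2)) (hcard _ _ (ncard_nbr32_m16 sqNorm_U) (by norm_num))
  have h8 := hc _ _ (hall (-8) fun y hy z hz => pair_of_base (pair_m8 sqNorm_U hy.1 hy.2)
    (pair_m8 sqNorm_U hz.1 hz.2)) (hcard _ _ (ncard_nbr32_m8 sqNorm_U) (by norm_num))
  have h0 := hc _ 93150 (hall 0 fun y hy z hz => pair_of_base (pair_orth sqNorm_U hy.1 hy.2)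
    (pair_orth sqNorm_U hz.1 hz.2)) (by rw [neg_zero, Set.union_self, ncard_nbr32_0 sqNorm_U])
  have h2 : O.ncard = 2 := by
    rcases h16 with h16 | h16 <;> rcases h8 with h8 | h8 <;> rcases h0 with h0 | h0 <;>
      rw [h16, h8, h0] at hsplit <;> first | exact hsplit | (rw [hsplit] at hdvd; exact absurd hdvd (by decide))
  have h3 : O = {leechU, -leechU} := (Set.eq_of_subset_of_ncard_le (by
    rintro _ (rfl | rfl); exacts [hU, hneg _ hU]) (by rw [h2, Set.ncard_pair hne]) (show O.Finite from Set.finite_range _)).symm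
  intro g hg
  refine mem_center_of_pm fun v hv => ?_
  obtain ⟨k, rfl⟩ := trans32 sqNorm_U hv
  have : (k⁻¹ * g * k⁻¹⁻¹) • leechU ∈ O := ⟨⟨_, hK.conj_mem _ hg k⁻¹⟩, rfl⟩
  rw [h3, inv_inv, mul_smul, mul_smul] at this
  rcases this with h | h
  · exact Or.inl (inv_smul_eq_iff.1 h)
  · exact Or.inr ((inv_smul_eq_iff.1 h).trans (smul_neg _ _))

theorem card_Co1 : Nat.card Co1 = 4157776806543360000 := by
  have h4 := (Subgroup.center Co0).card_mul_index
  rw [card_center, card_Co0] at h4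
  change (Subgroup.center Co0).index = _
  omega

theorem normal_eq_center_or_top (K : Subgroup Co0) [hK : K.Normal] (hZ : Subgroup.center Co0 ≤ K) :
    K = Subgroup.center Co0 ∨ K = ⊤ := by
  have hn := hZ negOne_mem_center
  by_cases h : ∃ g ∈ K, g ∈ Nsub ∧ g ∉ Subgroup.center Co0
  · obtain ⟨g, h1, h2, h3⟩ := h
    exact Or.inr (top_of_eps_mem (eps_mem_of_normal (fun n _ g hg => hK.conj_mem g hg n) hn h1 h2 h3))
  refine Or.inl (le_antisymm (le_center_of_normal hn ?_) hZ)
  have hZN : Subgroup.center Co0 ≤ Nsub := fun g hg => by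
    rcases mem_center_iff.1 hg with rfl | rfl
    exacts [Nsub.one_mem, negOne_mem]
  have h1 : K ⊓ Nsub = Subgroup.center Co0 :=
    le_antisymm (fun g hg => by by_contra e; exact h ⟨g, hg.1, hg.2, e⟩) (le_inf hZ hZN)
  have h2 := Subgroup.relIndex_dvd_index_of_normal K Nsub
  rw [← Subgroup.inf_relIndex_right, h1] at h2
  have h3 : (Subgroup.center Co0).relIndex Nsub = 501397585920 := by
    have := Subgroup.relIndex_mul_index hZN
    rw [index_Nsub, show (Subgroup.center Co0).index = _ from card_Co1] at this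
    exact Nat.eq_of_mul_eq_mul_right (show 0 < 8292375 by norm_num) (this.trans (by norm_num))
  rw [h3] at h2
  obtain ⟨m, hm⟩ := h2
  have h4 := K.card_mul_index
  rw [card_Co0, hm] at h4
  exact ⟨m, by apply Nat.eq_of_mul_eq_mul_left (show 0 < 501397585920 by norm_num); rw [mul_left_comm, h4]⟩

theorem Co1_simple : IsSimpleGroup Co1 := by
  have : Nontrivial Co1 := Finite.one_lt_card_iff_nontrivial.1 (by rw [card_Co1]; norm_num)
  refine ⟨fun K hK => ?_⟩
  have hs := QuotientGroup.mk'_surjective (Subgroup.center Co0)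
  rcases normal_eq_center_or_top (K.comap (QuotientGroup.mk' _)) (QuotientGroup.le_comap_mk' _ _) with h | h
  · left
    rw [← Subgroup.map_comap_eq_self_of_surjective hs K, h, QuotientGroup.map_mk'_self]
  · right
    rw [← Subgroup.map_comap_eq_self_of_surjective hs K, h, Subgroup.map_top_of_surjective _ hs]

end CL.Spor.Leech
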