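/-
The Leech lattice modulo 2 (irreducibility, the invariant quadratic form, plus type), non-splitting of `Co0`,
and the 23-dimensional representation of `Co2` modulo 13.
-/
import Cfsg.Agent.Spor.LeechMax

set_option autoImplicit false

namespace CL.Spor.Leech

open Cfsg Cfsg.Spor Finset
open scoped Pointwise

theorem eps_congr {c d : Finset GolayPt} (hc : c ∈ Cset) (hd : d ∈ Cset) (h : c = d) : eps c hc = eps d hd := by
  subst h; rfl

theorem negOne_mem_of_index_two {K : Subgroup Co0} (h2 : K.index = 2) : negOne ∈ K := by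
  obtain ⟨σ, hσ⟩ := exists_smul_eq_of_base (M24_dodecad_trans0 dod0_mem) (M24_dodecad_trans0 (dodecad_compl dod0_mem))
  have h3 : negOne = pm σ * eps dod0 dod0_mem.1 * (pm σ)⁻¹ * eps dod0 dod0_mem.1 := by
    rw [pm_mul_eps, eps_mul, negOne]
    refine eps_congr _ _ ?_
    rw [hσ]; ext i; simp
  rw [h3, Subgroup.mul_mem_iff_of_index_two h2, Subgroup.mul_mem_iff_of_index_two h2,
    Subgroup.mul_mem_iff_of_index_two h2, K.inv_mem_iff]
  tauto

theorem not_isComplement (K : Subgroup Co0) : ¬ (Subgroup.zpowers negOne).IsComplement' K := fun hK => by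
  have h2 : K.index = 2 := by
    rw [hK.index_eq_card, Nat.card_zpowers, orderOf_eq_prime (by rw [sq, negOne_mul_self]) negOne_ne_one]
  exact negOne_ne_one
    (Subgroup.mem_bot.1 (hK.disjoint.le_bot ⟨Subgroup.mem_zpowers _, negOne_mem_of_index_two h2⟩))

theorem short_cases {y : GolayPt → ℤ} (hy : y ∈ leechLattice) (h : sqNorm y ≤ 64) :
    y = 0 ∨ sqNorm y = 32 ∨ sqNorm y = 48 ∨ sqNorm y = 64 := by
  by_cases h0 : y = 0
  · exact Or.inl h0
  have := le_sqNorm hy h0
  have := sixteen_dvd_sqNorm hy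
  omega

theorem mod_two_irreducible (M : AddSubgroup (GolayPt → ℤ)) (h2 : ∀ v ∈ leechLattice, (2 : ℤ) • v ∈ M)
    (hle : M ≤ leechLattice)
    (hinv : ∀ g : Co0, ∀ v : leechLattice, (v : GolayPt → ℤ) ∈ M → ((g • v : leechLattice) : GolayPt → ℤ) ∈ M) :
    (∀ x ∈ M, ∃ w ∈ leechLattice, x = (2 : ℤ) • w) ∨ M = leechLattice := by
  rw [or_iff_not_imp_left]
  intro h
  push Not at h
  obtain ⟨x, hx, h⟩ := h
  obtain ⟨y, hy, hn, z, hz, e⟩ := exists_short (hle hx)
  have hyM : y ∈ M := by
    have := M.sub_mem hx (h2 z hz)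
    rwa [two_zsmul, ← two_nsmul, ← e, sub_sub_cancel] at this
  have key : ∀ a : leechLattice, sqNorm (a : GolayPt → ℤ) = 32 → (a : GolayPt → ℤ) ∈ M → M = leechLattice :=
    fun a ha haM => le_antisymm hle (by
      rw [← closure_min, AddSubgroup.closure_le]
      intro w hw
      obtain ⟨g, hg⟩ := trans32 ha (w := ⟨w, hw.1⟩) hw.2
      have := hinv g a haM
      rwa [hg] at this)
  rcases short_cases hy hn with h0 | h0 | h0 | h0
  · rw [h0, sub_zero] at e
    exact absurd (e.trans (by rw [two_zsmul, two_nsmul])) (h z hz)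
  · exact key ⟨y, hy⟩ h0 hyM
  · obtain ⟨g, hg⟩ := trans48 (v := ⟨y, hy⟩) h0 sqNorm_V
    obtain ⟨k, hk⟩ := trans48 (v := ⟨y, hy⟩) (w := lV') h0 (by decide +kernel)
    exact key (leechV + lV') (by decide +kernel) (M.add_mem (hg ▸ hinv g _ hyM) (hk ▸ hinv k _ hyM))
  · obtain ⟨g, hg⟩ := trans64 (v := ⟨y, hy⟩) (w := vB0) h0 (by decide +kernel)
    obtain ⟨k, hk⟩ := trans64 (v := ⟨y, hy⟩)
      (w := lv (lf [4,4,0,4,0,0,0,0,0,0,0,0,0,0,0,0,0,0,0,0,0,0,0,-4]) (by decide +kernel)) h0 (by decide +kernel)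
    exact key (vB0 - _) (by decide +kernel) (M.sub_mem (hg ▸ hinv g _ hyM) (hk ▸ hinv k _ hyM))

theorem sqNorm_congr_mod {x y z : GolayPt → ℤ} (hy : y ∈ leechLattice) (hz : z ∈ leechLattice)
    (h : x - y = 2 • z) : (32 : ℤ) ∣ sqNorm x - sqNorm y := by
  rw [eq_add_of_sub_eq h, sqNorm_add, sqNorm_two_nsmul, dot_comm, dot_two_nsmul_right]
  have := sixteen_dvd_sqNorm hz
  have := eight_dvd_dot hy hz
  omega

theorem quad_unique (Q : leechLattice → ZMod 2) (hcoset : ∀ v w : leechLattice, Q (v + (w + w)) = Q v)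
    (hquad : ∀ u v w : leechLattice, Q (u + v + w) + Q u + Q v + Q w = Q (u + v) + Q (u + w) + Q (v + w))
    (hinv : ∀ (g : Co0) (v : leechLattice), Q (g • v) = Q v) (hne : ∃ v : leechLattice, Q v ≠ 0)
    (v : leechLattice) : Q v = ((sqNorm (v : GolayPt → ℤ) / 16 : ℤ) : ZMod 2) := by
  have h0 : Q 0 = 0 := by
    have := hquad 0 0 0
    simp only [add_zero] at this
    exact add_eq_left.1 this
  have h32 : ∀ x : leechLattice, sqNorm (x : GolayPt → ℤ) = 32 → Q x = Q leechU := fun x hx => by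
    obtain ⟨g, hg⟩ := exists_U hx; rw [← hg, hinv]
  have h48 : ∀ x : leechLattice, sqNorm (x : GolayPt → ℤ) = 48 → Q x = Q leechV := fun x hx => by
    obtain ⟨g, hg⟩ := exists_V hx; rw [← hg, hinv]
  have h64 : ∀ x : leechLattice, sqNorm (x : GolayPt → ℤ) = 64 → Q x = Q (e8 none) := fun x hx => by
    obtain ⟨g, hg⟩ := exists_e8 x hx none; rw [← hg, hinv]
  have red : ∀ x : leechLattice, ∃ y : leechLattice, Q x = Q y ∧ sqNorm (y : GolayPt → ℤ) ≤ 64 ∧
      (32 : ℤ) ∣ sqNorm (x : GolayPt → ℤ) - sqNorm (y : GolayPt → ℤ) := fun x => by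
    obtain ⟨y, hy, z, e⟩ := leech_classes.1 x
    refine ⟨y, by rw [← hcoset y z, ← two_nsmul, ← e, add_sub_cancel], hy,
      sqNorm_congr_mod y.2 z.2 (congrArg Subtype.val e)⟩
  have hodd : ∀ x : leechLattice, sqNorm (x : GolayPt → ℤ) % 32 = 16 → Q x = Q leechV := fun x hx => by
    obtain ⟨y, h1, h2, h3⟩ := red x
    rw [h1]
    rcases short_cases y.2 h2 with h | h | h | h
    · rw [h, sqNorm_zero] at h3; omega
    · omega
    · exact h48 y h
    · omega
  have hc : Q (e8 none) = 0 := by
    have := hquad leechU' (lv (lf [4,-4,0,0,0,0,0,0,0,0,0,0,0,0,0,0,0,0,0,0,0,0,0,0]) (by decide +kernel))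
      (lv (lf [0,4,-4,0,0,0,0,0,0,0,0,0,0,0,0,0,0,0,0,0,0,0,0,0]) (by decide +kernel))
    rw [h32 _ (by decide +kernel), h32 leechU' sqNorm_U', h32 (lv _ _) (by decide +kernel),
      h32 (lv _ _) (by decide +kernel), h32 (leechU' + lv _ _) (by decide +kernel),
      h64 (leechU' + lv _ _) (by decide +kernel), h32 (lv _ _ + lv _ _) (by decide +kernel)] at this
    revert this
    generalize Q leechU = a; generalize Q (e8 none) = b
    revert a b; decide
  have ha : Q leechU = 0 := by
    have := hquad leechV leechU' lX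
    rw [hodd _ (by decide +kernel), h32 leechU' sqNorm_U', h32 lX (by decide +kernel),
      hodd (leechV + leechU') (by decide +kernel), hodd (leechV + lX) (by decide +kernel),
      h32 (leechU' + lX) (by decide +kernel)] at this
    revert this
    generalize Q leechU = a; generalize Q leechV = b
    revert a b; decide
  have heven : ∀ x : leechLattice, sqNorm (x : GolayPt → ℤ) % 32 = 0 → Q x = 0 := fun x hx => by
    obtain ⟨y, h1, h2, h3⟩ := red x
    rw [h1]
    rcases short_cases y.2 h2 with h | h | h | h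
    · rw [show y = 0 from Subtype.ext h, h0]
    · rw [h32 y h, ha]
    · omega
    · rw [h64 y h, hc]
  have hb : Q leechV = 1 := by
    obtain ⟨x, hx⟩ := hne
    have := sixteen_dvd_sqNorm x.2
    rcases (by omega : sqNorm (x : GolayPt → ℤ) % 32 = 0 ∨ sqNorm (x : GolayPt → ℤ) % 32 = 16) with h | h
    · exact absurd (heven x h) hx
    · rw [← hodd x h]; exact (zmod2_cases _).resolve_left hx
  have := sixteen_dvd_sqNorm v.2
  rcases (by omega : sqNorm (v : GolayPt → ℤ) % 32 = 0 ∨ sqNorm (v : GolayPt → ℤ) % 32 = 16) with h | h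
  · rw [heven v h, eq_comm, cast_eq_zero_iff]; omega
  · rw [hodd v h, hb, eq_comm]
    exact (zmod2_cases _).resolve_left ((cast_ne_zero_iff _).2 (by omega))

/-! ### A totally singular subspace of dimension 12 -/

/-- Integer vectors whose coordinates all have the same parity. -/
def latA' : AddSubgroup (GolayPt → ℤ) := (AddSubgroup.zmultiples (1 : GolayPt → ZMod 2)).comap redHom

theorem mem_latA' (u : GolayPt → ℤ) : u ∈ latA' ↔ (∀ i, u i % 2 = 0) ∨ ∀ i, u i % 2 = 1 := by
  rw [latA', AddSubgroup.mem_comap, AddSubgroup.mem_zmultiples_iff]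
  constructor
  · rintro ⟨k, hk⟩
    have h : ∀ i, ((u i : ℤ) : ZMod 2) = (k : ZMod 2) := fun i => by
      have := congrFun hk i
      simpa [redHom, red] using this.symm
    rcases zmod2_cases (k : ZMod 2) with e | e
    · exact Or.inl fun i => (cast_eq_zero_iff _).1 ((h i).trans e)
    · exact Or.inr fun i => (cast_ne_zero_iff _).1 (by rw [h i, e]; decide)
  · rintro (h | h)
    · exact ⟨0, funext fun i => by simpa [redHom, red] using ((cast_eq_zero_iff _).2 (h i)).symm⟩
    · exact ⟨1, funext fun i => by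
        simpa [redHom, red] using ((zmod2_cases _).resolve_left ((cast_ne_zero_iff _).2 (h i))).symm⟩

theorem latA'_index : latA'.index = 2 ^ 23 := by
  rw [latA', AddSubgroup.index_comap_of_surjective _ redHom_surjective]
  have h := AddSubgroup.card_mul_index (AddSubgroup.zmultiples (1 : GolayPt → ZMod 2))
  have h1 : Nat.card (AddSubgroup.zmultiples (1 : GolayPt → ZMod 2)) = 2 := by
    rw [Nat.card_zmultiples]
    exact addOrderOf_eq_prime (by funext i; rfl) one_ne_zero
  have h2 : Nat.card (GolayPt → ZMod 2) = 2 ^ 24 := by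
    rw [Nat.card_fun, Nat.card_zmod, Nat.card_eq_fintype_card, Leech.card_golayPt]
  rw [h1, h2] at h
  omega

theorem red_mem_of_latA' {u : GolayPt → ℤ} (h : u ∈ latA') : red u ∈ golayCode := by
  obtain ⟨k, hk⟩ := AddSubgroup.mem_zmultiples_iff.1 h
  rw [show red u = k • 1 from hk.symm]
  exact golayCode.toAddSubgroup.zsmul_mem one_mem_golay k

theorem latB'_index : (latB ⊓ latA').index = 2 ^ 24 := by
  have : (latB ⊓ latA').relIndex latA' = 2 := by
    rw [AddSubgroup.inf_relIndex_right, AddSubgroup.relIndex_eq_two_iff]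
    refine ⟨Pi.single none 2, (mem_latA' _).2 (Or.inl fun i => by
      rw [Pi.single_apply]; split_ifs <;> rfl), fun b hb => ?_⟩
    have hb' := red_mem_of_latA' hb
    have h2 := sum_Cset_even Cset_univ hb'
    rw [mem_latB, mem_latB, red_add, red_single_two, add_zero]
    simp only [hb', true_and, Pi.add_apply, Finset.sum_add_distrib, Finset.sum_pi_single', mem_univ,
      if_true]
    unfold Xor
    omega
  rw [← AddSubgroup.relIndex_mul_index (K := latA') inf_le_right, this, latA'_index]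
  norm_num

theorem exists_singular : ∃ A : AddSubgroup (GolayPt → ℤ), A ≤ leechLattice ∧
    (∀ v ∈ leechLattice, (2 : ℤ) • v ∈ A) ∧ (A.addSubgroupOf leechLattice).index = 2 ^ 12 ∧
    ∀ v ∈ A, (32 : ℤ) ∣ sqNorm v := by
  have hle : (latB ⊓ latA').map dbl ≤ leechLattice := by
    rintro _ ⟨u, hu, rfl⟩; exact hu.1
  refine ⟨(latB ⊓ latA').map dbl, hle, fun v hv => ⟨v, ⟨leechLattice.nsmul_mem hv 2,
    (mem_latA' v).2 (parity_cases hv)⟩, by rw [two_zsmul, ← two_nsmul]; rfl⟩, ?_, ?_⟩
  · have h := AddSubgroup.relIndex_mul_index hle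
    rw [AddSubgroup.index_map_of_injective _ dbl_injective, dbl_range_index, leech_index, latB'_index] at h
    exact Nat.eq_of_mul_eq_mul_right (show 0 < 2 ^ 36 by positivity) (h.trans (by norm_num))
  · rintro _ ⟨u, ⟨h1, h2⟩, rfl⟩
    rcases (mem_latA' u).1 h2 with h | h
    · refine thirtytwo_dvd_of_cres_empty h1 (fun i => by rw [dbl_apply]; simp) ?_
      rw [card_eq_zero, eq_empty_iff_forall_notMem]
      intro i hi
      rw [mem_cres, dbl_apply] at hi
      have := h i
      beta_reduce at hi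
      omega
    · have h3 : (8 : ℤ) ∣ ∑ i, (u i ^ 2 - 1) := Finset.dvd_sum fun i _ =>
        Int.eight_dvd_sq_sub_one_of_odd (Int.odd_iff.2 (h i))
      rw [Finset.sum_sub_distrib, Finset.sum_const, card_univ, Leech.card_golayPt] at h3
      change _ ∣ sqNorm (2 • u)
      rw [sqNorm_two_nsmul, sqNorm]
      simp only [nsmul_eq_mul] at h3
      omega

/-! ### The groups of the definitions as stabilisers -/

open MulAction

theorem Co2_subgroupOf : Co2.subgroupOf Co0 = stabilizer Co0 leechU :=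
  Subgroup.ext fun g => ⟨fun h => h.2, fun h => ⟨g.2, h⟩⟩
theorem Co3_subgroupOf : Co3.subgroupOf Co0 = stabilizer Co0 leechV :=
  Subgroup.ext fun g => ⟨fun h => h.2, fun h => ⟨g.2, h⟩⟩
theorem McL_subgroupOf : McL.subgroupOf Co0 = stabilizer Co0 leechV ⊓ stabilizer Co0 leechU :=
  Subgroup.ext fun g => ⟨fun h => ⟨h.1.2, h.2⟩, fun h => ⟨⟨g.2, h.1⟩, h.2⟩⟩
theorem HS_subgroupOf : HS.subgroupOf Co0 = stabilizer Co0 leechV ⊓ stabilizer Co0 leechU' :=
  Subgroup.ext fun g => ⟨fun h => ⟨h.1.2, h.2⟩, fun h => ⟨⟨g.2, h.1⟩, h.2⟩⟩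

/-- `Co2` as a stabiliser in `Co0`. -/
noncomputable def co2Equiv : stabilizer Co0 leechU ≃* Co2 :=
  (MulEquiv.subgroupCongr Co2_subgroupOf.symm).trans (Subgroup.subgroupOfEquivOfLe inf_le_left)
/-- `Co3` as a stabiliser in `Co0`. -/
noncomputable def co3Equiv : stabilizer Co0 leechV ≃* Co3 :=
  (MulEquiv.subgroupCongr Co3_subgroupOf.symm).trans (Subgroup.subgroupOfEquivOfLe inf_le_left)
/-- `McL` as a stabiliser in `Co0`. -/
noncomputable def mclEquiv : ↥(stabilizer Co0 leechV ⊓ stabilizer Co0 leechU) ≃* McL :=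
  (MulEquiv.subgroupCongr McL_subgroupOf.symm).trans (Subgroup.subgroupOfEquivOfLe (inf_le_left.trans inf_le_left))
/-- `HS` as a stabiliser in `Co0`. -/
noncomputable def hsEquiv : ↥(stabilizer Co0 leechV ⊓ stabilizer Co0 leechU') ≃* HS :=
  (MulEquiv.subgroupCongr HS_subgroupOf.symm).trans (Subgroup.subgroupOfEquivOfLe (inf_le_left.trans inf_le_left))

/-! ### The matrix of an automorphism over a ring in which `8` is invertible -/

theorem eight_smul_eq (v : leechLattice) : (8 : ℤ) • v = ∑ j, (v : GolayPt → ℤ) j • e8 j := Subtype.ext (by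
  rw [AddSubmonoidClass.coe_finsetSum]
  funext i
  simp [coe_e8, Pi.single_apply, mul_comm])

theorem eight_mul_smul (g : Co0) (v : leechLattice) (i : GolayPt) :
    8 * ((g • v : leechLattice) : GolayPt → ℤ) i =
      ∑ j, ((g • e8 j : leechLattice) : GolayPt → ℤ) i * (v : GolayPt → ℤ) j := by
  have := congrFun (congrArg Subtype.val (congrArg (g • ·) (eight_smul_eq v))) i
  simp only [co0_smul_zsmul, Finset.smul_sum, AddSubmonoidClass.coe_finsetSum] at this
  simpa [mul_comm] using this

section Mat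
variable {R : Type*} [CommRing R] (c : R) (hc : 8 * c = 1)

/-- The matrix of `g`, with `c` the inverse of `8`. -/
def matR (g : Co0) : Matrix GolayPt GolayPt R := fun i j => c * (((g • e8 j : leechLattice) : GolayPt → ℤ) i : R)

include hc in
theorem matR_mulVec (g : Co0) (v : leechLattice) :
    (matR c g).mulVec (fun i => ((v : GolayPt → ℤ) i : R)) =
      fun i => (((g • v : leechLattice) : GolayPt → ℤ) i : R) := by
  funext i
  have := congrArg (fun z : ℤ => c * (z : R)) (eight_mul_smul g v i)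
  simp only [Int.cast_mul, Int.cast_sum, Int.cast_ofNat, Finset.mul_sum] at this
  rw [← mul_assoc, mul_comm c, hc, one_mul] at this
  rw [this, Matrix.mulVec, dotProduct]
  exact Finset.sum_congr rfl fun j _ => mul_assoc c _ _

/-- The 24-dimensional representation of `Co0`. -/
def repR : Co0 →* Matrix GolayPt GolayPt R where
  toFun := matR c
  map_one' := by
    ext i j
    rw [matR, one_smul, coe_e8, Pi.single_apply, Matrix.one_apply]
    split_ifs
    · rw [mul_comm]; exact_mod_cast hc
    · simp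
  map_mul' g h := by
    ext i j
    rw [matR, mul_smul, ← congrFun (matR_mulVec c hc g (h • e8 j)) i, Matrix.mul_apply, Matrix.mulVec, dotProduct,
      Finset.mul_sum]
    exact Finset.sum_congr rfl fun k _ => mul_left_comm _ _ _

include hc in
theorem dot_matR_mulVec (g : Co0) (v : leechLattice) (x : GolayPt → R) :
    (fun i => (((g • v : leechLattice) : GolayPt → ℤ) i : R)) ⬝ᵥ (matR c g).mulVec x =
      (fun i => ((v : GolayPt → ℤ) i : R)) ⬝ᵥ x := by
  rw [Matrix.dotProduct_mulVec]
  congr 1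
  funext j
  have := congrArg (fun z : ℤ => c * (z : R)) (dot_smul g v (e8 j))
  rw [dot_e8, dotInt] at this
  simp only [Int.cast_mul, Int.cast_sum, Int.cast_ofNat, Finset.mul_sum] at this
  rw [mul_left_comm, mul_comm c, hc, mul_one] at this
  rw [← this, Matrix.vecMul, dotProduct]
  exact Finset.sum_congr rfl fun k _ => mul_left_comm _ c _

end Mat

local instance factPrime13 : Fact (Nat.Prime 13) := ⟨by norm_num⟩

theorem exists_rep23 : ∃ f : stabilizer Co0 leechU →* GL (Fin 23) (ZMod 13), Function.Injective f := by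
  have hc : 8 * (5 : ZMod 13) = 1 := by decide
  let u : GolayPt → ZMod 13 := fun i => ((leechU : GolayPt → ℤ) i : ZMod 13)
  let φ : (GolayPt → ZMod 13) →ₗ[ZMod 13] ZMod 13 := dotProductBilin (ZMod 13) (ZMod 13) u
  have hφ : ∀ x, φ x = u ⬝ᵥ x := fun _ => rfl
  have hu : φ u = 6 := by rw [hφ]; decide +kernel
  have hinv : ∀ g : stabilizer Co0 leechU, ∀ x, φ ((matR 5 (g : Co0)).mulVec x) = φ x := fun g x => by
    have := dot_matR_mulVec 5 hc (g : Co0) leechU x
    rwa [mem_stabilizer_iff.1 g.2] at this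
  have hr : Module.finrank (ZMod 13) (LinearMap.ker φ) = 23 := by
    have h1 := φ.finrank_range_add_finrank_ker
    have h2 : LinearMap.range φ = ⊤ := (eq_bot_or_eq_top _).resolve_left fun e => by
      have := LinearMap.mem_range_self φ u
      rw [e, hu, Submodule.mem_bot] at this
      exact absurd this (by decide)
    rw [h2, finrank_top, Module.finrank_self, Module.finrank_fintype_fun_eq_card, Leech.card_golayPt] at h1
    omega
  let ρ : stabilizer Co0 leechU →* Module.End (ZMod 13) (LinearMap.ker φ) :=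
    { toFun := fun g => (Matrix.toLin' (repR 5 hc (g : Co0))).restrict fun x hx => (hinv g x).trans hx
      map_one' := by ext x : 2; simp
      map_mul' := fun g h => by ext x : 2; simp [← Matrix.mulVec_mulVec]; rfl }
  let b := Module.finBasisOfFinrankEq (ZMod 13) (LinearMap.ker φ) hr
  refine ⟨(((LinearMap.toMatrixAlgEquiv b).toMulEquiv.toMonoidHom).comp ρ).toHomUnits, ?_⟩
  rw [injective_iff_map_eq_one]
  intro g hg
  have h1 : ρ g = 1 := (LinearMap.toMatrixAlgEquiv b).injective ((congrArg Units.val hg).trans (map_one _).symm)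
  have h0 : ∀ y : LinearMap.ker φ, (matR (5 : ZMod 13) (g : Co0)).mulVec (y : GolayPt → ZMod 13) = y := fun y => by
    have := congrArg Subtype.val (LinearMap.congr_fun h1 y)
    rw [Module.End.one_apply] at this
    rw [← Matrix.toLin'_apply]
    exact this
  have h2 : (matR 5 (g : Co0)).mulVec u = u := by
    have := matR_mulVec 5 hc (g : Co0) leechU
    rwa [mem_stabilizer_iff.1 g.2] at this
  have h3 : ∀ x : GolayPt → ZMod 13, (matR 5 (g : Co0)).mulVec x = x := fun x => by
    have h4 : x - (φ x * 11) • u ∈ LinearMap.ker φ := by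
      rw [LinearMap.mem_ker, map_sub, map_smul, hu, smul_eq_mul, mul_assoc, show (11 * 6 : ZMod 13) = 1 by decide,
        mul_one, sub_self]
    have h5 : (matR (5 : ZMod 13) (g : Co0)).mulVec (x - (φ x * 11) • u) = x - (φ x * 11) • u :=
      h0 ⟨_, h4⟩
    rw [Matrix.mulVec_sub, Matrix.mulVec_smul, h2] at h5
    exact sub_left_inj.1 h5
  refine Subtype.ext (co0_ext_min fun v hv => Subtype.ext (funext fun i => ?_))
  have h4 := congrFun ((matR_mulVec 5 hc (g : Co0) v).symm.trans (h3 _)) i
  rw [ZMod.intCast_eq_intCast_iff_dvd_sub] at h4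
  have h5 := Finset.mem_Icc.1 (mem_Icc_of_sqNorm (k := 5) (by norm_num) (by rw [hv]; norm_num) i)
  have h6 := Finset.mem_Icc.1 (mem_Icc_of_sqNorm (x := ((g : Co0) • v : leechLattice)) (k := 5) (by norm_num)
    (by rw [sqNorm_smul, hv]; norm_num) i)
  rw [OneMemClass.coe_one, one_smul]
  omega

end CL.Spor.Leech
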