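/-
A stabiliser chain for the standard generators of M24.
Generated by tools/pg.
-/
import Cfsg.Agent.Spor.PGCtx

set_option autoImplicit false
set_option maxRecDepth 200000
set_option Elab.async false
set_option linter.unusedVariables false

namespace CL.M24P.Md
open CL.PG

def P : Par := ⟨24, 24, 5, 3⟩
theorem hP : P.Ok := by decide
noncomputable def a0 : Net := (.cons 12 (nat_lit 0xaef)
 (.cons 6 (nat_lit 0x3f00f)
 (.cons 3 (nat_lit 0x1c1047)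
 (.cons 1 (nat_lit 0x8048)
 (.cons 1 (nat_lit 0x490092)
 (.cons 1 (nat_lit 0x49240)
 (.cons 3 (nat_lit 0x6180)
 (.cons 6 (nat_lit 0x30000)
 (.cons 12 (nat_lit 0x510)
 .nil)))))))))
noncomputable def a1 : Net := (.cons 12 (nat_lit 0x4)
 (.cons 6 (nat_lit 0x1e004)
 (.cons 3 (nat_lit 0x82046)
 (.cons 1 (nat_lit 0x200008)
 (.cons 1 (nat_lit 0x402010)
 (.cons 1 (nat_lit 0x200009)
 (.cons 3 (nat_lit 0x100000)
 (.cons 6 (nat_lit 0xc006)
 (.cons 12 (nat_lit 0x294)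
 .nil)))))))))
noncomputable def a2 : Net := (.cons 12 (nat_lit 0x224)
 (.cons 6 (nat_lit 0x2002)
 (.cons 3 (nat_lit 0x1440c0)
 (.cons 1 (nat_lit 0x201000)
 (.cons 1 (nat_lit 0x482000)
 (.cons 1 (nat_lit 0x1040)
 (.cons 3 (nat_lit 0x100080)
 (.cons 6 (nat_lit 0xa008)
 (.cons 12 (nat_lit 0xce4)
 .nil)))))))))
noncomputable def a3 : Net := (.cons 12 (nat_lit 0xfa)
 (.cons 6 (nat_lit 0x1503c)
 (.cons 3 (nat_lit 0x101080)
 (.cons 1 (nat_lit 0x248200)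
 (.cons 1 (nat_lit 0x492410)
 (.cons 1 (nat_lit 0x240240)
 (.cons 6 (nat_lit 0x18022)
 (.cons 12 (nat_lit 0x140)
 .nil))))))))
noncomputable def a4 : Net := (.cons 12 (nat_lit 0xfb8)
 (.cons 6 (nat_lit 0xe004)
 (.cons 3 (nat_lit 0x104084)
 (.cons 1 (nat_lit 0x208200)
 (.cons 1 (nat_lit 0x410490)
 (.cons 1 (nat_lit 0x48200)
 (.cons 3 (nat_lit 0x100104)
 (.cons 6 (nat_lit 0x30)
 (.cons 12 (nat_lit 0x990)
 .nil)))))))))
noncomputable def a5 : Net := (.cons 12 (nat_lit 0x27a)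
 (.cons 6 (nat_lit 0x15038)
 (.cons 3 (nat_lit 0x104084)
 (.cons 1 (nat_lit 0x48000)
 (.cons 1 (nat_lit 0x90012)
 (.cons 1 (nat_lit 0x240048)
 (.cons 3 (nat_lit 0x180080)
 (.cons 6 (nat_lit 0x2403e)
 (.cons 12 (nat_lit 0x8a2)
 .nil)))))))))
noncomputable def a6 : Net := (.cons 12 (nat_lit 0x3e6)
 (.cons 6 (nat_lit 0x803a)
 (.cons 3 (nat_lit 0x21c4)
 (.cons 1 (nat_lit 0x208200)
 (.cons 1 (nat_lit 0x410482)
 (.cons 1 (nat_lit 0x209008)
 (.cons 3 (nat_lit 0x2006)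
 (.cons 6 (nat_lit 0x10036)
 (.cons 12 (nat_lit 0x9ce)
 .nil)))))))))
noncomputable def a7 : Net := (.cons 12 (nat_lit 0x654)
 (.cons 6 (nat_lit 0x19002)
 (.cons 3 (nat_lit 0x142142)
 (.cons 1 (nat_lit 0x48)
 (.cons 1 (nat_lit 0x90090)
 (.cons 1 (nat_lit 0x1040)
 (.cons 3 (nat_lit 0x106)
 (.cons 6 (nat_lit 0x3202a)
 (.cons 12 (nat_lit 0x5e4)
 .nil)))))))))
noncomputable def a8 : Net := (.cons 12 (nat_lit 0xdec)
 (.cons 6 (nat_lit 0x12014)
 (.cons 3 (nat_lit 0xc01c4)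
 (.cons 1 (nat_lit 0x400010)
 (.cons 1 (nat_lit 0x41208)
 (.cons 3 (nat_lit 0x182084)
 (.cons 6 (nat_lit 0x12034)
 (.cons 12 (nat_lit 0xdec)
 .nil))))))))
noncomputable def a9 : Net := (.cons 12 (nat_lit 0xe14)
 (.cons 6 (nat_lit 0x37004)
 (.cons 3 (nat_lit 0x143104)
 (.cons 1 (nat_lit 0x40040)
 (.cons 1 (nat_lit 0x82490)
 (.cons 1 (nat_lit 0x249200)
 (.cons 3 (nat_lit 0x180084)
 (.cons 6 (nat_lit 0x26024)
 (.cons 12 (nat_lit 0x454)
 .nil)))))))))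
noncomputable def a10 : Net := (.cons 12 (nat_lit 0xe8a)
 (.cons 6 (nat_lit 0x1e03e)
 (.cons 3 (nat_lit 0x102144)
 (.cons 1 (nat_lit 0x48008)
 (.cons 1 (nat_lit 0x90092)
 (.cons 1 (nat_lit 0x49048)
 (.cons 3 (nat_lit 0x4102)
 (.cons 6 (nat_lit 0x1e014)
 (.cons 12 (nat_lit 0xe8a)
 .nil)))))))))
noncomputable def a11 : Net := (.cons 12 (nat_lit 0x570)
 (.cons 6 (nat_lit 0x33004)
 (.cons 3 (nat_lit 0x1c3184)
 (.cons 1 (nat_lit 0x41000)
 (.cons 1 (nat_lit 0x92090)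
 (.cons 1 (nat_lit 0x248040)
 (.cons 3 (nat_lit 0x80100)
 (.cons 6 (nat_lit 0x18004)
 (.cons 12 (nat_lit 0x1b0)
 .nil)))))))))
noncomputable def a12 : Net := (.cons 12 (nat_lit 0x324)
 (.cons 6 (nat_lit 0x26000)
 (.cons 3 (nat_lit 0x6144)
 (.cons 1 (nat_lit 0x8240)
 (.cons 1 (nat_lit 0x10480)
 (.cons 1 (nat_lit 0x248240)
 (.cons 3 (nat_lit 0x4000)
 (.cons 6 (nat_lit 0x6000)
 (.cons 12 (nat_lit 0x324)
 .nil)))))))))
noncomputable def a13 : Net := (.cons 12 (nat_lit 0xdec)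
 (.cons 6 (nat_lit 0x12014)
 (.cons 3 (nat_lit 0xc01c4)
 (.cons 1 (nat_lit 0x400010)
 (.cons 1 (nat_lit 0x41208)
 (.cons 3 (nat_lit 0x182084)
 (.cons 6 (nat_lit 0x12034)
 (.cons 12 (nat_lit 0xdec)
 .nil))))))))
noncomputable def ns0 : List Net := [a0, a1]
noncomputable def ws : List (List ℕ) :=
  [W (nat_lit 0x100c0200c0201002),
  W (nat_lit 0x3004040040400403008040080300804),
  W (nat_lit 0x801407),
  W (nat_lit 0x1c050200502006),
  W (nat_lit 0x240c0280a02c0a),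
  W (nat_lit 0x280c0300a0280c),
  W (nat_lit 0x3c0f038100400e03c0e),
  W (nat_lit 0x100380f034100400e),
  W (nat_lit 0x14048140501204c120481404814),
  W (nat_lit 0x50120501204c12048140441404413),
  W (nat_lit 0x501104c1304814),
  W (nat_lit 0x581a06015)]
noncomputable def ns : List Net := [a0, a1, a2, a3, a4, a5, a6, a7, a8, a9, a10, a11, a12, a13]
noncomputable def D : List (ℕ × List ℕ) := app [] (mkDefs ws 2)
noncomputable def chk : List (List ℕ × List ℕ) → Bool := P.relsB ns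
noncomputable def G_v0 : Lev :=
  ⟨0, 24, sg (W (nat_lit 0x100c0100c0100c0100c0100c01)), [[4], [6]], 0, 2⟩
noncomputable def G_v1 : Lev :=
  ⟨1, 23, sg (W (nat_lit 0x501c0501c0501c0501c05)), [[8], [10]], 2, 2⟩
noncomputable def G_v2 : Lev :=
  ⟨2, 22, sg (W (nat_lit 0x2c0902c0902c0902c09)), [[12], [14]], 4, 2⟩
noncomputable def G_v3 : Lev :=
  ⟨3, 21, sg (W (nat_lit 0x3c0f0340f0340f0340f0340d)), [[16], [18]], 6, 2⟩
noncomputable def G_v4 : Lev :=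
  ⟨4, 20, sg (W (nat_lit 0x4c13044130441304413)), [[20], [22], [24]], 8, 3⟩
noncomputable def G_v5 : Lev :=
  ⟨5, 16, sg (W (nat_lit 0x54170541905c15)), [[26]], 11, 1⟩
noncomputable def G_v6 : Lev :=
  ⟨6, 3, sg (W (nat_lit 0x6c1b)), [], 12, 0⟩
noncomputable def G_vs7 : List Lev :=
  []
noncomputable def G_vs6 : List Lev :=
  G_v6 :: G_vs7
noncomputable def G_vs5 : List Lev :=
  G_v5 :: G_vs6
noncomputable def G_vs4 : List Lev :=
  G_v4 :: G_vs5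
noncomputable def G_vs3 : List Lev :=
  G_v3 :: G_vs4
noncomputable def G_vs2 : List Lev :=
  G_v2 :: G_vs3
noncomputable def G_vs1 : List Lev :=
  G_v1 :: G_vs2
noncomputable def G_vs : List Lev :=
  G_v0 :: G_vs1

theorem zc0 : P.chainB ns D G_vs [[0], [2]] = true := by decide +kernel
theorem zk1 : allL (keepB P.n P.N) ns0 = true := by decide +kernel
theorem ze2 : extB ns0 ns 2 ws [] = true := by decide +kernel
theorem zn3 : P.netsB ns (mkDefs ws 2) = true := by decide +kernel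

variable {G X : Type*} [Group G] [MulAction G X] {e : ℕ → X} {gs : List G}

theorem keep0 : allL (keepB P.n P.N) ns0 = true := zk1

theorem len {k} (c : Ctx P e gs ns0 [] k) : gs.length = 2 := c.len ze2

theorem ctx0 {k} (c : Ctx P e gs ns0 [] k) : Ctx P e (ext gs ws) ns D chk0 :=
  c.ext rfl ze2 zn3

theorem ctx {k} (c : Ctx P e gs ns0 [] k) {H : Subgroup G} (hF : Faithful e P.n H) (hH : ∀ g ∈ gs, g ∈ H) :
    Ctx P e (ext gs ws) ns D chk :=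
  (ctx0 c).withB hF (mem_of_mem_ext hH _)

theorem G_c : P.chainB ns D G_vs [[0], [2]] = true :=
  zc0

theorem G_o : prodL G_vs 1 = 244823040 := by decide +kernel

theorem G_lb (c : Ctx P e gs ns D chk) :
    LB (subW gs [[0], [2]]) 244823040 :=
  c.lb G_c G_o


end CL.M24P.Md
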