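/-
Matrix groups over finite fields as models: fields given by tables of codes, matrices of codes, and the action of
invertible matrices on a listed set of vectors, checked on bit planes.
-/
import Cfsg.Agent.Spor.PGSub

set_option autoImplicit false

namespace CL.PG

open Matrix

/-! ### Coded fields -/

/-- Tables for a field with `q` elements coded by the numbers below `q`. -/
structure Tab : Type where
  q : ℕ
  add : ℕ → ℕ → ℕ
  mul : ℕ → ℕ → ℕ

/-- `el` decodes the tables. -/
structure FC (T : Tab) {F : Type*} [Field F] (el : ℕ → F) : Prop where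
  zero : el 0 = 0
  one : el 1 = 1
  two : 1 < T.q
  inj : InjLt el T.q
  surj : ∀ x, ∃ a < T.q, el a = x
  add : ∀ a < T.q, ∀ b < T.q, T.add a b < T.q ∧ el (T.add a b) = el a + el b
  mul : ∀ a < T.q, ∀ b < T.q, T.mul a b < T.q ∧ el (T.mul a b) = el a * el b

/-- The prime fields. -/
def tabP (p : ℕ) : Tab := ⟨p, fun a b => Nat.mod (Nat.add a b) p, fun a b => Nat.mod (Nat.mul a b) p⟩

theorem fc_zmod (p : ℕ) [hp : Fact p.Prime] : FC (tabP p) (fun a : ℕ => (a : ZMod p)) where
  zero := Nat.cast_zero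
  one := Nat.cast_one
  two := hp.out.one_lt
  inj := fun i hi j hj h => by
    have : (i : ZMod p).val = (j : ZMod p).val := congrArg ZMod.val h
    rwa [ZMod.val_cast_of_lt (n := p) hi, ZMod.val_cast_of_lt (n := p) hj] at this
  surj := fun x => ⟨x.val, ZMod.val_lt x, ZMod.natCast_zmod_val x⟩
  add := fun a _ b _ => ⟨Nat.mod_lt _ hp.out.pos, by
    show (((a + b) % p : ℕ) : ZMod p) = _
    rw [ZMod.natCast_mod, Nat.cast_add]⟩
  mul := fun a _ b _ => ⟨Nat.mod_lt _ hp.out.pos, by
    show (((a * b) % p : ℕ) : ZMod p) = _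
    rw [ZMod.natCast_mod, Nat.cast_mul]⟩

/-- Tables packed into numbers, one byte for each entry. -/
def tabT (q A M : ℕ) : Tab :=
  ⟨q, fun a b => Nat.land (Nat.shiftRight A (Nat.mul 8 (Nat.add (Nat.mul a q) b))) 255,
    fun a b => Nat.land (Nat.shiftRight M (Nat.mul 8 (Nat.add (Nat.mul a q) b))) 255⟩

/-- Some number below `r` passes the test. -/
noncomputable def anyN (f : ℕ → Bool) (r : ℕ) : Bool :=
  Nat.rec (motive := fun _ => Bool) false (fun i acc => bor (f i) acc) r

theorem anyN_spec {f : ℕ → Bool} : ∀ {r : ℕ}, anyN f r = true → ∃ i < r, f i = true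
  | 0, h => by cases h
  | r + 1, h => (bor_iff.mp h).elim (fun h => ⟨r, by omega, h⟩) fun h => by
      obtain ⟨i, hi, h⟩ := anyN_spec h; exact ⟨i, by omega, h⟩

/-- The field axioms. -/
noncomputable def Tab.fieldB (T : Tab) : Bool :=
  bnd (Nat.ble 2 T.q) (allN (fun a => bnd (bnd (Nat.beq (T.add 0 a) a) (Nat.beq (T.mul 1 a) a))
    (bnd (bnd (anyN (fun b => Nat.beq (T.add b a) 0) T.q) (bor (Nat.beq a 0) (anyN (fun b => Nat.beq (T.mul a b) 1) T.q)))
      (allN (fun b => bnd (bnd (Nat.ble (Nat.succ (T.add a b)) T.q) (Nat.ble (Nat.succ (T.mul a b)) T.q))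
        (bnd (Nat.beq (T.mul a b) (T.mul b a))
          (allN (fun c => bnd (Nat.beq (T.add (T.add a b) c) (T.add a (T.add b c)))
            (bnd (Nat.beq (T.mul (T.mul a b) c) (T.mul a (T.mul b c)))
              (Nat.beq (T.mul a (T.add b c)) (T.add (T.mul a b) (T.mul a c))))) T.q))) T.q))) T.q)

theorem Tab.exists_fc (T : Tab) (h : T.fieldB = true) (F : Type*) [Field F] [Fintype F] (hF : Fintype.card F = T.q) :
    ∃ el : ℕ → F, FC T el := by
  classical
  obtain ⟨h2, h⟩ := bnd_iff.mp h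
  have h2 : 2 ≤ T.q := Nat.le_of_ble_eq_true h2
  have h1 := fun a : Fin T.q => bnd_iff.mp (allN_spec h a a.2)
  have h3 := fun a b : Fin T.q => bnd_iff.mp (allN_spec (bnd_iff.mp (h1 a).2).2 b b.2)
  have h4 := fun a b c : Fin T.q => bnd_iff.mp (allN_spec (bnd_iff.mp (h3 a b).2).2 c c.2)
  choose ng hng hng' using fun a => anyN_spec (bnd_iff.mp (bnd_iff.mp (h1 a).2).1).1
  have h5 : ∀ a : Fin T.q, ∃ b < T.q, (a.1 ≠ 0 → T.mul a b = 1) ∧ (a.1 = 0 → b = 0) := fun a => by
    by_cases h0 : a.1 = 0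
    · exact ⟨0, by omega, fun h => absurd h0 h, fun _ => rfl⟩
    · rcases bor_iff.mp (bnd_iff.mp (bnd_iff.mp (h1 a).2).1).2 with h6 | h6
      · exact absurd (Nat.eq_of_beq_eq_true h6) h0
      · obtain ⟨b, hb, h6⟩ := anyN_spec h6
        exact ⟨b, hb, fun _ => Nat.eq_of_beq_eq_true h6, fun h => absurd h h0⟩
  choose iv hiv hiv' using h5
  let K := ULift.{0} (Fin T.q)
  let _ : Add K := ⟨fun a b => ⟨⟨T.add a.1 b.1, blt_spec (bnd_iff.mp (h3 a.1 b.1).1).1⟩⟩⟩
  let _ : Mul K := ⟨fun a b => ⟨⟨T.mul a.1 b.1, blt_spec (bnd_iff.mp (h3 a.1 b.1).1).2⟩⟩⟩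
  let _ : Neg K := ⟨fun a => ⟨⟨ng a.1, hng a.1⟩⟩⟩
  let _ : _root_.Inv K := ⟨fun a => ⟨⟨iv a.1, hiv a.1⟩⟩⟩
  let _ : Zero K := ⟨⟨⟨0, by omega⟩⟩⟩
  let _ : One K := ⟨⟨⟨1, by omega⟩⟩⟩
  have ex : ∀ a b : K, a.1.1 = b.1.1 → a = b := fun a b h => ULift.ext _ _ (Fin.ext h)
  let _ : Field K := Field.ofMinimalAxioms K
    (fun a b c => ex _ _ (Nat.eq_of_beq_eq_true (h4 a.1 b.1 c.1).1))
    (fun a => ex _ _ (Nat.eq_of_beq_eq_true (bnd_iff.mp (h1 a.1).1).1))
    (fun a => ex _ _ (Nat.eq_of_beq_eq_true (hng' a.1)))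
    (fun a b c => ex _ _ (Nat.eq_of_beq_eq_true (bnd_iff.mp (h4 a.1 b.1 c.1).2).1))
    (fun a b => ex _ _ (Nat.eq_of_beq_eq_true (bnd_iff.mp (h3 a.1 b.1).2).1))
    (fun a => ex _ _ (Nat.eq_of_beq_eq_true (bnd_iff.mp (h1 a.1).1).2))
    (fun a ha => ex _ _ ((hiv' a.1).1 fun h => ha (ex _ _ h)))
    (ex _ _ ((hiv' _).2 rfl))
    (fun a b c => ex _ _ (Nat.eq_of_beq_eq_true (bnd_iff.mp (h4 a.1 b.1 c.1).2).2))
    ⟨0, 1, fun h => by have : (0 : ℕ) = 1 := congrArg (fun x : K => x.1.1) h; omega⟩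
  let φ : K ≃+* F := FiniteField.ringEquivOfCardEq (by rw [hF]; simp [K])
  have e1 : ∀ a (ha : a < T.q), (if h : a < T.q then φ ⟨⟨a, h⟩⟩ else 0) = φ ⟨⟨a, ha⟩⟩ := fun a ha => dif_pos ha
  refine ⟨fun a => if h : a < T.q then φ ⟨⟨a, h⟩⟩ else 0, ?_, ?_, h2, fun i hi j hj h => ?_, fun x => ?_,
    fun a ha b hb => ⟨blt_spec (bnd_iff.mp (h3 ⟨a, ha⟩ ⟨b, hb⟩).1).1, ?_⟩,
    fun a ha b hb => ⟨blt_spec (bnd_iff.mp (h3 ⟨a, ha⟩ ⟨b, hb⟩).1).2, ?_⟩⟩
  · exact (e1 0 (by omega)).trans φ.map_zero
  · exact (e1 1 (by omega)).trans φ.map_one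
  · simp only [e1 i hi, e1 j hj] at h
    exact congrArg (fun x : K => x.1.1) (φ.injective h)
  · exact ⟨(φ.symm x).1.1, (φ.symm x).1.2, (e1 _ (φ.symm x).1.2).trans (φ.apply_symm_apply x)⟩
  · simp only [e1 a ha, e1 b hb, e1 _ (blt_spec (bnd_iff.mp (h3 ⟨a, ha⟩ ⟨b, hb⟩).1).1)]
    exact φ.map_add ⟨⟨a, ha⟩⟩ ⟨⟨b, hb⟩⟩
  · simp only [e1 a ha, e1 b hb, e1 _ (blt_spec (bnd_iff.mp (h3 ⟨a, ha⟩ ⟨b, hb⟩).1).2)]
    exact φ.map_mul ⟨⟨a, ha⟩⟩ ⟨⟨b, hb⟩⟩

/-- The field with 4 elements; codes are polynomials in base 2, `x ^ 2` has the digits [1, 1]. -/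
def t4 : Tab := tabT 4 (nat_lit 0x10203010003020203000103020100)
  (nat_lit 0x2010300010302000302010000000000)

theorem t4_field : t4.fieldB = true := by decide +kernel

/-- The field with 8 elements; codes are polynomials in base 2, `x ^ 3` has the digits [1, 1, 0]. -/
def t8 : Tab := tabT 8 (nat_lit 0x10203040506070100030205040706020300010607040503020100070605040405060700010203050407060100030206070405020300010706050403020100)
  (nat_lit 0x3040601020507000402030501070600060307020401050001050206070304000201040705060300050701030604020007060504030201000000000000000000)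

theorem t8_field : t8.fieldB = true := by decide +kernel

/-- The field with 9 elements; codes are polynomials in base 3, `x ^ 2` has the digits [2, 0]. -/
def t9 : Tab := tabT 9 (nat_lit 0x40305010002070608030504000201060807050403020100080706010002070608040305000201060807030504020100080706050403070608040305010002060807030504000201080706050403020100)
  (nat_lit 0x60105020307040800010308060204050700050802040701030600020604030108070500030207010605080400070401080502060300040503070806010200080706050403020100000000000000000000)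

theorem t9_field : t9.fieldB = true := by decide +kernel

/-- The field with 16 elements; codes are polynomials in base 2, `x ^ 4` has the digits [1, 1, 0, 0]. -/
def t16 : Tab := tabT 16 (nat_lit 0x102030405060708090a0b0c0d0e0f010003020504070609080b0a0d0c0f0e02030001060704050a0b08090e0f0c0d03020100070605040b0a09080f0e0d0c04050607000102030c0d0e0f08090a0b05040706010003020d0c0f0e09080b0a06070405020300010e0f0c0d0a0b080907060504030201000f0e0d0c0b0a090808090a0b0c0d0e0f000102030405060709080b0a0d0c0f0e01000302050407060a0b08090e0f0c0d02030001060704050b0a09080f0e0d0c03020100070605040c0d0e0f08090a0b04050607000102030d0c0f0e09080b0a05040706010003020e0f0c0d0a0b080906070405020300010f0e0d0c0b0a09080706050403020100)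
  (nat_lit 0xa050708030c0e010b040609020d0f00050b0a04080607090c02030d010f0e00070a0e03060b0f0205080c0104090d000804030f0d01060a020e0905070b0c000308060d09020c07040f010a0e050b000c060b010208050f0309040e0d070a000e070f060c050d040a030b02080109000109020a070f040c0d050e060b0308000b0c050204030a0d0601080f090e07000402080e0f09030501070d0b0a0c060006030c0901040b0e080d02070f0a0500090d01050a0e02060f0b07030c080400020104070e0d080b090a0f0c050603000d0f090b050701030e0c0a08060402000f0e0d0c0b0a0908070605040302010000000000000000000000000000000000)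

theorem t16_field : t16.fieldB = true := by decide +kernel

/-- The field with 25 elements; codes are polynomials in base 5, `x ^ 2` has the digits [2, 0]. -/
def t25 : Tab := tabT 25 (nat_lit 0x1211100f130d0c0b0a0e08070605090302010004171615141811100f13120c0b0a0e0d070605090802010004031615141817100f1312110b0a0e0d0c0605090807010004030215141817160f131211100a0e0d0c0b050908070600040302011418171615131211100f0e0d0c0b0a0908070605040302010018171615140d0c0b0a0e0807060509030201000417161514181211100f130c0b0a0e0d07060509080201000403161514181711100f13120b0a0e0d0c060509080701000403021514181716100f1312110a0e0d0c0b0509080706000403020114181716150f131211100e0d0c0b0a090807060504030201001817161514131211100f0807060509030201000417161514181211100f130d0c0b0a0e07060509080201000403161514181711100f13120c0b0a0e0d060509080701000403021514181716100f1312110b0a0e0d0c0509080706000403020114181716150f131211100a0e0d0c0b090807060504030201001817161514131211100f0e0d0c0b0a030201000417161514181211100f130d0c0b0a0e08070605090201000403161514181711100f13120c0b0a0e0d070605090801000403021514181716100f1312110b0a0e0d0c0605090807000403020114181716150f131211100a0e0d0c0b050908070604030201001817161514131211100f0e0d0c0b0a090807060517161514181211100f130d0c0b0a0e08070605090302010004161514181711100f13120c0b0a0e0d070605090802010004031514181716100f1312110b0a0e0d0c0605090807010004030214181716150f131211100a0e0d0c0b050908070600040302011817161514131211100f0e0d0c0b0a09080706050403020100)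
  (nat_lit 0xd131401070f1502080e1603090a1004050b1117060c121800131503050c01080a11180d0f1604061402090b12070e1017001403060e110c0f17010904070a1215101802050d080b13160001050e12161702060a130f1803070b0c10140408090d111500070c111602090e131804060b101501080d121703050a0f14000f010c1709180510020d030e1406110712040a150b1608130015080f020e0511040b1713010d1407030a1609100c18061200020a17061310040c14080512010e1618070f030b0d150911000811010a18020b140912150513030c0f040d16060e170710000e180913040d170812030c160711020b150610010a14050f00160d040f06031305150c09140b02120a011108181007170e00030f07180b0e01120516140c04100806170a02131109150d0009160a0310140d0113070b04110517020f08150e1206180c000a0412071506140e0311021005180d170c010f091308160b001006150b011107160c021208170d031309180e040f05140a000414100c080703180f0b0a06021713120e05011615110d0900050218100d120a07041501170f0c090e0603141116130b08000b0902141204160f0d06110a080118050315130c17100e0700110b0504170a090316100802150f0e0114130d0718120c060017120d080315100b060118130e090416110c0702140f0a050006070809050b0c0d0e0a101112130f151617181401020304000c0e0b0d0a16181517140709060805111310120f0204010300121013110f080609070517151816140d0b0e0c0a03010402001817161514131211100f0e0d0c0b0a0908070605040302010000000000000000000000000000000000000000000000000000)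

theorem t25_field : t25.fieldB = true := by decide +kernel

/-- Powers of codes. -/
noncomputable def Tab.pow (T : Tab) (a m : ℕ) : ℕ := Nat.rec (motive := fun _ => ℕ) 1 (fun _ acc => T.mul acc a) m

/-- The scalar product of codes. -/
noncomputable def Tab.dot (T : Tab) (d : ℕ) (u v : ℕ → ℕ) : ℕ :=
  Nat.rec (motive := fun _ => ℕ) 0 (fun k acc => T.add acc (T.mul (u k) (v k))) d

/-- An indexing of the coordinates by the numbers below `d`. -/
structure Ix {ι : Type} (σ : ι → ℕ) (d : ℕ) : Prop where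
  lt : ∀ i, σ i < d
  inj : Function.Injective σ
  surj : ∀ k < d, ∃ i, σ i = k

theorem ix_fin (d : ℕ) : Ix (Fin.val : Fin d → ℕ) d := ⟨Fin.is_lt, Fin.val_injective, fun k hk => ⟨⟨k, hk⟩, rfl⟩⟩

theorem ix_unit : Ix (fun _ : Unit => 0) 1 :=
  ⟨fun _ => Nat.one_pos, fun _ _ _ => rfl, fun k hk => ⟨(), by omega⟩⟩

/-- The indexing of a sum. -/
def ixS {ι κ : Type} (σ : ι → ℕ) (d : ℕ) (τ : κ → ℕ) : ι ⊕ κ → ℕ := Sum.elim σ fun j => d + τ j

theorem Ix.sum {ι κ : Type} {σ : ι → ℕ} {τ : κ → ℕ} {d d' : ℕ} (h : Ix σ d) (h' : Ix τ d') :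
    Ix (ixS σ d τ) (d + d') where
  lt := by
    rintro (i | j)
    · exact lt_of_lt_of_le (h.lt i) (Nat.le_add_right _ _)
    · exact Nat.add_lt_add_left (h'.lt j) _
  inj := by
    rintro (i | i) (j | j) e
    · exact congrArg _ (h.inj e)
    · have := h.lt i; have e : σ i = d + τ j := e; omega
    · have := h.lt j; have e : d + τ i = σ j := e; omega
    · exact congrArg _ (h'.inj (Nat.add_left_cancel e))
  surj := fun k hk => by
    by_cases h1 : k < d
    · obtain ⟨i, hi⟩ := h.surj k h1; exact ⟨.inl i, hi⟩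
    · obtain ⟨j, hj⟩ := h'.surj (k - d) (by omega); exact ⟨.inr j, by show d + τ j = k; omega⟩

/-- A matrix of codes given by its rows. -/
noncomputable def look (A : List (List ℕ)) (i j : ℕ) : ℕ := nth 0 (nth [] A i) j

/-- All entries are codes. -/
noncomputable def bddB (q d : ℕ) (A : ℕ → ℕ → ℕ) : Bool :=
  allN (fun i => allN (fun j => Nat.ble (Nat.succ (A i j)) q) d) d

/-- Equality of matrices of codes. -/
noncomputable def meqB (d : ℕ) (A B : ℕ → ℕ → ℕ) : Bool := allN (fun i => allN (fun j => Nat.beq (A i j) (B i j)) d) d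

/-- The identity matrix. -/
noncomputable def idM (i j : ℕ) : ℕ := Bool.rec 0 1 (Nat.beq i j)

/-- The transpose. -/
def trM (A : ℕ → ℕ → ℕ) (i j : ℕ) : ℕ := A j i

/-- The product. -/
noncomputable def Tab.mm (T : Tab) (d : ℕ) (A B : ℕ → ℕ → ℕ) (i j : ℕ) : ℕ := T.dot d (A i) fun k => B k j

/-- The entries are codes. -/
def Bdd (q d : ℕ) (A : ℕ → ℕ → ℕ) : Prop := ∀ i < d, ∀ j < d, A i j < q

theorem bddB_spec {q d : ℕ} {A : ℕ → ℕ → ℕ} (h : bddB q d A = true) : Bdd q d A :=
  fun i hi j hj => blt_spec (allN_spec (allN_spec h i hi) j hj)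

theorem Bdd.tr {q d : ℕ} {A : ℕ → ℕ → ℕ} (h : Bdd q d A) : Bdd q d (trM A) := fun i hi j hj => h j hj i hi

section
variable {T : Tab} {F : Type*} [Field F] {el : ℕ → F} {ι : Type} [Fintype ι] [DecidableEq ι] {σ : ι → ℕ} {d : ℕ}

omit [DecidableEq ι] in
theorem Ix.sum_eq (h : Ix σ d) (f : ℕ → F) : ∑ i, f (σ i) = ∑ k ∈ Finset.range d, f k :=
  Finset.sum_bij (fun i _ => σ i) (fun i _ => Finset.mem_range.mpr (h.lt i)) (fun _ _ _ _ e => h.inj e)
    (fun k hk => (h.surj k (Finset.mem_range.mp hk)).imp' (fun i => i) fun _ e => ⟨Finset.mem_univ _, e⟩)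
    fun _ _ => rfl

theorem FC.pow (h : FC T el) {a : ℕ} (ha : a < T.q) : ∀ m, T.pow a m < T.q ∧ el (T.pow a m) = el a ^ m
  | 0 => ⟨h.two, by rw [pow_zero]; exact h.one⟩
  | m + 1 => ⟨(h.mul _ (h.pow ha m).1 a ha).1, by
      rw [pow_succ, ← (h.pow ha m).2]; exact (h.mul _ (h.pow ha m).1 a ha).2⟩

theorem FC.dot (h : FC T el) {u v : ℕ → ℕ} : ∀ d, (∀ k < d, u k < T.q) → (∀ k < d, v k < T.q) →
    T.dot d u v < T.q ∧ el (T.dot d u v) = ∑ k ∈ Finset.range d, el (u k) * el (v k)
  | 0, _, _ => ⟨lt_trans Nat.one_pos h.two, h.zero⟩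
  | d + 1, hu, hv => by
    obtain ⟨h1, h2⟩ := h.dot d (fun k hk => hu k (by omega)) fun k hk => hv k (by omega)
    obtain ⟨h3, h4⟩ := h.mul _ (hu d (by omega)) _ (hv d (by omega))
    exact ⟨(h.add _ h1 _ h3).1, by rw [Finset.sum_range_succ, ← h2, ← h4]; exact (h.add _ h1 _ h3).2⟩

theorem FC.bdd_mm (h : FC T el) {A B : ℕ → ℕ → ℕ} (hA : Bdd T.q d A) (hB : Bdd T.q d B) : Bdd T.q d (T.mm d A B) :=
  fun i hi j hj => (h.dot d (hA i hi) fun k hk => hB k hk j hj).1

/-- The matrix with the given codes. -/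
def matF (el : ℕ → F) (σ : ι → ℕ) (A : ℕ → ℕ → ℕ) : Matrix ι ι F := Matrix.of fun i j => el (A (σ i) (σ j))

omit [DecidableEq ι] in
theorem matF_mm (h : FC T el) (hσ : Ix σ d) {A B : ℕ → ℕ → ℕ} (hA : Bdd T.q d A) (hB : Bdd T.q d B) :
    matF el σ (T.mm d A B) = matF el σ A * matF el σ B := by
  ext i j
  rw [Matrix.mul_apply]
  exact ((h.dot d (hA _ (hσ.lt i)) fun k hk => hB k hk _ (hσ.lt j)).2).trans
    (hσ.sum_eq fun k => el (A (σ i) k) * el (B k (σ j))).symm

omit [Field F] [Fintype ι] [DecidableEq ι] in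
theorem matF_tr (A : ℕ → ℕ → ℕ) : matF el σ (trM A) = (matF el σ A)ᵀ := rfl

omit [Fintype ι] in
theorem matF_id (h : FC T el) (hσ : Ix σ d) : matF el σ idM = 1 := by
  ext i j
  show el (idM (σ i) (σ j)) = _
  unfold idM
  cases hb : Nat.beq (σ i) (σ j)
  · rw [Matrix.one_apply_ne fun e => Nat.ne_of_beq_eq_false hb (congrArg σ e)]; exact h.zero
  · rw [hσ.inj (Nat.eq_of_beq_eq_true hb), Matrix.one_apply_eq]; exact h.one

omit [Field F] [Fintype ι] [DecidableEq ι] in
theorem matF_congr (hσ : Ix σ d) {A B : ℕ → ℕ → ℕ} (h : meqB d A B = true) : matF el σ A = matF el σ B := by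
  ext i j
  exact congrArg el (Nat.eq_of_beq_eq_true (allN_spec (allN_spec h _ (hσ.lt i)) _ (hσ.lt j)))

/-- The invertible matrix given by codes for it and for its inverse. -/
noncomputable def glF (el : ℕ → F) (σ : ι → ℕ) (p : List (List ℕ) × List (List ℕ)) : GL ι F := by
  classical
  exact if h : matF el σ (look p.1) * matF el σ (look p.2) = 1 then ⟨_, _, h, mul_eq_one_comm.mp h⟩ else 1

/-- The second matrix is the inverse of the first. -/
noncomputable def Tab.invB (T : Tab) (d : ℕ) (p : List (List ℕ) × List (List ℕ)) : Bool :=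
  bnd (bnd (bddB T.q d (look p.1)) (bddB T.q d (look p.2))) (meqB d (T.mm d (look p.1) (look p.2)) idM)

theorem Tab.invB_bdd {p : List (List ℕ) × List (List ℕ)} (hp : T.invB d p = true) : Bdd T.q d (look p.1) :=
  bddB_spec (bnd_iff.mp (bnd_iff.mp hp).1).1

theorem coe_glF (h : FC T el) (hσ : Ix σ d) {p : List (List ℕ) × List (List ℕ)} (hp : T.invB d p = true) :
    (glF el σ p : Matrix ι ι F) = matF el σ (look p.1) := by
  unfold glF
  rw [dif_pos]
  rw [← matF_mm h hσ (T.invB_bdd hp) (bddB_spec (bnd_iff.mp (bnd_iff.mp hp).1).2),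
    matF_congr hσ (bnd_iff.mp hp).2, matF_id h hσ]

end

/-! ### Codes of many points at once -/

/-- The plane `c`. -/
def pl (N X c : ℕ) : ℕ := Nat.land (Nat.shiftRight X (Nat.mul c N)) (ones N)

theorem testBit_pl (N X c i : ℕ) : (pl N X c).testBit i = (X.testBit (c * N + i) && decide (i < N)) := by
  unfold pl; rw [land_eq, shr_eq, Nat.testBit_and, Nat.testBit_shiftRight, testBit_ones]; rfl

/-- The point `i < n` lies exactly in the plane `f i` among the first `q` planes of `X`. -/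
def OH (q n N X : ℕ) (f : ℕ → ℕ) : Prop := ∀ i < n, f i < q ∧ ∀ c < q, X.testBit (c * N + i) = decide (f i = c)

/-- The code of a point. -/
noncomputable def cd (q N X i : ℕ) : ℕ :=
  Nat.rec (motive := fun _ => ℕ) 0 (fun c acc => Bool.rec acc c (tb X (Nat.add (Nat.mul c N) i))) q

/-- The union of the first `q` planes. -/
noncomputable def unP (N X q : ℕ) : ℕ := Nat.rec (motive := fun _ => ℕ) 0 (fun c acc => Nat.lor acc (pl N X c)) q

theorem testBit_unP {N X i : ℕ} (hi : i < N) : ∀ q, (unP N X q).testBit i = true ↔ ∃ c < q, X.testBit (c * N + i) = true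
  | 0 => by show (0 : ℕ).testBit i = true ↔ _; simp
  | q + 1 => by
    show (unP N X q ||| pl N X q).testBit i = true ↔ _
    rw [Nat.testBit_or, Bool.or_eq_true, testBit_unP hi q, testBit_pl, Nat.exists_lt_succ_right]
    simp [hi]

/-- The planes partition the points. -/
noncomputable def ohB (q n N X : ℕ) : Bool :=
  bnd (Nat.beq (Nat.land (unP N X q) (ones n)) (ones n))
    (allN (fun c => Nat.beq (Nat.land (unP N X c) (pl N X c)) 0) q)

theorem cd_spec {N X i : ℕ} : ∀ {q : ℕ}, (∃ c < q, X.testBit (c * N + i) = true) →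
    cd q N X i < q ∧ X.testBit (cd q N X i * N + i) = true
  | 0, ⟨_, h, _⟩ => absurd h (Nat.not_lt_zero _)
  | q + 1, h => by
    have e : cd (q + 1) N X i = Bool.rec (cd q N X i) q (X.testBit (q * N + i)) := by rw [← tb_eq]; rfl
    rw [e]
    cases hb : X.testBit (q * N + i)
    · have := cd_spec ((Nat.exists_lt_succ_right.mp h).resolve_right (by rw [hb]; simp))
      exact ⟨Nat.lt_succ_of_lt this.1, this.2⟩
    · exact ⟨Nat.lt_succ_self q, hb⟩

theorem ohB_spec {q n N X : ℕ} (hN : n ≤ N) (h : ohB q n N X = true) : OH q n N X (cd q N X) := by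
  intro i hi
  obtain ⟨h1, h2⟩ := bnd_iff.mp h
  have hi' : i < N := by omega
  have h3 := congrArg (fun z => Nat.testBit z i) (Nat.eq_of_beq_eq_true h1)
  simp only [land_eq, Nat.testBit_and, testBit_ones, hi, decide_true, Bool.and_true] at h3
  obtain ⟨h4, h5⟩ := cd_spec ((testBit_unP hi' q).mp h3)
  have h6 : ∀ a b, a < b → b < q → X.testBit (a * N + i) = true → X.testBit (b * N + i) = true → False := by
    intro a b hab hb ha hb'
    have := congrArg (fun z => Nat.testBit z i) (Nat.eq_of_beq_eq_true (allN_spec h2 b hb))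
    simp only [land_eq, Nat.testBit_and, testBit_pl, (testBit_unP hi' b).mpr ⟨a, hab, ha⟩, hb', hi'] at this
    simp at this
  refine ⟨h4, fun c hc => ?_⟩
  by_cases e : cd q N X i = c
  · rw [← e, h5]; simp
  · rw [decide_eq_false e, Bool.eq_false_iff]
    intro h7
    rcases Nat.lt_or_gt_of_ne e with h8 | h8
    · exact h6 _ _ h8 hc h5 h7
    · exact h6 _ _ h8 h4 h7 h5

/-- An operation on codes, on all points at once. -/
noncomputable def ohOp (op : ℕ → ℕ → ℕ) (q N X Y : ℕ) : ℕ :=
  Nat.rec (motive := fun _ => ℕ) 0 (fun x acc => Nat.rec (motive := fun _ => ℕ) acc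
    (fun y acc' => Nat.lor acc' (Nat.shiftLeft (Nat.land (pl N X x) (pl N Y y)) (Nat.mul (op x y) N))) q) q

theorem testBit_shl_pl {N m : ℕ} (hm : ∀ i, m.testBit i = true → i < N) (a c : ℕ) {i : ℕ} (hi : i < N) :
    (m <<< (a * N)).testBit (c * N + i) = (decide (a = c) && m.testBit i) := by
  rw [Nat.testBit_shiftLeft]
  rcases Nat.lt_trichotomy a c with h | rfl | h
  · obtain ⟨k, rfl⟩ := Nat.exists_eq_add_of_lt h
    have e : (a + k + 1) * N + i - a * N = (k + 1) * N + i := by rw [Nat.add_assoc, Nat.add_mul a]; omega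
    rw [e, decide_eq_false (show ¬ a = a + k + 1 by omega)]
    cases h1 : m.testBit ((k + 1) * N + i)
    · simp
    · have := hm _ h1; rw [Nat.add_mul] at this; omega
  · simp
  · have : (c + 1) * N ≤ a * N := Nat.mul_le_mul_right N h
    rw [Nat.add_mul] at this
    rw [decide_eq_false (show ¬ c * N + i ≥ a * N by omega), decide_eq_false (show ¬ a = c by omega)]; rfl

theorem testBit_ohOp (op : ℕ → ℕ → ℕ) (q N X Y c : ℕ) {i : ℕ} (hi : i < N) :
    (ohOp op q N X Y).testBit (c * N + i) = true ↔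
      ∃ x < q, ∃ y < q, op x y = c ∧ X.testBit (x * N + i) = true ∧ Y.testBit (y * N + i) = true := by
  have h1 : ∀ x acc r : ℕ, (Nat.rec (motive := fun _ => ℕ) acc (fun y acc' => Nat.lor acc'
      (Nat.shiftLeft (Nat.land (pl N X x) (pl N Y y)) (Nat.mul (op x y) N))) r : ℕ).testBit (c * N + i) = true ↔
      acc.testBit (c * N + i) = true ∨
        ∃ y < r, op x y = c ∧ X.testBit (x * N + i) = true ∧ Y.testBit (y * N + i) = true := by
    intro x acc r
    induction r with
    | zero => simp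
    | succ r ih =>
      show (_ ||| (pl N X x &&& pl N Y r) <<< (op x r * N)).testBit _ = true ↔ _
      rw [Nat.testBit_or, Bool.or_eq_true, ih, testBit_shl_pl (fun j hj => by
        rw [Nat.testBit_and, testBit_pl] at hj; simp at hj; exact hj.1.2) _ _ hi, Nat.testBit_and, testBit_pl,
        testBit_pl, Nat.exists_lt_succ_right, or_assoc]
      simp [hi]
  unfold ohOp
  generalize hr : q = r
  conv_lhs => rw [← hr]
  conv_rhs => enter [1, x, 2]; rw [← hr]
  conv_lhs => enter [1, 1, 3]; rw [hr]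
  clear hr
  induction r with
  | zero => simp
  | succ r ih => rw [Nat.exists_lt_succ_right, ← ih]; exact h1 r _ q

theorem OH.op {op : ℕ → ℕ → ℕ} {q q' n N X Y : ℕ} {f g : ℕ → ℕ} (hN : n ≤ N) (hX : OH q n N X f) (hY : OH q n N Y g)
    (h : ∀ x < q, ∀ y < q, op x y < q') : OH q' n N (ohOp op q N X Y) fun i => op (f i) (g i) := by
  intro i hi
  refine ⟨h _ (hX i hi).1 _ (hY i hi).1, fun c _ => ?_⟩
  rw [Bool.eq_iff_iff, testBit_ohOp _ _ _ _ _ _ (by omega), decide_eq_true_iff]
  constructor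
  · rintro ⟨x, hx, y, hy, h1, h2, h3⟩
    rw [(hX i hi).2 x hx, decide_eq_true_iff] at h2
    rw [(hY i hi).2 y hy, decide_eq_true_iff] at h3
    show op (f i) (g i) = c
    rw [h2, h3, h1]
  · intro h1
    exact ⟨_, (hX i hi).1, _, (hY i hi).1, h1, by rw [(hX i hi).2 _ (hX i hi).1]; simp,
      by rw [(hY i hi).2 _ (hY i hi).1]; simp⟩

theorem OH.zero {q n N : ℕ} (hN : n ≤ N) (hq : 0 < q) : OH q n N (ones n) fun _ => 0 := fun i hi => ⟨hq, fun c _ => by
  rw [testBit_ones]
  rcases c with _ | c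
  · simpa using hi
  · rw [Nat.add_mul]; simp; omega⟩

theorem OH.shift {q n N X : ℕ} {f : ℕ → ℕ} (h : OH q n N X f) :
    OH q (n - 1) N (Nat.shiftRight X 1) fun i => f (i + 1) := fun i hi => ⟨(h _ (by omega)).1, fun c hc => by
  rw [shr_eq, Nat.testBit_shiftRight, show 1 + (c * N + i) = c * N + (i + 1) by omega, (h _ (by omega)).2 c hc]⟩

/-- Equality of the codes of the points below `n`. -/
noncomputable def ohEq (k n N X Y : ℕ) : Bool :=
  Nat.beq (Nat.land X (rep2 k N (ones n))) (Nat.land Y (rep2 k N (ones n)))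

theorem OH.eq {q k n N X Y : ℕ} {f g : ℕ → ℕ} (hN : n ≤ N) (hk : q ≤ 2 ^ k) (hX : OH q n N X f) (hY : OH q n N Y g)
    (h : ohEq k n N X Y = true) {i : ℕ} (hi : i < n) : f i = g i := by
  have h1 := congrArg (fun z => Nat.testBit z (f i * N + i)) (Nat.eq_of_beq_eq_true h)
  have h2 := (hX i hi).1
  simp only [land_eq, Nat.testBit_and] at h1
  rw [testBit_rep2 (fun i hi => by rw [testBit_ones] at hi; have := of_decide_eq_true hi; omega) _ _ _ (by omega),
    testBit_ones, (hX i hi).2 _ h2, (hY i hi).2 _ h2] at h1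
  have h3 : f i < 2 ^ k := by omega
  simpa [hi, h3, eq_comm] using h1

theorem OH.gath {q k n N X : ℕ} {f : ℕ → ℕ} (hN : n ≤ N) (hk : q ≤ 2 ^ k) (h : OH q n N X f) {a : Net}
    (ha : keepB n N a = true) : OH q n N (gath k N a X) fun i => f (a.fn i) := fun i hi => by
  obtain ⟨h1, h2⟩ := keepB_spec hN ha
  exact ⟨(h _ (h2 i hi)).1, fun c hc => by rw [testBit_gath h1 _ (by omega) (by omega), (h _ (h2 i hi)).2 c hc]⟩

/-- `s + ∑ row k * V k` on all points. -/
noncomputable def Tab.row (T : Tab) (N : ℕ) (V : List ℕ) (u : ℕ → ℕ) (d s : ℕ) : ℕ :=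
  Nat.rec (motive := fun _ => ℕ) s (fun k acc => Bool.rec (motive := fun _ => ℕ)
    (frc acc (ohOp (fun x y => T.add x (T.mul (u k) y)) T.q N acc (nth 0 V k))) acc (Nat.beq (u k) 0)) d

/-- Column vectors with the action of the invertible matrices. -/
def Vec (ι : Type) (F : Type*) : Type _ := ι → F

/-- The coordinates. -/
def Vec.val {ι : Type} {F : Type*} (v : Vec ι F) : ι → F := v

instance Vec.act {ι : Type} [Fintype ι] [DecidableEq ι] {F : Type*} [Field F] : MulAction (GL ι F) (Vec ι F) where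
  smul g v := ((g : Matrix ι ι F) *ᵥ v.val : ι → F)
  one_smul v := Matrix.one_mulVec v.val
  mul_smul _ _ v := (Matrix.mulVec_mulVec v.val _ _).symm

/-- The listed vectors: `V` has, for each coordinate, the planes of the points with a given code there. -/
noncomputable def vecOf {ι : Type} {F : Type*} (el : ℕ → F) (σ : ι → ℕ) (q N : ℕ) (V : List ℕ) (i : ℕ) : Vec ι F :=
  (fun j => el (cd q N (nth 0 V (σ j)) i) : ι → F)

/-- Comparison of codes. -/
noncomputable def cmpC (x y : ℕ) : ℕ := Bool.rec (Bool.rec 2 1 (Nat.ble x y)) 0 (Nat.beq x y)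

/-- The points that are lexicographically smaller than the next one. -/
noncomputable def ltM (q N : ℕ) (V : List ℕ) (d : ℕ) : ℕ :=
  Nat.rec (motive := fun _ => ℕ) 0 (fun k acc =>
    Nat.lor (pl N (ohOp cmpC q N (nth 0 V k) (Nat.shiftRight (nth 0 V k) 1)) 1)
      (Nat.land (pl N (ohOp cmpC q N (nth 0 V k) (Nat.shiftRight (nth 0 V k) 1)) 0) acc)) d

/-- The check of the list of vectors. -/
noncomputable def vecB (q k d : ℕ) (P : Par) (V : List ℕ) : Bool :=
  bnd (Nat.ble q (bit k)) (bnd (allN (fun j => ohB q P.n P.N (nth 0 V j)) d)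
    (Nat.beq (Nat.land (ltM q P.N V d) (ones (Nat.sub P.n 1))) (ones (Nat.sub P.n 1))))

/-- The check of the action of a matrix. -/
noncomputable def Tab.actB (T : Tab) (k d : ℕ) (P : Par) (V : List ℕ)
    (p : (List (List ℕ) × List (List ℕ)) × Net) : Bool :=
  bnd (T.invB d p.1) (bnd (keepB P.n P.N p.2) (allN (fun j =>
    ohEq k P.n P.N (gath k P.N p.2 (nth 0 V j)) (T.row P.N V (look p.1.1 j) d (ones P.n))) d))

section
variable {T : Tab} {F : Type*} [Field F] {el : ℕ → F} {ι : Type} [Fintype ι] [DecidableEq ι] {σ : ι → ℕ} {d k : ℕ}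
  {P : Par} {V : List ℕ}

theorem Vec.smul_val (g : GL ι F) (v : Vec ι F) : (g • v).val = (g : Matrix ι ι F) *ᵥ v.val := rfl

theorem vecB_oh {q : ℕ} (hP : P.Ok) (hV : vecB q k d P V = true) : ∀ j < d, OH q P.n P.N (nth 0 V j) (cd q P.N (nth 0 V j)) :=
  fun j hj => ohB_spec hP.1 (allN_spec (bnd_iff.mp (bnd_iff.mp hV).2).1 j hj)

theorem vecB_le {q : ℕ} (hV : vecB q k d P V = true) : q ≤ 2 ^ k := bit_eq k ▸ Nat.le_of_ble_eq_true (bnd_iff.mp hV).1

theorem FC.row (h : FC T el) {n N : ℕ} (hN : n ≤ N) {f : ℕ → ℕ → ℕ} {u g : ℕ → ℕ} {s : ℕ} (hs : OH T.q n N s g) :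
    ∀ d, (∀ j < d, OH T.q n N (nth 0 V j) (f j)) → (∀ j < d, u j < T.q) → ∃ r, OH T.q n N (T.row N V u d s) r ∧
      ∀ i < n, el (r i) = el (g i) + ∑ j ∈ Finset.range d, el (u j) * el (f j i)
  | 0, _, _ => ⟨g, hs, fun _ _ => by simp⟩
  | d + 1, hf, hu => by
    obtain ⟨r, h1, h2⟩ := h.row hN hs d (fun j hj => hf j (by omega)) fun j hj => hu j (by omega)
    have e : T.row N V u (d + 1) s = Bool.rec (motive := fun _ => ℕ) (frc (T.row N V u d s)
      (ohOp (fun x y => T.add x (T.mul (u d) y)) T.q N (T.row N V u d s) (nth 0 V d))) (T.row N V u d s)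
      (Nat.beq (u d) 0) := rfl
    rw [e, frc_eq]
    cases hb : Nat.beq (u d) 0
    · have h3 := hu d (by omega)
      refine ⟨_, h1.op hN (hf d (by omega)) fun x hx y hy => (h.add _ hx _ (h.mul _ h3 _ hy).1).1, fun i hi => ?_⟩
      have h4 := h.mul _ h3 _ (hf d (by omega) i hi).1
      rw [Finset.sum_range_succ, ← add_assoc, ← h2 i hi, ← h4.2]
      exact (h.add _ (h1 i hi).1 _ h4.1).2
    · refine ⟨r, h1, fun i hi => ?_⟩
      rw [Finset.sum_range_succ, Nat.eq_of_beq_eq_true hb, h.zero, zero_mul, add_zero, h2 i hi]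

theorem ltM_spec {q n N : ℕ} (hN : n ≤ N) {f : ℕ → ℕ → ℕ} {i : ℕ} (hi : i < n - 1) : ∀ d,
    (∀ j < d, OH q n N (nth 0 V j) (f j)) → (ltM q N V d).testBit i = true →
      ∃ j < d, f j i < f j (i + 1) ∧ ∀ l < d, j < l → f l i = f l (i + 1)
  | 0, _, h => by simp [ltM] at h
  | d + 1, hf, h => by
    have h1 : OH 3 (n - 1) N (ohOp cmpC q N (nth 0 V d) (Nat.shiftRight (nth 0 V d) 1)) _ :=
      OH.op (by omega) (fun i hi => hf d (by omega) i (by omega)) (hf d (by omega)).shift fun x _ y _ => by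
        unfold cmpC; cases Nat.beq x y <;> cases Nat.ble x y <;> decide
    have h : (pl N _ 1 ||| (pl N _ 0 &&& ltM q N V d)).testBit i = true := h
    rw [Nat.testBit_or, Nat.testBit_and, testBit_pl, testBit_pl, (h1 i hi).2 1 (by omega), (h1 i hi).2 0 (by omega)] at h
    unfold cmpC at h
    cases h2 : Nat.beq (f d i) (f d (i + 1))
    · have h3 := Nat.ne_of_beq_eq_false h2
      cases h4 : Nat.ble (f d i) (f d (i + 1))
      · simp [h2, h4] at h
      · have := Nat.le_of_ble_eq_true h4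
        exact ⟨d, by omega, by omega, fun l _ _ => by omega⟩
    · simp only [h2] at h
      obtain ⟨j, hj, h3, h4⟩ := ltM_spec hN hi d (fun j hj => hf j (by omega)) (by simp at h; exact h.2)
      refine ⟨j, by omega, h3, fun l hl hjl => ?_⟩
      by_cases e : l = d
      · rw [e]; exact Nat.eq_of_beq_eq_true h2
      · exact h4 l (by omega) hjl

omit [Fintype ι] [DecidableEq ι] in
theorem injLt_vecOf (h : FC T el) (hσ : Ix σ d) (hP : P.Ok) (hV : vecB T.q k d P V = true) :
    InjLt (vecOf el σ T.q P.N V) P.n := by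
  have h1 := vecB_oh hP hV
  have h2 : ∀ m i, i + m + 1 < P.n → ∃ j < d, cd T.q P.N (nth 0 V j) i < cd T.q P.N (nth 0 V j) (i + m + 1) ∧
      ∀ l < d, j < l → cd T.q P.N (nth 0 V l) i = cd T.q P.N (nth 0 V l) (i + m + 1) := by
    have h3 := fun i (hi : i < P.n - 1) => ltM_spec hP.1 hi d h1 (by
      have := congrArg (fun z => Nat.testBit z i) (Nat.eq_of_beq_eq_true (bnd_iff.mp (bnd_iff.mp hV).2).2)
      simp only [land_eq, Nat.testBit_and, testBit_ones, Nat.sub_eq] at this
      simpa [hi] using this)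
    intro m
    induction m with
    | zero => exact fun i hi => h3 i (by omega)
    | succ m ih =>
      intro i hi
      obtain ⟨j, hj, a1, a2⟩ := ih i (by omega)
      obtain ⟨j', hj', b1, b2⟩ := h3 (i + m + 1) (by omega)
      rw [show i + (m + 1) + 1 = i + m + 1 + 1 by omega]
      rcases Nat.lt_trichotomy j j' with e | rfl | e
      · exact ⟨j', hj', by rw [a2 j' hj' e]; exact b1, fun l hl hjl => (a2 l hl (by omega)).trans (b2 l hl hjl)⟩
      · exact ⟨j, hj, a1.trans b1, fun l hl hjl => (a2 l hl hjl).trans (b2 l hl hjl)⟩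
      · exact ⟨j, hj, by rw [← b2 j hj e]; exact a1, fun l hl hjl => (a2 l hl hjl).trans (b2 l hl (by omega))⟩
  have h4 : ∀ i j, i < j → j < P.n → vecOf el σ T.q P.N V i ≠ vecOf el σ T.q P.N V j := fun i j hij hj e => by
    obtain ⟨m, rfl⟩ := Nat.exists_eq_add_of_lt hij
    obtain ⟨l, hl, a1, _⟩ := h2 m i hj
    obtain ⟨x, rfl⟩ := hσ.surj l hl
    exact a1.ne (h.inj _ (h1 _ hl i (by omega)).1 _ (h1 _ hl _ hj).1 (congrFun e x))
  intro i hi j hj e
  rcases Nat.lt_trichotomy i j with h5 | h5 | h5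
  · exact absurd e (h4 i j h5 hj)
  · exact h5
  · exact absurd e.symm (h4 j i h5 hi)

theorem repN_glF (h : FC T el) (hσ : Ix σ d) (hP : P.Ok) (hV : vecB T.q k d P V = true)
    {p : (List (List ℕ) × List (List ℕ)) × Net} (hp : T.actB k d P V p = true) :
    RepN (vecOf el σ T.q P.N V) P.n P.N (glF el σ p.1) p.2 := by
  obtain ⟨h1, hp⟩ := bnd_iff.mp hp
  obtain ⟨h2, hp⟩ := bnd_iff.mp hp
  have h3 := vecB_oh hP hV
  refine ⟨(keepB_spec hP.1 h2).1, fun i hi => ⟨(keepB_spec hP.1 h2).2 i hi, funext fun j => ?_⟩⟩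
  obtain ⟨r, h4, h5⟩ := h.row hP.1 (OH.zero hP.1 (lt_trans Nat.one_pos h.two)) d h3 (T.invB_bdd h1 _ (hσ.lt j))
  have h6 := ((h3 _ (hσ.lt j)).gath hP.1 (vecB_le hV) h2).eq hP.1 (vecB_le hV) h4 (allN_spec hp _ (hσ.lt j)) hi
  show ((glF el σ p.1 : Matrix ι ι F) *ᵥ _) j = el _
  rw [h6, h5 i hi, h.zero, zero_add, coe_glF h hσ h1, ← hσ.sum_eq]
  rfl

/-- The model of a list of matrices acting on a list of vectors. -/
theorem ctx_mat (h : FC T el) (hσ : Ix σ d) (hP : P.Ok) (hV : vecB T.q k d P V = true) :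
    ∀ {ms : List (List (List ℕ) × List (List ℕ))} {ns : List Net}, Nat.beq (lenL ms) (lenL ns) = true →
      allL (T.actB k d P V) (zp Net.nil ms ns) = true →
      Ctx P (vecOf el σ T.q P.N V) (ms.map (glF el σ)) ns [] chk0 := by
  intro ms ns h1 h2
  refine Ctx.mk0 hP (injLt_vecOf h hσ hP hV) ?_
  replace h1 := Nat.eq_of_beq_eq_true h1
  rw [lenL_eq, lenL_eq] at h1
  replace h2 := allL_spec h2
  induction ms generalizing ns with
  | nil => cases ns with
    | nil => exact Good.nil _ _ _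
    | cons => simp at h1
  | cons m ms ih => cases ns with
    | nil => simp at h1
    | cons a ns =>
      exact Good.cons (repN_glF h hσ hP hV (h2 (m, a) List.mem_cons_self))
        (ih (by simpa using h1) fun p hp => h2 p (List.mem_cons_of_mem _ hp))

theorem actB_invB {ms : List (List (List ℕ) × List (List ℕ))} {ns : List Net}
    (h : allL (T.actB k d P V) (zp Net.nil ms ns) = true) : allL (T.invB d) ms = true := allL_of fun m hm => by
  obtain ⟨a, ha⟩ := exists_mem_zp Net.nil ns hm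
  exact (bnd_iff.mp (allL_spec h _ ha)).1

/-- The points `bs` are a basis: `B` is the inverse of the matrix with these columns. -/
noncomputable def Tab.basB (T : Tab) (d : ℕ) (P : Par) (V bs : List ℕ) (B : List (List ℕ)) : Bool :=
  bnd (bnd (allN (fun j => Nat.ble (Nat.succ (nth 0 bs j)) P.n) d) (bddB T.q d (look B)))
    (meqB d (T.mm d (fun i j => cd T.q P.N (nth 0 V i) (nth 0 bs j)) (look B)) idM)

theorem faithful_vecOf (h : FC T el) (hσ : Ix σ d) (hP : P.Ok) (hV : vecB T.q k d P V = true) {bs : List ℕ}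
    {B : List (List ℕ)} (hB : T.basB d P V bs B = true) :
    Faithful (vecOf el σ T.q P.N V) P.n (⊤ : Subgroup (GL ι F)) := by
  obtain ⟨h1, h3⟩ := bnd_iff.mp hB
  obtain ⟨h1, h2⟩ := bnd_iff.mp h1
  have h1 := fun j hj => blt_spec (allN_spec h1 j hj)
  have h4 := matF_congr (el := el) hσ h3
  rw [matF_mm h hσ (fun i hi j hj => (vecB_oh hP hV i hi _ (h1 j hj)).1) (bddB_spec h2), matF_id h hσ] at h4
  intro g _ hg
  have h5 : (g : Matrix ι ι F) * matF el σ (fun i j => cd T.q P.N (nth 0 V i) (nth 0 bs j)) =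
      matF el σ (fun i j => cd T.q P.N (nth 0 V i) (nth 0 bs j)) := by
    ext i j; exact congrFun (hg _ (h1 _ (hσ.lt j))) i
  ext1
  rw [← mul_one (g : Matrix ι ι F), ← h4, ← mul_assoc, h5, h4]; rfl

omit [DecidableEq ι] in
/-- When all vectors are listed. -/
theorem vecOf_surj (h : FC T el) (hσ : Ix σ d) (hP : P.Ok) (hV : vecB T.q k d P V = true) (hn : P.n = T.q ^ d)
    (v : Vec ι F) : ∃ i < P.n, vecOf el σ T.q P.N V i = v := by
  have h1 : Nat.card F = T.q := by
    rw [← Nat.card_fin T.q]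
    exact (Nat.card_eq_of_bijective (fun a : Fin T.q => el a) ⟨fun a b e => Fin.ext (h.inj _ a.2 _ b.2 e),
      fun x => by obtain ⟨a, ha, e⟩ := h.surj x; exact ⟨⟨a, ha⟩, e⟩⟩).symm
  have h2 : Nat.card ι = d := by
    rw [← Nat.card_fin d]
    exact Nat.card_eq_of_bijective (fun i => (⟨σ i, hσ.lt i⟩ : Fin d)) ⟨fun a b e => hσ.inj (congrArg Fin.val e),
      fun x => by obtain ⟨a, e⟩ := hσ.surj x x.2; exact ⟨a, Fin.ext e⟩⟩
  have : Finite F := Nat.finite_of_card_ne_zero (by have := h.two; omega)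
  have h3 : Function.Bijective fun i : Fin P.n => (vecOf el σ T.q P.N V i).val :=
    Function.Injective.bijective_of_nat_card_le (fun a b e => Fin.ext (injLt_vecOf h hσ hP hV _ a.2 _ b.2 e))
      (by rw [Nat.card_fun, h1, h2, Nat.card_fin, hn])
  obtain ⟨i, hi⟩ := h3.2 v.val
  exact ⟨i, i.2, hi⟩

end

end CL.PG
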