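import Cfsg.Agent.Spor.TCSound
import Cfsg.Agent.Spor.TCFi24AD0
import Cfsg.Agent.Spor.TCFi24AD1
import Cfsg.Agent.Spor.TCFi24AD2
import Cfsg.Agent.Spor.TCFi24AD3
import Cfsg.Agent.Spor.TCFi24AD4
import Cfsg.Agent.Spor.TCFi24AD5

/-! coset enumeration certificate generated by tools/tc -/

set_option maxRecDepth 100000
set_option autoImplicit false
set_option linter.all false

namespace CL.TC.Fi24A

noncomputable def rows : Tr ℕ := (.node (nat_lit 16384) (.node (nat_lit 8192) (.node (nat_lit 4096) (.node (nat_lit 2048) (.node (nat_lit 1024) (.node (nat_lit 512) (.node (nat_lit 256) (.node (nat_lit 128) (.node (nat_lit 64) (.node (nat_lit 32) (.node (nat_lit 16) rows0 rows1) (.node (nat_lit 16) rows2 rows3)) (.node (nat_lit 32) (.node (nat_lit 16) rows4 rows5) (.node (nat_lit 16) rows6 rows7))) (.node (nat_lit 64) (.node (nat_lit 32) (.node (nat_lit 16) rows8 rows9) (.node (nat_lit 16) rows10 rows11)) (.node (nat_lit 32) (.node (nat_lit 16) rows12 rows13) (.node (nat_lit 16) rows14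 rows15)))) (.node (nat_lit 128) (.node (nat_lit 64) (.node (nat_lit 32) (.node (nat_lit 16) rows16 rows17) (.node (nat_lit 16) rows18 rows19)) (.node (nat_lit 32) (.node (nat_lit 16) rows20 rows21) (.node (nat_lit 16) rows22 rows23))) (.node (nat_lit 64) (.node (nat_lit 32) (.node (nat_lit 16) rows24 rows25) (.node (nat_lit 16) rows26 rows27)) (.node (nat_lit 32) (.node (nat_lit 16) rows28 rows29) (.node (nat_lit 16) rows30 rows31))))) (.node (nat_lit 256) (.node (nat_lit 128) (.node (nat_lit 64) (.node (nat_lit 32) (.node (nat_lit 16) rows32 rows33) (.node (nat_lit 16) rows34 rows35)) (.node (nat_lit 32) (.node (nat_lit 16) rows36 rows37) (.node (nat_lit 16) rows38 rows39))) (.node (nat_lit 64) (.node (nat_lit 32) (.node (nat_lit 16) rows40 rows41) (.node (nat_lit 16) rows42 rows43)) (.node (nat_lit 32) (.node (nat_lit 16) rows44 rows45) (.node (nat_lit 16) rows46 rows47)))) (.node (nat_lit 128) (.node (nat_lit 64) (.node (nat_lit 32) (.node (nat_lit 16) rows48 rows49) (.node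 (nat_lit 16) rows50 rows51)) (.node (nat_lit 32) (.node (nat_lit 16) rows52 rows53) (.node (nat_lit 16) rows54 rows55))) (.node (nat_lit 64) (.node (nat_lit 32) (.node (nat_lit 16) rows56 rows57) (.node (nat_lit 16) rows58 rows59)) (.node (nat_lit 32) (.node (nat_lit 16) rows60 rows61) (.node (nat_lit 16) rows62 rows63)))))) (.node (nat_lit 512) (.node (nat_lit 256) (.node (nat_lit 128) (.node (nat_lit 64) (.node (nat_lit 32) (.node (nat_lit 16) rows64 rows65) (.node (nat_lit 16) rows66 rows67)) (.node (nat_lit 32) (.node (nat_lit 16) rows68 rows69) (.node (nat_lit 16) rows70 rows71))) (.node (nat_lit 64) (.node (nat_lit 32) (.node (nat_lit 16) rows72 rows73) (.node (nat_lit 16) rows74 rows75)) (.node (nat_lit 32) (.node (nat_lit 16) rows76 rows77) (.node (nat_lit 16) rows78 rows79)))) (.node (nat_lit 128) (.node (nat_lit 64) (.node (nat_lit 32) (.node (nat_lit 16) rows80 rows81) (.node (nat_lit 16) rows82 rows83)) (.node (nat_lit 32) (.node (nat_lit 16) rows84 rows85) (.node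 (nat_lit 16) rows86 rows87))) (.node (nat_lit 64) (.node (nat_lit 32) (.node (nat_lit 16) rows88 rows89) (.node (nat_lit 16) rows90 rows91)) (.node (nat_lit 32) (.node (nat_lit 16) rows92 rows93) (.node (nat_lit 16) rows94 rows95))))) (.node (nat_lit 256) (.node (nat_lit 128) (.node (nat_lit 64) (.node (nat_lit 32) (.node (nat_lit 16) rows96 rows97) (.node (nat_lit 16) rows98 rows99)) (.node (nat_lit 32) (.node (nat_lit 16) rows100 rows101) (.node (nat_lit 16) rows102 rows103))) (.node (nat_lit 64) (.node (nat_lit 32) (.node (nat_lit 16) rows104 rows105) (.node (nat_lit 16) rows106 rows107)) (.node (nat_lit 32) (.node (nat_lit 16) rows108 rows109) (.node (nat_lit 16) rows110 rows111)))) (.node (nat_lit 128) (.node (nat_lit 64) (.node (nat_lit 32) (.node (nat_lit 16) rows112 rows113) (.node (nat_lit 16) rows114 rows115)) (.node (nat_lit 32) (.node (nat_lit 16) rows116 rows117) (.node (nat_lit 16) rows118 rows119))) (.node (nat_lit 64) (.node (nat_lit 32) (.node (nat_lit 16) rows120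 rows121) (.node (nat_lit 16) rows122 rows123)) (.node (nat_lit 32) (.node (nat_lit 16) rows124 rows125) (.node (nat_lit 16) rows126 rows127))))))) (.node (nat_lit 1024) (.node (nat_lit 512) (.node (nat_lit 256) (.node (nat_lit 128) (.node (nat_lit 64) (.node (nat_lit 32) (.node (nat_lit 16) rows128 rows129) (.node (nat_lit 16) rows130 rows131)) (.node (nat_lit 32) (.node (nat_lit 16) rows132 rows133) (.node (nat_lit 16) rows134 rows135))) (.node (nat_lit 64) (.node (nat_lit 32) (.node (nat_lit 16) rows136 rows137) (.node (nat_lit 16) rows138 rows139)) (.node (nat_lit 32) (.node (nat_lit 16) rows140 rows141) (.node (nat_lit 16) rows142 rows143)))) (.node (nat_lit 128) (.node (nat_lit 64) (.node (nat_lit 32) (.node (nat_lit 16) rows144 rows145) (.node (nat_lit 16) rows146 rows147)) (.node (nat_lit 32) (.node (nat_lit 16) rows148 rows149) (.node (nat_lit 16) rows150 rows151))) (.node (nat_lit 64) (.node (nat_lit 32) (.node (nat_lit 16) rows152 rows153) (.node (nat_lit 16) rows154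 rows155)) (.node (nat_lit 32) (.node (nat_lit 16) rows156 rows157) (.node (nat_lit 16) rows158 rows159))))) (.node (nat_lit 256) (.node (nat_lit 128) (.node (nat_lit 64) (.node (nat_lit 32) (.node (nat_lit 16) rows160 rows161) (.node (nat_lit 16) rows162 rows163)) (.node (nat_lit 32) (.node (nat_lit 16) rows164 rows165) (.node (nat_lit 16) rows166 rows167))) (.node (nat_lit 64) (.node (nat_lit 32) (.node (nat_lit 16) rows168 rows169) (.node (nat_lit 16) rows170 rows171)) (.node (nat_lit 32) (.node (nat_lit 16) rows172 rows173) (.node (nat_lit 16) rows174 rows175)))) (.node (nat_lit 128) (.node (nat_lit 64) (.node (nat_lit 32) (.node (nat_lit 16) rows176 rows177) (.node (nat_lit 16) rows178 rows179)) (.node (nat_lit 32) (.node (nat_lit 16) rows180 rows181) (.node (nat_lit 16) rows182 rows183))) (.node (nat_lit 64) (.node (nat_lit 32) (.node (nat_lit 16) rows184 rows185) (.node (nat_lit 16) rows186 rows187)) (.node (nat_lit 32) (.node (nat_lit 16) rows188 rows189) (.node (nat_lit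 16) rows190 rows191)))))) (.node (nat_lit 512) (.node (nat_lit 256) (.node (nat_lit 128) (.node (nat_lit 64) (.node (nat_lit 32) (.node (nat_lit 16) rows192 rows193) (.node (nat_lit 16) rows194 rows195)) (.node (nat_lit 32) (.node (nat_lit 16) rows196 rows197) (.node (nat_lit 16) rows198 rows199))) (.node (nat_lit 64) (.node (nat_lit 32) (.node (nat_lit 16) rows200 rows201) (.node (nat_lit 16) rows202 rows203)) (.node (nat_lit 32) (.node (nat_lit 16) rows204 rows205) (.node (nat_lit 16) rows206 rows207)))) (.node (nat_lit 128) (.node (nat_lit 64) (.node (nat_lit 32) (.node (nat_lit 16) rows208 rows209) (.node (nat_lit 16) rows210 rows211)) (.node (nat_lit 32) (.node (nat_lit 16) rows212 rows213) (.node (nat_lit 16) rows214 rows215))) (.node (nat_lit 64) (.node (nat_lit 32) (.node (nat_lit 16) rows216 rows217) (.node (nat_lit 16) rows218 rows219)) (.node (nat_lit 32) (.node (nat_lit 16) rows220 rows221) (.node (nat_lit 16) rows222 rows223))))) (.node (nat_lit 256) (.node (nat_lit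 128) (.node (nat_lit 64) (.node (nat_lit 32) (.node (nat_lit 16) rows224 rows225) (.node (nat_lit 16) rows226 rows227)) (.node (nat_lit 32) (.node (nat_lit 16) rows228 rows229) (.node (nat_lit 16) rows230 rows231))) (.node (nat_lit 64) (.node (nat_lit 32) (.node (nat_lit 16) rows232 rows233) (.node (nat_lit 16) rows234 rows235)) (.node (nat_lit 32) (.node (nat_lit 16) rows236 rows237) (.node (nat_lit 16) rows238 rows239)))) (.node (nat_lit 128) (.node (nat_lit 64) (.node (nat_lit 32) (.node (nat_lit 16) rows240 rows241) (.node (nat_lit 16) rows242 rows243)) (.node (nat_lit 32) (.node (nat_lit 16) rows244 rows245) (.node (nat_lit 16) rows246 rows247))) (.node (nat_lit 64) (.node (nat_lit 32) (.node (nat_lit 16) rows248 rows249) (.node (nat_lit 16) rows250 rows251)) (.node (nat_lit 32) (.node (nat_lit 16) rows252 rows253) (.node (nat_lit 16) rows254 rows255)))))))) (.node (nat_lit 2048) (.node (nat_lit 1024) (.node (nat_lit 512) (.node (nat_lit 256) (.node (nat_lit 128) (.node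 (nat_lit 64) (.node (nat_lit 32) (.node (nat_lit 16) rows256 rows257) (.node (nat_lit 16) rows258 rows259)) (.node (nat_lit 32) (.node (nat_lit 16) rows260 rows261) (.node (nat_lit 16) rows262 rows263))) (.node (nat_lit 64) (.node (nat_lit 32) (.node (nat_lit 16) rows264 rows265) (.node (nat_lit 16) rows266 rows267)) (.node (nat_lit 32) (.node (nat_lit 16) rows268 rows269) (.node (nat_lit 16) rows270 rows271)))) (.node (nat_lit 128) (.node (nat_lit 64) (.node (nat_lit 32) (.node (nat_lit 16) rows272 rows273) (.node (nat_lit 16) rows274 rows275)) (.node (nat_lit 32) (.node (nat_lit 16) rows276 rows277) (.node (nat_lit 16) rows278 rows279))) (.node (nat_lit 64) (.node (nat_lit 32) (.node (nat_lit 16) rows280 rows281) (.node (nat_lit 16) rows282 rows283)) (.node (nat_lit 32) (.node (nat_lit 16) rows284 rows285) (.node (nat_lit 16) rows286 rows287))))) (.node (nat_lit 256) (.node (nat_lit 128) (.node (nat_lit 64) (.node (nat_lit 32) (.node (nat_lit 16) rows288 rows289) (.node (nat_lit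 16) rows290 rows291)) (.node (nat_lit 32) (.node (nat_lit 16) rows292 rows293) (.node (nat_lit 16) rows294 rows295))) (.node (nat_lit 64) (.node (nat_lit 32) (.node (nat_lit 16) rows296 rows297) (.node (nat_lit 16) rows298 rows299)) (.node (nat_lit 32) (.node (nat_lit 16) rows300 rows301) (.node (nat_lit 16) rows302 rows303)))) (.node (nat_lit 128) (.node (nat_lit 64) (.node (nat_lit 32) (.node (nat_lit 16) rows304 rows305) (.node (nat_lit 16) rows306 rows307)) (.node (nat_lit 32) (.node (nat_lit 16) rows308 rows309) (.node (nat_lit 16) rows310 rows311))) (.node (nat_lit 64) (.node (nat_lit 32) (.node (nat_lit 16) rows312 rows313) (.node (nat_lit 16) rows314 rows315)) (.node (nat_lit 32) (.node (nat_lit 16) rows316 rows317) (.node (nat_lit 16) rows318 rows319)))))) (.node (nat_lit 512) (.node (nat_lit 256) (.node (nat_lit 128) (.node (nat_lit 64) (.node (nat_lit 32) (.node (nat_lit 16) rows320 rows321) (.node (nat_lit 16) rows322 rows323)) (.node (nat_lit 32) (.node (nat_lit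 16) rows324 rows325) (.node (nat_lit 16) rows326 rows327))) (.node (nat_lit 64) (.node (nat_lit 32) (.node (nat_lit 16) rows328 rows329) (.node (nat_lit 16) rows330 rows331)) (.node (nat_lit 32) (.node (nat_lit 16) rows332 rows333) (.node (nat_lit 16) rows334 rows335)))) (.node (nat_lit 128) (.node (nat_lit 64) (.node (nat_lit 32) (.node (nat_lit 16) rows336 rows337) (.node (nat_lit 16) rows338 rows339)) (.node (nat_lit 32) (.node (nat_lit 16) rows340 rows341) (.node (nat_lit 16) rows342 rows343))) (.node (nat_lit 64) (.node (nat_lit 32) (.node (nat_lit 16) rows344 rows345) (.node (nat_lit 16) rows346 rows347)) (.node (nat_lit 32) (.node (nat_lit 16) rows348 rows349) (.node (nat_lit 16) rows350 rows351))))) (.node (nat_lit 256) (.node (nat_lit 128) (.node (nat_lit 64) (.node (nat_lit 32) (.node (nat_lit 16) rows352 rows353) (.node (nat_lit 16) rows354 rows355)) (.node (nat_lit 32) (.node (nat_lit 16) rows356 rows357) (.node (nat_lit 16) rows358 rows359))) (.node (nat_lit 64)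 (.node (nat_lit 32) (.node (nat_lit 16) rows360 rows361) (.node (nat_lit 16) rows362 rows363)) (.node (nat_lit 32) (.node (nat_lit 16) rows364 rows365) (.node (nat_lit 16) rows366 rows367)))) (.node (nat_lit 128) (.node (nat_lit 64) (.node (nat_lit 32) (.node (nat_lit 16) rows368 rows369) (.node (nat_lit 16) rows370 rows371)) (.node (nat_lit 32) (.node (nat_lit 16) rows372 rows373) (.node (nat_lit 16) rows374 rows375))) (.node (nat_lit 64) (.node (nat_lit 32) (.node (nat_lit 16) rows376 rows377) (.node (nat_lit 16) rows378 rows379)) (.node (nat_lit 32) (.node (nat_lit 16) rows380 rows381) (.node (nat_lit 16) rows382 rows383))))))) (.node (nat_lit 1024) (.node (nat_lit 512) (.node (nat_lit 256) (.node (nat_lit 128) (.node (nat_lit 64) (.node (nat_lit 32) (.node (nat_lit 16) rows384 rows385) (.node (nat_lit 16) rows386 rows387)) (.node (nat_lit 32) (.node (nat_lit 16) rows388 rows389) (.node (nat_lit 16) rows390 rows391))) (.node (nat_lit 64) (.node (nat_lit 32) (.node (nat_lit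 16) rows392 rows393) (.node (nat_lit 16) rows394 rows395)) (.node (nat_lit 32) (.node (nat_lit 16) rows396 rows397) (.node (nat_lit 16) rows398 rows399)))) (.node (nat_lit 128) (.node (nat_lit 64) (.node (nat_lit 32) (.node (nat_lit 16) rows400 rows401) (.node (nat_lit 16) rows402 rows403)) (.node (nat_lit 32) (.node (nat_lit 16) rows404 rows405) (.node (nat_lit 16) rows406 rows407))) (.node (nat_lit 64) (.node (nat_lit 32) (.node (nat_lit 16) rows408 rows409) (.node (nat_lit 16) rows410 rows411)) (.node (nat_lit 32) (.node (nat_lit 16) rows412 rows413) (.node (nat_lit 16) rows414 rows415))))) (.node (nat_lit 256) (.node (nat_lit 128) (.node (nat_lit 64) (.node (nat_lit 32) (.node (nat_lit 16) rows416 rows417) (.node (nat_lit 16) rows418 rows419)) (.node (nat_lit 32) (.node (nat_lit 16) rows420 rows421) (.node (nat_lit 16) rows422 rows423))) (.node (nat_lit 64) (.node (nat_lit 32) (.node (nat_lit 16) rows424 rows425) (.node (nat_lit 16) rows426 rows427)) (.node (nat_lit 32)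 (.node (nat_lit 16) rows428 rows429) (.node (nat_lit 16) rows430 rows431)))) (.node (nat_lit 128) (.node (nat_lit 64) (.node (nat_lit 32) (.node (nat_lit 16) rows432 rows433) (.node (nat_lit 16) rows434 rows435)) (.node (nat_lit 32) (.node (nat_lit 16) rows436 rows437) (.node (nat_lit 16) rows438 rows439))) (.node (nat_lit 64) (.node (nat_lit 32) (.node (nat_lit 16) rows440 rows441) (.node (nat_lit 16) rows442 rows443)) (.node (nat_lit 32) (.node (nat_lit 16) rows444 rows445) (.node (nat_lit 16) rows446 rows447)))))) (.node (nat_lit 512) (.node (nat_lit 256) (.node (nat_lit 128) (.node (nat_lit 64) (.node (nat_lit 32) (.node (nat_lit 16) rows448 rows449) (.node (nat_lit 16) rows450 rows451)) (.node (nat_lit 32) (.node (nat_lit 16) rows452 rows453) (.node (nat_lit 16) rows454 rows455))) (.node (nat_lit 64) (.node (nat_lit 32) (.node (nat_lit 16) rows456 rows457) (.node (nat_lit 16) rows458 rows459)) (.node (nat_lit 32) (.node (nat_lit 16) rows460 rows461) (.node (nat_lit 16)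 rows462 rows463)))) (.node (nat_lit 128) (.node (nat_lit 64) (.node (nat_lit 32) (.node (nat_lit 16) rows464 rows465) (.node (nat_lit 16) rows466 rows467)) (.node (nat_lit 32) (.node (nat_lit 16) rows468 rows469) (.node (nat_lit 16) rows470 rows471))) (.node (nat_lit 64) (.node (nat_lit 32) (.node (nat_lit 16) rows472 rows473) (.node (nat_lit 16) rows474 rows475)) (.node (nat_lit 32) (.node (nat_lit 16) rows476 rows477) (.node (nat_lit 16) rows478 rows479))))) (.node (nat_lit 256) (.node (nat_lit 128) (.node (nat_lit 64) (.node (nat_lit 32) (.node (nat_lit 16) rows480 rows481) (.node (nat_lit 16) rows482 rows483)) (.node (nat_lit 32) (.node (nat_lit 16) rows484 rows485) (.node (nat_lit 16) rows486 rows487))) (.node (nat_lit 64) (.node (nat_lit 32) (.node (nat_lit 16) rows488 rows489) (.node (nat_lit 16) rows490 rows491)) (.node (nat_lit 32) (.node (nat_lit 16) rows492 rows493) (.node (nat_lit 16) rows494 rows495)))) (.node (nat_lit 128) (.node (nat_lit 64) (.node (nat_lit 32)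 (.node (nat_lit 16) rows496 rows497) (.node (nat_lit 16) rows498 rows499)) (.node (nat_lit 32) (.node (nat_lit 16) rows500 rows501) (.node (nat_lit 16) rows502 rows503))) (.node (nat_lit 64) (.node (nat_lit 32) (.node (nat_lit 16) rows504 rows505) (.node (nat_lit 16) rows506 rows507)) (.node (nat_lit 32) (.node (nat_lit 16) rows508 rows509) (.node (nat_lit 16) rows510 rows511))))))))) (.node (nat_lit 4096) (.node (nat_lit 2048) (.node (nat_lit 1024) (.node (nat_lit 512) (.node (nat_lit 256) (.node (nat_lit 128) (.node (nat_lit 64) (.node (nat_lit 32) (.node (nat_lit 16) rows512 rows513) (.node (nat_lit 16) rows514 rows515)) (.node (nat_lit 32) (.node (nat_lit 16) rows516 rows517) (.node (nat_lit 16) rows518 rows519))) (.node (nat_lit 64) (.node (nat_lit 32) (.node (nat_lit 16) rows520 rows521) (.node (nat_lit 16) rows522 rows523)) (.node (nat_lit 32) (.node (nat_lit 16) rows524 rows525) (.node (nat_lit 16) rows526 rows527)))) (.node (nat_lit 128) (.node (nat_lit 64) (.node (nat_lit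 32) (.node (nat_lit 16) rows528 rows529) (.node (nat_lit 16) rows530 rows531)) (.node (nat_lit 32) (.node (nat_lit 16) rows532 rows533) (.node (nat_lit 16) rows534 rows535))) (.node (nat_lit 64) (.node (nat_lit 32) (.node (nat_lit 16) rows536 rows537) (.node (nat_lit 16) rows538 rows539)) (.node (nat_lit 32) (.node (nat_lit 16) rows540 rows541) (.node (nat_lit 16) rows542 rows543))))) (.node (nat_lit 256) (.node (nat_lit 128) (.node (nat_lit 64) (.node (nat_lit 32) (.node (nat_lit 16) rows544 rows545) (.node (nat_lit 16) rows546 rows547)) (.node (nat_lit 32) (.node (nat_lit 16) rows548 rows549) (.node (nat_lit 16) rows550 rows551))) (.node (nat_lit 64) (.node (nat_lit 32) (.node (nat_lit 16) rows552 rows553) (.node (nat_lit 16) rows554 rows555)) (.node (nat_lit 32) (.node (nat_lit 16) rows556 rows557) (.node (nat_lit 16) rows558 rows559)))) (.node (nat_lit 128) (.node (nat_lit 64) (.node (nat_lit 32) (.node (nat_lit 16) rows560 rows561) (.node (nat_lit 16) rows562 rows563))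 (.node (nat_lit 32) (.node (nat_lit 16) rows564 rows565) (.node (nat_lit 16) rows566 rows567))) (.node (nat_lit 64) (.node (nat_lit 32) (.node (nat_lit 16) rows568 rows569) (.node (nat_lit 16) rows570 rows571)) (.node (nat_lit 32) (.node (nat_lit 16) rows572 rows573) (.node (nat_lit 16) rows574 rows575)))))) (.node (nat_lit 512) (.node (nat_lit 256) (.node (nat_lit 128) (.node (nat_lit 64) (.node (nat_lit 32) (.node (nat_lit 16) rows576 rows577) (.node (nat_lit 16) rows578 rows579)) (.node (nat_lit 32) (.node (nat_lit 16) rows580 rows581) (.node (nat_lit 16) rows582 rows583))) (.node (nat_lit 64) (.node (nat_lit 32) (.node (nat_lit 16) rows584 rows585) (.node (nat_lit 16) rows586 rows587)) (.node (nat_lit 32) (.node (nat_lit 16) rows588 rows589) (.node (nat_lit 16) rows590 rows591)))) (.node (nat_lit 128) (.node (nat_lit 64) (.node (nat_lit 32) (.node (nat_lit 16) rows592 rows593) (.node (nat_lit 16) rows594 rows595)) (.node (nat_lit 32) (.node (nat_lit 16) rows596 rows597)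 (.node (nat_lit 16) rows598 rows599))) (.node (nat_lit 64) (.node (nat_lit 32) (.node (nat_lit 16) rows600 rows601) (.node (nat_lit 16) rows602 rows603)) (.node (nat_lit 32) (.node (nat_lit 16) rows604 rows605) (.node (nat_lit 16) rows606 rows607))))) (.node (nat_lit 256) (.node (nat_lit 128) (.node (nat_lit 64) (.node (nat_lit 32) (.node (nat_lit 16) rows608 rows609) (.node (nat_lit 16) rows610 rows611)) (.node (nat_lit 32) (.node (nat_lit 16) rows612 rows613) (.node (nat_lit 16) rows614 rows615))) (.node (nat_lit 64) (.node (nat_lit 32) (.node (nat_lit 16) rows616 rows617) (.node (nat_lit 16) rows618 rows619)) (.node (nat_lit 32) (.node (nat_lit 16) rows620 rows621) (.node (nat_lit 16) rows622 rows623)))) (.node (nat_lit 128) (.node (nat_lit 64) (.node (nat_lit 32) (.node (nat_lit 16) rows624 rows625) (.node (nat_lit 16) rows626 rows627)) (.node (nat_lit 32) (.node (nat_lit 16) rows628 rows629) (.node (nat_lit 16) rows630 rows631))) (.node (nat_lit 64) (.node (nat_lit 32)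 (.node (nat_lit 16) rows632 rows633) (.node (nat_lit 16) rows634 rows635)) (.node (nat_lit 32) (.node (nat_lit 16) rows636 rows637) (.node (nat_lit 16) rows638 rows639))))))) (.node (nat_lit 1024) (.node (nat_lit 512) (.node (nat_lit 256) (.node (nat_lit 128) (.node (nat_lit 64) (.node (nat_lit 32) (.node (nat_lit 16) rows640 rows641) (.node (nat_lit 16) rows642 rows643)) (.node (nat_lit 32) (.node (nat_lit 16) rows644 rows645) (.node (nat_lit 16) rows646 rows647))) (.node (nat_lit 64) (.node (nat_lit 32) (.node (nat_lit 16) rows648 rows649) (.node (nat_lit 16) rows650 rows651)) (.node (nat_lit 32) (.node (nat_lit 16) rows652 rows653) (.node (nat_lit 16) rows654 rows655)))) (.node (nat_lit 128) (.node (nat_lit 64) (.node (nat_lit 32) (.node (nat_lit 16) rows656 rows657) (.node (nat_lit 16) rows658 rows659)) (.node (nat_lit 32) (.node (nat_lit 16) rows660 rows661) (.node (nat_lit 16) rows662 rows663))) (.node (nat_lit 64) (.node (nat_lit 32) (.node (nat_lit 16) rows664 rows665)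 (.node (nat_lit 16) rows666 rows667)) (.node (nat_lit 32) (.node (nat_lit 16) rows668 rows669) (.node (nat_lit 16) rows670 rows671))))) (.node (nat_lit 256) (.node (nat_lit 128) (.node (nat_lit 64) (.node (nat_lit 32) (.node (nat_lit 16) rows672 rows673) (.node (nat_lit 16) rows674 rows675)) (.node (nat_lit 32) (.node (nat_lit 16) rows676 rows677) (.node (nat_lit 16) rows678 rows679))) (.node (nat_lit 64) (.node (nat_lit 32) (.node (nat_lit 16) rows680 rows681) (.node (nat_lit 16) rows682 rows683)) (.node (nat_lit 32) (.node (nat_lit 16) rows684 rows685) (.node (nat_lit 16) rows686 rows687)))) (.node (nat_lit 128) (.node (nat_lit 64) (.node (nat_lit 32) (.node (nat_lit 16) rows688 rows689) (.node (nat_lit 16) rows690 rows691)) (.node (nat_lit 32) (.node (nat_lit 16) rows692 rows693) (.node (nat_lit 16) rows694 rows695))) (.node (nat_lit 64) (.node (nat_lit 32) (.node (nat_lit 16) rows696 rows697) (.node (nat_lit 16) rows698 rows699)) (.node (nat_lit 32) (.node (nat_lit 16) rows700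 rows701) (.node (nat_lit 16) rows702 rows703)))))) (.node (nat_lit 512) (.node (nat_lit 256) (.node (nat_lit 128) (.node (nat_lit 64) (.node (nat_lit 32) (.node (nat_lit 16) rows704 rows705) (.node (nat_lit 16) rows706 rows707)) (.node (nat_lit 32) (.node (nat_lit 16) rows708 rows709) (.node (nat_lit 16) rows710 rows711))) (.node (nat_lit 64) (.node (nat_lit 32) (.node (nat_lit 16) rows712 rows713) (.node (nat_lit 16) rows714 rows715)) (.node (nat_lit 32) (.node (nat_lit 16) rows716 rows717) (.node (nat_lit 16) rows718 rows719)))) (.node (nat_lit 128) (.node (nat_lit 64) (.node (nat_lit 32) (.node (nat_lit 16) rows720 rows721) (.node (nat_lit 16) rows722 rows723)) (.node (nat_lit 32) (.node (nat_lit 16) rows724 rows725) (.node (nat_lit 16) rows726 rows727))) (.node (nat_lit 64) (.node (nat_lit 32) (.node (nat_lit 16) rows728 rows729) (.node (nat_lit 16) rows730 rows731)) (.node (nat_lit 32) (.node (nat_lit 16) rows732 rows733) (.node (nat_lit 16) rows734 rows735))))) (.node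 (nat_lit 256) (.node (nat_lit 128) (.node (nat_lit 64) (.node (nat_lit 32) (.node (nat_lit 16) rows736 rows737) (.node (nat_lit 16) rows738 rows739)) (.node (nat_lit 32) (.node (nat_lit 16) rows740 rows741) (.node (nat_lit 16) rows742 rows743))) (.node (nat_lit 64) (.node (nat_lit 32) (.node (nat_lit 16) rows744 rows745) (.node (nat_lit 16) rows746 rows747)) (.node (nat_lit 32) (.node (nat_lit 16) rows748 rows749) (.node (nat_lit 16) rows750 rows751)))) (.node (nat_lit 128) (.node (nat_lit 64) (.node (nat_lit 32) (.node (nat_lit 16) rows752 rows753) (.node (nat_lit 16) rows754 rows755)) (.node (nat_lit 32) (.node (nat_lit 16) rows756 rows757) (.node (nat_lit 16) rows758 rows759))) (.node (nat_lit 64) (.node (nat_lit 32) (.node (nat_lit 16) rows760 rows761) (.node (nat_lit 16) rows762 rows763)) (.node (nat_lit 32) (.node (nat_lit 16) rows764 rows765) (.node (nat_lit 16) rows766 rows767)))))))) (.node (nat_lit 2048) (.node (nat_lit 1024) (.node (nat_lit 512) (.node (nat_lit 256)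 (.node (nat_lit 128) (.node (nat_lit 64) (.node (nat_lit 32) (.node (nat_lit 16) rows768 rows769) (.node (nat_lit 16) rows770 rows771)) (.node (nat_lit 32) (.node (nat_lit 16) rows772 rows773) (.node (nat_lit 16) rows774 rows775))) (.node (nat_lit 64) (.node (nat_lit 32) (.node (nat_lit 16) rows776 rows777) (.node (nat_lit 16) rows778 rows779)) (.node (nat_lit 32) (.node (nat_lit 16) rows780 rows781) (.node (nat_lit 16) rows782 rows783)))) (.node (nat_lit 128) (.node (nat_lit 64) (.node (nat_lit 32) (.node (nat_lit 16) rows784 rows785) (.node (nat_lit 16) rows786 rows787)) (.node (nat_lit 32) (.node (nat_lit 16) rows788 rows789) (.node (nat_lit 16) rows790 rows791))) (.node (nat_lit 64) (.node (nat_lit 32) (.node (nat_lit 16) rows792 rows793) (.node (nat_lit 16) rows794 rows795)) (.node (nat_lit 32) (.node (nat_lit 16) rows796 rows797) (.node (nat_lit 16) rows798 rows799))))) (.node (nat_lit 256) (.node (nat_lit 128) (.node (nat_lit 64) (.node (nat_lit 32) (.node (nat_lit 16)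 rows800 rows801) (.node (nat_lit 16) rows802 rows803)) (.node (nat_lit 32) (.node (nat_lit 16) rows804 rows805) (.node (nat_lit 16) rows806 rows807))) (.node (nat_lit 64) (.node (nat_lit 32) (.node (nat_lit 16) rows808 rows809) (.node (nat_lit 16) rows810 rows811)) (.node (nat_lit 32) (.node (nat_lit 16) rows812 rows813) (.node (nat_lit 16) rows814 rows815)))) (.node (nat_lit 128) (.node (nat_lit 64) (.node (nat_lit 32) (.node (nat_lit 16) rows816 rows817) (.node (nat_lit 16) rows818 rows819)) (.node (nat_lit 32) (.node (nat_lit 16) rows820 rows821) (.node (nat_lit 16) rows822 rows823))) (.node (nat_lit 64) (.node (nat_lit 32) (.node (nat_lit 16) rows824 rows825) (.node (nat_lit 16) rows826 rows827)) (.node (nat_lit 32) (.node (nat_lit 16) rows828 rows829) (.node (nat_lit 16) rows830 rows831)))))) (.node (nat_lit 512) (.node (nat_lit 256) (.node (nat_lit 128) (.node (nat_lit 64) (.node (nat_lit 32) (.node (nat_lit 16) rows832 rows833) (.node (nat_lit 16) rows834 rows835)) (.node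 (nat_lit 32) (.node (nat_lit 16) rows836 rows837) (.node (nat_lit 16) rows838 rows839))) (.node (nat_lit 64) (.node (nat_lit 32) (.node (nat_lit 16) rows840 rows841) (.node (nat_lit 16) rows842 rows843)) (.node (nat_lit 32) (.node (nat_lit 16) rows844 rows845) (.node (nat_lit 16) rows846 rows847)))) (.node (nat_lit 128) (.node (nat_lit 64) (.node (nat_lit 32) (.node (nat_lit 16) rows848 rows849) (.node (nat_lit 16) rows850 rows851)) (.node (nat_lit 32) (.node (nat_lit 16) rows852 rows853) (.node (nat_lit 16) rows854 rows855))) (.node (nat_lit 64) (.node (nat_lit 32) (.node (nat_lit 16) rows856 rows857) (.node (nat_lit 16) rows858 rows859)) (.node (nat_lit 32) (.node (nat_lit 16) rows860 rows861) (.node (nat_lit 16) rows862 rows863))))) (.node (nat_lit 256) (.node (nat_lit 128) (.node (nat_lit 64) (.node (nat_lit 32) (.node (nat_lit 16) rows864 rows865) (.node (nat_lit 16) rows866 rows867)) (.node (nat_lit 32) (.node (nat_lit 16) rows868 rows869) (.node (nat_lit 16) rows870 rows871)))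 (.node (nat_lit 64) (.node (nat_lit 32) (.node (nat_lit 16) rows872 rows873) (.node (nat_lit 16) rows874 rows875)) (.node (nat_lit 32) (.node (nat_lit 16) rows876 rows877) (.node (nat_lit 16) rows878 rows879)))) (.node (nat_lit 128) (.node (nat_lit 64) (.node (nat_lit 32) (.node (nat_lit 16) rows880 rows881) (.node (nat_lit 16) rows882 rows883)) (.node (nat_lit 32) (.node (nat_lit 16) rows884 rows885) (.node (nat_lit 16) rows886 rows887))) (.node (nat_lit 64) (.node (nat_lit 32) (.node (nat_lit 16) rows888 rows889) (.node (nat_lit 16) rows890 rows891)) (.node (nat_lit 32) (.node (nat_lit 16) rows892 rows893) (.node (nat_lit 16) rows894 rows895))))))) (.node (nat_lit 1024) (.node (nat_lit 512) (.node (nat_lit 256) (.node (nat_lit 128) (.node (nat_lit 64) (.node (nat_lit 32) (.node (nat_lit 16) rows896 rows897) (.node (nat_lit 16) rows898 rows899)) (.node (nat_lit 32) (.node (nat_lit 16) rows900 rows901) (.node (nat_lit 16) rows902 rows903))) (.node (nat_lit 64) (.node (nat_lit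 32) (.node (nat_lit 16) rows904 rows905) (.node (nat_lit 16) rows906 rows907)) (.node (nat_lit 32) (.node (nat_lit 16) rows908 rows909) (.node (nat_lit 16) rows910 rows911)))) (.node (nat_lit 128) (.node (nat_lit 64) (.node (nat_lit 32) (.node (nat_lit 16) rows912 rows913) (.node (nat_lit 16) rows914 rows915)) (.node (nat_lit 32) (.node (nat_lit 16) rows916 rows917) (.node (nat_lit 16) rows918 rows919))) (.node (nat_lit 64) (.node (nat_lit 32) (.node (nat_lit 16) rows920 rows921) (.node (nat_lit 16) rows922 rows923)) (.node (nat_lit 32) (.node (nat_lit 16) rows924 rows925) (.node (nat_lit 16) rows926 rows927))))) (.node (nat_lit 256) (.node (nat_lit 128) (.node (nat_lit 64) (.node (nat_lit 32) (.node (nat_lit 16) rows928 rows929) (.node (nat_lit 16) rows930 rows931)) (.node (nat_lit 32) (.node (nat_lit 16) rows932 rows933) (.node (nat_lit 16) rows934 rows935))) (.node (nat_lit 64) (.node (nat_lit 32) (.node (nat_lit 16) rows936 rows937) (.node (nat_lit 16) rows938 rows939))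 (.node (nat_lit 32) (.node (nat_lit 16) rows940 rows941) (.node (nat_lit 16) rows942 rows943)))) (.node (nat_lit 128) (.node (nat_lit 64) (.node (nat_lit 32) (.node (nat_lit 16) rows944 rows945) (.node (nat_lit 16) rows946 rows947)) (.node (nat_lit 32) (.node (nat_lit 16) rows948 rows949) (.node (nat_lit 16) rows950 rows951))) (.node (nat_lit 64) (.node (nat_lit 32) (.node (nat_lit 16) rows952 rows953) (.node (nat_lit 16) rows954 rows955)) (.node (nat_lit 32) (.node (nat_lit 16) rows956 rows957) (.node (nat_lit 16) rows958 rows959)))))) (.node (nat_lit 512) (.node (nat_lit 256) (.node (nat_lit 128) (.node (nat_lit 64) (.node (nat_lit 32) (.node (nat_lit 16) rows960 rows961) (.node (nat_lit 16) rows962 rows963)) (.node (nat_lit 32) (.node (nat_lit 16) rows964 rows965) (.node (nat_lit 16) rows966 rows967))) (.node (nat_lit 64) (.node (nat_lit 32) (.node (nat_lit 16) rows968 rows969) (.node (nat_lit 16) rows970 rows971)) (.node (nat_lit 32) (.node (nat_lit 16) rows972 rows973)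 (.node (nat_lit 16) rows974 rows975)))) (.node (nat_lit 128) (.node (nat_lit 64) (.node (nat_lit 32) (.node (nat_lit 16) rows976 rows977) (.node (nat_lit 16) rows978 rows979)) (.node (nat_lit 32) (.node (nat_lit 16) rows980 rows981) (.node (nat_lit 16) rows982 rows983))) (.node (nat_lit 64) (.node (nat_lit 32) (.node (nat_lit 16) rows984 rows985) (.node (nat_lit 16) rows986 rows987)) (.node (nat_lit 32) (.node (nat_lit 16) rows988 rows989) (.node (nat_lit 16) rows990 rows991))))) (.node (nat_lit 256) (.node (nat_lit 128) (.node (nat_lit 64) (.node (nat_lit 32) (.node (nat_lit 16) rows992 rows993) (.node (nat_lit 16) rows994 rows995)) (.node (nat_lit 32) (.node (nat_lit 16) rows996 rows997) (.node (nat_lit 16) rows998 rows999))) (.node (nat_lit 64) (.node (nat_lit 32) (.node (nat_lit 16) rows1000 rows1001) (.node (nat_lit 16) rows1002 rows1003)) (.node (nat_lit 32) (.node (nat_lit 16) rows1004 rows1005) (.node (nat_lit 16) rows1006 rows1007)))) (.node (nat_lit 128) (.node (nat_lit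 64) (.node (nat_lit 32) (.node (nat_lit 16) rows1008 rows1009) (.node (nat_lit 16) rows1010 rows1011)) (.node (nat_lit 32) (.node (nat_lit 16) rows1012 rows1013) (.node (nat_lit 16) rows1014 rows1015))) (.node (nat_lit 64) (.node (nat_lit 32) (.node (nat_lit 16) rows1016 rows1017) (.node (nat_lit 16) rows1018 rows1019)) (.node (nat_lit 32) (.node (nat_lit 16) rows1020 rows1021) (.node (nat_lit 16) rows1022 rows1023)))))))))) (.node (nat_lit 2048) (.node (nat_lit 1024) (.node (nat_lit 512) (.node (nat_lit 256) (.node (nat_lit 128) (.node (nat_lit 64) (.node (nat_lit 32) (.node (nat_lit 16) rows1024 rows1025) (.node (nat_lit 16) rows1026 rows1027)) (.node (nat_lit 32) (.node (nat_lit 16) rows1028 rows1029) (.node (nat_lit 16) rows1030 rows1031))) (.node (nat_lit 64) (.node (nat_lit 32) (.node (nat_lit 16) rows1032 rows1033) (.node (nat_lit 16) rows1034 rows1035)) (.node (nat_lit 32) (.node (nat_lit 16) rows1036 rows1037) (.node (nat_lit 16) rows1038 rows1039)))) (.node (nat_lit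 128) (.node (nat_lit 64) (.node (nat_lit 32) (.node (nat_lit 16) rows1040 rows1041) (.node (nat_lit 16) rows1042 rows1043)) (.node (nat_lit 32) (.node (nat_lit 16) rows1044 rows1045) (.node (nat_lit 16) rows1046 rows1047))) (.node (nat_lit 64) (.node (nat_lit 32) (.node (nat_lit 16) rows1048 rows1049) (.node (nat_lit 16) rows1050 rows1051)) (.node (nat_lit 32) (.node (nat_lit 16) rows1052 rows1053) (.node (nat_lit 16) rows1054 rows1055))))) (.node (nat_lit 256) (.node (nat_lit 128) (.node (nat_lit 64) (.node (nat_lit 32) (.node (nat_lit 16) rows1056 rows1057) (.node (nat_lit 16) rows1058 rows1059)) (.node (nat_lit 32) (.node (nat_lit 16) rows1060 rows1061) (.node (nat_lit 16) rows1062 rows1063))) (.node (nat_lit 64) (.node (nat_lit 32) (.node (nat_lit 16) rows1064 rows1065) (.node (nat_lit 16) rows1066 rows1067)) (.node (nat_lit 32) (.node (nat_lit 16) rows1068 rows1069) (.node (nat_lit 16) rows1070 rows1071)))) (.node (nat_lit 128) (.node (nat_lit 64) (.node (nat_lit 32) (.node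 (nat_lit 16) rows1072 rows1073) (.node (nat_lit 16) rows1074 rows1075)) (.node (nat_lit 32) (.node (nat_lit 16) rows1076 rows1077) (.node (nat_lit 16) rows1078 rows1079))) (.node (nat_lit 64) (.node (nat_lit 32) (.node (nat_lit 16) rows1080 rows1081) (.node (nat_lit 16) rows1082 rows1083)) (.node (nat_lit 32) (.node (nat_lit 16) rows1084 rows1085) (.node (nat_lit 16) rows1086 rows1087)))))) (.node (nat_lit 512) (.node (nat_lit 256) (.node (nat_lit 128) (.node (nat_lit 64) (.node (nat_lit 32) (.node (nat_lit 16) rows1088 rows1089) (.node (nat_lit 16) rows1090 rows1091)) (.node (nat_lit 32) (.node (nat_lit 16) rows1092 rows1093) (.node (nat_lit 16) rows1094 rows1095))) (.node (nat_lit 64) (.node (nat_lit 32) (.node (nat_lit 16) rows1096 rows1097) (.node (nat_lit 16) rows1098 rows1099)) (.node (nat_lit 32) (.node (nat_lit 16) rows1100 rows1101) (.node (nat_lit 16) rows1102 rows1103)))) (.node (nat_lit 128) (.node (nat_lit 64) (.node (nat_lit 32) (.node (nat_lit 16) rows1104 rows1105)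 (.node (nat_lit 16) rows1106 rows1107)) (.node (nat_lit 32) (.node (nat_lit 16) rows1108 rows1109) (.node (nat_lit 16) rows1110 rows1111))) (.node (nat_lit 64) (.node (nat_lit 32) (.node (nat_lit 16) rows1112 rows1113) (.node (nat_lit 16) rows1114 rows1115)) (.node (nat_lit 32) (.node (nat_lit 16) rows1116 rows1117) (.node (nat_lit 16) rows1118 rows1119))))) (.node (nat_lit 256) (.node (nat_lit 128) (.node (nat_lit 64) (.node (nat_lit 32) (.node (nat_lit 16) rows1120 rows1121) (.node (nat_lit 16) rows1122 rows1123)) (.node (nat_lit 32) (.node (nat_lit 16) rows1124 rows1125) (.node (nat_lit 16) rows1126 rows1127))) (.node (nat_lit 64) (.node (nat_lit 32) (.node (nat_lit 16) rows1128 rows1129) (.node (nat_lit 16) rows1130 rows1131)) (.node (nat_lit 32) (.node (nat_lit 16) rows1132 rows1133) (.node (nat_lit 16) rows1134 rows1135)))) (.node (nat_lit 128) (.node (nat_lit 64) (.node (nat_lit 32) (.node (nat_lit 16) rows1136 rows1137) (.node (nat_lit 16) rows1138 rows1139)) (.node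 (nat_lit 32) (.node (nat_lit 16) rows1140 rows1141) (.node (nat_lit 16) rows1142 rows1143))) (.node (nat_lit 64) (.node (nat_lit 32) (.node (nat_lit 16) rows1144 rows1145) (.node (nat_lit 16) rows1146 rows1147)) (.node (nat_lit 32) (.node (nat_lit 16) rows1148 rows1149) (.node (nat_lit 16) rows1150 rows1151))))))) (.node (nat_lit 512) (.node (nat_lit 256) (.node (nat_lit 128) (.node (nat_lit 64) (.node (nat_lit 32) (.node (nat_lit 16) rows1152 rows1153) (.node (nat_lit 16) rows1154 rows1155)) (.node (nat_lit 32) (.node (nat_lit 16) rows1156 rows1157) (.node (nat_lit 16) rows1158 rows1159))) (.node (nat_lit 64) (.node (nat_lit 32) (.node (nat_lit 16) rows1160 rows1161) (.node (nat_lit 16) rows1162 rows1163)) (.node (nat_lit 32) (.node (nat_lit 16) rows1164 rows1165) (.node (nat_lit 16) rows1166 rows1167)))) (.node (nat_lit 128) (.node (nat_lit 64) (.node (nat_lit 32) (.node (nat_lit 16) rows1168 rows1169) (.node (nat_lit 16) rows1170 rows1171)) (.node (nat_lit 32) (.node (nat_lit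 16) rows1172 rows1173) (.node (nat_lit 16) rows1174 rows1175))) (.node (nat_lit 64) (.node (nat_lit 32) (.node (nat_lit 16) rows1176 rows1177) (.node (nat_lit 16) rows1178 rows1179)) (.node (nat_lit 32) (.node (nat_lit 16) rows1180 rows1181) (.node (nat_lit 16) rows1182 rows1183))))) (.node (nat_lit 128) (.node (nat_lit 64) (.node (nat_lit 32) (.node (nat_lit 16) rows1184 rows1185) (.node (nat_lit 16) rows1186 rows1187)) (.node (nat_lit 32) (.node (nat_lit 16) rows1188 rows1189) (.node (nat_lit 16) rows1190 rows1191))) (.node (nat_lit 64) (.node (nat_lit 32) (.node (nat_lit 16) rows1192 rows1193) (.node (nat_lit 16) rows1194 rows1195)) (.node (nat_lit 32) (.node (nat_lit 16) rows1196 rows1197) rows1198))))))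
noncomputable def recs : Tr ℕ := (.node (nat_lit 1024) (.node (nat_lit 512) (.node (nat_lit 256) (.node (nat_lit 128) (.node (nat_lit 64) (.node (nat_lit 32) (.node (nat_lit 16) recs0 recs1) (.node (nat_lit 16) recs2 recs3)) (.node (nat_lit 32) (.node (nat_lit 16) recs4 recs5) (.node (nat_lit 16) recs6 recs7))) (.node (nat_lit 64) (.node (nat_lit 32) (.node (nat_lit 16) recs8 recs9) (.node (nat_lit 16) recs10 recs11)) (.node (nat_lit 32) (.node (nat_lit 16) recs12 recs13) (.node (nat_lit 16) recs14 recs15)))) (.node (nat_lit 128) (.node (nat_lit 64) (.node (nat_lit 32) (.node (nat_lit 16) recs16 recs17) (.node (nat_lit 16) recs18 recs19)) (.node (nat_lit 32) (.node (nat_lit 16) recs20 recs21) (.node (nat_lit 16) recs22 recs23))) (.node (nat_lit 64) (.node (nat_lit 32) (.node (nat_lit 16) recs24 recs25) (.node (nat_lit 16) recs26 recs27)) (.node (nat_lit 32) (.node (nat_lit 16) recs28 recs29) (.node (nat_lit 16) recs30 recs31))))) (.node (nat_lit 256) (.node (nat_lit 128) (.node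 (nat_lit 64) (.node (nat_lit 32) (.node (nat_lit 16) recs32 recs33) (.node (nat_lit 16) recs34 recs35)) (.node (nat_lit 32) (.node (nat_lit 16) recs36 recs37) (.node (nat_lit 16) recs38 recs39))) (.node (nat_lit 64) (.node (nat_lit 32) (.node (nat_lit 16) recs40 recs41) (.node (nat_lit 16) recs42 recs43)) (.node (nat_lit 32) (.node (nat_lit 16) recs44 recs45) (.node (nat_lit 16) recs46 recs47)))) (.node (nat_lit 128) (.node (nat_lit 64) (.node (nat_lit 32) (.node (nat_lit 16) recs48 recs49) (.node (nat_lit 16) recs50 recs51)) (.node (nat_lit 32) (.node (nat_lit 16) recs52 recs53) (.node (nat_lit 16) recs54 recs55))) (.node (nat_lit 64) (.node (nat_lit 32) (.node (nat_lit 16) recs56 recs57) (.node (nat_lit 16) recs58 recs59)) (.node (nat_lit 32) (.node (nat_lit 16) recs60 recs61) (.node (nat_lit 16) recs62 recs63)))))) (.node (nat_lit 256) (.node (nat_lit 128) (.node (nat_lit 64) (.node (nat_lit 32) (.node (nat_lit 16) recs64 recs65) (.node (nat_lit 16) recs66 recs67)) (.node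 (nat_lit 32) (.node (nat_lit 16) recs68 recs69) (.node (nat_lit 16) recs70 recs71))) (.node (nat_lit 64) (.node (nat_lit 32) (.node (nat_lit 16) recs72 recs73) (.node (nat_lit 16) recs74 recs75)) (.node (nat_lit 32) (.node (nat_lit 16) recs76 recs77) (.node (nat_lit 16) recs78 recs79)))) (.node (nat_lit 64) (.node (nat_lit 32) (.node (nat_lit 16) recs80 recs81) (.node (nat_lit 16) recs82 recs83)) recs84)))
noncomputable def ci0 : CI := ⟨[], (nat_lit 0), false, (.node (nat_lit 1) (.leaf Rule.defn) (.leaf Rule.copy)), (.node (nat_lit 64) (.node (nat_lit 32) (.node (nat_lit 16) (.node (nat_lit 8) (.node (nat_lit 4) (.node (nat_lit 2) (.node (nat_lit 1) (.leaf (XRule.rot (nat_lit 0) [] 136 0)) (.leaf (XRule.rot (nat_lit 56065315036) [220, 52, 220, 52] 28 1))) (.node (nat_lit 1) (.leaf (XRule.rot (nat_lit 268550) [262, 262] 136 0)) (.leaf (XRule.rot (nat_lit 10250) [10, 10] 136 0)))) (.node (nat_lit 2) (.node (nat_lit 1) (.leaf (XRule.rot (nat_lit 96350) [94, 94] 136 0)) (.leaf (XRule.rot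 (nat_lit 311600) [304, 304] 136 0))) (.node (nat_lit 1) (.leaf (XRule.rot (nat_lit 354650) [346, 346] 136 0)) (.leaf (XRule.rot (nat_lit 483800) [472, 472] 136 0))))) (.node (nat_lit 4) (.node (nat_lit 2) (.node (nat_lit 1) (.leaf (XRule.rot (nat_lit 53300) [52, 52] 136 0)) (.leaf (XRule.rot (nat_lit 139400) [136, 136] 136 0))) (.node (nat_lit 1) (.leaf (XRule.rot (nat_lit 182450) [178, 178] 136 0)) (.leaf (XRule.rot (nat_lit 440750) [430, 430] 136 0)))) (.node (nat_lit 2) (.node (nat_lit 1) (.leaf (XRule.rot (nat_lit 225500) [220, 220] 136 0)) (.leaf (XRule.rot (nat_lit 419410295536698619104409353808689765936887508348688655561110040761790876896380327160422329512600410280593057681859544591045692062218791677539575068407427256754745068195660987370503082730635694) [430, 304, 262, 220, 178, 136, 94, 10, 430, 304, 262, 220, 178, 136, 94, 430, 304, 262, 220, 178, 136, 94, 430, 304, 262, 220, 178, 136, 94, 430, 304, 262, 220, 178, 136, 94, 430, 304, 262, 220, 178, 136, 94, 430, 304,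 262, 220, 178, 136, 94, 430, 304, 262, 220, 178, 136, 94, 430, 304, 262, 220, 178, 136, 94] 132 57))) (.node (nat_lit 1) (.leaf (XRule.rot (nat_lit 397700) [388, 388] 136 0)) (.leaf (XRule.rot (nat_lit 281375152180) [52, 262, 52, 262] 30 0)))))) (.node (nat_lit 8) (.node (nat_lit 4) (.node (nat_lit 2) (.node (nat_lit 1) (.leaf (XRule.rot (nat_lit 484379314440550620) [220, 430, 220, 430, 220, 430] 92 0)) (.leaf (XRule.rot (nat_lit 153318246616015026) [178, 136, 178, 136, 178, 136] 60 1))) (.node (nat_lit 1) (.leaf (XRule.rot (nat_lit 101250595120) [304, 94, 304, 94] 52 1)) (.leaf (XRule.rot (nat_lit 146479915438) [430, 136, 430, 136] 66 1)))) (.node (nat_lit 2) (.node (nat_lit 1) (.leaf (XRule.rot (nat_lit 200559908268198024) [136, 178, 136, 178, 136, 178] 60 0)) (.leaf (XRule.rot (nat_lit 506861150260) [52, 472, 52, 472] 40 0))) (.node (nat_lit 1) (.leaf (XRule.rot (nat_lit 981353128553074778933995700732904154857261829426355521501879066403208622861570220682067148813771850453053435176423726832671088390383832318963864275012497944215756583638566477143471543552188594)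 [178, 136, 94, 430, 304, 262, 220, 178, 136, 94, 430, 304, 262, 220, 178, 136, 94, 430, 304, 262, 220, 178, 136, 94, 430, 304, 262, 220, 178, 136, 94, 430, 304, 262, 220, 178, 136, 94, 430, 304, 262, 220, 178, 136, 94, 10, 430, 304, 262, 220, 178, 136, 94, 430, 304, 262, 220, 178, 136, 94, 430, 304, 262, 220] 132 19)) (.leaf (XRule.rot (nat_lit 146083553332) [52, 136, 52, 136] 24 0))))) (.node (nat_lit 4) (.node (nat_lit 2) (.node (nat_lit 1) (.leaf (XRule.rot (nat_lit 146259714268) [220, 136, 220, 136] 62 1)) (.leaf (XRule.rot (nat_lit 200652267333011676) [220, 178, 220, 178, 220, 178] 76 1))) (.node (nat_lit 1) (.leaf (XRule.rot (nat_lit 247893928985194674) [178, 220, 178, 220, 178, 220] 76 0)) (.leaf (XRule.rot (nat_lit 247986288050008326) [262, 220, 262, 220, 262, 220] 90 1)))) (.node (nat_lit 2) (.node (nat_lit 1) (.leaf (XRule.rot (nat_lit 281771514286) [430, 262, 430, 262] 102 1)) (.leaf (XRule.rot (nat_lit 326868713902) [430, 304, 430, 304] 112 0))) (.node (nat_lit 1)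 (.leaf (XRule.rot (nat_lit 295227949702191324) [220, 262, 220, 262, 220, 262] 90 0)) (.leaf (XRule.rot (nat_lit 326648512732) [220, 304, 220, 304] 94 0))))))) (.node (nat_lit 16) (.node (nat_lit 8) (.node (nat_lit 4) (.node (nat_lit 2) (.node (nat_lit 1) (.leaf (XRule.rot (nat_lit 191400954118) [262, 178, 262, 178] 78 1)) (.leaf (XRule.rot (nat_lit 461852031112) [136, 430, 136, 430] 66 0))) (.node (nat_lit 1) (.leaf (XRule.rot (nat_lit 371745712348) [220, 346, 220, 346] 96 0)) (.leaf (XRule.rot (nat_lit 326604472498) [178, 304, 178, 304] 82 0)))) (.node (nat_lit 2) (.node (nat_lit 1) (.leaf (XRule.rot (nat_lit 295320308767004976) [304, 262, 304, 262, 304, 262] 104 1)) (.leaf (XRule.rot (nat_lit 461896071346) [178, 430, 178, 430] 80 0))) (.node (nat_lit 1) (.leaf (XRule.rot (nat_lit 461984151814) [262, 430, 262, 430] 102 0)) (.leaf (XRule.rot (nat_lit 371701672114) [178, 346, 178, 346] 84 0))))) (.node (nat_lit 4) (.node (nat_lit 2) (.node (nat_lit 1) (.leaf (XRule.rot (nat_lit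 236586234202) [346, 220, 346, 220] 96 1)) (.leaf (XRule.rot (nat_lit 342561970419187974) [262, 304, 262, 304, 262, 304] 104 0))) (.node (nat_lit 1) (.leaf (XRule.rot (nat_lit 281507272882) [178, 262, 178, 262] 78 0)) (.leaf (XRule.rot (nat_lit 10924075186) [178, 10, 178, 10] 6 1)))) (.node (nat_lit 2) (.node (nat_lit 1) (.leaf (XRule.rot (nat_lit 11012155654) [262, 10, 262, 10] 10 1)) (.leaf (XRule.rot (nat_lit 236366033032) [136, 220, 136, 220] 62 0))) (.node (nat_lit 1) (.leaf (XRule.rot (nat_lit 191577115054) [430, 178, 430, 178] 80 1)) (.leaf (XRule.rot (nat_lit 371965913518) [430, 346, 430, 346] 114 0)))))) (.node (nat_lit 8) (.node (nat_lit 4) (.node (nat_lit 2) (.node (nat_lit 1) (.leaf (XRule.rot (nat_lit 236321992798) [94, 220, 94, 220] 46 0)) (.leaf (XRule.rot (nat_lit 371789752582) [262, 346, 262, 346] 106 0))) (.node (nat_lit 1) (.leaf (XRule.rot (nat_lit 236542193968) [304, 220, 304, 220] 94 1)) (.leaf (XRule.rot (nat_lit 105891866834204724) [52, 94, 52, 94, 52,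 94] 22 0)))) (.node (nat_lit 2) (.node (nat_lit 1) (.leaf (XRule.rot (nat_lit 326560432264) [136, 304, 136, 304] 68 0)) (.leaf (XRule.rot (nat_lit 101118474418) [178, 94, 178, 94] 44 1))) (.node (nat_lit 1) (.leaf (XRule.rot (nat_lit 794038850649710765329162638198617929673683531366865256996916488698614920067292489056882500423842920256547395641719608421974330310482540166936999722773144877293977398756424624231338324422391944) [136, 94, 430, 304, 262, 220, 178, 136, 94, 10, 430, 304, 262, 220, 178, 136, 94, 430, 304, 262, 220, 178, 136, 94, 430, 304, 262, 220, 178, 136, 94, 430, 304, 262, 220, 178, 136, 94, 430, 304, 262, 220, 178, 136, 94, 430, 304, 262, 220, 178, 136, 94, 430, 304, 262, 220, 178, 136, 94, 430, 304, 262, 220, 178] 132 55)) (.leaf (XRule.rot (nat_lit 484656391634991576) [472, 430, 472, 430, 472, 430] 118 1))))) (.node (nat_lit 4) (.node (nat_lit 2) (.node (nat_lit 1) (.leaf (XRule.rot (nat_lit 191180752948) [52, 178, 52, 178] 26 0)) (.leaf (XRule.rot (nat_lit 461763950644)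 [52, 430, 52, 430] 32 0))) (.node (nat_lit 1) (.leaf (XRule.rot (nat_lit 153225887551201374) [94, 136, 94, 136, 94, 136] 42 0)) (.leaf (XRule.rot (nat_lit 416666751028) [52, 388, 52, 388] 38 0)))) (.node (nat_lit 2) (.node (nat_lit 1) (.leaf (XRule.rot (nat_lit 462028192048) [304, 430, 304, 430] 112 1)) (.leaf (XRule.rot (nat_lit 281727474052) [388, 262, 388, 262] 108 1))) (.node (nat_lit 1) (.leaf (XRule.rot (nat_lit 462116272516) [388, 430, 388, 430] 116 1)) (.leaf (XRule.rot (nat_lit 531898053287174574) [430, 472, 430, 472, 430, 472] 118 0)))))))) (.node (nat_lit 8) (.node (nat_lit 4) (.node (nat_lit 2) (.node (nat_lit 1) (.leaf (XRule.rot (nat_lit 191224793182) [94, 178, 94, 178] 44 0)) (.leaf (XRule.rot (nat_lit 326516392030) [94, 304, 94, 304] 52 0))) (.node (nat_lit 1) (.leaf (XRule.rot (nat_lit 101338675588) [388, 94, 388, 94] 56 1)) (.leaf (XRule.rot (nat_lit 191489034586) [346, 178, 346, 178] 84 1)))) (.node (nat_lit 2) (.node (nat_lit 1) (.leaf (XRule.rot (nat_lit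 56197435738) [346, 52, 346, 52] 36 1)) (.leaf (XRule.rot (nat_lit 10880034952) [136, 10, 136, 10] 4 1))) (.node (nat_lit 1) (.leaf (XRule.rot (nat_lit 11100236122) [346, 10, 346, 10] 16 1)) (.leaf (XRule.rot (nat_lit 191444994352) [304, 178, 304, 178] 82 1))))) (.node (nat_lit 4) (.node (nat_lit 2) (.node (nat_lit 1) (.leaf (XRule.rot (nat_lit 507037311196) [220, 472, 220, 472] 100 0)) (.leaf (XRule.rot (nat_lit 191533074820) [388, 178, 388, 178] 86 1))) (.node (nat_lit 1) (.leaf (XRule.rot (nat_lit 105984225899018376) [136, 94, 136, 94, 136, 94] 42 1)) (.leaf (XRule.rot (nat_lit 389895991136184624) [304, 346, 304, 346, 304, 346] 120 0)))) (.leaf (XRule.rot (nat_lit 437230011853181274) [346, 388, 346, 388, 346, 388] 126 0)))))⟩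
noncomputable def ci10 : CI := ⟨[0], (nat_lit 10), true, (.node (nat_lit 8) (.node (nat_lit 4) (.node (nat_lit 2) (.node (nat_lit 1) (.leaf Rule.defn) (.leaf Rule.copy)) (.node (nat_lit 1) (.leaf (Rule.fwd [nat_lit 10] 136 0)) (.leaf (Rule.fwd [nat_lit 94, nat_lit 10, nat_lit 94] 2 0)))) (.node (nat_lit 2) (.node (nat_lit 1) (.leaf (Rule.fwd [nat_lit 52, nat_lit 10, nat_lit 52, nat_lit 10, nat_lit 52] 0 0)) (.leaf (Rule.fwd [nat_lit 136, nat_lit 10, nat_lit 136] 4 0))) (.node (nat_lit 1) (.leaf (Rule.fwd [nat_lit 178, nat_lit 10, nat_lit 178] 6 0)) (.leaf (Rule.fwd [nat_lit 220, nat_lit 10, nat_lit 220] 8 0))))) (.node (nat_lit 4) (.node (nat_lit 2) (.node (nat_lit 1) (.leaf (Rule.fwd [nat_lit 262, nat_lit 10, nat_lit 262] 10 0)) (.leaf (Rule.fwd [nat_lit 430, nat_lit 10, nat_lit 430] 12 0))) (.node (nat_lit 1) (.leaf (Rule.fwd [nat_lit 304, nat_lit 10, nat_lit 304] 14 0)) (.leaf (Rule.fwd [nat_lit 472, nat_lit 10, nat_lit 472] 20 0)))) (.node (nat_lit 1) (.leaf (Rule.fwd [nat_lit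 346, nat_lit 10, nat_lit 346] 16 0)) (.leaf (Rule.fwd [nat_lit 388, nat_lit 10, nat_lit 388] 18 0))))), (.node (nat_lit 8) (.node (nat_lit 4) (.node (nat_lit 2) (.node (nat_lit 1) (.leaf XRule.defn) (.leaf XRule.ax)) (.node (nat_lit 1) (.leaf (XRule.rot (nat_lit 494938584) [472, 10, 472] 20 0)) (.leaf (XRule.rot (nat_lit 10) [10] 136 0)))) (.node (nat_lit 2) (.node (nat_lit 1) (.leaf (XRule.rot (nat_lit 318777648) [304, 10, 304] 14 0)) (.leaf (XRule.rot (nat_lit 230697180) [220, 10, 220] 8 0))) (.node (nat_lit 1) (.leaf (XRule.rot (nat_lit 274737414) [262, 10, 262] 10 0)) (.leaf (XRule.rot (nat_lit 186656946) [178, 10, 178] 6 0))))) (.node (nat_lit 4) (.node (nat_lit 2) (.node (nat_lit 1) (.leaf (XRule.rot (nat_lit 142616712) [136, 10, 136] 4 0)) (.leaf (XRule.rot (nat_lit 362817882) [346, 10, 346] 16 0))) (.node (nat_lit 1) (.leaf (XRule.rot (nat_lit 450898350) [430, 10, 430] 12 0)) (.leaf (XRule.rot (nat_lit 98576478) [94, 10, 94] 2 0)))) (.node (nat_lit 1) (.leaf (XRule.rot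 (nat_lit 406858116) [388, 10, 388] 18 0)) (.leaf (XRule.rot (nat_lit 57185396598836) [52, 10, 52, 10, 52] 0 0)))))⟩
noncomputable def ci52 : CI := ⟨[1], (nat_lit 52), false, (.node (nat_lit 8) (.node (nat_lit 4) (.node (nat_lit 2) (.node (nat_lit 1) (.leaf Rule.defn) (.leaf Rule.copy)) (.node (nat_lit 1) (.leaf (Rule.fwd [nat_lit 52] 136 0)) (.leaf (Rule.fwd [nat_lit 10, nat_lit 52, nat_lit 10, nat_lit 52, nat_lit 10] 0 1)))) (.node (nat_lit 2) (.node (nat_lit 1) (.leaf (Rule.fwd [nat_lit 94, nat_lit 52, nat_lit 94, nat_lit 52, nat_lit 94] 22 0)) (.leaf (Rule.fwd [nat_lit 136, nat_lit 52, nat_lit 136] 24 0))) (.node (nat_lit 1) (.leaf (Rule.fwd [nat_lit 178, nat_lit 52, nat_lit 178] 26 0)) (.leaf (Rule.fwd [nat_lit 220, nat_lit 52, nat_lit 220] 28 0))))) (.node (nat_lit 4) (.node (nat_lit 2) (.node (nat_lit 1) (.leaf (Rule.fwd [nat_lit 262, nat_lit 52, nat_lit 262] 30 0)) (.leaf (Rule.fwd [nat_lit 430, nat_lit 52, nat_lit 430] 32 0))) (.node (nat_lit 1) (.leaf (Rule.fwd [nat_lit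 304, nat_lit 52, nat_lit 304] 34 0)) (.leaf (Rule.fwd [nat_lit 472, nat_lit 52, nat_lit 472] 40 0)))) (.node (nat_lit 1) (.leaf (Rule.fwd [nat_lit 346, nat_lit 52, nat_lit 346] 36 0)) (.leaf (Rule.fwd [nat_lit 388, nat_lit 52, nat_lit 388] 38 0))))), (.node (nat_lit 8) (.node (nat_lit 4) (.node (nat_lit 2) (.node (nat_lit 1) (.leaf XRule.defn) (.leaf XRule.defn)) (.node (nat_lit 1) (.leaf (XRule.rot (nat_lit 494981592) [472, 52, 472] 40 0)) (.leaf (XRule.rot (nat_lit 11050961391626) [10, 52, 10, 52, 10] 0 1)))) (.node (nat_lit 2) (.node (nat_lit 1) (.leaf (XRule.rot (nat_lit 274780422) [262, 52, 262] 30 0)) (.leaf (XRule.rot (nat_lit 52) [52] 136 0))) (.node (nat_lit 1) (.leaf (XRule.rot (nat_lit 318820656) [304, 52, 304] 34 0)) (.leaf (XRule.rot (nat_lit 450941358) [430, 52, 430] 32 0))))) (.node (nat_lit 4) (.node (nat_lit 2) (.node (nat_lit 1) (.leaf (XRule.rot (nat_lit 230740188) [220, 52, 220] 28 0)) (.leaf (XRule.rot (nat_lit 186699954) [178, 52, 178] 26 0))) (.node (nat_lit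 1) (.leaf (XRule.rot (nat_lit 362860890) [346, 52, 346] 36 0)) (.leaf (XRule.rot (nat_lit 142659720) [136, 52, 136] 24 0)))) (.node (nat_lit 1) (.leaf (XRule.rot (nat_lit 406901124) [388, 52, 388] 38 0)) (.leaf (XRule.rot (nat_lit 103410026205278) [94, 52, 94, 52, 94] 22 0)))))⟩
noncomputable def ci94 : CI := ⟨[2], (nat_lit 94), true, (.node (nat_lit 8) (.node (nat_lit 4) (.node (nat_lit 2) (.node (nat_lit 1) (.leaf Rule.defn) (.leaf Rule.copy)) (.node (nat_lit 1) (.leaf (Rule.fwd [nat_lit 94] 136 0)) (.leaf (Rule.fwd [nat_lit 136, nat_lit 94, nat_lit 136, nat_lit 94, nat_lit 136] 42 0)))) (.node (nat_lit 2) (.node (nat_lit 1) (.leaf (Rule.fwd [nat_lit 52, nat_lit 94, nat_lit 52, nat_lit 94, nat_lit 52] 22 1)) (.leaf (Rule.fwd [nat_lit 178, nat_lit 94, nat_lit 178] 44 0))) (.node (nat_lit 1) (.leaf (Rule.fwd [nat_lit 220, nat_lit 94, nat_lit 220] 46 0)) (.leaf (Rule.fwd [nat_lit 262, nat_lit 94, nat_lit 262] 48 0))))) (.node (nat_lit 4) (.node (nat_lit 2) (.node (nat_lit 1)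 (.leaf (Rule.fwd [nat_lit 430, nat_lit 94, nat_lit 430] 50 0)) (.leaf (Rule.fwd [nat_lit 304, nat_lit 94, nat_lit 304] 52 0))) (.node (nat_lit 1) (.leaf (Rule.fwd [nat_lit 472, nat_lit 94, nat_lit 472] 58 0)) (.leaf (Rule.fwd [nat_lit 346, nat_lit 94, nat_lit 346] 54 0)))) (.node (nat_lit 1) (.leaf (Rule.fwd [nat_lit 388, nat_lit 94, nat_lit 388] 56 0)) (.leaf (Rule.fwd [nat_lit 10, nat_lit 94, nat_lit 10] 2 1))))), (.node (nat_lit 8) (.node (nat_lit 4) (.node (nat_lit 2) (.node (nat_lit 1) (.leaf XRule.defn) (.leaf XRule.ax)) (.node (nat_lit 1) (.leaf (XRule.rot (nat_lit 495024600) [472, 94, 472] 58 0)) (.leaf (XRule.rot (nat_lit 57275590998068) [52, 94, 52, 94, 52] 22 1)))) (.node (nat_lit 2) (.node (nat_lit 1) (.leaf (XRule.rot (nat_lit 274823430) [262, 94, 262] 48 0)) (.leaf (XRule.rot (nat_lit 450984366) [430, 94, 430] 50 0))) (.node (nat_lit 1) (.leaf (XRule.rot (nat_lit 94) [94] 136 0)) (.leaf (XRule.rot (nat_lit 186742962) [178, 94, 178] 44 0))))) (.node (nat_lit 4)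 (.node (nat_lit 2) (.node (nat_lit 1) (.leaf (XRule.rot (nat_lit 318863664) [304, 94, 304] 52 0)) (.leaf (XRule.rot (nat_lit 362903898) [346, 94, 346] 54 0))) (.node (nat_lit 1) (.leaf (XRule.rot (nat_lit 230783196) [220, 94, 220] 46 0)) (.leaf (XRule.rot (nat_lit 406944132) [388, 94, 388] 56 0)))) (.node (nat_lit 1) (.leaf (XRule.rot (nat_lit 10582026) [10, 94, 10] 2 1)) (.leaf (XRule.rot (nat_lit 149634655811720) [136, 94, 136, 94, 136] 42 0)))))⟩
noncomputable def ci136 : CI := ⟨[3], (nat_lit 136), true, (.node (nat_lit 8) (.node (nat_lit 4) (.node (nat_lit 2) (.node (nat_lit 1) (.leaf Rule.defn) (.leaf Rule.copy)) (.node (nat_lit 1) (.leaf (Rule.fwd [nat_lit 52, nat_lit 136, nat_lit 52] 24 1)) (.leaf (Rule.fwd [nat_lit 10, nat_lit 136, nat_lit 10] 4 1)))) (.node (nat_lit 2) (.node (nat_lit 1) (.leaf (Rule.fwd [nat_lit 136] 136 0)) (.leaf (Rule.fwd [nat_lit 178, nat_lit 136, nat_lit 178, nat_lit 136, nat_lit 178] 60 0))) (.node (nat_lit 1) (.leaf (Rule.fwd [nat_lit 220, nat_lit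 136, nat_lit 220] 62 0)) (.leaf (Rule.fwd [nat_lit 94, nat_lit 136, nat_lit 94, nat_lit 136, nat_lit 94] 42 1))))) (.node (nat_lit 4) (.node (nat_lit 2) (.node (nat_lit 1) (.leaf (Rule.fwd [nat_lit 262, nat_lit 136, nat_lit 262] 64 0)) (.leaf (Rule.fwd [nat_lit 430, nat_lit 136, nat_lit 430] 66 0))) (.node (nat_lit 1) (.leaf (Rule.fwd [nat_lit 304, nat_lit 136, nat_lit 304] 68 0)) (.leaf (Rule.fwd [nat_lit 472, nat_lit 136, nat_lit 472] 74 0)))) (.node (nat_lit 2) (.node (nat_lit 1) (.leaf (Rule.fwd [nat_lit 346, nat_lit 136, nat_lit 346] 70 0)) (.leaf (Rule.fwd [nat_lit 388, nat_lit 136, nat_lit 388] 72 0))) (.leaf (Rule.fwd [nat_lit 94, nat_lit 430, nat_lit 304, nat_lit 262, nat_lit 220, nat_lit 178, nat_lit 136, nat_lit 94, nat_lit 430, nat_lit 304, nat_lit 262, nat_lit 220, nat_lit 178, nat_lit 136, nat_lit 94, nat_lit 430, nat_lit 304, nat_lit 262, nat_lit 220, nat_lit 178, nat_lit 136, nat_lit 94, nat_lit 430, nat_lit 304, nat_lit 262, nat_lit 220, nat_lit 178, nat_lit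 136, nat_lit 94, nat_lit 430, nat_lit 304, nat_lit 262, nat_lit 220, nat_lit 178, nat_lit 136, nat_lit 94, nat_lit 430, nat_lit 304, nat_lit 262, nat_lit 220, nat_lit 178, nat_lit 136, nat_lit 94, nat_lit 430, nat_lit 304, nat_lit 262, nat_lit 220, nat_lit 178, nat_lit 136, nat_lit 94, nat_lit 430, nat_lit 304, nat_lit 262, nat_lit 220, nat_lit 178, nat_lit 136, nat_lit 94, nat_lit 10, nat_lit 430, nat_lit 304, nat_lit 262, nat_lit 220, nat_lit 178] 132 6))))), (.node (nat_lit 8) (.node (nat_lit 4) (.node (nat_lit 2) (.node (nat_lit 1) (.leaf XRule.defn) (.leaf XRule.ax)) (.node (nat_lit 1) (.leaf (XRule.rot (nat_lit 495067608) [472, 136, 472] 74 0)) (.leaf (XRule.rot (nat_lit 103500220604510) [94, 136, 94, 136, 94] 42 1)))) (.node (nat_lit 2) (.node (nat_lit 1) (.leaf (XRule.rot (nat_lit 274866438) [262, 136, 262] 64 0)) (.leaf (XRule.rot (nat_lit 451027374) [430, 136, 430] 66 0))) (.node (nat_lit 1) (.leaf (XRule.rot (nat_lit 136) [136] 136 0)) (.leaf (XRule.rot (nat_lit 318906672)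 [304, 136, 304] 68 0))))) (.node (nat_lit 4) (.node (nat_lit 2) (.node (nat_lit 1) (.leaf (XRule.rot (nat_lit 230826204) [220, 136, 220] 62 0)) (.leaf (XRule.rot (nat_lit 362946906) [346, 136, 346] 70 0))) (.node (nat_lit 1) (.leaf (XRule.rot (nat_lit 195859285418162) [178, 136, 178, 136, 178] 60 0)) (.leaf (XRule.rot (nat_lit 54665268) [52, 136, 52] 24 1)))) (.node (nat_lit 1) (.leaf (XRule.rot (nat_lit 10625034) [10, 136, 10] 4 1)) (.leaf (XRule.rot (nat_lit 406987140) [388, 136, 388] 72 0)))))⟩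
noncomputable def ci178 : CI := ⟨[4], (nat_lit 178), true, (.node (nat_lit 16) (.node (nat_lit 8) (.node (nat_lit 4) (.node (nat_lit 2) (.node (nat_lit 1) (.leaf Rule.defn) (.leaf Rule.copy)) (.node (nat_lit 1) (.leaf (Rule.fwd [nat_lit 52, nat_lit 178, nat_lit 52] 26 1)) (.leaf (Rule.fwd [nat_lit 10, nat_lit 178, nat_lit 10] 6 1)))) (.node (nat_lit 2) (.node (nat_lit 1) (.leaf (Rule.fwd [nat_lit 94, nat_lit 178, nat_lit 94] 44 1)) (.leaf (Rule.fwd [nat_lit 178] 136 0))) (.node (nat_lit 1) (.leaf (Rule.fwd [nat_lit 220, nat_lit 178, nat_lit 220, nat_lit 178, nat_lit 220] 76 0)) (.leaf (Rule.fwd [nat_lit 262, nat_lit 178, nat_lit 262] 78 0))))) (.node (nat_lit 4) (.node (nat_lit 2) (.node (nat_lit 1) (.leaf (Rule.fwd [nat_lit 430, nat_lit 178, nat_lit 430] 80 0)) (.leaf (Rule.fwd [nat_lit 304, nat_lit 178, nat_lit 304] 82 0))) (.node (nat_lit 1) (.leaf (Rule.fwd [nat_lit 472, nat_lit 178, nat_lit 472] 88 0)) (.leaf (Rule.fwd [nat_lit 136, nat_lit 178, nat_lit 136, nat_lit 178,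 nat_lit 136] 60 1)))) (.node (nat_lit 2) (.node (nat_lit 1) (.leaf (Rule.fwd [nat_lit 346, nat_lit 178, nat_lit 346] 84 0)) (.leaf (Rule.fwd [nat_lit 388, nat_lit 178, nat_lit 388] 86 0))) (.node (nat_lit 1) (.leaf (Rule.fwd [nat_lit 136, nat_lit 94, nat_lit 430, nat_lit 304, nat_lit 262, nat_lit 220, nat_lit 178, nat_lit 136, nat_lit 94, nat_lit 430, nat_lit 304, nat_lit 262, nat_lit 220, nat_lit 178, nat_lit 136, nat_lit 94, nat_lit 430, nat_lit 304, nat_lit 262, nat_lit 220, nat_lit 178, nat_lit 136, nat_lit 94, nat_lit 430, nat_lit 304, nat_lit 262, nat_lit 220, nat_lit 178, nat_lit 136, nat_lit 94, nat_lit 430, nat_lit 304, nat_lit 262, nat_lit 220, nat_lit 178, nat_lit 136, nat_lit 94, nat_lit 430, nat_lit 304, nat_lit 262, nat_lit 220, nat_lit 178, nat_lit 136, nat_lit 94, nat_lit 430, nat_lit 304, nat_lit 262, nat_lit 220, nat_lit 178, nat_lit 136, nat_lit 94, nat_lit 430, nat_lit 304, nat_lit 262, nat_lit 220, nat_lit 178, nat_lit 136, nat_lit 94, nat_lit 10, nat_lit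 430, nat_lit 304, nat_lit 262, nat_lit 220] 132 5)) (.leaf (Rule.fwd [nat_lit 220, nat_lit 262, nat_lit 304, nat_lit 430, nat_lit 94, nat_lit 136, nat_lit 178, nat_lit 220, nat_lit 262, nat_lit 304, nat_lit 430, nat_lit 94, nat_lit 136, nat_lit 178, nat_lit 220, nat_lit 262, nat_lit 304, nat_lit 430, nat_lit 94, nat_lit 136, nat_lit 178, nat_lit 220, nat_lit 262, nat_lit 304, nat_lit 430, nat_lit 94, nat_lit 136, nat_lit 178, nat_lit 220, nat_lit 262, nat_lit 304, nat_lit 430, nat_lit 94, nat_lit 136, nat_lit 178, nat_lit 220, nat_lit 262, nat_lit 304, nat_lit 430, nat_lit 94, nat_lit 136, nat_lit 178, nat_lit 220, nat_lit 262, nat_lit 304, nat_lit 430, nat_lit 94, nat_lit 136, nat_lit 178, nat_lit 220, nat_lit 262, nat_lit 304, nat_lit 430, nat_lit 94, nat_lit 136, nat_lit 178, nat_lit 220, nat_lit 262, nat_lit 304, nat_lit 430, nat_lit 10, nat_lit 94, nat_lit 136] 133 62)))))) (.leaf (Rule.fwd [nat_lit 136, nat_lit 94, nat_lit 52, nat_lit 10, nat_lit 220, nat_lit 262, nat_lit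 304, nat_lit 346, nat_lit 388, nat_lit 220, nat_lit 430, nat_lit 472, nat_lit 220, nat_lit 178, nat_lit 136, nat_lit 94, nat_lit 52, nat_lit 10, nat_lit 220, nat_lit 262, nat_lit 304, nat_lit 346, nat_lit 388, nat_lit 220, nat_lit 430, nat_lit 472, nat_lit 220, nat_lit 178, nat_lit 136, nat_lit 94, nat_lit 52, nat_lit 10, nat_lit 220, nat_lit 262, nat_lit 304, nat_lit 346, nat_lit 388, nat_lit 220, nat_lit 430, nat_lit 472, nat_lit 220, nat_lit 178, nat_lit 136, nat_lit 94, nat_lit 52, nat_lit 10, nat_lit 220, nat_lit 262, nat_lit 304, nat_lit 346, nat_lit 388, nat_lit 220, nat_lit 430, nat_lit 472, nat_lit 220, nat_lit 178, nat_lit 136, nat_lit 94, nat_lit 52, nat_lit 10, nat_lit 220, nat_lit 262, nat_lit 304, nat_lit 346, nat_lit 388, nat_lit 220, nat_lit 430, nat_lit 472, nat_lit 220, nat_lit 178, nat_lit 136, nat_lit 94, nat_lit 52, nat_lit 10, nat_lit 220, nat_lit 262, nat_lit 304, nat_lit 346, nat_lit 388, nat_lit 220, nat_lit 430, nat_lit 472, nat_lit 220, nat_lit 178,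 nat_lit 136, nat_lit 94, nat_lit 52, nat_lit 10, nat_lit 220, nat_lit 262, nat_lit 304, nat_lit 346, nat_lit 388, nat_lit 220, nat_lit 430, nat_lit 472, nat_lit 220, nat_lit 178, nat_lit 136, nat_lit 94, nat_lit 52, nat_lit 10, nat_lit 220, nat_lit 262, nat_lit 304, nat_lit 346, nat_lit 388, nat_lit 220, nat_lit 430, nat_lit 472, nat_lit 220, nat_lit 178, nat_lit 136, nat_lit 94, nat_lit 52, nat_lit 10, nat_lit 220, nat_lit 262, nat_lit 304, nat_lit 346, nat_lit 388, nat_lit 220, nat_lit 430, nat_lit 472, nat_lit 220, nat_lit 178, nat_lit 136, nat_lit 94, nat_lit 52, nat_lit 10, nat_lit 220, nat_lit 262, nat_lit 304, nat_lit 346, nat_lit 388, nat_lit 220, nat_lit 430, nat_lit 472, nat_lit 220, nat_lit 178, nat_lit 136, nat_lit 94, nat_lit 52, nat_lit 10, nat_lit 220, nat_lit 262, nat_lit 304, nat_lit 346, nat_lit 388, nat_lit 220, nat_lit 430, nat_lit 472, nat_lit 220, nat_lit 178, nat_lit 136, nat_lit 94, nat_lit 52, nat_lit 10, nat_lit 220, nat_lit 262, nat_lit 304, nat_lit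 346, nat_lit 388, nat_lit 220, nat_lit 430, nat_lit 472, nat_lit 220, nat_lit 178, nat_lit 136, nat_lit 94, nat_lit 52, nat_lit 10, nat_lit 220, nat_lit 262, nat_lit 304, nat_lit 346, nat_lit 388, nat_lit 220, nat_lit 430, nat_lit 472, nat_lit 220, nat_lit 178, nat_lit 136, nat_lit 94, nat_lit 52, nat_lit 10, nat_lit 220, nat_lit 262, nat_lit 304, nat_lit 346, nat_lit 388, nat_lit 220, nat_lit 430, nat_lit 472, nat_lit 220, nat_lit 178, nat_lit 136, nat_lit 94, nat_lit 52, nat_lit 10, nat_lit 220, nat_lit 262, nat_lit 304, nat_lit 346, nat_lit 388, nat_lit 220, nat_lit 430, nat_lit 472, nat_lit 220, nat_lit 178, nat_lit 136, nat_lit 94, nat_lit 52, nat_lit 10, nat_lit 220, nat_lit 262, nat_lit 304, nat_lit 346, nat_lit 388, nat_lit 220, nat_lit 430, nat_lit 472, nat_lit 220, nat_lit 178, nat_lit 136, nat_lit 94, nat_lit 52, nat_lit 10, nat_lit 220, nat_lit 262, nat_lit 304, nat_lit 346, nat_lit 388, nat_lit 220, nat_lit 430, nat_lit 472, nat_lit 220] 134 1))), (.node (nat_lit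 8) (.node (nat_lit 4) (.node (nat_lit 2) (.node (nat_lit 1) (.leaf XRule.defn) (.leaf XRule.ax)) (.node (nat_lit 1) (.leaf (XRule.rot (nat_lit 495110616) [472, 178, 472] 88 0)) (.leaf (XRule.rot (nat_lit 149724850210952) [136, 178, 136, 178, 136] 60 1)))) (.node (nat_lit 2) (.node (nat_lit 1) (.leaf (XRule.rot (nat_lit 274909446) [262, 178, 262] 78 0)) (.leaf (XRule.rot (nat_lit 451070382) [430, 178, 430] 80 0))) (.node (nat_lit 1) (.leaf (XRule.rot (nat_lit 178) [178] 136 0)) (.leaf (XRule.rot (nat_lit 318949680) [304, 178, 304] 82 0))))) (.node (nat_lit 4) (.node (nat_lit 2) (.node (nat_lit 1) (.leaf (XRule.rot (nat_lit 362989914) [346, 178, 346] 84 0)) (.leaf (XRule.rot (nat_lit 242083915024604) [220, 178, 220, 178, 220] 76 0))) (.node (nat_lit 1) (.leaf (XRule.rot (nat_lit 407030148) [388, 178, 388] 86 0)) (.leaf (XRule.rot (nat_lit 10668042) [10, 178, 10] 6 1)))) (.node (nat_lit 2) (.node (nat_lit 1) (.leaf (XRule.rot (nat_lit 98748510) [94, 178, 94] 44 1)) (.leaf (XRule.rot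 (nat_lit 54708276) [52, 178, 52] 26 1))) (.leaf (XRule.rot (nat_lit 958352664602279514273912992696708151639408101504834413385285578873498610154046188887728319317142050649041020161216840701044887865881630354273382325413265902719912154785775012541620595816584) [136, 94, 430, 304, 262, 220, 178, 136, 94, 430, 304, 262, 220, 178, 136, 94, 430, 304, 262, 220, 178, 136, 94, 430, 304, 262, 220, 178, 136, 94, 430, 304, 262, 220, 178, 136, 94, 430, 304, 262, 220, 178, 136, 94, 430, 304, 262, 220, 178, 136, 94, 430, 304, 262, 220, 178, 136, 94, 10, 430, 304, 262, 220] 132 5)))))⟩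
noncomputable def ci220 : CI := ⟨[5], (nat_lit 220), true, (.node (nat_lit 8) (.node (nat_lit 4) (.node (nat_lit 2) (.node (nat_lit 1) (.leaf Rule.defn) (.leaf Rule.copy)) (.node (nat_lit 1) (.leaf (Rule.fwd [nat_lit 52, nat_lit 220, nat_lit 52] 28 1)) (.leaf (Rule.fwd [nat_lit 10, nat_lit 220, nat_lit 10] 8 1)))) (.node (nat_lit 2) (.node (nat_lit 1) (.leaf (Rule.fwd [nat_lit 94, nat_lit 220, nat_lit 94] 46 1)) (.leaf (Rule.fwd [nat_lit 136, nat_lit 220, nat_lit 136] 62 1))) (.node (nat_lit 1) (.leaf (Rule.fwd [nat_lit 220] 136 0)) (.leaf (Rule.fwd [nat_lit 262, nat_lit 220, nat_lit 262, nat_lit 220, nat_lit 262] 90 0))))) (.node (nat_lit 4) (.node (nat_lit 2) (.node (nat_lit 1) (.leaf (Rule.fwd [nat_lit 430, nat_lit 220, nat_lit 430, nat_lit 220, nat_lit 430] 92 0)) (.leaf (Rule.fwd [nat_lit 304, nat_lit 220, nat_lit 304] 94 0))) (.node (nat_lit 1) (.leaf (Rule.fwd [nat_lit 472, nat_lit 220, nat_lit 472] 100 0)) (.leaf (Rule.fwd [nat_lit 346, nat_lit 220, nat_lit 346] 96 0))))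 (.node (nat_lit 1) (.leaf (Rule.fwd [nat_lit 388, nat_lit 220, nat_lit 388] 98 0)) (.leaf (Rule.fwd [nat_lit 178, nat_lit 220, nat_lit 178, nat_lit 220, nat_lit 178] 76 1))))), (.node (nat_lit 8) (.node (nat_lit 4) (.node (nat_lit 2) (.node (nat_lit 1) (.leaf XRule.defn) (.leaf XRule.ax)) (.node (nat_lit 1) (.leaf (XRule.rot (nat_lit 288308544631046) [262, 220, 262, 220, 262] 90 0)) (.leaf (XRule.rot (nat_lit 495153624) [472, 220, 472] 100 0)))) (.node (nat_lit 2) (.node (nat_lit 1) (.leaf (XRule.rot (nat_lit 195949479817394) [178, 220, 178, 220, 178] 76 1)) (.leaf (XRule.rot (nat_lit 220) [220] 136 0))) (.node (nat_lit 1) (.leaf (XRule.rot (nat_lit 318992688) [304, 220, 304] 94 0)) (.leaf (XRule.rot (nat_lit 363032922) [346, 220, 346] 96 0))))) (.node (nat_lit 4) (.node (nat_lit 2) (.node (nat_lit 1) (.leaf (XRule.rot (nat_lit 407073156) [388, 220, 388] 98 0)) (.leaf (XRule.rot (nat_lit 473026674258350) [430, 220, 430, 220, 430] 92 0))) (.node (nat_lit 1) (.leaf (XRule.rot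 (nat_lit 142831752) [136, 220, 136] 62 1)) (.leaf (XRule.rot (nat_lit 54751284) [52, 220, 52] 28 1)))) (.node (nat_lit 1) (.leaf (XRule.rot (nat_lit 98791518) [94, 220, 94] 46 1)) (.leaf (XRule.rot (nat_lit 10711050) [10, 220, 10] 8 1)))))⟩
noncomputable def ci262 : CI := ⟨[6], (nat_lit 262), true, (.node (nat_lit 8) (.node (nat_lit 4) (.node (nat_lit 2) (.node (nat_lit 1) (.leaf Rule.defn) (.leaf Rule.copy)) (.node (nat_lit 1) (.leaf (Rule.fwd [nat_lit 52, nat_lit 262, nat_lit 52] 30 1)) (.leaf (Rule.fwd [nat_lit 10, nat_lit 262, nat_lit 10] 10 1)))) (.node (nat_lit 2) (.node (nat_lit 1) (.leaf (Rule.fwd [nat_lit 94, nat_lit 262, nat_lit 94] 48 1)) (.leaf (Rule.fwd [nat_lit 136, nat_lit 262, nat_lit 136] 64 1))) (.node (nat_lit 1) (.leaf (Rule.fwd [nat_lit 178, nat_lit 262, nat_lit 178] 78 1)) (.leaf (Rule.fwd [nat_lit 262] 136 0))))) (.node (nat_lit 4) (.node (nat_lit 2) (.node (nat_lit 1) (.leaf (Rule.fwd [nat_lit 304, nat_lit 262, nat_lit 304, nat_lit 262, nat_lit 304] 104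 0)) (.leaf (Rule.fwd [nat_lit 430, nat_lit 262, nat_lit 430] 102 0))) (.node (nat_lit 1) (.leaf (Rule.fwd [nat_lit 346, nat_lit 262, nat_lit 346] 106 0)) (.leaf (Rule.fwd [nat_lit 220, nat_lit 262, nat_lit 220, nat_lit 262, nat_lit 220] 90 1)))) (.node (nat_lit 1) (.leaf (Rule.fwd [nat_lit 472, nat_lit 262, nat_lit 472] 110 0)) (.leaf (Rule.fwd [nat_lit 388, nat_lit 262, nat_lit 388] 108 0))))), (.node (nat_lit 8) (.node (nat_lit 4) (.node (nat_lit 2) (.node (nat_lit 1) (.leaf XRule.defn) (.leaf XRule.ax)) (.node (nat_lit 1) (.leaf (XRule.rot (nat_lit 495196632) [472, 262, 472] 110 0)) (.leaf (XRule.rot (nat_lit 451156398) [430, 262, 430] 102 0)))) (.node (nat_lit 2) (.node (nat_lit 1) (.leaf (XRule.rot (nat_lit 262) [262] 136 0)) (.leaf (XRule.rot (nat_lit 334533174237488) [304, 262, 304, 262, 304] 104 0))) (.node (nat_lit 1) (.leaf (XRule.rot (nat_lit 363075930) [346, 262, 346] 106 0)) (.leaf (XRule.rot (nat_lit 407116164) [388, 262, 388] 108 0))))) (.node (nat_lit 4) (.node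 (nat_lit 2) (.node (nat_lit 1) (.leaf (XRule.rot (nat_lit 186914994) [178, 262, 178] 78 1)) (.leaf (XRule.rot (nat_lit 242174109423836) [220, 262, 220, 262, 220] 90 1))) (.node (nat_lit 1) (.leaf (XRule.rot (nat_lit 142874760) [136, 262, 136] 64 1)) (.leaf (XRule.rot (nat_lit 54794292) [52, 262, 52] 30 1)))) (.node (nat_lit 2) (.node (nat_lit 1) (.leaf (XRule.rot (nat_lit 10754058) [10, 262, 10] 10 1)) (.leaf (XRule.rot (nat_lit 98834526) [94, 262, 94] 48 1))) (.leaf (XRule.rot (nat_lit 957995041390932577856643748553664883286156778050977317058740763885788921315299576292538721264148117771929950227769476268957306256237069691323203390092526080439278913854515289855801105496368) [304, 430, 94, 136, 178, 220, 262, 304, 430, 94, 136, 178, 220, 262, 304, 430, 94, 136, 178, 220, 262, 304, 430, 94, 136, 178, 220, 262, 304, 430, 94, 136, 178, 220, 262, 304, 430, 94, 136, 178, 220, 262, 304, 430, 94, 136, 178, 220, 262, 304, 430, 94, 136, 178, 220, 262, 304, 430, 10, 94, 136, 178, 220]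 133 60)))))⟩
noncomputable def ci304 : CI := ⟨[7], (nat_lit 304), true, (.node (nat_lit 8) (.node (nat_lit 4) (.node (nat_lit 2) (.node (nat_lit 1) (.leaf Rule.defn) (.leaf Rule.copy)) (.node (nat_lit 1) (.leaf (Rule.fwd [nat_lit 52, nat_lit 304, nat_lit 52] 34 1)) (.leaf (Rule.fwd [nat_lit 10, nat_lit 304, nat_lit 10] 14 1)))) (.node (nat_lit 2) (.node (nat_lit 1) (.leaf (Rule.fwd [nat_lit 94, nat_lit 304, nat_lit 94] 52 1)) (.leaf (Rule.fwd [nat_lit 136, nat_lit 304, nat_lit 136] 68 1))) (.node (nat_lit 1) (.leaf (Rule.fwd [nat_lit 178, nat_lit 304, nat_lit 178] 82 1)) (.leaf (Rule.fwd [nat_lit 220, nat_lit 304, nat_lit 220] 94 1))))) (.node (nat_lit 4) (.node (nat_lit 2) (.node (nat_lit 1) (.leaf (Rule.fwd [nat_lit 430, nat_lit 304, nat_lit 430] 112 1)) (.leaf (Rule.fwd [nat_lit 304] 136 0))) (.node (nat_lit 1) (.leaf (Rule.fwd [nat_lit 472, nat_lit 304, nat_lit 472] 124 0)) (.leaf (Rule.fwd [nat_lit 346, nat_lit 304, nat_lit 346, nat_lit 304, nat_lit 346] 120 0)))) (.node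 (nat_lit 1) (.leaf (Rule.fwd [nat_lit 388, nat_lit 304, nat_lit 388] 122 0)) (.leaf (Rule.fwd [nat_lit 262, nat_lit 304, nat_lit 262, nat_lit 304, nat_lit 262] 104 1))))), (.node (nat_lit 8) (.node (nat_lit 4) (.node (nat_lit 2) (.node (nat_lit 1) (.leaf XRule.defn) (.leaf XRule.ax)) (.node (nat_lit 1) (.leaf (XRule.rot (nat_lit 230998236) [220, 304, 220] 94 1)) (.leaf (XRule.rot (nat_lit 186958002) [178, 304, 178] 82 1)))) (.node (nat_lit 2) (.node (nat_lit 1) (.leaf (XRule.rot (nat_lit 142917768) [136, 304, 136] 68 1)) (.leaf (XRule.rot (nat_lit 98877534) [94, 304, 94] 52 1))) (.node (nat_lit 1) (.leaf (XRule.rot (nat_lit 54837300) [52, 304, 52] 34 1)) (.leaf (XRule.rot (nat_lit 10797066) [10, 304, 10] 14 1))))) (.node (nat_lit 4) (.node (nat_lit 2) (.node (nat_lit 1) (.leaf (XRule.rot (nat_lit 380757803843930) [346, 304, 346, 304, 346] 120 0)) (.leaf (XRule.rot (nat_lit 451199406) [430, 304, 430] 112 1))) (.node (nat_lit 1) (.leaf (XRule.rot (nat_lit 495239640) [472, 304,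 472] 124 0)) (.leaf (XRule.rot (nat_lit 288398739030278) [262, 304, 262, 304, 262] 104 1)))) (.node (nat_lit 1) (.leaf (XRule.rot (nat_lit 407159172) [388, 304, 388] 122 0)) (.leaf (XRule.rot (nat_lit 304) [304] 136 0)))))⟩
noncomputable def ci346 : CI := ⟨[8], (nat_lit 346), true, (.node (nat_lit 8) (.node (nat_lit 4) (.node (nat_lit 2) (.node (nat_lit 1) (.leaf Rule.defn) (.leaf Rule.copy)) (.node (nat_lit 1) (.leaf (Rule.fwd [nat_lit 52, nat_lit 346, nat_lit 52] 36 1)) (.leaf (Rule.fwd [nat_lit 10, nat_lit 346, nat_lit 10] 16 1)))) (.node (nat_lit 2) (.node (nat_lit 1) (.leaf (Rule.fwd [nat_lit 94, nat_lit 346, nat_lit 94] 54 1)) (.leaf (Rule.fwd [nat_lit 136, nat_lit 346, nat_lit 136] 70 1))) (.node (nat_lit 1) (.leaf (Rule.fwd [nat_lit 178, nat_lit 346, nat_lit 178] 84 1)) (.leaf (Rule.fwd [nat_lit 220, nat_lit 346, nat_lit 220] 96 1))))) (.node (nat_lit 4) (.node (nat_lit 2) (.node (nat_lit 1) (.leaf (Rule.fwd [nat_lit 262, nat_lit 346, nat_lit 262] 106 1)) (.leaf (Rule.fwd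 [nat_lit 430, nat_lit 346, nat_lit 430] 114 1))) (.node (nat_lit 1) (.leaf (Rule.fwd [nat_lit 472, nat_lit 346, nat_lit 472] 128 0)) (.leaf (Rule.fwd [nat_lit 346] 136 0)))) (.node (nat_lit 1) (.leaf (Rule.fwd [nat_lit 388, nat_lit 346, nat_lit 388, nat_lit 346, nat_lit 388] 126 0)) (.leaf (Rule.fwd [nat_lit 304, nat_lit 346, nat_lit 304, nat_lit 346, nat_lit 304] 120 1))))), (.node (nat_lit 8) (.node (nat_lit 4) (.node (nat_lit 2) (.node (nat_lit 1) (.leaf XRule.defn) (.leaf XRule.ax)) (.node (nat_lit 1) (.leaf (XRule.rot (nat_lit 451242414) [430, 346, 430] 114 1)) (.leaf (XRule.rot (nat_lit 231041244) [220, 346, 220] 96 1)))) (.node (nat_lit 2) (.node (nat_lit 1) (.leaf (XRule.rot (nat_lit 187001010) [178, 346, 178] 84 1)) (.leaf (XRule.rot (nat_lit 142960776) [136, 346, 136] 70 1))) (.node (nat_lit 1) (.leaf (XRule.rot (nat_lit 98920542) [94, 346, 94] 54 1)) (.leaf (XRule.rot (nat_lit 54880308) [52, 346, 52] 36 1))))) (.node (nat_lit 4) (.node (nat_lit 2) (.node (nat_lit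 1) (.leaf (XRule.rot (nat_lit 495282648) [472, 346, 472] 128 0)) (.leaf (XRule.rot (nat_lit 426982433450372) [388, 346, 388, 346, 388] 126 0))) (.node (nat_lit 1) (.leaf (XRule.rot (nat_lit 275081478) [262, 346, 262] 106 1)) (.leaf (XRule.rot (nat_lit 10840074) [10, 346, 10] 16 1)))) (.node (nat_lit 1) (.leaf (XRule.rot (nat_lit 346) [346] 136 0)) (.leaf (XRule.rot (nat_lit 334623368636720) [304, 346, 304, 346, 304] 120 1)))))⟩
noncomputable def ci388 : CI := ⟨[9], (nat_lit 388), true, (.node (nat_lit 8) (.node (nat_lit 4) (.node (nat_lit 2) (.node (nat_lit 1) (.leaf Rule.defn) (.leaf Rule.copy)) (.node (nat_lit 1) (.leaf (Rule.fwd [nat_lit 52, nat_lit 388, nat_lit 52] 38 1)) (.leaf (Rule.fwd [nat_lit 10, nat_lit 388, nat_lit 10] 18 1)))) (.node (nat_lit 2) (.node (nat_lit 1) (.leaf (Rule.fwd [nat_lit 94, nat_lit 388, nat_lit 94] 56 1)) (.leaf (Rule.fwd [nat_lit 136, nat_lit 388, nat_lit 136] 72 1))) (.node (nat_lit 1) (.leaf (Rule.fwd [nat_lit 178, nat_lit 388, nat_lit 178]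 86 1)) (.leaf (Rule.fwd [nat_lit 220, nat_lit 388, nat_lit 220] 98 1))))) (.node (nat_lit 4) (.node (nat_lit 2) (.node (nat_lit 1) (.leaf (Rule.fwd [nat_lit 262, nat_lit 388, nat_lit 262] 108 1)) (.leaf (Rule.fwd [nat_lit 430, nat_lit 388, nat_lit 430] 116 1))) (.node (nat_lit 1) (.leaf (Rule.fwd [nat_lit 304, nat_lit 388, nat_lit 304] 122 1)) (.leaf (Rule.fwd [nat_lit 472, nat_lit 388, nat_lit 472] 130 0)))) (.node (nat_lit 1) (.leaf (Rule.fwd [nat_lit 388] 136 0)) (.leaf (Rule.fwd [nat_lit 346, nat_lit 388, nat_lit 346, nat_lit 388, nat_lit 346] 126 1))))), (.node (nat_lit 8) (.node (nat_lit 4) (.node (nat_lit 2) (.node (nat_lit 1) (.leaf XRule.defn) (.leaf XRule.ax)) (.node (nat_lit 1) (.leaf (XRule.rot (nat_lit 187044018) [178, 388, 178] 86 1)) (.leaf (XRule.rot (nat_lit 275124486) [262, 388, 262] 108 1)))) (.node (nat_lit 2) (.node (nat_lit 1) (.leaf (XRule.rot (nat_lit 231084252) [220, 388, 220] 98 1)) (.leaf (XRule.rot (nat_lit 319164720) [304, 388, 304] 122 1))) (.node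 (nat_lit 1) (.leaf (XRule.rot (nat_lit 451285422) [430, 388, 430] 116 1)) (.leaf (XRule.rot (nat_lit 495325656) [472, 388, 472] 130 0))))) (.node (nat_lit 4) (.node (nat_lit 2) (.node (nat_lit 1) (.leaf (XRule.rot (nat_lit 143003784) [136, 388, 136] 72 1)) (.leaf (XRule.rot (nat_lit 98963550) [94, 388, 94] 56 1))) (.node (nat_lit 1) (.leaf (XRule.rot (nat_lit 54923316) [52, 388, 52] 38 1)) (.leaf (XRule.rot (nat_lit 10883082) [10, 388, 10] 18 1)))) (.node (nat_lit 1) (.leaf (XRule.rot (nat_lit 388) [388] 136 0)) (.leaf (XRule.rot (nat_lit 380847998243162) [346, 388, 346, 388, 346] 126 1)))))⟩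
noncomputable def ci430 : CI := ⟨[10], (nat_lit 430), true, (.node (nat_lit 8) (.node (nat_lit 4) (.node (nat_lit 2) (.node (nat_lit 1) (.leaf Rule.defn) (.leaf Rule.copy)) (.node (nat_lit 1) (.leaf (Rule.fwd [nat_lit 52, nat_lit 430, nat_lit 52] 32 1)) (.leaf (Rule.fwd [nat_lit 10, nat_lit 430, nat_lit 10] 12 1)))) (.node (nat_lit 2) (.node (nat_lit 1) (.leaf (Rule.fwd [nat_lit 94, nat_lit 430, nat_lit 94] 50 1)) (.leaf (Rule.fwd [nat_lit 136, nat_lit 430, nat_lit 136] 66 1))) (.node (nat_lit 1) (.leaf (Rule.fwd [nat_lit 178, nat_lit 430, nat_lit 178] 80 1)) (.leaf (Rule.fwd [nat_lit 430] 136 0))))) (.node (nat_lit 4) (.node (nat_lit 2) (.node (nat_lit 1) (.leaf (Rule.fwd [nat_lit 472, nat_lit 430, nat_lit 472, nat_lit 430, nat_lit 472] 118 0)) (.leaf (Rule.fwd [nat_lit 220, nat_lit 430, nat_lit 220, nat_lit 430, nat_lit 220] 92 1))) (.node (nat_lit 1) (.leaf (Rule.fwd [nat_lit 262, nat_lit 430, nat_lit 262] 102 1)) (.leaf (Rule.fwd [nat_lit 304, nat_lit 430, nat_lit 304] 112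 0)))) (.node (nat_lit 1) (.leaf (Rule.fwd [nat_lit 346, nat_lit 430, nat_lit 346] 114 0)) (.leaf (Rule.fwd [nat_lit 388, nat_lit 430, nat_lit 388] 116 0))))), (.node (nat_lit 8) (.node (nat_lit 4) (.node (nat_lit 2) (.node (nat_lit 1) (.leaf XRule.defn) (.leaf XRule.ax)) (.node (nat_lit 1) (.leaf (XRule.rot (nat_lit 242354498222300) [220, 430, 220, 430, 220] 92 1)) (.leaf (XRule.rot (nat_lit 430) [430] 136 0)))) (.node (nat_lit 2) (.node (nat_lit 1) (.leaf (XRule.rot (nat_lit 319207728) [304, 430, 304] 112 0)) (.leaf (XRule.rot (nat_lit 363247962) [346, 430, 346] 114 0))) (.node (nat_lit 1) (.leaf (XRule.rot (nat_lit 407288196) [388, 430, 388] 116 0)) (.leaf (XRule.rot (nat_lit 10926090) [10, 430, 10] 12 1))))) (.node (nat_lit 4) (.node (nat_lit 2) (.node (nat_lit 1) (.leaf (XRule.rot (nat_lit 275167494) [262, 430, 262] 102 1)) (.leaf (XRule.rot (nat_lit 187087026) [178, 430, 178] 80 1))) (.node (nat_lit 1) (.leaf (XRule.rot (nat_lit 143046792) [136, 430, 136] 66 1)) (.leaf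 (XRule.rot (nat_lit 99006558) [94, 430, 94] 50 1)))) (.node (nat_lit 2) (.node (nat_lit 1) (.leaf (XRule.rot (nat_lit 519431692663256) [472, 430, 472, 430, 472] 118 0)) (.leaf (XRule.rot (nat_lit 54966324) [52, 430, 52] 32 1))) (.leaf (XRule.rot (nat_lit 43910805198439265065685391817866900458211109715303695641854319782022993611319688980311918680845560463015571740548900239656384219432805225048128307595853394641184512912557992655148909074736) [304, 262, 220, 178, 136, 94, 430, 304, 262, 220, 178, 136, 94, 430, 304, 262, 220, 178, 136, 94, 430, 304, 262, 220, 178, 136, 94, 430, 304, 262, 220, 178, 136, 94, 430, 304, 262, 220, 178, 136, 94, 430, 304, 262, 220, 178, 136, 94, 430, 304, 262, 220, 178, 136, 94, 430, 304, 262, 220, 178, 136, 94, 10] 132 1)))))⟩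
noncomputable def ci472 : CI := ⟨[11], (nat_lit 472), true, (.node (nat_lit 8) (.node (nat_lit 4) (.node (nat_lit 2) (.node (nat_lit 1) (.leaf Rule.defn) (.leaf Rule.copy)) (.node (nat_lit 1) (.leaf (Rule.fwd [nat_lit 52, nat_lit 472, nat_lit 52] 40 1)) (.leaf (Rule.fwd [nat_lit 10, nat_lit 472, nat_lit 10] 20 1)))) (.node (nat_lit 2) (.node (nat_lit 1) (.leaf (Rule.fwd [nat_lit 94, nat_lit 472, nat_lit 94] 58 1)) (.leaf (Rule.fwd [nat_lit 136, nat_lit 472, nat_lit 136] 74 1))) (.node (nat_lit 1) (.leaf (Rule.fwd [nat_lit 178, nat_lit 472, nat_lit 178] 88 1)) (.leaf (Rule.fwd [nat_lit 220, nat_lit 472, nat_lit 220] 100 1))))) (.node (nat_lit 4) (.node (nat_lit 2) (.node (nat_lit 1) (.leaf (Rule.fwd [nat_lit 262, nat_lit 472, nat_lit 262] 110 1)) (.leaf (Rule.fwd [nat_lit 304, nat_lit 472, nat_lit 304] 124 1))) (.node (nat_lit 1) (.leaf (Rule.fwd [nat_lit 472] 136 0)) (.leaf (Rule.fwd [nat_lit 346, nat_lit 472, nat_lit 346] 128 1)))) (.node (nat_lit 1) (.leaf (Rule.fwd [nat_lit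 388, nat_lit 472, nat_lit 388] 130 1)) (.leaf (Rule.fwd [nat_lit 430, nat_lit 472, nat_lit 430, nat_lit 472, nat_lit 430] 118 1))))), (.node (nat_lit 8) (.node (nat_lit 4) (.node (nat_lit 2) (.node (nat_lit 1) (.leaf XRule.defn) (.leaf XRule.ax)) (.node (nat_lit 1) (.leaf (XRule.rot (nat_lit 319250736) [304, 472, 304] 124 1)) (.leaf (XRule.rot (nat_lit 363290970) [346, 472, 346] 128 1)))) (.node (nat_lit 2) (.node (nat_lit 1) (.leaf (XRule.rot (nat_lit 275210502) [262, 472, 262] 110 1)) (.leaf (XRule.rot (nat_lit 187130034) [178, 472, 178] 88 1))) (.node (nat_lit 1) (.leaf (XRule.rot (nat_lit 55009332) [52, 472, 52] 40 1)) (.leaf (XRule.rot (nat_lit 231170268) [220, 472, 220] 100 1))))) (.node (nat_lit 4) (.node (nat_lit 2) (.node (nat_lit 1) (.leaf (XRule.rot (nat_lit 10969098) [10, 472, 10] 20 1)) (.leaf (XRule.rot (nat_lit 143089800) [136, 472, 136] 74 1))) (.node (nat_lit 1) (.leaf (XRule.rot (nat_lit 407331204) [388, 472, 388] 130 1)) (.leaf (XRule.rot (nat_lit 99049566)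 [94, 472, 94] 58 1)))) (.node (nat_lit 1) (.leaf (XRule.rot (nat_lit 472) [472] 136 0)) (.leaf (XRule.rot (nat_lit 473297257456046) [430, 472, 430, 472, 430] 118 1)))))⟩
noncomputable def outer : Tr CI := (.node (nat_lit 2) (.node (nat_lit 4) (.node (nat_lit 8) (.node (nat_lit 16) (.leaf ci0) (.leaf ci304)) (.node (nat_lit 16) (.leaf ci136) (.leaf ci472))) (.node (nat_lit 8) (.node (nat_lit 16) (.leaf ci388) (.leaf ci52)) (.leaf ci220))) (.node (nat_lit 4) (.node (nat_lit 8) (.leaf ci178) (.node (nat_lit 16) (.leaf ci10) (.leaf ci346))) (.node (nat_lit 8) (.leaf ci262) (.node (nat_lit 16) (.leaf ci430) (.leaf ci94)))))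
def cols : List ℕ := [nat_lit 10, nat_lit 52, nat_lit 94, nat_lit 136, nat_lit 178, nat_lit 220, nat_lit 262, nat_lit 304, nat_lit 346, nat_lit 388, nat_lit 430, nat_lit 472]
def invL : List ℕ := [0, 1, 2, 3, 4, 5, 6, 7, 8, 9, 10, 11]
def rels : List (List ℕ) := [[0, 1, 0, 1, 0, 1], [0, 2, 0, 2], [0, 3, 0, 3], [0, 4, 0, 4], [0, 5, 0, 5], [0, 6, 0, 6], [0, 10, 0, 10], [0, 7, 0, 7], [0, 8, 0, 8], [0, 9, 0, 9], [0, 11, 0, 11], [1, 2, 1, 2, 1, 2], [1, 3, 1, 3], [1, 4, 1, 4], [1, 5, 1, 5], [1, 6, 1, 6], [1, 10, 1, 10], [1, 7, 1, 7], [1, 8, 1, 8], [1, 9, 1, 9], [1, 11, 1, 11], [2, 3, 2, 3, 2, 3], [2, 4, 2, 4], [2, 5, 2, 5], [2, 6, 2, 6], [2, 10, 2, 10], [2, 7, 2, 7], [2, 8, 2, 8], [2, 9, 2, 9], [2, 11, 2, 11], [3, 4, 3, 4, 3, 4], [3, 5, 3, 5], [3, 6, 3, 6], [3, 10, 3, 10], [3, 7, 3, 7], [3, 8, 3, 8], [3, 9, 3, 9], [3, 11, 3, 11], [4, 5, 4, 5, 4, 5], [4, 6, 4, 6], [4, 10, 4, 10], [4, 7, 4, 7], [4, 8, 4, 8], [4, 9, 4, 9], [4, 11, 4, 11], [5, 6, 5, 6, 5, 6], [5, 10, 5, 10, 5, 10], [5,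 7, 5, 7], [5, 8, 5, 8], [5, 9, 5, 9], [5, 11, 5, 11], [6, 10, 6, 10], [6, 7, 6, 7, 6, 7], [6, 8, 6, 8], [6, 9, 6, 9], [6, 11, 6, 11], [10, 7, 10, 7], [10, 8, 10, 8], [10, 9, 10, 9], [10, 11, 10, 11, 10, 11], [7, 8, 7, 8, 7, 8], [7, 9, 7, 9], [7, 11, 7, 11], [8, 9, 8, 9, 8, 9], [8, 11, 8, 11], [9, 11, 9, 11], [0, 10, 7, 6, 5, 4, 3, 2, 10, 7, 6, 5, 4, 3, 2, 10, 7, 6, 5, 4, 3, 2, 10, 7, 6, 5, 4, 3, 2, 10, 7, 6, 5, 4, 3, 2, 10, 7, 6, 5, 4, 3, 2, 10, 7, 6, 5, 4, 3, 2, 10, 7, 6, 5, 4, 3, 2, 10, 7, 6, 5, 4, 3, 2], [5, 4, 3, 2, 1, 0, 5, 6, 7, 8, 9, 5, 10, 11, 5, 4, 3, 2, 1, 0, 5, 6, 7, 8, 9, 5, 10, 11, 5, 4, 3, 2, 1, 0, 5, 6, 7, 8, 9, 5, 10, 11, 5, 4, 3, 2, 1, 0, 5, 6, 7, 8, 9, 5, 10, 11, 5, 4, 3, 2, 1, 0, 5, 6, 7, 8, 9, 5, 10, 11, 5, 4, 3, 2, 1, 0, 5, 6, 7, 8, 9, 5, 10, 11, 5, 4, 3, 2, 1, 0, 5, 6, 7, 8, 9, 5, 10, 11, 5, 4, 3, 2, 1, 0, 5, 6, 7, 8, 9, 5, 10, 11, 5, 4, 3, 2, 1, 0, 5, 6, 7, 8, 9, 5, 10, 11, 5, 4, 3, 2, 1, 0, 5, 6, 7, 8, 9, 5, 10, 11, 5, 4, 3, 2, 1, 0, 5, 6, 7, 8, 9, 5,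 10, 11, 5, 4, 3, 2, 1, 0, 5, 6, 7, 8, 9, 5, 10, 11, 5, 4, 3, 2, 1, 0, 5, 6, 7, 8, 9, 5, 10, 11, 5, 4, 3, 2, 1, 0, 5, 6, 7, 8, 9, 5, 10, 11, 5, 4, 3, 2, 1, 0, 5, 6, 7, 8, 9, 5, 10, 11, 5, 4, 3, 2, 1, 0, 5, 6, 7, 8, 9, 5, 10, 11, 5, 4, 3, 2, 1, 0, 5, 6, 7, 8, 9, 5, 10, 11]]
def subs : List (List ℕ) := [[2], [3], [4], [5], [6], [7], [8], [10], [11], [9], [0]]
noncomputable def row (n : ℕ) : ℕ := rowOf (fun h => rows.get h) (nat_lit 4) (nat_lit 15) (nat_lit 514) (nat_lit 0x3ffffffffffffffffffffffffffffffffffffffffffffffffffffffffffffffffffffffffffffffffffffffffffffffffffffffffffffffffffffffffffffffff) n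
noncomputable def xleaf (h : ℕ) : ℕ := recs.get h
noncomputable def mF : ℕ → ℕ := mainRow row (rowChk row xleaf outer (nat_lit 19) (nat_lit 524287) (nat_lit 31) (nat_lit 24) (nat_lit 16777215) (nat_lit 4398046511103) (nat_lit 262144) (nat_lit 306936) (nat_lit 346624) (nat_lit 10) (nat_lit 1023) (nat_lit 29) (nat_lit 536870911) (nat_lit 8) (nat_lit 255) cols)
noncomputable def xF : ℕ → ℕ → ℕ := xLeaf row xleaf outer (nat_lit 524287) (nat_lit 24) (nat_lit 4398046511103) (nat_lit 262144) (nat_lit 306936) (nat_lit 10) (nat_lit 1023) (nat_lit 29) (nat_lit 536870911) (nat_lit 536869888) (nat_lit 8) (nat_lit 255) (nat_lit 19) (nat_lit 524287) (nat_lit 7) (nat_lit 127) (nat_lit 472) (nat_lit 314302464) (nat_lit 128)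
noncomputable def cert : Cert := ⟨row, xleaf, outer, cols, nat_lit 19, nat_lit 524287, nat_lit 31, nat_lit 24, nat_lit 16777215, nat_lit 4398046511103, nat_lit 262144, nat_lit 306936, nat_lit 346624, nat_lit 10, nat_lit 1023, nat_lit 29, nat_lit 536870911, nat_lit 536869888, nat_lit 8, nat_lit 255, nat_lit 19, nat_lit 524287, nat_lit 7, nat_lit 127, nat_lit 472, nat_lit 314302464, nat_lit 128, nat_lit 42, nat_lit 173312, nat_lit 1354⟩
theorem tabok : tabOK (fun i => invL.getD i i) rels subs outer cols (nat_lit 10) (nat_lit 472) = true := by decide +kernel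

end CL.TC.Fi24A
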