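/-
A relation between x and y in the Harada-Norton group.
Generated by tools/dce.
-/
import Cfsg.Agent.Spor.HNPS

set_option autoImplicit false
set_option maxRecDepth 200000
set_option Elab.async false
set_option linter.unusedVariables false

namespace CL.HNPD
open CL.PG CL.DCE

noncomputable def rels : List (List ℕ) :=
  [[0, 0],
  [0, 2, 0, 2],
  [1, 4, 3, 5, 5, 3, 5, 3, 5, 0, 4, 2, 4, 2, 4, 4, 2, 5, 3, 3],
  [0, 5, 3, 5, 3, 5, 5, 5, 0, 4, 4, 4, 2, 4, 2, 4, 2, 5, 3, 5, 3, 5, 5, 5, 0, 4, 4, 4, 2, 4, 2, 4, 2, 5, 3, 5, 3, 5, 5, 5, 0, 4, 4, 4, 2, 4, 2, 4, 2],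
  [0, 2, 1, 2]]
noncomputable def T : Tr :=
  .n (.n (.n (.n (.l ⟨(nat_lit 0), (nat_lit 0), (nat_lit 0), (nat_lit 0)⟩)
 (.l ⟨(nat_lit 0x400004), (nat_lit 0x470f054), (nat_lit 0), (nat_lit 0x42609814)⟩))
 (.l ⟨(nat_lit 0x200002), (nat_lit 77), (nat_lit 0), (nat_lit 53)⟩))
 (.n (.l ⟨(nat_lit 0x400003), (nat_lit 16461), (nat_lit 0), (nat_lit 0)⟩)
 (.l ⟨(nat_lit 0x400004), (nat_lit 0x3c16047), (nat_lit 0), (nat_lit 0x185802023)⟩)))
 (.n (.n (.n (.l ⟨(nat_lit 0x200001), (nat_lit 0), (nat_lit 0), (nat_lit 0)⟩)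
 (.l ⟨(nat_lit 0x400004), (nat_lit 0), (nat_lit 0), (nat_lit 0x18220540a)⟩))
 (.l ⟨(nat_lit 0x400004), (nat_lit 0x4012840), (nat_lit 0), (nat_lit 0x43c03441)⟩))
 (.n (.l ⟨(nat_lit 0x200002), (nat_lit 2), (nat_lit 0), (nat_lit 76)⟩)
 (.l ⟨(nat_lit 0x400003), (nat_lit 0x28280901c), (nat_lit 0x531845816403004030040300c03), (nat_lit 0x341605813)⟩)))
noncomputable def C : Cf :=
  ⟨true, [], [], 50, 74, 24,
  [(false, [], []),
  (false, [], [[], []]),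
  (true, [], [[]]),
  (true, [2, 2, 2, 0, 2, 0, 2, 1, 3, 1, 3, 1, 3, 3, 3], [[2, 2, 2, 0, 2, 0, 2, 1, 3, 1, 3, 1, 3, 3, 3], [1, 3, 1, 3, 1, 3, 3, 3], [2, 2, 2, 0, 2, 0, 2]])],
  T, CL.HNPS.chk⟩
noncomputable def R0 : List (List ℕ) :=
  [[0],
  [],
  [],
  [(nat_lit 1), (nat_lit 0x34000007), 0, (nat_lit 5)],
  [(nat_lit 1), (nat_lit 0x10846000007), 0, (nat_lit 5)],
  [(nat_lit 1), (nat_lit 0x401284000000b), (nat_lit 17), (nat_lit 13), (nat_lit 17), (nat_lit 13), (nat_lit 19), (nat_lit 19), (nat_lit 19), (nat_lit 13), (nat_lit 19), (nat_lit 19), (nat_lit 15), (nat_lit 19), (nat_lit 19), (nat_lit 19), (nat_lit 19), (nat_lit 9)],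
  [(nat_lit 1), (nat_lit 0xcc461203b00000b), (nat_lit 13), (nat_lit 17), (nat_lit 13), (nat_lit 17), (nat_lit 13), (nat_lit 17), (nat_lit 17), (nat_lit 13), (nat_lit 19), (nat_lit 19), (nat_lit 19), (nat_lit 13), (nat_lit 19), (nat_lit 15), (nat_lit 9)],
  [(nat_lit 3), (nat_lit 7), 0, (nat_lit 5), (nat_lit 0xec4910041000009)],
  [(nat_lit 0x531845816403004030040300c031545314c01), (nat_lit 0xec460f04100001f), (nat_lit 13), (nat_lit 19), (nat_lit 13), (nat_lit 19), (nat_lit 13), (nat_lit 19), (nat_lit 19), (nat_lit 19), (nat_lit 19), (nat_lit 19), (nat_lit 13), (nat_lit 19), (nat_lit 19), (nat_lit 19), (nat_lit 15), (nat_lit 19), (nat_lit 0x3d0ec3b00001d)],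
  [(nat_lit 0), (nat_lit 23), (nat_lit 25), (nat_lit 21), (nat_lit 25), (nat_lit 33), (nat_lit 21), (nat_lit 35), (nat_lit 23)]]
noncomputable def pr : List (ℕ × ℕ × List ℕ × List ℕ) :=
  [(4, 0, [0], [0]), (2, 9, [2, 0, 2, 0, 2, 2, 0, 3, 1, 1], [2, 1, 3, 3, 1, 3, 1, 3])]
noncomputable def ex : List (List ℕ) :=
  [[53, 51, 53], [52, 52, 51], [50, 53, 57], [53, 59, 50], [50, 59, 54], [61, 52, 52], [55, 51], [64, 53], [68, 68], [68, 65]]

theorem z0 : C.L = mkL C.al C.be rels [(3, 8)] := by decide +kernel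
theorem z1 : C.recs R0 10 0 = true := by decide +kernel
theorem z2 : (rels.getD 0 []).rotate 0 = 0 :: (sh C.al ++ 0 :: sh C.be) := by decide +kernel
theorem z3 : pairR CL.HNPS.chk rels 24 pr 54 50 = true := by decide +kernel
theorem z4 : pairB CL.HNPS.chk 50 24 ex 74 54 = true := by decide +kernel
theorem z5 : C.relF 10 9 [98] = true := by decide +kernel

variable {Γ G X Λ : Type*} [Group Γ] [Group G] [MulAction Γ X] [MulAction Γ Λ] {φ : Γ →* G} {e : ℕ → X} {eL : ℕ → Λ} {g0 gs : List Γ} {t : G}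

theorem up {Y : Type*} [MulAction G Y] {gs : List G} {r : Y → G → Y} {q : Y} (S : Sys C gs t r q) : Upto C gs t r q 10 :=
  (S.recs _ (Upto.zero _ _ _ _ _)
    z1)

theorem L : C.L = mkL C.al C.be rels [(3, 8)] := z0

theorem inv {gs : List G} (hr : ∀ r ∈ rels, wordG (t :: gs) r = 1) : t⁻¹ = wordG gs C.al * t * wordG gs C.be :=
  inv_of_rel hr _ _ z2

theorem pair {H : Subgroup Γ} (E : Env H g0 gs CL.HNPS.chk) (hr : ∀ r ∈ rels, wordG (t :: gs.map φ) r = 1) :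
    PairTo (gs.map φ) t 50 24 74 :=
  PairTo.defs (E.map φ) (by decide) _ (PairTo.rels (E.map φ) (by decide) hr _ (PairTo.nil _ _ 50 24) (by decide) z3) (by decide)
    z4

theorem sys {H : Subgroup Γ} (E : Env H g0 gs CL.HNPS.chk) (hr : ∀ r ∈ rels, wordG (t :: gs.map φ) r = 1) :
    Sys C (gs.map φ) t (fun x a : G => x * a) 1 :=
  sys_tracked (inv hr) (pair E hr) hr L (E.map φ) rfl

theorem ker {H : Subgroup Γ} (E : Env H g0 gs CL.HNPS.chk) (hr : ∀ r ∈ rels, wordG (t :: gs.map φ) r = 1) : wordG (gs.map φ) [98] = 1 :=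
  (sys E hr).relF (up (sys E hr)) z5


end CL.HNPD
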