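import Cfsg.Agent.Spor.TCSound

/-! coset enumeration certificate generated by tools/tc -/

set_option maxRecDepth 100000
set_option autoImplicit false
set_option linter.all false

namespace CL.TC.HNL

noncomputable def rows0 : Tr ℕ := (.node (nat_lit 4) (.node (nat_lit 2) (.node (nat_lit 1) (.leaf (nat_lit 0xfe41be320f8c77dc0dfb01e7fe641f6077f20df98ffe63caff31dfe41be30ff8c4bf31c7bfc82fc637f18c7d80fe9884ffcc6fec0bfe417f31afcc655fe631fc82fc619f98bfc62af7f903f741fec04f8c5be3139ff98b7e62bf98a7da11fc8187fcc4ff312fcc47f903f8c24cff205f6827a615f1887c61b3ff310fcc3ff30efb417f9020ff986fe619f985ff205f18319fe407e30af8c1fec04f8c127fe615f6017f203f984fe610aff307fe407e303fcc1bf3057bf9827e607f9817e603fd0080)) (.leaf (nat_lit 0xfe43fdd1dfb043e338f8cda7fe671e990fe66ff68f7f21e1ff336fccd7f334fe43fe31f33fc877da21e9907a649f199cffcccff332fccc7f90ef9848cff219ee8c7d81bf1987c65b3ff330fccbff32efb467f90c0ff996fa64df9967f219f18d19fe42fed0df4c6fe32bf4ca27fe657f9957e653f28aff2161ff909f8ca3e327f704fec0a9ff9947d829fc84fdc17ed8babfcc9ff909f8c57f326fcc95eff211f1927c647f6057a62d3ff324fb047f908f6c73ed0e57f991ff211f1897e645f990bd)))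 (.node (nat_lit 1) (.leaf (nat_lit 0xfe46be34bf8d27dc2dfb06e7fe697f6177f235e998fe694aff349fe46be32ff4cfbf3487bfc8cf8681f1a3fd837e9984ffcd1ff919f5c9bf346fcd15eff22ff1a27c685ea147d8313ff344fb0a7f917fcd0fd33a57f9a17f22ff1957a66bf9a0bdfe457dd27fb05bdc18f2cae7ff229f68b7a651f1a07c67f3ff340f2cb3de19fb497f9140ff99ffe67df99eff229f19319fe44bdd23fb04fcb33f70767ff223f689fa649f19e7c6733ff33cfcceff33afb487f9110ff99cf966fee8fff223f19119)) (.leaf (nat_lit 0xfe49bbb47f30b7dc3ffb09e7ff24bf1ac7c6aff613fa6813ff358fb0f7f925f2d23dd2e57f9abff24bf19f7969bef993dfe48be356f8d57dc39fb08e7fe6adf61d7f245ef1a7969eaff355fe48be33bf7cabcb437bfc90f76a9e61c7d847e99e4ffe47fc339f8d53dc36fb0827fe6a9fc8ffae43f9a9fe6a4f7f91ef8d47e350fb083d3389ff9a8fd869fc8f79683ee94abfcd43f91ef8cd7f34ff4cedeff239f1a77c699f60efa8493ff34efb0c7f91cf4cf7f34d57f9a67f239f19979695ef97bd)))) (.node (nat_lit 2) (.node (nat_lit 1) (.leaf (nat_lit 0xfe4d3ed36f4d47e364f0d5a7fe6c9e727f869fea9dff2681ff932f7533ec33f0d5fe3639ff9b1fa6a7f9b17f265eb1e99fe4c7ed33f4d3bbb61f312e7ff25feea4fd861e1a67c6c33ff361fcd83bb52fe4bfd63133fc977da61e9a5f86b1f1afcffcd7fc348f3523f92ef58f8cff259f696f8881f1af7c6bb3ff35ef1907b359fb517f92c0ff9aef96b7eea1ff259f1a319fe4abdd42fb0afe35cf0d567fe6b9e9a2fe6b7ea9d7f2541ff929fb4afd344f0d47e35a9ff9ad7e6b3dda37f253eb1a99))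 (.leaf (nat_lit 0xfcdafbc52fe52ba367ed5655ff291e2aff76bff624f88b13ff946ed56ba368f7177ec479ffca2f76d5e62e7d88fe9af4ffe50fc35df8dabc455fb1127fe6d5fca1fae8bf9b4f76c4f7f941f8da3ab5efb10bc4519ff9b47788dfca0f56c1f9b3abfe4fbdd57fb0ffbb5ff31267ff27bf69ffa6b1ddb1f989d3ff93bf7557ec3cf3143bb649ffc9d7da79e9ab79889ddae4ffe4dfed38f10e7e366f8d967fe6cde5b17bc9bf6a97f26e1ff365f1d2bb360fe4dfe35333fc9afbaa1f61b776b5e6214f))) (.leaf (nat_lit 0xfe5b7ed6ef11bfa470e6dc27ff2d3ddb8798ddd6367d8d53ff967f0dbfe370fb1a39c6b9ff9b87f2cfebb4f46dbd7b6bdfe58bed63f119bb46ae8dbe7ff2c1d6b2fd8c3c9b7748d13ff95bfb573c45df8dbfab6c9ff9b7f96dbef33f7ac5fcad87fe567ad5efb16b9b6bf8dba7fe6dde9b4fe6dbfcacf5cc067f953eedb3cc63f7197ec549ffca976ac3d1b5fd8a9e9b34ffe53fbd64ecd93c456fb1427ff29be1b37c6d9f627788af3ff36cfe537d753f1d6fb3697bfca57c6d7d5b2fd897e2264f))))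
noncomputable def recs0 : Tr ℕ := (.leaf (nat_lit 0x4c8087))
noncomputable def rows : Tr ℕ := rows0
noncomputable def recs : Tr ℕ := recs0
noncomputable def ci0 : CI := ⟨[], (nat_lit 0), false, (.node (nat_lit 1) (.leaf Rule.defn) (.leaf Rule.copy)), (.leaf (XRule.rot (nat_lit 0) [] 12 0))⟩
noncomputable def ci7 : CI := ⟨[0], (nat_lit 25), true, (.node (nat_lit 4) (.node (nat_lit 2) (.node (nat_lit 1) (.leaf Rule.defn) (.leaf Rule.copy)) (.node (nat_lit 1) (.leaf (Rule.fwd [nat_lit 25] 12 0)) (.leaf (Rule.fwd [nat_lit 79, nat_lit 25, nat_lit 79] 8 0)))) (.node (nat_lit 2) (.node (nat_lit 1) (.leaf (Rule.fwd [nat_lit 61, nat_lit 7, nat_lit 61, nat_lit 7, nat_lit 61, nat_lit 7, nat_lit 61] 7 1)) (.leaf (Rule.fwd [nat_lit 7, nat_lit 7] 0 0))) (.leaf (Rule.fwd [nat_lit 43, nat_lit 7, nat_lit 43, nat_lit 7, nat_lit 43, nat_lit 7, nat_lit 43] 4 0)))), (.node (nat_lit 1) (.leaf XRule.defn) (.leaf XRule.ax))⟩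
noncomputable def ci25 : CI := ⟨[1], (nat_lit 7), false, (.node (nat_lit 4) (.node (nat_lit 2) (.node (nat_lit 1) (.leaf Rule.defn) (.leaf Rule.copy)) (.node (nat_lit 1) (.leaf (Rule.fwd [nat_lit 7] 12 0)) (.leaf (Rule.fwd [nat_lit 79, nat_lit 7, nat_lit 79] 8 2)))) (.node (nat_lit 2) (.node (nat_lit 1) (.leaf (Rule.fwd [nat_lit 25, nat_lit 25] 1 0)) (.leaf (Rule.fwd [nat_lit 61, nat_lit 25, nat_lit 61, nat_lit 25, nat_lit 61, nat_lit 25, nat_lit 61] 5 1))) (.leaf (Rule.fwd [nat_lit 43, nat_lit 25, nat_lit 43, nat_lit 25, nat_lit 43, nat_lit 25, nat_lit 43] 6 0)))), (.node (nat_lit 1) (.leaf XRule.defn) (.leaf XRule.defn))⟩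
noncomputable def ci43 : CI := ⟨[2], (nat_lit 61), false, (.node (nat_lit 4) (.node (nat_lit 2) (.node (nat_lit 1) (.leaf Rule.defn) (.leaf Rule.copy)) (.node (nat_lit 1) (.leaf (Rule.fwd [nat_lit 61] 12 0)) (.leaf (Rule.fwd [nat_lit 79, nat_lit 61, nat_lit 79] 10 0)))) (.node (nat_lit 2) (.node (nat_lit 1) (.leaf (Rule.fwd [nat_lit 7, nat_lit 43, nat_lit 7, nat_lit 43, nat_lit 7, nat_lit 43, nat_lit 7] 4 1)) (.leaf (Rule.fwd [nat_lit 25, nat_lit 43, nat_lit 25, nat_lit 43, nat_lit 25, nat_lit 43, nat_lit 25] 6 1))) (.leaf (Rule.fwd [nat_lit 43, nat_lit 43] 2 0)))), (.node (nat_lit 1) (.leaf XRule.defn) (.leaf XRule.defn))⟩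
noncomputable def ci61 : CI := ⟨[3], (nat_lit 43), false, (.node (nat_lit 4) (.node (nat_lit 2) (.node (nat_lit 1) (.leaf Rule.defn) (.leaf Rule.copy)) (.node (nat_lit 1) (.leaf (Rule.fwd [nat_lit 43] 12 0)) (.leaf (Rule.fwd [nat_lit 61, nat_lit 61] 3 0)))) (.node (nat_lit 2) (.node (nat_lit 1) (.leaf (Rule.fwd [nat_lit 79, nat_lit 43, nat_lit 79] 10 2)) (.leaf (Rule.fwd [nat_lit 25, nat_lit 61, nat_lit 25, nat_lit 61, nat_lit 25, nat_lit 61, nat_lit 25] 5 0))) (.leaf (Rule.fwd [nat_lit 7, nat_lit 61, nat_lit 7, nat_lit 61, nat_lit 7, nat_lit 61, nat_lit 7] 7 0)))), (.node (nat_lit 1) (.leaf XRule.defn) (.leaf XRule.defn))⟩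
noncomputable def ci79 : CI := ⟨[4], (nat_lit 79), false, (.node (nat_lit 2) (.node (nat_lit 1) (.leaf Rule.defn) (.leaf Rule.copy)) (.leaf (Rule.fwd [nat_lit 79] 12 0))), (.node (nat_lit 1) (.leaf XRule.defn) (.leaf XRule.defn))⟩
noncomputable def outer : Tr CI := (.node (nat_lit 2) (.node (nat_lit 1) (.leaf ci0) (.node (nat_lit 4) (.leaf ci25) (.leaf ci61))) (.node (nat_lit 4) (.leaf ci43) (.node (nat_lit 8) (.leaf ci7) (.leaf ci79))))
def cols : List ℕ := [nat_lit 7, nat_lit 25, nat_lit 43, nat_lit 61, nat_lit 79]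
def invL : List ℕ := [1, 0, 3, 2, 4]
def rels : List (List ℕ) := [[0, 0, 0], [2, 2, 2], [0, 2, 0, 2, 0, 2, 0, 2], [1, 2, 1, 2, 1, 2, 1, 2], [0, 4, 1, 4], [2, 4, 3, 4]]
def subs : List (List ℕ) := [[0]]
noncomputable def row (n : ℕ) : ℕ := rowOf (fun h => rows.get h) (nat_lit 4) (nat_lit 15) (nat_lit 97) (nat_lit 0x1ffffffffffffffffffffffff) n
noncomputable def xleaf (h : ℕ) : ℕ := recs.get h
noncomputable def mF : ℕ → ℕ := mainRow row (rowChk row xleaf outer (nat_lit 8) (nat_lit 255) (nat_lit 7) (nat_lit 11) (nat_lit 2047) (nat_lit 262143) (nat_lit 128) (nat_lit 112) (nat_lit 256) (nat_lit 7) (nat_lit 127) (nat_lit 15) (nat_lit 32767) (nat_lit 8) (nat_lit 255) cols)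
noncomputable def xF : ℕ → ℕ → ℕ := xLeaf row xleaf outer (nat_lit 255) (nat_lit 11) (nat_lit 262143) (nat_lit 128) (nat_lit 112) (nat_lit 7) (nat_lit 127) (nat_lit 15) (nat_lit 32767) (nat_lit 32640) (nat_lit 8) (nat_lit 255) (nat_lit 10) (nat_lit 1023) (nat_lit 2) (nat_lit 3) (nat_lit 79) (nat_lit 14336) (nat_lit 128)
noncomputable def cert : Cert := ⟨row, xleaf, outer, cols, nat_lit 8, nat_lit 255, nat_lit 7, nat_lit 11, nat_lit 2047, nat_lit 262143, nat_lit 128, nat_lit 112, nat_lit 256, nat_lit 7, nat_lit 127, nat_lit 15, nat_lit 32767, nat_lit 32640, nat_lit 8, nat_lit 255, nat_lit 10, nat_lit 1023, nat_lit 2, nat_lit 3, nat_lit 79, nat_lit 14336, nat_lit 128, nat_lit 18, nat_lit 128, nat_lit 1⟩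
theorem tabok : tabOK (fun i => invL.getD i i) rels subs outer cols (nat_lit 7) (nat_lit 79) = true := by decide +kernel
theorem m0 : rng mF (nat_lit 1) (nat_lit 112) = 0 := by decide +kernel
noncomputable def s0 : List ℕ := [nat_lit 0x400000000000000000000000000000000000000000000000000000000000000000000000000000000000000000000000000000000000000000000000000000000000000000000000000000000000000000000000000000000000000000000000000000000000000000000000000000000000000000000000000000000000000000000000000000000000000000000000000000000000000000000000000000]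
theorem x0 : xs xF s0 (nat_lit 1) = 0 := by decide +kernel
theorem mz0 : AllZ mF 1 (nat_lit 113) := (AllZ.step (AllZ.nil mF 1) (nat_lit 112) (nat_lit 113) rfl m0)
theorem xz0 : XZ xF (nat_lit 1) := (XZ.step (XZ.nil xF) s0 (nat_lit 1) (nat_lit 1) (by decide +kernel) x0)
/-- the certificate (112 points) is valid -/
theorem valid : cert.Valid (fun i => invL.getD i i) rels subs 5 :=
  ⟨by decide +kernel, tabok, by decide +kernel, mz0, xz0⟩
theorem cert_N : cert.N = 112 := rfl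

end CL.TC.HNL
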