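/-
The order of the Thompson group divides the order of the image of the 248-dimensional representation.
-/
import Cfsg.Agent.Spor.ThRep

set_option autoImplicit false
set_option Elab.async false

namespace CL.Mx3

open CL.PG

/-- all words of a chain -/
def lvS (l : List ((ℕ × ℕ) × List (List ℕ) × ℕ)) : List (List ℕ) :=
  List.rec (motive := fun _ => List (List ℕ)) [] (fun c _ ih => c.2.1 ++ ih) l

/-- a chain of levels (row vector, new words, orbit length) -/
noncomputable def chainT (n : ℕ) (tab : ℕ → ℕ × ℕ) (l : List ((ℕ × ℕ) × List (List ℕ) × ℕ)) : Bool :=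
  List.rec (motive := fun _ => Bool) true (fun c l ih => levT n tab c.1 c.2.1 (lvS l) c.2.2 && ih) l

theorem RepT.chain {n : ℕ} {tab : ℕ → ℕ × ℕ} {gs : List (GL (Fin n) (ZMod 3))} (hT : RepT n tab gs)
    {l : List ((ℕ × ℕ) × List (List ℕ) × ℕ)} (e : chainT n tab l = true) :
    (l.map (·.2.2)).prod ∣ Nat.card (subW gs (lvS l)) := by
  induction l with
  | nil => exact one_dvd _
  | cons c l ih => exact hT.lev (Bool.and_eq_true_iff.1 e).1 (ih (Bool.and_eq_true_iff.1 e).2)

end CL.Mx3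

namespace CL.ThRep

open CL.Mx3 CL.PG Cfsg.Spor

theorem dvd_of {ws : List (List ℕ)} {l : List ((ℕ × ℕ) × List (List ℕ) × ℕ)}
    (e : chainT 248 (extT 248 ws tab 16) l = true) : (l.map (·.2.2)).prod ∣ Nat.card rho.range :=
  ((repX ws).chain e).trans (Subgroup.card_dvd_of_le (subW_le_range _ _))

def c2W : List (List ℕ) := [[11, 13, 14, 10], [14, 6, 4, 6, 14], [8, 6, 12, 14, 6, 8], [8, 6, 11, 8, 6, 11, 8], [10, 8, 6, 4, 6, 8, 11], [8, 6, 10, 8, 13, 14, 6, 10, 8]]
def c2L : List ((ℕ × ℕ) × List (List ℕ) × ℕ) := [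
  ((0xb0d464490a038, 0x452a1390658c3), [[6], [16]], 16),
  ((0x351637327118d, 0xc0c0c102c02), [[26]], 2),
  ((0x260a2e798e060, 0x8f0500610709), [[18]], 2),
  ((0x8641421009721, 0x1348881a0054), [[4]], 2),
  ((0x9a6108081558001049000020815f203c54345260c80c864008a06035014353, 0x40083565aa00a00f803d500e6e201d02a9c0050534e27992e2559588c08404), [[4, 22, 24, 26]], 4),
  ((0x5d0ad01016e820909081002b3d364202325c009330001d804a1a8a0001c0, 0x2d407e1e813d54c242497c0820820a8488149240140e0002001209b8203), [[6, 4, 20, 24, 26]], 2),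
  ((0x200188c522c2, 0x66132a180d), [[4, 6, 26, 24, 20]], 2),
  ((0x202209801c2, 0x24c3606820), [[4, 22, 4, 22]], 2),
  ((0x2001900, 0x20060), [[4, 6, 18, 6]], 2),
  ((0x80, 0), [[20, 20]], 2),
  ((0x1, 0), [[0]], 2)]

def c3W : List (List ℕ) := [[6, 8], [6, 14, 6, 15], [6, 15, 6, 14], [10, 8, 6, 13, 10, 8, 10], [14, 2, 0, 15, 2, 14], [25, 22, 24], [20, 20, 26, 20], [20, 26, 20, 20]]
def c3L : List ((ℕ × ℕ) × List (List ℕ) × ℕ) := [
  ((0x60630108205a96c84b4418f1e000000303cc000000000000000000000000, 0x10062530025293080200100000800042020000000000000000000000080), [[28]], 3),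
  ((0x822c4e0080880001c47584d5d09180c05510400a503d140080e00a00460081, 0x1881b1d2792160a63b82002824007806826789008d8289d91d18b1a310a100), [[28, 28, 30]], 3),
  ((0xd18b1a310a100, 0xe00a00460001), [[26]], 3),
  ((0x243820200253032508c0008034b5c8a508c9a9032805814140038800040000, 0x884d3522c2c5c024126b42808402202d310023815f80ea0a0005142000000), [[26, 18, 26, 26]], 3),
  ((0xa100a28013816630822040e80da4c080680726575c3910700000000000000, 0x8c51010c84680416cca2215a0520c0a915080a021048d000000000000080), [[28, 28, 28]], 3),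
  ((0x80425244540c888880456202101bb60020278600a4001c000000000000000, 0x209009b005200766b3a01e92b004880c608686300ad60e00000000000000), [[26, 26, 26]], 3),
  ((0x19000000000, 0x2400000004), [[22]], 3),
  ((0x80, 0), [[18]], 3),
  ((0x200000000, 0), [[16]], 3),
  ((0x1, 0), [[12]], 3)]

def c5W : List (List ℕ) := [[6, 14, 6, 11, 15], [2, 4, 14, 2], [18, 0, 19, 0, 6, 18], [13, 15, 6, 8, 10, 15, 6, 8, 11], [6, 11, 14, 6, 14], [20, 23, 24, 22, 21], [4, 6, 4, 8, 6, 11, 8, 13, 15, 6, 11, 8], [29, 26, 28]]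
def c5L : List ((ℕ × ℕ) × List (List ℕ) × ℕ) := [
  ((0x41410cd184147b1891054cdc6348c200224901040388d099f808c0780080, 0x1c0e41084a0884e6260a830300840d8b1516a819e050066006970281f011), [[30]], 5),
  ((0x800000000004114091d7509043a50204800c10850801180707b0944c58c40, 0x2e6990428a70200403d094622884282fc0780480d20002731c), [[26]], 5),
  ((0x1, 0), [[16]], 5)]

def c7W : List (List ℕ) := [[2, 4, 6, 4, 6]]
def c7L : List ((ℕ × ℕ) × List (List ℕ) × ℕ) := [
  ((0x20000000000, 0), [[16]], 7),
  ((0x1, 0), [[10]], 7)]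

def c13W : List (List ℕ) := [[2, 14, 6, 14]]
def c13L : List ((ℕ × ℕ) × List (List ℕ) × ℕ) := [
  ((0x1, 0), [[16]], 13)]

def c19W : List (List ℕ) := [[2, 6, 8, 11, 15]]
def c19L : List ((ℕ × ℕ) × List (List ℕ) × ℕ) := [
  ((0x1, 0), [[16]], 19)]

def c31W : List (List ℕ) := [[0, 2, 6, 8, 11, 14]]
def c31L : List ((ℕ × ℕ) × List (List ℕ) × ℕ) := [
  ((0x1, 0), [[16]], 31)]

theorem c2 : 32768 ∣ Nat.card rho.range := dvd_of (ws := c2W) (l := c2L) (by decide +kernel)

theorem c3 : 59049 ∣ Nat.card rho.range := dvd_of (ws := c3W) (l := c3L) (by decide +kernel)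

theorem c5 : 125 ∣ Nat.card rho.range := dvd_of (ws := c5W) (l := c5L) (by decide +kernel)

theorem c7 : 49 ∣ Nat.card rho.range := dvd_of (ws := c7W) (l := c7L) (by decide +kernel)

theorem c13 : 13 ∣ Nat.card rho.range := dvd_of (ws := c13W) (l := c13L) (by decide +kernel)

theorem c19 : 19 ∣ Nat.card rho.range := dvd_of (ws := c19W) (l := c19L) (by decide +kernel)

theorem c31 : 31 ∣ Nat.card rho.range := dvd_of (ws := c31W) (l := c31L) (by decide +kernel)

theorem dvd : 90745943887872000 ∣ Nat.card rho.range :=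
  Nat.Coprime.mul_dvd_of_dvd_of_dvd (m := 32768 * 59049 * 125 * 49 * 13 * 19) (by norm_num)
    (Nat.Coprime.mul_dvd_of_dvd_of_dvd (by norm_num) (Nat.Coprime.mul_dvd_of_dvd_of_dvd (by norm_num)
      (Nat.Coprime.mul_dvd_of_dvd_of_dvd (by norm_num) (Nat.Coprime.mul_dvd_of_dvd_of_dvd (by norm_num)
        (Nat.Coprime.mul_dvd_of_dvd_of_dvd (by norm_num) c2 c3) c5) c7) c13) c19) c31

theorem dvd_card : 90745943887872000 ∣ Nat.card Th :=
  dvd.trans (Subgroup.card_dvd_of_surjective _ rho.rangeRestrict_surjective)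

theorem card_eq_of_le [Finite Th] (h : Nat.card Th ≤ 90745943887872000) :
    Nat.card Th = 90745943887872000 ∧ Function.Injective rho := by
  have h1 := Nat.le_of_dvd Nat.card_pos dvd_card
  have : Finite rho.range := Finite.of_surjective _ rho.rangeRestrict_surjective
  have h2 := (rho.rangeRestrict_surjective.bijective_of_nat_card_le (h.trans (Nat.le_of_dvd Nat.card_pos dvd))).1
  exact ⟨le_antisymm h h1, fun x y e => h2 (Subtype.ext e)⟩

end CL.ThRep
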