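/-
Held type, part 1: codes for `2^{1+6}_+` and two enumerations of the orthogonal group `O⁺(6, 2)`.
The code `a + 8 b + 64 c` stands for `X^a Y^b z^c`.
-/
import Cfsg.Agent.Spor.HeldCfg

set_option autoImplicit false

namespace CL.Held

open CL.Mx CL.TC

/-- bit `i` of `p` as a number -/
noncomputable def bt (p i : ℕ) : ℕ := Nat.land (Nat.shiftRight p i) (nat_lit 1)

/-- the product of two codes -/
noncomputable def qm (a b : ℕ) : ℕ := Nat.xor (Nat.xor a b) (Nat.shiftLeft
  (bt (nat_lit 0x96) (Nat.land (Nat.land (Nat.shiftRight a (nat_lit 3)) b) (nat_lit 7))) (nat_lit 6))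

/-- substitution of `m i` for the generators `i ∈ l` -/
noncomputable def apL (m : ℕ → ℕ) (p : ℕ) (l : List ℕ) : ℕ :=
  List.rec (motive := fun _ => ℕ) (Nat.land p (nat_lit 64))
    (fun i _ ih => frc ih fun r => frc (Nat.mul (m i) (bt p i)) fun x => qm x r) l

/-- the endomorphism with the values `m i` on the generators -/
noncomputable def ap (m : ℕ → ℕ) (p : ℕ) : ℕ := apL m p [0, 1, 2, 3, 4, 5]

/-- the linear map with the given values on the basis -/
noncomputable def app (v0 v1 v2 v3 v4 v5 v : ℕ) : ℕ :=
  Nat.xor (Nat.mul v0 (bt v (nat_lit 0))) (Nat.xor (Nat.mul v1 (bt v (nat_lit 1))) (Nat.xor (Nat.mul v2 (bt v (nat_lit 2)))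
    (Nat.xor (Nat.mul v3 (bt v (nat_lit 3))) (Nat.xor (Nat.mul v4 (bt v (nat_lit 4)))
      (Nat.xor (Nat.mul v5 (bt v (nat_lit 5))) (nat_lit 0))))))

/-- the vectors that are not orthogonal to `v` -/
noncomputable def PM (v : ℕ) : ℕ := lk (nat_lit 0x69969669966969969696696969699696966996696996699669696969969696969669699696696996696996966969969669966996699669969696969696969696c33c3cc33cc3c33c3c3cc3c3c3c33c3c3cc33cc3c33cc33cc3c3c3c33c3c3c3c3cc3c33c3cc3c33cc3c33c3cc3c33c3cc33cc33cc33cc33c3c3c3c3c3c3c3c3ca55a5aa55aa5a55a5a5aa5a5a5a55a5a5aa55aa5a55aa55aa5a5a5a55a5a5a5a5aa5a55a5aa5a55aa5a55a5aa5a55a5aa55aa55aa55aa55a5a5a5a5a5a5a5a5a0ff0f00ff00f0ff0f0f00f0f0f0ff0f0f00ff00f0ff00ff00f0f0f0ff0f0f0f0f00f0ff0f00f0ff00f0ff0f00f0ff0f00ff00ff00ff00ff0f0f0f0f0f0f0f0f09966669966999966666699999999666666996699996699669999999966666666669999666699996699996666999966669966996699669966666666666666666633cccc33cc3333cccccc33333333cccccc33cc3333cc33cc33333333cccccccccc3333cccc3333cc3333cccc3333cccc33cc33cc33cc33cccccccccccccccccc55aaaa55aa5555aaaaaa55555555aaaaaa55aa5555aa55aa55555555aaaaaaaaaa5555aaaa5555aa5555aaaa5555aaaa55aa55aa55aa55aaaaaaaaaaaaaaaaaaff0000ff00ffff000000ffffffff000000ff00ffff00ff00ffffffff0000000000ffff0000ffff00ffff0000ffff0000ff00ff00ff00ff000000000000000000)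
  (nat_lit 64) (nat_lit 0xffffffffffffffff) v

/-- the singular vectors -/
def Sg : ℕ := nat_lit 0x69c3a50f993355ff

/-- all positions of bits of a number -/
noncomputable def allBits (p : ℕ → Bool) (n : ℕ) : ℕ → Bool :=
  Nat.rec (motive := fun _ => ℕ → Bool) (fun _ => true) (fun _ ih g => Bool.rec (motive := fun _ => Bool)
    (frc (Nat.log2 g) fun v => Bool.rec (motive := fun _ => Bool) false
      (frc (Nat.xor g (Nat.shiftLeft (nat_lit 1) v)) ih) (p v)) true (Nat.beq g (nat_lit 0))) n

theorem allBits_spec {p : ℕ → Bool} {v : ℕ} : ∀ {n g : ℕ}, g < 2 ^ n → allBits p n g = true → g.testBit v = true →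
    p v = true
  | 0, g, h, _, hv => by rw [show g = 0 by omega] at hv; simp at hv
  | n + 1, g, h, e, hv => by
    have h0 : g ≠ 0 := by rintro rfl; simp at hv
    have e1 : allBits p (n + 1) g = Bool.rec (motive := fun _ => Bool) (Bool.rec (motive := fun _ => Bool) false
      (allBits p n (g ^^^ 1 <<< g.log2)) (p g.log2)) true (Nat.beq g 0) := rfl
    rw [e1, Bool.eq_false_iff.2 fun e => h0 (Nat.eq_of_beq_eq_true e), Nat.one_shiftLeft] at e
    cases hp : p g.log2 <;> rw [hp] at e
    · exact absurd e (by simp)
    by_cases h1 : g.log2 = v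
    · rwa [← h1]
    refine allBits_spec (Nat.lt_pow_two_of_testBit _ fun i hi => ?_) e (by simp [h1, hv])
    rw [Nat.testBit_xor, Nat.testBit_two_pow]
    by_cases h2 : g.log2 = i
    · rw [← h2, Nat.testBit_log2 h0]; simp
    · have h3 : g.log2 < n + 1 := (Nat.log2_lt h0).2 h
      rw [Nat.testBit_lt_two_pow ((Nat.log2_lt h0).1 (by omega))]; simp [h2]

/-- all singular vectors outside the set `b` -/
noncomputable def allV (b : ℕ) (p : ℕ → ℕ → Bool) : Bool :=
  frc (Nat.xor (Nat.lor Sg b) b) (allBits (fun v => frc (PM v) (p v)) (nat_lit 64))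

noncomputable def cpl (a : ℕ) : ℕ := Nat.xor a (nat_lit 0xffffffffffffffff)

/-- all hyperbolic bases, except those excluded by `b` and `s` -/
noncomputable def allO (b : ℕ) (s : ℕ → ℕ → ℕ → ℕ) (p : (ℕ → ℕ) → Bool) : Bool :=
  allV b fun v0 a0 => allV (Nat.lor a0 (s v0 0 1)) fun v1 a1 =>
    allV (Nat.lor (Nat.lor a0 a1) (Nat.lor (s v0 0 2) (s v1 1 2))) fun v2 a2 =>
    allV (Nat.lor (Nat.lor (Nat.lor (cpl a0) a1) a2) (Nat.lor (Nat.lor (s v0 0 3) (s v1 1 3)) (s v2 2 3))) fun v3 a3 =>
    allV (Nat.lor (Nat.lor (Nat.lor (Nat.lor a0 (cpl a1)) a2) a3)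
      (Nat.lor (Nat.lor (Nat.lor (s v0 0 4) (s v1 1 4)) (s v2 2 4)) (s v3 3 4))) fun v4 a4 =>
    allV (Nat.lor (Nat.lor (Nat.lor (Nat.lor (Nat.lor a0 a1) (cpl a2)) a3) a4)
      (Nat.lor (Nat.lor (Nat.lor (Nat.lor (s v0 0 5) (s v1 1 5)) (s v2 2 5)) (s v3 3 5)) (s v4 4 5))) fun v5 _ =>
      p (app v0 v1 v2 v3 v4 v5)

theorem allV_spec {b v : ℕ} {p : ℕ → ℕ → Bool} (h : allV b p = true) (hv : Sg.testBit v = true)
    (hb : b.testBit v = false) : p v (PM v) = true := by
  rw [allV, frc_eq] at h
  have k : ∀ i, (Nat.xor (Nat.lor Sg b) b).testBit i = ((Sg.testBit i || b.testBit i) ^^ b.testBit i) := fun i =>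
    (Nat.testBit_xor _ _ _).trans (congrArg (· ^^ _) (Nat.testBit_or _ _ _))
  refine allBits_spec (p := fun v => frc (PM v) (p v)) (Nat.lt_pow_two_of_testBit _ fun i hi => ?_) h (by simp [hv, hb])
  rw [k, Nat.testBit_lt_two_pow (lt_of_lt_of_le (by decide : Sg < 2 ^ 64) (Nat.pow_le_pow_right (by norm_num) hi))]
  simp

theorem allO_spec {b : ℕ} {s : ℕ → ℕ → ℕ → ℕ} {p : (ℕ → ℕ) → Bool} (h : allO b s p = true) {v : ℕ → ℕ}
    (hs : ∀ i < 6, v i < 64 ∧ Sg.testBit (v i) = true)
    (hb : ∀ i < 6, ∀ j < i, (PM (v j)).testBit (v i) = decide (i = j + 3)) (h0 : b.testBit (v 0) = false)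
    (h1 : ∀ i < 6, ∀ j < i, (s (v j) j i).testBit (v i) = false) :
    p (app (v 0) (v 1) (v 2) (v 3) (v 4) (v 5)) = true := by
  have c : ∀ a, ∀ i < 6, (cpl a).testBit (v i) = !a.testBit (v i) := fun a i hi => by
    have := (by decide : ∀ x < 64, (0xffffffffffffffff : ℕ).testBit x = true) _ (hs i hi).1
    exact (Nat.testBit_xor _ _ _).trans (by rw [this]; simp)
  refine allV_spec (allV_spec (allV_spec (allV_spec (allV_spec (allV_spec h (hs 0 (by decide)).2 h0)
    (hs 1 (by decide)).2 ?_) (hs 2 (by decide)).2 ?_) (hs 3 (by decide)).2 ?_) (hs 4 (by decide)).2 ?_) (hs 5 (by decide)).2 ?_ <;>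
    simp [c, hb, h1]

/-- the action of a word in the letters `7`, `8` -/
noncomputable def lact (f7 f8 : ℕ → ℕ) (w : List ℕ) (v : ℕ) : ℕ :=
  List.rec (motive := fun _ => ℕ) v
    (fun i _ ih => frc ih (Bool.rec (motive := fun _ => ℕ → ℕ) f8 f7 (Nat.beq i (nat_lit 7)))) w

/-- the word acts as `m` -/
noncomputable def acts (f7 f8 : ℕ → ℕ) (w : List ℕ) (m : ℕ → ℕ) : Bool :=
  allL (fun i => Nat.beq (lact f7 f8 w (Nat.shiftLeft (nat_lit 1) i)) (m i)) [0, 1, 2, 3, 4, 5]

noncomputable def exL {α : Type} (f : α → Bool) (l : List α) : Bool := !allL (fun x => !f x) l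

theorem exL_spec {α : Type} {f : α → Bool} {l : List α} (h : exL f l = true) : ∃ x ∈ l, f x = true := by
  simpa [exL, ← Bool.not_eq_true, allL_iff] using h

/-- a table of six codes -/
noncomputable def tb7 (T i : ℕ) : ℕ := lk T (nat_lit 7) (nat_lit 127) i

/-- the generators -/
noncomputable def idT : ℕ → ℕ := Nat.shiftLeft (nat_lit 1)
/-- the element of order seven -/
noncomputable def sT : ℕ → ℕ := tb7 (nat_lit 0x420300c202)
/-- the three involutions -/
noncomputable def xT (j : ℕ) : ℕ → ℕ := tb7 (lk (nat_lit 0x8201088a01a2210082018201008201) (nat_lit 40) (nat_lit 0xffffffffff) j)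

/-- the codes `m i` satisfy the relations of the generators -/
noncomputable def relQ (m : ℕ → ℕ) : Bool := allL (fun i => Nat.blt (m i) 64 && (Nat.beq (qm (m i) (m i)) 0 &&
  allL (fun j => Nat.beq (qm (m i) (m j)) (qm (m j) (if i = j + 3 then qm 64 (m i) else m i))) (List.range i)))
    [0, 1, 2, 3, 4, 5]

noncomputable def okB (f m : ℕ → ℕ) : Bool :=
  relQ m && allL (fun i => Nat.beq (f (m i)) (Nat.land (ap m (sT i)) 63)) [0, 1, 2, 3, 4, 5]

def SgL : List ℕ := [1, 2, 3, 4, 5, 6, 7, 8, 10, 12, 14, 16, 17, 20, 21, 24, 27, 28, 31, 32, 33, 34, 35, 40, 42, 45,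
  47, 48, 49, 54, 55, 56, 59, 61, 62]

noncomputable def leaf1 (f : ℕ → ℕ) : Bool := !acts f f [7, 7, 7, 7, 7, 7, 7] idT || (acts f f [7] idT ||
  exL (fun u => frc (f u) fun u1 => frc (f u1) fun u2 => Nat.beq (f u2) (Nat.xor u u1) &&
    exL (fun b => frc (PM b) fun a => tb a u1 && (!tb a u && (!tb a u2 && frc (f b) fun b1 => frc (f b1) fun b2 =>
      Nat.beq (f b2) (Nat.xor b2 b) && okB f fun i => [u, u1, u2, b2, b, b1].getD i 0))) SgL) SgL)

noncomputable def sL : ℕ → ℕ := app 2 4 3 24 32 8

noncomputable def leaf2 (f : ℕ → ℕ) : Bool := !acts sL f [8, 8] idT || (!acts sL f [8, 7, 8, 7, 8, 7] idT ||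
  (!acts sL f [7, 7, 7, 7, 8, 7, 7, 7, 7, 8, 7, 7, 7, 7, 8, 7, 7, 7, 7, 8] idT || (acts sL f [8] idT ||
    exL (fun k => exL (fun j => acts sL f (List.replicate k 7 ++ 8 :: List.replicate (7 - k) 7) (xT j)) [0, 1, 2])
      [0, 1, 2, 3, 4, 5, 6])))

/-- the vectors `w` with `B(e_j, w) ≠ B(v, e_i)` -/
noncomputable def sy (v j i : ℕ) : ℕ :=
  Nat.xor (PM (idT j)) (Nat.mul (nat_lit 0xffffffffffffffff) (bt (PM v) (idT i)))

theorem c_O1 : allO (cpl 0x104) (fun _ _ _ => 0) leaf1 = true := by decide +kernel
theorem c_O3 : allO 0 sy leaf2 = true := by decide +kernel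

/-- hyperbolic bases through two given vectors -/
noncomputable def FT (i u : ℕ) : ℕ → ℕ := tb7 (lk (nat_lit 0x1d917c841a07041ea106800000000000220428376800000000000000000000008010a0dc206229ba202818086c880a0000000000000000000000000000000000000000000140830162804020c0582054457a10480000000000050416a104800000000000000000000008810a09520000000000008010a094200000000000000000000000000000000000000000003040a014680410280512020206024280000000000044a0f98068000000000000000000000110838601a022042033680000000000000000000000801080cc2000000000000000000000044a0a90028110828400a0000000000000000000000140820122804020804820000000000010b01c2012000000000001090182012000000000000881080852000000000000801080842060a038202818080c080a020a0282028080808080a030402010680410080412020202020280000000000000000000001ea17c4429042041857a4000000000007081d910a400000000000000000000010010615c106231b9402418086c50090000000000000000000000000000000000000000000181030162404040c058105a857910a40000000000042041055a40000000000000000000001420544429000000000001001041541000000000000000000000000000000000000000000042311940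24100844500901810101424040404050103884f9108400000000000000000000010810610e103080d9108400000000000000000000010010610c1000000000000000000000050811012a404204404a10000000000000000000000402050422400000000000000000000008b01c20210000000000010810410610000000000008a01420210000000000010010410410606038402418080c1009050801010a404200404210406018402410080410090402010402400000000000000000000011020619f087c89e8a0c2000000000007081d8a0c200000000000000000000010020619c086c89b8a0c211020219b08000000000000000000000000000000000000000000608188a0c210020219808545178c04200000000000504168c0420000000000000000000000a040a09508000000000008040a09408000000000000000000000000000000000000000000445118c0420a040209108404108c042080402090083888f8a08200000000000000000000011020610e083080d8a08200000000000000000000010020610c080000000000000000000002888a8a08211020210a08000000000000000000000208088a0821002021080800000000001820420870800000000000820420860800000000001010221050800000000000000000000050603840421820020830850402840420820020820840601840421010021010840400840420000000000000000000000f917c141843841e850610000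00000003645d850610000000000000000000000c1070141842a29b860210a086c180840000000000000000000000000000000000000000002229886021080860180841c457850410000000000018416850410000000000000000000000511541410400000000000410501410400000000000000000000000000000000000000000028311820210a08440808420310820210808400808422050833e10000000000000000000000801420ce0422050033610000000000000000000000801400cc0400000000000000000000014091012a104024404a0400000000000000000000014090012210402400480400000000000881420870400000000000801420860400000000000881400850400000000000801400840430418010e10410600430420214020a1000000000003041001061041040041042021002021000000000000000000000112a7c1418244a1e850608000000000040a9d85060800000000000000000000102870141824429b8602091086c1808200000000000000000000000000000000000000000040298860209008601808242048855e08000000000042048055a0800000000000000000000100122155020000000000100120154020000000000000000000000000000000000000000001810a01460840428051021810801420840420050024428f84060800000000000000000000110838101824028d840608000000000000000000001008301018200000000000000000000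04428a840209108281008200000000000000000000040288840209008201008200000000001081221070200000000001081201060200000000001001221050200000000001001201040250818010e08420600430250808010a0842020042024020c0406080000000000402080402080000000000000000000010917c141814241e85060400000000004045d850604000000000000000000001010701418144085066e051021019b0100000000000000000000000000000000000000000040085066205002101980142457850404000000000042416850404000000000000000000001011541410100000000001010501410100000000000000000000000000000000000000000028106024604a0410091012010602420480410090014244f84060400000000000000000000109038101814044d840604000000000000000000001010301018100000000000000000000044085042a051021010a01000000000000000000000400850422050021010801000000000010911c1010100000000001090181010100000000001011141010100000000001010101010160814020e05820100830120814020a0482010082014040c0406050101010101000000000000000000000)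
  (nat_lit 42) (nat_lit 0x3ffffffffff) (64 * i + u))

theorem c_FT : ∀ i < 6, ∀ u < 64, (!Sg.testBit u || (Nat.beq u (idT i) || (Nat.beq u 0 || (relQ (FT i u) &&
    (Nat.beq (FT i u 0) (idT i) && (Nat.beq (FT i u 1) u || Nat.beq (FT i u 3) u)))))) = true := by decide +kernel

end CL.Held
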