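/-
Held type, part 3: the facts about `SL(3, 2)` and about `2^{1+6}_+` that are used in the reduction.
-/
import Cfsg.Agent.Spor.HeldFr
import Cfsg.Agent.Grp.ExtraTwo
import Cfsg.Agent.Cls.SLnCard

set_option autoImplicit false

namespace CL.Held

open CL.Mx CL.TC CL.Grp Subgroup Cfsg

/-- `SL(3, 2)` -/
abbrev SL3 := Matrix.SpecialLinearGroup (Fin 3) (ZMod 2)

/-- product of two 9-bit codes -/
noncomputable def m3 (a b : ℕ) : ℕ := Nat.land (mul2 3 a b) (nat_lit 511)

/-- the code of an element of `SL(3, 2)` -/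
def R3 (a : ℕ) (g : SL3) : Prop := a < 512 ∧ dec2 3 a = g

theorem R3.mul {a b : ℕ} {g h : SL3} (h1 : R3 a g) (h2 : R3 b h) : R3 (m3 a b) (g * h) :=
  ⟨Nat.lt_succ_of_le Nat.and_le_right, (dec2_low 3 _).trans (by rw [dec2_mul2, h1.2, h2.2]; rfl)⟩

theorem R3.one : R3 0x111 1 := ⟨by norm_num, dec2_one2 3⟩

theorem R3.eq {a b : ℕ} {g h : SL3} (h1 : R3 a g) (h2 : R3 b h) : g = h ↔ a = b := by
  refine ⟨fun e => Nat.eq_of_testBit_eq fun p => ?_, fun e => Subtype.ext (by rw [← h1.2, ← h2.2, e])⟩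
  by_cases hp : p < 9
  · have := congrFun (congrFun (h1.2.trans (e ▸ h2.2.symm)) ⟨p / 3, by omega⟩) ⟨p % 3, by omega⟩
    have e : p / 3 * 3 + p % 3 = p := by omega
    simp only [dec2, Matrix.of_apply, e] at this
    exact b2_inj this
  · have h3 : 2 ^ 9 ≤ 2 ^ p := Nat.pow_le_pow_right (by norm_num) (by omega)
    rw [Nat.testBit_lt_two_pow (h1.1.trans_le h3), Nat.testBit_lt_two_pow (h2.1.trans_le h3)]

theorem exists_R3 (g : SL3) : ∃ a, R3 a g := by
  refine ⟨Nat.ofBits fun k : Fin 9 => decide (g.1 ⟨k / 3, by omega⟩ ⟨k % 3, by omega⟩ = 1),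
    Nat.ofBits_lt_two_pow _, ?_⟩
  ext i j
  have hi := i.2
  have hj := j.2
  rw [dec2, Matrix.of_apply, Nat.testBit_ofBits_lt _ _ (by omega)]
  have e1 : (⟨((i : ℕ) * 3 + j) / 3, by omega⟩ : Fin 3) = i := Fin.ext (by simp; omega)
  have e2 : (⟨((i : ℕ) * 3 + j) % 3, by omega⟩ : Fin 3) = j := Fin.ext (by simp)
  simp only [e1, e2]
  generalize g.1 i j = x
  revert x; decide

/-- the value of a binary word in the two generators -/
noncomputable def evb (n : ℕ) : ℕ → ℕ :=
  Nat.rec (motive := fun _ => ℕ → ℕ) (fun _ => 0x111) (fun _ ih w => Bool.rec (motive := fun _ => ℕ)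
    (frc (ih (Nat.shiftRight w 1)) (m3 (Bool.rec (motive := fun _ => ℕ) 94 124 (tb w 0)))) 0x111 (Nat.beq w 1)) n

/-- words for all elements -/
noncomputable def T3 : ℕ → ℕ := lk (nat_lit 0x242003508900084000000000000088400000145008500000c4900000000001900a1000000000891021200000000051200410000000003090091000000000124000000900018000000340000000000000062030800a0014400000000000000000000000000000000000000000000000001890088001204100000000000000000000000000000000000000000000c000000000a240000000405100000110900000248000004110000000500000249000000000420000006490222000005200000008900000032000001880000000000000648000d05210845000000000000000000000000000000000000000000000491000001120061000000d100000050000000000082000000d000a4000000000000000000000000000000000000048500c400000000034200600000000000c5000000000c84000000450484000000000c9100000051002100000312000000200044000000000142049000000000000000000000000000000000000000000000144901050000000006200245000000a200000120000000c90000050800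00001a011100000000050900c8000000000000000000000000000000000000000000000006002800000000022401100000044200001090000001040000000100000121041200000000109100290000000000000000000000000000000000000000000000650285000000000822068400000031000000000848000000110a120000009200000000020900000192029100000000029000100000000000c200240000000000000000000000000000000000000a4200250685028400000000000000000042020800300064000000000000000000000000000000000000000000000000000003240000001400080000019000000184000006420000104500000015000000000422000004490185000003450000028900000022000001a000000108000001090288005201910000000000000000000000000000000000000000000000000448000901a10612000000000000000000000000000000000000000000000000000000000909000301480211000000000000000003200221004901a20000000000480210000000000424000a0000000000690445000000000a20032100000000062400020068031000000000000000000220090801490122000000000000000000000000000000000000000000000000000000000000000000000000000000000000000000000000000000000000000000000000000000000000000000000000000000000000000000000000000000000000000000000000000000000000000000000000000000000000000000000000000000000000000000000000000000000000000000000000000000000000000000000000000000000000000000000000)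 (nat_lit 16) (nat_lit 0xffff)

theorem c_gen3 : ∀ a < 512, (dec2 3 a).det = 1 → evb 13 (T3 a) = a := by
  simp only [Matrix.det_fin_three]; decide +kernel

theorem c_f3 : allN (fun c => frc (m3 c c) fun c2 => frc (m3 c2 c2) fun c4 => !Nat.beq (m3 c4 c4) 0x111 ||
    (Nat.beq c4 0x111 && (Nat.beq c2 0x111 || allN (fun y => !Nat.beq (m3 y y) 0x111 || (Nat.beq y 0x111 ||
      (!Nat.beq (m3 c y) (m3 y c) || Nat.beq (m3 c2 y) 0x111))) 512))) 512 = true := by decide +kernel

theorem sl3_f {c : SL3} (h : c ^ 8 = 1) : c ^ 4 = 1 ∧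
    ∀ y, y * y = 1 → y ≠ 1 → c * y = y * c → c * c = 1 ∨ c * c * y = 1 := by
  rw [show c ^ 8 = c * c * (c * c) * (c * c * (c * c)) by simp only [pow_succ, pow_zero, one_mul, mul_assoc]] at h
  rw [show c ^ 4 = c * c * (c * c) by simp only [pow_succ, pow_zero, one_mul, mul_assoc]]
  obtain ⟨a, ha⟩ := exists_R3 c
  have h2 := ha.mul ha
  have h4 := h2.mul h2
  have k := allN_spec c_f3 a ha.1
  simp only [frc_eq, ((h4.mul h4).eq R3.one).1 h, Bool.or_eq_true, Bool.and_eq_true, Nat.beq_eq, Bool.not_eq_true',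
    Bool.eq_false_iff, ne_eq, not_true, false_or] at k
  refine ⟨(h4.eq R3.one).2 k.1, fun y y2 y1 e => k.2.imp (h2.eq R3.one).2 fun k => ?_⟩
  obtain ⟨b, hb⟩ := exists_R3 y
  have k := allN_spec k b hb.1
  simp only [((hb.mul hb).eq R3.one).1 y2, ← hb.eq R3.one, y1, ((ha.mul hb).eq (hb.mul ha)).1 e, Bool.or_eq_true,
    Nat.beq_eq, Bool.not_eq_true', Bool.eq_false_iff, ne_eq, not_true, false_or] at k
  exact ((h2.mul hb).eq R3.one).2 k

theorem sl3_gens : ∃ s x : SL3, s ^ 7 = 1 ∧ s ≠ 1 ∧ x * x = 1 ∧ x ≠ 1 ∧ (x * s) ^ 3 = 1 ∧ (s ^ 4 * x) ^ 4 = 1 ∧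
    ∀ K : Subgroup SL3, s ∈ K → x ∈ K → ∀ g, g ∈ K := by
  refine ⟨⟨dec2 3 94, by decide +kernel⟩, ⟨dec2 3 124, by decide +kernel⟩, by decide +kernel,
    fun e => absurd (congrArg Subtype.val e) (by decide +kernel), by decide +kernel,
    fun e => absurd (congrArg Subtype.val e) (by decide +kernel), by decide +kernel, by decide +kernel,
    fun K hs hx g => ?_⟩
  have k : ∀ n w, ∃ g ∈ K, R3 (evb n w) g := fun n => by
    induction n with
    | zero => exact fun _ => ⟨1, one_mem _, R3.one⟩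
    | succ n ih =>
      intro w
      have e : evb (n + 1) w = Bool.rec (motive := fun _ => ℕ) (frc (evb n (w >>> 1))
        (m3 (Bool.rec (motive := fun _ => ℕ) 94 124 (tb w 0)))) 0x111 (Nat.beq w 1) := rfl
      obtain ⟨u, h1, h2⟩ := ih (w >>> 1)
      rw [e, frc_eq]
      cases Nat.beq w 1
      · cases tb w 0
        exacts [⟨_, mul_mem hs h1, R3.mul ⟨by norm_num, rfl⟩ h2⟩, ⟨_, mul_mem hx h1, R3.mul ⟨by norm_num, rfl⟩ h2⟩]
      · exact ⟨1, one_mem _, R3.one⟩
  obtain ⟨a, ha⟩ := exists_R3 g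
  obtain ⟨u, h1, h2⟩ := k 13 (T3 a)
  rwa [(ha.eq h2).2 (c_gen3 a ha.1 (ha.2 ▸ g.2)).symm]

/-- standard generators of `2^{1+6}_+` -/
theorem exists_gens {E : Type*} [Group E] [Finite E] (h : IsExtraspecial 2 E) (hc : Nat.card E = 2 ^ 7)
    (hp : ∃ A : Subgroup E, IsElementaryAbelian 2 A ∧ Nat.card A = 2 ^ 4) {z : E} (hz : z ∈ center E) (h1 : z ≠ 1) :
    ∃ y : ℕ → E, ∀ i < 6, y i * y i = 1 ∧ ∀ j < i, y i * y j = y j * (if i = j + 3 then z * y i else y i) := by
  obtain ⟨n, H, -, e, -, hN, hn⟩ := extra_exists_heis_of_mem h hz h1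
  obtain rfl : n = 3 := by
    have := Nat.pow_right_injective le_rfl (hn.symm.trans hc)
    omega
  have h2 := H.card_sq_eq_one
  rw [(extra2_plus_iff h (m := 3) hc).1 hp, Nat.card_fun, Nat.card_zmod, Nat.card_fin] at h2
  obtain ⟨f, f1, f2⟩ := exists_isometry_of_gauss2_eq (V := Fin 6 → ZMod 2)
    (B := LinearMap.mk₂ (ZMod 2) (fun v w => v 0 * w 3 + v 3 * w 0 + v 1 * w 4 + v 4 * w 1 + v 2 * w 5 + v 5 * w 2)
      (by intros; simp; ring) (by intros; simp; ring) (by intros; simp; ring) (by intros; simp; ring))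
    (q := fun v => v 0 * v 3 + v 1 * v 4 + v 2 * v 5) (by intros; simp; ring) H.q_add_two
    (by simp only [LinearMap.mk₂_apply]; decide +kernel) hN rfl
    (by rw [show gauss2 H.q = 8 by push_cast at h2; linarith, gauss2]; decide +kernel)
  refine ⟨fun i => H.σ (f fun k => if k.1 = i then 1 else 0), fun i hi => ⟨?_, fun j hj => ?_⟩⟩
  · rw [← _root_.sq, ← H.q_eq_zero_iff, H.π_σ, f2]
    revert i; decide +kernel
  · rw [H.mul_eq_mul_mul_ι, H.π_σ, H.π_σ, f1, mul_assoc, H.ι_comm]
    have : ∀ i < 6, ∀ j < i, ((if 0 = i then 1 else 0) * (if 3 = j then 1 else 0) +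
        (if 3 = i then 1 else 0) * (if 0 = j then 1 else 0) + (if 1 = i then 1 else 0) * (if 4 = j then 1 else 0) +
        (if 4 = i then 1 else 0) * (if 1 = j then 1 else 0) + (if 2 = i then 1 else 0) * (if 5 = j then 1 else 0) +
        (if 5 = i then 1 else 0) * (if 2 = j then 1 else 0) : ZMod 2) = if i = j + 3 then 1 else 0 := by decide +kernel
    rw [LinearMap.mk₂_apply]
    erw [this i hi j hj]
    split_ifs
    exacts [by rw [e], by rw [H.ι_zero, one_mul]]

variable {G : Type*} [Group G]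

/-- what is used of the quotient `C(z) / Q` -/
structure L3 (z : G) (Q : Subgroup G) : Prop where
  gens : ∃ s x : G, s * z = z * s ∧ x * z = z * x ∧ s ^ 7 ∈ Q ∧ s ∉ Q ∧ x * x ∈ Q ∧ x ∉ Q ∧ (x * s) ^ 3 ∈ Q ∧
    (s ^ 4 * x) ^ 4 ∈ Q ∧ ∀ K : Subgroup G, Q ≤ K → s ∈ K → x ∈ K → ∀ c, c * z = z * c → c ∈ K
  f : ∀ {c : G}, c * z = z * c → c ^ 8 = 1 → c ^ 4 ∈ Q ∧
    ∀ y, y * z = z * y → y * y = 1 → y ∉ Q → c * y = y * c → c * c ∈ Q ∨ c * c * y ∈ Q

theorem exists_amb [Finite G] {t : G} (ht : orderOf t = 2) (Q : Subgroup (centralizer ({t} : Set G))) [Q.Normal]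
    (hQ : IsExtraspecial 2 Q) (hc : Nat.card Q = 2 ^ 7)
    (hp : ∃ E : Subgroup Q, IsElementaryAbelian 2 E ∧ Nat.card E = 2 ^ 4)
    (h2 : centralizer (Q : Set (centralizer ({t} : Set G))) ≤ Q) (e : centralizer ({t} : Set G) ⧸ Q ≃* SL3) :
    ∃ P : Subgroup G, Amb t P ∧ L3 t P ∧ Nonempty (Fr t P) ∧ Nat.card (centralizer ({t} : Set G)) = 21504 := by
  obtain ⟨π, p1, p2⟩ : ∃ π : centralizer ({t} : Set G) →* SL3, Function.Surjective π ∧
      ∀ c, π c = 1 ↔ (c : G) ∈ Q.map (centralizer {t}).subtype :=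
    ⟨e.toMonoidHom.comp (QuotientGroup.mk' Q), e.surjective.comp (QuotientGroup.mk'_surjective Q), fun c => by
      simp [QuotientGroup.eq_one_iff]⟩
  have t1 : t ≠ 1 := by rintro rfl; simp at ht
  have A : Amb t (Q.map (centralizer {t}).subtype) := by
    refine ⟨t1, by rw [card_map_of_injective (subtype_injective _), hc]; rfl, fun {c} h q hq => ?_, fun {c} h hq => ?_⟩
    · obtain ⟨q, hq, rfl⟩ := hq
      exact ⟨_, ‹Q.Normal›.conj_mem q hq ⟨c, mem_cent1.2 h⟩, rfl⟩
    · exact ⟨⟨c, mem_cent1.2 h⟩, h2 fun q h1 => Subtype.ext (hq q ⟨q, h1, rfl⟩).symm, rfl⟩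
  have tQ : (⟨t, mem_cent1.2 rfl⟩ : centralizer ({t} : Set G)) ∈ Q := h2 fun q _ => Subtype.ext (mem_cent1.1 q.2)
  refine ⟨_, A, ⟨?_, fun {c} h h8 => ?_⟩, ?_, ?_⟩
  · obtain ⟨s, x, h1, h2, h3, h4, h5, h6, h7⟩ := sl3_gens
    obtain ⟨s, rfl⟩ := p1 s
    obtain ⟨x, rfl⟩ := p1 x
    refine ⟨s, x, mem_cent1.1 s.2, mem_cent1.1 x.2, (p2 (s ^ 7)).1 (by simpa using h1), mt (p2 s).2 h2,
      (p2 (x * x)).1 (by simpa using h3), mt (p2 x).2 h4, (p2 ((x * s) ^ 3)).1 (by simpa using h5),
      (p2 ((s ^ 4 * x) ^ 4)).1 (by simpa using h6), fun K k1 k2 k3 c hc => ?_⟩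
    obtain ⟨u, u1, u2⟩ := h7 ((K.comap (centralizer {t}).subtype).map π) ⟨s, k2, rfl⟩ ⟨x, k3, rfl⟩ (π ⟨c, mem_cent1.2 hc⟩)
    have := k1 ((p2 (u⁻¹ * ⟨c, mem_cent1.2 hc⟩)).1 (by simp [u2]))
    exact (K.mul_mem_cancel_left (inv_mem u1)).1 this
  · obtain ⟨c, rfl⟩ : ∃ u : centralizer ({t} : Set G), u = c := ⟨⟨c, mem_cent1.2 h⟩, rfl⟩
    obtain ⟨h1, h3⟩ := sl3_f (c := π c) (by rw [← π.map_pow, show c ^ 8 = 1 from Subtype.ext h8, π.map_one])
    refine ⟨(p2 (c ^ 4)).1 (by simpa using h1), fun y hy y2 y1 hc => ?_⟩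
    obtain ⟨y, rfl⟩ : ∃ u : centralizer ({t} : Set G), u = y := ⟨⟨y, mem_cent1.2 hy⟩, rfl⟩
    exact (h3 (π y) (by rw [← π.map_mul, show y * y = 1 from Subtype.ext y2, π.map_one]) (mt (p2 y).1 y1)
      (by rw [← π.map_mul, ← π.map_mul, show c * y = y * c from Subtype.ext hc])).imp
      (fun h => (p2 (c * c)).1 (by simpa using h)) fun h => (p2 (c * c * y)).1 (by simpa using h)
  · obtain ⟨y, hy⟩ := exists_gens hQ hc hp (z := ⟨_, tQ⟩)
      (mem_center_iff.2 fun q => Subtype.ext (Subtype.ext (mem_cent1.1 q.1.2))) fun h => t1 (congrArg (·.1.1) h)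
    obtain ⟨F, -⟩ := A.frame (y := fun i => (y i).1.1) (by rw [← _root_.sq, ← ht, pow_orderOf_eq_one]) ⟨_, tQ, rfl⟩
      fun i hi => ⟨⟨_, (y i).2, rfl⟩, congrArg (·.1.1) (hy i hi).1, mem_cent1.1 (y i).1.2, fun j hj => by
        have := congrArg (·.1.1) ((hy i hi).2 j hj)
        split_ifs at this ⊢ <;> exact this⟩
    exact ⟨F⟩
  · rw [card_eq_card_quotient_mul_card_subgroup Q, hc, Nat.card_congr e.toEquiv, CL.SLn.card_SL_three]; rfl

end CL.Held
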