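/-
Sakuma's theorem without the Norton inequality, with the table of inner products (the proofs of `Spor/Sakuma*`, which
never use that inequality, repeated for the weaker ambient hypothesis `Amb`).
-/
import Cfsg.Agent.Spor.Sakuma3

set_option autoImplicit false

namespace CL.Mj

open CL.Spor.Maj (Ax)

/-- A commutative algebra with a positive definite associative form. -/
def Amb {V : Type*} [AddCommGroup V] [Module ℝ V] (mul : V →ₗ[ℝ] V →ₗ[ℝ] V) (B : LinearMap.BilinForm ℝ V) : Prop :=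
  (∀ u v, mul u v = mul v u) ∧ (∀ u v : V, B u v = B v u) ∧ (∀ u : V, u ≠ 0 → 0 < B u u) ∧
    (∀ u v w : V, B u (mul v w) = B (mul u v) w) ∧ True

/-- The nine types: `x = (a₀,a₁)`, `y = (a₀,a₂)`, `l i = (a₀,aᵢ)`. -/
def Typ (x y l3 l4 l5 l6 : ℝ) : Prop :=
  (x = 1 ∧ y = 1) ∨ (x = 1 / 8 ∧ y = 1) ∨ (x = 0 ∧ y = 1) ∨ (x = 13 / 256 ∧ y = 13 / 256 ∧ l3 = 1) ∨
    (x = 1 / 64 ∧ y = 1 / 64 ∧ l3 = 1) ∨ (x = 1 / 32 ∧ y = 0 ∧ l4 = 1) ∨ (x = 1 / 64 ∧ y = 1 / 8 ∧ l4 = 1) ∨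
    (x = 3 / 128 ∧ y = 3 / 128 ∧ l5 = 1) ∨ (x = 5 / 256 ∧ y = 13 / 256 ∧ l3 = 1 / 8 ∧ l6 = 1)

theorem endgame (x y l3 l4 l5 l6 l7 l8 : ℝ)
    (h3 : l3 = (-32768/7) * x ^ 3 + (36864/7) * x ^ 2 + (-1920/7) * x * y + (-2169/7) * x + (-33/7) * y + (33/7))
    (h4 : ((7/6) * x ^ 2 + (-7/384) * x + (7/1536) * y + (-7/98304)) * (y - 1) + ((49/768) * x + (-245/196608)) * (l3 - x) + (49 / 196608) * (l4 - y + 1 - y) = 0)
    (h5 : ((7/6) * x ^ 2 + (-7/384) * x + (7/1536) * y + (-7/98304)) * (l3 - x) + ((49/768) * x + (-245/196608)) * (l4 - 1) + (49 / 196608) * (l5 - x + x - l3) = 0)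
    (h6 : ((7/6) * x ^ 2 + (-7/384) * x + (7/1536) * y + (-7/98304)) * (l4 - y) + ((49/768) * x + (-245/196608)) * (l5 - x) + (49 / 196608) * (l6 - 1 + y - l4) = 0)
    (h7 : ((7/6) * x ^ 2 + (-7/384) * x + (7/1536) * y + (-7/98304)) * (l5 - l3) + ((49/768) * x + (-245/196608)) * (l6 - y) + (49 / 196608) * (l7 - x + l3 - l5) = 0)
    (h8 : ((7/6) * x ^ 2 + (-7/384) * x + (7/1536) * y + (-7/98304)) * (l6 - l4) + ((49/768) * x + (-245/196608)) * (l7 - l3) + (49 / 196608) * (l8 - y + l4 - l6) = 0)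
    (h6' : l6 = (-32768/7) * y ^ 3 + (36864/7) * y ^ 2 + (-1920/7) * y * l4 + (-2169/7) * y + (-33/7) * l4 + (33/7))
    (h8' : ((7/6) * y ^ 2 + (-7/384) * y + (7/1536) * l4 + (-7/98304)) * (l4 - 1) + ((49/768) * y + (-245/196608)) * (l6 - y) + (49 / 196608) * (l8 - l4 + 1 - l4) = 0)
    (r1 : (16384) * x ^ 4 + (-18176) * x ^ 3 + (320) * x ^ 2 * y + (1440) * x ^ 2 + (139/2) * x * y + (-75/2) * x + (1) * y ^ 2 + (-167/128) * y + (39/128) = 0) :
    Typ x y l3 l4 l5 l6 := by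
  have e4 : l4 = (8388608/7) * x ^ 4 + (-9601024/7) * x ^ 3 + (65536) * x ^ 2 * y + (110592) * x ^ 2 + (-640/7) * x * y + (-19840/7) * x + (-128/7) * y ^ 2 + (-3) * y + (156/7) := by
    rw [h3] at h4
    linear_combination (196608 / 49) * h4
  have e5 : l5 = (-13958643712/49) * x ^ 5 + (16273899520/49) * x ^ 4 + (-754974720/49) * x ^ 3 * y + (-1633419264/49) * x ^ 3 + (12582912/49) * x ^ 2 * y + (8683520/7) * x ^ 2 + (475136/49) * x * y ^ 2 + (259584/49) * x * y + (-137721/7) * x + (-256/49) * y ^ 2 + (-5256/49) * y + (5512/49) := by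
    rw [h3, e4] at h5
    linear_combination (196608 / 49) * h5
  have e6 : l6 = (3298534883328/49) * x ^ 6 + (-3917010173952/49) * x ^ 5 + (177167400960/49) * x ^ 4 * y + (469317451776/49) * x ^ 4 + (-5511315456/49) * x ^ 3 * y + (-22767894528/49) * x ^ 3 + (-25165824/7) * x ^ 2 * y ^ 2 + (-97910784/49) * x ^ 2 * y + (542429184/49) * x ^ 2 + (2457600/49) * x * y ^ 2 + (5162880/49) * x * y + (-904320/7) * x + (16384/49) * y ^ 3 + (1152/49) * y ^ 2 + (-46500/49) * y + (29013/49) := by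
    rw [e4, e5] at h6
    linear_combination (196608 / 49) * h6
  have e7 : l7 = (-5453577673768960/343) * x ^ 7 + (6594320987586560/343) * x ^ 6 + (-290958264500224/343) * x ^ 5 * y + (-130912750665728/49) * x ^ 5 + (13195213275136/343) * x ^ 4 * y + (7793302044672/49) * x ^ 4 + (396747603968/343) * x ^ 3 * y ^ 2 + (182309617664/343) * x ^ 3 * y + (-1721526124544/343) * x ^ 3 + (-11928600576/343) * x ^ 2 * y ^ 2 + (-2858352640/49) * x ^ 2 * y + (30214684672/343) * x ^ 2 + (-90177536/343) * x * y ^ 3 + (53149696/343) * x * y ^ 2 + (55065088/49) * x * y + (-279385257/343) * x + (606208/343) * y ^ 3 + (681216/343) * y ^ 2 + (-2350408/343) * y + (1062984/343) := by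
    rw [h3, e5, e6] at h7
    linear_combination (196608 / 49) * h7
  have e8 : l8 = (1288029493427961856/343) * x ^ 8 + (-226481803135811584/49) * x ^ 7 + (68257681852334080/343) * x ^ 6 * y + (250214761621356544/343) * x ^ 6 + (-4060084124516352/343) * x ^ 5 * y + (-17598680034967552/343) * x ^ 5 + (-118472377892864/343) * x ^ 4 * y ^ 2 + (-38674033016832/343) * x ^ 4 * y + (98354239373312/49) * x ^ 4 + (5572183195648/343) * x ^ 3 * y ^ 2 + (8668703621120/343) * x ^ 3 * y + (-16068597940224/343) * x ^ 3 + (6442450944/49) * x ^ 2 * y ^ 3 + (-60699967488/343) * x ^ 2 * y ^ 2 + (-264225882112/343) * x ^ 2 * y + (223308009472/343) * x ^ 2 + (-912261120/343) * x * y ^ 3 + (-546897920/343) * x * y ^ 2 + (477758080/49) * x * y + (-1709531520/343) * x + (-2097152/343) * y ^ 4 + (2916352/343) * y ^ 3 + (9357696/343) * y ^ 2 + (-2247811/49) * y + (5558124/343) := by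
    rw [h3, e4, e6, e7] at h8
    linear_combination (196608 / 49) * h8
  have hrem : ((-32212254720/49) * x ^ 4 + (-73311191040/49) * x ^ 3 + (2333982720/49) * x ^ 2 + (-10397760/49) * x + (-125775/49)) * y + ((-8246337208320/49) * x ^ 6 + (8870449643520/49) * x ^ 5 + (-517818286080/49) * x ^ 4 + (-3909058560/49) * x ^ 3 + (833433600/49) * x ^ 2 + (-18663360/49) * x + (125775/49)) = 0 := by
    rw [e4, e6] at h6'
    linear_combination h6' - ((100663296/7) * x ^ 2 + (1228800/49) * x + (-301440/49)) * r1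
  have hres : x * ((x - 1) * ((x - 1 / 8) * ((x - 13 / 256) * ((x - 1 / 64) ^ 2 * ((x - 1 / 32) * ((x - 3 / 128) *
      ((x - 5 / 256) * (x - 43 / 2048) ^ 2))))))) = 0 := by
    linear_combination (-49 / 4250129834582680692326400) * (((-32212254720/49) * x ^ 4 + (-73311191040/49) * x ^ 3 + (2333982720/49) * x ^ 2 + (-10397760/49) * x + (-125775/49)) ^ 2 * r1 -
      (((-32212254720/49) * x ^ 4 + (-73311191040/49) * x ^ 3 + (2333982720/49) * x ^ 2 + (-10397760/49) * x + (-125775/49)) * y - ((-8246337208320/49) * x ^ 6 + (8870449643520/49) * x ^ 5 + (-517818286080/49) * x ^ 4 + (-3909058560/49) * x ^ 3 + (833433600/49) * x ^ 2 + (-18663360/49) * x + (125775/49)) + ((320) * x ^ 2 + (139/2) * x + (-167/128)) * ((-32212254720/49) * x ^ 4 + (-73311191040/49) * x ^ 3 + (2333982720/49) * x ^ 2 + (-10397760/49) * x + (-125775/49))) * hrem)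
  simp only [mul_eq_zero, sub_eq_zero, pow_eq_zero_iff two_ne_zero] at hres
  rcases hres with hx | hx | hx | hx | hx | hx | hx | hx | hx
  · have hy : y = (1 / 1) := by
      rw [hx] at hrem
      linear_combination (-49 / 125775) * hrem
    exact Or.inr (Or.inr (Or.inl (⟨hx, by rw [hy]; norm_num⟩)))
  · have hy : y = (1 / 1) := by
      rw [hx] at hrem
      linear_combination (-1 / 2106122175) * hrem
    exact Or.inl (⟨hx, by rw [hy]; norm_num⟩)
  · have hy : y = (1 / 1) := by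
      rw [hx] at hrem
      linear_combination (-1 / 2367495) * hrem
    exact Or.inr (Or.inl (⟨hx, by rw [hy]; norm_num⟩))
  · have hy : y = (13 / 256) := by
      rw [hx] at hrem
      linear_combination (-112 / 10170225) * hrem
    exact Or.inr (Or.inr (Or.inr (Or.inl (⟨hx, hy, by rw [h3, hx, hy]; norm_num⟩))))
  · have hy : (y - 1 / 64) * (y - 1 / 8) = 0 := by
      rw [hx] at r1
      linear_combination r1
    simp only [mul_eq_zero, sub_eq_zero] at hy
    rcases hy with hy | hy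
    · exact Or.inr (Or.inr (Or.inr (Or.inr (Or.inl (⟨hx, hy, by rw [h3, hx, hy]; norm_num⟩)))))
    · exact Or.inr (Or.inr (Or.inr (Or.inr (Or.inr (Or.inr (Or.inl (⟨hx, hy, by rw [e4, hx, hy]; norm_num⟩)))))))
  · have hy : y = (0 / 1) := by
      rw [hx] at hrem
      linear_combination (-7 / 62775) * hrem
    exact Or.inr (Or.inr (Or.inr (Or.inr (Or.inr (Or.inl (⟨hx, by rw [hy]; norm_num, by rw [e4, hx, hy]; norm_num⟩))))))
  · have hy : y = (3 / 128) := by
      rw [hx] at hrem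
      linear_combination (-7 / 5850) * hrem
    exact Or.inr (Or.inr (Or.inr (Or.inr (Or.inr (Or.inr (Or.inr (Or.inl (⟨hx, hy, by rw [e5, hx, hy]; norm_num⟩))))))))
  · have hy : y = (13 / 256) := by
      rw [hx] at hrem
      linear_combination (784 / 169425) * hrem
    exact Or.inr (Or.inr (Or.inr (Or.inr (Or.inr (Or.inr (Or.inr (Or.inr (⟨hx, hy, by rw [h3, hx, hy]; norm_num, by rw [e6, hx, hy]; norm_num⟩))))))))
  · exfalso
    have hy : y = (14256721790647 / 366724994056192) := by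
      rw [e4, e6, e8, hx] at h8'
      rw [hx] at r1
      linear_combination (-1438646272 / 11079643069935) * ((196608 / 49) * h8' - ((-8113152/343) * y + (445203687/21952)) * r1)
    rw [hx, hy] at r1
    norm_num at r1


variable {V : Type*} [AddCommGroup V] [Module ℝ V]
variable {mul : V →ₗ[ℝ] V →ₗ[ℝ] V} {B : LinearMap.BilinForm ℝ V}

/-- product of an axis with its invariant vector -/
theorem loc_as {τ : V ≃ₗ[ℝ] V} {a p m s : V} {x : ℝ} (h : Ax mul B τ a) (hm : τ p = m) (hx : B a p = x)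
    (ap : mul a p = s + (1 / 32 : ℝ) • (a + p)) (am : mul a m = s + (1 / 32 : ℝ) • (a + m)) :
    mul a s = (7 / 32 : ℝ) • s + (3 * x / 4 - 25 / 1024) • a + (7 / 2048 : ℝ) • (p + m) := by
  have h1 := h.alpha p
  rw [hm, hx, ap] at h1
  simp only [map_add, map_smul, h.idem, ap, am] at h1
  linear_combination (norm := module) (-1 / 4 : ℝ) • h1

theorem loc_alpha {τ : V ≃ₗ[ℝ] V} {a p m s : V} {x : ℝ} (h : Ax mul B τ a) (hm : τ p = m) (hx : B a p = x)
    (ap : mul a p = s + (1 / 32 : ℝ) • (a + p)) :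
    mul a ((-4 : ℝ) • s + (3 * x - 1 / 8) • a + (7 / 16 : ℝ) • (p + m)) = 0 := by
  have h1 := h.alpha p
  rw [hm, hx, ap] at h1
  rw [← h1]; congr 1; module

theorem loc_beta {τ : V ≃ₗ[ℝ] V} {a p m s : V} {x : ℝ} (h : Ax mul B τ a) (hm : τ p = m) (hx : B a p = x)
    (ap : mul a p = s + (1 / 32 : ℝ) • (a + p)) :
    mul a ((4 : ℝ) • s + (1 / 8 - 4 * x) • a + (1 / 16 : ℝ) • (p + m)) =
      (1 / 4 : ℝ) • ((4 : ℝ) • s + (1 / 8 - 4 * x) • a + (1 / 16 : ℝ) • (p + m)) := by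
  have h1 := h.beta p
  rw [hm, hx, ap] at h1
  have e : (4 : ℝ) • s + (1 / 8 - 4 * x) • a + (1 / 16 : ℝ) • (p + m) =
      (4 : ℝ) • (s + (1 / 32 : ℝ) • (a + p)) - (4 * x) • a - (1 / 16 : ℝ) • p + (1 / 16 : ℝ) • m := by module
  rw [e]; exact h1

/-- the length of the invariant vector -/
theorem loc_ss (hV : Amb mul B) {τ : V ≃ₗ[ℝ] V} {a p m s : V} {x y : ℝ} (h : Ax mul B τ a)
    (hm : τ p = m) (hx : B a p = x) (hx' : B a m = x) (hy : B p m = y) (pp : B p p = 1) (mm : B m m = 1)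
    (ap : mul a p = s + (1 / 32 : ℝ) • (a + p))
    (sa : B a s = x - (1 + x) / 32) (sp : B p s = x - (1 + x) / 32) (sm : B m s = x - (1 + x) / 32) :
    B s s = 3 / 4 * x ^ 2 + 65 / 512 * x + 7 / 2048 * y - 3 / 2048 := by
  have hα := loc_alpha h hm hx ap
  have hβ := loc_beta h hm hx ap
  have h0 := hV.2.2.2.1 ((-4 : ℝ) • s + (3 * x - 1 / 8) • a + (7 / 16 : ℝ) • (p + m)) a
    ((4 : ℝ) • s + (1 / 8 - 4 * x) • a + (1 / 16 : ℝ) • (p + m))
  rw [hβ, hV.1 _ a, hα] at h0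
  have sy := hV.2.1
  simp only [map_add, map_smul, LinearMap.add_apply, LinearMap.smul_apply, smul_eq_mul, map_zero,
    LinearMap.zero_apply, sy s a, sy s p, sy s m, sy p a, sy m a, sy m p, h.norm, hx, hx', hy, pp, mm, sa, sp,
    sm] at h0
  linear_combination (-1 / 4 : ℝ) * h0

/-- the products `a · σ₂₁` and `σ · σ` -/
theorem loc_main (hV : Amb mul B) {τ : V ≃ₗ[ℝ] V} {a p m p2 m2 s t0 t1 : V} {x y : ℝ}
    (h : Ax mul B τ a)
    (hm : τ p = m) (hx : B a p = x) (hx' : B a m = x) (hy : B p m = y) (pp : B p p = 1) (mm : B m m = 1)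
    (ap : mul a p = s + (1 / 32 : ℝ) • (a + p)) (am : mul a m = s + (1 / 32 : ℝ) • (a + m))
    (sa : B a s = x - (1 + x) / 32) (sp : B p s = x - (1 + x) / 32) (sm : B m s = x - (1 + x) / 32)
    (ip : mul p p = p) (im : mul m m = m) (pm : mul p m = t1 + (1 / 32 : ℝ) • (p + m))
    (ps : mul p s = (7 / 32 : ℝ) • s + (3 * x / 4 - 25 / 1024) • p + (7 / 2048 : ℝ) • (p2 + a))
    (ms : mul m s = (7 / 32 : ℝ) • s + (3 * x / 4 - 25 / 1024) • m + (7 / 2048 : ℝ) • (a + m2))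
    (ap2 : mul a p2 = t0 + (1 / 32 : ℝ) • (a + p2)) (am2 : mul a m2 = t0 + (1 / 32 : ℝ) • (a + m2)) :
    mul a t1 = (-32 / 3 * x ^ 2 + 5 / 3 * x - 1 / 24 * y - 127 / 3072) • a + (1 / 6 * x - 19 / 3072) • (p + m) +
        (7 / 6144 : ℝ) • (p2 + m2) + (32 / 3 * x - 19 / 48) • s + (7 / 96 : ℝ) • t0 ∧
      mul s s = (7 / 6 * x ^ 2 - 7 / 384 * x + 7 / 1536 * y - 7 / 98304) • a +
        (49 / 768 * x - 245 / 196608) • (p + m) + (49 / 196608 : ℝ) • (p2 + m2) + (-5 / 12 * x - 13 / 1536) • s +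
        (-7 / 1536 : ℝ) • t0 + (7 / 2048 : ℝ) • t1 := by
  have hα := loc_alpha h hm hx ap
  have hβ := loc_beta h hm hx ap
  have as := loc_as h hm hx ap am
  have hss := loc_ss hV h hm hx hx' hy pp mm ap sa sp sm
  have cm := hV.1
  have sy := hV.2.1
  have e1 := h.f00 _ _ hα hα
  have e2 := h.f0q _ _ hα hβ
  have e3 := h.fqq _ _ hβ hβ
  have haa : mul ((-4 : ℝ) • s + (3 * x - 1 / 8) • a + (7 / 16 : ℝ) • (p + m))
      ((-4 : ℝ) • s + (3 * x - 1 / 8) • a + (7 / 16 : ℝ) • (p + m)) =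
      (16 : ℝ) • mul s s + (-21 / 8 * x + 1183 / 4096) • (p + m) + (-49 / 4096 : ℝ) • (p2 + m2) +
        (-9 * x ^ 2 + 3 / 4 * x - 81 / 2048) • a + (-49 / 32 : ℝ) • s + (49 / 128 : ℝ) • t1 := by
    simp only [map_add, map_smul, LinearMap.add_apply, LinearMap.smul_apply, cm s a, cm s p, cm s m, cm p a,
      cm m a, cm m p, h.idem, ap, am, as, ip, im, pm, ps, ms]
    module
  have hbb : mul ((4 : ℝ) • s + (1 / 8 - 4 * x) • a + (1 / 16 : ℝ) • (p + m))
      ((4 : ℝ) • s + (1 / 8 - 4 * x) • a + (1 / 16 : ℝ) • (p + m)) =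
      (16 : ℝ) • mul s s + (1 / 4 * x - 17 / 4096) • (p + m) + (7 / 4096 : ℝ) • (p2 + m2) +
        (-8 * x ^ 2 + 1 / 2 * x - 9 / 2048) • a + (-8 * x + 15 / 32) • s + (1 / 128 : ℝ) • t1 := by
    simp only [map_add, map_smul, LinearMap.add_apply, LinearMap.smul_apply, cm s a, cm s p, cm s m, cm p a,
      cm m a, cm m p, h.idem, ap, am, as, ip, im, pm, ps, ms]
    module
  have hab : mul ((-4 : ℝ) • s + (3 * x - 1 / 8) • a + (7 / 16 : ℝ) • (p + m))
      ((4 : ℝ) • s + (1 / 8 - 4 * x) • a + (1 / 16 : ℝ) • (p + m)) =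
      (-16 : ℝ) • mul s s + (75 / 64 * x - 39 / 4096) • (p + m) + (21 / 4096 : ℝ) • (p2 + m2) +
        (9 * x ^ 2 - 21 / 32 * x + 45 / 2048) • a + (3 * x + 17 / 32) • s + (7 / 128 : ℝ) • t1 := by
    simp only [map_add, map_smul, LinearMap.add_apply, LinearMap.smul_apply, cm s a, cm s p, cm s m, cm p a,
      cm m a, cm m p, h.idem, ap, am, as, ip, im, pm, ps, ms]
    module
  have hbf : B ((4 : ℝ) • s + (1 / 8 - 4 * x) • a + (1 / 16 : ℝ) • (p + m))
      ((4 : ℝ) • s + (1 / 8 - 4 * x) • a + (1 / 16 : ℝ) • (p + m)) = -4 * x ^ 2 + 4 * x + 1 / 16 * y - 1 / 16 := by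
    simp only [map_add, map_smul, LinearMap.add_apply, LinearMap.smul_apply, smul_eq_mul,
      sy s a, sy s p, sy s m, sy p a, sy m a, sy m p, h.norm, hx, hx', hy, pp, mm, sa, sp, sm, hss]
    ring
  rw [haa] at e1
  rw [hab] at e2
  rw [hbb, hbf] at e3
  simp only [map_add, map_smul, h.idem, ap, am, as, ap2, am2] at e1 e2 e3
  have r1 : mul a t1 = (-32 / 3 * x ^ 2 + 5 / 3 * x - 1 / 24 * y - 127 / 3072) • a +
      (1 / 6 * x - 19 / 3072) • (p + m) +
        (7 / 6144 : ℝ) • (p2 + m2) + (32 / 3 * x - 19 / 48) • s + (7 / 96 : ℝ) • t0 := by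
    linear_combination (norm := module) (8 / 3 : ℝ) • e1 - (8 / 3 : ℝ) • e3
  refine ⟨r1, ?_⟩
  rw [r1] at e1 e2
  linear_combination (norm := module) (1 / 4 : ℝ) • e1 + (1 / 4 : ℝ) • e2

/-- A dihedral sequence of axes. -/
def IsSeq (mul : V →ₗ[ℝ] V →ₗ[ℝ] V) (B : LinearMap.BilinForm ℝ V) (a : ℤ → V) : Prop :=
  ∀ i, ∃ τ : V ≃ₗ[ℝ] V, Ax mul B τ (a i) ∧ ∀ j, τ (a j) = a (2 * i - j)

theorem IsSeq.dilate {a : ℤ → V} (h : IsSeq mul B a) (k c : ℤ) : IsSeq mul B (fun i => a (k * i + c)) := by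
  intro i
  obtain ⟨τ, h1, h2⟩ := h (k * i + c)
  refine ⟨τ, h1, fun j => ?_⟩
  simp only [h2]
  congr 1; ring

/-- The invariant vector `σ(a i, a j)`. -/
noncomputable def sig (mul : V →ₗ[ℝ] V →ₗ[ℝ] V) (u v : V) : V := mul u v - (1 / 32 : ℝ) • (u + v)

theorem mul_eq_sig (u v : V) : mul u v = sig mul u v + (1 / 32 : ℝ) • (u + v) := by
  unfold sig; abel

theorem sig_comm (hV : Amb mul B) (u v : V) : sig mul u v = sig mul v u := by
  unfold sig; rw [hV.1 u v, add_comm u v]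

variable {a : ℤ → V}

theorem IsSeq.idem (h : IsSeq mul B a) (i : ℤ) : mul (a i) (a i) = a i := (h i).choose_spec.1.idem

theorem IsSeq.norm (h : IsSeq mul B a) (i : ℤ) : B (a i) (a i) = 1 := (h i).choose_spec.1.norm

theorem IsSeq.sig_refl (h : IsSeq mul B a) {i j k : ℤ} (e : j + k = 2 * i) :
    sig mul (a i) (a j) = sig mul (a i) (a k) := by
  obtain ⟨τ, h1, h2⟩ := h i
  have := h1.gamma (a j)
  rw [h2, show 2 * i - j = k by omega] at this
  unfold sig
  linear_combination (norm := module) this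

theorem IsSeq.form_refl (h : IsSeq mul B a) (i j k : ℤ) : B (a j) (a k) = B (a (2 * i - j)) (a (2 * i - k)) := by
  obtain ⟨τ, h1, h2⟩ := h i
  rw [← h2, ← h2, h1.tform]

theorem IsSeq.sig_step (hV : Amb mul B) (h : IsSeq mul B a) (k i : ℤ) :
    sig mul (a (i + k)) (a (i + k + k)) = sig mul (a i) (a (i + k)) := by
  rw [sig_comm hV (a i)]
  exact h.sig_refl (by ring)

theorem IsSeq.sig1 (hV : Amb mul B) (h : IsSeq mul B a) (i : ℤ) :
    sig mul (a i) (a (i + 1)) = sig mul (a 0) (a 1) := by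
  induction i using Int.induction_on with
  | zero => simp
  | succ n ih => rw [h.sig_step hV, ih]
  | pred n ih =>
    rw [← ih, ← h.sig_step hV 1 (-(n : ℤ) - 1)]
    congr 2 <;> ring

theorem IsSeq.form_step (hV : Amb mul B) (h : IsSeq mul B a) (k i : ℤ) :
    B (a (i + k)) (a (i + k + k)) = B (a i) (a (i + k)) := by
  rw [h.form_refl (i + k), hV.2.1]
  congr 2 <;> ring

theorem IsSeq.lam1 (hV : Amb mul B) (h : IsSeq mul B a) (i : ℤ) :
    B (a i) (a (i + 1)) = B (a 0) (a 1) := by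
  induction i using Int.induction_on with
  | zero => simp
  | succ n ih => rw [h.form_step hV, ih]
  | pred n ih =>
    rw [← ih, ← h.form_step hV 1 (-(n : ℤ) - 1)]
    congr 2 <;> ring

theorem IsSeq.form_sig (hV : Amb mul B) (h : IsSeq mul B a) (i j : ℤ) :
    B (a i) (sig mul (a i) (a j)) = B (a i) (a j) - (1 + B (a i) (a j)) / 32 := by
  unfold sig
  rw [map_sub, hV.2.2.2.1, h.idem, map_smul, map_add, h.norm, smul_eq_mul]
  ring

theorem IsSeq.form_s (hV : Amb mul B) (h : IsSeq mul B a) (i : ℤ) :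
    B (a i) (sig mul (a 0) (a 1)) = B (a 0) (a 1) - (1 + B (a 0) (a 1)) / 32 := by
  rw [← h.sig1 hV i, h.form_sig hV, h.lam1 hV]

theorem IsSeq.mul_succ (hV : Amb mul B) (h : IsSeq mul B a) (i : ℤ) :
    mul (a i) (a (i + 1)) = sig mul (a 0) (a 1) + (1 / 32 : ℝ) • (a i + a (i + 1)) := by
  rw [mul_eq_sig, h.sig1 hV]

theorem IsSeq.mul_pred (hV : Amb mul B) (h : IsSeq mul B a) (i : ℤ) :
    mul (a i) (a (i - 1)) = sig mul (a 0) (a 1) + (1 / 32 : ℝ) • (a i + a (i - 1)) := by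
  rw [mul_eq_sig, ← h.sig1 hV i, h.sig_refl (i := i) (j := i - 1) (k := i + 1) (by ring)]

theorem IsSeq.lam1' (hV : Amb mul B) (h : IsSeq mul B a) (i : ℤ) :
    B (a i) (a (i - 1)) = B (a 0) (a 1) := by
  rw [← h.lam1 hV (i - 1), hV.2.1]; congr 2; ring

theorem IsSeq.mul_s (hV : Amb mul B) (h : IsSeq mul B a) (i : ℤ) :
    mul (a i) (sig mul (a 0) (a 1)) = (7 / 32 : ℝ) • sig mul (a 0) (a 1) +
      (3 * B (a 0) (a 1) / 4 - 25 / 1024) • a i + (7 / 2048 : ℝ) • (a (i + 1) + a (i - 1)) := by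
  obtain ⟨τ, h1, h2⟩ := h i
  exact loc_as h1 (by rw [h2]; congr 1; ring) (h.lam1 hV i) (h.mul_succ hV i) (h.mul_pred hV i)

theorem IsSeq.form_ss' (hV : Amb mul B) (h : IsSeq mul B a) (i : ℤ) :
    B (sig mul (a 0) (a 1)) (sig mul (a 0) (a 1)) = 3 / 4 * B (a 0) (a 1) ^ 2 + 65 / 512 * B (a 0) (a 1) +
      7 / 2048 * B (a (i + 1)) (a (i - 1)) - 3 / 2048 := by
  obtain ⟨τ, h1, h2⟩ := h i
  exact loc_ss hV h1 (p := a (i + 1)) (m := a (i - 1)) (by rw [h2]; congr 1; ring) (h.lam1 hV i) (h.lam1' hV i) rfl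
    (h.norm _) (h.norm _) (h.mul_succ hV i) (h.form_s hV _) (h.form_s hV _) (h.form_s hV _)

theorem IsSeq.lam2 (hV : Amb mul B) (h : IsSeq mul B a) (i : ℤ) :
    B (a (i + 1)) (a (i - 1)) = B (a 0) (a 2) := by
  have h1 := h.form_ss' hV i
  have h2 := h.form_ss' hV 1
  norm_num at h2
  rw [hV.2.1 (a 2)] at h2
  linarith

theorem IsSeq.form_ss (hV : Amb mul B) (h : IsSeq mul B a) :
    B (sig mul (a 0) (a 1)) (sig mul (a 0) (a 1)) = 3 / 4 * B (a 0) (a 1) ^ 2 + 65 / 512 * B (a 0) (a 1) +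
      7 / 2048 * B (a 0) (a 2) - 3 / 2048 := by
  rw [h.form_ss' hV 0, h.lam2 hV]

theorem IsSeq.main (hV : Amb mul B) (h : IsSeq mul B a) (i : ℤ) {x y : ℝ} (hx : B (a 0) (a 1) = x)
    (hy : B (a 0) (a 2) = y) :
    mul (a i) (sig mul (a (i + 1)) (a (i - 1))) = (-32 / 3 * x ^ 2 + 5 / 3 * x - 1 / 24 * y - 127 / 3072) • a i +
        (1 / 6 * x - 19 / 3072) • (a (i + 1) + a (i - 1)) +
        (7 / 6144 : ℝ) • (a (i + 2) + a (i - 2)) + (32 / 3 * x - 19 / 48) • sig mul (a 0) (a 1) +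
        (7 / 96 : ℝ) • sig mul (a i) (a (i + 2)) ∧
      mul (sig mul (a 0) (a 1)) (sig mul (a 0) (a 1)) =
        (7 / 6 * x ^ 2 - 7 / 384 * x + 7 / 1536 * y - 7 / 98304) • a i +
        (49 / 768 * x - 245 / 196608) • (a (i + 1) + a (i - 1)) + (49 / 196608 : ℝ) • (a (i + 2) + a (i - 2)) +
        (-5 / 12 * x - 13 / 1536) • sig mul (a 0) (a 1) +
        (-7 / 1536 : ℝ) • sig mul (a i) (a (i + 2)) + (7 / 2048 : ℝ) • sig mul (a (i + 1)) (a (i - 1)) := by
  obtain ⟨τ, h1, h2⟩ := h i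
  subst hx hy
  refine loc_main hV h1 (p := a (i + 1)) (m := a (i - 1)) (by rw [h2]; congr 1; ring) (h.lam1 hV i) (h.lam1' hV i)
    (h.lam2 hV i) (h.norm _) (h.norm _) (h.mul_succ hV i) (h.mul_pred hV i) (h.form_s hV _) (h.form_s hV _)
    (h.form_s hV _) (h.idem _) (h.idem _) (mul_eq_sig _ _) ?_ ?_ (mul_eq_sig _ _) ?_
  · rw [h.mul_s hV, show i + 1 + 1 = i + 2 by ring, show i + 1 - 1 = i by ring]
  · rw [h.mul_s hV, show i - 1 + 1 = i by ring, show i - 1 - 1 = i - 2 by ring]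
  · rw [mul_eq_sig, h.sig_refl (i := i) (j := i - 2) (k := i + 2) (by ring)]

theorem IsSeq.lam_neg (h : IsSeq mul B a) (k : ℤ) : B (a 0) (a (-k)) = B (a 0) (a k) := by
  rw [h.form_refl 0]; congr 2 <;> ring

/-- The linear recurrence between the axes. -/
theorem IsSeq.recur (hV : Amb mul B) (h : IsSeq mul B a) (i : ℤ) {x y : ℝ} (hx : B (a 0) (a 1) = x)
    (hy : B (a 0) (a 2) = y) :
    (7 / 6 * x ^ 2 - 7 / 384 * x + 7 / 1536 * y - 7 / 98304) • (a (i + 1) - a (i - 1)) +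
      (49 / 768 * x - 245 / 196608) • (a (i + 2) - a (i - 2)) +
      (49 / 196608 : ℝ) • (a (i + 3) - a (i - 3) + a (i - 1) - a (i + 1)) = 0 := by
  have h1 := (h.main hV (i + 1) hx hy).2
  have h2 := (h.main hV (i - 1) hx hy).2
  have e1 : sig mul (a (i + 1)) (a (i + 1 + 2)) = sig mul (a (i - 1)) (a (i - 1 + 2)) := by
    rw [← h.sig_step hV 2 (i - 1)]; congr 2 <;> ring
  have e2 : sig mul (a (i + 1 + 1)) (a (i + 1 - 1)) = sig mul (a (i - 1 + 1)) (a (i - 1 - 1)) := by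
    rw [sig_comm hV, show i + 1 - 1 = i by ring, show i - 1 + 1 = i by ring]
    exact h.sig_refl (by ring)
  rw [e1, e2] at h1
  rw [show i + 1 + 1 = i + 2 by ring, show i + 1 - 1 = i by ring, show i + 1 + 2 = i + 3 by ring,
    show i + 1 - 2 = i - 1 by ring] at h1
  rw [show i - 1 + 1 = i by ring, show i - 1 - 1 = i - 2 by ring, show i - 1 + 2 = i + 1 by ring,
    show i - 1 - 2 = i - 3 by ring] at h2
  rw [show i - 1 + 1 = i by ring, show i - 1 - 1 = i - 2 by ring, show i - 1 + 2 = i + 1 by ring] at h1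
  linear_combination (norm := module) h2 - h1

theorem IsSeq.recur_form (hV : Amb mul B) (h : IsSeq mul B a) (i : ℤ) {x y : ℝ}
    (hx : B (a 0) (a 1) = x) (hy : B (a 0) (a 2) = y) :
    (7 / 6 * x ^ 2 - 7 / 384 * x + 7 / 1536 * y - 7 / 98304) * (B (a 0) (a (i + 1)) - B (a 0) (a (i - 1))) +
      (49 / 768 * x - 245 / 196608) * (B (a 0) (a (i + 2)) - B (a 0) (a (i - 2))) +
      (49 / 196608 : ℝ) * (B (a 0) (a (i + 3)) - B (a 0) (a (i - 3)) + B (a 0) (a (i - 1)) -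
        B (a 0) (a (i + 1))) = 0 := by
  have := congrArg (B (a 0)) (h.recur hV i hx hy)
  simpa only [map_add, map_sub, map_smul, smul_eq_mul, map_zero] using this

theorem IsSeq.lam2' (hV : Amb mul B) (h : IsSeq mul B a) (i : ℤ) :
    B (a i) (a (i + 2)) = B (a 0) (a 2) := by
  rw [← h.lam2 hV (i + 1), hV.2.1]; congr 2 <;> ring

/-- `(a i, σ(a (i+1), a (i-1)))`. -/
theorem IsSeq.form_t1 (hV : Amb mul B) (h : IsSeq mul B a) (i : ℤ) :
    B (a i) (sig mul (a (i + 1)) (a (i - 1))) =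
      B (a 0) (a 1) - (1 + B (a 0) (a 1)) / 32 + (B (a 0) (a 2) - B (a 0) (a 1)) / 32 := by
  have e : B (sig mul (a 0) (a 1)) (a (i - 1)) = B (a 0) (a 1) - (1 + B (a 0) (a 1)) / 32 := by
    rw [hV.2.1, h.form_s hV]
  conv_lhs => unfold sig
  rw [map_sub, hV.2.2.2.1, h.mul_succ hV]
  simp only [map_add, map_smul, LinearMap.add_apply, LinearMap.smul_apply, smul_eq_mul, e, h.lam1 hV, h.lam1' hV,
    h.lam2 hV]
  ring

/-- The second linear relation, between the axes and the two invariant vectors of step two. -/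
theorem IsSeq.rel0 (hV : Amb mul B) (h : IsSeq mul B a) {x y : ℝ} (hx : B (a 0) (a 1) = x)
    (hy : B (a 0) (a 2) = y) :
    (7 / 6 * x ^ 2 - 7 / 384 * x + 7 / 1536 * y - 7 / 98304) • (a 0 - a 1) +
      (49 / 768 * x - 245 / 196608) • (a 1 + a (-1) - a 2 - a 0) +
      (49 / 196608 : ℝ) • (a 2 + a (-2) - a 3 - a (-1)) +
      (-7 / 1536 - 7 / 2048 : ℝ) • (sig mul (a 0) (a 2) - sig mul (a 1) (a (-1))) = 0 := by
  have h1 := (h.main hV 0 hx hy).2
  have h2 := (h.main hV 1 hx hy).2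
  have e1 : sig mul (a 1) (a 3) = sig mul (a 1) (a (-1)) := h.sig_refl (by norm_num)
  norm_num only at h1 h2
  rw [e1, sig_comm hV (a 2) (a 0)] at h2
  linear_combination (norm := module) h2 - h1

theorem IsSeq.lam3 (hV : Amb mul B) (h : IsSeq mul B a) {x y : ℝ} (hx : B (a 0) (a 1) = x)
    (hy : B (a 0) (a 2) = y) :
    B (a 0) (a 3) = (-32768 / 7) * x ^ 3 + (36864 / 7) * x ^ 2 + (-1920 / 7) * x * y + (-2169 / 7) * x +
      (-33 / 7) * y + (33 / 7) := by
  have h0 := congrArg (B (a 0)) (h.rel0 hV hx hy)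
  have e1 := h.form_t1 hV 0
  norm_num only at e1
  simp only [map_add, map_sub, map_smul, smul_eq_mul, map_zero, e1, h.form_sig hV, h.lam_neg, h.norm, hx, hy] at h0
  linear_combination (-196608 / 49) * h0

theorem IsSeq.r1 (hV : Amb mul B) (h : IsSeq mul B a) {x y : ℝ} (hx : B (a 0) (a 1) = x)
    (hy : B (a 0) (a 2) = y) :
    16384 * x ^ 4 + (-18176) * x ^ 3 + 320 * x ^ 2 * y + 1440 * x ^ 2 + (139 / 2) * x * y + (-75 / 2) * x +
      1 * y ^ 2 + (-167 / 128) * y + 39 / 128 = 0 := by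
  have sy := hV.2.1
  have l3 := h.lam3 hV hx hy
  have l4 := h.recur_form hV 1 hx hy
  norm_num only at l4
  rw [h.lam_neg, h.norm, h.lam_neg, hx, hy, l3] at l4
  set t0 := sig mul (a 0) (a 2) with ht0
  set t1 := sig mul (a 1) (a (-1)) with ht1
  have tt : B t0 t0 = 3 / 4 * y ^ 2 + 65 / 512 * y + 7 / 2048 * B (a 0) (a 4) - 3 / 2048 := by
    have := (h.dilate 2 0).form_ss hV
    norm_num only at this
    rw [hy] at this
    exact this
  have a0t0 : B (a 0) t0 = y - (1 + y) / 32 := by rw [ht0, h.form_sig hV, hy]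
  have a2t0 : B (a 2) t0 = y - (1 + y) / 32 := by rw [ht0, sig_comm hV, h.form_sig hV, sy, hy]
  have am2t0 : B (a (-2)) t0 = y - (1 + y) / 32 := by
    rw [ht0, h.sig_refl (i := 0) (j := 2) (k := -2) (by norm_num), sig_comm hV, h.form_sig hV, sy, h.lam_neg, hy]
  have a1t0 : B (a 1) t0 = x - (1 + x) / 32 + (y - x) / 32 := by
    have := h.form_t1 hV 1
    norm_num only at this
    rw [ht0, sig_comm hV, this, hx, hy]
  have am1t0 : B (a (-1)) t0 = x - (1 + x) / 32 + (y - x) / 32 := by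
    have := h.form_t1 hV (-1)
    norm_num only at this
    rw [ht0, h.sig_refl (i := 0) (j := 2) (k := -2) (by norm_num), this, hx, hy]
  have a3t0 : B (a 3) t0 = x - (1 + x) / 32 + (y - x) / 32 := by
    have := h.form_t1 hV 3
    norm_num only at this
    rw [ht0, sig_comm hV, h.sig_refl (i := 2) (j := 0) (k := 4) (by norm_num), sig_comm hV, this, hx, hy]
  have a0t1 : B (a 0) t1 = x - (1 + x) / 32 + (y - x) / 32 := by
    have := h.form_t1 hV 0
    norm_num only at this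
    rw [ht1, this, hx, hy]
  have a2t1 : B (a 2) t1 = x - (1 + x) / 32 + (y - x) / 32 := by
    have := h.form_t1 hV 2
    norm_num only at this
    rw [ht1, h.sig_refl (i := 1) (j := -1) (k := 3) (by norm_num), sig_comm hV, this, hx, hy]
  have m := (h.main hV 0 hx hy).1
  norm_num only at m
  rw [← ht0, ← ht1] at m
  have b12 : B (a 2) (a 1) = x := by rw [← hx, ← h.lam1' hV 2]; norm_num
  have bm12 : B (a 2) (a (-1)) = B (a 0) (a 3) := by
    rw [h.form_refl 1]; norm_num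
  have bm22 : B (a 2) (a (-2)) = B (a 0) (a 4) := by
    rw [h.form_refl 1]; norm_num
  have t01 := hV.2.2.2.1 (a 2) (a 0) t1
  rw [m, hV.1 (a 2) (a 0), mul_eq_sig, ← ht0] at t01
  simp only [map_add, map_smul, LinearMap.add_apply, LinearMap.smul_apply, smul_eq_mul, sy (a 2) (a 0), hy, b12,
    bm12, bm22, h.norm, h.form_s hV, hx, a2t0, a0t1, a2t1, l3] at t01
  have h0 := congrArg (fun v => B v t0) (h.rel0 hV hx hy)
  simp only [map_add, map_sub, map_smul, LinearMap.add_apply, LinearMap.sub_apply, LinearMap.smul_apply,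
    smul_eq_mul, map_zero, LinearMap.zero_apply, ← ht0, ← ht1, a0t0, a1t0, am1t0, a2t0, am2t0, a3t0, tt,
    sy t1 t0] at h0
  linear_combination (-4096 / 7) * (h0 + (-7 / 1536 - 7 / 2048) * (-t01) -
    (-7 / 1536 - 7 / 2048) * (7 / 2048 - 7 / 6144) * (196608 / 49) * l4)

theorem eq_of_form_one (hV : Amb mul B) {u v : V} (hu : B u u = 1) (hv : B v v = 1)
    (huv : B u v = 1) : u = v := by
  by_contra hne
  have := hV.2.2.1 (u - v) (sub_ne_zero.mpr hne)
  simp only [map_sub, LinearMap.sub_apply, hu, hv, huv, hV.2.1 v u] at this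
  norm_num at this

/-- Sakuma's theorem: the table of inner products. -/
theorem IsSeq.typ (hV : Amb mul B) (h : IsSeq mul B a) :
    Typ (B (a 0) (a 1)) (B (a 0) (a 2)) (B (a 0) (a 3)) (B (a 0) (a 4)) (B (a 0) (a 5)) (B (a 0) (a 6)) := by
  have h3 := h.lam3 hV rfl rfl
  have h4 := h.recur_form hV 1 rfl rfl
  have h5 := h.recur_form hV 2 rfl rfl
  have h6 := h.recur_form hV 3 rfl rfl
  have h7 := h.recur_form hV 4 rfl rfl
  have h8 := h.recur_form hV 5 rfl rfl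
  have h6' := (h.dilate 2 0).lam3 hV rfl rfl
  have h8' := (h.dilate 2 0).recur_form hV 1 rfl rfl
  have r1 := h.r1 hV rfl rfl
  norm_num only at h4 h5 h6 h7 h8 h6' h8'
  simp only [h.lam_neg, h.norm] at h4 h5 h6 h8'
  exact endgame (B (a 0) (a 1)) (B (a 0) (a 2)) (B (a 0) (a 3)) (B (a 0) (a 4)) (B (a 0) (a 5)) (B (a 0) (a 6))
    (B (a 0) (a 7)) (B (a 0) (a 8)) (by linear_combination h3) (by linear_combination h4)
    (by linear_combination h5) (by linear_combination h6) (by linear_combination h7) (by linear_combination h8)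
    (by linear_combination h6') (by linear_combination h8') (by linear_combination r1)

theorem form_eigen (hV : Amb mul B) {x v : V} (ha : mul x x = x) {c : ℝ} (hc : c ≠ 1)
    (hv : mul x v = c • v) : B x v = 0 := by
  have h := hV.2.2.2.1 x x v
  rw [hv, ha, map_smul, smul_eq_mul] at h
  have : (c - 1) * B x v = 0 := by linarith
  rcases mul_eq_zero.mp this with h1 | h1
  · exact absurd (by linarith) hc
  · exact h1

/-- Eigenvectors of an element for different eigenvalues are orthogonal. -/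
theorem form_eigen2 (hV : Amb mul B) {x u v : V} {c d : ℝ} (hcd : c ≠ d) (hu : mul x u = c • u)
    (hv : mul x v = d • v) : B u v = 0 := by
  have h := hV.2.2.2.1 u x v
  rw [hv, hV.1 u x, hu, map_smul, map_smul, LinearMap.smul_apply, smul_eq_mul, smul_eq_mul] at h
  have : (c - d) * B u v = 0 := by linarith
  exact (mul_eq_zero.mp this).resolve_left (sub_ne_zero.2 hcd)

/-- The inner product of two axes takes finitely many values. -/
theorem lam_mem (hV : Amb mul B) {μ₀ μ₁ : V ≃ₗ[ℝ] V} {a₀ a₁ : V} (h₀ : Ax mul B μ₀ a₀) (h₁ : Ax mul B μ₁ a₁) :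
    B a₀ a₁ ∈ ({1, 1 / 8, 0, 13 / 256, 1 / 64, 1 / 32, 3 / 128, 5 / 256} : Set ℝ) := by
  obtain ⟨a, a0, a1, hs, -⟩ := CL.Spor.Maj.exists_seq h₀ h₁
  have := IsSeq.typ hV (a := a) hs
  rw [a0, a1] at this
  simp only [Set.mem_insert_iff, Set.mem_singleton_iff]
  unfold Typ at this
  tauto

end CL.Mj
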