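/-
The Leech lattice modulo 2 in coordinates: `co : Λ →+ (Fin 24 → ZMod 2)` with kernel `2Λ`, the action of `Co1`,
the bridge to the matrix engine `CL.Mx` and to the permutation engine `CL.PG`.
-/
import Cfsg.Agent.Spor.LeechN2
import Cfsg.Agent.Spor.MxF2
import Cfsg.Agent.Spor.PGCtx

set_option autoImplicit false

namespace CL.Spor.Leech
open Cfsg Cfsg.Spor Finset MulAction Matrix
open CL.Mx (b2 dec2 vec2 Act2)

/-- The vector coded by `c`: 24 entries of 5 bits with offset 16. -/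
def vz (c i : ℕ) : ℤ := Int.subNatNat (Nat.land (Nat.shiftRight c (Nat.mul 5 i)) 31) 16

/-- Row `j` of a table of coded vectors. -/
def rowZ (T j : ℕ) : ℕ → ℤ := vz (Nat.land (Nat.shiftRight T (Nat.mul 120 j)) 0xffffffffffffffffffffffffffffff)

/-- A basis of the lattice modulo 2. -/
def basT : ℕ := 0x6c6318c6318c6318c6318c6318c631942528421294a1284a10842108421084a529425284a108425084210842108425294a12942508421284210842108421294a5094a1284210942108421094a5094a1094a108421084a10842109425284a5084a5084210842508421094212942528425284210842128421084a5094a508425284210842109421094a1284a1094252842108421084a1084a109421294a5284210842108425094a1084a5284a12842108421084212a42108421084210852108421084210a42108421084210842908421084210a42108421084210842148421084210a4210842108421084210a421084210a42108421084210842108521084210a42108421084210842108429084210a42108421084210842108421484210a421084210842108421084210a4210a42108421084210842108421085210a42108421084210842108421084290a42108421084210842108421084214a4210842108421084210842108420c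

/-- The dual basis. -/
def duaT : ℕ := 0xc42108421084210842108421084210a42108421084210842108528c8320c939d2949ce73a4e93a4e949ce939ce94a4e949d273a4e749ce749ce939ce949d2949ce749ce949d2949d293a4ea42108421084210852108428c8320ca42108421084210852108520c8320ca4210842108421085210851908320c93a4e73a5274a4e739d274a4e73a4ea42108421084210852108518c8420c94a5274a4e939d2749ce94a4e939d2a42108421084210852108518c8321084a0e8425083a4e93a1064210a421094290a3a107425274a1274a4e73a4e94a14841d063a0e749d0749ce939d28421294a5094a1284210942108421094a52842109420e84a527424e749ce84a1283a0e74a109428c841d0842109421084a4e849d0839d294a5073a527420e8420e73a10949ce739ce839ce93a1093210939d083a52949ce7324e9424e839d085190749ce94a4e73a0e7be318bdef8be2f8c6358c6318c62f7bdf18b6739c5f19c62d8c6318c62d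

/-- Inner product on numbered coordinates. -/
def dotN (x y : ℕ → ℤ) : ℤ := sumZ (fun i => Int.mul (x i) (y i)) 24

theorem dot_vecOf (x y : ℕ → ℤ) : dotInt (vecOf x) (vecOf y) = dotN x y := sum_gIdx_sumZ fun i => x i * y i

theorem basT_inL (j : Fin 24) : inL (rowZ basT j) = true :=
  (allBelow_iff (fun j => inL (rowZ basT j)) 24).1 (by decide +kernel) j j.2

theorem duaT_inL (j : Fin 24) : inL (rowZ duaT j) = true :=
  (allBelow_iff (fun j => inL (rowZ duaT j)) 24).1 (by decide +kernel) j j.2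

def basL (j : Fin 24) : leechLattice := lv _ (basT_inL j)
def duaL (j : Fin 24) : leechLattice := lv _ (duaT_inL j)

/-- The space of coordinates modulo 2. -/
abbrev V2 : Type := Fin 24 → ZMod 2

/-- Coordinates modulo 2. -/
def co : leechLattice →+ V2 := AddMonoidHom.mk' (fun v k => ((dotInt (v : GolayPt → ℤ) (duaL k) / 8 : ℤ) : ZMod 2))
  fun v w => funext fun k => by
    rw [AddSubgroup.coe_add, dot_add_left, Int.add_ediv_of_dvd_left (eight_dvd_dot v.2 (duaL k).2), Int.cast_add]; rfl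

theorem co_apply (v : leechLattice) (k : Fin 24) :
    co v k = b2 (decide (dotInt (v : GolayPt → ℤ) (duaL k) % 16 = 8)) := by
  obtain ⟨a, ha⟩ := eight_dvd_dot v.2 (duaL k).2
  change ((dotInt (v : GolayPt → ℤ) (duaL k) / 8 : ℤ) : ZMod 2) = _
  rw [ha, Int.mul_ediv_cancel_left _ (by norm_num)]
  rcases Int.emod_two_eq_zero_or_one a with h | h
  · rw [decide_eq_false (by omega), (ZMod.intCast_zmod_eq_zero_iff_dvd a 2).2 (by omega)]; rfl
  · rw [decide_eq_true (by omega), ← ZMod.intCast_mod a 2]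
    exact congrArg (Int.cast : ℤ → ZMod 2) h

/-- The class of `x` has the coordinates `f`. -/
def isCo (x : ℕ → ℤ) (f : ℕ → Bool) : Bool :=
  allBelow (fun k => decide (dotN x (rowZ duaT k) % 16 = 8) == f k) 24

theorem co_of_isCo {v : leechLattice} {x : ℕ → ℤ} (hv : (v : GolayPt → ℤ) = vecOf x) {f : ℕ → Bool}
    (h : isCo x f = true) : co v = fun k : Fin 24 => b2 (f k) := funext fun k => by
  rw [co_apply, hv, ← beq_iff_eq.1 ((allBelow_iff _ _).1 h k k.2), ← dot_vecOf]; rfl

theorem co_basL (j : Fin 24) : co (basL j) = Pi.single j 1 := by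
  rw [co_of_isCo (f := fun k => Nat.beq k j) rfl
    ((allBelow_iff (fun j => isCo (rowZ basT j) fun k => Nat.beq k j) 24).1 (by decide +kernel) j j.2)]
  funext k
  by_cases h : k = j
  · simp [h]
  · have : Nat.beq k j = false := Bool.eq_false_iff.2 fun e => h (Fin.ext (Nat.eq_of_beq_eq_true e))
    simp [h, this]

/-- A lattice vector with given coordinates. -/
def lift2 (x : V2) : leechLattice := ∑ j, (x j).val • basL j

theorem co_lift2 (x : V2) : co (lift2 x) = x := by
  rw [lift2, map_sum]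
  funext k
  simp only [map_nsmul, co_basL, Finset.sum_apply, Pi.smul_apply, Pi.single_apply, smul_ite, smul_zero,
    Finset.sum_ite_eq, mem_univ, if_true]
  rw [nsmul_eq_mul, mul_one, ZMod.natCast_zmod_val]

theorem co_surjective : Function.Surjective co := fun x => ⟨_, co_lift2 x⟩

theorem co_eq_zero {v : leechLattice} : co v = 0 ↔ Dbl v := by
  have h1 : twoLeech.addSubgroupOf leechLattice ≤ co.ker := by
    rintro v ⟨z, hz, e⟩
    rw [AddMonoidHom.mem_ker, show v = ⟨z, hz⟩ + ⟨z, hz⟩ from Subtype.ext (e.symm.trans (two_nsmul z)), map_add]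
    funext k
    exact CharTwo.add_self_eq_zero _
  have h2 : co.ker.index = 2 ^ 24 := by
    rw [AddSubgroup.index_ker, AddMonoidHom.range_eq_top.2 co_surjective, AddSubgroup.card_top]; simp
  have h3 := AddSubgroup.relIndex_mul_index h1
  rw [h2, show (twoLeech.addSubgroupOf leechLattice).index = 2 ^ 24 from twoLeech_relIndex] at h3
  have h4 := AddSubgroup.relIndex_eq_one.1 (Nat.eq_of_mul_eq_mul_right (by norm_num) (h3.trans (one_mul _).symm))
  refine ⟨fun h => ?_, fun ⟨w, h⟩ => h1 ⟨w, w.2, (two_nsmul _).trans (congrArg Subtype.val h).symm⟩⟩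
  obtain ⟨z, hz, e⟩ := h4 h
  exact ⟨⟨z, hz⟩, Subtype.ext (e.symm.trans (two_nsmul z))⟩

theorem co_eq_iff {v w : leechLattice} : co v = co w ↔ Dbl (v - w) := by rw [← co_eq_zero, map_sub, sub_eq_zero]

theorem co_neg (v : leechLattice) : co (-v) = co v := co_eq_iff.2 (Dbl.neg_sub v)

theorem co_smul_congr (g : Co0) {v w : leechLattice} (h : co v = co w) : co (g • v) = co (g • w) :=
  co_eq_iff.2 (((co_eq_iff.1 h).smul g).of_eq (smul_sub ..))

/-- The action of `Co0` on the coordinates. -/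
noncomputable def rep0 : Co0 →* Equiv.Perm V2 := @MulAction.toPermHom Co0 V2 _
  { smul := fun g x => co (g • lift2 x)
    one_smul := fun x => by change co (_ • _) = _; rw [one_smul, co_lift2]
    mul_smul := fun g h x => by
      change co (_ • _) = co (g • lift2 (co (h • lift2 x)))
      rw [mul_smul]; exact co_smul_congr g (co_lift2 _).symm }

theorem rep0_co (g : Co0) (v : leechLattice) : rep0 g (co v) = co (g • v) := co_smul_congr g (co_lift2 _)

noncomputable scoped instance actCo1 : MulAction Co1 V2 := MulAction.compHom V2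
  (QuotientGroup.lift (Subgroup.center Co0) rep0 fun g hg => Equiv.ext fun x => by
    obtain ⟨v, rfl⟩ := co_surjective x
    rcases mem_center_iff.1 hg with rfl | rfl
    · rw [map_one]
    · rw [rep0_co, negOne_smul, co_neg]; rfl)

theorem mk1_smul_co (g : Co0) (v : leechLattice) : mk1 g • co v = co (g • v) := rep0_co g v

theorem co1_smul_add (g : Co1) (x y : V2) : g • (x + y) = g • x + g • y := by
  obtain ⟨g, rfl⟩ := mk1_surjective g
  obtain ⟨v, rfl⟩ := co_surjective x
  obtain ⟨w, rfl⟩ := co_surjective y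
  rw [← map_add, mk1_smul_co, mk1_smul_co, mk1_smul_co, smul_add, map_add]

theorem co1_faithful {g : Co1} (h : ∀ x : V2, g • x = x) : g = 1 := by
  obtain ⟨g, rfl⟩ := mk1_surjective g
  refine mk1_eq_one.2 (mem_center_of_congr fun v _ => ?_)
  obtain ⟨z, hz, e⟩ := (co_eq_iff.1 ((mk1_smul_co g v).symm.trans (h _))).coe
  exact ⟨⟨z, hz⟩, e⟩

/-- `Co1` as a group of matrices over the field of two elements. -/
noncomputable def rho : Act2 Co1 24 := ⟨fun g x => g • x, one_smul _, mul_smul, fun _ => co1_faithful⟩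

theorem rep_of_basis {g : Co1} {b : ℕ} (h : ∀ j : Fin 24, g • co (basL j) = fun k : Fin 24 => b2 (b.testBit (k * 24 + j))) :
    rho.Rep b g := fun x => by
  let f : V2 →+ V2 := AddMonoidHom.mk' (g • ·) (co1_smul_add g)
  have : f.toZModLinearMap 2 = Matrix.toLin' (dec2 24 b) := (Pi.basisFun (ZMod 2) (Fin 24)).ext fun j => by
    rw [Pi.basisFun_apply, Matrix.toLin'_apply, mulVec_single_one, ← co_basL]
    exact h j
  exact LinearMap.congr_fun this x

/-- The columns of the code `b` are the classes of the vectors `f j`. -/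
def colsB (f : ℕ → ℕ → ℤ) (b : ℕ) : Bool :=
  allBelow (fun j => isCo (f j) fun k => PG.tb b (Nat.add (Nat.mul k 24) j)) 24

theorem rep_of {g : Co0} {b : ℕ} {f : ℕ → ℕ → ℤ}
    (hf : ∀ j : Fin 24, ((g • basL j : leechLattice) : GolayPt → ℤ) = vecOf (f j)) (h : colsB f b = true) :
    rho.Rep b (mk1 g) := rep_of_basis fun j => by
  rw [mk1_smul_co, co_of_isCo (hf j) ((allBelow_iff _ _).1 h j j.2)]
  simp only [PG.tb_eq]; rfl

/-- The monomial element with signs `c` and permutation inverse to `p`. -/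
noncomputable def monoE (c p : ℕ) (hc : isCode c = true) : Co0 :=
  eps (ofMask c) (ofMask_mem_GC_of_isCode hc) * (pm (m24 p))⁻¹

/-- Its action on numbered coordinates. -/
def monoN (c p : ℕ) (x : ℕ → ℤ) (i : ℕ) : ℤ := cond (PG.tb c i) (Int.neg (x (pf p i))) (x (pf p i))

theorem monoE_smul {c p : ℕ} (hc : isCode c = true) (hp : inM24 p = true) {v : leechLattice} {x : ℕ → ℤ}
    (hv : (v : GolayPt → ℤ) = vecOf x) : ((monoE c p hc • v : leechLattice) : GolayPt → ℤ) = vecOf (monoN c p x) := by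
  funext i
  rw [monoE, mul_smul, eps_apply, ← map_inv, pm_apply, inv_inv, hv, vecOf, vecOf, (rep_m24 hp).apply, monoN,
    PG.tb_eq]
  simp only [mem_ofMask]
  cases c.testBit (gIdx i) <;> rfl

theorem rep_mono {c p b : ℕ} (hc : isCode c = true) (hp : inM24 p = true)
    (h : colsB (fun j => monoN c p (rowZ basT j)) b = true) : rho.Rep b (mk1 (monoE c p hc)) :=
  rep_of (fun _ => monoE_smul hc hp rfl) h

theorem rep_xi {T b : ℕ}
    (hT : allBelow (fun j => allBelow (fun i => decide (mulN xiM (rowZ basT j) i = 2 * rowZ T j i)) 24) 24 = true)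
    (h : colsB (rowZ T) b = true) : rho.Rep b (mk1 xi) :=
  rep_of (fun j => xi_smul_eq rfl ((allBelow_iff _ _).1 hT j j.2)) h

/-! ### Permutation models on classes modulo 2 -/

section
open CL.PG

theorem val_smul {b : ℕ} (hb : rho.model.Ok b) (x : V2) : rho.val b • x = dec2 24 b *ᵥ x := rho.rep_val hb x

/-- The matrix `b` permutes the points given by the planes `X` as the network `a`. -/
noncomputable def netB (n N : ℕ) (X : List ℕ) (b : ℕ) (a : Net) : Bool :=
  eqL (Mx.mapF (gath 0 N a) X) (Mx.step2 24 n 1 X (Mx.low n) b)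

noncomputable def netsB (n N : ℕ) (X bs : List ℕ) : List Net → Bool :=
  List.rec (motive := fun _ => List Net → Bool)
    (fun ns => List.rec (motive := fun _ => Bool) true (fun _ _ _ => false) ns)
    (fun b _ ih ns => List.rec (motive := fun _ => Bool) false (fun a t _ => bnd (netB n N X b a) (ih t)) ns) bs

theorem repN_of {n N : ℕ} (hN : n ≤ N) {X : List ℕ} (hX : X.length = 24) {b : ℕ} (hb : rho.model.Ok b) {a : Net}
    (hk : keepB n N a = true) (h : netB n N X b a = true) : RepN (vec2 24 X) n N (rho.val b) a := by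
  obtain ⟨h1, h2⟩ := keepB_spec hN hk
  refine ⟨h1, fun i hi => ⟨h2 i hi, ?_⟩⟩
  have h3 := Mx.vec2_step2 hX (Mx.low n) b (r := 1) (a := 0) one_pos hi
  rw [zero_mul, zero_add, Mx.testBit_low, decide_eq_true hi, if_pos rfl, ← eqL_spec h, Mx.mapF_eq] at h3
  rw [val_smul hb, ← h3]
  funext c
  simp only [vec2]
  rw [List.getD_eq_getElem _ _ (by simp [hX]), List.getD_eq_getElem _ _ (by simp [hX]), List.getElem_map,
    testBit_gath0 h1 _ (hi.trans_le hN)]

theorem good_of {n N : ℕ} (hN : n ≤ N) {X : List ℕ} (hX : X.length = 24) : ∀ {bs : List ℕ} {ns : List Net},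
    rho.model.AllIn ⊤ bs → PG.allL (keepB n N) ns = true → netsB n N X bs ns = true →
    PG.Good (vec2 24 X) n N (bs.map rho.val) ns
  | [], [], _, _, _ => PG.Good.nil _ _ _
  | [], _ :: _, _, _, h => absurd (show false = true from h) (by simp)
  | _ :: _, [], _, _, h => absurd (show false = true from h) (by simp)
  | b :: _, a :: _, h1, h2, h =>
    PG.Good.cons (repN_of hN hX (h1 b (by simp)).1 (allL_spec h2 a (by simp)) (bnd_iff.1 h).1)
      (good_of hN hX (fun c hc => h1 c (by simp [hc])) (allL_of fun c hc => allL_spec h2 c (by simp [hc]))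
        (bnd_iff.1 h).2)

theorem injLt_vec2 {n : ℕ} {X : List ℕ} (hX : X.length = 24) (h : Mx.incr 1 X n = true) : InjLt (vec2 24 X) n :=
  fun i hi j hj e => Mx.incr_sound one_pos h hi hj (by simpa [Mx.vec2_eq_iff hX hX] using e)

/-- A context for `Co1` acting on classes modulo 2. -/
theorem ctx_co1 {P : Par} (hP : P.Ok) {X bs : List ℕ} {ns : List Net} (hX : X.length = 24)
    (hb : rho.model.AllIn ⊤ bs) (hk : PG.allL (keepB P.n P.N) ns = true) (hn : netsB P.n P.N X bs ns = true)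
    (hi : Mx.incr 1 X P.n = true) : Ctx P (vec2 24 X) (bs.map rho.val) ns [] chk0 :=
  Ctx.mk0 hP (injLt_vec2 hX hi) (good_of hP.1 hX hb hk hn)

/-- The class of `x` is point `i` of the planes `X`. -/
noncomputable def isPt (x : ℕ → ℤ) (X : List ℕ) (i : ℕ) : Bool := isCo x fun k => tb (PG.nth 0 X k) i

theorem co_of_isPt {v : leechLattice} {x : ℕ → ℤ} (hv : (v : GolayPt → ℤ) = vecOf x) {X : List ℕ} {i : ℕ}
    (h : isPt x X i = true) : co v = vec2 24 X i := by
  rw [co_of_isCo hv h]; simp only [tb_eq, PG.nth_eq]; rfl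

/-- The bits of the class of `x`. -/
noncomputable def bitsOf (x : ℕ → ℤ) : List ℕ :=
  Mx.mapF (fun k => cond (decide (dotN x (rowZ duaT k) % 16 = 8)) 1 0) (Mx.rangeL 24)

theorem length_bitsOf (x : ℕ → ℤ) : (bitsOf x).length = 24 := by simp [bitsOf, Mx.rangeL_eq]

theorem co_eq_bitsOf {v : leechLattice} {x : ℕ → ℤ} (hv : (v : GolayPt → ℤ) = vecOf x) :
    co v = vec2 24 (bitsOf x) 0 := funext fun k => by
  rw [co_apply, hv, vec2, bitsOf, Mx.mapF_eq, Mx.rangeL_eq, List.getD_eq_getElem _ _ (by simp), List.getElem_map,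
    List.getElem_range, ← dot_vecOf]
  change b2 (decide (dotInt (vecOf x) (vecOf (rowZ duaT k)) % 16 = 8)) = _
  cases decide (dotInt (vecOf x) (vecOf (rowZ duaT k)) % 16 = 8) <;> rfl

/-- The matrix `b` maps the class of `x` to the class of `y`. -/
noncomputable def mapB (x y : ℕ → ℤ) (b : ℕ) : Bool := eqL (Mx.step2 24 1 1 (bitsOf x) 1 b) (bitsOf y)

theorem smul_of_mapB {v w : leechLattice} {x y : ℕ → ℤ} (hv : (v : GolayPt → ℤ) = vecOf x)
    (hw : (w : GolayPt → ℤ) = vecOf y) {b : ℕ} (hb : rho.model.Ok b) (h : mapB x y b = true) :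
    rho.val b • co v = co w := by
  have h3 := Mx.vec2_step2 (length_bitsOf x) 1 b (N := 1) (r := 1) (a := 0) (i := 0) one_pos one_pos
  rw [zero_mul, zero_add, if_pos (by decide), eqL_spec h] at h3
  rw [val_smul hb, co_eq_bitsOf hv, co_eq_bitsOf hw, h3]

/-- All matrices of the list fix the class of `x`. -/
noncomputable def fixB (x : ℕ → ℤ) (bs : List ℕ) : Bool := PG.allL (mapB x x) bs

/-! ### Lifting to the lattice -/

theorem eq_of_co {u x y : leechLattice} (hx : sqNorm (x : GolayPt → ℤ) ≤ 64) (hy : sqNorm (y : GolayPt → ℤ) < 64)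
    (hd : dotInt (u : GolayPt → ℤ) x = dotInt (u : GolayPt → ℤ) y) (h0 : dotInt (u : GolayPt → ℤ) y ≠ 0)
    (h : co x = co y) : x = y := by
  rcases (co_eq_iff.1 h).pm_of_lt hx hy with h1 | rfl
  · exact h1
  · rw [AddSubgroup.coe_neg, dot_neg_right] at hd; omega

theorem smul_eq_of_co {g : Co0} {u x y : leechLattice} (hg : g • u = u) (hx : sqNorm (x : GolayPt → ℤ) ≤ 64)
    (hy : sqNorm (y : GolayPt → ℤ) < 64) (hd : dotInt (u : GolayPt → ℤ) x = dotInt (u : GolayPt → ℤ) y)
    (h0 : dotInt (u : GolayPt → ℤ) y ≠ 0) (h : mk1 g • co x = co y) : g • x = y :=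
  eq_of_co (u := u) (by rwa [sqNorm_smul]) hy (by rw [← hd, ← dot_smul g u x, hg]) h0 (by rwa [← mk1_smul_co])

open Classical in
/-- The preimage of `g` that fixes `u`. -/
noncomputable def liftG (u : leechLattice) (g : Co1) : Co0 := if h : ∃ k, mk1 k = g ∧ k • u = u then h.choose else 1

theorem liftG_spec {u : leechLattice} (hu : sqNorm (u : GolayPt → ℤ) < 64) {g : Co1} (hg : g • co u = co u) :
    mk1 (liftG u g) = g ∧ liftG u g • u = u := by
  have : ∃ k, mk1 k = g ∧ k • u = u := by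
    obtain ⟨k, rfl⟩ := mk1_surjective g
    rw [mk1_smul_co] at hg
    rcases (co_eq_iff.1 hg).pm_of_lt (by rw [sqNorm_smul]; exact hu.le) hu with h | h
    · exact ⟨k, rfl, h⟩
    · exact ⟨negOne * k, by rw [map_mul, mk1_eq_one.2 negOne_mem_center, one_mul],
        by rw [mul_smul, h, negOne_smul, neg_neg]⟩
  rw [liftG, dif_pos this]; exact this.choose_spec

theorem liftG_fix (u : leechLattice) (g : Co1) : liftG u g • u = u := by
  unfold liftG; split_ifs with h
  exacts [h.choose_spec.2, one_smul _ _]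

/-- The letters of a model for the stabiliser of `u`. -/
noncomputable def liftL (u : leechLattice) (bs : List ℕ) : List Co0 := bs.map fun b => liftG u (rho.val b)

theorem liftL_fix {u : leechLattice} {bs : List ℕ} : ∀ g ∈ liftL u bs, g ∈ stabilizer Co0 u := fun g hg => by
  obtain ⟨b, -, rfl⟩ := List.mem_map.1 hg
  exact liftG_fix _ _

/-- The lift of the matrix `b` that fixes `z` maps `x` to `y`. -/
noncomputable def smulB (z x y : ℕ → ℤ) (b : ℕ) : Bool :=
  decide (dotN z z < 64 ∧ dotN x x ≤ 64 ∧ dotN y y < 64 ∧ dotN z x = dotN z y ∧ dotN z y ≠ 0) &&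
    mapB z z b && mapB x y b

theorem liftG_smul {u v w : leechLattice} {z x y : ℕ → ℤ} (hu : (u : GolayPt → ℤ) = vecOf z)
    (hv : (v : GolayPt → ℤ) = vecOf x) (hw : (w : GolayPt → ℤ) = vecOf y) {b : ℕ} (hb : rho.model.Ok b)
    (h : smulB z x y b = true) : liftG u (rho.val b) • v = w := by
  simp only [smulB, Bool.and_eq_true, decide_eq_true_eq, ← dot_vecOf, ← hu, ← hv, ← hw, ← sqNorm_eq_dot] at h
  obtain ⟨⟨⟨h1, h2, h3, h4, h5⟩, h6⟩, h7⟩ := h
  obtain ⟨e1, e2⟩ := liftG_spec h1 (smul_of_mapB hu hu hb h6)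
  exact smul_eq_of_co e2 h2 h3 h4 h5 (by rw [e1]; exact smul_of_mapB hv hw hb h7)

theorem wordG_liftL (u : leechLattice) {bs : List ℕ} (ws : List (List ℕ)) {c : ℕ} (hc : c < bs.length) :
    wordG (ext (liftL u bs) ws) [2 * c] = liftG u (rho.val (PG.nth 0 bs c)) := by
  rw [wordG_prefix (ext_prefix _ _) (by simp [liftL, hc]), wordG_single, letG_even, PG.nth_eq, liftL,
    List.getD_eq_getElem _ _ (by simpa using hc), List.getD_eq_getElem _ _ hc, List.getElem_map]

theorem letter_smul {u v w : leechLattice} {z x y : ℕ → ℤ} (hu : (u : GolayPt → ℤ) = vecOf z)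
    (hv : (v : GolayPt → ℤ) = vecOf x) (hw : (w : GolayPt → ℤ) = vecOf y) {bs : List ℕ} (hb : rho.model.AllIn ⊤ bs)
    (ws : List (List ℕ)) (c : ℕ) (h : (Nat.blt c (PG.lenL bs) && smulB z x y (PG.nth 0 bs c)) = true) :
    wordG (ext (liftL u bs) ws) [2 * c] • v = w := by
  rw [Bool.and_eq_true, Nat.blt_eq, PG.lenL_eq] at h
  rw [wordG_liftL u ws h.1]
  refine liftG_smul hu hv hw (hb _ ?_).1 h.2
  rw [PG.nth_eq, List.getD_eq_getElem _ _ h.1]; exact List.getElem_mem _

theorem subW_le_stab {u : leechLattice} {bs : List ℕ} (ws l : List (List ℕ)) :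
    subW (ext (liftL u bs) ws) l ≤ stabilizer Co0 u :=
  subW_le.2 fun w _ => wordG_mem (mem_of_mem_ext liftL_fix ws) w

/-- Point `i` is the class of a vector with the right norm and inner product. -/
def IsPt (u : leechLattice) (m d : ℤ) (X : List ℕ) (i : ℕ) (x : leechLattice) : Prop :=
  sqNorm (x : GolayPt → ℤ) = m ∧ dotInt (u : GolayPt → ℤ) x = d ∧ co x = vec2 24 X i

open Classical in
/-- The vector of norm `m` and inner product `d` with `u` in class number `i`. -/
noncomputable def liftE (u : leechLattice) (m d : ℤ) (X : List ℕ) (i : ℕ) : leechLattice :=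
  if h : ∃ x, IsPt u m d X i x then h.choose else 0

theorem IsPt.eq {u : leechLattice} {m d : ℤ} (hm : m < 64) (hd : d ≠ 0) {X : List ℕ} {i : ℕ} {x : leechLattice}
    (h : IsPt u m d X i x) : liftE u m d X i = x := by
  have h1 : ∃ x, IsPt u m d X i x := ⟨x, h⟩
  have h2 := h1.choose_spec
  rw [liftE, dif_pos h1]
  exact eq_of_co (u := u) (h2.1.trans_le hm.le) (h.1.trans_lt hm) (h2.2.1.trans h.2.1.symm) (h.2.1 ▸ hd)
    (h2.2.2.trans h.2.2.symm)

/-- The coded vector `p.2` is point `p.1`. -/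
noncomputable def ptB (z : ℕ → ℤ) (m d : ℤ) (X : List ℕ) (p : ℕ × ℕ) : Bool :=
  inL (vz p.2) && decide (dotN (vz p.2) (vz p.2) = m ∧ dotN z (vz p.2) = d) && isPt (vz p.2) X p.1

theorem isPt_of_ptB {u : leechLattice} {z : ℕ → ℤ} (hu : (u : GolayPt → ℤ) = vecOf z) {m d : ℤ} {X : List ℕ}
    {p : ℕ × ℕ} (h : ptB z m d X p = true) :
    ∃ x : leechLattice, (x : GolayPt → ℤ) = vecOf (vz p.2) ∧ IsPt u m d X p.1 x := by
  simp only [ptB, Bool.and_eq_true, decide_eq_true_eq, ← dot_vecOf, ← hu, ← sqNorm_eq_dot] at h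
  exact ⟨lv _ h.1.1, rfl, h.1.2.1, h.1.2.2, co_of_isPt rfl h.2⟩

theorem liftE_of_ptB {u : leechLattice} {z : ℕ → ℤ} (hu : (u : GolayPt → ℤ) = vecOf z) {m d : ℤ} (hm : m < 64)
    (hd : d ≠ 0) {X : List ℕ} {i c : ℕ} (h : ptB z m d X (i, c) = true) :
    (liftE u m d X i : GolayPt → ℤ) = vecOf (vz c) := by
  obtain ⟨x, h1, h2⟩ := isPt_of_ptB hu h
  rw [h2.eq hm hd, h1]

/-- The mask of the listed points. -/
noncomputable def maskL (L : List (ℕ × ℕ)) : ℕ :=
  List.rec (motive := fun _ => ℕ) 0 (fun p _ ih => Nat.lor (bit p.1) ih) L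

theorem testBit_maskL {i : ℕ} : ∀ {L : List (ℕ × ℕ)}, (maskL L).testBit i = true → ∃ p ∈ L, p.1 = i
  | [], h => absurd h (by simp [maskL])
  | p :: L, h => by
    change (bit p.1 ||| maskL L).testBit i = true at h
    rw [Nat.testBit_or, Bool.or_eq_true, testBit_bit, decide_eq_true_eq] at h
    rcases h with h | h
    · exact ⟨p, by simp, h⟩
    · obtain ⟨q, hq, e⟩ := testBit_maskL h
      exact ⟨q, by simp [hq], e⟩

/-- The checks for a model of the stabiliser of a vector. -/
noncomputable def modelB (P : Par) (z : ℕ → ℤ) (m d : ℤ) (X bs : List ℕ) (ns : List Net) (L : List (ℕ × ℕ))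
    (sc : List (List ℕ)) : Bool :=
  decide (dotN z z < 64 ∧ m < 64 ∧ d ≠ 0) && Nat.beq (PG.lenL X) 24 && netsB P.n P.N X bs ns && Mx.incr 1 X P.n &&
    fixB z bs && PG.allL (ptB z m d X) L && Nat.beq (grow P.N ns sc (maskL L)) (ones P.n)

theorem ctx_lift {P : Par} (hP : P.Ok) {u : leechLattice} {z : ℕ → ℤ} (hu : (u : GolayPt → ℤ) = vecOf z) {m d : ℤ}
    {X bs : List ℕ} {ns : List Net} {L : List (ℕ × ℕ)} {sc : List (List ℕ)} (hb : rho.model.AllIn ⊤ bs)
    (hk : PG.allL (keepB P.n P.N) ns = true) (h : modelB P z m d X bs ns L sc = true) :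
    Ctx P (liftE u m d X) (liftL u bs) ns [] chk0 ∧ ∀ i < P.n, IsPt u m d X i (liftE u m d X i) := by
  simp only [modelB, Bool.and_eq_true, decide_eq_true_eq, Nat.beq_eq, PG.lenL_eq, ← dot_vecOf, ← hu,
    ← sqNorm_eq_dot] at h
  obtain ⟨⟨⟨⟨⟨⟨⟨h1, hm, hd⟩, hX⟩, hn⟩, hi⟩, hf⟩, hL⟩, hg⟩ := h
  have c := ctx_co1 hP hX hb hk hn hi
  have hf' : ∀ b ∈ bs, rho.val b • co u = co u := fun b hb' =>
    smul_of_mapB hu hu (hb b hb').1 (allL_spec hf b hb')
  have step : ∀ {g : Co1} {i j x}, g • co u = co u → g • vec2 24 X i = vec2 24 X j → IsPt u m d X i x →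
      IsPt u m d X j (liftG u g • x) := fun {g i j x} hg e hx => by
    obtain ⟨e1, e2⟩ := liftG_spec h1 hg
    exact ⟨by rw [sqNorm_smul, hx.1], by rw [← hx.2.1, ← dot_smul (liftG u g) u x, e2],
      by rw [← mk1_smul_co, e1, hx.2.2, e]⟩
  have key : ∀ i < P.n, IsPt u m d X i (liftE u m d X i) := fun i hi => by
    obtain ⟨g, hg', y, ⟨j, -, hj, rfl⟩, e⟩ := c.good.grow_spec hP.1 (H := stabilizer Co1 (co u)) sc (maskL L)
      (fun w _ => wordG_mem (fun g hg => by obtain ⟨b, hb', rfl⟩ := List.mem_map.1 hg; exact hf' b hb') w)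
      (vec2 24 X i) (hg ▸ mem_mset_ones.2 ⟨i, hi, rfl⟩)
    obtain ⟨p, hp, rfl⟩ := testBit_maskL hj
    obtain ⟨x, -, hx⟩ := isPt_of_ptB hu (allL_spec hL p hp)
    have := step hg' e hx
    rwa [this.eq hm hd]
  refine ⟨Ctx.mk0 hP (fun i hi j hj e => c.inj i hi j hj ?_) ?_, key⟩
  · rw [← (key i hi).2.2, ← (key j hj).2.2, e]
  · have := c.good
    unfold PG.Good liftL at *
    rw [List.forall₂_map_left_iff] at this ⊢
    refine (List.forall₂_iff_get.2 ⟨this.length_eq, fun k h1 h2 => ?_⟩)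
    obtain ⟨e1, e2⟩ := (List.forall₂_iff_get.1 this).2 k h1 h2
    exact ⟨e1, fun i hi => ⟨(e2 i hi).1,
      ((step (hf' _ (List.get_mem ..)) (e2 i hi).2 (key i hi)).eq hm hd).symm⟩⟩

theorem mset_eq_nbr {u : leechLattice} {d : ℤ} {X : List ℕ} {e : ℕ → leechLattice} {n : ℕ} (he : InjLt e n)
    (h : ∀ i < n, IsPt u 32 d X i (e i)) (hn : (nbr u d).ncard = n) : mset e n (ones n) = nbr u d := by
  refine Set.eq_of_subset_of_ncard_le ?_ ?_ (nbr_finite u d)
  · rintro _ ⟨i, hi, -, rfl⟩; exact ⟨(h i hi).1, (h i hi).2.1⟩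
  · rw [hn, ncard_mset he, cnt, Finset.filter_true_of_mem fun i hi => by simpa [testBit_ones] using hi,
      Finset.card_range]

end

/-! ### Orbits told apart by an invariant -/

/-- `T` is an orbit of `K` of length `n`. -/
def IsOrb {G X : Type*} [Group G] [MulAction G X] (K : Subgroup G) (T : Set X) (n : ℕ) : Prop :=
  T.ncard = n ∧ ∃ x, orbit K x = T

section
variable {G X : Type*} [Group G] [MulAction G X] {K : Subgroup G} {T : Set X} {n : ℕ}

theorem IsOrb.orbit_eq (h : IsOrb K T n) {x : X} (hx : x ∈ T) : orbit K x = T := by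
  obtain ⟨-, y, rfl⟩ := h
  exact orbit_eq_iff.2 hx

theorem IsOrb.trans (h : IsOrb K T n) {x y : X} (hx : x ∈ T) (hy : y ∈ T) : ∃ g ∈ K, g • x = y :=
  mem_orbit_subgroup_iff.1 (h.orbit_eq hx ▸ hy)

theorem IsOrb.exists (h : IsOrb K T n) : ∃ x ∈ T, orbit K x = T ∧ (orbit K x).ncard = n := by
  obtain ⟨h1, y, rfl⟩ := h
  exact ⟨y, mem_orbit_self _, rfl, h1⟩

theorem IsOrb.card (h : IsOrb K T n) {x : X} (hx : x ∈ T) :
    Nat.card K = n * Nat.card ↥(K ⊓ stabilizer G x) := by rw [card_eq_ncard_orbit_mul K x, h.orbit_eq hx, h.1]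

theorem IsOrb.transport (h : IsOrb K T n) (g : G) {K' : Subgroup G} {T' : Set X}
    (hK : ∀ k, g * k * g⁻¹ ∈ K' ↔ k ∈ K) (hT : ∀ x, g • x ∈ T' ↔ x ∈ T) : IsOrb K' T' n := by
  obtain ⟨h1, y, rfl⟩ := h
  have h2 : T' = (g • ·) '' orbit K y := Set.ext fun x =>
    ⟨fun hx => ⟨g⁻¹ • x, (hT _).1 (by rwa [smul_inv_smul]), smul_inv_smul _ _⟩, by
      rintro ⟨x, hx, rfl⟩; exact (hT _).2 hx⟩
  refine ⟨by rw [h2, Set.ncard_image_of_injective _ (MulAction.injective g), h1], g • y, Set.ext fun x => ?_⟩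
  rw [← smul_inv_smul g x, hT, mem_orbit_subgroup_iff, mem_orbit_subgroup_iff]
  constructor
  · rintro ⟨k, hk, e⟩
    exact ⟨g⁻¹ * k * g, (hK _).1 (by simpa [mul_assoc] using hk), by rw [mul_smul, mul_smul, e, inv_smul_smul]⟩
  · rintro ⟨k, hk, e⟩
    exact ⟨_, (hK _).2 hk, by rw [← e, mul_smul, mul_smul, inv_smul_smul]⟩

/-- If orbits with different values of an invariant fill a finite invariant set, they are its fibres. -/
theorem fibres_of_orbits (f : X → ℤ) (hf : ∀ g ∈ K, ∀ x, f (g • x) = f x) :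
    ∀ (L : List (X × ℤ × ℕ)) {S : Set X}, S.Finite → (∀ g ∈ K, ∀ x ∈ S, g • x ∈ S) →
      (∀ p ∈ L, p.1 ∈ S ∧ f p.1 = p.2.1 ∧ (orbit K p.1).ncard = p.2.2) → (L.map (·.2.1)).Nodup →
      (L.map (·.2.2)).sum = S.ncard →
      (∀ p ∈ L, IsOrb K {y | y ∈ S ∧ f y = p.2.1} p.2.2) ∧ ∀ y ∈ S, f y ∈ L.map (·.2.1)
  | [], S, hS, _, _, _, hn => by
    rw [(Set.ncard_eq_zero hS).1 hn.symm]; simp
  | p :: L, S, hS, hK, hL, hd, hn => by
    obtain ⟨h1, h2, h3⟩ := hL p (by simp)
    have h4 : ∀ y ∈ orbit K p.1, y ∈ S ∧ f y = p.2.1 := by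
      rintro _ ⟨g, rfl⟩; exact ⟨hK g g.2 _ h1, (hf g g.2 _).trans h2⟩
    rw [List.map_cons, List.nodup_cons] at hd
    obtain ⟨k1, k2⟩ := fibres_of_orbits f hf L (S := S \ orbit K p.1) (hS.subset Set.sdiff_subset)
      (fun g hg x hx => ⟨hK g hg x hx.1, fun h => hx.2 (by
        obtain ⟨k, hk, e⟩ := mem_orbit_subgroup_iff.1 h
        exact mem_orbit_subgroup_iff.2 ⟨g⁻¹ * k, K.mul_mem (K.inv_mem hg) hk, by rw [mul_smul, e, inv_smul_smul]⟩)⟩)
      (fun q hq => ⟨⟨(hL q (by simp [hq])).1, fun h => hd.1 (List.mem_map.2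
        ⟨q, hq, by rw [← (hL q (by simp [hq])).2.1, (h4 _ h).2]⟩)⟩, (hL q (by simp [hq])).2⟩) hd.2
      (by rw [Set.ncard_sdiff (fun y hy => (h4 y hy).1) (hS.subset fun y hy => (h4 y hy).1), ← hn, h3]; simp)
    refine ⟨List.forall_mem_cons.2 ⟨?_, fun q hq => ?_⟩, fun y hy => ?_⟩
    · have : orbit K p.1 = {y | y ∈ S ∧ f y = p.2.1} := Set.Subset.antisymm h4 fun y hy =>
        not_not.1 fun h => hd.1 (hy.2 ▸ k2 y ⟨hy.1, h⟩)
      exact ⟨this ▸ h3, _, this⟩
    · convert k1 q hq using 2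
      exact funext fun y => propext ⟨fun h => ⟨⟨h.1, fun h' => hd.1 (List.mem_map.2
        ⟨q, hq, by rw [← h.2, (h4 _ h').2]⟩)⟩, h.2⟩, fun h => ⟨h.1.1, h.2⟩⟩
    · by_cases h : y ∈ orbit K p.1
      · simp [(h4 y h).2]
      · exact List.mem_cons_of_mem _ (k2 y ⟨hy, h⟩)

end

end CL.Spor.Leech
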