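/-
Orders of the Monster and the Baby Monster by counting pairs of axes: commuting pairs of conjugates of `s`.
-/
import Cfsg.Agent.Spor.Mj0
import Cfsg.Agent.Spor.M24More

set_option autoImplicit false
set_option linter.unusedSectionVars false

namespace CL.Mj

open Cfsg Cfsg.Spor Subgroup CL.Even CL.Grp CL.Spor CL.Spor.Leech CL.Spor.Mon
open scoped commutatorElement

/-! ### The Leech lattice -/

theorem p2_xi_eps {m : ℕ} (hm : ofMask m ∈ Cset)
    (h : allBelow (fun i => allBelow (fun j => decide (xiM i j = 0) || (m.testBit i == m.testBit j)) 24) 24 = true) :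
    xi * eps _ hm * xi⁻¹ = eps _ hm := by
  rw [mul_inv_eq_iff_eq_mul]
  refine co0_ext' fun v => funext fun p => mul_left_cancel₀ (two_ne_zero (α := ℤ)) ?_
  simp only [allBelow_iff, Bool.or_eq_true, decide_eq_true_eq, beq_iff_eq] at h
  have h1 := congrFun (xi_smul (eps _ hm • v)) p
  have h2 := congrFun (xi_smul v) p
  simp only [Pi.smul_apply, smul_eq_mul, Matrix.mulVec, dotProduct, eps_apply, matOf] at h1 h2
  rw [mul_smul, mul_smul, h1, eps_apply, mul_ite, mul_neg, h2, ← Finset.sum_neg_distrib, ← Finset.sum_ite_irrel]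
  refine Finset.sum_congr rfl fun q _ => ?_
  rcases h _ (gIdx_lt p) _ (gIdx_lt q) with e | e
  · simp [e]
  · simp only [mem_ofMask, e]; split_ifs <;> ring

/-- A minimal vector fixed up to sign by an octad sign change is of shape `(±4, ±4)` in a suitable eigenframe. -/
theorem p2_frame {o : Finset GolayPt} (ho : o ∈ Cset) (h8 : o.card = 8) {v : leechLattice}
    (hv : sqNorm (v : GolayPt → ℤ) = 32) (he : eps o ho • v = v ∨ eps o ho • v = -v) :
    ∃ (k : Co0) (o' : Finset GolayPt) (ho' : o' ∈ Cset), o'.card = 8 ∧ k * eps o ho * k⁻¹ = eps o' ho' ∧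
      ∀ i, (4 : ℤ) ∣ ((k • v : leechLattice) : GolayPt → ℤ) i := by
  have hz : (∀ i ∈ o, (v : GolayPt → ℤ) i = 0) ∨ ∀ i ∉ o, (v : GolayPt → ℤ) i = 0 := he.imp
    (fun e i hi => by have := eps_apply o ho v i; rw [e, if_pos hi] at this; omega) fun e i hi => by
      have := eps_apply o ho v i
      rw [e, if_neg hi, AddSubgroup.coe_neg, Pi.neg_apply] at this; omega
  have hev : ∀ i, (v : GolayPt → ℤ) i % 2 = 0 := by
    obtain ⟨i, hi⟩ : o.Nonempty := Finset.card_pos.1 (by omega)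
    obtain ⟨j, hj⟩ : oᶜ.Nonempty := Finset.card_pos.1 (by rw [card_compl24]; omega)
    exact hz.elim (fun e => even_of_one v.2 (i := i) (by rw [e i hi]; rfl))
      fun e => even_of_one v.2 (i := j) (by rw [e j (Finset.mem_compl.1 hj)]; rfl)
  obtain ⟨-, h1, h2⟩ := even_shape v.2 (by omega) hev
  have h3 := card_cres_two (x := v) (by omega)
  by_cases h0 : (cres v 2).card = 0
  · refine ⟨1, o, ho, h8, by simp, fun i => ?_⟩
    have h4 := notMem_of_card_zero h0 i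
    have := hev i
    rw [one_smul]
    simp only [cres, Finset.mem_filter, Finset.mem_univ, true_and] at h4
    omega
  have h4 : (lev v 2).card = 8 := by omega
  have h5 : cres v 2 = lev v 2 := by
    rw [cres_two_eq (by omega), Finset.card_eq_zero.1 (show (lev v 6).card = 0 by omega), Finset.union_empty]
  have h6 : lev v 2 ∈ octads := ⟨h5 ▸ cres_mem v.2 (by norm_num) (by norm_num), h4⟩
  have h7 : ∀ i ∈ lev (v : GolayPt → ℤ) 2, (v : GolayPt → ℤ) i ≠ 0 := fun i hi e => by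
    rw [mem_lev, e] at hi; simp at hi
  have c1 : ofMask 12656663 ∈ Cset := ofMask_mem_GC_of_isCode (by decide +kernel)
  have c2 : (ofMask 12656663).card = 8 := by rw [card_ofMask]; decide +kernel
  obtain ⟨m, hm, m8, m1, m2⟩ : ∃ m, ∃ hm : ofMask m ∈ Cset, (ofMask m).card = 8 ∧ xi * eps _ hm * xi⁻¹ = eps _ hm ∧
      (o ∩ lev v 2).card = (ofMask m ∩ ofMask 12656663).card := by
    rcases hz with e | e
    · refine ⟨2769128, ofMask_mem_GC_of_isCode (by decide +kernel), by rw [card_ofMask]; decide +kernel,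
        p2_xi_eps _ (by decide +kernel), ?_⟩
      rw [← ofMask_and, card_ofMask, Finset.disjoint_iff_inter_eq_empty.1
        (Finset.disjoint_left.2 fun i hi h => h7 i h (e i hi))]
      decide +kernel
    · refine ⟨_, c1, c2, p2_xi_eps _ (by decide +kernel), ?_⟩
      rw [Finset.inter_self, c2, Finset.inter_eq_right.2 fun i hi => by_contra fun h => h7 i hi (e i h), h4]
  obtain ⟨σ, s1, s2⟩ := octad_pair_base ⟨ho, h8⟩ h6 ⟨hm, m8⟩ ⟨c1, c2⟩ m2
  rw [← lev_pm] at s2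
  have h8 := abs_eq_ite (x := (pm σ • v : leechLattice)) (k := 2) (by rw [sqNorm_smul, hv, s2, c2]; norm_num)
  rw [s2] at h8
  obtain ⟨c, hc, -, h9⟩ := exists_eps_of_even (v := pm σ • v)
    (w := lv (lf [2,2,2,0,2,0,0,0,0,0,0,0,0,2,0,0,2,0,0,0,0,0,-2,-2]) (by decide +kernel)) (S := ofMask 12656663)
    (fun i => (h8 i).trans (by revert i; decide +kernel)) (fun i => by rw [pm_apply]; exact hev _)
    (fun i hi => by have := h8 i; rw [if_neg hi] at this; exact abs_eq_zero.1 this)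
    fun B hB hS => by
      rw [cres_pm, h5, ← lev_pm, s2]
      exact Cset_subset_small (by omega) c1 c2 subset_rfl hB hS
  refine ⟨xi * (eps c hc * pm σ), _, hm, m8, ?_, ?_⟩
  · rw [← m1, ← eps_congr (s1 ▸ hm) hm s1, ← pm_mul_eps σ o ho]
    have : eps c hc * (pm σ * eps o ho * (pm σ)⁻¹) = pm σ * eps o ho * (pm σ)⁻¹ * eps c hc := by
      rw [pm_mul_eps, eps_comm]
    calc _ = xi * (eps c hc * (pm σ * eps o ho * (pm σ)⁻¹) * (eps c hc)⁻¹) * xi⁻¹ := by group
      _ = _ := by rw [this, mul_inv_cancel_right]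
  · rw [mul_smul, mul_smul, h9, xi_smul_lv _
      (y := lf [0,0,0,0,0,0,0,0,0,0,0,0,0,0,0,0,0,0,0,0,0,0,-4,4]) (by decide +kernel)]
    decide +kernel

/-- `4 e_i + 4 e_j`. -/
def p2f (i j : GolayPt) : leechLattice := ⟨Pi.single i 4 + Pi.single j 4, single_add_single_mem i j⟩

theorem p2f_diff {i j : GolayPt} (hij : i ≠ j) : ∃ (y : leechLattice) (c : Finset GolayPt) (hc : c ∈ Cset),
    (y : GolayPt → ℤ) none % 2 = 0 ∧ y - eps c hc • y = p2f i j := by
  obtain ⟨d, hd, h1⟩ := exists_octad_superset_of_le (s := {i, j}) (by rw [Finset.card_pair hij]; norm_num)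
  obtain ⟨c, hc, h2⟩ := exists_Cset_inter h1 fun B hB hS => by
    rcases Cset_subset_small (by rw [hd.2]; norm_num) hd.1 hd.2 subset_rfl hB hS with rfl | rfl
    · simp
    · rw [Finset.inter_eq_left.2 h1, Finset.card_pair hij]
  refine ⟨⟨_, indZ_two_mem hd.1⟩, c, hc, by simp only [indZ]; split_ifs <;> rfl, Subtype.ext (funext fun k => ?_)⟩
  have h3 : k ∈ c ∧ k ∈ d ↔ k = i ∨ k = j := by rw [← Finset.mem_inter, h2]; simp
  simp only [AddSubgroup.coe_sub, Pi.sub_apply, eps_apply, indZ, p2f, Pi.add_apply, Pi.single_apply]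
  grind

theorem p2_span {P : AddSubgroup leechLattice} (h1 : e8 none ∈ P) (h2 : ∀ i ≠ none, p2f i none ∈ P) {v : leechLattice}
    (hv : ∀ i, (4 : ℤ) ∣ (v : GolayPt → ℤ) i) : v ∈ P := by
  choose w hw using hv
  have h3 := (four_mul_mem_iff w).1 (funext hw ▸ v.2)
  have h4 : ∀ i, p2f i none ∈ P := fun i => by
    by_cases e : i = none
    · rwa [e, ← show e8 none = p2f none none by decide +kernel]
    · exact h2 i e
  have h5 : v = ∑ i, w i • p2f i none - ((∑ i, w i) / 2) • e8 none := Subtype.ext (funext fun k => by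
    simp only [AddSubgroup.coe_sub, AddSubgroup.val_finsetSum, AddSubgroup.coe_zsmul, Pi.sub_apply, Finset.sum_apply,
      Pi.smul_apply, p2f, coe_e8, Pi.add_apply, Pi.single_apply, smul_eq_mul, mul_add, Finset.sum_add_distrib, mul_ite,
      mul_zero, Finset.sum_ite_eq, Finset.mem_univ, if_true, hw, Finset.sum_ite_irrel, ← Finset.sum_mul,
      Finset.sum_const_zero]
    split_ifs <;> omega)
  exact h5 ▸ P.sub_mem (P.sum_mem fun i _ => P.zsmul_mem (h4 i) _) (P.zsmul_mem h1 _)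

/-! ### Groups of Monster type -/

variable {G : Type*} [Group G]

theorem p2_ncard_mod [Finite G] {Z : Set G} {P : Subgroup G} (hP : IsPGroup 2 P)
    (hZ : ∀ g ∈ P, ∀ u ∈ Z, g * u * g⁻¹ ∈ Z) :
    Z.ncard ≡ {u | u ∈ Z ∧ ∀ g ∈ P, g * u * g⁻¹ = u}.ncard [MOD 2] := by
  let _ : MulAction P Z :=
    { smul := fun g u => ⟨g * u * (g : G)⁻¹, hZ g g.2 u u.2⟩
      one_smul := fun u => Subtype.ext (show ((1 : P) : G) * u * _ = u by simp)
      mul_smul := fun g k u => Subtype.ext (show ((g * k : P) : G) * u * _ = g * (k * u * (k : G)⁻¹) * (g : G)⁻¹ by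
        simp [mul_assoc]) }
  have := hP.card_modEq_card_fixedPoints Z
  rw [Nat.card_coe_set_eq, Nat.card_coe_set_eq, ← Set.ncard_image_of_injective _ Subtype.val_injective] at this
  convert this using 2
  ext u
  exact ⟨fun h => ⟨⟨u, h.1⟩, fun g => Subtype.ext (h.2 g g.2), rfl⟩, by
    rintro ⟨u, h, rfl⟩; exact ⟨u.2, fun g hg => congrArg Subtype.val (h ⟨g, hg⟩)⟩⟩

theorem p2_comm {t t' : G} (h : t * t' = t' * t) (g : G) :
    g⁻¹ * t * g * (g⁻¹ * t' * g) = g⁻¹ * t' * g * (g⁻¹ * t * g) := by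
  calc _ = g⁻¹ * (t * t') * g := by group
    _ = _ := by rw [h]; group

theorem Std.conj {z s s1 t t' : G} (h : Std z s s1 t t') (g : G) : Std z s s1 (g * t * g⁻¹) (g * t' * g⁻¹) :=
  h.imp (fun ⟨k, h1, h2⟩ => ⟨g * k, by rw [← h1]; group, by rw [← h2]; group⟩)
    fun ⟨k, h1, h2⟩ => ⟨g * k, by rw [← h1]; group, by rw [← h2]; group⟩

theorem Std.of_conj {z s s1 t t' : G} (g : G) (h : Std z s s1 (g⁻¹ * t * g) (g⁻¹ * t' * g)) : Std z s s1 t t' := by
  simpa [mul_assoc] using h.conj g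

section

variable {z : G} {Q : Subgroup G} {π : centralizer ({z} : Set G) →* Co1} {R : leechLattice → G → Prop}
  (h : MT z Q π R) [Finite G] {g x y : G} {v w : leechLattice}
include h

theorem p2_ne (hg : R (e8 none) (g * z * g⁻¹)) : g * z * g⁻¹ ≠ z := (h.isConj_of_type hg (sqNorm_e8 _)).2

theorem p2_lift (hg : R (e8 none) (g * z * g⁻¹)) (c : Finset GolayPt) (hc : c ∈ Cset) :
    ∃ r : centralizer ({z} : Set G), (r : G) ∈ cj g Q ∧ π r = mk1 (eps c hc) := by
  obtain ⟨-, k, h1, h2, -⟩ := h.pair (h.mem hg) (p2_ne h hg)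
  have h3 : k ∈ Nsub := clsStab_e8 none ▸ mem_clsStab.2 ((h.dbl_iff' h1 hg).2 (Or.inl rfl))
  obtain ⟨r, hr, e⟩ : eps c hc ∈ (Subgroup.map π ((cj g Q ⊓ centralizer ({z} : Set G)).subgroupOf
    (centralizer ({z} : Set G)))).comap mk1 :=
    h2 ▸ ⟨_, conj_mem_Eps (inv_mem h3) (eps_mem_Eps c hc), by simp [mul_assoc]⟩
  exact ⟨r, hr.1, e⟩

theorem p2_el : EL z Q R := fun g hg v x hx hv => by
  have h' := h.xe.conj g
  let P : AddSubgroup leechLattice :=
    { carrier := {v | ∃ x ∈ cj g Q, R v x}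
      add_mem' := fun ⟨_, a1, a2⟩ ⟨_, b1, b2⟩ => ⟨_, mul_mem a1 b1, h.mul a2 b2⟩
      zero_mem' := ⟨1, one_mem _, h.ofZero Dbl.zero (one_mem _)⟩
      neg_mem' := fun ⟨_, a1, a2⟩ => ⟨_, inv_mem a1, h.inv a2⟩ }
  obtain ⟨y, h1, h2⟩ := p2_span (P := P) ⟨_, h'.mem, hg⟩ (fun i hi => by
    obtain ⟨y, c, hc, h1, h2⟩ := p2f_diff hi
    obtain ⟨r, hr, e⟩ := p2_lift h hg c hc
    obtain ⟨q, hq⟩ := h.exR y
    have h3 := h.mul hq (h.conj r _ e (h.inv hq))
    have h4 : q * (g * z * g⁻¹) = g * z * g⁻¹ * q := (h.comm_iff hq hg).2 (by rw [dot_e8]; omega)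
    rw [smul_neg, ← sub_eq_add_neg, h2, ← mul_assoc, ← mul_assoc] at h3
    exact ⟨_, mul_mem (conj_mem (h'.norm (mem_cent_singleton.2 h4)) hr) (inv_mem hr), h3⟩) hv
  rcases (h.dbl_iff' hx h2).1 (Dbl.refl v) with e | e <;> rw [e]
  exacts [h1, mul_mem (h.xe.mem_cj_of_conj_mem (h.mem hg)) h1]

theorem p2_sign (hx : R v x) (hy : R w y) (h1 : ¬ Dbl w) (h2 : ¬ Dbl (w + v)) :
    ∃ q ∈ Q, q * x * q⁻¹ = x ∧ q * y * q⁻¹ = z * y := by
  obtain ⟨q, hq, h3, h4⟩ : ∃ q ∈ Q, x * q = q * x ∧ y * q ≠ q * y := by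
    by_contra! hc
    rcases h.xe.mem_cent_or (h.mem hx) (h.mem hy) hc with e | e <;> rw [h.xe.cent_eq] at e
    exacts [h1 ((h.zero hy).2 e), h2 ((h.zero (h.mul hy hx)).2 e)]
  refine ⟨q, hq, by rw [← h3, mul_inv_cancel_right], mul_inv_eq_iff_eq_mul.1 ?_⟩
  exact (h.xe.mem_Z.1 (h.xe.comm_mem hq (h.mem hy))).resolve_left fun e =>
    h4 (commutatorElement_eq_one_iff_mul_comm.1 e).symm

theorem p2_pair {x' y' : G} (hx : R v x) (hy : R w y) (hx' : R v x') (hy' : R w y') (h0 : ¬ Dbl v) (h1 : ¬ Dbl w)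
    (h2 : ¬ Dbl (w + v)) : ∃ q ∈ Q, q * x * q⁻¹ = x' ∧ q * y * q⁻¹ = y' := by
  obtain ⟨a, ha, a1, a2⟩ := p2_sign h hx hy h1 h2
  obtain ⟨b, hb, b1, b2⟩ := p2_sign h hy hx h0 (add_comm w v ▸ h2)
  rcases (h.dbl_iff' hx' hx).1 (Dbl.refl v) with rfl | rfl <;> rcases (h.dbl_iff' hy' hy).1 (Dbl.refl w) with rfl | rfl
  · exact ⟨1, one_mem _, by simp, by simp⟩
  · exact ⟨a, ha, a1, a2⟩
  · exact ⟨b, hb, b2, b1⟩
  · refine ⟨b * a, mul_mem hb ha, ?_, ?_⟩
    · rw [← b2, ← congrArg (b * · * b⁻¹) a1]; group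
    · calc _ = b * (a * y * a⁻¹) * b⁻¹ := by group
        _ = z * (b * y * b⁻¹) := by rw [a2, ← mul_assoc, h.xe.comm hb]; group
        _ = _ := by rw [b1]

/-- A lift of an octad sign change centralising the elements over the fixed minimal vectors lies, up to conjugation by
`Q`, in the conjugate of `Q` belonging to the standard frame. -/
theorem p2_common {c : centralizer ({z} : Set G)} {o : Finset GolayPt} (ho : o ∈ Cset) (h8 : o.card = 8)
    (hc : π c = mk1 (eps o ho)) (hC : ∀ v x, R v x → sqNorm (v : GolayPt → ℤ) = 32 →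
      (eps o ho • v = v ∨ eps o ho • v = -v) → (c : G) * x = x * c) (hx : R v x)
    (hv : ∀ i, (4 : ℤ) ∣ (v : GolayPt → ℤ) i) : ∃ g, x ∈ cj g Q ∧ (c : G) ∈ cj g Q := by
  obtain ⟨u, hu⟩ := h.exR (e8 none)
  obtain ⟨g, rfl⟩ := isConj_iff.1 (h.isConj_of_type hu (sqNorm_e8 _)).1
  have h' := h.xe.conj g
  obtain ⟨r, hr, e⟩ := p2_lift h hu o ho
  obtain ⟨a, ha⟩ := h.exL _ ((h.ker (r⁻¹ * c)).1 (by rw [map_mul, map_inv, e, hc, inv_mul_cancel]))
  rw [coe_mul, coe_inv] at ha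
  have h1 : ∀ i j, i ≠ j → (i ∈ o ↔ j ∈ o) → ∀ b : ℤ, b = 1 ∨ b = -1 →
      4 ∣ (a : GolayPt → ℤ) i + b * (a : GolayPt → ℤ) j := fun i j hij hio b hb => by
    obtain ⟨w, w1, w2⟩ := exists_44 hij (Or.inl rfl) hb
    obtain ⟨y, hy⟩ := h.exR w
    have w3 : ∀ k, (w : GolayPt → ℤ) k = 4 * ((if i = k then 1 else 0) + b * if j = k then 1 else 0) := fun k => by
      have := w2 (Pi.single k 1)
      rwa [dot_comm, dot_single, mul_one, one_mul, Pi.single_apply, Pi.single_apply] at this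
    have w4 : eps o ho • w = w ∨ eps o ho • w = -w := by
      refine (em' (i ∈ o)).imp (fun n => eps_smul_of_disjoint ho fun k hk => ?_) fun n => Subtype.ext (funext fun k => ?_)
      · rw [w3, if_neg (by grind), if_neg (by grind)]; ring
      · rw [eps_apply, AddSubgroup.coe_neg, Pi.neg_apply]
        split_ifs with hk
        · rfl
        · rw [w3, if_neg (by grind), if_neg (by grind)]; ring
    have y1 := p2_el h g hu w y hy fun k => ⟨_, w3 k⟩
    have y2 : ⁅(r : G), y⁆ ∈ zpowers z := (h.dbl_iff (h.conj r _ e hy) hy).1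
      (w4.elim (fun e => e.symm ▸ Dbl.refl w) fun e => e.symm ▸ Dbl.neg_sub w)
    have y3 : Commute (r : G) y := commutatorElement_eq_one_iff_mul_comm.1
      ((h'.mem_Z.1 (h'.comm_mem hr y1)).resolve_right fun e =>
        (h.xe.mem_Z.1 (e ▸ y2)).elim h'.ne_one (p2_ne h hu))
    have y4 := (h.comm_iff ha hy).1 (y3.inv_left.mul_left (hC w y hy w1 w4)).eq
    rw [w2] at y4
    omega
  obtain ⟨i, hi, i', hi', hii⟩ := Finset.one_lt_card.1 (show 1 < o.card by omega)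
  obtain ⟨j, hj, j', hj', hjj⟩ := Finset.one_lt_card.1 (show 1 < oᶜ.card by rw [card_compl24]; omega)
  rw [Finset.mem_compl] at hj hj'
  have h2 : ∀ k, (a : GolayPt → ℤ) k % 4 = (a : GolayPt → ℤ) (if k ∈ o then i else j) % 4 := fun k => by
    by_cases e : k = if k ∈ o then i else j
    · rw [← e]
    · have := h1 _ _ e (by grind) _ (Or.inr rfl); omega
  have h3 := h1 _ _ hii (by grind) _ (Or.inl rfl)
  have h4 := h1 _ _ hii (by grind) _ (Or.inr rfl)
  have h5 := h1 _ _ hjj (by grind) _ (Or.inl rfl)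
  have h6 := h1 _ _ hjj (by grind) _ (Or.inr rfl)
  have hW : ∀ k, (lW : GolayPt → ℤ) k % 4 = 1 := by decide +kernel
  have h7 : ∀ {a' : leechLattice} {y}, R a' y → (∀ k, (a' : GolayPt → ℤ) k % 4 = (a : GolayPt → ℤ) j % 4) →
      y ∈ cj g Q := fun {a' y} hy ha' => by
    by_cases e : (a : GolayPt → ℤ) j % 4 = 0
    · exact p2_el h g hu _ y hy fun k => by have := ha' k; omega
    · refine p2_el h g hu (a' + (lW + lW)) y (h.congr hy ⟨lW, by abel⟩) fun k => ?_
      have := ha' k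
      have := hW k
      simp only [AddSubgroup.coe_add, Pi.add_apply]
      omega
  by_cases e1 : (a : GolayPt → ℤ) i % 4 = (a : GolayPt → ℤ) j % 4
  · refine ⟨g, p2_el h g hu v x hx hv, (mul_mem_cancel_left (inv_mem hr)).1 (h7 ha fun k => ?_)⟩
    rw [h2]; split_ifs <;> omega
  · obtain ⟨q, hq⟩ := h.exR lW
    have q1 : π ⟨q, h.xe.le (h.mem hq)⟩ = mk1 1 := by rw [map_one]; exact (h.ker _).2 (h.mem hq)
    have q2 := h.mul (h.mul (h.conj r⁻¹ (eps o ho) (by
      rw [map_inv, e, ← map_inv, inv_eq_of_mul_eq_one_right (eps_mul_self o ho)]) hq) ha) (h.inv hq)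
    have q3 := h7 q2 fun k => by
      have := h2 k
      have := hW k
      simp only [AddSubgroup.coe_add, AddSubgroup.coe_neg, Pi.add_apply, Pi.neg_apply, eps_apply]
      split_ifs at * <;> omega
    refine ⟨q⁻¹ * g, ?_, ?_⟩ <;> rw [cj_mul, mem_cj, inv_inv]
    · exact p2_el h g hu _ _ (h.conj _ 1 q1 hx) (by rwa [one_smul])
    · refine (mul_mem_cancel_left (inv_mem hr)).1 ?_
      convert q3 using 1
      simp [mul_assoc]

end

namespace GD

variable {z : G} {Q : Subgroup G} {π : centralizer ({z} : Set G) →* Co1} {R : leechLattice → G → Prop} {s s1 : G}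
  (h : GD z Q π R s s1) [Finite G]
include h

theorem el : EL z Q R := p2_el h.mt

theorem pq : PQ z R s s1 := fun v w x y hx hy hv hw => by
  have k : ∀ {w : leechLattice}, R w y → sqNorm (w : GolayPt → ℤ) = 32 → dotInt (v : GolayPt → ℤ) w = -16 →
      ∃ g ∈ centralizer ({z} : Set G), g * s * g⁻¹ = x ∧ g * s1 * g⁻¹ = y := fun {w} hy hw hd => by
    obtain ⟨k, k1, k2⟩ := pair_m16 hv hw hd
    obtain ⟨c, hc⟩ := h.mt.lift k⁻¹
    have c1 := h.mt.conj c _ hc h.hs
    have c2 := h.mt.conj c _ hc h.hs1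
    rw [← k1, inv_smul_smul] at c1
    rw [← k2, inv_smul_smul] at c2
    have n : sqNorm ((w + v : leechLattice) : GolayPt → ℤ) = 32 := by
      rw [AddSubgroup.coe_add, sqNorm_add, dot_comm, hd, hv, hw]; rfl
    obtain ⟨q, hq, q1, q2⟩ := p2_pair h.mt c1 c2 hx hy (not_dbl_of_short (by omega) (by omega))
      (not_dbl_of_short (by omega) (by omega)) (not_dbl_of_short (by omega) (by omega))
    exact ⟨q * c, mul_mem (h.mt.xe.le hq) c.2, by rw [← q1]; group, by rw [← q2]; group⟩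
  refine ⟨fun hd => ?_, fun hd => ?_⟩
  · rcases (abs_eq (by norm_num)).1 hd with e | e
    · exact k (h.mt.congr hy (Dbl.neg_sub w)) (by rw [AddSubgroup.coe_neg, sqNorm_neg, hw])
        (by rw [AddSubgroup.coe_neg, dot_neg_right, e])
    · exact k hy hw e
  obtain ⟨k, k1, k2⟩ := pair_orth hv hw hd
  have h1 := h.mt.mul hx hy
  obtain ⟨g, hg⟩ := isConj_iff.1 (h.mt.isConj_of_type h1 (by rw [AddSubgroup.coe_add, sqNorm_add, hd, hv, hw]; rfl)).1
  have h2 := mem_cj.1 (p2_el (h.mt.twist k) g (by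
    rwa [show e8 none = leechU + leechU' by decide +kernel, ← k1, ← k2, ← smul_add, inv_smul_smul, hg])
    leechU x (by rwa [← k1, inv_smul_smul]) (by decide +kernel))
  obtain ⟨u, u1, u2⟩ := h.short_of h2 (by simpa using isConj_conj (h.isT hx hv) g⁻¹)
  obtain ⟨c, hc, e⟩ := h.isT_cent u1 u2
  have h3 : g * c * s * (g * c)⁻¹ = x := by
    calc _ = g * (c * s * c⁻¹) * g⁻¹ := by group
      _ = _ := by rw [e]; group
  refine ⟨g * c, h3, ?_⟩
  calc _ = g * c * s * (g * c)⁻¹ * (g * (c * z * c⁻¹) * g⁻¹) := by group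
    _ = _ := by rw [h3, mem_cent_singleton.1 hc, mul_inv_cancel_right, hg, ← mul_assoc, h.tt (h.isT hx hv), one_mul]

theorem p2_in {t t' : G} (ht : IsConj s t) (ht' : IsConj s t') (hc : t * t' = t' * t) (hne : t ≠ t') (h1 : t ∈ Q)
    (h2 : t' ∈ Q) : Std z s s1 t t' := by
  obtain ⟨v, hv, v1⟩ := h.short_of h1 ht
  obtain ⟨w, hw, w1⟩ := h.short_of h2 ht'
  have k : Dbl (w - v) → Std z s s1 t t' := fun hd => by
    obtain ⟨c, hc, e⟩ := h.isT_cent hv v1
    refine Or.inr ⟨c, e, ?_⟩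
    rw [((h.mt.dbl_iff' hw hv).1 hd).resolve_left hne.symm, h.sz, ← mul_assoc, mem_cent_singleton.1 hc, ← e]
    group
  have h3 := (h.mt.comm_iff hv hw).1 hc
  obtain ⟨h4, h5⟩ := h.pq v w t t' hv hw v1 w1
  rcases dot_min_cases v1 w1 with e | e | e
  · exact k (e ▸ Dbl.refl w)
  · exact k (e ▸ Dbl.neg_sub v)
  simp only [Finset.mem_insert, Finset.mem_singleton] at e
  rcases e with e | e | e | e | e
  · obtain ⟨g, -, hg⟩ := h4 (by rw [e]; rfl); exact Or.inl ⟨g, hg⟩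
  · omega
  · exact Or.inr (h5 e)
  · omega
  · obtain ⟨g, -, hg⟩ := h4 (by rw [e]; rfl); exact Or.inl ⟨g, hg⟩

theorem p2_odd : Odd {u | InQ z Q u s}.ncard := by
  have h1 := p2_ncard_mod (Z := {u | InQ z Q u s}) (P := Q ⊓ centralizer {s}) (h.mt.xe.isPGroup.to_le inf_le_left)
    fun g hg u hu => by
      simpa only [Set.mem_ofPred_eq, mem_cent_singleton.1 hg.2, mul_inv_cancel_right] using inQ_conj g hu
  have h2 : {u | u ∈ {u | InQ z Q u s} ∧ ∀ g ∈ Q ⊓ centralizer {s}, g * u * g⁻¹ = u} = {z} := by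
    refine Set.eq_singleton_iff_unique_mem.2 ⟨⟨h.inQ_z.2 h.sQ, fun g hg => by
      rw [h.mt.xe.comm hg.1, mul_inv_cancel_right]⟩, ?_⟩
    rintro _ ⟨⟨g, rfl, -⟩, hu⟩
    have h3 := h.mt.xe.cent_inf_cent_le h.sQ ((pow_two s).trans h.ss) fun a ha => mul_inv_eq_iff_eq_mul.1 (hu a ha)
    have h4 : IsConj z (g * z * g⁻¹) := isConj_iff.2 ⟨g, rfl⟩
    rcases (mem_closure_pair_two h.mt.xe.mul_self h.ss h.sz.symm).1 h3 with e | e | e | e
    · exact absurd e (h.mt.xe.conj g).ne_one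
    · exact e
    · exact absurd (e ▸ h4) h.not_conj
    · exact absurd (h.sz ▸ e ▸ h4) (h.not_conj' h.T_sz)
  rw [h2, Set.ncard_singleton] at h1
  exact Nat.odd_iff.2 h1

theorem p2 (hT : TR z Q π R s) : P2 z s s1 := by
  have k : ∀ {t t' : G}, IsConj s t → IsConj s t' → t * t' = t' * t → t ≠ t' → ∀ g, t ∈ cj g Q → t' ∈ cj g Q →
      Std z s s1 t t' := fun ht ht' hc hne g h1 h2 => Std.of_conj g (h.p2_in (by simpa using isConj_conj ht g⁻¹)
    (by simpa using isConj_conj ht' g⁻¹) (p2_comm hc g) (by simpa using hne) (mem_cj.1 h1)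
    (mem_cj.1 h2))
  have k1 : ∀ {t t' : G}, IsConj s t → IsConj s t' → t * t' = t' * t → t ≠ t' → t ∈ Q →
      t' ∈ centralizer ({z} : Set G) → Std z s s1 t t' := fun {t t'} ht ht' hc hne h1 h2 => by
    by_cases h3 : t' ∈ Q
    · exact h.p2_in ht ht' hc hne h1 h3
    obtain ⟨κ, o, ho, h8, h4, h5⟩ := hT ⟨t', h2⟩ ht' h3
    obtain ⟨v, hv, v1⟩ := h.short_of h1 ht
    have h6 := h.mt.conj _ _ h4 hv
    rw [show t' * t = t * t' from hc.symm, mul_inv_cancel_right] at h6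
    have h7 := ((h.mt.dbl_iff' h6 hv).2 (Or.inl rfl)).pm_of_lt (by rw [sqNorm_smul]; omega) (by omega)
    obtain ⟨k', o', ho', h8', e, h9⟩ := p2_frame ho h8 (v := κ⁻¹ • v) (by rwa [sqNorm_smul]) (by
      simpa only [mul_smul, smul_eq_iff_eq_inv_smul κ, smul_neg] using h7)
    obtain ⟨g, g1, g2⟩ := p2_common (h.mt.twist (k' * κ⁻¹)) (c := ⟨t', h2⟩) ho' h8' (by
        rw [MonoidHom.comp_apply, h4, ← e]; simp [mul_assoc])
      (fun w x hx w1 w2 => h5 (k'⁻¹ • w) x (by simpa only [mul_inv_rev, inv_inv, mul_smul] using hx)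
        (by rwa [sqNorm_smul]) (by
          simpa only [← e, mul_smul, smul_eq_iff_eq_inv_smul k', smul_neg] using w2))
      (v := (k' * κ⁻¹) • v) (x := t) (by rwa [inv_smul_smul]) (by rwa [mul_smul])
    exact k ht ht' hc hne g g1 g2
  have k2 : ∀ t', IsConj s t' → s * t' = t' * s → s ≠ t' → Std z s s1 s t' := fun t' ht' hc hne => by
    have h1 := p2_ncard_mod (Z := {u | InQ z Q u s}) (P := zpowers t') (IsPGroup.of_card (n := 1) (by
      rw [Nat.card_zpowers, h.ord ht', pow_one])) fun g hg u hu => by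
        have h2 : g * s = s * g := mem_cent_singleton.1 (zpowers_le.2 (mem_cent_singleton.2 hc.symm) hg)
        simpa only [Set.mem_ofPred_eq, h2, mul_inv_cancel_right] using inQ_conj g hu
    obtain ⟨_, ⟨⟨g, rfl, h2⟩, h3⟩⟩ := Set.nonempty_of_ncard_ne_zero
      (Odd.pos (Nat.odd_iff.2 (Eq.trans h1.symm (Nat.odd_iff.1 h.p2_odd)))).ne'
    refine Std.of_conj g (k1 (by simpa using isConj_conj (IsConj.refl s) g⁻¹) (by simpa using isConj_conj ht' g⁻¹)
      (p2_comm hc g) (by simpa using hne) (mem_cj.1 h2) (mem_cent_singleton.2 ?_))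
    calc _ = g⁻¹ * (t' * (g * z * g⁻¹) * t'⁻¹) * t' * g := by group
      _ = _ := by rw [h3 t' (mem_zpowers t')]; group
  intro t t' ht ht' hc hne
  obtain ⟨g, rfl⟩ := isConj_iff.1 ht
  simpa [mul_assoc] using (k2 (g⁻¹ * t' * g) (by simpa using isConj_conj ht' g⁻¹) (by
    calc _ = g⁻¹ * (g * s * g⁻¹ * t') * g := by group
      _ = _ := by rw [hc]; group) fun e => hne (by rw [e]; group)).conj g

end GD

end CL.Mj
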