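/-
Standard subgroups `4.L_3(4)`: the outer automorphism group of `L_3(4)`.
-/
import Cfsg.Agent.Spor.ONTDat
import Mathlib.GroupTheory.SpecificGroups.Dihedral

set_option autoImplicit false

namespace CL.ONT
open CL.PG Subgroup DihedralGroup

/-- The facts of `DL`, and the map onto the outer automorphism group. -/
structure DX (Γ A U : Type) [Group Γ] [Group A] [Group U] extends DL Γ A U where
  lam : Γ →* DihedralGroup 6
  (δ φ' : Γ)
  (p q : A)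
  lker : ∀ γ, lam γ = 1 ↔ γ ∈ L
  ld : lam (θ d) = r 3
  lφ : lam φ = sr 0
  lδ : lam δ = r 4
  lφ' : lam φ' = sr 0
  pM : p ∈ M
  qM : q ∈ M
  δj : δ * θ j * δ⁻¹ = θ p
  δv : δ * θ v * δ⁻¹ = θ q
  pq : p * q ≠ q * p
  v4 : v ^ 4 = 1
  φj : φ' * θ j = θ j * φ'
  dj : θ (a * d) * θ j = θ j * θ (a * d)
  lJ : ∀ z, z * θ j = θ j * z → lam z = 1 ∨ lam z = r 3 ∨ lam z = sr 0 ∨ lam z = sr 3
  VV : L ⊓ centralizer {θ j} ≤ closure {θ j, θ v}
  nd : θ (a * d) * θ v ^ 2 ≠ θ v ^ 2 * θ (a * d)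
  nφ : φ' * θ v ^ 2 ≠ θ v ^ 2 * φ'
  ndφ : θ (a * d) * φ' * θ v ≠ θ v * (θ (a * d) * φ')

namespace DX
variable {Γ A U : Type} [Group Γ] [Group A] [Group U] (D : DX Γ A U)

theorem θL {x : A} (hx : x ∈ D.M) : D.θ x ∈ D.L := D.mapM ▸ mem_map_of_mem _ hx

theorem vM : D.v ∈ D.M := D.rangeψ ▸ ⟨_, D.ψv⟩

theorem lad : D.lam (D.θ (D.a * D.d)) = r 3 := by
  rw [map_mul, map_mul, (D.lker _).2 (D.θL D.toDA.aM), one_mul, D.ld]

theorem cjv : Commute (D.θ D.j) (D.θ D.v) := by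
  show _ * _ = _ * _
  rw [← map_mul, D.jv, map_mul]

theorem j4 : orderOf (D.θ D.j) = 4 := orderOf_four (by
  rw [show 4 = 2 * 2 from rfl, pow_mul, pow_two (D.θ D.j), ← map_mul, D.jj, pow_two, ← map_mul, D.aa, map_one])
  (by rw [pow_two]; exact D.sqj)

theorem form {x : Γ} (hL : x ∈ D.L) (hx : x * D.θ D.j = D.θ D.j * x) :
    ∃ z ∈ zpowers (D.θ D.j), ∃ b : ℕ, b < 4 ∧ x = z * D.θ D.v ^ b := by
  have := D.toDL.finΓ
  obtain ⟨m, n, rfl⟩ : ∃ m n : ℤ, D.θ D.j ^ m * D.θ D.v ^ n = x := by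
    have h := D.VV ⟨hL, mem_centralizer_singleton_iff.2 hx⟩
    clear hL hx
    induction h using closure_induction with
    | mem x hx => rcases hx with rfl | rfl; exacts [⟨1, 0, by simp⟩, ⟨0, 1, by simp⟩]
    | one => exact ⟨0, 0, by simp⟩
    | mul x y _ _ hx hy =>
      obtain ⟨m, n, rfl⟩ := hx
      obtain ⟨m', n', rfl⟩ := hy
      exact ⟨m + m', n + n', by rw [zpow_add, zpow_add, (D.cjv.zpow_zpow m' n).mul_mul_mul_comm]⟩
    | inv x _ hx =>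
      obtain ⟨m, n, rfl⟩ := hx
      exact ⟨-m, -n, by rw [zpow_neg, zpow_neg, (D.cjv.zpow_zpow m n).mul_inv]⟩
  have h4 : D.θ D.v ^ (4 : ℤ) = 1 := by
    have := congrArg D.θ D.v4
    rw [map_pow, map_one] at this
    exact_mod_cast this
  refine ⟨_, ⟨m, rfl⟩, (n % 4).toNat, by omega, ?_⟩
  rw [← zpow_natCast, Int.toNat_of_nonneg (by omega), ← zpow_mod_orderOf]
  congr 1
  rw [zpow_mod_orderOf]
  conv_lhs => rw [← Int.mul_ediv_add_emod n 4, zpow_add, zpow_mul, h4, one_zpow, one_mul]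

theorem cv {x : Γ} (hL : x ∈ D.L) (hx : x * D.θ D.j = D.θ D.j * x) : Commute x (D.θ D.v) := by
  obtain ⟨_, ⟨m, rfl⟩, b, -, rfl⟩ := D.form hL hx
  exact (D.cjv.zpow_left m).mul_left ((Commute.refl _).pow_left b)

theorem strip {z y : Γ} (hz : z * D.θ D.j = D.θ D.j * z) (hy : y * D.θ D.j = D.θ D.j * y) (e : D.lam z = D.lam y)
    {n : ℕ} (h : z * D.θ D.v ^ n = D.θ D.v ^ n * z) : y * D.θ D.v ^ n = D.θ D.v ^ n * y := by
  have h1 : Commute (y * z⁻¹) (D.θ D.v) := D.cv ((D.lker _).1 (by rw [map_mul, map_inv, e, mul_inv_cancel]))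
    (Commute.mul_left hy (Commute.inv_left hz))
  simpa using ((h1.pow_right n).mul_left h).eq

theorem cm1 {z : Γ} (hz : z * D.θ D.j = D.θ D.j * z) (h : z * D.θ D.v ^ 2 = D.θ D.v ^ 2 * z) :
    D.lam z = 1 ∨ D.lam z = sr 3 := by
  rcases D.lJ z hz with e | e | e | e
  · exact Or.inl e
  · exact absurd (D.strip hz D.dj (e.trans D.lad.symm) h) D.nd
  · exact absurd (D.strip hz D.φj (e.trans D.lφ'.symm) h) D.nφ
  · exact Or.inr e

theorem cm2 {z : Γ} (hz : z * D.θ D.j = D.θ D.j * z) (h : z * D.θ D.v = D.θ D.v * z) : D.lam z = 1 :=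
  (D.cm1 hz (Commute.pow_right h 2)).resolve_right fun e => D.ndφ (by
    simpa only [pow_one] using D.strip (n := 1) hz (Commute.mul_left D.dj D.φj)
      (by rw [map_mul, D.lad, D.lφ', e]; decide) (by simpa only [pow_one] using h))

theorem v4' : D.θ D.v ^ 4 = 1 := by rw [← map_pow, D.v4, map_one]

theorem cm3 {s z : Γ} (hL : s ∈ D.L) (hs : s * D.θ D.j = D.θ D.j * s) (hz : z * D.θ D.j = D.θ D.j * z)
    (h : z * s = s * z) : (s ∉ zpowers (D.θ D.j) → z * D.θ D.v ^ 2 = D.θ D.v ^ 2 * z) ∧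
      (s * s ∉ zpowers (D.θ D.j) → z * D.θ D.v = D.θ D.v * z) := by
  obtain ⟨_, ⟨m, rfl⟩, b, hb, rfl⟩ := D.form hL hs
  have h1 : Commute z (D.θ D.v ^ b) := by
    simpa using (Commute.zpow_right hz m).inv_right.mul_right h
  have h2 : Commute z (D.θ D.v ^ 3) → Commute z (D.θ D.v) := fun h => by
    have := h.pow_right 3
    rwa [← pow_mul, show 3 * 3 = 4 * 2 + 1 from rfl, pow_succ, pow_mul, D.v4', one_pow, one_mul] at this
  have h3 : ∀ k : ℕ, D.θ D.j ^ m * D.θ D.v ^ (2 * k) * (D.θ D.j ^ m * D.θ D.v ^ (2 * k)) ∈ zpowers (D.θ D.j) :=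
    fun k => by
      rw [← ((D.cjv.zpow_left m).pow_right _).mul_mul_mul_comm, ← pow_add, ← two_mul, ← mul_assoc,
        show 2 * 2 = 4 from rfl, pow_mul, D.v4', one_pow, mul_one]
      exact mul_mem ⟨m, rfl⟩ ⟨m, rfl⟩
  interval_cases b
  · exact ⟨fun hc => absurd (by simp) hc, fun hc => absurd (h3 0) hc⟩
  · rw [pow_one] at h1
    exact ⟨fun _ => h1.pow_right 2, fun _ => h1⟩
  · exact ⟨fun _ => h1, fun hc => absurd (h3 1) hc⟩
  · exact ⟨fun _ => (h2 h1).pow_right 2, fun _ => h2 h1⟩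

theorem v2 : D.θ D.v ^ 2 ∉ zpowers (D.θ D.j) := fun h => D.nd (comm_of_zpowers h D.dj)

end DX

end CL.ONT
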