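/-
A standard permutation model (PSL, dimension 3, field with 4 elements): degree 21, order 20160.
Generated by tools/pg.
-/
import Cfsg.Agent.Spor.PGCls
import Cfsg.Agent.Spor.PGCtx

set_option autoImplicit false
set_option maxRecDepth 200000
set_option Elab.async false
set_option linter.unusedVariables false

namespace CL.Std.L34.M
open CL.PG

def P : Par := ⟨63, 64, 6, 3⟩
theorem hP : P.Ok := by decide
noncomputable def a0 : Net := (.cons 32 (nat_lit 0x619e619e)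
 (.cons 16 (nat_lit 0x2ad500002ad5)
 .nil))
noncomputable def a1 : Net := (.cons 32 (nat_lit 0x70787878)
 (.cons 16 (nat_lit 0x7087000007f0)
 (.cons 8 (nat_lit 0x700f8000700f8)
 (.cons 4 (nat_lit 0x700000f080f0f00)
 (.cons 16 (nat_lit 0x8000000080)
 (.cons 32 (nat_lit 0x77ff8000)
 .nil))))))
noncomputable def a2 : Net := (.cons 32 (nat_lit 0x80000000)
 (.cons 16 (nat_lit 0x800000008000)
 (.cons 8 (nat_lit 0x23006800680023)
 (.cons 4 (nat_lit 0x404040404040404)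
 (.cons 2 (nat_lit 0x3101023232020131)
 (.cons 1 (nat_lit 0x5401540101540154)
 (.cons 2 (nat_lit 0x202020202020202)
 (.cons 4 (nat_lit 0x404040404040404)
 (.cons 8 (nat_lit 0x68006800680068)
 (.cons 16 (nat_lit 0x800000008000)
 (.cons 32 (nat_lit 0x80000000)
 .nil)))))))))))
noncomputable def a3 : Net := (.cons 32 (nat_lit 0xe19e619e)
 (.cons 16 (nat_lit 0xaad50000aad5)
 (.cons 8 (nat_lit 0x2a002a00d500d5)
 (.cons 4 (nat_lit 0x4040b0b04040b0b)
 (.cons 2 (nat_lit 0x3300003300333300)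
 (.cons 1 (nat_lit 0x5005055050050550)
 (.cons 4 (nat_lit 0x808080808080808)
 (.cons 8 (nat_lit 0x80008000800080)
 (.cons 16 (nat_lit 0x800000008000)
 (.cons 32 (nat_lit 0x80000000)
 .nil))))))))))
noncomputable def a4 : Net := (.cons 32 (nat_lit 0xccb34cb3)
 (.cons 16 (nat_lit 0x9e1e00009e1e)
 (.cons 8 (nat_lit 0x9b006400ce0031)
 (.cons 4 (nat_lit 0x20202020d0d0d0d)
 (.cons 2 (nat_lit 0x1023102310231023)
 (.cons 1 (nat_lit 0x5050505050505050)
 (.cons 4 (nat_lit 0xe0e0e0e0e0e0e0e)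
 (.cons 8 (nat_lit 0x58005800580058)
 (.cons 16 (nat_lit 0x800000008000)
 (.cons 32 (nat_lit 0x80000000)
 .nil))))))))))
noncomputable def a5 : Net := (.cons 32 (nat_lit 0x780787e8)
 (.cons 16 (nat_lit 0xff800000ff80)
 (.cons 8 (nat_lit 0x7f0080007f0080)
 (.cons 4 (nat_lit 0x708080208070702)
 (.cons 2 (nat_lit 0x3003301203300312)
 (.cons 1 (nat_lit 0x551555550040)
 (.cons 4 (nat_lit 0x808080208080802)
 (.cons 8 (nat_lit 0x80008000800080)
 (.cons 16 (nat_lit 0xff800000ff80)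
 (.cons 32 (nat_lit 0x78787838)
 .nil))))))))))
noncomputable def a6 : Net := (.cons 32 (nat_lit 0x87f807f8)
 (.cons 16 (nat_lit 0xff800000ff80)
 (.cons 8 (nat_lit 0x6f007b00a00000)
 (.cons 4 (nat_lit 0x6060c0c05050000)
 (.cons 2 (nat_lit 0x3333000033330000)
 (.cons 1 (nat_lit 0x5555555500000000)
 (.cons 16 (nat_lit 0x800000008000)
 (.cons 32 (nat_lit 0x80000000)
 .nil))))))))
noncomputable def a7 : Net := (.cons 32 (nat_lit 0x80000000)
 (.cons 16 (nat_lit 0x800000008000)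
 (.cons 8 (nat_lit 0x84008200810000)
 (.cons 4 (nat_lit 0xc0c0a0a09090000)
 (.cons 2 (nat_lit 0x333333330000)
 (.cons 1 (nat_lit 0x5555000055550000)
 (.cons 16 (nat_lit 0x800000008000)
 (.cons 32 (nat_lit 0x80000000)
 .nil))))))))
noncomputable def a8 : Net := (.cons 32 (nat_lit 0x80000000)
 (.cons 16 (nat_lit 0x800000008000)
 (.cons 8 (nat_lit 0x7d0090003f0000)
 (.cons 4 (nat_lit 0xa0a060603030000)
 (.cons 2 (nat_lit 0x3333333300000000)
 (.cons 1 (nat_lit 0x555555550000)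
 (.cons 16 (nat_lit 0x800000008000)
 (.cons 32 (nat_lit 0x80000000)
 .nil))))))))
noncomputable def a9 : Net := (.cons 32 (nat_lit 0x80000000)
 (.cons 16 (nat_lit 0x800000008000)
 (.cons 8 (nat_lit 0x7b00a0006f0000)
 (.cons 4 (nat_lit 0xc0c050506060000)
 (.cons 2 (nat_lit 0x333333330000)
 (.cons 1 (nat_lit 0x5555000055550000)
 (.cons 16 (nat_lit 0x800000008000)
 (.cons 32 (nat_lit 0x80000000)
 .nil))))))))
noncomputable def a10 : Net := (.cons 32 (nat_lit 0x80000000)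
 (.cons 16 (nat_lit 0x800000008000)
 (.cons 8 (nat_lit 0x6f007b00a00000)
 (.cons 4 (nat_lit 0x6060c0c05050000)
 (.cons 2 (nat_lit 0x3333000033330000)
 (.cons 1 (nat_lit 0x5555555500000000)
 (.cons 16 (nat_lit 0x800000008000)
 (.cons 32 (nat_lit 0x80000000)
 .nil))))))))
noncomputable def a11 : Net := (.cons 32 (nat_lit 0x8000)
 (.cons 16 (nat_lit 0x7fff00008000)
 (.cons 8 (nat_lit 0x8000800080008)
 (.cons 4 (nat_lit 0x708070807080708)
 (.cons 2 (nat_lit 0x1111111111111111)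
 (.cons 1 (nat_lit 0x1111111111111111)
 (.cons 8 (nat_lit 0x70007000700070)
 (.cons 32 (nat_lit 0x7fff0000)
 .nil))))))))
noncomputable def ns0 : List Net := [a0, a1, a2]
noncomputable def ws : List (List ℕ) :=
  [W (nat_lit 0x3004040040301801),
  W (nat_lit 0x1804008060180101804),
  W (nat_lit 0x24080200a01c0a01c07),
  W (nat_lit 0x702807),
  W (nat_lit 0xe0380e0380b02c0e),
  W (nat_lit 0xd0340b02c0e0300e),
  W (nat_lit 0xc0300d0300e),
  W (nat_lit 0x300d0300e0300e0380c0300d),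
  W (nat_lit 0x3c110380f01c0b03409)]
noncomputable def ns : List Net := [a0, a1, a2, a3, a4, a5, a6, a7, a8, a9, a10, a11]
noncomputable def D : List (ℕ × List ℕ) := app [] (mkDefs ws 3)
noncomputable def chk : List (List ℕ × List ℕ) → Bool := P.relsB ns
noncomputable def V : List ℕ :=
  [(nat_lit 0x4444444444444444222222222222222211111111111111110888888888888888),
  (nat_lit 0x7800780078007800078007800780078000780078007800780007800780078007),
  (nat_lit 0x7fff80000000000000007fff80000000000000007fff80000000000000007fff)]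
noncomputable def ms : List (List (List ℕ) × List (List ℕ)) :=
  [([[1, 0, 0], [0, 1, 0], [1, 2, 1]],
   [[1, 0, 0], [0, 1, 0], [1, 2, 1]]),
  ([[1, 0, 0], [0, 3, 2], [0, 2, 3]],
   [[1, 0, 0], [0, 3, 2], [0, 2, 3]]),
  ([[3, 3, 2], [1, 3, 1], [0, 0, 1]],
   [[3, 3, 2], [1, 3, 1], [0, 0, 1]])]
noncomputable def G_v0 : Lev :=
  ⟨0, 63, sg (W (nat_lit 0x1c070240702407024070240702407)), [[10], [12]], 2, 2⟩
noncomputable def G_v1 : Lev :=
  ⟨3, 60, sg (W (nat_lit 0xb0340b0340b0340b0340b0340b)), [[14], [16], [18], [20]], 4, 4⟩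
noncomputable def G_v2 : Lev :=
  ⟨15, 16, sg (W (nat_lit 0x54130440f)), [], 8, 0⟩
noncomputable def G_vs3 : List Lev :=
  []
noncomputable def G_vs2 : List Lev :=
  G_v2 :: G_vs3
noncomputable def G_vs1 : List Lev :=
  G_v1 :: G_vs2
noncomputable def G_vs : List Lev :=
  G_v0 :: G_vs1
noncomputable def Z_v0 : Lev :=
  ⟨0, 3, sg (W (nat_lit 0x5c17)), [], 9, 0⟩
noncomputable def Z_vs1 : List Lev :=
  []
noncomputable def Z_vs : List Lev :=
  Z_v0 :: Z_vs1

theorem zv0 : vecB t4.q 2 3 P V = true := by decide +kernel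
theorem zv1 : Nat.beq (lenL ms) (lenL ns0) = true := by decide +kernel
theorem zv2 : allL (t4.actB 2 3 P V) (zp Net.nil ms ns0) = true := by decide +kernel
theorem zv3 : t4.basB 3 P V [0, 3, 15] [[1, 0, 0], [0, 1, 0], [0, 0, 1]] = true := by decide +kernel
theorem zv4 : allL (t4.detB 3 1) ms = true := by decide +kernel
theorem zc5 : P.chainB ns D G_vs [[6], [8]] = true := by decide +kernel
theorem zc6 : P.chainB ns D Z_vs [[22]] = true := by decide +kernel
theorem zr7 : chk (comR [[22]] [[6], [8]]) = true := by decide +kernel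
theorem zm8 : leB D [[22]] [[6], [8]] = true := by decide +kernel
theorem zk9 : allL (keepB P.n P.N) ns0 = true := by decide +kernel
theorem ze10 : extB ns0 ns 3 ws [] = true := by decide +kernel
theorem zn11 : P.netsB ns (mkDefs ws 3) = true := by decide +kernel

section
variable {G X : Type*} [Group G] [MulAction G X] {e : ℕ → X} {gs : List G}

theorem keep0 : allL (keepB P.n P.N) ns0 = true := zk9

theorem len {k} (c : Ctx P e gs ns0 [] k) : gs.length = 3 := c.len ze10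

theorem ctx0 {k} (c : Ctx P e gs ns0 [] k) : Ctx P e (ext gs ws) ns D chk0 :=
  c.ext rfl ze10 zn11

theorem ctx {k} (c : Ctx P e gs ns0 [] k) {H : Subgroup G} (hF : Faithful e P.n H) (hH : ∀ g ∈ gs, g ∈ H) :
    Ctx P e (ext gs ws) ns D chk :=
  (ctx0 c).withB hF (mem_of_mem_ext hH _)

theorem hV : vecB t4.q 2 3 P V = true := zv0
theorem hact : allL (t4.actB 2 3 P V) (zp Net.nil ms ns0) = true := zv2
theorem hinv : allL (t4.invB 3) ms = true := actB_invB hact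
theorem base {F : Type*} [Field F] {el : ℕ → F} (h : FC t4 el) : Ctx P (vecOf el (Fin.val : Fin 3 → ℕ) t4.q P.N V) (List.map (glF el (Fin.val : Fin 3 → ℕ)) ms) ns0 [] chk0 :=
  ctx_mat h (ix_fin 3) hP hV zv1 hact
theorem faith {F : Type*} [Field F] {el : ℕ → F} (h : FC t4 el) : Faithful (vecOf el (Fin.val : Fin 3 → ℕ) t4.q P.N V) P.n (⊤ : Subgroup (GL (Fin 3) F)) :=
  faithful_vecOf h (ix_fin 3) hP hV zv3
theorem c1 {F : Type*} [Field F] {el : ℕ → F} (h : FC t4 el) : Ctx P (vecOf el (Fin.val : Fin 3 → ℕ) t4.q P.N V) (ext (List.map (glF el (Fin.val : Fin 3 → ℕ)) ms) ws) ns D chk :=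
  ctx (base h) (faith h) fun _ _ => trivial

theorem G_c : P.chainB ns D G_vs [[6], [8]] = true :=
  zc5

theorem G_o : prodL G_vs 1 = 60480 := by decide +kernel

theorem G_lb (c : Ctx P e gs ns D chk) :
    LB (subW gs [[6], [8]]) 60480 :=
  c.lb G_c G_o

theorem Z_c : P.chainB ns D Z_vs [[22]] = true :=
  zc6

theorem Z_o : prodL Z_vs 1 = 3 := by decide +kernel

theorem Z_lb (c : Ctx P e gs ns D chk) :
    LB (subW gs [[22]]) 3 :=
  c.lb Z_c Z_o

theorem hZ (c : Ctx P e gs ns D chk) :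
    (subW gs [[22]]) ≤ (subW gs [[6], [8]]) ∧ Rels gs (comR [[22]] [[6], [8]]) :=
  ⟨(c.le zm8), (c.rels _ zr7)⟩

end
end CL.Std.L34.M

namespace CL.Std.L34
open CL.PG

def P : Par := ⟨21, 24, 5, 3⟩
theorem hP : P.Ok := by decide
noncomputable def a0 : Net := (.cons 12 (nat_lit 0xab5)
 (.cons 6 (nat_lit 0x2f024)
 (.cons 3 (nat_lit 0x140081)
 (.cons 1 (nat_lit 0x208040)
 (.cons 1 (nat_lit 0x412480)
 (.cons 1 (nat_lit 0x248040)
 (.cons 3 (nat_lit 0x104000)
 (.cons 6 (nat_lit 0xe034)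
 (.cons 12 (nat_lit 0xa42)
 .nil)))))))))
noncomputable def a1 : Net := (.cons 12 (nat_lit 0xf6a)
 (.cons 6 (nat_lit 0x2c006)
 (.cons 3 (nat_lit 0x182003)
 (.cons 1 (nat_lit 0x200040)
 (.cons 1 (nat_lit 0x402080)
 (.cons 1 (nat_lit 0x240001)
 (.cons 3 (nat_lit 0x100002)
 (.cons 6 (nat_lit 0x4006)
 (.cons 12 (nat_lit 0xf4a)
 .nil)))))))))
noncomputable def a2 : Net := (.cons 12 (nat_lit 0x274)
 (.cons 6 (nat_lit 0x27010)
 (.cons 3 (nat_lit 0x1c3102)
 (.cons 1 (nat_lit 0x240008)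
 (.cons 1 (nat_lit 0x480090)
 (.cons 1 (nat_lit 0x48040)
 (.cons 3 (nat_lit 0x82104)
 (.cons 6 (nat_lit 0x22022)
 (.cons 12 (nat_lit 0x32c)
 .nil)))))))))
noncomputable def a3 : Net := (.cons 12 (nat_lit 0x16)
 (.cons 6 (nat_lit 0x3701e)
 (.cons 3 (nat_lit 0x83186)
 (.cons 1 (nat_lit 0x40200)
 (.cons 1 (nat_lit 0x480482)
 (.cons 1 (nat_lit 0x8248)
 (.cons 3 (nat_lit 0x2106)
 (.cons 6 (nat_lit 0x30002)
 (.cons 12 (nat_lit 0x100)
 .nil)))))))))
noncomputable def a4 : Net := (.cons 12 (nat_lit 0xe00)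
 (.cons 6 (nat_lit 0x26020)
 (.cons 3 (nat_lit 0x42104)
 (.cons 1 (nat_lit 0x248000)
 (.cons 1 (nat_lit 0x492090)
 (.cons 1 (nat_lit 0x1048)
 (.cons 3 (nat_lit 0x2104)
 (.cons 6 (nat_lit 0xc020)
 (.cons 12 (nat_lit 0xe00)
 .nil)))))))))
noncomputable def a5 : Net := (.cons 12 (nat_lit 0xa00)
 (.cons 6 (nat_lit 0x26020)
 (.cons 3 (nat_lit 0x5104)
 (.cons 1 (nat_lit 0x241000)
 (.cons 1 (nat_lit 0x492090)
 (.cons 1 (nat_lit 0x241008)
 (.cons 3 (nat_lit 0x2004)
 (.cons 6 (nat_lit 0xc020)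
 (.cons 12 (nat_lit 0xbe0)
 .nil)))))))))
noncomputable def a6 : Net := (.cons 12 (nat_lit 0xfe0)
 (.cons 6 (nat_lit 0x26020)
 (.cons 3 (nat_lit 0xc5104)
 (.cons 1 (nat_lit 0x8000)
 (.cons 1 (nat_lit 0x10090)
 (.cons 1 (nat_lit 0x249008)
 (.cons 3 (nat_lit 0x2004)
 (.cons 6 (nat_lit 0xc020)
 (.cons 12 (nat_lit 0xe00)
 .nil)))))))))
noncomputable def a7 : Net := (.cons 12 (nat_lit 0x200)
 (.cons 6 (nat_lit 0xc030)
 (.cons 3 (nat_lit 0x107100)
 (.cons 1 (nat_lit 0x200000)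
 (.cons 1 (nat_lit 0x400010)
 (.cons 1 (nat_lit 0x240040)
 (.cons 3 (nat_lit 0x100000)
 (.cons 6 (nat_lit 0xc030)
 (.cons 12 (nat_lit 0x200)
 .nil)))))))))
noncomputable def a8 : Net := (.cons 12 (nat_lit 0x110)
 (.cons 6 (nat_lit 0xd00c)
 (.cons 3 (nat_lit 0x82082)
 (.cons 1 (nat_lit 0x41008)
 (.cons 1 (nat_lit 0x92412)
 (.cons 1 (nat_lit 0x241048)
 (.cons 3 (nat_lit 0x82082)
 (.cons 6 (nat_lit 0x800c)
 (.cons 12 (nat_lit 0x110)
 .nil)))))))))
noncomputable def a9 : Net := (.cons 12 (nat_lit 0x170)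
 (.cons 6 (nat_lit 0xb010)
 (.cons 3 (nat_lit 0x1041c0)
 (.cons 1 (nat_lit 0x200000)
 (.cons 1 (nat_lit 0x400010)
 (.cons 1 (nat_lit 0x241000)
 (.cons 3 (nat_lit 0x100000)
 (.cons 6 (nat_lit 0x8010)
 (.cons 12 (nat_lit 0x170)
 .nil)))))))))
noncomputable def a10 : Net := (.cons 12 (nat_lit 0xfe0)
 (.cons 6 (nat_lit 0xc000)
 (.cons 3 (nat_lit 0x83000)
 (.cons 1 (nat_lit 0x200000)
 (.cons 1 (nat_lit 0x480000)
 (.cons 1 (nat_lit 0x209000)
 (.cons 3 (nat_lit 0x80000)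
 (.cons 6 (nat_lit 0xc000)
 (.cons 12 (nat_lit 0xe00)
 .nil)))))))))
noncomputable def ns0 : List Net := [a0, a1]
noncomputable def ws : List (List ℕ) :=
  [W (nat_lit 0x100200c0300404),
  W (nat_lit 0x40040300401),
  W (nat_lit 0x1c0701808),
  W (nat_lit 0x180701408),
  W (nat_lit 0x180801405),
  W (nat_lit 0xc0380a),
  W (nat_lit 0xd0340b),
  W (nat_lit 0x3009),
  W (nat_lit 0xb0340b)]
noncomputable def ns : List Net := [a0, a1, a2, a3, a4, a5, a6, a7, a8, a9, a10]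
noncomputable def D : List (ℕ × List ℕ) := app [] (mkDefs ws 2)
noncomputable def chk : List (List ℕ × List ℕ) → Bool := P.relsB ns
noncomputable def G_v0 : Lev :=
  ⟨0, 21, sg (W (nat_lit 0xc010040100c0100c01)), [[4], [6]], 0, 2⟩
noncomputable def G_v1 : Lev :=
  ⟨1, 20, sg (W (nat_lit 0x14070140701c0501c05)), [[8], [10], [12]], 2, 3⟩
noncomputable def G_v2 : Lev :=
  ⟨2, 3, sg (W (nat_lit 0x2409)), [[14], [16], [18], [20]], 5, 4⟩
noncomputable def G_v3 : Lev :=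
  ⟨5, 16, sg (W (nat_lit 0x54130440f)), [], 9, 0⟩
noncomputable def G_vs4 : List Lev :=
  []
noncomputable def G_vs3 : List Lev :=
  G_v3 :: G_vs4
noncomputable def G_vs2 : List Lev :=
  G_v2 :: G_vs3
noncomputable def G_vs1 : List Lev :=
  G_v1 :: G_vs2
noncomputable def G_vs : List Lev :=
  G_v0 :: G_vs1
noncomputable def zE1 : Net :=
  (.cons 32 (nat_lit 0x8d668426)
 (.cons 16 (nat_lit 0x73d40000220a)
 (.cons 8 (nat_lit 0x9f001e00d00048)
 (.cons 4 (nat_lit 0xf03020b06010b04)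
 (.cons 2 (nat_lit 0x113211010113010)
 (.cons 1 (nat_lit 0x4110400414010414)
 (.cons 2 (nat_lit 0x2000000220020200)
 (.cons 4 (nat_lit 0x40004060400020e)
 (.cons 8 (nat_lit 0xac003200880038)
 (.cons 16 (nat_lit 0x8884000035ea)
 (.cons 32 (nat_lit 0x902359a8)
 .nil)))))))))))
noncomputable def zK2 : Lk :=
  ⟨zE1, 3, 3, 1⟩

theorem zc0 : P.chainB ns D G_vs [[0], [2]] = true := by decide +kernel
theorem zl3 : zK2.relB CL.Std.L34.M.P CL.Std.L34.P CL.Std.L34.M.ns [[6], [8], [22]] [[0], [2]] = true := by decide +kernel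
theorem zl4 : allL (zK2.pl CL.Std.L34.M.P CL.Std.L34.P CL.Std.L34.M.ns CL.Std.L34.ns 0) (zp [] [[6], [8], [22]] [[0], [2]]) = true := by decide +kernel
theorem zk5 : allL (keepB P.n P.N) ns0 = true := by decide +kernel
theorem ze6 : extB ns0 ns 2 ws [] = true := by decide +kernel
theorem zn7 : P.netsB ns (mkDefs ws 2) = true := by decide +kernel

section
variable {G X : Type*} [Group G] [MulAction G X] {e : ℕ → X} {gs : List G}

theorem keep0 : allL (keepB P.n P.N) ns0 = true := zk5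

theorem len {k} (c : Ctx P e gs ns0 [] k) : gs.length = 2 := c.len ze6

theorem ctx0 {k} (c : Ctx P e gs ns0 [] k) : Ctx P e (ext gs ws) ns D chk0 :=
  c.ext rfl ze6 zn7

theorem ctx {k} (c : Ctx P e gs ns0 [] k) {H : Subgroup G} (hF : Faithful e P.n H) (hH : ∀ g ∈ gs, g ∈ H) :
    Ctx P e (ext gs ws) ns D chk :=
  (ctx0 c).withB hF (mem_of_mem_ext hH _)

instance instNe : NeZero P.n := ⟨by decide⟩
noncomputable def gs0 : List (Equiv.Perm (Fin P.n)) := permsOf P.n P.N ns0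
noncomputable def gs1 : List (Equiv.Perm (Fin P.n)) := ext gs0 ws
theorem c1 : Ctx P (eF P.n) gs1 ns D chk :=
  ctx (ctx_permsOf hP keep0) (faithful_eF _) fun _ _ => trivial

theorem G_c : P.chainB ns D G_vs [[0], [2]] = true :=
  zc0

theorem G_o : prodL G_vs 1 = 20160 := by decide +kernel

theorem G_lb (c : Ctx P e gs ns D chk) :
    LB (subW gs [[0], [2]]) 20160 :=
  c.lb G_c G_o

theorem rel {Γ Y : Type*} [Group Γ] [MulAction Γ Y] {e' : ℕ → Y} {cs : List Γ} {D₁ D₂ : List (ℕ × List ℕ)}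
    {k₁ k₂ : List (List ℕ × List ℕ) → Bool} (c : Ctx CL.Std.L34.M.P e gs CL.Std.L34.M.ns D₁ k₁) (c' : Ctx CL.Std.L34.P e' cs CL.Std.L34.ns D₂ k₂)
    (hF : Faithful e' CL.Std.L34.P.n (subW cs [[0], [2]])) :
    RelLe gs [[6], [8], [22]] cs [[0], [2]] :=
  c.relLe (K := zK2) c' hF zl3 (fun (t : ℕ) (ht : t < 1) => match t, ht with
    | 0, _ => zl4
    | t + 1, h => absurd h (by omega))

theorem hom {F : Type*} [Field F] [Fintype F] (hF : Fintype.card F = 4) :
    ∃ f : Matrix.SpecialLinearGroup (Fin 3) F →* Equiv.Perm (Fin P.n), f.range = (subW gs1 [[0], [2]]) ∧ f.ker = Subgroup.center _ ∧ Nat.card (subW gs1 [[0], [2]]) = 20160 := by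
  obtain ⟨el, h⟩ := Tab.exists_fc t4 t4_field F hF
  have hc : Nat.card (Matrix.SpecialLinearGroup (Fin 3) F) = 60480 := card_sl hF 3 (by decide +kernel)
  have hK := subW_eq_range (l := [[6], [8]]) Matrix.SpecialLinearGroup.toGL Matrix.SpecialLinearGroup.toGL_injective hc (by norm_num)
    (subW_le_of_forall (mem_of_mem_ext (forall_mem_SL h (ix_fin 3) M.hinv M.zv4) _) _) (M.G_lb (M.c1 h))
  have : Finite (Matrix.SpecialLinearGroup (Fin 3) F) := Nat.finite_of_card_ne_zero (by rw [hc]; norm_num)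
  exact cquot_of_card (RelLe.cquot0 (l := [[6], [8]]) (lZ := [[22]]) (a := 3) (b := 20160) (rel (M.c1 h) c1 ((faithful_eF _).mono le_top)) (by decide)
    Matrix.SpecialLinearGroup.toGL Matrix.SpecialLinearGroup.toGL_injective hc (by norm_num) hK (M.hZ (M.c1 h)).1 (M.hZ (M.c1 h)).2 (M.Z_lb (M.c1 h)) (G_lb c1)) (card_psl hF 2 (by decide +kernel))
theorem iso {F : Type*} [Field F] [Fintype F] (hF : Fintype.card F = 4) :
    Nonempty ((subW gs1 [[0], [2]]) ≃* Matrix.SpecialLinearGroup (Fin 3) F ⧸ Subgroup.center (Matrix.SpecialLinearGroup (Fin 3) F)) := cquot_equiv (hom hF)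
theorem card : Nat.card (subW gs1 [[0], [2]]) = 20160 := by
  obtain ⟨F, _, _, hF⟩ := exists_field 2 2 (by norm_num)
  replace hF : Fintype.card F = 4 := hF
  exact (hom hF).choose_spec.2.2
theorem ub : UB (subW gs1 [[0], [2]]) 20160 := UB.of_card card (by norm_num)

theorem simple : IsSimpleGroup (subW gs1 [[0], [2]]) := by
  obtain ⟨F, _, _, hF⟩ := exists_field 2 2 (by norm_num)
  replace hF : Fintype.card F = 4 := hF
  obtain ⟨el, h⟩ := Tab.exists_fc t4 t4_field F hF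
  have : IsSimpleGroup (Matrix.SpecialLinearGroup (Fin 3) F ⧸ Subgroup.center (Matrix.SpecialLinearGroup (Fin 3) F)) := SLn.isSimpleGroup_PSL_fin (F := F) 3 (by norm_num) (by rw [hF]; norm_num)
  exact (iso hF).some.isSimpleGroup

end
end CL.Std.L34

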