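import Cfsg.Agent.Spor.TCSound

/-! coset enumeration certificate generated by tools/tc -/

set_option maxRecDepth 100000
set_option autoImplicit false
set_option linter.all false

namespace CL.TC.SzA3

noncomputable def rows0 : Tr ℕ := (.leaf (nat_lit 0xf980fd8062c03fa01ff0080))
noncomputable def recs0 : Tr ℕ := (.leaf (nat_lit 0x5480a90500020028002800a001a00400050015002000400088010002e005c00c80230020007800b8015004e007c00a801f00420094010801e0052009439487255252a486594ba1f3052609d493a91e744f2c8dd12cb1e304a607c391871c5246a47839087195242a47a58fba17523ea45548f29170e381c4e58e3a193032605438c871374332c54c0b9810962ee84658aba10742b2c4c389871030266040388870d5222a429488290d301a60283868707741b2c165853a0a30146015d054b070e0e1c1d483a905300e60143828701520aa406580ba013002600438087))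
noncomputable def rows : Tr ℕ := rows0
noncomputable def recs : Tr ℕ := recs0
noncomputable def ci0 : CI := ⟨[], (nat_lit 0), false, (.node (nat_lit 1) (.leaf Rule.defn) (.leaf Rule.copy)), (.node (nat_lit 4) (.node (nat_lit 2) (.node (nat_lit 1) (.leaf (XRule.rot (nat_lit 0) [] 16 0)) (.leaf (XRule.rot (nat_lit 2578909875275) [75, 24, 7, 24, 7, 75] 13 1))) (.node (nat_lit 1) (.leaf (XRule.rot (nat_lit 903) [7, 7] 16 0)) (.leaf (XRule.rot (nat_lit 3096) [24, 24] 16 0)))) (.node (nat_lit 2) (.node (nat_lit 1) (.leaf (XRule.rot (nat_lit 5289) [41, 41] 16 0)) (.leaf (XRule.rot (nat_lit 7499) [75, 58] 16 0))) (.leaf (XRule.rot (nat_lit 9658) [58, 75] 16 0))))⟩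
noncomputable def ci7 : CI := ⟨[0], (nat_lit 7), true, (.node (nat_lit 1) (.leaf Rule.defn) (.leaf Rule.copy)), (.node (nat_lit 4) (.node (nat_lit 2) (.node (nat_lit 1) (.leaf XRule.defn) (.leaf XRule.ax)) (.node (nat_lit 1) (.leaf (XRule.rot (nat_lit 672681) [41, 7, 41] 2 1)) (.leaf (XRule.rot (nat_lit 221888444603759187096) [24, 41, 7, 24, 7, 24, 7, 41, 7, 24] 6 3)))) (.node (nat_lit 1) (.leaf (XRule.rot (nat_lit 953419) [75, 24, 58] 8 1)) (.leaf (XRule.rot (nat_lit 1231930) [58, 24, 75] 10 3))))⟩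
noncomputable def ci24 : CI := ⟨[1], (nat_lit 24), true, (.node (nat_lit 1) (.leaf Rule.defn) (.leaf Rule.copy)), (.node (nat_lit 2) (.node (nat_lit 1) (.leaf XRule.defn) (.leaf XRule.ax)) (.node (nat_lit 1) (.leaf (XRule.rot (nat_lit 951243) [75, 7, 58] 10 1)) (.leaf (XRule.rot (nat_lit 1229754) [58, 7, 75] 8 3))))⟩
noncomputable def ci41 : CI := ⟨[2], (nat_lit 41), false, (.node (nat_lit 1) (.leaf Rule.defn) (.leaf Rule.copy)), (.node (nat_lit 4) (.node (nat_lit 2) (.node (nat_lit 1) (.leaf XRule.defn) (.leaf XRule.defn)) (.node (nat_lit 1) (.leaf (XRule.rot (nat_lit 6528832664) [24, 41, 24, 41, 24] 4 0)) (.leaf (XRule.rot (nat_lit 68857899912137502790859) [75, 41, 58, 41, 75, 41, 58, 41, 75, 41, 58] 14 2)))) (.leaf (XRule.rot (nat_lit 41) [41] 16 0)))⟩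
noncomputable def ci58 : CI := ⟨[3], (nat_lit 75), true, (.node (nat_lit 1) (.leaf Rule.defn) (.leaf Rule.copy)), (.node (nat_lit 4) (.node (nat_lit 2) (.node (nat_lit 1) (.leaf XRule.defn) (.leaf XRule.ax)) (.node (nat_lit 1) (.leaf (XRule.rot (nat_lit 15619705863) [7, 24, 7, 24, 58] 12 1)) (.leaf (XRule.rot (nat_lit 49098996547538840610217) [41, 75, 41, 58, 41, 75, 41, 58, 41, 75, 41] 14 1)))) (.leaf (XRule.rot (nat_lit 402823) [7, 75, 24] 8 0)))⟩
noncomputable def ci75 : CI := ⟨[4], (nat_lit 58), false, (.node (nat_lit 2) (.node (nat_lit 1) (.leaf Rule.defn) (.leaf Rule.copy)) (.leaf (Rule.fwd [nat_lit 58] 16 0))), (.node (nat_lit 2) (.node (nat_lit 1) (.leaf XRule.defn) (.leaf XRule.defn)) (.leaf (XRule.rot (nat_lit 400647) [7, 58, 24] 10 2)))⟩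
noncomputable def outer : Tr CI := (.node (nat_lit 1) (.node (nat_lit 2) (.node (nat_lit 8) (.leaf ci0) (.leaf ci24)) (.leaf ci58)) (.node (nat_lit 2) (.leaf ci41) (.node (nat_lit 4) (.leaf ci75) (.leaf ci7))))
def cols : List ℕ := [nat_lit 7, nat_lit 24, nat_lit 41, nat_lit 58, nat_lit 75]
def invL : List ℕ := [0, 1, 2, 4, 3]
def rels : List (List ℕ) := [[0, 1, 0, 1, 0, 1, 0, 1], [2, 0, 2, 0], [2, 1, 2, 1, 2, 1], [2, 0, 1, 0, 1, 2, 0, 1, 0, 1, 0], [3, 0, 4, 1], [3, 1, 4, 0], [3, 3, 0, 1, 0, 1], [2, 3, 2, 4, 2, 3, 2, 4, 2, 3, 2, 4]]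
def subs : List (List ℕ) := [[0], [1], [3]]
noncomputable def row (n : ℕ) : ℕ := rowOf (fun h => rows.get h) (nat_lit 4) (nat_lit 15) (nat_lit 92) (nat_lit 0xfffffffffffffffffffffff) n
noncomputable def xleaf (h : ℕ) : ℕ := recs.get h
noncomputable def mF : ℕ → ℕ := mainRow row (rowChk row xleaf outer (nat_lit 8) (nat_lit 255) (nat_lit 3) (nat_lit 10) (nat_lit 1023) (nat_lit 131071) (nat_lit 128) (nat_lit 1) (nat_lit 256) (nat_lit 7) (nat_lit 127) (nat_lit 15) (nat_lit 32767) (nat_lit 8) (nat_lit 255) cols)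
noncomputable def xF : ℕ → ℕ → ℕ := xLeaf row xleaf outer (nat_lit 255) (nat_lit 10) (nat_lit 131071) (nat_lit 128) (nat_lit 1) (nat_lit 7) (nat_lit 127) (nat_lit 15) (nat_lit 32767) (nat_lit 32640) (nat_lit 8) (nat_lit 255) (nat_lit 10) (nat_lit 1023) (nat_lit 4) (nat_lit 15) (nat_lit 75) (nat_lit 128) (nat_lit 128)
noncomputable def cert : Cert := ⟨row, xleaf, outer, cols, nat_lit 8, nat_lit 255, nat_lit 3, nat_lit 10, nat_lit 1023, nat_lit 131071, nat_lit 128, nat_lit 1, nat_lit 256, nat_lit 7, nat_lit 127, nat_lit 15, nat_lit 32767, nat_lit 32640, nat_lit 8, nat_lit 255, nat_lit 10, nat_lit 1023, nat_lit 4, nat_lit 15, nat_lit 75, nat_lit 128, nat_lit 128, nat_lit 17, nat_lit 128, nat_lit 1⟩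
theorem tabok : tabOK (fun i => invL.getD i i) rels subs outer cols (nat_lit 7) (nat_lit 75) = true := by decide +kernel
theorem m0 : rng mF (nat_lit 1) (nat_lit 1) = 0 := by decide +kernel
noncomputable def s0 : List ℕ := [nat_lit 0x10040100107401060c80042d07409064285242d0841d0040900409004190a28c0044508440324450a4390b420520011742d100d117439160c8000011f4651c0c80048d2047d1944918469194712228c0049d2249123480520012b481280cc004bd23498344bd244b8320013548d2a0d4000013b4ad1d44507415064511c499382cc004fd314e032001434dd3a0c80051d3c510320014b4e52947d1743116479284e14a2cc0053d3d5003453d3b4b5385185253d4450d374b5304c9314e14628d51505465514f4f4615055655432565475594f10d38559535615b1514b5595156d5c1552d5755a5654714d265755a56549159315755a50560149644c55d51162149285753d5816715566585395794c57c644716b4e16059c544656d5ad30595675b0724516d5992b5b055419715b91e5a56c5c0745cd070900000000000000000000000000000000000000000000000000000000000000000000000000000000000000000000000000000000000000000000000000000000000000000000000000000000000000000000000000000]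
theorem x0 : xs xF s0 (nat_lit 1) = 0 := by decide +kernel
theorem mz0 : AllZ mF 1 (nat_lit 2) := (AllZ.step (AllZ.nil mF 1) (nat_lit 1) (nat_lit 2) rfl m0)
theorem xz0 : XZ xF (nat_lit 1) := (XZ.step (XZ.nil xF) s0 (nat_lit 1) (nat_lit 1) (by decide +kernel) x0)
/-- the certificate (1 points) is valid -/
theorem valid : cert.Valid (fun i => invL.getD i i) rels subs 5 :=
  ⟨by decide +kernel, tabok, by decide +kernel, mz0, xz0⟩
theorem cert_N : cert.N = 1 := rfl

end CL.TC.SzA3
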