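import Cfsg.Agent.Spor.TCSound

/-! coset enumeration certificate generated by tools/tc -/

set_option maxRecDepth 100000
set_option autoImplicit false
set_option linter.all false

namespace CL.TC.SzA4

noncomputable def rows0 : Tr ℕ := (.leaf (nat_lit 0xf980fd8047c03fa01ff0080))
noncomputable def recs0 : Tr ℕ := (.leaf (nat_lit 0x5480a9050002002800280100014010400500100022004c008001a0022005400b802a0022008c00a8024004600a80158029004800b0011803d0054008400b801d002a00b001c0036005200ac023003a005601000268024004e00940118042007a012c020802f00560124020805030926125d25cb4f0ea41d04c29185052a0a5025a83a40309e61043a6873d529aa5003a5873a5296a505d24cb2f5292a4d9d234b3d308c60b25a33a369684e8e8c21182f0e841cb1d214b2b5282a4a94a02938747b2cac39e8729967ae8e259d3a2a0e741ca5d1d4b360e701c9cc1c1836526ca494c1b1833964ae8a8c1998249666e8ae593ba2f30566096597ba24745f2c9e5953a290e581c90c1618239656e88dd154b23305260903938721524ea48c392871d524aa45d49229155246a45c39087139642e86a58eba1d303a605438e8713743b2c6838d071a5234a444c0d18179622e854c0b9810962ee84658aba10742b2c4c389871030266040388870d5222a429488290d301a60283868707741b2c165853a0a30146015d054b070e0e1c1d483a905300e60143828701520aa406580ba013002600438087))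
noncomputable def rows : Tr ℕ := rows0
noncomputable def recs : Tr ℕ := recs0
noncomputable def ci0 : CI := ⟨[], (nat_lit 0), false, (.node (nat_lit 1) (.leaf Rule.defn) (.leaf Rule.copy)), (.node (nat_lit 4) (.node (nat_lit 2) (.node (nat_lit 1) (.leaf (XRule.rot (nat_lit 0) [] 16 0)) (.leaf (XRule.rot (nat_lit 1415278105752) [24, 41, 24, 41, 24, 41] 4 1))) (.node (nat_lit 1) (.leaf (XRule.rot (nat_lit 5289) [41, 41] 16 0)) (.leaf (XRule.rot (nat_lit 7499) [75, 58] 16 0)))) (.node (nat_lit 2) (.node (nat_lit 1) (.leaf (XRule.rot (nat_lit 903) [7, 7] 16 0)) (.leaf (XRule.rot (nat_lit 9658) [58, 75] 16 0))) (.leaf (XRule.rot (nat_lit 3096) [24, 24] 16 0))))⟩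
noncomputable def ci7 : CI := ⟨[0], (nat_lit 7), true, (.node (nat_lit 1) (.leaf Rule.defn) (.leaf Rule.copy)), (.node (nat_lit 4) (.node (nat_lit 2) (.node (nat_lit 1) (.leaf XRule.defn) (.leaf XRule.ax)) (.node (nat_lit 1) (.leaf (XRule.rot (nat_lit 672681) [41, 7, 41] 2 1)) (.leaf (XRule.rot (nat_lit 221888444603759187096) [24, 41, 7, 24, 7, 24, 7, 41, 7, 24] 6 3)))) (.node (nat_lit 2) (.node (nat_lit 1) (.leaf (XRule.rot (nat_lit 953419) [75, 24, 58] 8 1)) (.leaf (XRule.rot (nat_lit 6458088728) [24, 58, 58, 7, 24] 12 4))) (.leaf (XRule.rot (nat_lit 1231930) [58, 24, 75] 10 3))))⟩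
noncomputable def ci24 : CI := ⟨[1], (nat_lit 24), true, (.node (nat_lit 1) (.leaf Rule.defn) (.leaf Rule.copy)), (.node (nat_lit 2) (.node (nat_lit 1) (.leaf XRule.defn) (.leaf XRule.ax)) (.node (nat_lit 1) (.leaf (XRule.rot (nat_lit 951243) [75, 7, 58] 10 1)) (.leaf (XRule.rot (nat_lit 1229754) [58, 7, 75] 8 3))))⟩
noncomputable def ci41 : CI := ⟨[2], (nat_lit 41), false, (.node (nat_lit 1) (.leaf Rule.defn) (.leaf Rule.copy)), (.node (nat_lit 4) (.node (nat_lit 2) (.node (nat_lit 1) (.leaf XRule.defn) (.leaf XRule.defn)) (.node (nat_lit 1) (.leaf (XRule.rot (nat_lit 6528832664) [24, 41, 24, 41, 24] 4 0)) (.leaf (XRule.rot (nat_lit 23871088005332862921450638726330) [58, 41, 75, 41, 58, 41, 75, 41, 58, 41, 75, 41, 58, 41, 75] 14 0)))) (.leaf (XRule.rot (nat_lit 41) [41] 16 0)))⟩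
noncomputable def ci58 : CI := ⟨[3], (nat_lit 75), true, (.node (nat_lit 1) (.leaf Rule.defn) (.leaf Rule.copy)), (.node (nat_lit 2) (.node (nat_lit 1) (.leaf XRule.defn) (.leaf XRule.ax)) (.node (nat_lit 1) (.leaf (XRule.rot (nat_lit 15619705863) [7, 24, 7, 24, 58] 12 1)) (.leaf (XRule.rot (nat_lit 124312) [24, 75, 7] 10 0))))⟩
noncomputable def ci75 : CI := ⟨[4], (nat_lit 58), false, (.node (nat_lit 2) (.node (nat_lit 1) (.leaf Rule.defn) (.leaf Rule.copy)) (.leaf (Rule.fwd [nat_lit 58] 16 0))), (.node (nat_lit 4) (.node (nat_lit 2) (.node (nat_lit 1) (.leaf XRule.defn) (.leaf XRule.defn)) (.node (nat_lit 1) (.leaf (XRule.rot (nat_lit 20147733400) [24, 7, 24, 7, 75] 13 1)) (.leaf (XRule.rot (nat_lit 13137824134855890353594064067881) [41, 58, 41, 75, 41, 58, 41, 75, 41, 58, 41, 75, 41, 58, 41] 14 3)))) (.leaf (XRule.rot (nat_lit 1929497675) [75, 24, 7, 24, 7] 13 2)))⟩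
noncomputable def outer : Tr CI := (.node (nat_lit 1) (.node (nat_lit 2) (.node (nat_lit 8) (.leaf ci0) (.leaf ci24)) (.leaf ci58)) (.node (nat_lit 2) (.leaf ci41) (.node (nat_lit 4) (.leaf ci75) (.leaf ci7))))
def cols : List ℕ := [nat_lit 7, nat_lit 24, nat_lit 41, nat_lit 58, nat_lit 75]
def invL : List ℕ := [0, 1, 2, 4, 3]
def rels : List (List ℕ) := [[0, 1, 0, 1, 0, 1, 0, 1], [2, 0, 2, 0], [2, 1, 2, 1, 2, 1], [2, 0, 1, 0, 1, 2, 0, 1, 0, 1, 0], [3, 0, 4, 1], [3, 1, 4, 0], [3, 3, 0, 1, 0, 1], [2, 3, 2, 4, 2, 3, 2, 4, 2, 3, 2, 4, 2, 3, 2, 4]]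
def subs : List (List ℕ) := [[0], [1], [3]]
noncomputable def row (n : ℕ) : ℕ := rowOf (fun h => rows.get h) (nat_lit 4) (nat_lit 15) (nat_lit 92) (nat_lit 0xfffffffffffffffffffffff) n
noncomputable def xleaf (h : ℕ) : ℕ := recs.get h
noncomputable def mF : ℕ → ℕ := mainRow row (rowChk row xleaf outer (nat_lit 8) (nat_lit 255) (nat_lit 3) (nat_lit 10) (nat_lit 1023) (nat_lit 131071) (nat_lit 128) (nat_lit 1) (nat_lit 256) (nat_lit 7) (nat_lit 127) (nat_lit 15) (nat_lit 32767) (nat_lit 8) (nat_lit 255) cols)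
noncomputable def xF : ℕ → ℕ → ℕ := xLeaf row xleaf outer (nat_lit 255) (nat_lit 10) (nat_lit 131071) (nat_lit 128) (nat_lit 1) (nat_lit 7) (nat_lit 127) (nat_lit 15) (nat_lit 32767) (nat_lit 32640) (nat_lit 8) (nat_lit 255) (nat_lit 10) (nat_lit 1023) (nat_lit 4) (nat_lit 15) (nat_lit 75) (nat_lit 128) (nat_lit 128)
noncomputable def cert : Cert := ⟨row, xleaf, outer, cols, nat_lit 8, nat_lit 255, nat_lit 3, nat_lit 10, nat_lit 1023, nat_lit 131071, nat_lit 128, nat_lit 1, nat_lit 256, nat_lit 7, nat_lit 127, nat_lit 15, nat_lit 32767, nat_lit 32640, nat_lit 8, nat_lit 255, nat_lit 10, nat_lit 1023, nat_lit 4, nat_lit 15, nat_lit 75, nat_lit 128, nat_lit 128, nat_lit 17, nat_lit 128, nat_lit 1⟩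
theorem tabok : tabOK (fun i => invL.getD i i) rels subs outer cols (nat_lit 7) (nat_lit 75) = true := by decide +kernel
theorem m0 : rng mF (nat_lit 1) (nat_lit 1) = 0 := by decide +kernel
noncomputable def s0 : List ℕ := [nat_lit 0x10040100107401060c80042d07409064285242d0841d0040900409004190a28c0044508440324450a4390b420520011742d100d117439160c8000011f4651c0c80048d2047d1944918469194712228c0049d2249123480520012b481280cd214992c0cc004c51f4691e4c0524c5214a92e4c0550013748d260d137491360c93748d204c134148004fd234a83600000001474e5420c80052d415103200000000005554c52d414b5384e9395094e28d51539565554c1480056d5455d4f5205254d48570335355a5783300163531580cd49541640cc005a5474e9465a0520016d5356259968154005c54f540345c54f521685b8520017753d520d977559555316c14800000006055556834605575c032605555316c5bc520018955d760cd8955d4f521681480063d5b5152b4751141d054191447126509525f8f3001935cd7c0c80065d795f832000006757d545434a51f45d0c4591e4a1425417c670f3001a1661975e55f609855cd7c668a36559a689a16405469195670335fd5f639a7679a61857e6a58f0c9a9645a9690435e5ab60834549ab57433585ab56c35665ad654345f9ad64c3262daf615b6119766bd870cd7a6bd810d5426c5470c9446c94b0c97c6d1970c9526dd756f4436c9616dd71115ab579b862dc215950721b8635ba71865509cb71dbb5a9ba719ca20928735c56f17a708634b5bf4e9be119286fd3d0cd266fd370d528741c14fdd414d1c759cf7217e1491c759d34c9d275c62451d9641a876053419dd471da7705277d070900000000000000000000000000000000000000]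
theorem x0 : xs xF s0 (nat_lit 1) = 0 := by decide +kernel
theorem mz0 : AllZ mF 1 (nat_lit 2) := (AllZ.step (AllZ.nil mF 1) (nat_lit 1) (nat_lit 2) rfl m0)
theorem xz0 : XZ xF (nat_lit 1) := (XZ.step (XZ.nil xF) s0 (nat_lit 1) (nat_lit 1) (by decide +kernel) x0)
/-- the certificate (1 points) is valid -/
theorem valid : cert.Valid (fun i => invL.getD i i) rels subs 5 :=
  ⟨by decide +kernel, tabok, by decide +kernel, mz0, xz0⟩
theorem cert_N : cert.N = 1 := rfl

end CL.TC.SzA4
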