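import Cfsg.Agent.Spor.TCSound

/-! coset enumeration certificate generated by tools/tc -/

set_option maxRecDepth 100000
set_option autoImplicit false
set_option linter.all false

namespace CL.TC.SzB3

noncomputable def rows0 : Tr ℕ := (.leaf (nat_lit 0xf980fd8067c03fa01ff0080))
noncomputable def recs0 : Tr ℕ := (.leaf (nat_lit 0x5480a905000200140140026004e00ae5933a270e561c99495a920305660a149429233050607e5943a1f744f2c7cc1318219646e880391871c5246a47c39087195242a45d4902915523ea45c38e071c3038604a58e3a193032605438c871274332c54c0b980f962ee84258aba0f742b2c4838907125224a43cc09180f0e201c314882909521ea430c0618090e181c1dd064b059612e824c04980574132c1c3838705300e60143828701520aa406580ba013002600438087))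
noncomputable def rows : Tr ℕ := rows0
noncomputable def recs : Tr ℕ := recs0
noncomputable def ci0 : CI := ⟨[], (nat_lit 0), false, (.node (nat_lit 1) (.leaf Rule.defn) (.leaf Rule.copy)), (.node (nat_lit 2) (.node (nat_lit 1) (.leaf (XRule.rot (nat_lit 0) [] 16 0)) (.leaf (XRule.rot (nat_lit 8486029789625638311064) [24, 41, 7, 24, 7, 24, 7, 41, 7, 24, 7] 6 4))) (.node (nat_lit 1) (.leaf (XRule.rot (nat_lit 16166675619218238622886582998100761863) [7, 58, 41, 75, 41, 24, 7, 58, 41, 75, 41, 24, 7, 58, 41, 75, 41, 24] 15 5)) (.leaf (XRule.rot (nat_lit 5289) [41, 41] 16 0))))⟩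
noncomputable def ci7 : CI := ⟨[0], (nat_lit 7), true, (.node (nat_lit 1) (.leaf Rule.defn) (.leaf Rule.copy)), (.node (nat_lit 4) (.node (nat_lit 2) (.node (nat_lit 1) (.leaf XRule.defn) (.leaf XRule.ax)) (.node (nat_lit 1) (.leaf (XRule.rot (nat_lit 672681) [41, 7, 41] 2 1)) (.leaf (XRule.rot (nat_lit 221888444603759187096) [24, 41, 7, 24, 7, 24, 7, 41, 7, 24] 6 3)))) (.node (nat_lit 2) (.node (nat_lit 1) (.leaf (XRule.rot (nat_lit 953419) [75, 24, 58] 8 1)) (.leaf (XRule.rot (nat_lit 1231930) [58, 24, 75] 10 3))) (.leaf (XRule.rot (nat_lit 6457533899) [75, 75, 24, 7, 24] 13 3))))⟩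
noncomputable def ci24 : CI := ⟨[1], (nat_lit 24), true, (.node (nat_lit 1) (.leaf Rule.defn) (.leaf Rule.copy)), (.node (nat_lit 2) (.node (nat_lit 1) (.leaf XRule.defn) (.leaf XRule.ax)) (.node (nat_lit 1) (.leaf (XRule.rot (nat_lit 951243) [75, 7, 58] 10 1)) (.leaf (XRule.rot (nat_lit 1229754) [58, 7, 75] 8 3))))⟩
noncomputable def ci41 : CI := ⟨[2], (nat_lit 41), false, (.node (nat_lit 1) (.leaf Rule.defn) (.leaf Rule.copy)), (.node (nat_lit 2) (.node (nat_lit 1) (.leaf XRule.defn) (.leaf XRule.defn)) (.node (nat_lit 1) (.leaf (XRule.rot (nat_lit 6528832664) [24, 41, 24, 41, 24] 4 0)) (.leaf (XRule.rot (nat_lit 41) [41] 16 0))))⟩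
noncomputable def ci58 : CI := ⟨[3], (nat_lit 75), true, (.node (nat_lit 1) (.leaf Rule.defn) (.leaf Rule.copy)), (.node (nat_lit 4) (.node (nat_lit 2) (.node (nat_lit 1) (.leaf XRule.defn) (.leaf XRule.ax)) (.node (nat_lit 1) (.leaf (XRule.rot (nat_lit 15619705863) [7, 24, 7, 24, 58] 12 1)) (.leaf (XRule.rot (nat_lit 213860131742328181182181498761110953) [41, 75, 7, 24, 41, 58, 41, 75, 7, 24, 41, 58, 41, 75, 7, 24, 41] 14 1)))) (.leaf (XRule.rot (nat_lit 402823) [7, 75, 24] 8 0)))⟩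
noncomputable def ci75 : CI := ⟨[4], (nat_lit 58), false, (.node (nat_lit 2) (.node (nat_lit 1) (.leaf Rule.defn) (.leaf Rule.copy)) (.leaf (Rule.fwd [nat_lit 58] 16 0))), (.node (nat_lit 1) (.leaf XRule.defn) (.leaf XRule.defn))⟩
noncomputable def outer : Tr CI := (.node (nat_lit 1) (.node (nat_lit 2) (.node (nat_lit 8) (.leaf ci0) (.leaf ci24)) (.leaf ci58)) (.node (nat_lit 2) (.leaf ci41) (.node (nat_lit 4) (.leaf ci75) (.leaf ci7))))
def cols : List ℕ := [nat_lit 7, nat_lit 24, nat_lit 41, nat_lit 58, nat_lit 75]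
def invL : List ℕ := [0, 1, 2, 4, 3]
def rels : List (List ℕ) := [[0, 1, 0, 1, 0, 1, 0, 1], [2, 0, 2, 0], [2, 1, 2, 1, 2, 1], [2, 0, 1, 0, 1, 2, 0, 1, 0, 1, 0], [3, 0, 4, 1], [3, 1, 4, 0], [3, 3, 0, 1, 0, 1], [2, 3, 2, 4, 0, 1, 2, 3, 2, 4, 0, 1, 2, 3, 2, 4, 0, 1]]
def subs : List (List ℕ) := [[0], [1], [3]]
noncomputable def row (n : ℕ) : ℕ := rowOf (fun h => rows.get h) (nat_lit 4) (nat_lit 15) (nat_lit 92) (nat_lit 0xfffffffffffffffffffffff) n
noncomputable def xleaf (h : ℕ) : ℕ := recs.get h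
noncomputable def mF : ℕ → ℕ := mainRow row (rowChk row xleaf outer (nat_lit 8) (nat_lit 255) (nat_lit 3) (nat_lit 10) (nat_lit 1023) (nat_lit 131071) (nat_lit 128) (nat_lit 1) (nat_lit 256) (nat_lit 7) (nat_lit 127) (nat_lit 15) (nat_lit 32767) (nat_lit 8) (nat_lit 255) cols)
noncomputable def xF : ℕ → ℕ → ℕ := xLeaf row xleaf outer (nat_lit 255) (nat_lit 10) (nat_lit 131071) (nat_lit 128) (nat_lit 1) (nat_lit 7) (nat_lit 127) (nat_lit 15) (nat_lit 32767) (nat_lit 32640) (nat_lit 8) (nat_lit 255) (nat_lit 10) (nat_lit 1023) (nat_lit 3) (nat_lit 7) (nat_lit 75) (nat_lit 128) (nat_lit 128)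
noncomputable def cert : Cert := ⟨row, xleaf, outer, cols, nat_lit 8, nat_lit 255, nat_lit 3, nat_lit 10, nat_lit 1023, nat_lit 131071, nat_lit 128, nat_lit 1, nat_lit 256, nat_lit 7, nat_lit 127, nat_lit 15, nat_lit 32767, nat_lit 32640, nat_lit 8, nat_lit 255, nat_lit 10, nat_lit 1023, nat_lit 3, nat_lit 7, nat_lit 75, nat_lit 128, nat_lit 128, nat_lit 17, nat_lit 128, nat_lit 1⟩
theorem tabok : tabOK (fun i => invL.getD i i) rels subs outer cols (nat_lit 7) (nat_lit 75) = true := by decide +kernel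
theorem m0 : rng mF (nat_lit 1) (nat_lit 1) = 0 := by decide +kernel
noncomputable def s0 : List ℕ := [nat_lit 0x4010040041d004181a0010b42107401024010240106428530010f4210e0690f4290c42d080a8004550b4381c4550c4501a00000475174681a0012146d10469200a9214791d45d104591845d1a4805300127481244851e0a8004ad1e4a01b0012f485260712f4912e068004d5244d01b4d5214a81d000000013f4c53a0680050d394f01a50d364e52b46d0f41d024010541912469204912e4f88b000000014d5014606d4f50d365094e0a80054d3d4b53a5202a54d445394d5282e5254a5581c55953511434e52d4c1324c53a5205953d434d5224d1394b53a5295b551585695654d3d4ad1b43d0828906571505742357d0704c00000000000000000000000000000000000000000000000000000000000000000000000000000000000000000000000000000000000000000000000000000000000000000000000000000000000000000000000000000000000000000000000000000]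
theorem x0 : xs xF s0 (nat_lit 1) = 0 := by decide +kernel
theorem mz0 : AllZ mF 1 (nat_lit 2) := (AllZ.step (AllZ.nil mF 1) (nat_lit 1) (nat_lit 2) rfl m0)
theorem xz0 : XZ xF (nat_lit 1) := (XZ.step (XZ.nil xF) s0 (nat_lit 1) (nat_lit 1) (by decide +kernel) x0)
/-- the certificate (1 points) is valid -/
theorem valid : cert.Valid (fun i => invL.getD i i) rels subs 5 :=
  ⟨by decide +kernel, tabok, by decide +kernel, mz0, xz0⟩
theorem cert_N : cert.N = 1 := rfl

end CL.TC.SzB3
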