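import Cfsg.Agent.Spor.TCSound

/-! coset enumeration certificate generated by tools/tc -/

set_option maxRecDepth 100000
set_option autoImplicit false
set_option linter.all false

namespace CL.TC.SzB4

noncomputable def rows0 : Tr ℕ := (.node (nat_lit 2) (.node (nat_lit 1) (.leaf (nat_lit 0xe662dcd45ff8867e318f661cb7f18bfe316fe215f8c57d308adfc629f8c4ff884fe312f4c20b7ca05ff108fc623e5437ec0540fe211d502ff1887940cfaa134fa1867830df4817fc41fb3859aec60ffc41bf187f8509f8c1b03f88379407fc61ddcc2be30653fc61bf8c33da047f106f48106bc184f750afe20bf8c2fd9832dfc615f8c27f8827e308f4c0eb7f881fb403fc60fed017ea8253fe205ed00bf1837c404f8c0b4fd182fe305fa807fc40be2019af4609f8c13f880fe303fa604b7e180fd201fc605f8807f90080)) (.leaf (nat_lit 0xfc657a4c93f88b7e32ad664ab7a20c7f115fc653d146fec0bc0fe22bc10635992f441afaa2d4ff1947e327fe229f8c9bd311adfc64b94c87f889fe324f4c44b7aa0cff112fc647ccc7fec0a40fe225c5067f1917331efaa274f818d7431bf0833fc447938c1ade63dccc7fc20c7f110e2c326b91887f10ffc643d144fe30fc0fe21fd1043f19072314f8c3d4ff18ffe31eec825fc43fb2091ae2623fc43bf18ef3516f8c3703f88775411fc639ccc5fe30d53fc637f8c6ba98aff10eeac2a6ba189f2514fe21bf8c67d987ad)))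 (.leaf (nat_lit 0x3f8936742ccc657a50a7ea93d3cc65b958ab5a13ff122d0e566b2194ff120cec5ba548f3b1640c8659a589b92137f120cce506b53126552bfe23fa0cb7d990adda645fc4773a1267321cac5503f88eef422d4659b4c97e316d3d0655f8cb789957f11de28486b6191ff11cd8a3db949f531040d4a41a4ca731947f11ce0c4c6b3190ed525fe237a0cafd98eaddc64fb88a3f88d7e32cf6638b7310e67223fe22fa08a3d314ad)))
noncomputable def recs0 : Tr ℕ := (.leaf (nat_lit 0x1c80434c8e990c028344268840188000000000000000000000000000000028a64500c4d141a23a6630000000000000000000000000000000000000000000000000000000000000000000000000000000000001c80634c06980c0013402680438087))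
noncomputable def rows : Tr ℕ := rows0
noncomputable def recs : Tr ℕ := recs0
noncomputable def ci0 : CI := ⟨[], (nat_lit 0), false, (.node (nat_lit 1) (.leaf Rule.defn) (.leaf Rule.copy)), (.node (nat_lit 1) (.leaf (XRule.rot (nat_lit 0) [] 16 0)) (.leaf (XRule.rot (nat_lit 134654343) [7, 83, 26, 64] 8 1)))⟩
noncomputable def ci7 : CI := ⟨[0], (nat_lit 7), true, (.node (nat_lit 4) (.node (nat_lit 2) (.node (nat_lit 1) (.leaf Rule.defn) (.leaf Rule.copy)) (.node (nat_lit 1) (.leaf (Rule.fwd [nat_lit 45, nat_lit 7, nat_lit 45] 2 1)) (.leaf (Rule.fwd [nat_lit 26, nat_lit 45, nat_lit 7, nat_lit 26, nat_lit 7, nat_lit 26, nat_lit 7, nat_lit 45, nat_lit 7, nat_lit 26] 6 3)))) (.node (nat_lit 2) (.node (nat_lit 1) (.leaf (Rule.fwd [nat_lit 83, nat_lit 26, nat_lit 64] 8 1)) (.leaf (Rule.fwd [nat_lit 7] 16 0))) (.node (nat_lit 1) (.leaf (Rule.fwd [nat_lit 26, nat_lit 64, nat_lit 64, nat_lit 7, nat_lit 26] 12 4)) (.leaf (Rule.fwd [nat_lit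 64, nat_lit 26, nat_lit 83] 10 3))))), (.node (nat_lit 1) (.leaf XRule.defn) (.leaf XRule.ax))⟩
noncomputable def ci26 : CI := ⟨[1], (nat_lit 26), true, (.node (nat_lit 4) (.node (nat_lit 2) (.node (nat_lit 1) (.leaf Rule.defn) (.leaf Rule.copy)) (.node (nat_lit 1) (.leaf (Rule.fwd [nat_lit 26] 16 0)) (.leaf (Rule.fwd [nat_lit 83, nat_lit 7, nat_lit 64] 10 1)))) (.leaf (Rule.fwd [nat_lit 64, nat_lit 7, nat_lit 83] 8 3))), (.node (nat_lit 2) (.node (nat_lit 1) (.leaf XRule.defn) (.leaf XRule.ax)) (.node (nat_lit 1) (.leaf (XRule.rot (nat_lit 1360832) [64, 7, 83] 8 3)) (.leaf (XRule.rot (nat_lit 26) [26] 16 0))))⟩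
noncomputable def ci45 : CI := ⟨[2], (nat_lit 45), false, (.node (nat_lit 4) (.node (nat_lit 2) (.node (nat_lit 1) (.leaf Rule.defn) (.leaf Rule.copy)) (.node (nat_lit 1) (.leaf (Rule.fwd [nat_lit 45] 16 0)) (.leaf (Rule.fwd [nat_lit 26, nat_lit 45, nat_lit 26, nat_lit 45, nat_lit 26] 4 0)))) (.node (nat_lit 1) (.leaf (Rule.fwd [nat_lit 83, nat_lit 7, nat_lit 26, nat_lit 45, nat_lit 64, nat_lit 45, nat_lit 83, nat_lit 7, nat_lit 26, nat_lit 45, nat_lit 64, nat_lit 45, nat_lit 83, nat_lit 7, nat_lit 26, nat_lit 45, nat_lit 64, nat_lit 45, nat_lit 83, nat_lit 7, nat_lit 26, nat_lit 45, nat_lit 64] 14 2)) (.leaf (Rule.fwd [nat_lit 7, nat_lit 45, nat_lit 7] 2 0)))), (.node (nat_lit 1) (.leaf XRule.defn) (.leaf XRule.defn))⟩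
noncomputable def ci64 : CI := ⟨[3], (nat_lit 83), true, (.node (nat_lit 4) (.node (nat_lit 2) (.node (nat_lit 1) (.leaf Rule.defn) (.leaf Rule.copy)) (.node (nat_lit 1) (.leaf (Rule.fwd [nat_lit 83] 16 0)) (.leaf (Rule.fwd [nat_lit 7, nat_lit 26, nat_lit 7, nat_lit 26, nat_lit 64] 12 1)))) (.node (nat_lit 1) (.leaf (Rule.fwd [nat_lit 26, nat_lit 83, nat_lit 7] 10 0)) (.leaf (Rule.fwd [nat_lit 7, nat_lit 83, nat_lit 26] 8 0)))), (.node (nat_lit 4) (.node (nat_lit 2) (.node (nat_lit 1) (.leaf XRule.defn) (.leaf XRule.ax)) (.node (nat_lit 1) (.leaf (XRule.rot (nat_lit 17234513159) [7, 26, 7, 26, 64] 12 1)) (.leaf (XRule.rot (nat_lit 125338) [26, 83, 7] 10 0)))) (.leaf (XRule.rot (nat_lit 83) [83] 16 0)))⟩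
noncomputable def ci83 : CI := ⟨[4], (nat_lit 64), false, (.node (nat_lit 4) (.node (nat_lit 2) (.node (nat_lit 1) (.leaf Rule.defn) (.leaf Rule.copy)) (.node (nat_lit 1) (.leaf (Rule.fwd [nat_lit 64] 16 0)) (.leaf (Rule.fwd [nat_lit 26, nat_lit 7, nat_lit 26, nat_lit 7, nat_lit 83] 13 1)))) (.node (nat_lit 1) (.leaf (Rule.fwd [nat_lit 7, nat_lit 64, nat_lit 26] 10 2)) (.leaf (Rule.fwd [nat_lit 7, nat_lit 26, nat_lit 45, nat_lit 64, nat_lit 45, nat_lit 83, nat_lit 7, nat_lit 26, nat_lit 45, nat_lit 64, nat_lit 45, nat_lit 83, nat_lit 7, nat_lit 26, nat_lit 45, nat_lit 64, nat_lit 45, nat_lit 83, nat_lit 7, nat_lit 26, nat_lit 45, nat_lit 64, nat_lit 45] 14 3)))), (.node (nat_lit 2) (.node (nat_lit 1) (.leaf XRule.defn) (.leaf XRule.defn)) (.leaf (XRule.rot (nat_lit 64) [64] 16 0)))⟩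
noncomputable def outer : Tr CI := (.node (nat_lit 1) (.node (nat_lit 2) (.node (nat_lit 64) (.leaf ci0) (.leaf ci64)) (.leaf ci26)) (.node (nat_lit 2) (.leaf ci45) (.node (nat_lit 4) (.leaf ci83) (.leaf ci7))))
def cols : List ℕ := [nat_lit 7, nat_lit 26, nat_lit 45, nat_lit 64, nat_lit 83]
def invL : List ℕ := [0, 1, 2, 4, 3]
def rels : List (List ℕ) := [[0, 1, 0, 1, 0, 1, 0, 1], [2, 0, 2, 0], [2, 1, 2, 1, 2, 1], [2, 0, 1, 0, 1, 2, 0, 1, 0, 1, 0], [3, 0, 4, 1], [3, 1, 4, 0], [3, 3, 0, 1, 0, 1], [2, 3, 2, 4, 0, 1, 2, 3, 2, 4, 0, 1, 2, 3, 2, 4, 0, 1, 2, 3, 2, 4, 0, 1]]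
def subs : List (List ℕ) := [[0], [1], [3]]
noncomputable def row (n : ℕ) : ℕ := rowOf (fun h => rows.get h) (nat_lit 4) (nat_lit 15) (nat_lit 102) (nat_lit 0x3fffffffffffffffffffffffff) n
noncomputable def xleaf (h : ℕ) : ℕ := recs.get h
noncomputable def mF : ℕ → ℕ := mainRow row (rowChk row xleaf outer (nat_lit 8) (nat_lit 255) (nat_lit 15) (nat_lit 12) (nat_lit 4095) (nat_lit 524287) (nat_lit 128) (nat_lit 45) (nat_lit 256) (nat_lit 7) (nat_lit 127) (nat_lit 15) (nat_lit 32767) (nat_lit 8) (nat_lit 255) cols)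
noncomputable def xF : ℕ → ℕ → ℕ := xLeaf row xleaf outer (nat_lit 255) (nat_lit 12) (nat_lit 524287) (nat_lit 128) (nat_lit 45) (nat_lit 7) (nat_lit 127) (nat_lit 15) (nat_lit 32767) (nat_lit 32640) (nat_lit 8) (nat_lit 255) (nat_lit 10) (nat_lit 1023) (nat_lit 3) (nat_lit 7) (nat_lit 83) (nat_lit 5760) (nat_lit 128)
noncomputable def cert : Cert := ⟨row, xleaf, outer, cols, nat_lit 8, nat_lit 255, nat_lit 15, nat_lit 12, nat_lit 4095, nat_lit 524287, nat_lit 128, nat_lit 45, nat_lit 256, nat_lit 7, nat_lit 127, nat_lit 15, nat_lit 32767, nat_lit 32640, nat_lit 8, nat_lit 255, nat_lit 10, nat_lit 1023, nat_lit 3, nat_lit 7, nat_lit 83, nat_lit 5760, nat_lit 128, nat_lit 19, nat_lit 128, nat_lit 1⟩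
theorem tabok : tabOK (fun i => invL.getD i i) rels subs outer cols (nat_lit 7) (nat_lit 83) = true := by decide +kernel
theorem m0 : rng mF (nat_lit 1) (nat_lit 45) = 0 := by decide +kernel
noncomputable def s0 : List ℕ := [nat_lit 0x10040100000000000000000000000000000041c00000000002a000004781a001064801b000000000041c00000000852c480134b11f0512c41c12000000000000000000000000000000000000000000000000000000000000000000000000000000000000000000000000000000000000000000000000000000000000000000000000000000000000000000000000000000000000000000000000000000000000000000000000000000000000000000000000000000000000000]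
theorem x0 : xs xF s0 (nat_lit 1) = 0 := by decide +kernel
theorem mz0 : AllZ mF 1 (nat_lit 46) := (AllZ.step (AllZ.nil mF 1) (nat_lit 45) (nat_lit 46) rfl m0)
theorem xz0 : XZ xF (nat_lit 1) := (XZ.step (XZ.nil xF) s0 (nat_lit 1) (nat_lit 1) (by decide +kernel) x0)
/-- the certificate (45 points) is valid -/
theorem valid : cert.Valid (fun i => invL.getD i i) rels subs 5 :=
  ⟨by decide +kernel, tabok, by decide +kernel, mz0, xz0⟩
theorem cert_N : cert.N = 45 := rfl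

end CL.TC.SzB4
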