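/-
A standard permutation model (W-, dimension 6, field with 2 elements): degree 27, order 25920.
Generated by tools/pg.
-/
import Cfsg.Agent.Spor.PGCls
import Cfsg.Agent.Spor.PGCtx

set_option autoImplicit false
set_option maxRecDepth 200000
set_option Elab.async false
set_option linter.unusedVariables false

namespace CL.Std.W6m2.M
open CL.PG

def P : Par := ⟨27, 32, 5, 3⟩
theorem hP : P.Ok := by decide
noncomputable def a0 : Net := (.cons 8 (nat_lit 0x20098)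
 (.cons 4 (nat_lit 0x80500)
 (.cons 2 (nat_lit 0x3300)
 (.cons 1 (nat_lit 0x1040000)
 (.cons 4 (nat_lit 0x80000)
 (.cons 8 (nat_lit 0x20098)
 .nil))))))
noncomputable def a1 : Net := (.cons 16 (nat_lit 0x7c00)
 (.cons 8 (nat_lit 0x4c0000)
 (.cons 4 (nat_lit 0xc000800)
 (.cons 2 (nat_lit 0x30130200)
 (.cons 4 (nat_lit 0xc000800)
 (.cons 8 (nat_lit 0x4c0000)
 (.cons 16 (nat_lit 0x7c00)
 .nil)))))))
noncomputable def a2 : Net := (.cons 16 (nat_lit 0x16c0)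
 (.cons 8 (nat_lit 0x140002)
 (.cons 4 (nat_lit 0x10000)
 (.cons 2 (nat_lit 0x200220)
 (.cons 1 (nat_lit 0x400411)
 (.cons 2 (nat_lit 0x200220)
 (.cons 8 (nat_lit 0x100002)
 (.cons 16 (nat_lit 0x16c0)
 .nil))))))))
noncomputable def a3 : Net := (.cons 16 (nat_lit 0x2316)
 (.cons 8 (nat_lit 0x210000)
 (.cons 16 (nat_lit 0x2100)
 .nil)))
noncomputable def a4 : Net := (.cons 16 (nat_lit 0x8000)
 (.cons 8 (nat_lit 0xa00008)
 (.cons 4 (nat_lit 0x4000406)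
 (.cons 2 (nat_lit 0x20200322)
 (.cons 1 (nat_lit 0x40100544)
 (.cons 2 (nat_lit 0x20200022)
 (.cons 4 (nat_lit 0x4000400)
 (.cons 8 (nat_lit 0xa00008)
 (.cons 16 (nat_lit 0x8000)
 .nil)))))))))
noncomputable def a5 : Net := (.cons 16 (nat_lit 0x1e00)
 (.cons 8 (nat_lit 0xe00000)
 (.cons 4 (nat_lit 0xf000600)
 (.cons 8 (nat_lit 0xe00000)
 (.cons 16 (nat_lit 0x1e00)
 .nil)))))
noncomputable def a6 : Net := (.cons 16 (nat_lit 0x9e18)
 (.cons 8 (nat_lit 0x140030)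
 (.cons 4 (nat_lit 0x40b0100)
 (.cons 2 (nat_lit 0x12211020)
 (.cons 1 (nat_lit 0x1040000)
 (.cons 4 (nat_lit 0xc0a0008)
 (.cons 8 (nat_lit 0xa0030)
 (.cons 16 (nat_lit 0x9e18)
 .nil))))))))
noncomputable def a7 : Net := (.cons 16 (nat_lit 0x24fc)
 (.cons 8 (nat_lit 0x70086)
 (.cons 4 (nat_lit 0x2000d02)
 (.cons 2 (nat_lit 0x220231)
 (.cons 1 (nat_lit 0x410451)
 (.cons 2 (nat_lit 0x220200)
 (.cons 4 (nat_lit 0x40404)
 (.cons 8 (nat_lit 0x46)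
 (.cons 16 (nat_lit 0x2788)
 .nil)))))))))
noncomputable def a8 : Net := (.cons 16 (nat_lit 0x1dec)
 (.cons 8 (nat_lit 0x7d00a6)
 (.cons 4 (nat_lit 0x5020a0e)
 (.cons 2 (nat_lit 0x2200322)
 (.cons 1 (nat_lit 0x14140014)
 (.cons 4 (nat_lit 0x2020802)
 (.cons 8 (nat_lit 0x600026)
 (.cons 16 (nat_lit 0x1b48)
 .nil))))))))
noncomputable def a9 : Net := (.cons 16 (nat_lit 0xdc16)
 (.cons 8 (nat_lit 0xc00010)
 (.cons 4 (nat_lit 0x90108)
 (.cons 2 (nat_lit 0x22020002)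
 (.cons 1 (nat_lit 0x11040004)
 (.cons 2 (nat_lit 0x22020002)
 (.cons 8 (nat_lit 0x800010)
 (.cons 16 (nat_lit 0xd810)
 .nil))))))))
noncomputable def a10 : Net := (.cons 16 (nat_lit 0x164c)
 (.cons 8 (nat_lit 0x100088)
 (.cons 4 (nat_lit 0x30e02)
 (.cons 2 (nat_lit 0x322110)
 (.cons 1 (nat_lit 0x414144)
 (.cons 2 (nat_lit 0x202202)
 (.cons 4 (nat_lit 0x802)
 (.cons 8 (nat_lit 0x100088)
 (.cons 16 (nat_lit 0x164c)
 .nil)))))))))
noncomputable def a11 : Net := (.cons 16 (nat_lit 0x10c8)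
 (.cons 8 (nat_lit 0x660018)
 (.cons 4 (nat_lit 0x1070400)
 (.cons 2 (nat_lit 0x32323300)
 (.cons 1 (nat_lit 0x44014140)
 (.cons 2 (nat_lit 0x22020020)
 (.cons 4 (nat_lit 0xe0208)
 (.cons 8 (nat_lit 0x660018)
 (.cons 16 (nat_lit 0x14a0)
 .nil)))))))))
noncomputable def a12 : Net := (.cons 16 (nat_lit 0x61e0)
 (.cons 8 (nat_lit 0x80080)
 (.cons 4 (nat_lit 0x6060900)
 (.cons 2 (nat_lit 0x2200220)
 (.cons 1 (nat_lit 0x1100440)
 (.cons 2 (nat_lit 0x2200220)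
 (.cons 8 (nat_lit 0x80080)
 (.cons 16 (nat_lit 0x61e0)
 .nil))))))))
noncomputable def a13 : Net := (.cons 16 (nat_lit 0x52c0)
 (.cons 8 (nat_lit 0x460048)
 (.cons 4 (nat_lit 0x50e0e08)
 (.cons 2 (nat_lit 0x1000020)
 (.cons 1 (nat_lit 0x50500)
 (.cons 4 (nat_lit 0x4080800)
 (.cons 8 (nat_lit 0x460048)
 (.cons 16 (nat_lit 0x52c0)
 .nil))))))))
noncomputable def a14 : Net := (.cons 16 (nat_lit 0x3c30)
 (.cons 8 (nat_lit 0xff0030)
 (.cons 4 (nat_lit 0x30200)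
 (.cons 2 (nat_lit 0x3033000)
 (.cons 4 (nat_lit 0xc000400)
 (.cons 8 (nat_lit 0xf00030)
 (.cons 16 (nat_lit 0x3c30)
 .nil)))))))
noncomputable def ns0 : List Net := [a0, a1, a2, a3, a4, a5]
noncomputable def ws : List (List ℕ) :=
  [W (nat_lit 0x1c0a0100a0100a00c0200c09020010100900c09),
  W (nat_lit 0x280b018080140b01c0c024080300601c05),
  W (nat_lit 0xf03c0f034100381003810),
  W (nat_lit 0x380f03810038100401004010),
  W (nat_lit 0x4812048130481204814),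
  W (nat_lit 0x4c120501104c1204814),
  W (nat_lit 0x1204c11),
  W (nat_lit 0x1606417),
  W (nat_lit 0x1a0701a)]
noncomputable def ns : List Net := [a0, a1, a2, a3, a4, a5, a6, a7, a8, a9, a10, a11, a12, a13, a14]
noncomputable def D : List (ℕ × List ℕ) := app [] (mkDefs ws 6)
noncomputable def chk : List (List ℕ × List ℕ) → Bool := P.relsB ns
noncomputable def V : List ℕ :=
  [(nat_lit 0x36db745049248ba),
  (nat_lit 0x5d75d160228a2e9),
  (nat_lit 0x679e79801861867),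
  (nat_lit 0x79e79e00061861f),
  (nat_lit 0x7e07e00001f81ff),
  (nat_lit 0x7ff800000007fff)]
noncomputable def ms : List (List (List ℕ) × List (List ℕ)) :=
  [([[1, 0, 1, 0, 0, 1], [0, 1, 0, 0, 0, 0], [0, 0, 1, 0, 0, 0], [0, 0, 0, 1, 0, 0], [0, 0, 1, 0, 1, 1], [0, 0, 0, 0, 0, 1]],
   [[1, 0, 1, 0, 0, 1], [0, 1, 0, 0, 0, 0], [0, 0, 1, 0, 0, 0], [0, 0, 0, 1, 0, 0], [0, 0, 1, 0, 1, 1], [0, 0, 0, 0, 0, 1]]),
  ([[1, 0, 0, 0, 0, 0], [0, 1, 0, 0, 0, 0], [0, 0, 1, 0, 0, 0], [0, 0, 0, 1, 0, 0], [0, 0, 0, 0, 0, 1], [0, 0, 0, 0, 1, 0]],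
   [[1, 0, 0, 0, 0, 0], [0, 1, 0, 0, 0, 0], [0, 0, 1, 0, 0, 0], [0, 0, 0, 1, 0, 0], [0, 0, 0, 0, 0, 1], [0, 0, 0, 0, 1, 0]]),
  ([[1, 0, 0, 0, 0, 0], [0, 1, 0, 0, 0, 0], [1, 1, 1, 0, 1, 1], [1, 1, 0, 1, 1, 1], [1, 1, 0, 0, 0, 1], [1, 1, 0, 0, 1, 0]],
   [[1, 0, 0, 0, 0, 0], [0, 1, 0, 0, 0, 0], [1, 1, 1, 0, 1, 1], [1, 1, 0, 1, 1, 1], [1, 1, 0, 0, 0, 1], [1, 1, 0, 0, 1, 0]]),
  ([[1, 0, 0, 0, 0, 0], [0, 1, 0, 0, 0, 0], [0, 0, 1, 0, 0, 0], [0, 1, 0, 1, 1, 0], [0, 0, 0, 0, 1, 0], [0, 1, 0, 0, 1, 1]],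
   [[1, 0, 0, 0, 0, 0], [0, 1, 0, 0, 0, 0], [0, 0, 1, 0, 0, 0], [0, 1, 0, 1, 1, 0], [0, 0, 0, 0, 1, 0], [0, 1, 0, 0, 1, 1]]),
  ([[1, 1, 1, 1, 0, 0], [0, 0, 1, 1, 0, 0], [0, 0, 1, 0, 0, 0], [0, 1, 1, 0, 0, 0], [0, 0, 0, 0, 1, 0], [0, 0, 0, 0, 0, 1]],
   [[1, 1, 1, 1, 0, 0], [0, 0, 1, 1, 0, 0], [0, 0, 1, 0, 0, 0], [0, 1, 1, 0, 0, 0], [0, 0, 0, 0, 1, 0], [0, 0, 0, 0, 0, 1]]),
  ([[1, 0, 0, 0, 0, 0], [0, 1, 0, 0, 0, 0], [0, 0, 1, 0, 0, 0], [0, 0, 0, 1, 0, 0], [0, 0, 0, 0, 1, 0], [0, 0, 0, 0, 1, 1]],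
   [[1, 0, 0, 0, 0, 0], [0, 1, 0, 0, 0, 0], [0, 0, 1, 0, 0, 0], [0, 0, 0, 1, 0, 0], [0, 0, 0, 0, 1, 0], [0, 0, 0, 0, 1, 1]])]
noncomputable def ps : List (List ℕ × List ℕ) :=
  [(W (nat_lit 0x10100900c09), W (nat_lit 0x302408)), (W (nat_lit 0x80300601c05), W (nat_lit 0x3009))]
noncomputable def G_v0 : Lev :=
  ⟨0, 27, sg (W (nat_lit 0x3c0d03c0d03c0d03c0f0340f0340f)), [[16], [18]], 2, 2⟩
noncomputable def G_v1 : Lev :=
  ⟨1, 10, sg (W (nat_lit 0x44130441304411)), [[20], [22], [24]], 4, 3⟩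
noncomputable def G_v2 : Lev :=
  ⟨3, 8, sg (W (nat_lit 0x5c150541705415)), [[26], [24]], 7, 1⟩
noncomputable def G_v3 : Lev :=
  ⟨5, 4, sg (W (nat_lit 0x641b)), [[28]], 8, 1⟩
noncomputable def G_v4 : Lev :=
  ⟨9, 3, sg (W (nat_lit 0x741d)), [], 9, 0⟩
noncomputable def G_vs5 : List Lev :=
  []
noncomputable def G_vs4 : List Lev :=
  G_v4 :: G_vs5
noncomputable def G_vs3 : List Lev :=
  G_v3 :: G_vs4
noncomputable def G_vs2 : List Lev :=
  G_v2 :: G_vs3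
noncomputable def G_vs1 : List Lev :=
  G_v1 :: G_vs2
noncomputable def G_vs : List Lev :=
  G_v0 :: G_vs1

theorem zv0 : vecB (tabP 2).q 1 6 P V = true := by decide +kernel
theorem zv1 : Nat.beq (lenL ms) (lenL ns0) = true := by decide +kernel
theorem zv2 : allL ((tabP 2).actB 1 6 P V) (zp Net.nil ms ns0) = true := by decide +kernel
theorem zv3 : (tabP 2).basB 6 P V [0, 1, 3, 5, 9, 15] [[1, 0, 0, 0, 1, 1], [0, 1, 0, 0, 0, 0], [0, 0, 1, 0, 1, 1], [0, 0, 0, 1, 0, 0], [0, 0, 0, 0, 1, 0], [0, 0, 0, 0, 0, 1]] = true := by decide +kernel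
theorem zv4 : allL ((tabP 2).quadB 6 (aMinus 2 1 1)) ms = true := by decide +kernel
theorem zr5 : chk (zp [] [[12], [14]] (mapL comW ps)) = true := by decide +kernel
theorem zc6 : P.chainB ns D G_vs [[12], [14]] = true := by decide +kernel
theorem zk7 : allL (keepB P.n P.N) ns0 = true := by decide +kernel
theorem ze8 : extB ns0 ns 6 ws [] = true := by decide +kernel
theorem zn9 : P.netsB ns (mkDefs ws 6) = true := by decide +kernel

section
variable {G X : Type*} [Group G] [MulAction G X] {e : ℕ → X} {gs : List G}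

theorem keep0 : allL (keepB P.n P.N) ns0 = true := zk7

theorem len {k} (c : Ctx P e gs ns0 [] k) : gs.length = 6 := c.len ze8

theorem ctx0 {k} (c : Ctx P e gs ns0 [] k) : Ctx P e (ext gs ws) ns D chk0 :=
  c.ext rfl ze8 zn9

theorem ctx {k} (c : Ctx P e gs ns0 [] k) {H : Subgroup G} (hF : Faithful e P.n H) (hH : ∀ g ∈ gs, g ∈ H) :
    Ctx P e (ext gs ws) ns D chk :=
  (ctx0 c).withB hF (mem_of_mem_ext hH _)

theorem hV : vecB (tabP 2).q 1 6 P V = true := zv0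
theorem hact : allL ((tabP 2).actB 1 6 P V) (zp Net.nil ms ns0) = true := zv2
theorem hinv : allL ((tabP 2).invB 6) ms = true := actB_invB hact
theorem base {F : Type*} [Field F] {el : ℕ → F} (h : FC (tabP 2) el) : Ctx P (vecOf el (sMinus 2) (tabP 2).q P.N V) (List.map (glF el (sMinus 2)) ms) ns0 [] chk0 :=
  ctx_mat h (ix_minus 2) hP hV zv1 hact
theorem faith {F : Type*} [Field F] {el : ℕ → F} (h : FC (tabP 2) el) : Faithful (vecOf el (sMinus 2) (tabP 2).q P.N V) P.n (⊤ : Subgroup (GL ((Fin 2 ⊕ Fin 2) ⊕ Fin 2) F)) :=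
  faithful_vecOf h (ix_minus 2) hP hV zv3
theorem c1 {F : Type*} [Field F] {el : ℕ → F} (h : FC (tabP 2) el) : Ctx P (vecOf el (sMinus 2) (tabP 2).q P.N V) (ext (List.map (glF el (sMinus 2)) ms) ws) ns D chk :=
  ctx (base h) (faith h) fun _ _ => trivial

theorem hq : allL ((tabP 2).quadB 6 (aMinus 2 1 1)) ms = true := zv4

theorem hcom (c : Ctx P e gs ns D chk) :
    Rels gs (zp [] [[12], [14]] (mapL comW ps)) :=
  (c.rels _ zr5)

theorem G_c : P.chainB ns D G_vs [[12], [14]] = true :=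
  zc6

theorem G_o : prodL G_vs 1 = 25920 := by decide +kernel

theorem G_lb (c : Ctx P e gs ns D chk) :
    LB (subW gs [[12], [14]]) 25920 :=
  c.lb G_c G_o

end
end CL.Std.W6m2.M

namespace CL.Std.W6m2
open CL.PG

def P : Par := ⟨27, 32, 5, 3⟩
theorem hP : P.Ok := by decide
noncomputable def a0 : Net := (.cons 16 (nat_lit 0x9e18)
 (.cons 8 (nat_lit 0x140030)
 (.cons 4 (nat_lit 0x40b0100)
 (.cons 2 (nat_lit 0x12211020)
 (.cons 1 (nat_lit 0x1040000)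
 (.cons 4 (nat_lit 0xc0a0008)
 (.cons 8 (nat_lit 0xa0030)
 (.cons 16 (nat_lit 0x9e18)
 .nil))))))))
noncomputable def a1 : Net := (.cons 16 (nat_lit 0x24fc)
 (.cons 8 (nat_lit 0x70086)
 (.cons 4 (nat_lit 0x2000d02)
 (.cons 2 (nat_lit 0x220231)
 (.cons 1 (nat_lit 0x410451)
 (.cons 2 (nat_lit 0x220200)
 (.cons 4 (nat_lit 0x40404)
 (.cons 8 (nat_lit 0x46)
 (.cons 16 (nat_lit 0x2788)
 .nil)))))))))
noncomputable def a2 : Net := (.cons 16 (nat_lit 0xac0)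
 (.cons 8 (nat_lit 0x460018)
 (.cons 4 (nat_lit 0x4010100)
 (.cons 2 (nat_lit 0x1000020)
 (.cons 1 (nat_lit 0x4050510)
 (.cons 4 (nat_lit 0x4080800)
 (.cons 8 (nat_lit 0x460018)
 (.cons 16 (nat_lit 0x8d0)
 .nil))))))))
noncomputable def a3 : Net := (.cons 16 (nat_lit 0xad4)
 (.cons 8 (nat_lit 0x170058)
 (.cons 4 (nat_lit 0x1000102)
 (.cons 2 (nat_lit 0x3033000)
 (.cons 1 (nat_lit 0x1000010)
 (.cons 2 (nat_lit 0x2000020)
 (.cons 4 (nat_lit 0x80802)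
 (.cons 8 (nat_lit 0x120058)
 (.cons 16 (nat_lit 0xad4)
 .nil)))))))))
noncomputable def a4 : Net := (.cons 16 (nat_lit 0x3c30)
 (.cons 8 (nat_lit 0xff0030)
 (.cons 4 (nat_lit 0x30200)
 (.cons 2 (nat_lit 0x3033000)
 (.cons 4 (nat_lit 0xc000400)
 (.cons 8 (nat_lit 0xf00030)
 (.cons 16 (nat_lit 0x3c30)
 .nil)))))))
noncomputable def a5 : Net := (.cons 16 (nat_lit 0x22aa)
 (.cons 8 (nat_lit 0x200038)
 (.cons 4 (nat_lit 0x20d020c)
 (.cons 2 (nat_lit 0x1112202)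
 (.cons 1 (nat_lit 0x1505004)
 (.cons 4 (nat_lit 0x208080c)
 (.cons 8 (nat_lit 0x40038)
 (.cons 16 (nat_lit 0x22aa)
 .nil))))))))
noncomputable def a6 : Net := (.cons 16 (nat_lit 0x52c0)
 (.cons 8 (nat_lit 0x460048)
 (.cons 4 (nat_lit 0x50e0e08)
 (.cons 2 (nat_lit 0x1000020)
 (.cons 1 (nat_lit 0x50500)
 (.cons 4 (nat_lit 0x4080800)
 (.cons 8 (nat_lit 0x460048)
 (.cons 16 (nat_lit 0x52c0)
 .nil))))))))
noncomputable def ns0 : List Net := [a0, a1]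
noncomputable def ws : List (List ℕ) :=
  [W (nat_lit 0x300c0201004),
  W (nat_lit 0xc0100404),
  W (nat_lit 0x4040100200c03),
  W (nat_lit 0x70140a01808),
  W (nat_lit 0xa014090180c)]
noncomputable def ns : List Net := [a0, a1, a2, a3, a4, a5, a6]
noncomputable def D : List (ℕ × List ℕ) := app [] (mkDefs ws 2)
noncomputable def chk : List (List ℕ × List ℕ) → Bool := P.relsB ns
noncomputable def G_v0 : Lev :=
  ⟨0, 27, sg (W (nat_lit 0xc0100c0100c0100c030040300403)), [[4], [6], [8]], 0, 3⟩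
noncomputable def G_v1 : Lev :=
  ⟨1, 10, sg (W (nat_lit 0x7014090240501407)), [[10], [5], [9]], 3, 1⟩
noncomputable def G_v2 : Lev :=
  ⟨3, 8, sg (W (nat_lit 0xb0180602c0b)), [[9], [12]], 4, 1⟩
noncomputable def G_v3 : Lev :=
  ⟨5, 4, sg (W (nat_lit 0xa0280d)), [[9]], 5, 0⟩
noncomputable def G_v4 : Lev :=
  ⟨9, 3, sg (W (nat_lit 0x280a)), [], 5, 0⟩
noncomputable def G_vs5 : List Lev :=
  []
noncomputable def G_vs4 : List Lev :=
  G_v4 :: G_vs5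
noncomputable def G_vs3 : List Lev :=
  G_v3 :: G_vs4
noncomputable def G_vs2 : List Lev :=
  G_v2 :: G_vs3
noncomputable def G_vs1 : List Lev :=
  G_v1 :: G_vs2
noncomputable def G_vs : List Lev :=
  G_v0 :: G_vs1
noncomputable def zE1 : Net :=
  .nil
noncomputable def zK2 : Lk :=
  ⟨zE1, 1, 3, 1⟩

theorem zc0 : P.chainB ns D G_vs [[0], [2]] = true := by decide +kernel
theorem zl3 : zK2.relB CL.Std.W6m2.M.P CL.Std.W6m2.P CL.Std.W6m2.M.ns [[12], [14]] [[0], [2]] = true := by decide +kernel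
theorem zl4 : allL (zK2.pl CL.Std.W6m2.M.P CL.Std.W6m2.P CL.Std.W6m2.M.ns CL.Std.W6m2.ns 0) (zp [] [[12], [14]] [[0], [2]]) = true := by decide +kernel
theorem zk5 : allL (keepB P.n P.N) ns0 = true := by decide +kernel
theorem ze6 : extB ns0 ns 2 ws [] = true := by decide +kernel
theorem zn7 : P.netsB ns (mkDefs ws 2) = true := by decide +kernel

section
variable {G X : Type*} [Group G] [MulAction G X] {e : ℕ → X} {gs : List G}

theorem keep0 : allL (keepB P.n P.N) ns0 = true := zk5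

theorem len {k} (c : Ctx P e gs ns0 [] k) : gs.length = 2 := c.len ze6

theorem ctx0 {k} (c : Ctx P e gs ns0 [] k) : Ctx P e (ext gs ws) ns D chk0 :=
  c.ext rfl ze6 zn7

theorem ctx {k} (c : Ctx P e gs ns0 [] k) {H : Subgroup G} (hF : Faithful e P.n H) (hH : ∀ g ∈ gs, g ∈ H) :
    Ctx P e (ext gs ws) ns D chk :=
  (ctx0 c).withB hF (mem_of_mem_ext hH _)

instance instNe : NeZero P.n := ⟨by decide⟩
noncomputable def gs0 : List (Equiv.Perm (Fin P.n)) := permsOf P.n P.N ns0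
noncomputable def gs1 : List (Equiv.Perm (Fin P.n)) := ext gs0 ws
theorem c1 : Ctx P (eF P.n) gs1 ns D chk :=
  ctx (ctx_permsOf hP keep0) (faithful_eF _) fun _ _ => trivial

theorem G_c : P.chainB ns D G_vs [[0], [2]] = true :=
  zc0

theorem G_o : prodL G_vs 1 = 25920 := by decide +kernel

theorem G_lb (c : Ctx P e gs ns D chk) :
    LB (subW gs [[0], [2]]) 25920 :=
  c.lb G_c G_o

theorem rel {Γ Y : Type*} [Group Γ] [MulAction Γ Y] {e' : ℕ → Y} {cs : List Γ} {D₁ D₂ : List (ℕ × List ℕ)}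
    {k₁ k₂ : List (List ℕ × List ℕ) → Bool} (c : Ctx CL.Std.W6m2.M.P e gs CL.Std.W6m2.M.ns D₁ k₁) (c' : Ctx CL.Std.W6m2.P e' cs CL.Std.W6m2.ns D₂ k₂)
    (hF : Faithful e' CL.Std.W6m2.P.n (subW cs [[0], [2]])) :
    RelLe gs [[12], [14]] cs [[0], [2]] :=
  c.relLe (K := zK2) c' hF zl3 (fun (t : ℕ) (ht : t < 1) => match t, ht with
    | 0, _ => zl4
    | t + 1, h => absurd h (by omega))

theorem iso {F : Type*} [Field F] [Fintype F] (hF : Fintype.card F = 2) :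
    Nonempty ((subW gs1 [[0], [2]]) ≃* Cfsg.Omega F (Cfsg.quadFormMinus 2 F 1 1)) := by
  obtain ⟨el, h⟩ := Tab.exists_fc (tabP 2) (by decide +kernel) F hF
  have hc : Nat.card (Cfsg.Omega F (Cfsg.quadFormMinus 2 F 1 1)) = 25920 := card_om_even (Cls.qfMinus 2 F 1 1) (Cls.nondeg_qfMinus _ _ (fun x y e => h.aniso (a := 1) (b := 1) (by decide +kernel) x y (by simpa only [h.zero, h.one] using e))) (h.two_eq (by decide +kernel)) (by simp) (o := 51840) (card_o_minus hF 2 (fun x y e => h.aniso (a := 1) (b := 1) (by decide +kernel) x y (by simpa only [h.zero, h.one] using e)) (by decide +kernel)) (by decide +kernel)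
  have hK := subW_eq_range (l := [[12], [14]]) (omegaHom (Cfsg.quadFormMinus 2 F 1 1)) (omegaHom_inj _) hc (by norm_num)
    ((subW_le_commutator (mem_of_mem_ext (forall_mem_isom h (ix_minus 2) (by decide +kernel) (fun v => by simpa only [h.zero, h.one] using quadFormMinus_eq h 2 1 1 v) M.hinv M.hq) _) (M.hcom (M.c1 h))).trans (range_omegaHom _).ge) (M.G_lb (M.c1 h))
  exact (rel (M.c1 h) c1 ((faithful_eF _).mono le_top)).iso_of_range (omegaHom (Cfsg.quadFormMinus 2 F 1 1)) (omegaHom_inj _) hc (by norm_num) hK (G_lb c1)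
theorem card : Nat.card (subW gs1 [[0], [2]]) = 25920 := by
  obtain ⟨F, _, _, hF⟩ := exists_field 2 1 (by norm_num)
  replace hF : Fintype.card F = 2 := hF
  obtain ⟨el, h⟩ := Tab.exists_fc (tabP 2) (by decide +kernel) F hF
  exact (Nat.card_congr (iso hF).some.toEquiv).trans (card_om_even (Cls.qfMinus 2 F 1 1) (Cls.nondeg_qfMinus _ _ (fun x y e => h.aniso (a := 1) (b := 1) (by decide +kernel) x y (by simpa only [h.zero, h.one] using e))) (h.two_eq (by decide +kernel)) (by simp) (o := 51840) (card_o_minus hF 2 (fun x y e => h.aniso (a := 1) (b := 1) (by decide +kernel) x y (by simpa only [h.zero, h.one] using e)) (by decide +kernel)) (by decide +kernel))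
theorem ub : UB (subW gs1 [[0], [2]]) 25920 := UB.of_card card (by norm_num)

end
end CL.Std.W6m2

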