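import Cfsg.Agent.Spor.TCSound

/-! coset enumeration certificate generated by tools/tc -/

set_option maxRecDepth 100000
set_option autoImplicit false
set_option linter.all false

namespace CL.TC.SzU1

noncomputable def rows0 : Tr ℕ := (.node (nat_lit 2) (.node (nat_lit 1) (.leaf (nat_lit 0xf4e21e4c43db087a310faa1ffc41fb188f67082ef461fed43fa18a7a40efe20ff0c43b304f431241ee633e5c2fc987f2314faa1bfc41ba189fe31c2eee62de542bda86fa30dfe20df0c3bf18dfe31a41fe20be981bd1867b50cf8633f0c5bda067a30c8df061df8c67db05fa30bfaa15fc417f18c7e3172ef061bf8c5bd189fc409fe20bf0c2ff18afe31441f4e13e4c27d9857e313faa11fc413f1897530f2ef4611ed423da847a308fe209f0c27a9887e31141f8c0fecc1fea037f103fc621f8c3fd183fb50754f2619ed017f881fc307fc61df8c37e2837b30667f460df8c33ea027f102fc617f8c2bd982fc50554f8a09ecc13f8817c305fc613f8c23da827a30467fa805fc407f183fe306f6607f100fe181fd4037afe203f0c0ff182fe304fa805f0c0bea017c3028dfc607f8c0be180fd201fa603f8807f180ff20100))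 (.leaf (nat_lit 0xfe22bd986ff193ef322ee645f0c9bda0f7da168de8649f8c9bf192ef324fe22be605fc98ffa91f41fe229d986b7991f1519f283de0c7bea0b7a3208de6831fc44fc48b76321ee63be10778991734197aea645de05fa38972615f2649ed86ff887747131bea641de457cc0df831bf4639f8c93eb8d7f10d08ea63dde053c98d7a61af4c35e4c6bf886fc31b1bfe217e183b818f7e323f682df5c33918efc3228de9027c8c77cc0c78318f6e31e8c63eb8bff10b08ec639f8c8bc98bfa617f063fe9857f885fc3181bfe215e1837f190f731dfa819e8c67e1907c31e8dec637f8c83898e7a812f262ff8c7feb8a7f10a08ec635f8c7b9b877560ff6c29e8c53f8857c3151bfc63bccc63f884fb70af2627e944f998e7580e67f1025dcc4bc98af331cf2e25e0c4bab87ff10908f0623e6047c988fa611f2c23e0c47f884776101b))) (.leaf (nat_lit 0xe8651d54a3999474428fe243d608f61946d92841e8c4fccc9f7a117f120dd04fb4c9f7c11fb52154fe23fd189361936d526fa841ddc8bca13783268ddd24bb4c977a127f11fdd04bb4c97b992f852554e664dd547f828fee325fe237ea073c1927992441dc647bd08ff88cf071ee8651d94879290ee32767fe22fd987385106e327ec64de1c83ea0cf2a1d8decc43d4c87ba0eff116ea647f8ca3d193f132354)))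
noncomputable def recs0 : Tr ℕ := (.leaf (nat_lit 0x16701540141012e011b0108))
noncomputable def rows : Tr ℕ := rows0
noncomputable def recs : Tr ℕ := recs0
noncomputable def ci0 : CI := ⟨[], (nat_lit 0), false, (.node (nat_lit 1) (.leaf Rule.defn) (.leaf Rule.copy)), (.leaf (XRule.rot (nat_lit 0) [] 22 0))⟩
noncomputable def ci8 : CI := ⟨[0], (nat_lit 27), true, (.node (nat_lit 8) (.node (nat_lit 4) (.node (nat_lit 2) (.node (nat_lit 1) (.leaf Rule.defn) (.leaf Rule.copy)) (.node (nat_lit 1) (.leaf (Rule.fwd [nat_lit 27] 22 0)) (.leaf (Rule.fwd [nat_lit 122, nat_lit 27, nat_lit 141] 16 0)))) (.node (nat_lit 2) (.node (nat_lit 1) (.leaf (Rule.fwd [nat_lit 84, nat_lit 27, nat_lit 103] 14 0)) (.leaf (Rule.fwd [nat_lit 46, nat_lit 103, nat_lit 122, nat_lit 103, nat_lit 46, nat_lit 103, nat_lit 8, nat_lit 46, nat_lit 103, nat_lit 122, nat_lit 103, nat_lit 46, nat_lit 103] 20 0))) (.node (nat_lit 1) (.leaf (Rule.fwd [nat_lit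 8, nat_lit 8] 0 0)) (.leaf (Rule.fwd [nat_lit 103, nat_lit 27, nat_lit 84] 15 3))))) (.node (nat_lit 1) (.leaf (Rule.fwd [nat_lit 65, nat_lit 27, nat_lit 65, nat_lit 8, nat_lit 46] 8 2)) (.leaf (Rule.fwd [nat_lit 141, nat_lit 27, nat_lit 122] 17 3)))), (.node (nat_lit 1) (.leaf XRule.defn) (.leaf XRule.ax))⟩
noncomputable def ci27 : CI := ⟨[1], (nat_lit 8), false, (.node (nat_lit 4) (.node (nat_lit 2) (.node (nat_lit 1) (.leaf Rule.defn) (.leaf Rule.copy)) (.node (nat_lit 1) (.leaf (Rule.fwd [nat_lit 8] 22 0)) (.leaf (Rule.fwd [nat_lit 141, nat_lit 8, nat_lit 122] 16 2)))) (.node (nat_lit 2) (.node (nat_lit 1) (.leaf (Rule.fwd [nat_lit 103, nat_lit 8, nat_lit 84] 14 2)) (.leaf (Rule.fwd [nat_lit 65, nat_lit 8, nat_lit 46, nat_lit 8, nat_lit 65] 8 4))) (.node (nat_lit 1) (.leaf (Rule.fwd [nat_lit 27, nat_lit 27] 1 0)) (.leaf (Rule.fwd [nat_lit 84, nat_lit 8, nat_lit 103] 15 1))))), (.node (nat_lit 1) (.leaf XRule.defn)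 (.leaf XRule.defn))⟩
noncomputable def ci46 : CI := ⟨[2], (nat_lit 65), true, (.node (nat_lit 4) (.node (nat_lit 2) (.node (nat_lit 1) (.leaf Rule.defn) (.leaf Rule.copy)) (.node (nat_lit 1) (.leaf (Rule.fwd [nat_lit 65] 22 0)) (.leaf (Rule.fwd [nat_lit 122, nat_lit 65, nat_lit 141] 18 0)))) (.node (nat_lit 2) (.node (nat_lit 1) (.leaf (Rule.fwd [nat_lit 103, nat_lit 65, nat_lit 103, nat_lit 46, nat_lit 84] 10 2)) (.leaf (Rule.fwd [nat_lit 8, nat_lit 65, nat_lit 27, nat_lit 65, nat_lit 8] 8 1))) (.node (nat_lit 1) (.leaf (Rule.fwd [nat_lit 141, nat_lit 65, nat_lit 122] 19 3)) (.leaf (Rule.fwd [nat_lit 46, nat_lit 46] 2 0))))), (.node (nat_lit 1) (.leaf XRule.defn) (.leaf XRule.ax))⟩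
noncomputable def ci65 : CI := ⟨[3], (nat_lit 46), false, (.node (nat_lit 4) (.node (nat_lit 2) (.node (nat_lit 1) (.leaf Rule.defn) (.leaf Rule.copy)) (.node (nat_lit 1) (.leaf (Rule.fwd [nat_lit 46] 22 0)) (.leaf (Rule.fwd [nat_lit 141, nat_lit 46, nat_lit 122] 18 2)))) (.node (nat_lit 2) (.node (nat_lit 1) (.leaf (Rule.fwd [nat_lit 65, nat_lit 65] 3 0)) (.leaf (Rule.fwd [nat_lit 27, nat_lit 65, nat_lit 8, nat_lit 46, nat_lit 8] 8 3))) (.node (nat_lit 1) (.leaf (Rule.fwd [nat_lit 8, nat_lit 46, nat_lit 8, nat_lit 65, nat_lit 27] 8 5)) (.leaf (Rule.fwd [nat_lit 103, nat_lit 46, nat_lit 84, nat_lit 46, nat_lit 103] 10 4))))), (.node (nat_lit 1) (.leaf XRule.defn) (.leaf XRule.defn))⟩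
noncomputable def ci84 : CI := ⟨[4], (nat_lit 103), true, (.node (nat_lit 4) (.node (nat_lit 2) (.node (nat_lit 1) (.leaf Rule.defn) (.leaf Rule.copy)) (.node (nat_lit 1) (.leaf (Rule.fwd [nat_lit 103] 22 0)) (.leaf (Rule.fwd [nat_lit 46, nat_lit 103, nat_lit 65, nat_lit 103, nat_lit 46] 10 1)))) (.node (nat_lit 2) (.node (nat_lit 1) (.leaf (Rule.fwd [nat_lit 141, nat_lit 103, nat_lit 141, nat_lit 84, nat_lit 122] 12 2)) (.leaf (Rule.fwd [nat_lit 27, nat_lit 103, nat_lit 8] 14 1))) (.node (nat_lit 1) (.leaf (Rule.fwd [nat_lit 84, nat_lit 84] 4 0)) (.leaf (Rule.fwd [nat_lit 8, nat_lit 103, nat_lit 27] 15 0))))), (.node (nat_lit 1) (.leaf XRule.defn) (.leaf XRule.ax))⟩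
noncomputable def ci103 : CI := ⟨[5], (nat_lit 84), false, (.node (nat_lit 8) (.node (nat_lit 4) (.node (nat_lit 2) (.node (nat_lit 1) (.leaf Rule.defn) (.leaf Rule.copy)) (.node (nat_lit 1) (.leaf (Rule.fwd [nat_lit 84] 22 0)) (.leaf (Rule.fwd [nat_lit 103, nat_lit 103] 5 0)))) (.node (nat_lit 2) (.node (nat_lit 1) (.leaf (Rule.fwd [nat_lit 65, nat_lit 103, nat_lit 46, nat_lit 84, nat_lit 46] 10 3)) (.leaf (Rule.fwd [nat_lit 46, nat_lit 84, nat_lit 46, nat_lit 103, nat_lit 65] 10 5))) (.node (nat_lit 1) (.leaf (Rule.fwd [nat_lit 27, nat_lit 84, nat_lit 8] 15 2)) (.leaf (Rule.fwd [nat_lit 8, nat_lit 84, nat_lit 27] 14 3))))) (.node (nat_lit 1) (.leaf (Rule.fwd [nat_lit 141, nat_lit 84, nat_lit 122, nat_lit 84, nat_lit 141] 12 4)) (.leaf (Rule.fwd [nat_lit 141, nat_lit 103, nat_lit 122, nat_lit 84, nat_lit 122] 13 3)))), (.node (nat_lit 1) (.leaf XRule.defn) (.leaf XRule.defn))⟩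
noncomputable def ci122 : CI := ⟨[6], (nat_lit 141), false, (.node (nat_lit 8) (.node (nat_lit 4) (.node (nat_lit 2) (.node (nat_lit 1) (.leaf Rule.defn) (.leaf Rule.copy)) (.node (nat_lit 1) (.leaf (Rule.fwd [nat_lit 141] 22 0)) (.leaf (Rule.fwd [nat_lit 84, nat_lit 141, nat_lit 103, nat_lit 141, nat_lit 84] 12 1)))) (.node (nat_lit 2) (.node (nat_lit 1) (.leaf (Rule.fwd [nat_lit 65, nat_lit 141, nat_lit 46] 18 1)) (.leaf (Rule.fwd [nat_lit 122, nat_lit 122] 6 0))) (.node (nat_lit 1) (.leaf (Rule.fwd [nat_lit 46, nat_lit 141, nat_lit 65] 19 0)) (.leaf (Rule.fwd [nat_lit 27, nat_lit 141, nat_lit 8] 16 1))))) (.leaf (Rule.fwd [nat_lit 8, nat_lit 141, nat_lit 27] 17 0))), (.node (nat_lit 1) (.leaf XRule.defn) (.leaf XRule.defn))⟩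
noncomputable def ci141 : CI := ⟨[7], (nat_lit 122), false, (.node (nat_lit 8) (.node (nat_lit 4) (.node (nat_lit 2) (.node (nat_lit 1) (.leaf Rule.defn) (.leaf Rule.copy)) (.node (nat_lit 1) (.leaf (Rule.fwd [nat_lit 122] 22 0)) (.leaf (Rule.fwd [nat_lit 141, nat_lit 141] 7 0)))) (.node (nat_lit 2) (.node (nat_lit 1) (.leaf (Rule.fwd [nat_lit 103, nat_lit 141, nat_lit 84, nat_lit 122, nat_lit 84] 12 3)) (.leaf (Rule.fwd [nat_lit 84, nat_lit 122, nat_lit 84, nat_lit 141, nat_lit 103] 12 5))) (.node (nat_lit 1) (.leaf (Rule.fwd [nat_lit 46, nat_lit 122, nat_lit 65] 18 3)) (.leaf (Rule.fwd [nat_lit 8, nat_lit 122, nat_lit 27] 16 3))))) (.leaf (Rule.fwd [nat_lit 103, nat_lit 122, nat_lit 84, nat_lit 122, nat_lit 103] 13 2))), (.node (nat_lit 1) (.leaf XRule.defn) (.leaf XRule.defn))⟩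
noncomputable def outer : Tr CI := (.node (nat_lit 1) (.node (nat_lit 2) (.node (nat_lit 4) (.node (nat_lit 8) (.leaf ci0) (.leaf ci8)) (.leaf ci84)) (.node (nat_lit 4) (.leaf ci122) (.leaf ci46))) (.node (nat_lit 2) (.node (nat_lit 4) (.leaf ci65) (.leaf ci141)) (.node (nat_lit 4) (.leaf ci27) (.leaf ci103))))
def cols : List ℕ := [nat_lit 8, nat_lit 27, nat_lit 46, nat_lit 65, nat_lit 84, nat_lit 103, nat_lit 122, nat_lit 141]
def invL : List ℕ := [1, 0, 3, 2, 5, 4, 7, 6]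
def rels : List (List ℕ) := [[0, 0, 0], [2, 2, 2], [4, 4, 4], [6, 6, 6], [0, 2, 0, 3, 1, 3], [2, 4, 2, 5, 3, 5], [4, 6, 4, 7, 5, 7], [0, 4, 1, 5], [0, 6, 1, 7], [2, 6, 3, 7], [0, 2, 5, 6, 5, 2, 5, 0, 2, 5, 6, 5, 2, 5]]
def subs : List (List ℕ) := [[0], [2], [4]]
noncomputable def row (n : ℕ) : ℕ := rowOf (fun h => rows.get h) (nat_lit 4) (nat_lit 15) (nat_lit 160) (nat_lit 0xffffffffffffffffffffffffffffffffffffffff) n
noncomputable def xleaf (h : ℕ) : ℕ := recs.get h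
noncomputable def mF : ℕ → ℕ := mainRow row (rowChk row xleaf outer (nat_lit 8) (nat_lit 255) (nat_lit 15) (nat_lit 12) (nat_lit 4095) (nat_lit 524287) (nat_lit 128) (nat_lit 40) (nat_lit 256) (nat_lit 8) (nat_lit 255) (nat_lit 16) (nat_lit 65535) (nat_lit 8) (nat_lit 255) cols)
noncomputable def xF : ℕ → ℕ → ℕ := xLeaf row xleaf outer (nat_lit 255) (nat_lit 12) (nat_lit 524287) (nat_lit 128) (nat_lit 40) (nat_lit 8) (nat_lit 255) (nat_lit 16) (nat_lit 65535) (nat_lit 65280) (nat_lit 8) (nat_lit 255) (nat_lit 10) (nat_lit 1023) (nat_lit 2) (nat_lit 3) (nat_lit 141) (nat_lit 10240) (nat_lit 128)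
noncomputable def cert : Cert := ⟨row, xleaf, outer, cols, nat_lit 8, nat_lit 255, nat_lit 15, nat_lit 12, nat_lit 4095, nat_lit 524287, nat_lit 128, nat_lit 40, nat_lit 256, nat_lit 8, nat_lit 255, nat_lit 16, nat_lit 65535, nat_lit 65280, nat_lit 8, nat_lit 255, nat_lit 10, nat_lit 1023, nat_lit 2, nat_lit 3, nat_lit 141, nat_lit 10240, nat_lit 128, nat_lit 19, nat_lit 128, nat_lit 1⟩
theorem tabok : tabOK (fun i => invL.getD i i) rels subs outer cols (nat_lit 8) (nat_lit 141) = true := by decide +kernel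
theorem m0 : rng mF (nat_lit 1) (nat_lit 40) = 0 := by decide +kernel
noncomputable def s0 : List ℕ := [nat_lit 0x401004000000000000000000000000000000000000000000000000000000000000000000000000000000000000000000000000000000000000000000000000000000000000000000000000000000000000000000000000000000000000000000000000000000000000000000000000000000000000000000000000000000000000000000000000000000000000000000000000000000000000000000000000]
theorem x0 : xs xF s0 (nat_lit 1) = 0 := by decide +kernel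
theorem mz0 : AllZ mF 1 (nat_lit 41) := (AllZ.step (AllZ.nil mF 1) (nat_lit 40) (nat_lit 41) rfl m0)
theorem xz0 : XZ xF (nat_lit 1) := (XZ.step (XZ.nil xF) s0 (nat_lit 1) (nat_lit 1) (by decide +kernel) x0)
/-- the certificate (40 points) is valid -/
theorem valid : cert.Valid (fun i => invL.getD i i) rels subs 8 :=
  ⟨by decide +kernel, tabok, by decide +kernel, mz0, xz0⟩
theorem cert_N : cert.N = 40 := rfl

end CL.TC.SzU1
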