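import Cfsg.Agent.Spor.TCSound

/-! coset enumeration certificate generated by tools/tc -/

set_option maxRecDepth 100000
set_option autoImplicit false
set_option linter.all false

namespace CL.TC.SzU2

noncomputable def rows0 : Tr ℕ := (.node (nat_lit 1) (.leaf (nat_lit 0xf7c43d310f9843db10fb43ff9070fed87fca1fe58a7b81dfc83fc62067c313f5c2fd30ffcc53ed0dfe4183f8625ea857ca1bed86ff20df18719fe417de06f4c33dd0cf8c4fe312c3e5877e627ef05fa617f6857f20a1fcb0dfcc4bd311f9027f905f8c2ccfbe13e984fb615f988fda11fc8207f6c23e508f7423d308fe413e30933f703fc60ff6037f207f9887e61eafd30cf9017f903f8c1ff30efcc35efb60df9867d809fc817e617f9852bfb413e304fe40be305fcc27f3087bf6017f203f983fe60df181fd8073ff901f8c0ff305fcc13ec02f8c0b0fe607f9817d603f900fe603fd0080)) (.leaf (nat_lit 0x1d58df6a37cd8df4837fc8bf5e3067b419fe453af1ae8c6bc31af306a7f7c29d58d7d831fc89f5c33d18cabf3463c318fe44fe319e8c6fb5177bdf0bf662fe20b7f225d58c7e636afec15fe447cf12eec5fbb16f105a7ff223f18b7962bea8af982be18ae1fcc6bb319fe43bd60ff4c53dd147bfc85f9c1df98cfe631ee097dc1987f90af3837f317f0c5bec0cf4c4f0fe62df98aff213ef0579623ea88bd)))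
noncomputable def recs0 : Tr ℕ := (.leaf (nat_lit 0x17a02ac04c8087))
noncomputable def rows : Tr ℕ := rows0
noncomputable def recs : Tr ℕ := recs0
noncomputable def ci0 : CI := ⟨[], (nat_lit 0), false, (.node (nat_lit 1) (.leaf Rule.defn) (.leaf Rule.copy)), (.leaf (XRule.rot (nat_lit 0) [] 12 0))⟩
noncomputable def ci7 : CI := ⟨[0], (nat_lit 25), true, (.node (nat_lit 4) (.node (nat_lit 2) (.node (nat_lit 1) (.leaf Rule.defn) (.leaf Rule.copy)) (.node (nat_lit 1) (.leaf (Rule.fwd [nat_lit 25] 12 0)) (.leaf (Rule.fwd [nat_lit 79, nat_lit 25, nat_lit 97] 10 0)))) (.node (nat_lit 2) (.node (nat_lit 1) (.leaf (Rule.fwd [nat_lit 61, nat_lit 25, nat_lit 61, nat_lit 7, nat_lit 43] 6 2)) (.leaf (Rule.fwd [nat_lit 97, nat_lit 25, nat_lit 79] 11 3))) (.leaf (Rule.fwd [nat_lit 7, nat_lit 7] 0 0)))), (.node (nat_lit 1) (.leaf XRule.defn) (.leaf XRule.ax))⟩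
noncomputable def ci25 : CI := ⟨[1], (nat_lit 7), false, (.node (nat_lit 4) (.node (nat_lit 2) (.node (nat_lit 1) (.leaf Rule.defn) (.leaf Rule.copy)) (.node (nat_lit 1) (.leaf (Rule.fwd [nat_lit 7] 12 0)) (.leaf (Rule.fwd [nat_lit 97, nat_lit 7, nat_lit 79] 10 2)))) (.node (nat_lit 1) (.leaf (Rule.fwd [nat_lit 25, nat_lit 25] 1 0)) (.leaf (Rule.fwd [nat_lit 61, nat_lit 7, nat_lit 43, nat_lit 7, nat_lit 61] 6 4)))), (.node (nat_lit 1) (.leaf XRule.defn) (.leaf XRule.defn))⟩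
noncomputable def ci43 : CI := ⟨[2], (nat_lit 61), true, (.node (nat_lit 4) (.node (nat_lit 2) (.node (nat_lit 1) (.leaf Rule.defn) (.leaf Rule.copy)) (.node (nat_lit 1) (.leaf (Rule.fwd [nat_lit 61] 12 0)) (.leaf (Rule.fwd [nat_lit 7, nat_lit 61, nat_lit 25, nat_lit 61, nat_lit 7] 6 1)))) (.node (nat_lit 1) (.leaf (Rule.fwd [nat_lit 97, nat_lit 61, nat_lit 97, nat_lit 43, nat_lit 79] 8 2)) (.leaf (Rule.fwd [nat_lit 43, nat_lit 43] 2 0)))), (.node (nat_lit 1) (.leaf XRule.defn) (.leaf XRule.ax))⟩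
noncomputable def ci61 : CI := ⟨[3], (nat_lit 43), false, (.node (nat_lit 4) (.node (nat_lit 2) (.node (nat_lit 1) (.leaf Rule.defn) (.leaf Rule.copy)) (.node (nat_lit 1) (.leaf (Rule.fwd [nat_lit 43] 12 0)) (.leaf (Rule.fwd [nat_lit 61, nat_lit 61] 3 0)))) (.node (nat_lit 2) (.node (nat_lit 1) (.leaf (Rule.fwd [nat_lit 25, nat_lit 61, nat_lit 7, nat_lit 43, nat_lit 7] 6 3)) (.leaf (Rule.fwd [nat_lit 7, nat_lit 43, nat_lit 7, nat_lit 61, nat_lit 25] 6 5))) (.leaf (Rule.fwd [nat_lit 97, nat_lit 43, nat_lit 79, nat_lit 43, nat_lit 97] 8 4)))), (.node (nat_lit 1) (.leaf XRule.defn) (.leaf XRule.defn))⟩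
noncomputable def ci79 : CI := ⟨[4], (nat_lit 97), false, (.node (nat_lit 4) (.node (nat_lit 2) (.node (nat_lit 1) (.leaf Rule.defn) (.leaf Rule.copy)) (.node (nat_lit 1) (.leaf (Rule.fwd [nat_lit 97] 12 0)) (.leaf (Rule.fwd [nat_lit 43, nat_lit 97, nat_lit 61, nat_lit 97, nat_lit 43] 8 1)))) (.node (nat_lit 2) (.node (nat_lit 1) (.leaf (Rule.fwd [nat_lit 25, nat_lit 97, nat_lit 7] 10 1)) (.leaf (Rule.fwd [nat_lit 79, nat_lit 79] 4 0))) (.leaf (Rule.fwd [nat_lit 7, nat_lit 97, nat_lit 25] 11 0)))), (.node (nat_lit 1) (.leaf XRule.defn) (.leaf XRule.defn))⟩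
noncomputable def ci97 : CI := ⟨[5], (nat_lit 79), false, (.node (nat_lit 4) (.node (nat_lit 2) (.node (nat_lit 1) (.leaf Rule.defn) (.leaf Rule.copy)) (.node (nat_lit 1) (.leaf (Rule.fwd [nat_lit 79] 12 0)) (.leaf (Rule.fwd [nat_lit 97, nat_lit 97] 5 0)))) (.node (nat_lit 2) (.node (nat_lit 1) (.leaf (Rule.fwd [nat_lit 61, nat_lit 97, nat_lit 43, nat_lit 79, nat_lit 43] 8 3)) (.leaf (Rule.fwd [nat_lit 43, nat_lit 79, nat_lit 43, nat_lit 97, nat_lit 61] 8 5))) (.leaf (Rule.fwd [nat_lit 7, nat_lit 79, nat_lit 25] 10 3)))), (.node (nat_lit 1) (.leaf XRule.defn) (.leaf XRule.defn))⟩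
noncomputable def outer : Tr CI := (.node (nat_lit 2) (.node (nat_lit 8) (.node (nat_lit 1) (.leaf ci0) (.leaf ci97)) (.node (nat_lit 4) (.leaf ci25) (.leaf ci61))) (.node (nat_lit 4) (.leaf ci43) (.node (nat_lit 8) (.leaf ci7) (.leaf ci79))))
def cols : List ℕ := [nat_lit 7, nat_lit 25, nat_lit 43, nat_lit 61, nat_lit 79, nat_lit 97]
def invL : List ℕ := [1, 0, 3, 2, 5, 4]
def rels : List (List ℕ) := [[0, 0, 0], [2, 2, 2], [4, 4, 4], [0, 2, 0, 3, 1, 3], [2, 4, 2, 5, 3, 5], [0, 4, 1, 5]]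
def subs : List (List ℕ) := [[0], [2]]
noncomputable def row (n : ℕ) : ℕ := rowOf (fun h => rows.get h) (nat_lit 4) (nat_lit 15) (nat_lit 115) (nat_lit 0x7ffffffffffffffffffffffffffff) n
noncomputable def xleaf (h : ℕ) : ℕ := recs.get h
noncomputable def mF : ℕ → ℕ := mainRow row (rowChk row xleaf outer (nat_lit 8) (nat_lit 255) (nat_lit 7) (nat_lit 11) (nat_lit 2047) (nat_lit 262143) (nat_lit 128) (nat_lit 27) (nat_lit 256) (nat_lit 7) (nat_lit 127) (nat_lit 15) (nat_lit 32767) (nat_lit 8) (nat_lit 255) cols)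
noncomputable def xF : ℕ → ℕ → ℕ := xLeaf row xleaf outer (nat_lit 255) (nat_lit 11) (nat_lit 262143) (nat_lit 128) (nat_lit 27) (nat_lit 7) (nat_lit 127) (nat_lit 15) (nat_lit 32767) (nat_lit 32640) (nat_lit 8) (nat_lit 255) (nat_lit 10) (nat_lit 1023) (nat_lit 2) (nat_lit 3) (nat_lit 97) (nat_lit 3456) (nat_lit 128)
noncomputable def cert : Cert := ⟨row, xleaf, outer, cols, nat_lit 8, nat_lit 255, nat_lit 7, nat_lit 11, nat_lit 2047, nat_lit 262143, nat_lit 128, nat_lit 27, nat_lit 256, nat_lit 7, nat_lit 127, nat_lit 15, nat_lit 32767, nat_lit 32640, nat_lit 8, nat_lit 255, nat_lit 10, nat_lit 1023, nat_lit 2, nat_lit 3, nat_lit 97, nat_lit 3456, nat_lit 128, nat_lit 18, nat_lit 128, nat_lit 1⟩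
theorem tabok : tabOK (fun i => invL.getD i i) rels subs outer cols (nat_lit 7) (nat_lit 97) = true := by decide +kernel
theorem m0 : rng mF (nat_lit 1) (nat_lit 27) = 0 := by decide +kernel
noncomputable def s0 : List ℕ := [nat_lit 0x401000000000000000000000000000000000000000000000000000000000000000000000000000000000000000000000000000000000000000000000000000000000000000000000000000000000000000000000000000000000000000000000000000000000000000000000000000000000000000000000000000000000000000000000000000000000000000000000000000000000000000000000000000]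
theorem x0 : xs xF s0 (nat_lit 1) = 0 := by decide +kernel
theorem mz0 : AllZ mF 1 (nat_lit 28) := (AllZ.step (AllZ.nil mF 1) (nat_lit 27) (nat_lit 28) rfl m0)
theorem xz0 : XZ xF (nat_lit 1) := (XZ.step (XZ.nil xF) s0 (nat_lit 1) (nat_lit 1) (by decide +kernel) x0)
/-- the certificate (27 points) is valid -/
theorem valid : cert.Valid (fun i => invL.getD i i) rels subs 6 :=
  ⟨by decide +kernel, tabok, by decide +kernel, mz0, xz0⟩
theorem cert_N : cert.N = 27 := rfl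

end CL.TC.SzU2
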