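import Cfsg.Agent.Spor.TCSound

/-! coset enumeration certificate generated by tools/tc -/

set_option maxRecDepth 100000
set_option autoImplicit false
set_option linter.all false

namespace CL.TC.SzU3

noncomputable def rows0 : Tr ℕ := (.node (nat_lit 1) (.leaf (nat_lit 0xfcc63d313fe41fe31133f7067b62ff6077f20c1fed0af4c4bf906f8c3ccfc62bf188fd819fc8287fcc5fe30ffe417e30d33f18a7e62df6057f2081fe312f8c3bf904f8c2ccfd811fc81fe62bf98a2bfe40fe309fcc4ff3127bf6037f205f988fe620aff902f8c1ff30ffcc39efd809fc80fe61bf9862bfe407e305fcc2ff30a7bf984fe611f6017f2021ff307fcc1bf901f8c0ccfe60bf9827e607f98100)) (.leaf (nat_lit 0xf504ff910f745fd41657f207ff219ee8b7a630aff90bf9c53cb18f4c5defbe23f706fd829fc8487f6c5bed0bfe427e31533ef0879631f6097f2101fdd0efb02bf908f8c4ccfde1be98afd821fc8387)))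
noncomputable def recs0 : Tr ℕ := (.leaf (nat_lit 0x0))
noncomputable def rows : Tr ℕ := rows0
noncomputable def recs : Tr ℕ := recs0
noncomputable def ci0 : CI := ⟨[], (nat_lit 0), false, (.node (nat_lit 1) (.leaf Rule.defn) (.leaf Rule.copy)), (.leaf (XRule.rot (nat_lit 0) [] 6 0))⟩
noncomputable def ci7 : CI := ⟨[0], (nat_lit 25), false, (.node (nat_lit 2) (.node (nat_lit 1) (.leaf Rule.defn) (.leaf Rule.copy)) (.node (nat_lit 1) (.leaf (Rule.fwd [nat_lit 25] 6 0)) (.leaf (Rule.fwd [nat_lit 43, nat_lit 7, nat_lit 61, nat_lit 25, nat_lit 61] 4 0)))), (.node (nat_lit 1) (.leaf XRule.defn) (.leaf XRule.defn))⟩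
noncomputable def ci25 : CI := ⟨[1], (nat_lit 7), false, (.node (nat_lit 4) (.node (nat_lit 2) (.node (nat_lit 1) (.leaf Rule.defn) (.leaf Rule.copy)) (.node (nat_lit 1) (.leaf (Rule.fwd [nat_lit 7] 6 0)) (.leaf (Rule.fwd [nat_lit 25, nat_lit 25] 1 0)))) (.leaf (Rule.fwd [nat_lit 61, nat_lit 7, nat_lit 43, nat_lit 7, nat_lit 61] 4 4))), (.node (nat_lit 1) (.leaf XRule.defn) (.leaf XRule.defn))⟩
noncomputable def ci43 : CI := ⟨[2], (nat_lit 61), false, (.node (nat_lit 4) (.node (nat_lit 2) (.node (nat_lit 1) (.leaf Rule.defn) (.leaf Rule.copy)) (.node (nat_lit 1) (.leaf (Rule.fwd [nat_lit 61] 6 0)) (.leaf (Rule.fwd [nat_lit 25, nat_lit 61, nat_lit 25, nat_lit 43, nat_lit 7] 5 4)))) (.node (nat_lit 2) (.node (nat_lit 1) (.leaf (Rule.fwd [nat_lit 7, nat_lit 61, nat_lit 25, nat_lit 61, nat_lit 7] 4 1)) (.leaf (Rule.fwd [nat_lit 7, nat_lit 43, nat_lit 25, nat_lit 61, nat_lit 25] 5 0))) (.leaf (Rule.fwd [nat_lit 43, nat_lit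 43] 2 0)))), (.node (nat_lit 1) (.leaf XRule.defn) (.leaf XRule.defn))⟩
noncomputable def ci61 : CI := ⟨[3], (nat_lit 43), false, (.node (nat_lit 4) (.node (nat_lit 2) (.node (nat_lit 1) (.leaf Rule.defn) (.leaf Rule.copy)) (.node (nat_lit 1) (.leaf (Rule.fwd [nat_lit 43] 6 0)) (.leaf (Rule.fwd [nat_lit 61, nat_lit 61] 3 0)))) (.node (nat_lit 2) (.node (nat_lit 1) (.leaf (Rule.fwd [nat_lit 25, nat_lit 61, nat_lit 7, nat_lit 43, nat_lit 7] 4 3)) (.leaf (Rule.fwd [nat_lit 25, nat_lit 43, nat_lit 7, nat_lit 43, nat_lit 25] 5 2))) (.leaf (Rule.fwd [nat_lit 7, nat_lit 43, nat_lit 7, nat_lit 61, nat_lit 25] 4 5)))), (.node (nat_lit 1) (.leaf XRule.defn) (.leaf XRule.defn))⟩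
noncomputable def outer : Tr CI := (.node (nat_lit 2) (.node (nat_lit 1) (.leaf ci0) (.node (nat_lit 4) (.leaf ci25) (.leaf ci61))) (.node (nat_lit 4) (.leaf ci43) (.leaf ci7)))
def cols : List ℕ := [nat_lit 7, nat_lit 25, nat_lit 43, nat_lit 61]
def invL : List ℕ := [1, 0, 3, 2]
def rels : List (List ℕ) := [[0, 0, 0], [2, 2, 2], [0, 2, 0, 3, 1, 3]]
def subs : List (List ℕ) := []
noncomputable def row (n : ℕ) : ℕ := rowOf (fun h => rows.get h) (nat_lit 4) (nat_lit 15) (nat_lit 79) (nat_lit 0x7fffffffffffffffffff) n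
noncomputable def xleaf (h : ℕ) : ℕ := recs.get h
noncomputable def mF : ℕ → ℕ := mainRow row (rowChk row xleaf outer (nat_lit 8) (nat_lit 255) (nat_lit 7) (nat_lit 11) (nat_lit 2047) (nat_lit 262143) (nat_lit 128) (nat_lit 24) (nat_lit 256) (nat_lit 7) (nat_lit 127) (nat_lit 15) (nat_lit 32767) (nat_lit 8) (nat_lit 255) cols)
noncomputable def xF : ℕ → ℕ → ℕ := xLeaf row xleaf outer (nat_lit 255) (nat_lit 11) (nat_lit 262143) (nat_lit 128) (nat_lit 24) (nat_lit 7) (nat_lit 127) (nat_lit 15) (nat_lit 32767) (nat_lit 32640) (nat_lit 8) (nat_lit 255) (nat_lit 10) (nat_lit 1023) (nat_lit 2) (nat_lit 3) (nat_lit 61) (nat_lit 3072) (nat_lit 128)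
noncomputable def cert : Cert := ⟨row, xleaf, outer, cols, nat_lit 8, nat_lit 255, nat_lit 7, nat_lit 11, nat_lit 2047, nat_lit 262143, nat_lit 128, nat_lit 24, nat_lit 256, nat_lit 7, nat_lit 127, nat_lit 15, nat_lit 32767, nat_lit 32640, nat_lit 8, nat_lit 255, nat_lit 10, nat_lit 1023, nat_lit 2, nat_lit 3, nat_lit 61, nat_lit 3072, nat_lit 128, nat_lit 18, nat_lit 128, nat_lit 1⟩
theorem tabok : tabOK (fun i => invL.getD i i) rels subs outer cols (nat_lit 7) (nat_lit 61) = true := by decide +kernel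
theorem m0 : rng mF (nat_lit 1) (nat_lit 24) = 0 := by decide +kernel
noncomputable def s0 : List ℕ := [nat_lit 0x0]
theorem x0 : xs xF s0 (nat_lit 1) = 0 := by decide +kernel
theorem mz0 : AllZ mF 1 (nat_lit 25) := (AllZ.step (AllZ.nil mF 1) (nat_lit 24) (nat_lit 25) rfl m0)
theorem xz0 : XZ xF (nat_lit 1) := (XZ.step (XZ.nil xF) s0 (nat_lit 1) (nat_lit 1) (by decide +kernel) x0)
/-- the certificate (24 points) is valid -/
theorem valid : cert.Valid (fun i => invL.getD i i) rels subs 4 :=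
  ⟨by decide +kernel, tabok, by decide +kernel, mz0, xz0⟩
theorem cert_N : cert.N = 24 := rfl

end CL.TC.SzU3
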