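/-
Held type, part 6: if `Q` contains two conjugates of `z` that do not commute, then the centraliser is that of a
transvection of `SL(5, 2)`.
-/
import Cfsg.Agent.Spor.HeldRed

set_option autoImplicit false

namespace CL.Held

open CL.Mx CL.TC Subgroup Cfsg

/-- iterated conjugation by the letters of a table -/
noncomputable def walk (j T n : ℕ) : ℕ → ℕ :=
  Nat.rec (motive := fun _ => ℕ → ℕ) (fun p => p) (fun _ ih p => frc (stq j (lk T 4 15 p) p) ih) n

theorem c_w0 : allN (fun p => !Nat.beq (qm p p) 0 || frc (walk 0 (nat_lit 0x67767667776666777676676766668777866886686678667767606060777584766776766777666677767667676666877786688668667866776766686677768776) 7 p)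
    fun r => Nat.beq r 0 || (Nat.beq r 64 || (Nat.beq r 4 || (Nat.beq r 8 || Nat.beq r 12)))) 128 = true := by
  decide +kernel
theorem c_w1 : allN (fun p => !Nat.beq (qm p p) 0 || (Nat.beq (Nat.land p 56) 0 || Nat.beq (walk 1 (nat_lit 0x67767667886666778676676766668877766876686678667767686760666666666776766778666677767667676666887776687668667866776768676666666666) 8 p)
    (idT (3 - 0)))) 128 = true := by decide +kernel
theorem c_w2 : allN (fun p => !Nat.beq (qm p p) 0 || (Nat.beq (Nat.land p 7) 0 || Nat.beq (walk 2 (nat_lit 0x67867666886666767686676666668776766776666687667668676766777778366776766688666676768667666666878676677666668766766868676677777866) 8 p)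
    (idT (3 - 3)))) 128 = true := by decide +kernel
theorem c_ab : ∀ M ∈ [56, 7], allE M (fun a => allE M fun b => Nat.beq (qm a b) (qm b a)) = true := by decide +kernel

variable {G : Type*} [Group G] {z : G} {Q : Subgroup G} {F : Fr z Q} {j : ℕ} {g : ℕ → G}

theorem exists_amb' [Finite G] {t : G} (ht : orderOf t = 2) (Q : Subgroup (centralizer ({t} : Set G))) [Q.Normal]
    (hQ : IsExtraspecial 2 Q) (hc : Nat.card Q = 2 ^ 7)
    (hp : ∃ E : Subgroup Q, IsElementaryAbelian 2 E ∧ Nat.card E = 2 ^ 4)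
    (h2 : centralizer (Q : Set (centralizer ({t} : Set G))) ≤ Q) (e : centralizer ({t} : Set G) ⧸ Q ≃* SL3) :
    ∃ P : Subgroup G, Amb t P ∧ L3 t P ∧ Nonempty (Fr t P) ∧ Nat.card (centralizer ({t} : Set G)) = 21504 ∧
      ∀ u ∈ Q, (u : G) ∈ P := by
  obtain ⟨P, A, L, ⟨F⟩, hC⟩ := exists_amb ht Q hQ hc hp h2 e
  refine ⟨P, A, L, ⟨F⟩, hC, fun u hu => ?_⟩
  -- the image of `P` in `SL(3, 2)` is a normal `2`-subgroup
  have hP : P ≤ centralizer {t} := fun q hq => mem_cent1.2 (F.comm_z hq)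
  let π := e.toMonoidHom.comp (QuotientGroup.mk' Q)
  have p1 : Function.Surjective π := e.surjective.comp (QuotientGroup.mk'_surjective Q)
  have p2 : ∀ q : centralizer ({t} : Set G), (q : G) ∈ P → π q = 1 := fun q hq => by
    have k : ∀ q : centralizer ({t} : Set G), (q : G) ∈ P → π q * π q = 1 := fun q hq => by
      rw [← π.map_mul]
      rcases F.sq_cases hq with e1 | e1
      · rw [show q * q = 1 from Subtype.ext e1, π.map_one]
      · have : q * q ∈ Q := h2 fun r _ => Subtype.ext (by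
          change r.1 * (q.1 * q.1) = q.1 * q.1 * r.1
          rw [e1, mem_cent1.1 r.2])
        exact e.map_eq_one_iff.2 ((QuotientGroup.eq_one_iff _).2 this)
    have k2 : ∀ y, π q * (y * π q * y⁻¹) * (π q * (y * π q * y⁻¹)) = 1 := fun y => by
      obtain ⟨y, rfl⟩ := p1 y
      simpa using k (q * (y * q * y⁻¹)) (mul_mem hq (A.nrm (mem_cent1.1 y.2) _ hq))
    obtain ⟨a, ha⟩ := exists_R3 (π q)
    have r1 : R3 94 ⟨dec2 3 94, by decide +kernel⟩ := ⟨by norm_num, rfl⟩
    have r2 := (r1.mul r1).mul r1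
    have r3 := r2.mul r2
    have k3 := k2 ⟨dec2 3 94, by decide +kernel⟩
    have k4 := k2 (⟨dec2 3 94, by decide +kernel⟩ * ⟨dec2 3 94, by decide +kernel⟩ * ⟨dec2 3 94, by decide +kernel⟩)
    rw [inv_eq_of_mul_eq_one_right (((r1.mul r3).eq R3.one).2 (by decide +kernel))] at k3
    rw [inv_eq_of_mul_eq_one_right (((r2.mul (r2.mul r1)).eq R3.one).2 (by decide +kernel))] at k4
    have k5 := ha.mul ((r1.mul ha).mul r3)
    have k6 := ha.mul ((r2.mul ha).mul (r2.mul r1))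
    exact (ha.eq R3.one).2 ((by decide +kernel : ∀ a < 512, m3 a a = 0x111 →
      m3 (m3 a (m3 (m3 94 a) (m3 (m3 (m3 94 94) 94) (m3 (m3 94 94) 94))))
        (m3 a (m3 (m3 94 a) (m3 (m3 (m3 94 94) 94) (m3 (m3 94 94) 94)))) = 0x111 →
      m3 (m3 a (m3 (m3 (m3 (m3 94 94) 94) a) (m3 (m3 (m3 94 94) 94) 94)))
        (m3 a (m3 (m3 (m3 (m3 94 94) 94) a) (m3 (m3 (m3 94 94) 94) 94))) = 0x111 → a = 0x111) a ha.1
      (((ha.mul ha).eq R3.one).1 (k q hq)) (((k5.mul k5).eq R3.one).1 k3) (((k6.mul k6).eq R3.one).1 k4))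
  have : P = Q.map (centralizer {t}).subtype := eq_of_le_of_card_ge (fun q hq => ⟨⟨q, hP hq⟩, by
    simpa [π, QuotientGroup.eq_one_iff] using p2 ⟨q, hP hq⟩ hq, rfl⟩)
    (by rw [card_map_of_injective (subtype_injective _), hc, A.card]; rfl)
  exact this ▸ ⟨u, hu, rfl⟩

namespace Std

theorem walk (h : Std F j g) (T : ℕ) : ∀ n, ∀ p < 128, IsConj z (F.φ p) → walk j T n p < 128 ∧
    IsConj z (F.φ (walk j T n p)) ∧ (walk j T n p = 64 → p = 64)
  | 0, _, hp, e => ⟨hp, e, id⟩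
  | n + 1, p, hp, e => by
    obtain ⟨h1, h2⟩ := (h.step (lk T 4 15 p)).2 p hp
    obtain ⟨k1, k2, k3⟩ := h.walk T n _ h1 (e.trans (isConj_iff.2 ⟨_, h2⟩))
    rw [show CL.Held.walk j T (n + 1) p = CL.Held.walk j T n (stq j (lk T 4 15 p) p) from frc_eq _ _]
    refine ⟨k1, k2, fun e => F.inj hp (by norm_num) (cj_inj (g := g (lk T 4 15 p)) ?_)⟩
    rw [h2, k3 e, F.z, cj_of_comm (h.step _).1]

variable [Finite G]

theorem notF (h : Std F j g) (A : Amb z Q) (L : L3 z Q) {o M r : ℕ} {W : List (List ℕ × ℕ)}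
    {y c : List ℕ} (hE : okE o M = true) (h0 : ∀ i < 3, idT (o + i) < 128 ∧ idT (o + i) &&& M = 0)
    (h1 : W ≠ [] ∧ qm (idT (3 - o)) (idT o) ≠ qm (idT o) (idT (3 - o)) ∧ idT (3 - o) < 128)
    (e : okU j o M W y c r = true) : ¬ IsConj z (F.φ (idT (3 - o))) := fun hk => by
  obtain ⟨k, e0⟩ := isConj_iff.1 hk.symm
  simp only [okU, Bool.and_eq_true, Nat.beq_eq, allL_iff] at e
  obtain ⟨e1, -, -, -, e5, e6, e7⟩ := e
  obtain ⟨hW, f1, f2⟩ := h1
  have E8 : ∀ {d : G}, d * z = z * d → d ^ 8 = 1 → ∀ i < 3, d ^ 4 * F.φ (idT (o + i)) = F.φ (idT (o + i)) * d ^ 4 :=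
    fun hd h8 i hi => comm_of_cj (Fr.E8 hE h0 hd (h.nrm e1 hd) h8 i hi)
  have p8 : ∀ {c : G} (y : G), c ^ 4 = z → (y * c * y⁻¹) ^ 8 = 1 := fun y h => by
    rw [conj_pow, show 8 = 4 + 4 from rfl, pow_add, h, F.z_sq]; simp
  have a1 := h.fix f2 e5
  have a4 := h.good A (e6 (W.getD 0 ([], 0)) (by cases W; exacts [absurd rfl hW, by simp]))
  generalize ev g (W.getD 0 ([], 0)).1 = a at a1 a4
  have c1 : k * a * k⁻¹ * z = z * (k * a * k⁻¹) := e0 ▸ cj_comm a1
  obtain ⟨p, hp, c2⟩ := F.mem.1 (L.f c1 (p8 k a4)).1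
  have c3 := E8 c1 (p8 k a4)
  rw [← c2] at c3
  rw [conj_pow, a4] at c2
  rcases (Bool.or_eq_true _ _).mp (allN_spec e7 p hp) with c | c
  · obtain ⟨i, hi, c⟩ := exL_spec c
    have hi := (by decide : ∀ i ∈ [0, 1, 2], i < 3) i hi
    simp [(F.comm_iff hp (h0 i hi).1).1 (c3 i hi)] at c
  · obtain ⟨w, hw, c⟩ := exL_spec c
    have d1 := cj_comm (g := k⁻¹) (h.fix hp (Nat.eq_of_beq_eq_true c))
    have d4 := h.good A (e6 w hw)
    rw [cj_back c2.symm] at d1
    have := E8 d1 (p8 _ d4) 0 (by norm_num)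
    rw [conj_pow, d4, cj_back e0] at this
    exact f1 ((F.comm_iff f2 (h0 0 (by norm_num)).1).1 this)

omit [Finite G] in
theorem sq_code {p : ℕ} (hp : p < 128) (e : IsConj z (F.φ p)) : qm p p = 0 := by
  obtain ⟨k, e⟩ := isConj_iff.1 e
  exact F.inj (c_q2 _ hp _ hp).1 (by norm_num) (by rw [F.mul hp hp, ← e, cj_sq F.z_sq, F.zero])

/-- in the twisted case `z` is weakly closed in `Q` -/
theorem wcS1 (h : Std F 0 g) (A : Amb z Q) (e : ev g (W0 1) * ev g (W0 1) = z) {u : G} (hu : u ∈ Q)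
    (hz : IsConj z u) : u = z := by
  obtain ⟨-, -, -, -, -, -, c1, c2, c3, c4, c5⟩ := c_S
  have a4 : ev g (W0 1 ++ W0 2) ^ 4 = z := by
    have := h.sq_eq A c1 e (Or.inr rfl)
    rw [ev_append] at this
    rw [← this]; simp only [pow_succ, pow_zero, one_mul, mul_assoc]
  have K : ∀ v < 128, acq 0 (W0 1 ++ W0 2) v = v → IsConj z (F.φ v) → v = 64 := fun v hv e1 e2 => by
    obtain ⟨k, e2⟩ := isConj_iff.1 e2
    obtain ⟨n, n1, n2⟩ := fuse F.z_sq A.ne (h.cz _) a4 (h.fix hv e1) a4 (fun d d1 _ d8 =>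
      Fr.Ac.cen (F := F) A ⟨((show Commute d z from d1).pow_left 4).eq, fun i hi => ⟨(c_id i hi).1, by
        rcases lt_or_ge i 3 with h3 | h3
        · simpa using Fr.E8 c_E0 (by decide +kernel) d1 (h.nrm c4 d1) d8 i h3
        · simpa [h3] using Fr.E8 c_E3 (by decide +kernel) d1 (h.nrm c5 d1) d8 (i - 3) (by omega)⟩⟩) e2
    exact F.inj hv (by norm_num) (by rw [← n2, cj_of_comm n1, F.z])
  obtain ⟨p, hp, rfl⟩ := F.mem.1 hu
  have c := allN_spec c_w0 p hp
  rw [frc_eq] at c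
  obtain ⟨k1, k2, k3⟩ := h.walk _ 7 p hp hz
  rw [k3 (K _ k1 ?_ k2), F.z]
  simp only [sq_code hp hz, Bool.or_eq_true, Nat.beq_eq, Bool.not_eq_true', Bool.eq_false_iff, ne_eq, not_true,
    false_or] at c
  rcases c with c | c | c | c | c <;> erw [c] <;> decide +kernel

end Std

/-- the centraliser is determined by two conjugates of the involution in `Q` that do not commute -/
theorem held_cent [Finite G] {t : G} (ht : orderOf t = 2) (Q : Subgroup (centralizer ({t} : Set G)))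
    [Q.Normal] (hQ : IsExtraspecial 2 Q) (hc : Nat.card Q = 2 ^ 7)
    (hp : ∃ E : Subgroup Q, IsElementaryAbelian 2 E ∧ Nat.card E = 2 ^ 4)
    (h2 : centralizer (Q : Set (centralizer ({t} : Set G))) ≤ Q) (e : centralizer ({t} : Set G) ⧸ Q ≃* SL3)
    (hz : ∃ u ∈ Q, ∃ v ∈ Q, IsConj t u ∧ IsConj t v ∧ u * v ≠ v * u) :
    Nonempty (centralizer ({t} : Set G) ≃* centralizer ({X0.z} : Set SL5)) := by
  obtain ⟨P, A, L, ⟨F⟩, hC, hP⟩ := exists_amb' ht Q hQ hc hp h2 e
  obtain ⟨F, g, j, hj, h⟩ := exists_Std A L F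
  obtain ⟨u, hu, v, hv, u1, v1, ne⟩ := hz
  replace ne : (u : G) * v ≠ v * u := fun e => ne (Subtype.ext e)
  have U : ∀ M ∈ [56, 7], (∀ p < 128, IsConj t (F.φ p) → p &&& M = 0) → False := fun M hM k => by
    obtain ⟨a, ha, e1⟩ := F.mem.1 (hP u hu)
    obtain ⟨b, hb, e2⟩ := F.mem.1 (hP v hv)
    rw [← e1] at u1 ne
    rw [← e2] at v1 ne
    have c := allE_spec (c_ab M hM) ha (k a ha u1)
    replace c := allE_spec c hb (k b hb v1)
    exact ne ((F.comm_iff ha hb).2 (Nat.eq_of_beq_eq_true c))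
  interval_cases j
  · rcases h.same A c_S.2.2.2.2.2.1 with e | e <;> rw [ev_append, ev_nil] at e
    · obtain ⟨a, a1, a2⟩ := h.caseS0 A e
      obtain ⟨m, m1, m2⟩ := Sat.lift (C := centralizer {X0.z}) (g := X0.g 1 1) (n := 13) (R := RH)
        ⟨Cfg.act0.inv2, fun i hi => by
          rcases hi.eq_or_lt with rfl | hi
          exacts [rfl, Cfg.g_triv 1 1 hi], fun r hr => by
          rcases List.mem_cons.1 hr with rfl | hr
          exacts [mul_one _, Cfg.act0.relH r hr]⟩ (fun i => mem_cent1.2 (Cfg.g11_comm i))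
        fun c hc => Cfg.H_le_range 1 1 (mem_cent1.1 hc)
      exact iso_of_diag a2 m2 (X0.card_C ▸ boundH (a1.prod m1)) (Or.inr (by rw [hC, X0.card_C]))
    · exact absurd (by rw [h.wcS1 A (by simpa using e) (hP v hv) v1, mem_cent1.1 u.2]) ne
  · refine (U 56 (by simp) fun p hp e => ?_).elim
    have c := allN_spec c_w1 p hp
    simp only [Std.sq_code hp e, Bool.or_eq_true, Nat.beq_eq, Bool.not_eq_true', Bool.eq_false_iff, ne_eq, not_true,
      false_or] at c
    exact c.resolve_right fun c => h.notF A L c_E0 (by decide +kernel) (by decide +kernel) c_U0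
      (c ▸ (h.walk _ 8 p hp e).2.1)
  · refine (U 7 (by simp) fun p hp e => ?_).elim
    have c := allN_spec c_w2 p hp
    simp only [Std.sq_code hp e, Bool.or_eq_true, Nat.beq_eq, Bool.not_eq_true', Bool.eq_false_iff, ne_eq, not_true,
      false_or] at c
    exact c.resolve_right fun c => h.notF A L c_E3 (by decide +kernel) (by decide +kernel) c_U3
      (c ▸ (h.walk _ 8 p hp e).2.1)

end CL.Held
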