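/-
The linear group `3 U_4(3)` of the coded model: order, orbits on vectors, stabilisers.
-/
import Cfsg.Agent.Spor.F24M

set_option autoImplicit false

namespace CL.F24

open CL.PG MulAction

/-- Derived letters: chains for the bases below, generators of the normal four-rank subgroups. -/
noncomputable def wL : List (List ℕ × Net) :=
  [([1, 2], mkN [(2, 8), (3, 4), (5, 16), (7, 64), (9, 256), (11, 1024), (10, 2048), (8, 512), (6, 128), (4, 32)]),
  ([4, 6, 4], mkN [(2, 64), (3, 128), (4, 68), (5, 136), (6, 276), (7, 552), (8, 1088), (9, 2176), (10, 256), (11,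
    512), (9, 2048), (8, 1024), (7, 2048), (6, 1024), (5, 2048), (4, 1024), (3, 32), (2, 16)]),
  ([12, 6], mkN [(4, 256), (5, 512), (6, 1024), (7, 2048), (8, 16), (9, 32), (10, 64), (11, 128), (7, 2048), (6,
    1024), (5, 512), (4, 256)]),
  ([13, 6, 6], mkN [(4, 64), (5, 128), (6, 272), (7, 544), (8, 64), (9, 128), (7, 512), (6, 256), (5, 512), (4,
    256)]),
  ([10, 13, 10, 12], mkN [(6, 128), (7, 64), (8, 512), (9, 256), (10, 2048), (11, 1024)]),
  ([16, 14], mkN [(6, 1024), (7, 2048), (8, 1088), (9, 2176), (10, 320), (11, 640), (9, 2048), (8, 1024), (7, 512),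
    (6, 256)]),
  ([15, 19, 16, 18, 16], mkN [(6, 512), (7, 256), (8, 1152), (9, 2368), (10, 2560), (11, 1792), (10, 2048), (9,
    3072), (8, 2560), (7, 2048), (6, 1152)]),
  ([22, 20], mkN [(8, 512), (9, 256), (11, 1024), (10, 2048)]),
  ([6, 4, 7], mkN [(0, 16), (1, 32), (4, 65), (5, 130), (6, 16), (7, 32), (5, 128), (4, 64), (1, 128), (0, 64)]),
  ([7, 8, 4, 6, 2], mkN [(1, 1), (2, 11), (3, 5), (4, 32), (5, 16), (6, 48), (7, 80), (8, 80), (9, 224), (10, 11),
    (11, 14), (7, 512), (6, 896), (5, 448), (4, 896), (3, 2048), (2, 1024), (1, 3076), (0, 1034)]),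
  ([6, 9, 6, 5, 6], mkN [(0, 4), (1, 8), (2, 1), (3, 2), (4, 267), (5, 525), (6, 1054), (7, 2087), (8, 31), (9, 37),
    (10, 602), (11, 943), (9, 2048), (8, 1024), (7, 3328), (6, 2816), (5, 2752), (4, 1408), (3, 3328), (2, 2816), (1,
    3496), (0, 2900)]),
  ([28, 31, 28, 31], mkN [(2, 130), (3, 67), (4, 519), (5, 264), (6, 8), (7, 68), (8, 107), (9, 469), (10, 913), (11,
    754), (9, 1024), (8, 3072), (7, 512), (6, 256), (4, 3360), (3, 3104), (2, 1400), (1, 2836), (0, 1596)]),
  ([27, 29, 26, 28, 31, 27], mkN [(4, 11), (5, 13), (6, 256), (7, 512), (8, 91), (9, 173), (10, 75), (11, 141), (9,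
    2048), (8, 1024), (7, 512), (6, 256), (5, 640), (4, 320), (3, 1360), (2, 4080), (1, 4080), (0, 2720)]),
  ([26, 31, 28, 28, 27, 29], mkN [(2, 257), (3, 514), (4, 65), (5, 146), (6, 161), (7, 115), (8, 4), (9, 8), (10,
    421), (11, 730), (9, 2048), (8, 1024), (7, 768), (6, 512), (5, 832), (4, 416), (3, 112), (2, 224), (1, 2168), (0,
    1252)]),
  ([26, 30, 28, 27, 29, 26], mkN [(4, 14), (5, 7), (6, 272), (7, 544), (8, 78), (9, 135), (10, 350), (11, 679), (9,
    2048), (8, 1024), (5, 2176), (4, 1088), (3, 4080), (2, 2720), (1, 1360), (0, 4080)]),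
  ([35, 38], mkN [(4, 5), (5, 10), (6, 5), (7, 10), (8, 85), (9, 170), (10, 85), (11, 170), (7, 2560), (6, 1280), (5,
    2560), (4, 1280), (3, 2720), (2, 1360), (1, 2720), (0, 1360)]),
  ([4, 6], mkN [(0, 4), (1, 8), (2, 1), (3, 2), (4, 64), (5, 128), (6, 272), (7, 544), (8, 1088), (9, 2176), (10,
    256), (11, 512), (9, 2048), (8, 1024), (7, 2048), (6, 1024), (5, 2048), (4, 1024), (1, 8), (0, 4)]),
  ([43, 8, 42], mkN [(1, 1), (2, 11), (3, 5), (4, 32), (5, 16), (6, 48), (7, 80), (8, 80), (9, 224), (10, 11), (11,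
    14), (7, 512), (6, 896), (5, 448), (4, 896), (3, 2048), (2, 1024), (1, 3076), (0, 1034)]),
  ([42, 8, 8, 43], mkN [(0, 4), (1, 8), (2, 1), (3, 2), (8, 1024), (9, 2048), (10, 256), (11, 512), (9, 2048), (8,
    1024), (1, 8), (0, 4)]),
  ([42, 9, 42, 8, 43], mkN [(4, 64), (5, 128), (6, 21), (7, 42), (8, 2048), (9, 1087), (10, 554), (11, 1343), (9,
    1024), (8, 3584), (7, 2560), (6, 1280), (5, 128), (4, 64), (3, 2720), (2, 1360), (1, 2720), (0, 1360)]),
  ([45, 46, 44], mkN [(4, 64), (5, 128), (6, 21), (7, 42), (8, 1024), (9, 2048), (10, 277), (11, 554), (9, 2048), (8,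
    1024), (7, 2560), (6, 1280), (5, 128), (4, 64), (3, 2720), (2, 1360), (1, 2720), (0, 1360)]),
  ([45, 48, 44, 46], mkN [(0, 2), (1, 1), (2, 3), (3, 5), (5, 16), (6, 176), (7, 80), (8, 224), (9, 336), (10, 2062),
    (11, 1029), (8, 512), (7, 768), (6, 512), (5, 320), (4, 672), (3, 1024), (2, 2056), (1, 3084), (0, 2056)]),
  ([4, 6, 20], mkN [(0, 4), (1, 8), (2, 1), (3, 2), (4, 64), (5, 128), (6, 16), (7, 32), (5, 128), (4, 64), (1, 8),
    (0, 4)]),
  ([9, 7, 9, 0, 10, 20, 22, 21], mkN [(0, 4), (1, 8), (2, 1), (3, 2), (4, 64), (5, 128), (6, 17), (7, 34), (8, 17),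
    (9, 34), (10, 17), (11, 34), (7, 2560), (6, 1280), (5, 128), (4, 64), (3, 2720), (2, 1360), (1, 8), (0, 4)]),
  ([16, 21], mkN [(4, 64), (5, 128), (6, 16), (7, 32), (8, 1024), (9, 2048), (10, 256), (11, 512), (9, 2048), (8,
    1024), (5, 128), (4, 64)]),
  ([8, 4, 7, 9, 6, 9, 0, 7, 7, 19, 16, 23, 21, 25], mkN [(4, 15), (5, 5), (6, 15), (7, 5), (8, 250), (9, 95), (10,
    250), (11, 95), (7, 3840), (6, 2560), (5, 3840), (4, 2560), (3, 1520), (2, 4000), (1, 1520), (0, 4000)]),
  ([5, 12, 20], mkN [(0, 16), (1, 32), (2, 64), (3, 128), (4, 1), (5, 2), (6, 4), (7, 8), (3, 128), (2, 64), (1, 32),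
    (0, 16)]),
  ([6, 9, 4, 6, 9, 7, 24], mkN [(0, 4), (1, 8), (2, 1), (3, 2), (4, 64), (5, 128), (6, 17), (7, 34), (8, 51), (9,
    17), (10, 34), (11, 51), (7, 1792), (6, 3584), (5, 128), (4, 64), (3, 1952), (2, 3664), (1, 8), (0, 4)]),
  ([2, 7, 8, 5, 7, 8, 11, 6, 16, 22], mkN [(0, 4), (1, 8), (2, 1), (3, 2), (4, 64), (5, 128), (6, 18), (7, 35), (8,
    18), (9, 35), (10, 49), (11, 18), (7, 3584), (6, 2304), (5, 128), (4, 64), (3, 2384), (2, 2032), (1, 8), (0, 4)]),
  ([5, 12, 16], mkN [(0, 16), (1, 32), (2, 64), (3, 128), (4, 257), (5, 514), (6, 1028), (7, 2056), (8, 16), (9, 32),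
    (10, 64), (11, 128), (7, 2048), (6, 1024), (5, 512), (4, 256), (3, 2048), (2, 1024), (1, 512), (0, 256)]),
  ([68, 64, 68], mkN [(1, 1), (2, 258), (3, 513), (4, 263), (5, 538), (6, 3), (7, 66), (8, 84), (9, 248), (10, 951),
    (11, 362), (9, 2048), (8, 1024), (7, 3072), (6, 1152), (5, 832), (4, 416), (3, 2784), (2, 1424), (1, 2616), (0,
    3870)]),
  ([71, 60, 70], mkN [(0, 4), (1, 8), (2, 1), (3, 2), (4, 3), (5, 1), (6, 3), (7, 1), (8, 1024), (9, 2048), (10,
    498), (11, 595), (9, 2048), (8, 1024), (7, 3840), (6, 2560), (5, 3840), (4, 2560), (3, 1520), (2, 4000), (1, 8),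
    (0, 4)]),
  ([71, 71, 66, 70, 70], mkN [(4, 15), (5, 5), (6, 15), (7, 5), (8, 165), (9, 250), (10, 95), (11, 165), (7, 2304),
    (6, 1792), (5, 2304), (4, 1792), (3, 3824), (2, 2464), (1, 3824), (0, 2464)]),
  ([75, 72, 74], mkN [(4, 64), (5, 128), (6, 16), (7, 32), (8, 1024), (9, 2048), (10, 256), (11, 512), (9, 2048), (8,
    1024), (5, 128), (4, 64)])]

/-- Chain along the standard frame. -/
def levL : List Lev :=
  [⟨1, 2016, [[0], [4], [8], [6], [0], [6], [8], [6], [2], [4], [6], [8], [6], [2], [8], [6], [2], [4]], [[6], [10],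
    [12]], 0, 2⟩,
  ⟨4, 15, [[6], [10], [12], [10], [6]], [[14], [16], [18]], 2, 3⟩,
  ⟨16, 12, [[14], [16], [18], [14], [18], [14]], [[20], [22]], 5, 2⟩,
  ⟨64, 9, [[20], [22], [22], [20], [20]], [[24]], 7, 1⟩,
  ⟨256, 3, [[24], [24]], [], 8, 0⟩]

/-- Chain through the vector `(1,1,1,1,0,0)`. -/
def levZ : List Lev :=
  [⟨85, 1701, [[0], [2], [6], [8], [6], [2], [4], [8], [6], [4], [8], [6], [0], [8], [2], [4]], [[26], [28], [30]],
    8, 3⟩,
  ⟨283, 360, [[26], [28], [30], [26], [28], [30], [26], [28], [30], [26], [28], [26], [26]], [[32], [34], [36],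
    [38]], 11, 4⟩,
  ⟨5, 8, [[32], [34], [36]], [[40]], 15, 1⟩,
  ⟨17, 2, [[40]], [], 16, 0⟩]

/-- Chain through the vector `(1,1,0,0,0,0)`. -/
def levT : List Lev :=
  [⟨5, 378, [[0], [2], [4], [6], [4], [6], [8], [6], [4], [8], [6], [2], [8], [0]], [[8], [42]], 16, 1⟩,
  ⟨80, 135, [[8], [42], [8], [42], [8], [42], [8], [42], [8], [42], [8], [42], [8], [42], [8], [42]], [[44], [46],
    [48]], 17, 3⟩,
  ⟨272, 32, [[44], [48], [44], [48], [44], [46], [44]], [[50], [52]], 20, 2⟩,
  ⟨96, 6, [[50], [52], [50]], [], 22, 0⟩]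

/-- Chain for the stabiliser of the hexacode plane. -/
def levW : List Lev :=
  [⟨85, 45, [[0], [68], [0], [66], [68], [66], [68], [64], [68]], [[66], [60], [70]], 30, 1⟩,
  ⟨5, 6, [[70], [66], [70], [66]], [[66], [72], [74]], 31, 2⟩,
  ⟨1, 32, [[66], [72], [74], [66], [72], [74], [66], [72], [66]], [[76]], 33, 1⟩,
  ⟨16, 2, [[76]], [], 34, 0⟩]

/-- The orbit of length 378. -/
def OT : ℕ :=
    0x824024804820000024804820824000004820824024800000000000000000000124804820824000004820824024800000824024804820000000000000000000014820824024800000824024804820000024804820824000000000000000000001000000000000000100000000000000010000000000000001000100010001111e248048208240000048208240248000008240248048200000000000000000000148208240248000008240248048200000248048208240000000000000000000018240248048200000248048208240000048208240248000000000000000000001000000000000000100000000000000010000000000000001000100010001111e482082402480000082402480482000002480482082400000000000000000000182402480482000002480482082400000482082402480000000000000000000012480482082400000482082402480000082402480482000000000000000000001000000000000000100000000000000010000000000000001000100010001111e000000000000000100000000000000010000000000000001000100010001111e000000000000000100000000000000010000000000000001000100010001111e000000000000000100000000000000010000000000000001000100010001111e000100010001111e000100010001111e000100010001111e111e111e111eeee0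

/-- The orbit of length 1701. -/
def OZ : ℕ :=
    0x6ca1ca61a6c1111eca61a6c16ca1111ea6c16ca1ca61111e111e111e111eeee0ca61a6c16ca1111ea6c16ca1ca61111e6ca1ca61a6c1111e111e111e111eeee0a6c16ca1ca61111e6ca1ca61a6c1111eca61a6c16ca1111e111e111e111eeee0111e111e111eeee0111e111e111eeee0111e111e111eeee0eee0eee0eee00000ca61a6c16ca1111ea6c16ca1ca61111e6ca1ca61a6c1111e111e111e111eeee0a6c16ca1ca61111e6ca1ca61a6c1111eca61a6c16ca1111e111e111e111eeee06ca1ca61a6c1111eca61a6c16ca1111ea6c16ca1ca61111e111e111e111eeee0111e111e111eeee0111e111e111eeee0111e111e111eeee0eee0eee0eee00000a6c16ca1ca61111e6ca1ca61a6c1111eca61a6c16ca1111e111e111e111eeee06ca1ca61a6c1111eca61a6c16ca1111ea6c16ca1ca61111e111e111e111eeee0ca61a6c16ca1111ea6c16ca1ca61111e6ca1ca61a6c1111e111e111e111eeee0111e111e111eeee0111e111e111eeee0111e111e111eeee0eee0eee0eee00000111e111e111eeee0111e111e111eeee0111e111e111eeee0eee0eee0eee00000111e111e111eeee0111e111e111eeee0111e111e111eeee0eee0eee0eee00000111e111e111eeee0111e111e111eeee0111e111e111eeee0eee0eee0eee00000eee0eee0eee00000eee0eee0eee00000eee0eee0eee000000000000000000000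

/-- The networks of the extended alphabet. -/
noncomputable def nL : List Net := n5 ++ wL.map Prod.snd

/-- The definitions of the derived letters. -/
noncomputable def DL : List (ℕ × List ℕ) := mkDefs (wL.map Prod.fst) 5

theorem wL_ok : P.extB wL n5 = true := by decide +kernel
theorem DL_ok : defsB DL = true := by decide +kernel
theorem levL_ok : P.chainB nL DL levL l5 = true := by decide +kernel
theorem levZ_ok : P.chainB nL DL levZ l5 = true := by decide +kernel
theorem levT_ok : P.chainB nL DL levT l5 = true := by decide +kernel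

/-- Generators of the stabiliser of the hexacode plane. -/
def lW : List (List ℕ) := [[0], [66], [68], [60], [64]]
/-- Generators of the stabiliser of `(1,1,1,1,0,0)`. -/
def lZ : List (List ℕ) := [[26], [28], [30]]
/-- Generators of the stabiliser of `(1,1,0,0,0,0)`. -/
def lT : List (List ℕ) := [[8], [42]]

theorem levW_ok : P.chainB nL DL levW lW = true := by decide +kernel

theorem cover_ok : Nat.lor (Nat.lor QM OT) (Nat.lor OZ 1) = ones 4096 := by decide +kernel
theorem disj_ok : Nat.lor (Nat.land QM OT) (Nat.lor (Nat.land QM OZ) (Nat.land OT OZ)) = 0 := by decide +kernel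

theorem cover {a : ℕ} (ha : a < 4096) : a = 0 ∨ qb a = true ∨ tb OT a = true ∨ tb OZ a = true := by
  have := congrArg (fun m => Nat.testBit m a) cover_ok
  simp only [lor_eq, Nat.testBit_or, testBit_ones, ha, decide_true, Bool.or_eq_true,
    Nat.testBit_one_eq_true_iff_self_eq_zero] at this
  rw [qb, tb_eq, tb_eq, tb_eq]
  tauto

theorem disj (a : ℕ) : ¬ (qb a = true ∧ tb OT a = true) ∧ ¬ (qb a = true ∧ tb OZ a = true) ∧
    ¬ (tb OT a = true ∧ tb OZ a = true) := by
  have := congrArg (fun m => Nat.testBit m a) disj_ok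
  simp only [lor_eq, land_eq, Nat.testBit_or, Nat.testBit_and, Nat.zero_testBit, Bool.or_eq_false_iff] at this
  rw [qb, tb_eq, tb_eq, tb_eq]
  obtain ⟨h1, h2, h3⟩ := this
  refine ⟨fun h => ?_, fun h => ?_, fun h => ?_⟩
  · rw [h.1, h.2] at h1; exact absurd h1 (by decide)
  · rw [h.1, h.2] at h2; exact absurd h2 (by decide)
  · rw [h.1, h.2] at h3; exact absurd h3 (by decide)

variable {Γ V : Type*} [Group Γ] [AddCommGroup V] [DistribMulAction Γ V]

/-- The extended alphabet. -/
noncomputable def aL (gs : List Γ) : List Γ := ext gs (wL.map Prod.fst)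

/-- The value of a word in the extended alphabet. -/
noncomputable abbrev wd (gs : List Γ) (w : List ℕ) : Γ := wordG (aL gs) w

/-- The linear group. -/
abbrev LL (gs : List Γ) : Subgroup Γ := subW gs l5

theorem subW_aL {gs : List Γ} (h : gs.length = 5) : subW (aL gs) l5 = LL gs :=
  subW_prefix (ext_prefix gs _) (by rw [h]; decide)

theorem wd_mem {gs : List Γ} (h : gs.length = 5) (w : List ℕ) : wd gs w ∈ LL gs := by
  refine wordG_mem (mem_of_mem_ext (fun g hg => ?_) _) w
  have : LL gs = Subgroup.closure {g | g ∈ gs} := by rw [← subW_gensW, h]; rfl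
  rw [this]
  exact Subgroup.subset_closure hg

theorem lb_LL {q : V → ZMod 2} {e : ℕ → V} {gs : List Γ} (C : Cod V q e) (hg : Good e 4096 4096 gs n5) :
    LB (LL gs) 9797760 := by
  have hl : gs.length = 5 := hg.length_eq
  rw [← subW_aL hl]
  exact Good.chain_lb (P := P) P_ok C.inj (Good.ext (P := P) P_ok wL hg wL_ok) (Defs.ext hl DL_ok) levL_ok (LB.one _)

namespace ModL

variable {q : V → ZMod 2} {e : ℕ → V} {gs : List Γ} (M : ModL Γ V q e gs)
include M

theorem goodL : Good e 4096 4096 (aL gs) nL := Good.ext (P := P) P_ok wL M.good wL_ok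

theorem defsL : Defs (aL gs) DL := Defs.ext M.length DL_ok

theorem wd_mem (w : List ℕ) : wd gs w ∈ LL gs := CL.F24.wd_mem M.length w

theorem subW_le (l : List (List ℕ)) : subW (aL gs) l ≤ LL gs := CL.PG.subW_le.mpr fun w _ => M.wd_mem w

theorem card_LL : Nat.card (LL gs) = 9797760 := M.ub.card_eq (lb_LL M.toCod M.good)

theorem finite_LL : Finite (LL gs) := M.ub.1

theorem exL : Exact e 4096 4096 (aL gs) nL 1 levL l5 :=
  Good.exact (P := P) P_ok M.inj M.goodL M.defsL levL_ok (LB.one _) (by rw [subW_aL M.length]; exact M.ub)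

theorem exZ : Exact e 4096 4096 (aL gs) nL 1 levZ l5 :=
  Good.exact (P := P) P_ok M.inj M.goodL M.defsL levZ_ok (LB.one _) (by rw [subW_aL M.length]; exact M.ub)

theorem exT : Exact e 4096 4096 (aL gs) nL 1 levT l5 :=
  Good.exact (P := P) P_ok M.inj M.goodL M.defsL levT_ok (LB.one _) (by rw [subW_aL M.length]; exact M.ub)

theorem lb_W : LB (subW (aL gs) lW) 17280 :=
  Good.chain_lb (P := P) P_ok M.inj M.goodL M.defsL levW_ok (LB.one _)

theorem orbit_Z : orbit (LL gs) (e 85) = mset e 4096 OZ := by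
  rw [← subW_aL M.length]
  exact M.exZ.orbit.trans (congrArg _ (by decide +kernel))

theorem orbit_T : orbit (LL gs) (e 5) = mset e 4096 OT := by
  rw [← subW_aL M.length]
  exact M.exT.orbit.trans (congrArg _ (by decide +kernel))

theorem orbit_N : orbit (LL gs) (e 1) = mset e 4096 QM := by
  rw [← subW_aL M.length]
  exact M.exL.orbit.trans (congrArg _ (by decide +kernel))

theorem ncard_Z : (mset e 4096 OZ).ncard = 1701 := by
  rw [ncard_mset M.inj, ← pop_eq (L := 12) (by norm_num)]; decide +kernel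

theorem ncard_T : (mset e 4096 OT).ncard = 378 := by
  rw [ncard_mset M.inj, ← pop_eq (L := 12) (by norm_num)]; decide +kernel

theorem stab_Z : LL gs ⊓ stabilizer Γ (e 85) = subW (aL gs) lZ := by
  rw [← subW_aL M.length]; exact M.exZ.stab

theorem stab_T : LL gs ⊓ stabilizer Γ (e 5) = subW (aL gs) lT := by
  rw [← subW_aL M.length]; exact M.exT.stab

theorem card_Z : Nat.card (subW (aL gs) lZ) = 5760 := M.exZ.tail.card

theorem card_T : Nat.card (subW (aL gs) lT) = 25920 := M.exT.tail.card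

/-- An element of the stabiliser of `(1,1,1,1,0,0)` fixing three more vectors of its orthogonal space is trivial. -/
theorem eq_one_Z {g : Γ} (hg : g ∈ LL gs) (h0 : g • e 85 = e 85) (h1 : g • e 283 = e 283) (h2 : g • e 5 = e 5)
    (h3 : g • e 17 = e 17) : g = 1 :=
  M.exZ.eq_one (by rwa [subW_aL M.length]) (by simp [levZ, h0, h1, h2, h3])

theorem eq_one_T {g : Γ} (hg : g ∈ LL gs) (h0 : g • e 5 = e 5) (h1 : g • e 80 = e 80) (h2 : g • e 272 = e 272)
    (h3 : g • e 96 = e 96) : g = 1 :=
  M.exT.eq_one (by rwa [subW_aL M.length]) (by simp [levT, h0, h1, h2, h3])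

/-- The columns of a word. -/
theorem act {w cols : List ℕ} (hc : colB nL w cols = true) : Act e (wd gs w) cols := Good.act M.goodL hc

theorem exists_smul_of_Z {a : ℕ} (ha : a < 4096) (h : tb OZ a = true) : ∃ g ∈ LL gs, g • e 85 = e a := by
  have := (M.mem_mset_iff ha).mpr h
  rw [← M.orbit_Z] at this
  obtain ⟨g, hg⟩ := this
  exact ⟨g, g.2, hg⟩

theorem exists_smul_of_T {a : ℕ} (ha : a < 4096) (h : tb OT a = true) : ∃ g ∈ LL gs, g • e 5 = e a := by
  have := (M.mem_mset_iff ha).mpr h
  rw [← M.orbit_T] at this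
  obtain ⟨g, hg⟩ := this
  exact ⟨g, g.2, hg⟩

end ModL

end CL.F24
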