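/-
The coded model of `3 U_4(3)` inside a group normalising it: cosets, Sylow subgroup, involutions.
-/
import Cfsg.Agent.Spor.F24B

set_option autoImplicit false

namespace CL.F24

open Subgroup CL.Even CL.PG MulAction

variable {Γ V : Type*} [Group Γ] [AddCommGroup V] [DistribMulAction Γ V]

namespace ModL

variable {q : V → ZMod 2} {e : ℕ → V} {gs : List Γ} (M : ModL Γ V q e gs)
include M

theorem outer' [(LL gs).Normal] (hX : ∀ g : Γ, g * wd gs [0] * g⁻¹ ∈ zpowers (wd gs [0])) (g₀ : Γ) :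
    ∃ h, h * g₀⁻¹ ∈ LL gs ∧ (h = 1 ∨ Act e h cT ∨ Act e h cF ∨ Act e h cH) := by
  obtain ⟨g, hg⟩ : ∃ g, g * g₀⁻¹ ∈ LL gs := ⟨g₀, by simp⟩
  have aX := M.actX
  have ls : ∀ g : Γ, (∀ a < 4096, ∀ c < 4096, g • e a = e c → g • e (ap cX a) = e (ap cX c)) ∨
      ∀ a < 4096, ∀ c < 4096, g • e a = e c → g • e (ap cX a) = e (ap cX (ap cX c)) := fun g =>
    (M.lin_or_semi (hX g)).imp (fun h a ha c hc h1 => by rw [← aX.eq ha, h, h1, aX.eq hc])
      fun h a ha c hc h1 => by rw [← aX.eq ha, h, h1, aX.eq hc, aX.eq (aX.lt hc)]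
  have ot : ∀ (g : Γ) {a c : ℕ}, a < 4096 → c < 4096 → g • e a = e c → tb OT a = true → tb OT c = true :=
    fun g _ _ ha hc h h1 => (M.mem_mset_iff hc).mp (h ▸ M.smul_OT g ((M.mem_mset_iff ha).mpr h1))
  have ad : ∀ (g : Γ) {a c a' c' : ℕ}, g • e a = e c → g • e a' = e c' → g • e (a ^^^ a') = e (c ^^^ c') :=
    fun g _ _ _ _ h h' => by rw [M.add, M.add, smul_add, h, h']
  have xl : ∀ {a c : ℕ}, a < 4096 → c < 4096 → a ^^^ c < 4096 := Nat.xor_lt_two_pow (n := 12)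
  have w : ∀ g : Γ, g • e 1 = e 1 → ∀ a ∈ [4, 16, 64, 256, 1024], ∃ c < 4096, g • e a = e c ∧
      c ∈ [4, 8, 12, 16, 32, 48, 64, 128, 192, 256, 512, 768, 1024, 2048, 3072] := fun g h1 a ha => by
    obtain ⟨c, hc, h⟩ := M.surj (g • e a)
    obtain ⟨l, t1, t2, t3⟩ := (by decide +kernel : ∀ a ∈ [4, 16, 64, 256, 1024], a < 4096 ∧ tb OT (a ^^^ 1) = true ∧
      tb OT (a ^^^ 2) = true ∧ tb OT (a ^^^ 3) = true) a ha
    have k : ∀ {b d : ℕ}, b < 4096 → d < 4096 → g • e b = e d → tb OT (a ^^^ b) = true → tb OT (c ^^^ d) = true :=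
      fun hb hd h2 => ot g (xl l hb) (xl hc hd) (ad g h.symm h2)
    have u1 := k (by norm_num) (by norm_num) h1 t1
    rcases ls g with h2 | h2
    · have h3 : g • e 2 = e 2 := h2 1 (by norm_num) 1 (by norm_num) h1
      exact ⟨c, hc, h.symm, w15 hc u1 (k (by norm_num) (by norm_num) h3 t2)
        (k (by decide) (by decide) (ad g h1 h3) t3)⟩
    · have h3 : g • e 2 = e 3 := h2 1 (by norm_num) 1 (by norm_num) h1
      exact ⟨c, hc, h.symm, w15 hc u1 (k (by decide) (by decide) (ad g h1 h3) t3)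
        (k (by norm_num) (by norm_num) h3 t2)⟩
  have nl : ∀ (g : Γ) {a b c : ℕ}, a < 4096 → b < 4096 → g • e b = e b → g • e a = e c →
      c ∈ [b, ap cX b, b ^^^ ap cX b] → a ∈ [b, ap cX b, b ^^^ ap cX b] := fun g a b c ha hb h1 h2 hc => by
    have l1 := aX.lt hb
    have e2 : ap cX (ap cX b) = b ^^^ ap cX b := Nat.eq_of_beq_eq_true
      (all2_spec (f := fun b => Nat.beq (ap cX (ap cX b)) (b ^^^ ap cX b)) (k := 12) (by decide +kernel) b hb)
    have k : ∀ {d : ℕ}, d < 4096 → g • e d = e c → a = d := fun hd h =>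
      M.inj _ ha _ hd (MulAction.injective g (h2.trans h.symm))
    simp only [List.mem_cons, List.not_mem_nil, or_false] at hc ⊢
    rcases ls g with h3 | h3 <;> have h4 := h3 b hb b hb h1 <;> have h5 := ad g h1 h4 <;>
      rcases hc with rfl | rfl | rfl
    exacts [Or.inl (k hb h1), Or.inr (Or.inl (k l1 h4)), Or.inr (Or.inr (k (xl hb l1) h5)), Or.inl (k hb h1),
      Or.inr (Or.inr (k (xl hb l1) (by rw [h5, e2, Nat.xor_xor_cancel_left]))), Or.inr (Or.inl (k l1 (e2 ▸ h4)))]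
  have E0 := M.exL
  have E1 := E0.tail
  have E2 := E1.tail
  have E3 := E2.tail
  have nm : ∀ {u g : Γ} {l : List (List ℕ)}, u ∈ subW (aL gs) l → g * g₀⁻¹ ∈ LL gs → u * g * g₀⁻¹ ∈ LL gs :=
    fun hu hg => mul_assoc _ _ g₀⁻¹ ▸ mul_mem (M.subW_le _ hu) hg
  have fx : ∀ {u g : Γ} {a : ℕ}, u ∈ stabilizer Γ (e a) → g • e a = e a → (u * g) • e a = e a := fun hu hg => by
    rw [mul_smul, hg, hu]
  obtain ⟨c, hc, h⟩ := M.surj (g • e 1)
  obtain ⟨u, hu, f1⟩ := Exact.adjust E0 hc h.symm (by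
    have := M.qe c hc
    rw [h, M.qinv, M.qe 1 (by norm_num), show qb 1 = true by decide +kernel, eq_comm] at this
    rw [show orbM 4096 nL _ = QM by decide +kernel]
    exact bz_eq_one.mp this)
  replace hg := nm hu hg
  generalize u * g = g at f1 hg
  change g • e 1 = e 1 at f1
  obtain ⟨c, hc, h, m⟩ := w g f1 4 (by simp)
  obtain ⟨u, hu, f2⟩ := Exact.adjust E1 hc h (by clear h hc; revert c; decide +kernel)
  replace hg := nm hu hg
  rw [← E0.stab] at hu
  replace f1 := fx hu.2 f1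
  generalize u * g = g at f1 f2 hg
  change g • e 4 = e 4 at f2
  obtain ⟨c, hc, h, m⟩ := w g f1 16 (by simp)
  have n1 := mt (nl g (by norm_num) (by norm_num) f2 h) (by decide +kernel)
  obtain ⟨u, hu, f3⟩ := Exact.adjust E2 hc h (by clear h hc; revert c; decide +kernel)
  replace hg := nm hu hg
  rw [← E1.stab, ← E0.stab] at hu
  replace f1 := fx hu.1.2 f1
  replace f2 := fx hu.2 f2
  generalize u * g = g at f1 f2 f3 hg
  change g • e 16 = e 16 at f3
  obtain ⟨c, hc, h, m⟩ := w g f1 64 (by simp)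
  have n1 := mt (nl g (by norm_num) (by norm_num) f2 h) (by decide +kernel)
  have n2 := mt (nl g (by norm_num) (by norm_num) f3 h) (by decide +kernel)
  obtain ⟨u, hu, f4⟩ := Exact.adjust E3 hc h (by clear h hc; revert c; decide +kernel)
  replace hg := nm hu hg
  rw [← E2.stab, ← E1.stab, ← E0.stab] at hu
  replace f1 := fx hu.1.1.2 f1
  replace f2 := fx hu.1.2 f2
  replace f3 := fx hu.2 f3
  generalize u * g = g at f1 f2 f3 f4 hg
  change g • e 64 = e 64 at f4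
  obtain ⟨c, hc, h, m⟩ := w g f1 256 (by simp)
  obtain ⟨c', hc', h', m'⟩ := w g f1 1024 (by simp)
  have t := ot g (by decide) (xl (xl (by decide) hc) hc') (ad g (ad g (ad g (ad g (ad g f1 f2) f3) f4) h) h')
    (by decide +kernel)
  obtain ⟨w, hw, cw, aw, k⟩ : ∃ w ∈ LL gs, ∃ cw, Act e w cw ∧ [1, 4, 16, 64].map (ap cw) = [1, 4, 16, 64] ∧
      (ap cw c = 256 ∧ ap cw c' = 1024 ∨ ap cw c = 1024 ∧ ap cw c' = 256) := by
    have a1 : Act e (wd gs [24]) [1, 2, 4, 8, 16, 32, 64, 128, 512, 768, 3072, 1024] := M.act (by decide +kernel)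
    have a2 : Act e (wd gs [25]) [1, 2, 4, 8, 16, 32, 64, 128, 768, 256, 2048, 3072] := M.act (by decide +kernel)
    obtain ⟨cw, h1, h2⟩ := (by decide +kernel :
      ∀ c ∈ [4, 8, 12, 16, 32, 48, 64, 128, 192, 256, 512, 768, 1024, 2048, 3072],
      ∀ c' ∈ [4, 8, 12, 16, 32, 48, 64, 128, 192, 256, 512, 768, 1024, 2048, 3072],
      c ∉ [4, ap cX 4, 4 ^^^ ap cX 4] → c ∉ [16, ap cX 16, 16 ^^^ ap cX 16] → c ∉ [64, ap cX 64, 64 ^^^ ap cX 64] →
      tb OT (85 ^^^ c ^^^ c') = true → ∃ cw ∈ [idc, [1, 2, 4, 8, 16, 32, 64, 128, 512, 768, 3072, 1024],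
        [1, 2, 4, 8, 16, 32, 64, 128, 768, 256, 2048, 3072]], [1, 4, 16, 64].map (ap cw) = [1, 4, 16, 64] ∧
        (ap cw c = 256 ∧ ap cw c' = 1024 ∨ ap cw c = 1024 ∧ ap cw c' = 256)) c m c' m'
      (mt (nl g (by norm_num) (by norm_num) f2 h) (by decide +kernel))
      (mt (nl g (by norm_num) (by norm_num) f3 h) (by decide +kernel))
      (mt (nl g (by norm_num) (by norm_num) f4 h) (by decide +kernel)) t
    simp only [List.mem_cons, List.not_mem_nil, or_false] at h1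
    rcases h1 with rfl | rfl | rfl
    exacts [⟨1, one_mem _, _, Act.one e, h2⟩, ⟨_, M.wd_mem _, _, a1, h2⟩, ⟨_, M.wd_mem _, _, a2, h2⟩]
  have hg' : w * g * g₀⁻¹ ∈ LL gs := mul_assoc _ _ g₀⁻¹ ▸ mul_mem hw hg
  simp only [List.map_cons, List.map_nil, List.cons.injEq, and_true] at k
  obtain ⟨⟨k1, k2, k3, k4⟩, k⟩ := k
  have fb : List.Forall₂ (fun a c => a < 4096 ∧ c < 4096 ∧ (w * g) • e a = e c) [1, 4, 16, 64, 256, 1024]
      [1, 4, 16, 64, ap cw c, ap cw c'] := by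
    simp only [List.forall₂_cons, List.forall₂_nil_left_iff, mul_smul, f1, f2, f3, f4, h, h', aw.eq hc, aw.eq hc',
      aw.lt hc, aw.lt hc', aw.eq (a := 1) (by norm_num), aw.eq (a := 4) (by norm_num), aw.eq (a := 16) (by norm_num),
      aw.eq (a := 64) (by norm_num), k1, k2, k3, k4]
    norm_num
  refine ⟨w * g, hg', ?_⟩
  rcases ls (w * g) with h1 | h1
  · have := act_of_basis M.add (fun c hc => aX.lt hc) h1 fb
    rcases k with ⟨k5, k6⟩ | ⟨k5, k6⟩ <;> rw [k5, k6] at this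
    · exact Or.inl (M.ext M.faith this (by convert Act.one e using 1; decide +kernel))
    · exact Or.inr (Or.inl (by convert this using 1; decide +kernel))
  · have := act_of_basis M.add (fun c hc => aX.lt (aX.lt hc)) h1 fb
    rcases k with ⟨k5, k6⟩ | ⟨k5, k6⟩ <;> rw [k5, k6] at this
    · exact Or.inr (Or.inr (Or.inl (by convert this using 1; decide +kernel)))
    · exact Or.inr (Or.inr (Or.inr (by convert this using 1; decide +kernel)))

end ModL

end CL.F24
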