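/-
Recognition of `Co1` (helper54): the subgroup `2 ^ (2 + 12) : (A₈ × S₃)`.
-/
import Cfsg.Agent.Spor.Co1RAut
import Mathlib.GroupTheory.FixedPointFree

set_option autoImplicit false
set_option maxRecDepth 100000
set_option linter.unusedSectionVars false

namespace CL.CoR

open Cfsg Subgroup CL.TC CL.Grp CL.Even
open scoped commutatorElement

variable {G : Type*} [Group G]

/-- the relations defining `2 ^ (2 + 12) : (A₈ × S₃)` -/
structure ND (E : ℕ → G) (ρ a b : G) : Prop extends QC E where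
  r3 : ρ ^ 3 = 1
  q3 : ∀ m < 512, m &&& 16 = 0 → (E m * ρ) ^ 3 = 1
  rz : ρ * E 256 * ρ⁻¹ = E 1
  rt : ρ * E 1 * ρ⁻¹ = E 257
  sr : E 16 * ρ * (E 16)⁻¹ = ρ⁻¹
  ar : a * ρ = ρ * a
  br : b * ρ = ρ * b
  aa : Act a E (aut ia)
  ab : Act b E (aut ib)
  a7 : a ^ 7 = 1
  b3 : b ^ 3 = 1

theorem Act.congr {y : G} {E : ℕ → G} {f f' : ℕ → ℕ} (h : Act y E f) (e : ∀ m < 512, f m = f' m) : Act y E f' :=
  fun m hm => e m hm ▸ h m hm

theorem Act.pow {y : G} {E : ℕ → G} {f : ℕ → ℕ} (h : Act y E f) : ∀ k : ℕ, Act (y ^ k) E f^[k]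
  | 0 => by rw [pow_zero]; exact act_one E
  | k + 1 => by rw [pow_succ]; exact (h.pow k).mul h

theorem Act.comm {y : G} {E : ℕ → G} {f : ℕ → ℕ} (h : Act y E f) {m : ℕ} (hm : m < 512) (e : f m = m) :
    y * E m = E m * y := by rw [← mul_inv_eq_iff_eq_mul, (h m hm).2, e]

theorem QC.cjc_eq {E : ℕ → G} (h : QC E) {w m : ℕ} (hw : w < 512) (hm : m < 512) (e : E w * E m = E m * E w) :
    cjc w m = m := h.inj (cjc_lt w hm) hm (by rw [← (h.act_inner hw m hm).2, e, mul_inv_cancel_right])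

theorem QC.z257 {E : ℕ → G} (h : QC E) : E 257 = E 256 * E 1 := h.mul 256 (by norm_num) 1 (by norm_num)

theorem QC.sq_gen {E : ℕ → G} (h : QC E) {m : ℕ} (hm : m < 512) (e : CoR.mul m m = 0) : E m * E m = 1 := by
  rw [← h.mul m hm m hm, e, h.zero]

theorem v_cases : ∀ m < 512, m &&& 254 = 0 → m = 0 ∨ m = 1 ∨ m = 256 ∨ m = 257 := by decide +kernel

theorem nc_word : ∀ m < 512, m &&& 254 = 0 ∨ cjc 1 m ≠ m ∨
    ∃ w ∈ [[0], [1], [0, 1], [0, 1, 0, 1]], cjc (actW abh w m) m ≠ m := by decide +kernel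

theorem fix_word : ∀ w ∈ [[0], [1], [0, 1], [0, 1, 0, 1]], (∀ i ∈ w, i < 2) ∧ actW abh w 1 = 1 ∧
    actW abh w 256 = 256 := by decide +kernel

/-- the local configuration -/
structure Loc (z : G) (Q : Subgroup G) (E : ℕ → G) (ρ : G) : Prop extends Hyp z Q, QC E where
  sub : toQC.sub 0 = Q
  r3 : ρ ^ 3 = 1
  rz : ρ * z * ρ⁻¹ = E 1
  rt : ρ * E 1 * ρ⁻¹ = z * E 1
  sr : E 16 * ρ * (E 16)⁻¹ = ρ⁻¹
  rX : ρ ∈ Q ⊔ cj ρ Q

theorem Hyp.exists_loc [Finite G] {z : G} {Q : Subgroup G} (h : Hyp z Q) {g : G} (hg : g * z * g⁻¹ ∈ Q)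
    (hne : g * z * g⁻¹ ≠ z) : ∃ E ρ, Loc z Q E ρ := by
  have h' := h.toXS.conj g
  obtain ⟨E, hE, hQ, e1⟩ := h.exists_qc hg h'.mul_self h'.ne_one hne
  have ez := h.eq_z hE hQ
  obtain ⟨x, hx, xz, xt⟩ := h.exists_conj_pair hg hne (subset_closure (by simp)) (subset_closure (by simp))
    h'.ne_one h.ne_one hne
  obtain ⟨hR, hR2, -, hN, -⟩ := h.toXS.sup_conj_structure hg hne rfl rfl rfl
  have hP := h.cj_eq_cj xz
  have hs : E 16 ∈ Q := hQ ▸ hE.el_mem (by norm_num)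
  have s2 := hE.sq_gen (m := 16) (by norm_num) rfl
  have st : E 16 * E 1 * (E 16)⁻¹ = z * E 1 := by
    rw [(hE.act_inner (w := 16) (by norm_num) 1 (by norm_num)).2, ← ez, ← hE.z257]; rfl
  rw [← e1] at xz xt hR hN
  have sz := h.comm hs
  have zz := h.mul_self
  have zt : z * E 1 = E 1 * z := (h.comm (e1 ▸ hg)).symm
  set σ := E 16
  set r := σ * (x * σ * x⁻¹) with hr
  have rX : r ∈ Q ⊔ cj g Q := mul_mem_sup hs (hP ▸ conj_mem_cj x hs)
  have rz : r * z * r⁻¹ = E 1 := by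
    calc _ = σ * (x * (σ * (x⁻¹ * z * x) * σ⁻¹) * x⁻¹) * σ⁻¹ := by rw [hr]; group
      _ = σ * (x * z * x⁻¹ * (x * E 1 * x⁻¹)) * σ⁻¹ := by
        rw [show x⁻¹ * z * x = E 1 by rw [← xt]; group, st]; group
      _ = σ * E 1 * σ⁻¹ * (σ * z * σ⁻¹) := by rw [xz, xt]; group
      _ = E 1 := by rw [st, sz, zt, mul_inv_cancel_right, mul_assoc, zz, mul_one]
  have rt : r * E 1 * r⁻¹ = z * E 1 := by
    calc _ = σ * (x * (σ * (x⁻¹ * E 1 * x) * σ⁻¹) * x⁻¹) * σ⁻¹ := by rw [hr]; group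
      _ = z * E 1 := by rw [show x⁻¹ * E 1 * x = z by rw [← xz]; group, sz, mul_inv_cancel_right, xz, st]
  have r3z : r ^ 3 * z * (r ^ 3)⁻¹ = z := by
    calc _ = r * (r * (r * z * r⁻¹) * r⁻¹) * r⁻¹ := by rw [pow_three]; group
      _ = r * (z * E 1) * r⁻¹ := by rw [rz, rt]
      _ = r * z * r⁻¹ * (r * E 1 * r⁻¹) := by group
      _ = z := by rw [rz, rt, zt, ← mul_assoc, hE.sq_gen (m := 1) (by norm_num) rfl, one_mul]
  have r3t : r ^ 3 * E 1 * (r ^ 3)⁻¹ = E 1 := by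
    calc _ = r * (r ^ 3 * (r⁻¹ * E 1 * r) * (r ^ 3)⁻¹) * r⁻¹ := by group
      _ = E 1 := by rw [show r⁻¹ * E 1 * r = z by rw [← rz]; group, r3z, rz]
  have hC : ∀ v ∈ closure ({z, E 1} : Set G), ∀ j : ℕ, (r ^ 3) ^ j * v = v * (r ^ 3) ^ j := fun v hv j => by
    refine (pow_mem (S := 𝒞(closure ({z, E 1} : Set G))) ?_ j v hv).symm
    rw [centralizer_closure]
    rintro _ (rfl | rfl)
    · exact (mul_inv_eq_iff_eq_mul.1 r3z).symm
    · exact (mul_inv_eq_iff_eq_mul.1 r3t).symm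
  obtain ⟨k, hk⟩ := isPGroup_iff_forall.1 (pCoreOf_isPGroup 2 (Q ⊔ cj g Q)) (r ^ 3) (by
    rw [← hR2, ← e1, hR]
    exact ⟨pow_mem rX 3, fun v hv => by simpa using (hC v hv 1).symm⟩)
  obtain ⟨j, hj⟩ : ∃ j, 2 ^ k * 2 ^ k = 3 * j + 1 := ⟨4 ^ k / 3, by
    have := Nat.pow_mod 4 k 3
    rw [← mul_pow]
    norm_num at this ⊢
    omega⟩
  have key : ∀ v w : G, w ∈ closure ({z, E 1} : Set G) → r * v * r⁻¹ = w →
      r ^ (3 * j + 1) * v * (r ^ (3 * j + 1))⁻¹ = w := fun v w hw e => by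
    rw [pow_succ, pow_mul, show ∀ p : G, p * r * v * (p * r)⁻¹ = p * (r * v * r⁻¹) * p⁻¹ from fun p => by group, e,
      hC w hw, mul_inv_cancel_right]
  have hz := key _ _ (subset_closure (by simp)) rz
  refine ⟨E, r ^ (3 * j + 1), h, hE, hQ, ?_, hz, key _ _ (mul_mem (subset_closure (by simp))
    (subset_closure (by simp))) rt, ?_, ?_⟩
  · rw [← hj, ← pow_mul, mul_comm, pow_mul, pow_mul, hk, one_pow]
  · rw [← conj_pow, ← inv_pow, hr, mul_inv_rev, ← mul_assoc, s2, one_mul, conj_inv, inv_eq_of_mul_eq_one_right s2]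
  · rw [h.cj_eq_cj (hz.trans e1)]
    exact pow_mem rX _

theorem inner_fix : ∀ w < 512, cjc w 1 = 1 → cjc w 16 = 16 → w &&& 17 = 0 := by decide +kernel

theorem cjc_fix : ∀ c < 512, c &&& 17 = 0 → cjc c 1 = 1 ∧ cjc c 16 = 16 := by decide +kernel

theorem comm_t : ∀ m < 512, m &&& 16 = 0 → cjc m 1 = 1 := by decide +kernel

theorem fix_a : ∀ u < 512, u &&& 17 = 0 → ∃ c < 256, c &&& 17 = 0 ∧
    ∀ i < 9, cjc u (aut ia (cjc c (2 ^ i))) = cjc c (ia.getD i 256) := by decide +kernel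

/-- tables of `aut ia`, `aut ib` -/
def ta (m : ℕ) : ℕ := Nat.land (Nat.shiftRight 0x2a950b65a2c960ae56a9d4abb5cafd7aa35022910964a249208e46a1d0a9b4ca7d3a83405aad176ba5cae16eb6d9ecb7bbcdfefb63b052a9156aa54aa14ea6d1e8b5bacd7ebb43a01a8d0763a1c8e06e3699cca7b3c9fcfa633012890562a148a04e2691c8a5b2c97cba43206ab51b6da6cb61aed6e9f4bbbdceff7ba3d062b1196ca64b218ec6e1f0b9bcce7f3b83c04aa51369a4ca612e96c9e4b3b9ccfe7b239042a11168a44a210e86c1e0b1b8cc7e3b03803a9d0f67a3c9e0ee76b9dcafb7cbfdfae37032990d66a349a0ce66b1d8adb6cb7dbac3607abd1f6fa7cbe1eef6f9fcbfbfcffffbe3f072b91d6ea74ba1cee6f1f8bdbecf7fbbc3e00a850361a0c8602e1689c4a3b1c8fc7a231002810160a048200e0681c0a1b0c87c3a0300aad52b75aacd62af5629948ba5c2f978a250a2d12974aa4d228f46219089a4c279388240daed377badcee36fb659ac97abc5faf962b0d2e9357aad4ea34fa651a895aac57ab942a09acd2773a9cce26f36198c87a3c1f8f8623092c92572a94ca24f26118885a2c178b84220eaf53b7daecf63afd669b49badc6fb79a2d0e2f1397cae4f238fc661b099acc67b3982c0cae53379acce632f9649a493a9c4fa792290c2e13178ac4e230f8641a091a8c47a390280badd2f77abcde2ef76399c8fa7c3f9f8e270b2d92d76ab4da2cf6631988da6c379b8c260fafd3f7fafcfe3eff679bc9fafc7fbf9e2f0f2f93d7eaf4fa3cfe671b89daec77bb9c2e08ac52371a8cc622f16098483a1c0f878221082c12170a84c220f06018081a0c078380200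 (Nat.mul 9 m)) 511
def tb (m : ℕ) : ℕ := Nat.land (Nat.shiftRight 0xdeef32b940b85a7f3ec8e4373b89dce82612d6eb30b840381a5f2ec0e0353a895ca80602b8dc2b358edf69e6f2aed72eb747bbdbbfdeb0d829348e5f29c6e2a6d32cb6473b9b9fced8ec333988dc686632cee736bb41b8da3f1ed0e83138885c284622c6e334ba41389a1f0ebedf2ab546bb5bfffea8d42f378fdfe9a6d2b6db28b4463b1bdfeea0d02d368f5fa986c2bfdf8ae56eaf53fbfc2994af77afcfe3a3d0b7db88e46e2f13dbec2190ad76af4fa383c0d9ec9369a0c86062304fa7b6fb61a8d03a1cd1e89168a04820422047a3b4fa6128901a0cb9dc8b65a6cb61e2f02f97aef767abd1badcb1d88964a64b21c2e02793acf6672b919accdfef92e968ac527b3c49a4b77ba9cce22310d7eb90e8682c125b2c41a0b57aa94ca203005eaf12a948bc587e3e48a4172b81d8ea271256ab10a8483c185e2e40a0152a8158aa0702389c0b2586db6be7f22e970ea74fbfd9bede30980924865b2bc7e226930ca64f3f999ece58ac132980d86a67324ea716ab49bcd83e1e50a8112880582a472246a314aa493c981e0e3e9f0aa54ebf59fefe28940f2787dbeba7d2369b08a44e3f19deee20900d26875bab87c23f9faaf566ab51fafca9d48f67a7cbe1a2d0379ba8f4662b11daeca1d08d66a74ba182c059acb379a8cc626330cfe796eb69acd23b1c51a8b178a84c224320c7e394ea692c921b0c399cab75aecf63e3f0afd78ee76fafd3bbdc3198a974ae4f23c3e0a7d38ce66f2f939bcc5fafb2f960a8507a3cc9e4976ba1c8e0221057abb0f86028105a2cc1e0956aa148a00200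 (Nat.mul 9 m)) 511

theorem ta_eq : ∀ m < 512, aut ia m = ta m := by decide +kernel
theorem tb_eq : ∀ m < 512, aut ib m = tb m := by decide +kernel

/-- the letters `a` and `w b` -/
def lt2 (w i m : ℕ) : ℕ := if i = 0 then ta m else cjc w (tb m)

/-- an outer automorphism interchanging the two classes of complements -/
def al : List ℕ := [1, 430, 164, 160, 16, 288, 448, 492]
def wa : List ℕ := [1, 1, 0, 0, 1, 1, 0, 1, 0, 1]
def wb : List ℕ := [1, 0, 1, 0, 0, 0, 0, 0, 0, 1, 1]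

/-- relators of `A₈` -/
def rels8 : List (List ℕ) := [[1, 1, 1], [1, 1, 0, 0, 1, 0, 0, 1, 1, 0, 0, 1, 0, 0, 1, 1, 0, 0, 1, 0, 0],
  [1, 0, 0, 0, 1, 0, 0, 0, 1, 0, 0, 0, 1, 0, 0, 0, 1, 0, 0, 0, 1, 0, 0, 0]]

theorem aut_al : IsAut (aut al) := isAut_aut (by decide +kernel)

theorem fix_b : ∀ w < 512, w &&& 17 = 0 → (∀ i < 9, cjc w (aut ib (2 ^ i)) = ib.getD i 256) ∨
    (∀ i < 9, actW (lt2 w) wa (aut al (2 ^ i)) = aut al (ia.getD i 256) ∧
      actW (lt2 w) wb (aut al (2 ^ i)) = aut al (ib.getD i 256)) ∨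
    ∃ r ∈ rels8, (∀ i < 9, (actW (lt2 w) r (2 ^ i) ^^^ 2 ^ i) &&& 255 = 0) ∧ ∃ i < 9, actW (lt2 w) r (2 ^ i) ≠ 2 ^ i := by
  decide +kernel

theorem xor_cases : ∀ x < 512, ∀ i < 9, (x ^^^ 2 ^ i) &&& 255 = 0 → x = 2 ^ i ∨ x = 2 ^ i ^^^ 256 := by decide +kernel

namespace Loc

variable [Finite G] {z : G} {Q : Subgroup G} {E : ℕ → G} {ρ : G} (h : Loc z Q E ρ)
include h

theorem ez : E 256 = z := h.eq_z h.toQC h.sub

theorem el {m : ℕ} (hm : m < 512) : E m ∈ Q := h.sub ▸ h.el_mem hm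

theorem ex {x : G} (hx : x ∈ Q) : ∃ m < 512, E m = x := h.mem_sub_zero.1 (h.sub.ge hx)

theorem tz : E 1 ≠ z := fun e => absurd (h.inj (by norm_num) (by norm_num) (e.trans h.ez.symm)) (by norm_num)

theorem comp {f : ℕ → ℕ} (hf : IsAut f) (h1 : f 1 = 1) (h16 : f 16 = 16) : Loc z Q (fun m => E (f m)) ρ :=
  ⟨h.toHyp, h.toQC.comp hf, (h.toQC.comp_sub hf).trans h.sub, h.r3, by rw [h1]; exact h.rz, by rw [h1]; exact h.rt,
    by rw [h16]; exact h.sr, h.rX⟩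

theorem xs2 : XS (E 1) (cj ρ Q) := h.rz ▸ h.toXS.conj ρ

theorem act_norm {c : G} {f : ℕ → ℕ} (hc : Act c E f) (h1 : f 1 = 1) (hz : f 256 = 256) :
    c ∈ centralizer ({z} : Set G) ∧ c ∈ centralizer ({E 1} : Set G) :=
  ⟨mem_cent_singleton.2 (h.ez ▸ hc.comm (by norm_num) hz), mem_cent_singleton.2 (hc.comm (by norm_num) h1)⟩

/-- `Q ∩ Q ^ ρ = ⟨z, t⟩` -/
theorem inf_eq {m : ℕ} (hm : m < 512) (hx : E m ∈ cj ρ Q) : m &&& 254 = 0 := by
  have key : ∀ k < 512, E k ∈ cj ρ Q → cjc k m = m := fun k hk hk' => h.cjc_eq hk hm (by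
    rcases h.mem_Z.1 (h.comm_mem (h.el hk) (h.el hm)) with e | e
    · exact commutatorElement_eq_one_iff_mul_comm.1 e
    · rcases h.xs2.mem_Z.1 (h.xs2.comm_mem hk' hx) with e' | e'
      · exact commutatorElement_eq_one_iff_mul_comm.1 e'
      · exact absurd (e'.symm.trans e) h.tz)
  obtain ⟨a, ha⟩ := h.lift_a h.toQC h.sub
  obtain ⟨b, hb⟩ := h.lift_b h.toQC h.sub
  rcases nc_word m hm with e | e | ⟨w, hw, e⟩
  · exact e
  · exact absurd (key 1 (by norm_num) h.xs2.mem) e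
  · obtain ⟨w1, w2, w3⟩ := fix_word w hw
    have hc : Act (ev (fun i => [a, b].getD i 1) w) E (actW abh w) := act_ev fun i hi => by
      have := w1 i hi
      interval_cases i
      · exact ha
      · exact hb
    exact absurd (key _ (hc m hm).1 ((hc m hm).2 ▸ conj_mem (h.xs2.norm (h.act_norm hc w2 w3).2) hx)) e

theorem eq_one_of_comm {d : G} (hd : d ∈ Q) (hc : ρ * d = d * ρ) : d = 1 := by
  obtain ⟨m, hm, rfl⟩ := h.ex hd
  have e : ρ * E m * ρ⁻¹ = E m := mul_inv_eq_iff_eq_mul.2 hc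
  rcases v_cases m hm (h.inf_eq hm (e ▸ conj_mem_cj ρ hd)) with rfl | rfl | rfl | rfl
  · exact h.zero
  · exact absurd (by simpa [h.rt] using e) h.ne_one
  · exact absurd (by rwa [h.ez, h.rz] at e) h.tz
  · rw [h.z257, h.ez, ← conj_mul, h.rz, h.rt, ← mul_assoc, h.comm (h.el (by norm_num)), mul_left_inj, mul_eq_left] at e
    exact absurd e h.xs2.ne_one

/-- the subgroup `2 ^ (2 + 12)` -/
def R (_ : Loc z Q E ρ) : Subgroup G := cj ρ Q ⊓ centralizer ({z} : Set G) ⊔ Q ⊓ centralizer ({E 1} : Set G)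

theorem str : h.R = (Q ⊔ cj ρ Q) ⊓ 𝒞(closure ({z, E 1} : Set G)) ∧ ρ ∈ 𝒩(closure ({z, E 1} : Set G)) := by
  obtain ⟨h1, -, -, h2, -⟩ := h.toXS.sup_conj_structure (g := ρ) (h.rz ▸ h.el (by norm_num)) (h.rz ▸ h.tz) rfl rfl rfl
  rw [h.rz] at h1 h2
  exact ⟨h1, h2 ▸ mem_sup_left h.rX⟩

theorem mem_cV {c : G} : c ∈ 𝒞(closure ({z, E 1} : Set G)) ↔
    c ∈ centralizer ({z} : Set G) ∧ c ∈ centralizer ({E 1} : Set G) := by
  simp only [centralizer_closure, mem_centralizer_iff, Set.mem_insert_iff, Set.mem_singleton_iff, forall_eq_or_imp,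
    forall_eq]

theorem r_norm : ρ ∈ 𝒩(h.R) := by
  rw [h.str.1]
  exact inf_normalizer_le_normalizer_inf ⟨le_normalizer h.rX, norm_le_norm_cent _ h.str.2⟩

theorem mem_of_comm {r : G} (hr : r ∈ h.R) (hc : E 16 * r = r * E 16) : r ∈ Q := by
  obtain ⟨p, ⟨hp, pz⟩, q, ⟨hq, -⟩, rfl⟩ := (mem_sup_nr (le_norm_inf (inf_le_right.trans h.norm)
    (inf_le_left.trans (h.xs2.le.trans le_normalizer)))).1 hr
  have hs := h.el (m := 16) (by norm_num)
  have h1 : E 16 * p * (E 16)⁻¹ = p * ⁅q, E 16⁆ := by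
    rw [commutatorElement_def, show p * (q * E 16 * q⁻¹ * (E 16)⁻¹) = p * q * E 16 * q⁻¹ * (E 16)⁻¹ by group, ← hc]
    group
  have hz : z ∈ cj ρ Q := h.mem_cj_of_conj_mem (h.rz ▸ h.el (by norm_num))
  have h2 : cj ((E 16)⁻¹ * ρ) Q = cj (ρ * ρ) Q := h.cj_eq_cj (by
    rw [inv_eq_of_mul_eq_one_right (h.sq_gen (m := 16) (by norm_num) rfl),
      show ∀ a b : G, a * b * z * (a * b)⁻¹ = a * (b * z * b⁻¹) * a⁻¹ from fun a b => by group,
      show ∀ a b : G, a * b * z * (a * b)⁻¹ = a * (b * z * b⁻¹) * a⁻¹ from fun a b => by group, h.rz, h.rt,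
      (h.act_inner (w := 16) (by norm_num) 1 (by norm_num)).2, ← h.ez, ← h.z257]; rfl)
  have h3 : p ∈ cj ρ (cj ρ Q) := by
    rw [← cj_mul, ← h2, cj_mul, mem_cj, inv_inv, h1]
    exact mul_mem hp (zpowers_le.2 hz (h.comm_mem hq hs))
  obtain ⟨m, hm, e⟩ := h.ex (mem_cj.1 hp)
  have h4 : p = ρ * E m * ρ⁻¹ := by rw [e]; group
  refine mul_mem ?_ hq
  rcases v_cases m hm (h.inf_eq hm (e ▸ mem_cj.1 h3)) with rfl | rfl | rfl | rfl <;> rw [h4]
  · simp [h.zero]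
  · exact h.rt ▸ mul_mem h.mem (h.el (by norm_num))
  · exact h.ez ▸ h.rz ▸ h.el (by norm_num)
  · rw [h.z257, h.ez, ← conj_mul, h.rz, h.rt]
    exact mul_mem (h.el (by norm_num)) (mul_mem h.mem (h.el (by norm_num)))

theorem comm_s {k : G} (hz : k ∈ centralizer ({z} : Set G)) (hc : ρ * k = k * ρ) : E 16 * k = k * E 16 := by
  have hs := h.el (m := 16) (by norm_num)
  have h1 := h.eq_one_of_comm (mul_mem (conj_mem' (h.norm hz) hs) (inv_mem hs)) (by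
    have e : (E 16)⁻¹ * ρ = ρ⁻¹ * (E 16)⁻¹ := by
      rw [inv_eq_of_mul_eq_one_right (h.sq_gen (m := 16) (by norm_num) rfl), ← h.sr]; group
    have e' : E 16 * ρ⁻¹ = ρ * E 16 := by
      rw [← mul_inv_eq_iff_eq_mul, ← conj_inv, h.sr, inv_inv]
    have c1 : Commute ρ k := hc
    calc _ = k⁻¹ * (ρ * E 16) * k * (E 16)⁻¹ := by rw [← mul_assoc, ← mul_assoc, ← mul_assoc, c1.inv_right.eq]; group
      _ = k⁻¹ * E 16 * (ρ⁻¹ * k) * (E 16)⁻¹ := by rw [← e']; group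
      _ = _ := by rw [c1.inv_left.eq, mul_assoc _ (E 16)⁻¹, e]; group)
  rw [mul_inv_eq_one, mul_assoc, inv_mul_eq_iff_eq_mul] at h1
  exact h1

theorem fpf {r : G} (hr : r ∈ h.R) (hc : ρ * r = r * ρ) : r = 1 :=
  h.eq_one_of_comm (h.mem_of_comm hr (h.comm_s (h.mem_cV.1 (h.str.1 ▸ hr).2).1 hc)) hc

theorem fpf' : MonoidHom.FixedPointFree (h.R.normalizerMonoidHom ⟨ρ, h.r_norm⟩) := fun r e =>
  Subtype.ext (h.fpf r.2 (mul_inv_eq_iff_eq_mul.1 (congrArg Subtype.val e)))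

theorem cube {r : G} (hr : r ∈ h.R) : (r * ρ) ^ 3 = 1 := by
  have h1 := congrArg Subtype.val (h.fpf'.prod_pow_eq_one (n := 3) (funext fun x => Subtype.ext (by
    change ρ * (ρ * (ρ * x * ρ⁻¹) * ρ⁻¹) * ρ⁻¹ = x
    rw [show ρ * (ρ * (ρ * x * ρ⁻¹) * ρ⁻¹) * ρ⁻¹ = ρ ^ 3 * x * (ρ ^ 3)⁻¹ by rw [pow_three]; group, h.r3]; simp)) ⟨r, hr⟩)
  change r * (ρ * r * ρ⁻¹ * (ρ * (ρ * r * ρ⁻¹) * ρ⁻¹ * 1)) = 1 at h1
  calc (r * ρ) ^ 3 = r * (ρ * r * ρ⁻¹ * (ρ * (ρ * r * ρ⁻¹) * ρ⁻¹ * 1)) * ρ ^ 3 := by rw [pow_three, pow_three]; group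
    _ = 1 := by rw [h1, h.r3, mul_one]

/-- lifts commuting with `ρ` -/
theorem lift_K {c : G} {f : ℕ → ℕ} (hc : Act c E f) (h1 : f 1 = 1) (h16 : f 16 = 16) (hz : f 256 = 256) :
    ∃ k, ∃ w < 512, w &&& 17 = 0 ∧ k * ρ = ρ * k ∧ Act k E fun m => cjc w (f m) := by
  obtain ⟨cz, ct⟩ := h.act_norm hc h1 hz
  have hcV := h.mem_cV.2 ⟨cz, ct⟩
  obtain ⟨⟨s, hs⟩, e⟩ := h.fpf'.commutatorMap_surjective ⟨c * ρ * c⁻¹ * ρ⁻¹, h.str.1 ▸
    ⟨mul_mem (conj_mem (normalizer_inf_normalizer_le_normalizer_sup _ _ ⟨h.norm cz, h.xs2.norm ct⟩) h.rX)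
      ((Q ⊔ cj ρ Q).inv_mem h.rX), by
      rw [mul_assoc, mul_assoc, ← mul_assoc ρ]
      exact mul_mem hcV (conj_mem (norm_le_norm_cent _ h.str.2) (inv_mem hcV))⟩⟩
  replace e : s / (ρ * s * ρ⁻¹) = c * ρ * c⁻¹ * ρ⁻¹ := congrArg Subtype.val e
  have hsV := h.mem_cV.1 (h.str.1 ▸ hs).2
  have hk : ρ * (s⁻¹ * c) = s⁻¹ * c * ρ := by
    calc _ = s⁻¹ * (s / (ρ * s * ρ⁻¹)) * ρ * c := by rw [div_eq_mul_inv]; group
      _ = _ := by rw [e]; group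
  have h2 := h.comm_s (mul_mem (inv_mem hsV.1) cz) hk
  have h3 : E 16 * s⁻¹ = s⁻¹ * E 16 := by
    rw [mul_assoc, hc.comm (by norm_num) h16, ← mul_assoc, ← mul_assoc, mul_left_inj] at h2
    exact h2
  obtain ⟨w, hw, ew⟩ := h.ex (h.mem_of_comm (inv_mem hs) h3)
  exact ⟨s⁻¹ * c, w, hw, inner_fix w hw (h.cjc_eq hw (by norm_num) (ew ▸ mem_cent_singleton.1 (inv_mem hsV.2)))
    (h.cjc_eq hw (by norm_num) (ew ▸ h3.symm)), hk.symm, ew ▸ (h.act_inner hw).mul hc⟩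

theorem eq_one_of_act {k : G} {f : ℕ → ℕ} (hk : Act k E f) (hc : k * ρ = ρ * k)
    (hf : ∀ i < 9, (f (2 ^ i) ^^^ 2 ^ i) &&& 255 = 0) : k = 1 := by
  have h1 : ∀ i < 9, k * E (2 ^ i) * k⁻¹ = E (2 ^ i) ∨ k * E (2 ^ i) * k⁻¹ = E (2 ^ i) * z := fun i hi => by
    have h2 : 2 ^ i < 512 := Nat.pow_lt_pow_right one_lt_two hi
    rw [(hk _ h2).2, ← h.ez, ← h.xor_z h2]
    exact (xor_cases _ (hk _ h2).1 i hi (hf i hi)).imp (congrArg E) (congrArg E)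
  have kz : k * z * k⁻¹ = z := by
    have := h1 8 (by norm_num)
    rw [show E (2 ^ 8) = z from h.ez, h.mul_self] at this
    exact this.resolve_right fun e => h.ne_one (by simpa using e)
  let K : Subgroup G :=
    { carrier := {x | x ∈ Q ∧ ⁅k, x⁆ ∈ zpowers z}
      one_mem' := ⟨Q.one_mem, by simp⟩
      mul_mem' := fun {x y} hx hy => ⟨mul_mem hx.1 hy.1, by
        rw [show ⁅k, x * y⁆ = ⁅k, x⁆ * (x * ⁅k, y⁆ * x⁻¹) by simp only [commutatorElement_def]; group]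
        exact mul_mem hx.2 (by rcases h.mem_Z.1 hy.2 with e | e <;> simp [e, h.comm hx.1])⟩
      inv_mem' := fun {x} hx => ⟨inv_mem hx.1, by
        rw [show ⁅k, x⁻¹⁆ = x⁻¹ * ⁅k, x⁆⁻¹ * x by simp only [commutatorElement_def]; group]
        rcases h.mem_Z.1 hx.2 with e | e <;> simp [e, h.toXS.inv_eq, h.comm (inv_mem hx.1)]⟩ }
  refine h.eq_one_of_comm (h.stab k (mem_cent_singleton.2 (mul_inv_eq_iff_eq_mul.1 kz)) fun x hx => ?_) hc.symm
  obtain ⟨m, hm, rfl⟩ := h.ex hx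
  refine (h.toQC.mem (K := K) hm fun i hi _ => ⟨h.el (Nat.pow_lt_pow_right one_lt_two hi), ?_⟩).2
  rw [commutatorElement_def]
  rcases h1 i hi with e | e <;> simp [e, h.comm (h.el (Nat.pow_lt_pow_right one_lt_two hi))]

theorem nd {a b : G} (ar : a * ρ = ρ * a) (br : b * ρ = ρ * b) (ha : Act a E (aut ia)) (hb : Act b E (aut ib)) :
    ND E ρ a b :=
  ⟨h.toQC, h.r3, fun m hm e => h.cube (mem_sup_right ⟨h.el hm, mem_cent_singleton.2
    ((h.act_inner hm).comm (by norm_num) (comm_t m hm e))⟩), h.ez ▸ h.rz, by rw [h.rt, h.z257, h.ez], h.sr, ar, br, ha, hb,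
    h.eq_one_of_act (ha.pow 7) (Commute.pow_left ar 7) (by decide +kernel),
    h.eq_one_of_act (hb.pow 3) (Commute.pow_left br 3) (by decide +kernel)⟩

theorem exists_nd : ∃ E a b, Loc z Q E ρ ∧ ND E ρ a b := by
  obtain ⟨a', ha'⟩ := h.lift_a h.toQC h.sub
  obtain ⟨a, u, hu, u0, ar, ha⟩ := h.lift_K ha' (by decide +kernel) (by decide +kernel) aut_ia.z
  obtain ⟨c, hc, c0, e⟩ := fix_a u hu u0
  have hc' : c < 512 := by omega
  have h' := h.comp (isAut_cjc hc') (cjc_fix c hc' c0).1 (cjc_fix c hc' c0).2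
  have ha := h'.act_aut (y := a) (im := ia) (by decide) fun i hi =>
    (ha _ (cjc_lt c (Nat.pow_lt_pow_right one_lt_two hi))).2.trans (congrArg E (e i hi))
  generalize (fun m => E (cjc c m)) = E at h' ha
  obtain ⟨b', hb'⟩ := h'.lift_b h'.toQC h'.sub
  obtain ⟨b, w, hw, w0, br, hb⟩ := h'.lift_K hb' (by decide +kernel) (by decide +kernel) aut_ib.z
  have hl : ∀ r, Act (ev (fun i => if i = 0 then a else b) r) E (actW (lt2 w) r) := fun r => act_ev fun i _ => by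
    unfold lt2
    split_ifs
    · exact ha.congr ta_eq
    · exact hb.congr fun m hm => by rw [tb_eq m hm]
  have hr : ∀ r, ev (fun i => if i = 0 then a else b) r * ρ = ρ * ev (fun i => if i = 0 then a else b) r := fun r =>
    mem_cent_singleton.1 (ev_mem fun i _ => mem_cent_singleton.2 (by split_ifs; exacts [ar, br]))
  rcases fix_b w hw w0 with e | e | ⟨r, -, e, i, hi, ne⟩
  · exact ⟨E, a, b, h', h'.nd ar br ha (h'.act_aut (by decide) fun i hi =>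
      (hb _ (Nat.pow_lt_pow_right one_lt_two hi)).2.trans (congrArg E (e i hi)))⟩
  · have h2 := h'.comp aut_al (by decide +kernel) (by decide +kernel)
    have lt := fun i (hi : i < 9) => aut_al.lt _ (Nat.pow_lt_pow_right one_lt_two hi)
    exact ⟨_, _, _, h2, h2.nd (hr wa) (hr wb)
      (h2.act_aut (by decide) fun i hi => by rw [(hl wa _ (lt i hi)).2, (e i hi).1])
      (h2.act_aut (by decide) fun i hi => by rw [(hl wb _ (lt i hi)).2, (e i hi).2])⟩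
  · have h2 : 2 ^ i < 512 := Nat.pow_lt_pow_right one_lt_two hi
    have h3 := (hl r _ h2).2
    rw [h'.eq_one_of_act (hl r) (hr r) e, one_mul, inv_one, mul_one] at h3
    exact absurd (h'.inj (hl r _ h2).1 h2 h3.symm) ne

end Loc

end CL.CoR
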