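import Cfsg.Agent.Spor.TCCo1L2C0
import Cfsg.Agent.Spor.TCCo1L2C1
import Cfsg.Agent.Spor.TCCo1L2C2

/-! coset enumeration certificate generated by tools/tc -/

set_option maxRecDepth 100000
set_option autoImplicit false
set_option linter.all false

namespace CL.TC.Co1L2

theorem mz0 : AllZ mF 1 (nat_lit 18181) := (AllZ.step (AllZ.step (AllZ.step (AllZ.step (AllZ.step (AllZ.step (AllZ.step (AllZ.step (AllZ.step (AllZ.step (AllZ.step (AllZ.step (AllZ.step (AllZ.step (AllZ.step (AllZ.step (AllZ.step (AllZ.step (AllZ.step (AllZ.step (AllZ.nil mF 1) (nat_lit 909) (nat_lit 910) rfl m0) (nat_lit 909) (nat_lit 1819) rfl m1) (nat_lit 909) (nat_lit 2728) rfl m2) (nat_lit 909) (nat_lit 3637) rfl m3) (nat_lit 909) (nat_lit 4546) rfl m4) (nat_lit 909) (nat_lit 5455) rfl m5) (nat_lit 909) (nat_lit 6364) rfl m6) (nat_lit 909) (nat_lit 7273) rfl m7) (nat_lit 909) (nat_lit 8182) rfl m8) (nat_lit 909) (nat_lit 9091) rfl m9) (nat_lit 909) (nat_lit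 10000) rfl m10) (nat_lit 909) (nat_lit 10909) rfl m11) (nat_lit 909) (nat_lit 11818) rfl m12) (nat_lit 909) (nat_lit 12727) rfl m13) (nat_lit 909) (nat_lit 13636) rfl m14) (nat_lit 909) (nat_lit 14545) rfl m15) (nat_lit 909) (nat_lit 15454) rfl m16) (nat_lit 909) (nat_lit 16363) rfl m17) (nat_lit 909) (nat_lit 17272) rfl m18) (nat_lit 909) (nat_lit 18181) rfl m19)
theorem mz1 : AllZ mF 1 (nat_lit 36361) := (AllZ.step (AllZ.step (AllZ.step (AllZ.step (AllZ.step (AllZ.step (AllZ.step (AllZ.step (AllZ.step (AllZ.step (AllZ.step (AllZ.step (AllZ.step (AllZ.step (AllZ.step (AllZ.step (AllZ.step (AllZ.step (AllZ.step (AllZ.step mz0 (nat_lit 909) (nat_lit 19090) rfl m20) (nat_lit 909) (nat_lit 19999) rfl m21) (nat_lit 909) (nat_lit 20908) rfl m22) (nat_lit 909) (nat_lit 21817) rfl m23) (nat_lit 909) (nat_lit 22726) rfl m24) (nat_lit 909) (nat_lit 23635) rfl m25) (nat_lit 909) (nat_lit 24544) rfl m26) (nat_lit 909) (nat_lit 25453) rfl m27)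 (nat_lit 909) (nat_lit 26362) rfl m28) (nat_lit 909) (nat_lit 27271) rfl m29) (nat_lit 909) (nat_lit 28180) rfl m30) (nat_lit 909) (nat_lit 29089) rfl m31) (nat_lit 909) (nat_lit 29998) rfl m32) (nat_lit 909) (nat_lit 30907) rfl m33) (nat_lit 909) (nat_lit 31816) rfl m34) (nat_lit 909) (nat_lit 32725) rfl m35) (nat_lit 909) (nat_lit 33634) rfl m36) (nat_lit 909) (nat_lit 34543) rfl m37) (nat_lit 909) (nat_lit 35452) rfl m38) (nat_lit 909) (nat_lit 36361) rfl m39)
theorem mz2 : AllZ mF 1 (nat_lit 54541) := (AllZ.step (AllZ.step (AllZ.step (AllZ.step (AllZ.step (AllZ.step (AllZ.step (AllZ.step (AllZ.step (AllZ.step (AllZ.step (AllZ.step (AllZ.step (AllZ.step (AllZ.step (AllZ.step (AllZ.step (AllZ.step (AllZ.step (AllZ.step mz1 (nat_lit 909) (nat_lit 37270) rfl m40) (nat_lit 909) (nat_lit 38179) rfl m41) (nat_lit 909) (nat_lit 39088) rfl m42) (nat_lit 909) (nat_lit 39997) rfl m43) (nat_lit 909) (nat_lit 40906) rfl m44) (nat_lit 909)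 (nat_lit 41815) rfl m45) (nat_lit 909) (nat_lit 42724) rfl m46) (nat_lit 909) (nat_lit 43633) rfl m47) (nat_lit 909) (nat_lit 44542) rfl m48) (nat_lit 909) (nat_lit 45451) rfl m49) (nat_lit 909) (nat_lit 46360) rfl m50) (nat_lit 909) (nat_lit 47269) rfl m51) (nat_lit 909) (nat_lit 48178) rfl m52) (nat_lit 909) (nat_lit 49087) rfl m53) (nat_lit 909) (nat_lit 49996) rfl m54) (nat_lit 909) (nat_lit 50905) rfl m55) (nat_lit 909) (nat_lit 51814) rfl m56) (nat_lit 909) (nat_lit 52723) rfl m57) (nat_lit 909) (nat_lit 53632) rfl m58) (nat_lit 909) (nat_lit 54541) rfl m59)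
theorem mz3 : AllZ mF 1 (nat_lit 72721) := (AllZ.step (AllZ.step (AllZ.step (AllZ.step (AllZ.step (AllZ.step (AllZ.step (AllZ.step (AllZ.step (AllZ.step (AllZ.step (AllZ.step (AllZ.step (AllZ.step (AllZ.step (AllZ.step (AllZ.step (AllZ.step (AllZ.step (AllZ.step mz2 (nat_lit 909) (nat_lit 55450) rfl m60) (nat_lit 909) (nat_lit 56359) rfl m61) (nat_lit 909) (nat_lit 57268) rfl m62) (nat_lit 909) (nat_lit 58177) rfl m63) (nat_lit 909) (nat_lit 59086) rfl m64) (nat_lit 909) (nat_lit 59995) rfl m65) (nat_lit 909) (nat_lit 60904) rfl m66) (nat_lit 909) (nat_lit 61813) rfl m67) (nat_lit 909) (nat_lit 62722) rfl m68) (nat_lit 909) (nat_lit 63631) rfl m69) (nat_lit 909) (nat_lit 64540) rfl m70) (nat_lit 909) (nat_lit 65449) rfl m71) (nat_lit 909) (nat_lit 66358) rfl m72) (nat_lit 909) (nat_lit 67267) rfl m73) (nat_lit 909) (nat_lit 68176) rfl m74) (nat_lit 909) (nat_lit 69085) rfl m75) (nat_lit 909) (nat_lit 69994) rfl m76) (nat_lit 909)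 (nat_lit 70903) rfl m77) (nat_lit 909) (nat_lit 71812) rfl m78) (nat_lit 909) (nat_lit 72721) rfl m79)
theorem mz4 : AllZ mF 1 (nat_lit 90901) := (AllZ.step (AllZ.step (AllZ.step (AllZ.step (AllZ.step (AllZ.step (AllZ.step (AllZ.step (AllZ.step (AllZ.step (AllZ.step (AllZ.step (AllZ.step (AllZ.step (AllZ.step (AllZ.step (AllZ.step (AllZ.step (AllZ.step (AllZ.step mz3 (nat_lit 909) (nat_lit 73630) rfl m80) (nat_lit 909) (nat_lit 74539) rfl m81) (nat_lit 909) (nat_lit 75448) rfl m82) (nat_lit 909) (nat_lit 76357) rfl m83) (nat_lit 909) (nat_lit 77266) rfl m84) (nat_lit 909) (nat_lit 78175) rfl m85) (nat_lit 909) (nat_lit 79084) rfl m86) (nat_lit 909) (nat_lit 79993) rfl m87) (nat_lit 909) (nat_lit 80902) rfl m88) (nat_lit 909) (nat_lit 81811) rfl m89) (nat_lit 909) (nat_lit 82720) rfl m90) (nat_lit 909) (nat_lit 83629) rfl m91) (nat_lit 909) (nat_lit 84538) rfl m92) (nat_lit 909) (nat_lit 85447) rfl m93) (nat_lit 909) (nat_lit 86356)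 rfl m94) (nat_lit 909) (nat_lit 87265) rfl m95) (nat_lit 909) (nat_lit 88174) rfl m96) (nat_lit 909) (nat_lit 89083) rfl m97) (nat_lit 909) (nat_lit 89992) rfl m98) (nat_lit 909) (nat_lit 90901) rfl m99)
theorem mz5 : AllZ mF 1 (nat_lit 98281) := (AllZ.step (AllZ.step (AllZ.step (AllZ.step (AllZ.step (AllZ.step (AllZ.step (AllZ.step (AllZ.step mz4 (nat_lit 909) (nat_lit 91810) rfl m100) (nat_lit 909) (nat_lit 92719) rfl m101) (nat_lit 909) (nat_lit 93628) rfl m102) (nat_lit 909) (nat_lit 94537) rfl m103) (nat_lit 909) (nat_lit 95446) rfl m104) (nat_lit 909) (nat_lit 96355) rfl m105) (nat_lit 909) (nat_lit 97264) rfl m106) (nat_lit 909) (nat_lit 98173) rfl m107) (nat_lit 108) (nat_lit 98281) rfl m108)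
theorem xz0 : XZ xF (nat_lit 1) := (XZ.step (XZ.nil xF) s0 (nat_lit 1) (nat_lit 1) (by decide +kernel) x0)
/-- the certificate (98280 points) is valid -/
theorem valid : cert.Valid (fun i => invL.getD i i) rels subs 11 :=
  ⟨by decide +kernel, tabok, by decide +kernel, mz5, xz0⟩
theorem cert_N : cert.N = 98280 := rfl

end CL.TC.Co1L2
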