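/-
A standard permutation model (PSp, dimension 4, field with 3 elements): degree 40, order 25920.
Generated by tools/pg.
-/
import Cfsg.Agent.Spor.PGCls
import Cfsg.Agent.Spor.PGCtx

set_option autoImplicit false
set_option maxRecDepth 200000
set_option Elab.async false
set_option linter.unusedVariables false

namespace CL.Std.PS43.M
open CL.PG

def P : Par := ⟨80, 80, 7, 3⟩
theorem hP : P.Ok := by decide
noncomputable def a0 : Net := (.cons 40 (nat_lit 0x3c00000000)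
 (.cons 20 (nat_lit 0x790410000000000)
 (.cons 10 (nat_lit 0x185000f2000d200000)
 (.cons 5 (nat_lit 0x341e034010100600000)
 (.cons 1 (nat_lit 0x1000a02000000000)
 (.cons 1 (nat_lit 0x12802121405010200000)
 (.cons 1 (nat_lit 0x294a5290a42948400000)
 (.cons 1 (nat_lit 0x5294a5294a1084800000)
 (.cons 1 (nat_lit 0x1080014052048400000)
 (.cons 5 (nat_lit 0x20000201c0101400000)
 (.cons 10 (nat_lit 0x24002900029200000)
 (.cons 20 (nat_lit 0xc92000000000000)
 (.cons 40 (nat_lit 0xe080000000)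
 .nil)))))))))))))
noncomputable def a1 : Net := (.cons 40 (nat_lit 0x70783c1e8)
 (.cons 20 (nat_lit 0x31188000003399c)
 (.cons 10 (nat_lit 0x26400188001dc003f5)
 (.cons 5 (nat_lit 0x40a060020280f02813)
 (.cons 1 (nat_lit 0x420004000002008000)
 (.cons 1 (nat_lit 0x2840028000014050000)
 (.cons 1 (nat_lit 0x1080010200008020000)
 (.cons 1 (nat_lit 0x2942028405014852042)
 (.cons 1 (nat_lit 0x4a0014000142428481)
 (.cons 5 (nat_lit 0x800002020080680a)
 (.cons 10 (nat_lit 0x264001880009a0012c)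
 (.cons 20 (nat_lit 0x31188000003399c)
 (.cons 40 (nat_lit 0x870783c1e0)
 .nil)))))))))))))
noncomputable def a2 : Net := (.cons 40 (nat_lit 0x98c282840)
 (.cons 20 (nat_lit 0xc5a52000006b274)
 (.cons 10 (nat_lit 0xa00244000e1003b8)
 (.cons 5 (nat_lit 0x44160001d0181106002)
 (.cons 1 (nat_lit 0x280000000000000)
 (.cons 1 (nat_lit 0x2802500400000002008)
 (.cons 1 (nat_lit 0x1404280a001000290a5)
 (.cons 1 (nat_lit 0x280850140008081294a)
 (.cons 1 (nat_lit 0x20004280000140028081)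
 (.cons 5 (nat_lit 0x6014040140000005008)
 (.cons 10 (nat_lit 0x208003040006200138)
 (.cons 20 (nat_lit 0xc5a5200000602b6)
 (.cons 40 (nat_lit 0x1cc282840)
 .nil)))))))))))))
noncomputable def a3 : Net := (.cons 40 (nat_lit 0x3fdf008)
 (.cons 20 (nat_lit 0x1f800000041ec0)
 (.cons 10 (nat_lit 0x7c00079000380003c)
 (.cons 5 (nat_lit 0x1c1f0100f0481200410)
 (.cons 1 (nat_lit 0x1020000000000020000)
 (.cons 1 (nat_lit 0x528420010a0010050800)
 (.cons 1 (nat_lit 0x29485004852908429404)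
 (.cons 1 (nat_lit 0x1290a009421214252808)
 (.cons 1 (nat_lit 0x8084014a02100528404)
 (.cons 5 (nat_lit 0x4018010000481202810)
 (.cons 10 (nat_lit 0x38000700003800238)
 (.cons 20 (nat_lit 0x1f8000000016c0)
 (.cons 40 (nat_lit 0x8043fde000)
 .nil)))))))))))))
noncomputable def a4 : Net := (.cons 40 (nat_lit 0x7366d6a82d)
 (.cons 20 (nat_lit 0x651d8000002bccf)
 (.cons 10 (nat_lit 0x3080029b0009f000f5)
 (.cons 5 (nat_lit 0x1c160701f0581d0540f)
 (.cons 1 (nat_lit 0x140000001)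
 (.cons 1 (nat_lit 0x1200010148028404280a)
 (.cons 1 (nat_lit 0x290a0210a5294a521484)
 (.cons 1 (nat_lit 0x5284a40842129421094a)
 (.cons 1 (nat_lit 0x9081280212040521425)
 (.cons 5 (nat_lit 0x1018048080201c03816)
 (.cons 10 (nat_lit 0x40000fc0017200396)
 (.cons 20 (nat_lit 0x2311e00000909dc)
 (.cons 40 (nat_lit 0x8fd6f2f206)
 .nil)))))))))))))
noncomputable def a5 : Net := (.cons 40 (nat_lit 0x9b992b677d)
 (.cons 20 (nat_lit 0xe018000000fbf41)
 (.cons 10 (nat_lit 0xd400388002790000d)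
 (.cons 5 (nat_lit 0x1c190100805c0304019)
 (.cons 1 (nat_lit 0x20000000002000000)
 (.cons 1 (nat_lit 0x42500001214000000)
 (.cons 1 (nat_lit 0x21084290a4294a520001)
 (.cons 1 (nat_lit 0x5090852042529424084a)
 (.cons 1 (nat_lit 0x2048000021290a008024)
 (.cons 5 (nat_lit 0x810028000401e0400c)
 (.cons 10 (nat_lit 0x1b6003040007c00004)
 (.cons 20 (nat_lit 0xc700000000bfcd0)
 (.cons 40 (nat_lit 0x66d2dda0de)
 .nil)))))))))))))
noncomputable def a6 : Net := (.cons 20 (nat_lit 0x5600000000e0000)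
 (.cons 10 (nat_lit 0x3900370003d000300)
 (.cons 5 (nat_lit 0x6414068000680b00800)
 (.cons 1 (nat_lit 0x20000000200000020400)
 (.cons 1 (nat_lit 0x50100500400010050800)
 (.cons 1 (nat_lit 0x28085294802148529000)
 (.cons 1 (nat_lit 0x5004a509005084a52000)
 (.cons 1 (nat_lit 0x20085010a02048521400)
 (.cons 5 (nat_lit 0x4012038000200e02000)
 (.cons 10 (nat_lit 0x60003d00034000300)
 (.cons 20 (nat_lit 0x5600000000e0000)
 .nil)))))))))))
noncomputable def a7 : Net := (.cons 40 (nat_lit 0x3743b1fa08)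
 (.cons 20 (nat_lit 0xee97500000de81e)
 (.cons 10 (nat_lit 0x2420023f0003c003a2)
 (.cons 5 (nat_lit 0x1019038070501804406)
 (.cons 1 (nat_lit 0x85080210840100080)
 (.cons 1 (nat_lit 0x4294a5284a1290a02140)
 (.cons 1 (nat_lit 0x290a5214a421484214a0)
 (.cons 1 (nat_lit 0x1294a5294a4294a4094a)
 (.cons 1 (nat_lit 0x2140429020004a508084)
 (.cons 5 (nat_lit 0x40000680a0101806000)
 (.cons 10 (nat_lit 0x1a60022800000002ea)
 (.cons 20 (nat_lit 0x9757c000005f5fe)
 (.cons 40 (nat_lit 0x609d5d9f00)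
 .nil)))))))))))))
noncomputable def a8 : Net := (.cons 20 (nat_lit 0x5600000000e0000)
 (.cons 10 (nat_lit 0x159003d0003c100300)
 (.cons 5 (nat_lit 0x401b038000201102000)
 (.cons 1 (nat_lit 0x20000)
 (.cons 1 (nat_lit 0x10140501000000252000)
 (.cons 1 (nat_lit 0x21485290a0204a429400)
 (.cons 1 (nat_lit 0x5094a509405094a52800)
 (.cons 1 (nat_lit 0x140501420214a020400)
 (.cons 5 (nat_lit 0x4014068000681400800)
 (.cons 10 (nat_lit 0x15000370002c000300)
 (.cons 20 (nat_lit 0x5600000000e0000)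
 .nil)))))))))))
noncomputable def a9 : Net := (.cons 40 (nat_lit 0xeb00000000)
 (.cons 20 (nat_lit 0xea00000000f79c0)
 (.cons 10 (nat_lit 0x28d002740038000214)
 (.cons 5 (nat_lit 0x7c1803c050580206400)
 (.cons 1 (nat_lit 0x8401000800000100000)
 (.cons 1 (nat_lit 0x1084a521400200a00800)
 (.cons 1 (nat_lit 0x290a4290a40900401084)
 (.cons 1 (nat_lit 0x5214a1284a1084a12848)
 (.cons 1 (nat_lit 0x204a4004002142528004)
 (.cons 5 (nat_lit 0x1000040060301a04810)
 (.cons 10 (nat_lit 0x68001c80038000214)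
 (.cons 20 (nat_lit 0xbc00000000fd3c0)
 (.cons 40 (nat_lit 0xbe00000000)
 .nil)))))))))))))
noncomputable def a10 : Net := (.cons 40 (nat_lit 0x4000000000)
 (.cons 20 (nat_lit 0x5000100000e9000)
 (.cons 10 (nat_lit 0x1d5001fa0014200300)
 (.cons 5 (nat_lit 0x190301a06c0002800)
 (.cons 1 (nat_lit 0x1404004000000100000)
 (.cons 1 (nat_lit 0x290a509021000a00000)
 (.cons 1 (nat_lit 0x214a5294a52808408000)
 (.cons 1 (nat_lit 0x5284a5294a1090a50900)
 (.cons 1 (nat_lit 0x2842029005210a501400)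
 (.cons 5 (nat_lit 0x6002010000081a06000)
 (.cons 10 (nat_lit 0x138003dc0033000300)
 (.cons 20 (nat_lit 0x400000000f0400)
 (.cons 40 (nat_lit 0x8000000000)
 .nil)))))))))))))
noncomputable def a11 : Net := (.cons 40 (nat_lit 0x3c00000000)
 (.cons 20 (nat_lit 0x790410000000000)
 (.cons 10 (nat_lit 0x185000f2000d200000)
 (.cons 5 (nat_lit 0x341e034010100600000)
 (.cons 1 (nat_lit 0x1000a02000000000)
 (.cons 1 (nat_lit 0x12802121405010200000)
 (.cons 1 (nat_lit 0x294a5290a42948400000)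
 (.cons 1 (nat_lit 0x5294a5294a1084800000)
 (.cons 1 (nat_lit 0x1080014052048400000)
 (.cons 5 (nat_lit 0x20000201c0101400000)
 (.cons 10 (nat_lit 0x24002900029200000)
 (.cons 20 (nat_lit 0xc92000000000000)
 (.cons 40 (nat_lit 0xe080000000)
 .nil)))))))))))))
noncomputable def a12 : Net := (.cons 40 (nat_lit 0x8459a2d61d)
 (.cons 20 (nat_lit 0xdc3fe000003769d)
 (.cons 10 (nat_lit 0x35f001710005f0024c)
 (.cons 5 (nat_lit 0x340705c090600103815)
 (.cons 1 (nat_lit 0x1005000000000001020)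
 (.cons 1 (nat_lit 0x280a000400000012940)
 (.cons 1 (nat_lit 0x1405010a520401294a1)
 (.cons 1 (nat_lit 0x1280a5084a5080a12942)
 (.cons 1 (nat_lit 0x280210808529080010a0)
 (.cons 5 (nat_lit 0x280a068060780a02018)
 (.cons 10 (nat_lit 0xec001e200004001da)
 (.cons 20 (nat_lit 0x800e00000003088)
 (.cons 40 (nat_lit 0x7ba65d29e2)
 .nil)))))))))))))
noncomputable def ns0 : List Net := [a0, a1, a2, a3]
noncomputable def ws : List (List ℕ) :=
  [W (nat_lit 0x1005014080100501403),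
  W (nat_lit 0x60200101403),
  W (nat_lit 0x2c0b),
  W (nat_lit 0xb0240b0240c),
  W (nat_lit 0x380f0380e03810),
  W (nat_lit 0xe03c0e03c0f03410),
  W (nat_lit 0x3c0f038100400e03c0f),
  W (nat_lit 0x5414),
  W (nat_lit 0x601203c1803c0b)]
noncomputable def ns : List Net := [a0, a1, a2, a3, a4, a5, a6, a7, a8, a9, a10, a11, a12]
noncomputable def D : List (ℕ × List ℕ) := app [] (mkDefs ws 4)
noncomputable def chk : List (List ℕ × List ℕ) → Bool := P.relsB ns
noncomputable def V : List ℕ :=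
  [(nat_lit 0x924924924924924924924924924924924924924924924924924924924924),
  (nat_lit 0xe070381c0e070381c0e01c0e070381c0e070381c0381c0e070381c0e0703),
  (nat_lit 0xff80001ff00003fe0000007fc0000ff80001ff0000003fe00007fc0000ff),
  (nat_lit 0xffffffe00000000000000000001ffffffc00000000000000000003ffffff)]
noncomputable def ms : List (List (List ℕ) × List (List ℕ)) :=
  [([[1, 0, 0, 0], [0, 1, 0, 1], [0, 0, 1, 0], [0, 0, 0, 1]],
   [[1, 0, 0, 0], [0, 1, 0, 2], [0, 0, 1, 0], [0, 0, 0, 1]]),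
  ([[1, 0, 0, 0], [0, 1, 0, 0], [2, 2, 1, 0], [2, 2, 0, 1]],
   [[1, 0, 0, 0], [0, 1, 0, 0], [1, 1, 1, 0], [1, 1, 0, 1]]),
  ([[0, 0, 2, 2], [2, 1, 2, 2], [1, 0, 2, 1], [0, 0, 0, 1]],
   [[2, 0, 1, 1], [1, 1, 1, 1], [2, 0, 0, 2], [0, 0, 0, 1]]),
  ([[1, 0, 0, 0], [0, 1, 0, 0], [0, 0, 1, 0], [0, 1, 0, 1]],
   [[1, 0, 0, 0], [0, 1, 0, 0], [0, 0, 1, 0], [0, 2, 0, 1]])]
noncomputable def G_v0 : Lev :=
  ⟨0, 80, sg (W (nat_lit 0xb0240902c090240b0240902c0902c0902c09)), [[12], [14]], 2, 2⟩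
noncomputable def G_v1 : Lev :=
  ⟨2, 24, sg (W (nat_lit 0x340f0340f0340f0340f0340f)), [[16], [18], [20]], 4, 3⟩
noncomputable def G_v2 : Lev :=
  ⟨8, 9, sg (W (nat_lit 0x4c1104c11)), [[22]], 7, 1⟩
noncomputable def G_v3 : Lev :=
  ⟨26, 3, sg (W (nat_lit 0x5c17)), [], 8, 0⟩
noncomputable def G_vs4 : List Lev :=
  []
noncomputable def G_vs3 : List Lev :=
  G_v3 :: G_vs4
noncomputable def G_vs2 : List Lev :=
  G_v2 :: G_vs3
noncomputable def G_vs1 : List Lev :=
  G_v1 :: G_vs2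
noncomputable def G_vs : List Lev :=
  G_v0 :: G_vs1
noncomputable def Z_v0 : Lev :=
  ⟨0, 2, sg [24], [], 9, 0⟩
noncomputable def Z_vs1 : List Lev :=
  []
noncomputable def Z_vs : List Lev :=
  Z_v0 :: Z_vs1

theorem zv0 : vecB (tabP 3).q 2 4 P V = true := by decide +kernel
theorem zv1 : Nat.beq (lenL ms) (lenL ns0) = true := by decide +kernel
theorem zv2 : allL ((tabP 3).actB 2 4 P V) (zp Net.nil ms ns0) = true := by decide +kernel
theorem zv3 : (tabP 3).basB 4 P V [0, 2, 8, 26] [[1, 0, 0, 0], [0, 1, 0, 0], [0, 0, 1, 0], [0, 0, 0, 1]] = true := by decide +kernel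
theorem zv4 : allL ((tabP 3).spB 2 2) ms = true := by decide +kernel
theorem zc5 : P.chainB ns D G_vs [[8], [10]] = true := by decide +kernel
theorem zc6 : P.chainB ns D Z_vs [[24]] = true := by decide +kernel
theorem zr7 : chk (comR [[24]] [[8], [10]]) = true := by decide +kernel
theorem zm8 : leB D [[24]] [[8], [10]] = true := by decide +kernel
theorem zk9 : allL (keepB P.n P.N) ns0 = true := by decide +kernel
theorem ze10 : extB ns0 ns 4 ws [] = true := by decide +kernel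
theorem zn11 : P.netsB ns (mkDefs ws 4) = true := by decide +kernel

section
variable {G X : Type*} [Group G] [MulAction G X] {e : ℕ → X} {gs : List G}

theorem keep0 : allL (keepB P.n P.N) ns0 = true := zk9

theorem len {k} (c : Ctx P e gs ns0 [] k) : gs.length = 4 := c.len ze10

theorem ctx0 {k} (c : Ctx P e gs ns0 [] k) : Ctx P e (ext gs ws) ns D chk0 :=
  c.ext rfl ze10 zn11

theorem ctx {k} (c : Ctx P e gs ns0 [] k) {H : Subgroup G} (hF : Faithful e P.n H) (hH : ∀ g ∈ gs, g ∈ H) :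
    Ctx P e (ext gs ws) ns D chk :=
  (ctx0 c).withB hF (mem_of_mem_ext hH _)

theorem hV : vecB (tabP 3).q 2 4 P V = true := zv0
theorem hact : allL ((tabP 3).actB 2 4 P V) (zp Net.nil ms ns0) = true := zv2
theorem hinv : allL ((tabP 3).invB 4) ms = true := actB_invB hact
theorem base {F : Type*} [Field F] {el : ℕ → F} (h : FC (tabP 3) el) : Ctx P (vecOf el (sPlus 2) (tabP 3).q P.N V) (List.map (glF el (sPlus 2)) ms) ns0 [] chk0 :=
  ctx_mat h (ix_plus 2) hP hV zv1 hact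
theorem faith {F : Type*} [Field F] {el : ℕ → F} (h : FC (tabP 3) el) : Faithful (vecOf el (sPlus 2) (tabP 3).q P.N V) P.n (⊤ : Subgroup (GL (Fin 2 ⊕ Fin 2) F)) :=
  faithful_vecOf h (ix_plus 2) hP hV zv3
theorem c1 {F : Type*} [Field F] {el : ℕ → F} (h : FC (tabP 3) el) : Ctx P (vecOf el (sPlus 2) (tabP 3).q P.N V) (ext (List.map (glF el (sPlus 2)) ms) ws) ns D chk :=
  ctx (base h) (faith h) fun _ _ => trivial

theorem G_c : P.chainB ns D G_vs [[8], [10]] = true :=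
  zc5

theorem G_o : prodL G_vs 1 = 51840 := by decide +kernel

theorem G_lb (c : Ctx P e gs ns D chk) :
    LB (subW gs [[8], [10]]) 51840 :=
  c.lb G_c G_o

theorem Z_c : P.chainB ns D Z_vs [[24]] = true :=
  zc6

theorem Z_o : prodL Z_vs 1 = 2 := by decide +kernel

theorem Z_lb (c : Ctx P e gs ns D chk) :
    LB (subW gs [[24]]) 2 :=
  c.lb Z_c Z_o

theorem hZ (c : Ctx P e gs ns D chk) :
    (subW gs [[24]]) ≤ (subW gs [[8], [10]]) ∧ Rels gs (comR [[24]] [[8], [10]]) :=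
  ⟨(c.le zm8), (c.rels _ zr7)⟩

end
end CL.Std.PS43.M

namespace CL.Std.PS43
open CL.PG

def P : Par := ⟨40, 40, 6, 3⟩
theorem hP : P.Ok := by decide
noncomputable def a0 : Net := (.cons 20 (nat_lit 0x7f3b4)
 (.cons 10 (nat_lit 0x17e0012b)
 (.cons 5 (nat_lit 0x640e00818)
 (.cons 1 (nat_lit 0x80)
 (.cons 1 (nat_lit 0x4010012140)
 (.cons 1 (nat_lit 0x290a0294a0)
 (.cons 1 (nat_lit 0x1294a52942)
 (.cons 1 (nat_lit 0x4a120424)
 (.cons 5 (nat_lit 0x8060380e)
 (.cons 10 (nat_lit 0x35600120)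
 (.cons 20 (nat_lit 0x67374)
 .nil)))))))))))
noncomputable def a1 : Net := (.cons 20 (nat_lit 0x8ed88)
 (.cons 10 (nat_lit 0x6d000ba)
 (.cons 5 (nat_lit 0x100705806)
 (.cons 1 (nat_lit 0x1000)
 (.cons 1 (nat_lit 0x280012800)
 (.cons 1 (nat_lit 0x2148029424)
 (.cons 1 (nat_lit 0x4290a12942)
 (.cons 1 (nat_lit 0x8029080)
 (.cons 5 (nat_lit 0x101c01016)
 (.cons 10 (nat_lit 0x26a0008c)
 (.cons 20 (nat_lit 0xf1498)
 .nil)))))))))))
noncomputable def a2 : Net := (.cons 20 (nat_lit 0xc7130)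
 (.cons 10 (nat_lit 0x36800110)
 (.cons 5 (nat_lit 0x581c07408)
 (.cons 1 (nat_lit 0x2000020)
 (.cons 1 (nat_lit 0x204a50842)
 (.cons 1 (nat_lit 0x14a429484)
 (.cons 1 (nat_lit 0x4094a1294a)
 (.cons 1 (nat_lit 0x20084014a4)
 (.cons 5 (nat_lit 0x1806000)
 (.cons 10 (nat_lit 0x2600003a)
 (.cons 20 (nat_lit 0xb1a44)
 .nil)))))))))))
noncomputable def a3 : Net := (.cons 20 (nat_lit 0xffab0)
 (.cons 10 (nat_lit 0x17a00042)
 (.cons 5 (nat_lit 0x1a02c02)
 (.cons 1 (nat_lit 0x4294000000)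
 (.cons 1 (nat_lit 0x290a509480)
 (.cons 1 (nat_lit 0x5294212840)
 (.cons 1 (nat_lit 0x800529080)
 (.cons 5 (nat_lit 0x100004800)
 (.cons 10 (nat_lit 0x1c800102)
 (.cons 20 (nat_lit 0xffab0)
 .nil))))))))))
noncomputable def a4 : Net := (.cons 20 (nat_lit 0x5fbbc)
 (.cons 10 (nat_lit 0x3d003bc)
 (.cons 5 (nat_lit 0x540107014)
 (.cons 1 (nat_lit 0x8000000)
 (.cons 1 (nat_lit 0x1214052140)
 (.cons 1 (nat_lit 0x214a429080)
 (.cons 1 (nat_lit 0x5284212948)
 (.cons 1 (nat_lit 0x2948521004)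
 (.cons 5 (nat_lit 0x601804004)
 (.cons 10 (nat_lit 0x38c00088)
 (.cons 20 (nat_lit 0xdd9fc)
 .nil)))))))))))
noncomputable def a5 : Net := (.cons 20 (nat_lit 0x72880)
 (.cons 10 (nat_lit 0x275003f0)
 (.cons 5 (nat_lit 0x3c1207410)
 (.cons 1 (nat_lit 0xa001000)
 (.cons 1 (nat_lit 0x5294002800)
 (.cons 1 (nat_lit 0x214a101480)
 (.cons 1 (nat_lit 0x5094a10900)
 (.cons 1 (nat_lit 0x2048028020)
 (.cons 5 (nat_lit 0x401c01000)
 (.cons 10 (nat_lit 0x15e003f0)
 (.cons 20 (nat_lit 0xab010)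
 .nil)))))))))))
noncomputable def a6 : Net := (.cons 20 (nat_lit 0x6e840)
 (.cons 10 (nat_lit 0x6b003f0)
 (.cons 5 (nat_lit 0x6c150141c)
 (.cons 1 (nat_lit 0x20020)
 (.cons 1 (nat_lit 0x10052140)
 (.cons 1 (nat_lit 0x200a429084)
 (.cons 1 (nat_lit 0x1284a12948)
 (.cons 1 (nat_lit 0x808401400)
 (.cons 5 (nat_lit 0x20180001c)
 (.cons 10 (nat_lit 0x20003f0)
 (.cons 20 (nat_lit 0xb7100)
 .nil)))))))))))
noncomputable def a7 : Net := (.cons 20 (nat_lit 0xd800)
 (.cons 10 (nat_lit 0x3500000)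
 (.cons 5 (nat_lit 0x40300000)
 (.cons 1 (nat_lit 0x2008020000)
 (.cons 1 (nat_lit 0x5214852000)
 (.cons 1 (nat_lit 0x294a429000)
 (.cons 1 (nat_lit 0x1084210800)
 (.cons 1 (nat_lit 0x40500000)
 (.cons 5 (nat_lit 0x601007000)
 (.cons 10 (nat_lit 0x10400000)
 (.cons 20 (nat_lit 0x61800)
 .nil)))))))))))
noncomputable def a8 : Net := (.cons 20 (nat_lit 0x800)
 (.cons 10 (nat_lit 0x2d4003e3)
 (.cons 5 (nat_lit 0x341700803)
 (.cons 1 (nat_lit 0x802000001)
 (.cons 1 (nat_lit 0x5014002142)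
 (.cons 1 (nat_lit 0x214a4010a4)
 (.cons 1 (nat_lit 0x5094a5294a)
 (.cons 1 (nat_lit 0x42501405)
 (.cons 5 (nat_lit 0x200c03000)
 (.cons 10 (nat_lit 0xc00086)
 (.cons 20 (nat_lit 0xff200)
 .nil)))))))))))
noncomputable def a9 : Net := (.cons 20 (nat_lit 0x76fbe)
 (.cons 10 (nat_lit 0x3800096)
 (.cons 5 (nat_lit 0x180005806)
 (.cons 1 (nat_lit 0x8100480)
 (.cons 1 (nat_lit 0x14200940)
 (.cons 1 (nat_lit 0x80a4014a0)
 (.cons 1 (nat_lit 0x1294802940)
 (.cons 1 (nat_lit 0x808128084)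
 (.cons 5 (nat_lit 0x580001814)
 (.cons 10 (nat_lit 0x1000096)
 (.cons 20 (nat_lit 0xf4d0c)
 .nil)))))))))))
noncomputable def a10 : Net := (.cons 20 (nat_lit 0x289f0)
 (.cons 10 (nat_lit 0x9000350)
 (.cons 5 (nat_lit 0x781c0481c)
 (.cons 1 (nat_lit 0x4010040)
 (.cons 1 (nat_lit 0x10a128084)
 (.cons 1 (nat_lit 0x20425214a)
 (.cons 1 (nat_lit 0x2048528004)
 (.cons 5 (nat_lit 0x80000808)
 (.cons 10 (nat_lit 0x190003c8)
 (.cons 20 (nat_lit 0x898a)
 .nil))))))))))
noncomputable def a11 : Net := (.cons 20 (nat_lit 0xd800)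
 (.cons 10 (nat_lit 0x3500000)
 (.cons 5 (nat_lit 0x40300000)
 (.cons 1 (nat_lit 0x2008020000)
 (.cons 1 (nat_lit 0x5214852000)
 (.cons 1 (nat_lit 0x294a429000)
 (.cons 1 (nat_lit 0x1084210800)
 (.cons 1 (nat_lit 0x40500000)
 (.cons 5 (nat_lit 0x601007000)
 (.cons 10 (nat_lit 0x10400000)
 (.cons 20 (nat_lit 0x61800)
 .nil)))))))))))
noncomputable def ns0 : List Net := [a0, a1]
noncomputable def ws : List (List ℕ) :=
  [W (nat_lit 0x100c01),
  W (nat_lit 0xc03),
  W (nat_lit 0x100600c06),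
  W (nat_lit 0x80280a),
  W (nat_lit 0x200a01c0a),
  W (nat_lit 0x280a),
  W (nat_lit 0x101401),
  W (nat_lit 0x50140301806),
  W (nat_lit 0x1804),
  W (nat_lit 0x160581405814)]
noncomputable def ns : List Net := [a0, a1, a2, a3, a4, a5, a6, a7, a8, a9, a10, a11]
noncomputable def D : List (ℕ × List ℕ) := app [] (mkDefs ws 2)
noncomputable def chk : List (List ℕ × List ℕ) → Bool := P.relsB ns
noncomputable def G_v0 : Lev :=
  ⟨0, 40, sg (W (nat_lit 0xc01004030040100c0100c0100c0100401)), [[4], [2]], 0, 1⟩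
noncomputable def G_v1 : Lev :=
  ⟨1, 12, sg (W (nat_lit 0x30140500c0500c05)), [[6], [8]], 1, 2⟩
noncomputable def G_v2 : Lev :=
  ⟨2, 2, sg [8], [[10], [12], [14]], 3, 3⟩
noncomputable def G_v3 : Lev :=
  ⟨4, 9, sg (W (nat_lit 0x340b0340b)), [[14]], 6, 0⟩
noncomputable def G_v4 : Lev :=
  ⟨13, 3, sg (W (nat_lit 0x3c0f)), [], 6, 0⟩
noncomputable def G_vs5 : List Lev :=
  []
noncomputable def G_vs4 : List Lev :=
  G_v4 :: G_vs5
noncomputable def G_vs3 : List Lev :=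
  G_v3 :: G_vs4
noncomputable def G_vs2 : List Lev :=
  G_v2 :: G_vs3
noncomputable def G_vs1 : List Lev :=
  G_v1 :: G_vs2
noncomputable def G_vs : List Lev :=
  G_v0 :: G_vs1
noncomputable def zE1 : Net :=
  (.cons 40 (nat_lit 0x7ba65d29e2)
 (.cons 20 (nat_lit 0x11a7400000501e2)
 (.cons 10 (nat_lit 0x22b00058003dd002c2)
 (.cons 5 (nat_lit 0x580301c1d00c0901402)
 (.cons 1 (nat_lit 0x4204002000400080)
 (.cons 1 (nat_lit 0x210a509485014a52142)
 (.cons 1 (nat_lit 0x21085294a5280a5210a4)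
 (.cons 1 (nat_lit 0x52842128421094252848)
 (.cons 1 (nat_lit 0x8000094242100028400)
 (.cons 5 (nat_lit 0x8100000a0500800010)
 (.cons 10 (nat_lit 0x1320006200284001e0)
 (.cons 20 (nat_lit 0x2148a00000e0280)
 (.cons 40 (nat_lit 0xb0ebdd3290)
 .nil)))))))))))))
noncomputable def zK2 : Lk :=
  ⟨zE1, 2, 3, 1⟩
noncomputable def zt5 : List ℕ :=
  []
noncomputable def zcj6 : List (List ℕ) :=
  []
noncomputable def zus9 : List (List ℕ) :=
  [[10],
  [11],
  [12],
  [13],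
  W (nat_lit 0x2c0d),
  W (nat_lit 0x2c0e),
  W (nat_lit 0x300d),
  W (nat_lit 0x300e)]
noncomputable def zF10 : List (List (ℕ × List ℕ)) :=
  [[(1, []),
   (2, []),
   (0, []),
   (5, []),
   (6, []),
   (7, []),
   (8, []),
   (3, []),
   (4, [])],
  [(3, []),
   (5, []),
   (7, []),
   (4, []),
   (0, []),
   (6, []),
   (1, []),
   (8, []),
   (2, [])],
  [(0, [14]),
   (1, [14]),
   (2, [14]),
   (3, [14]),
   (4, [14]),
   (5, [14]),
   (6, [14]),
   (7, [14]),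
   (8, [14])]]
noncomputable def zE13 : List (ℕ × List ℕ) :=
  [(6, W (nat_lit 0x3c0c))]
noncomputable def zt14 : List ℕ :=
  [15]
noncomputable def zcj15 : List (List ℕ) :=
  [W (nat_lit 0xf02c0e),
  W (nat_lit 0x400e),
  [14]]
noncomputable def zus19 : List (List ℕ) :=
  [[4],
  [5],
  [2],
  W (nat_lit 0x1403),
  W (nat_lit 0xc06),
  W (nat_lit 0x1803),
  W (nat_lit 0x140c),
  W (nat_lit 0xc05),
  W (nat_lit 0x1407),
  W (nat_lit 0x1408),
  W (nat_lit 0xc09)]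
noncomputable def zF20 : List (List (ℕ × List ℕ)) :=
  [[(1, []),
   (2, W (nat_lit 0x3809)),
   (0, []),
   (8, []),
   (4, W (nat_lit 0x1003009)),
   (3, []),
   (5, W (nat_lit 0xf0300e)),
   (10, W (nat_lit 0x400b03809)),
   (9, W (nat_lit 0x4009)),
   (11, W (nat_lit 0x3c0b03409)),
   (7, W (nat_lit 0xc03809)),
   (6, [])],
  [(3, []),
   (4, []),
   (6, []),
   (0, W (nat_lit 0x3c0c)),
   (9, []),
   (1, W (nat_lit 0xf03009)),
   (7, W (nat_lit 0x400c03409)),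
   (2, W (nat_lit 0x2c0e)),
   (10, [12]),
   (8, [13]),
   (5, W (nat_lit 0x3c0b03809)),
   (11, [8])]]
noncomputable def zrs23 : List (ℕ × List ℕ) :=
  [(10, W (nat_lit 0x1201812)),
  (1, [17])]
noncomputable def G_w0_1_v0 : Lev :=
  ⟨10, 27, sg (W (nat_lit 0x14030140500c050140301405)), [[18], [20]], 7, 2⟩
noncomputable def G_w0_1_v1 : Lev :=
  ⟨2, 8, sg (W (nat_lit 0x4c1305413)), [[22]], 9, 1⟩
noncomputable def G_w0_1_v2 : Lev :=
  ⟨13, 3, sg (W (nat_lit 0x5c17)), [], 10, 0⟩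
noncomputable def G_w0_1_vs3 : List Lev :=
  []
noncomputable def G_w0_1_vs2 : List Lev :=
  G_w0_1_v2 :: G_w0_1_vs3
noncomputable def G_w0_1_vs1 : List Lev :=
  G_w0_1_v1 :: G_w0_1_vs2
noncomputable def G_w0_1_vs : List Lev :=
  G_w0_1_v0 :: G_w0_1_vs1
noncomputable def zcj25 : List (List ℕ) :=
  [W (nat_lit 0xb0380901403),
  W (nat_lit 0x300900c05)]
noncomputable def zcj28 : List (List ℕ) :=
  [W (nat_lit 0x300d),
  W (nat_lit 0xf03403)]
noncomputable def zB31 : List BG :=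
  [⟨[16], [([6], W (nat_lit 0x300d)), ([8], W (nat_lit 0xf03403))],
  [([⟨[], W (nat_lit 0xc09), 2, W (nat_lit 0xf02c0d00c09)⟩], []),
   ([⟨[], [5], 2, []⟩,
    ⟨[2], [], 1, W (nat_lit 0x1002c0d)⟩], W (nat_lit 0x100802008010080100801)),
   ([⟨[], [], 0, []⟩,
    ⟨[2], [], 2, W (nat_lit 0xc00c09)⟩,
    ⟨[4], W (nat_lit 0x1005), 1, W (nat_lit 0xc03406)⟩], W (nat_lit 0x10080100402))]⟩]
noncomputable def zE32 : List (ℕ × List ℕ) :=
  [(0, W (nat_lit 0x400b038030141201812))]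
noncomputable def zm37 : ℕ :=
  (nat_lit 0xe000009)
noncomputable def cent_F : List (List ℕ × ℕ × ℕ) :=
  [([2], zm37, zm37)]
noncomputable def centG_v0 : Lev :=
  ⟨0, 40, sg (W (nat_lit 0xc01004030040100c0100c0100c0100401)), [[4], [2]], 0, 1⟩
noncomputable def centG_v1 : Lev :=
  ⟨10, 27, sg (W (nat_lit 0x14030140500c050140301405)), [[18], [20]], 7, 2⟩
noncomputable def centG_v2 : Lev :=
  ⟨2, 8, sg (W (nat_lit 0x4c1305413)), [[22]], 9, 1⟩
noncomputable def centG_v3 : Lev :=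
  ⟨13, 3, sg (W (nat_lit 0x5c17)), [], 10, 0⟩
noncomputable def centG_vs4 : List Lev :=
  []
noncomputable def centG_vs3 : List Lev :=
  centG_v3 :: centG_vs4
noncomputable def centG_vs2 : List Lev :=
  centG_v2 :: centG_vs3
noncomputable def centG_vs1 : List Lev :=
  centG_v1 :: centG_vs2
noncomputable def centG_vs : List Lev :=
  centG_v0 :: centG_vs1
noncomputable def cent_x : List (ℕ × List ℕ) :=
  [((nat_lit 0), []),
  ((nat_lit 0), []),
  ((nat_lit 0), [(nat_lit 0x1b600c),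
   (nat_lit 0x248002)]),
  ((nat_lit 0), [(nat_lit 0x1000)])]
noncomputable def cent_G : Gl :=
  ⟨P, ns, (app D []), (diag [[0], [2]]), [], [], memM (app D []) [], true⟩
noncomputable def cent_s : St :=
  ⟨(mkS P.n centG_vs cent_x), [[0], [2]], [], mapL Prod.snd cent_F, memM (app D []) [], []⟩
noncomputable def zt41 : ST :=
  (.img (W (nat_lit 0x802)) 0 (.and 1 0 (.br 0 [] [] [(0, [])] (.cons (.img [1] 1 (.br 0 [] [] [(10, [])] (.cons (.orb 0 (.orb 1 (.img (W (nat_lit 0x802)) 0 (.and 2 0 (.br 0 [] [] [(2, [])] (.cons (.orb 0 (.img [1] 0 (.br 0 [] [] [(13, [])] (.cons .fnd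
 .nil))))
 .nil))))))
 .nil)))
 .nil))))

theorem zc0 : P.chainB ns D G_vs [[0], [2]] = true := by decide +kernel
theorem zl3 : zK2.relB CL.Std.PS43.M.P CL.Std.PS43.P CL.Std.PS43.M.ns [[8], [10], [24]] [[0], [2]] = true := by decide +kernel
theorem zl4 : allL (zK2.pl CL.Std.PS43.M.P CL.Std.PS43.P CL.Std.PS43.M.ns CL.Std.PS43.ns 0) (zp [] [[8], [10], [24]] [[0], [2]]) = true := by decide +kernel
theorem zb7 : bnd (pcB D [] 3 zt5 zcj6) (leB (app D []) [[14]] ([14] :: [])) = true := by decide +kernel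
theorem zr8 : chk (pcR [] [14] 3 zt5 zcj6) = true := by decide +kernel
theorem zb11 : schB D [[10], [12], [14]] [[14]] zus9 zF10 9 = true := by decide +kernel
theorem zr12 : chk (schR [[10], [12], [14]] zus9 zF10) = true := by decide +kernel
theorem zb16 : bnd (pcB D [[10], [12], [14]] 2 zt14 zcj15) (leB (app D zE13) [[6], [8]] ([8] :: [[10], [12], [14]])) = true := by decide +kernel
theorem zr17 : chk (pcR [[10], [12], [14]] [8] 2 zt14 zcj15) = true := by decide +kernel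
theorem zr18 : chk (defRels zE13) = true := by decide +kernel
theorem zb21 : schB D [[4], [2]] [[6], [8]] zus19 zF20 12 = true := by decide +kernel
theorem zr22 : chk (schR [[4], [2]] zus19 zF20) = true := by decide +kernel
theorem zc24 : P.chainB ns D G_w0_1_vs [[4], [2]] = true := by decide +kernel
theorem zb26 : wdB D [[4], [2]] G_w0_1_v0.nx zcj25 = true := by decide +kernel
theorem zr27 : chk (wdR G_w0_1_v0.nx (W (nat_lit 0x1201812)) zcj25) = true := by decide +kernel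
theorem zb29 : wdB D [[4], [2]] G_v1.nx zcj28 = true := by decide +kernel
theorem zr30 : chk (wdR G_v1.nx [17] zcj28) = true := by decide +kernel
theorem zb33 : bB P.n P.N ns (app D zE32) [[0], [2]] [[4], [2]] 0 zrs23 zB31 = true := by decide +kernel
theorem zb34 : P.invSz ns [[0], [2]] 0 (orbM P.N ns G_v0) 40 = true := by decide +kernel
theorem zr35 : chk (bR 0 zrs23 zB31) = true := by decide +kernel
theorem zr36 : chk (defRels zE32) = true := by decide +kernel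
theorem zf38 : P.fixXB ns (diag [[0], [2]]) cent_F = true := by decide +kernel
theorem zc39 : P.chainB ns D centG_vs [[0], [2]] = true := by decide +kernel
theorem zs40 : ssB P.N ns D (mkS P.n centG_vs cent_x) [[0], [2]] = true := by decide +kernel
theorem zs42 : cent_G.chk zt41 cent_s none = true := by decide +kernel
theorem zr43 : chk (comR [] (mapL Prod.snd (diag [[0], [2]]))) = true := by decide +kernel
theorem zm44 : leB D [] [[0], [2]] = true := by decide +kernel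
theorem zk45 : allL (keepB P.n P.N) ns0 = true := by decide +kernel
theorem ze46 : extB ns0 ns 2 ws [] = true := by decide +kernel
theorem zn47 : P.netsB ns (mkDefs ws 2) = true := by decide +kernel

section
variable {G X : Type*} [Group G] [MulAction G X] {e : ℕ → X} {gs : List G}

theorem keep0 : allL (keepB P.n P.N) ns0 = true := zk45

theorem len {k} (c : Ctx P e gs ns0 [] k) : gs.length = 2 := c.len ze46

theorem ctx0 {k} (c : Ctx P e gs ns0 [] k) : Ctx P e (ext gs ws) ns D chk0 :=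
  c.ext rfl ze46 zn47

theorem ctx {k} (c : Ctx P e gs ns0 [] k) {H : Subgroup G} (hF : Faithful e P.n H) (hH : ∀ g ∈ gs, g ∈ H) :
    Ctx P e (ext gs ws) ns D chk :=
  (ctx0 c).withB hF (mem_of_mem_ext hH _)

instance instNe : NeZero P.n := ⟨by decide⟩
noncomputable def gs0 : List (Equiv.Perm (Fin P.n)) := permsOf P.n P.N ns0
noncomputable def gs1 : List (Equiv.Perm (Fin P.n)) := ext gs0 ws
theorem c1 : Ctx P (eF P.n) gs1 ns D chk :=
  ctx (ctx_permsOf hP keep0) (faithful_eF _) fun _ _ => trivial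

theorem G_c : P.chainB ns D G_vs [[0], [2]] = true :=
  zc0

theorem G_o : prodL G_vs 1 = 25920 := by decide +kernel

theorem G_lb (c : Ctx P e gs ns D chk) :
    LB (subW gs [[0], [2]]) 25920 :=
  c.lb G_c G_o

theorem rel {Γ Y : Type*} [Group Γ] [MulAction Γ Y] {e' : ℕ → Y} {cs : List Γ} {D₁ D₂ : List (ℕ × List ℕ)}
    {k₁ k₂ : List (List ℕ × List ℕ) → Bool} (c : Ctx CL.Std.PS43.M.P e gs CL.Std.PS43.M.ns D₁ k₁) (c' : Ctx CL.Std.PS43.P e' cs CL.Std.PS43.ns D₂ k₂)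
    (hF : Faithful e' CL.Std.PS43.P.n (subW cs [[0], [2]])) :
    RelLe gs [[8], [10], [24]] cs [[0], [2]] :=
  c.relLe (K := zK2) c' hF zl3 (fun (t : ℕ) (ht : t < 1) => match t, ht with
    | 0, _ => zl4
    | t + 1, h => absurd h (by omega))

theorem G_u4 (c : Ctx P e gs ns D chk) :
    UB (subW gs [[14]]) 3 :=
  (c.pc_step (UB.nil gs) (Rels.nil _)
    (c.rels _ zr8) zb7).le (by decide)

theorem G_u3 (c : Ctx P e gs ns D chk) :
    UB (subW gs [[10], [12], [14]]) 27 :=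
  (c.sch_step (G_u4 c)
    (c.rels _ zr12) zb11).le (by decide)

theorem G_u2 (c : Ctx P e gs ns D chk) :
    UB (subW gs [[6], [8]]) 54 :=
  (c.pc_step (G_u3 c) (c.rels _ zr18)
    (c.rels _ zr17) zb16).le (by decide)

theorem G_u1 (c : Ctx P e gs ns D chk) :
    UB (subW gs [[4], [2]]) 648 :=
  (c.sch_step (G_u2 c)
    (c.rels _ zr22) zb21).le (by decide)

theorem G_w0_1_c : P.chainB ns D G_w0_1_vs [[4], [2]] = true :=
  zc24

theorem G_w0_1_o : prodL G_w0_1_vs 1 = 648 := by decide +kernel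

theorem G_u0w (c : Ctx P e gs ns D chk) :
    AllWd e gs [[4], [2]] zrs23 :=
  ⟨c.wd (v := G_w0_1_v0) (vs := G_w0_1_vs1) (G_u1 c) G_w0_1_c G_w0_1_o
      (c.rels _ zr27) zb26,
    ⟨c.wd (v := G_v1) (vs := G_vs2) (G_u1 c) (Par.chainB_tail G_c) (by decide +kernel)
      (c.rels _ zr30) zb29,
    trivial⟩⟩

theorem G_u0 (c : Ctx P e gs ns D chk) :
    UB (subW gs [[0], [2]]) 25920 :=
  (c.b_step (G_u1 c) (G_u0w c) (c.rels _ zr36)
    (c.rels _ zr35) zb33 zb34).le (by decide)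

theorem G_ub (c : Ctx P e gs ns D chk) :
    UB (subW gs [[0], [2]]) 25920 :=
  (G_u0 c)

theorem centG_c : P.chainB ns D centG_vs [[0], [2]] = true :=
  zc39

theorem centG_o : prodL centG_vs 1 = 25920 := by decide +kernel

theorem cent (c : Ctx P e gs ns D chk) :
    (subW gs [[0], [2]]) ⊓ Subgroup.centralizer (subW gs [[0], [2]] : Set G) = (subW gs []) :=
  c.cent (lx := [[0], [2]]) (Rels.nil _) (c.sOk (c.exact centG_c centG_o (G_ub c)) zs40) (fun _ h => by cases h)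
    (c.fixX zf38) (c.rels _ zr43) zm44 zs42

theorem hom {F : Type*} [Field F] [Fintype F] (hF : Fintype.card F = 3) :
    ∃ f : Matrix.symplecticGroup (Fin 2) F →* Equiv.Perm (Fin P.n), f.range = (subW gs1 [[0], [2]]) ∧ f.ker = Subgroup.center _ ∧ Nat.card (subW gs1 [[0], [2]]) = 25920 := by
  obtain ⟨el, h⟩ := Tab.exists_fc (tabP 3) (by decide +kernel) F hF
  have hc : Nat.card (Matrix.symplecticGroup (Fin 2) F) = 51840 := card_sp hF 2 (by decide +kernel)
  have hK := subW_eq_range (l := [[8], [10]]) (spHom 2 F) (spHom_inj _) hc (by norm_num)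
    (subW_le_of_forall (mem_of_mem_ext (forall_mem_Sp h (by decide +kernel) M.hinv M.zv4) _) _) (M.G_lb (M.c1 h))
  exact cquot_of_cent (RelLe.cquot0 (l := [[8], [10]]) (lZ := [[24]]) (a := 2) (b := 25920) (rel (M.c1 h) c1 ((faithful_eF _).mono le_top)) (by decide)
    (spHom 2 F) (spHom_inj _) hc (by norm_num) hK (M.hZ (M.c1 h)).1 (M.hZ (M.c1 h)).2 (M.Z_lb (M.c1 h)) (G_lb c1)) (cent c1)
theorem iso {F : Type*} [Field F] [Fintype F] (hF : Fintype.card F = 3) :
    Nonempty ((subW gs1 [[0], [2]]) ≃* Matrix.symplecticGroup (Fin 2) F ⧸ Subgroup.center (Matrix.symplecticGroup (Fin 2) F)) := cquot_equiv (hom hF)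
theorem card : Nat.card (subW gs1 [[0], [2]]) = 25920 := by
  obtain ⟨F, _, _, hF⟩ := exists_field 3 1 (by norm_num)
  replace hF : Fintype.card F = 3 := hF
  exact (hom hF).choose_spec.2.2
theorem ub : UB (subW gs1 [[0], [2]]) 25920 := UB.of_card card (by norm_num)

theorem simple : IsSimpleGroup (subW gs1 [[0], [2]]) := by
  obtain ⟨F, _, _, hF⟩ := exists_field 3 1 (by norm_num)
  replace hF : Fintype.card F = 3 := hF
  obtain ⟨el, h⟩ := Tab.exists_fc (tabP 3) (by decide +kernel) F hF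
  have : IsSimpleGroup (Matrix.symplecticGroup (Fin 2) F ⧸ Subgroup.center (Matrix.symplecticGroup (Fin 2) F)) := Sp.isSimpleGroup_PSp (F := F) 2 (by norm_num) (by rw [Nat.card_eq_fintype_card, hF]; norm_num)
  exact (iso hF).some.isSimpleGroup

end
end CL.Std.PS43

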