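/-
A standard permutation model (PSU, dimension 4, field with 4 elements): degree 40, order 25920.
Generated by tools/pg.
-/
import Cfsg.Agent.Spor.PGCls
import Cfsg.Agent.Spor.PGCtx

set_option autoImplicit false
set_option maxRecDepth 200000
set_option Elab.async false
set_option linter.unusedVariables false

namespace CL.Std.U42.M
open CL.PG

def P : Par := ⟨120, 128, 7, 3⟩
theorem hP : P.Ok := by decide
noncomputable def a0 : Net := (.cons 32 (nat_lit 0xe0000000000000002b4e6dc4)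
 (.cons 16 (nat_lit 0x6af90000af980000f42a00006da1)
 (.cons 8 (nat_lit 0x6000b400e6004400fe00de00640064)
 (.cons 4 (nat_lit 0xa040004040a000400060e06000a0000)
 (.cons 2 (nat_lit 0x22323022232203222020003302222022)
 (.cons 1 (nat_lit 0x505004050005400514015500004044)
 (.cons 2 (nat_lit 0x2000000200020000000002022)
 (.cons 4 (nat_lit 0x40004040000040400020000000000)
 (.cons 8 (nat_lit 0x2000b000e2000400b200de00200004)
 (.cons 16 (nat_lit 0x6a680000a6880000642a00006ca0)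
 (.cons 32 (nat_lit 0xe0000000000000002b4e6dc4)
 .nil)))))))))))
noncomputable def a1 : Net := (.cons 64 (nat_lit 0x308cf3274d115511)
 (.cons 32 (nat_lit 0x24282d8400000000b0a31070)
 (.cons 16 (nat_lit 0x51a80000f111000036d80000069c)
 (.cons 8 (nat_lit 0x41003000a4002c002c00b800900048)
 (.cons 4 (nat_lit 0x402040a04010509020708020e000409)
 (.cons 2 (nat_lit 0x10203020312213022202222000032222)
 (.cons 1 (nat_lit 0x100010504041401144014110451140)
 (.cons 2 (nat_lit 0x200020002002002220022000002220)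
 (.cons 4 (nat_lit 0x4080400040008080008080202000008)
 (.cons 8 (nat_lit 0x10002000a4000c002c00a800900048)
 (.cons 16 (nat_lit 0x45300000f100000036d80000069c)
 (.cons 32 (nat_lit 0x24282d8400000000b0a31070)
 (.cons 64 (nat_lit 0x3088f3274d005500)
 .nil)))))))))))))
noncomputable def a2 : Net := (.cons 32 (nat_lit 0xe0000000000000007e8cf868)
 (.cons 16 (nat_lit 0x84aa0000c17200008fe100001410)
 (.cons 8 (nat_lit 0xbc005a00aa00140052005a00620040)
 (.cons 4 (nat_lit 0x60b0d080d000c050a0c01090f0000)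
 (.cons 2 (nat_lit 0x23220030200302032001023200020)
 (.cons 1 (nat_lit 0x54445100450005540415404115445440)
 (.cons 2 (nat_lit 0x20200000000000020200220020020)
 (.cons 4 (nat_lit 0x400080a08000e0000080200000000)
 (.cons 8 (nat_lit 0xbc005a00aa0014005e007200620040)
 (.cons 16 (nat_lit 0xa4e80000c5500000d90800001410)
 (.cons 32 (nat_lit 0xe0000000000000007e8cf868)
 .nil)))))))))))
noncomputable def a3 : Net := (.cons 64 (nat_lit 0xa4f848403e712618)
 (.cons 32 (nat_lit 0xa84d69280000000014a32612)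
 (.cons 16 (nat_lit 0x2c700000eb3c0000db900000aad3)
 (.cons 8 (nat_lit 0x6a00d600c20092006d00930000)
 (.cons 4 (nat_lit 0x8070a040a0400020d020c0201070009)
 (.cons 2 (nat_lit 0x210112012021203100310320312200)
 (.cons 1 (nat_lit 0x554004104540151445501411010115)
 (.cons 2 (nat_lit 0x2000002020202000000202000200)
 (.cons 4 (nat_lit 0x80a0402040002000208000a020008)
 (.cons 8 (nat_lit 0xd600c00090004800920000)
 (.cons 16 (nat_lit 0x2c700000eb3c0000db900000aaf0)
 (.cons 32 (nat_lit 0xa84109200000000015922670)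
 (.cons 64 (nat_lit 0xa4f848403e712618)
 .nil)))))))))))))
noncomputable def a4 : Net := (.cons 64 (nat_lit 0x202c6e0b529bca04)
 (.cons 32 (nat_lit 0x6c126e900000000049825c90)
 (.cons 16 (nat_lit 0xcde0000080000000a8200000d120)
 (.cons 8 (nat_lit 0xa8005c0070009100a800260072003a)
 (.cons 4 (nat_lit 0xa0d060802080b020004080800060309)
 (.cons 2 (nat_lit 0x3021003100231233003300210010020)
 (.cons 1 (nat_lit 0x40400000001015045515050001405104)
 (.cons 2 (nat_lit 0x20020000000000000000)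
 (.cons 4 (nat_lit 0xa0c0408000806020004080800040008)
 (.cons 8 (nat_lit 0xa80014007000b400a800260072003a)
 (.cons 16 (nat_lit 0xcde0000080000000a8200000d120)
 (.cons 32 (nat_lit 0x6c126e900000000049825890)
 (.cons 64 (nat_lit 0x202c6e0b52934a04)
 .nil)))))))))))))
noncomputable def a5 : Net := (.cons 64 (nat_lit 0x292f6dcf86152ea)
 (.cons 32 (nat_lit 0xb52ca9390000000064ca24f1)
 (.cons 16 (nat_lit 0x5bca0000231d0000c9630000acb7)
 (.cons 8 (nat_lit 0x80000c007e0008005200ce004000ad)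
 (.cons 4 (nat_lit 0xf0f0300090c060c0f05090405040f0d)
 (.cons 2 (nat_lit 0x31102100310230311301320011322230)
 (.cons 1 (nat_lit 0x44400410510510151504441054410115)
 (.cons 2 (nat_lit 0x2000000000000202000020002220020)
 (.cons 4 (nat_lit 0x80c0202080402040c08080202060006)
 (.cons 8 (nat_lit 0x40002a001e005e0042005a001200cc)
 (.cons 16 (nat_lit 0xefbc00002b62000069140000a928)
 (.cons 32 (nat_lit 0xb5fa6ae00000000088245ba8)
 (.cons 64 (nat_lit 0x2834b8ffeb49440)
 .nil)))))))))))))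
noncomputable def a6 : Net := (.cons 64 (nat_lit 0xcdef7807243185d0)
 (.cons 32 (nat_lit 0xa942845f00000000cbd827cf)
 (.cons 16 (nat_lit 0x514d00007dfa0000208c000090ac)
 (.cons 8 (nat_lit 0x6000ab00bd006800b2002e00ea0060)
 (.cons 4 (nat_lit 0x4030e0f040f0d0c08000b0e0a040105)
 (.cons 2 (nat_lit 0x33012312200201100202320110300120)
 (.cons 1 (nat_lit 0x1454015510114450114040414400414)
 (.cons 2 (nat_lit 0x2200000020020000000020200000022)
 (.cons 4 (nat_lit 0x80804060a020008020c040c00040408)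
 (.cons 8 (nat_lit 0x140068000200a00082001000ec004c)
 (.cons 16 (nat_lit 0xf9980000eb860000eb8e00009666)
 (.cons 32 (nat_lit 0x692880c400000000db4af77a)
 (.cons 64 (nat_lit 0xcd320ca811787fda)
 .nil)))))))))))))
noncomputable def a7 : Net := (.cons 64 (nat_lit 0xf3f634465548d23a)
 (.cons 32 (nat_lit 0x2f26da2400000000405da922)
 (.cons 16 (nat_lit 0x1352000000c1000006820000f936)
 (.cons 8 (nat_lit 0xdf0095006e00cc0024002600e100d2)
 (.cons 4 (nat_lit 0x101040a09040209020d070e0c050606)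
 (.cons 2 (nat_lit 0x3323203010112132003222322023312)
 (.cons 1 (nat_lit 0x54054541140144114001511450141540)
 (.cons 2 (nat_lit 0x22020020022000022000022000)
 (.cons 4 (nat_lit 0x20c0a0404040408040004060a060006)
 (.cons 8 (nat_lit 0x7a0072004c0024002400d6001800ca)
 (.cons 16 (nat_lit 0xc7040000b29800004a4e00004856)
 (.cons 32 (nat_lit 0xdd10164000000000487a5d62)
 (.cons 64 (nat_lit 0xf320ba29a5d3919a)
 .nil)))))))))))))
noncomputable def a8 : Net := (.cons 64 (nat_lit 0xa20aeaaabaeba8a8)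
 (.cons 32 (nat_lit 0x32695cb300000000137fec68)
 (.cons 16 (nat_lit 0x8e6b000007ad0000e7dd00003570)
 (.cons 8 (nat_lit 0x5c0088004e0016005400ee00110004)
 (.cons 4 (nat_lit 0x80f0304060b0f020c0b00040b0e0d02)
 (.cons 2 (nat_lit 0x30303233202103320231211010212310)
 (.cons 1 (nat_lit 0x44510114401505441011010441111104)
 (.cons 2 (nat_lit 0x20000202002000002022020000002002)
 (.cons 4 (nat_lit 0x6020608020c0008020c000a000406)
 (.cons 8 (nat_lit 0x44009a00620046003400e80018005c)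
 (.cons 16 (nat_lit 0xbe7600000f500000fb1a00003d68)
 (.cons 32 (nat_lit 0xb23a8464000000005fb1d420)
 (.cons 64 (nat_lit 0xa2aaaaabae82ac88)
 .nil)))))))))))))
noncomputable def a9 : Net := (.cons 64 (nat_lit 0xc6b11475a2ac4712)
 (.cons 32 (nat_lit 0xd329d97400000000fea7771e)
 (.cons 16 (nat_lit 0x230300001db8000058430000cf64)
 (.cons 8 (nat_lit 0xf400f4005b00b0009900f7008f0014)
 (.cons 4 (nat_lit 0xc070b0d06050c0a070a0b060d000d00)
 (.cons 2 (nat_lit 0x120102221220002202200100001000)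
 (.cons 1 (nat_lit 0x4541404144114011441101541405010)
 (.cons 2 (nat_lit 0x2000002200220002020000022200000)
 (.cons 4 (nat_lit 0x80e0404040408020c04080004040c00)
 (.cons 8 (nat_lit 0xf00060003800700014006400480024)
 (.cons 16 (nat_lit 0xe11c000059980000c4380000c644)
 (.cons 32 (nat_lit 0x9566519c00000000cf80064e)
 (.cons 64 (nat_lit 0xc638b6d59723cb42)
 .nil)))))))))))))
noncomputable def a10 : Net := (.cons 64 (nat_lit 0x1c423f880a28e420)
 (.cons 32 (nat_lit 0x7a54006000000001ebae278)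
 (.cons 16 (nat_lit 0x470000b2100000d9db0000cb90)
 (.cons 8 (nat_lit 0xc600cb00ee008e00e10014001e00d8)
 (.cons 4 (nat_lit 0x1010b08060507090f0d080804000600)
 (.cons 2 (nat_lit 0x2010010320202000202220030000100)
 (.cons 1 (nat_lit 0x5051154505101401441011440014440)
 (.cons 2 (nat_lit 0x200000202202202020220002020)
 (.cons 4 (nat_lit 0xc000808020208000408080606000800)
 (.cons 8 (nat_lit 0xc0009c002a00e200d0005400360008)
 (.cons 16 (nat_lit 0x7c0000062f400009d9200002990)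
 (.cons 32 (nat_lit 0x7ecbf20000000001c1bba70)
 (.cons 64 (nat_lit 0x1c793c182e2ef800)
 .nil)))))))))))))
noncomputable def a11 : Net := (.cons 32 (nat_lit 0xe0000000000000007e8cf868)
 (.cons 16 (nat_lit 0x84aa0000c17200008fe100001410)
 (.cons 8 (nat_lit 0xbc005a00aa00140052005a00620040)
 (.cons 4 (nat_lit 0x60b0d080d000c050a0c01090f0000)
 (.cons 2 (nat_lit 0x23220030200302032001023200020)
 (.cons 1 (nat_lit 0x54445100450005540415404115445440)
 (.cons 2 (nat_lit 0x20200000000000020200220020020)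
 (.cons 4 (nat_lit 0x400080a08000e0000080200000000)
 (.cons 8 (nat_lit 0xbc005a00aa0014005e007200620040)
 (.cons 16 (nat_lit 0xa4e80000c5500000d90800001410)
 (.cons 32 (nat_lit 0xe0000000000000007e8cf868)
 .nil)))))))))))
noncomputable def ns0 : List Net := [a0, a1, a2, a3, a4]
noncomputable def ws : List (List ℕ) :=
  [W (nat_lit 0x90200100c0900406),
  W (nat_lit 0x180202403),
  W (nat_lit 0x2c0e0300d0340d02c0b),
  W (nat_lit 0xb0380b0340b02c0d),
  W (nat_lit 0x1103c1203c0f03c11),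
  W (nat_lit 0x1203c0f03c11),
  W (nat_lit 0x5816)]
noncomputable def ns : List Net := [a0, a1, a2, a3, a4, a5, a6, a7, a8, a9, a10, a11]
noncomputable def D : List (ℕ × List ℕ) := app [] (mkDefs ws 5)
noncomputable def chk : List (List ℕ × List ℕ) → Bool := P.relsB ns
noncomputable def V : List ℕ :=
  [(nat_lit 0x104124810412481041248922489204000820924082092408209244912449020004104920410492041049224892248100e38e001e38e001e38e001004010078),
  (nat_lit 0x820838082083808208380e0380e020004104070410407041040701c0701c1000208200e208200e208200e0380e0388001c71c011c71c011c71c01004010047),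
  (nat_lit 0xfc00000fc00000fc00000ffc0000000003f000003f000003f0000003ff000000000fc00000fc00000fc0000000ffc00000003ff00003ff00003ff00000003f),
  (nat_lit 0xfffffff00000000000000000000000000000000fffffff00000000000000000000000000000000fffffff00000000000000000000000000000000fffffffff)]
noncomputable def ms : List (List (List ℕ) × List (List ℕ)) :=
  [([[0, 0, 3, 0], [0, 1, 0, 0], [2, 0, 0, 0], [0, 0, 0, 1]],
   [[0, 0, 3, 0], [0, 1, 0, 0], [2, 0, 0, 0], [0, 0, 0, 1]]),
  ([[0, 3, 3, 3], [2, 0, 1, 1], [2, 1, 0, 1], [2, 1, 1, 0]],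
   [[0, 3, 3, 3], [2, 0, 1, 1], [2, 1, 0, 1], [2, 1, 1, 0]]),
  ([[1, 0, 0, 0], [0, 0, 1, 0], [0, 1, 0, 0], [0, 0, 0, 1]],
   [[1, 0, 0, 0], [0, 0, 1, 0], [0, 1, 0, 0], [0, 0, 0, 1]]),
  ([[0, 1, 1, 1], [1, 0, 1, 1], [1, 1, 0, 1], [1, 1, 1, 0]],
   [[0, 1, 1, 1], [1, 0, 1, 1], [1, 1, 0, 1], [1, 1, 1, 0]]),
  ([[0, 0, 0, 2], [0, 1, 0, 0], [0, 0, 1, 0], [3, 0, 0, 0]],
   [[0, 0, 0, 2], [0, 1, 0, 0], [0, 0, 1, 0], [3, 0, 0, 0]])]
noncomputable def G_v0 : Lev :=
  ⟨0, 120, sg (W (nat_lit 0x340b0340b0340b0340b0340b0340b)), [[14], [16]], 2, 2⟩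
noncomputable def G_v1 : Lev :=
  ⟨7, 27, sg (W (nat_lit 0xf03c1103c1103c1103c0f)), [[18], [20]], 4, 2⟩
noncomputable def G_v2 : Lev :=
  ⟨36, 4, sg (W (nat_lit 0x5413)), [[22]], 6, 1⟩
noncomputable def G_v3 : Lev :=
  ⟨3, 2, sg [22], [], 7, 0⟩
noncomputable def G_vs4 : List Lev :=
  []
noncomputable def G_vs3 : List Lev :=
  G_v3 :: G_vs4
noncomputable def G_vs2 : List Lev :=
  G_v2 :: G_vs3
noncomputable def G_vs1 : List Lev :=
  G_v1 :: G_vs2
noncomputable def G_vs : List Lev :=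
  G_v0 :: G_vs1

theorem zv0 : vecB t4.q 2 4 P V = true := by decide +kernel
theorem zv1 : Nat.beq (lenL ms) (lenL ns0) = true := by decide +kernel
theorem zv2 : allL (t4.actB 2 4 P V) (zp Net.nil ms ns0) = true := by decide +kernel
theorem zv3 : t4.basB 4 P V [0, 3, 6, 36] [[1, 0, 0, 0], [0, 1, 0, 0], [0, 0, 1, 0], [0, 0, 0, 1]] = true := by decide +kernel
theorem zv4 : allL (t4.detB 4 1) ms = true := by decide +kernel
theorem zv5 : allL (t4.uniB 4 2) ms = true := by decide +kernel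
theorem zc6 : P.chainB ns D G_vs [[10], [12]] = true := by decide +kernel
theorem zm7 : leB D [] [[10], [12]] = true := by decide +kernel
theorem zk8 : allL (keepB P.n P.N) ns0 = true := by decide +kernel
theorem ze9 : extB ns0 ns 5 ws [] = true := by decide +kernel
theorem zn10 : P.netsB ns (mkDefs ws 5) = true := by decide +kernel

section
variable {G X : Type*} [Group G] [MulAction G X] {e : ℕ → X} {gs : List G}

theorem keep0 : allL (keepB P.n P.N) ns0 = true := zk8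

theorem len {k} (c : Ctx P e gs ns0 [] k) : gs.length = 5 := c.len ze9

theorem ctx0 {k} (c : Ctx P e gs ns0 [] k) : Ctx P e (ext gs ws) ns D chk0 :=
  c.ext rfl ze9 zn10

theorem ctx {k} (c : Ctx P e gs ns0 [] k) {H : Subgroup G} (hF : Faithful e P.n H) (hH : ∀ g ∈ gs, g ∈ H) :
    Ctx P e (ext gs ws) ns D chk :=
  (ctx0 c).withB hF (mem_of_mem_ext hH _)

theorem hV : vecB t4.q 2 4 P V = true := zv0
theorem hact : allL (t4.actB 2 4 P V) (zp Net.nil ms ns0) = true := zv2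
theorem hinv : allL (t4.invB 4) ms = true := actB_invB hact
theorem base {F : Type*} [Field F] {el : ℕ → F} (h : FC t4 el) : Ctx P (vecOf el (Fin.val : Fin 4 → ℕ) t4.q P.N V) (List.map (glF el (Fin.val : Fin 4 → ℕ)) ms) ns0 [] chk0 :=
  ctx_mat h (ix_fin 4) hP hV zv1 hact
theorem faith {F : Type*} [Field F] {el : ℕ → F} (h : FC t4 el) : Faithful (vecOf el (Fin.val : Fin 4 → ℕ) t4.q P.N V) P.n (⊤ : Subgroup (GL (Fin 4) F)) :=
  faithful_vecOf h (ix_fin 4) hP hV zv3
theorem c1 {F : Type*} [Field F] {el : ℕ → F} (h : FC t4 el) : Ctx P (vecOf el (Fin.val : Fin 4 → ℕ) t4.q P.N V) (ext (List.map (glF el (Fin.val : Fin 4 → ℕ)) ms) ws) ns D chk :=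
  ctx (base h) (faith h) fun _ _ => trivial

theorem G_c : P.chainB ns D G_vs [[10], [12]] = true :=
  zc6

theorem G_o : prodL G_vs 1 = 25920 := by decide +kernel

theorem G_lb (c : Ctx P e gs ns D chk) :
    LB (subW gs [[10], [12]]) 25920 :=
  c.lb G_c G_o

theorem Z_lb (c : Ctx P e gs ns D chk) :
    LB (subW gs []) 1 :=
  LB.one _

theorem hZ (c : Ctx P e gs ns D chk) :
    (subW gs []) ≤ (subW gs [[10], [12]]) ∧ Rels gs (comR [] [[10], [12]]) :=
  ⟨(c.le zm7), Rels.nil _⟩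

end
end CL.Std.U42.M

namespace CL.Std.U42
open CL.PG

def P : Par := ⟨40, 40, 6, 3⟩
theorem hP : P.Ok := by decide
noncomputable def a0 : Net := (.cons 20 (nat_lit 0x3e5eb)
 (.cons 10 (nat_lit 0x63001ee)
 (.cons 5 (nat_lit 0x1c0707815)
 (.cons 1 (nat_lit 0x42000000)
 (.cons 1 (nat_lit 0x94a02102)
 (.cons 1 (nat_lit 0x94a5214a5)
 (.cons 1 (nat_lit 0x5294a10942)
 (.cons 1 (nat_lit 0x10a529000)
 (.cons 5 (nat_lit 0x780002008)
 (.cons 10 (nat_lit 0x27a001d6)
 (.cons 20 (nat_lit 0x9113a)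
 .nil)))))))))))
noncomputable def a1 : Net := (.cons 20 (nat_lit 0xe0d81)
 (.cons 10 (nat_lit 0x3af000f6)
 (.cons 5 (nat_lit 0x500d0540d)
 (.cons 1 (nat_lit 0x120020)
 (.cons 1 (nat_lit 0x4010250040)
 (.cons 1 (nat_lit 0x280a429080)
 (.cons 1 (nat_lit 0x1084a50902)
 (.cons 1 (nat_lit 0x9424084a0)
 (.cons 5 (nat_lit 0x701201014)
 (.cons 10 (nat_lit 0xc800072)
 (.cons 20 (nat_lit 0xdd89c)
 .nil)))))))))))
noncomputable def a2 : Net := (.cons 20 (nat_lit 0xb8b6)
 (.cons 10 (nat_lit 0x2f3000c6)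
 (.cons 5 (nat_lit 0x540f00c04)
 (.cons 1 (nat_lit 0x400)
 (.cons 1 (nat_lit 0x4284800900)
 (.cons 1 (nat_lit 0x214a521084)
 (.cons 1 (nat_lit 0x1094212848)
 (.cons 1 (nat_lit 0x484290a4)
 (.cons 5 (nat_lit 0x10140600c)
 (.cons 10 (nat_lit 0x1000124)
 (.cons 20 (nat_lit 0x39844)
 .nil)))))))))))
noncomputable def a3 : Net := (.cons 20 (nat_lit 0xb32e6)
 (.cons 10 (nat_lit 0x305002d6)
 (.cons 5 (nat_lit 0x140607400)
 (.cons 1 (nat_lit 0x40520000)
 (.cons 1 (nat_lit 0x1294a50800)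
 (.cons 1 (nat_lit 0x294a529020)
 (.cons 1 (nat_lit 0x5294a12940)
 (.cons 1 (nat_lit 0x2802020080)
 (.cons 5 (nat_lit 0x28000001a)
 (.cons 10 (nat_lit 0x320000ec)
 (.cons 20 (nat_lit 0x2a6b0)
 .nil)))))))))))
noncomputable def a4 : Net := (.cons 20 (nat_lit 0xbfff8)
 (.cons 10 (nat_lit 0x2d400314)
 (.cons 5 (nat_lit 0x140501810)
 (.cons 1 (nat_lit 0x28400)
 (.cons 1 (nat_lit 0x50800)
 (.cons 1 (nat_lit 0x2100429024)
 (.cons 1 (nat_lit 0x4090252148)
 (.cons 1 (nat_lit 0x802020000)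
 (.cons 5 (nat_lit 0x501401010)
 (.cons 10 (nat_lit 0x1000208)
 (.cons 20 (nat_lit 0xfefec)
 .nil)))))))))))
noncomputable def a5 : Net := (.cons 20 (nat_lit 0x60380)
 (.cons 10 (nat_lit 0x3ff002f0)
 (.cons 5 (nat_lit 0x1c0f03418)
 (.cons 1 (nat_lit 0x800028400)
 (.cons 1 (nat_lit 0x5290250840)
 (.cons 1 (nat_lit 0x21485290a0)
 (.cons 1 (nat_lit 0x5094a52148)
 (.cons 1 (nat_lit 0x204a4280a0)
 (.cons 5 (nat_lit 0x480001000)
 (.cons 10 (nat_lit 0x3c000398)
 (.cons 20 (nat_lit 0xc8c0)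
 .nil)))))))))))
noncomputable def a6 : Net := (.cons 20 (nat_lit 0x84080)
 (.cons 10 (nat_lit 0xed00062)
 (.cons 5 (nat_lit 0x781c03c0e)
 (.cons 1 (nat_lit 0x40008020)
 (.cons 1 (nat_lit 0x294012840)
 (.cons 1 (nat_lit 0x94a121484)
 (.cons 1 (nat_lit 0x5294a5294a)
 (.cons 1 (nat_lit 0x10a409404)
 (.cons 5 (nat_lit 0x60000781c)
 (.cons 10 (nat_lit 0x2200312)
 (.cons 20 (nat_lit 0x82400)
 .nil)))))))))))
noncomputable def a7 : Net := (.cons 10 (nat_lit 0xe8)
 (.cons 5 (nat_lit 0x781802c10)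
 (.cons 1 (nat_lit 0x848000000)
 (.cons 1 (nat_lit 0x1094000000)
 (.cons 1 (nat_lit 0x210a400000)
 (.cons 1 (nat_lit 0x4204810100)
 (.cons 1 (nat_lit 0x20400)
 (.cons 5 (nat_lit 0x2800)
 (.cons 10 (nat_lit 0x3f0000e8)
 .nil)))))))))
noncomputable def a8 : Net := (.cons 20 (nat_lit 0x1a354)
 (.cons 10 (nat_lit 0xea00060)
 (.cons 5 (nat_lit 0x340506012)
 (.cons 1 (nat_lit 0x140000000)
 (.cons 1 (nat_lit 0x280000102)
 (.cons 1 (nat_lit 0x9404200a4)
 (.cons 1 (nat_lit 0x5280212048)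
 (.cons 1 (nat_lit 0x28420000a4)
 (.cons 5 (nat_lit 0x700402012)
 (.cons 10 (nat_lit 0x6800060)
 (.cons 20 (nat_lit 0x38354)
 .nil)))))))))))
noncomputable def ns0 : List Net := [a0, a1]
noncomputable def ws : List (List ℕ) :=
  [W (nat_lit 0xc030040300403),
  W (nat_lit 0x40080200c0100c0200c02),
  W (nat_lit 0x80140701807),
  W (nat_lit 0x180802005),
  W (nat_lit 0x902c0a),
  W (nat_lit 0x2c0a0300a),
  W (nat_lit 0xc0300d0400b)]
noncomputable def ns : List Net := [a0, a1, a2, a3, a4, a5, a6, a7, a8]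
noncomputable def D : List (ℕ × List ℕ) := app [] (mkDefs ws 2)
noncomputable def chk : List (List ℕ × List ℕ) → Bool := P.relsB ns
noncomputable def G_v0 : Lev :=
  ⟨0, 40, sg (W (nat_lit 0x100c0100c0100c0100c01)), [[4], [6]], 0, 2⟩
noncomputable def G_v1 : Lev :=
  ⟨1, 12, sg (W (nat_lit 0x140501c0501c05)), [[8], [10]], 2, 2⟩
noncomputable def G_v2 : Lev :=
  ⟨2, 2, sg [8], [[11], [12], [14]], 4, 2⟩
noncomputable def G_v3 : Lev :=
  ⟨3, 9, sg (W (nat_lit 0x300f0340c)), [[16]], 6, 1⟩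
noncomputable def G_v4 : Lev :=
  ⟨13, 3, sg (W (nat_lit 0x4411)), [], 7, 0⟩
noncomputable def G_vs5 : List Lev :=
  []
noncomputable def G_vs4 : List Lev :=
  G_v4 :: G_vs5
noncomputable def G_vs3 : List Lev :=
  G_v3 :: G_vs4
noncomputable def G_vs2 : List Lev :=
  G_v2 :: G_vs3
noncomputable def G_vs1 : List Lev :=
  G_v1 :: G_vs2
noncomputable def G_vs : List Lev :=
  G_v0 :: G_vs1
noncomputable def zE1 : Net :=
  (.cons 64 (nat_lit 0xe8016a99e24f5c06)
 (.cons 32 (nat_lit 0x47fe07fe00000000e01e1cb2)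
 (.cons 16 (nat_lit 0x3e5a0000204b0000a3be00004d80)
 (.cons 8 (nat_lit 0x900a5008a002400ad001f005f00c4)
 (.cons 4 (nat_lit 0xc0408020a0105040000090c00010a0a)
 (.cons 2 (nat_lit 0x20300110022300230100021000000300)
 (.cons 1 (nat_lit 0x10510444004140410510054000400110)
 (.cons 2 (nat_lit 0x20000220002200220000000000200220)
 (.cons 4 (nat_lit 0x806080a080c08020e020e0c00080402)
 (.cons 8 (nat_lit 0xf600ce00d200f2005800e00000007c)
 (.cons 16 (nat_lit 0x3cd2000008660000b33c000041d0)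
 (.cons 32 (nat_lit 0xeff9484000000000e0a3d508)
 (.cons 64 (nat_lit 0xe83e49e8016a95c0)
 .nil)))))))))))))
noncomputable def zK2 : Lk :=
  ⟨zE1, 3, 3, 1⟩

theorem zc0 : P.chainB ns D G_vs [[0], [2]] = true := by decide +kernel
theorem zl3 : zK2.relB CL.Std.U42.M.P CL.Std.U42.P CL.Std.U42.M.ns [[10], [12]] [[0], [2]] = true := by decide +kernel
theorem zl4 : allL (zK2.pl CL.Std.U42.M.P CL.Std.U42.P CL.Std.U42.M.ns CL.Std.U42.ns 0) (zp [] [[10], [12]] [[0], [2]]) = true := by decide +kernel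
theorem zk5 : allL (keepB P.n P.N) ns0 = true := by decide +kernel
theorem ze6 : extB ns0 ns 2 ws [] = true := by decide +kernel
theorem zn7 : P.netsB ns (mkDefs ws 2) = true := by decide +kernel

section
variable {G X : Type*} [Group G] [MulAction G X] {e : ℕ → X} {gs : List G}

theorem keep0 : allL (keepB P.n P.N) ns0 = true := zk5

theorem len {k} (c : Ctx P e gs ns0 [] k) : gs.length = 2 := c.len ze6

theorem ctx0 {k} (c : Ctx P e gs ns0 [] k) : Ctx P e (ext gs ws) ns D chk0 :=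
  c.ext rfl ze6 zn7

theorem ctx {k} (c : Ctx P e gs ns0 [] k) {H : Subgroup G} (hF : Faithful e P.n H) (hH : ∀ g ∈ gs, g ∈ H) :
    Ctx P e (ext gs ws) ns D chk :=
  (ctx0 c).withB hF (mem_of_mem_ext hH _)

instance instNe : NeZero P.n := ⟨by decide⟩
noncomputable def gs0 : List (Equiv.Perm (Fin P.n)) := permsOf P.n P.N ns0
noncomputable def gs1 : List (Equiv.Perm (Fin P.n)) := ext gs0 ws
theorem c1 : Ctx P (eF P.n) gs1 ns D chk :=
  ctx (ctx_permsOf hP keep0) (faithful_eF _) fun _ _ => trivial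

theorem G_c : P.chainB ns D G_vs [[0], [2]] = true :=
  zc0

theorem G_o : prodL G_vs 1 = 25920 := by decide +kernel

theorem G_lb (c : Ctx P e gs ns D chk) :
    LB (subW gs [[0], [2]]) 25920 :=
  c.lb G_c G_o

theorem rel {Γ Y : Type*} [Group Γ] [MulAction Γ Y] {e' : ℕ → Y} {cs : List Γ} {D₁ D₂ : List (ℕ × List ℕ)}
    {k₁ k₂ : List (List ℕ × List ℕ) → Bool} (c : Ctx CL.Std.U42.M.P e gs CL.Std.U42.M.ns D₁ k₁) (c' : Ctx CL.Std.U42.P e' cs CL.Std.U42.ns D₂ k₂)
    (hF : Faithful e' CL.Std.U42.P.n (subW cs [[0], [2]])) :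
    RelLe gs [[10], [12]] cs [[0], [2]] :=
  c.relLe (K := zK2) c' hF zl3 (fun (t : ℕ) (ht : t < 1) => match t, ht with
    | 0, _ => zl4
    | t + 1, h => absurd h (by omega))

theorem hom {F : Type*} [Field F] [Fintype F] (hF : Fintype.card F = 4) :
    ∃ f : Cfsg.SU 4 F 2 →* Equiv.Perm (Fin P.n), f.range = (subW gs1 [[0], [2]]) ∧ f.ker = Subgroup.center _ ∧ Nat.card (subW gs1 [[0], [2]]) = 25920 := by
  obtain ⟨el, h⟩ := Tab.exists_fc t4 t4_field F hF
  have hc : Nat.card (Cfsg.SU 4 F 2) = 25920 := card_su (q := 2) hF 4 (by norm_num) (by decide +kernel)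
  have hK := subW_eq_range (l := [[10], [12]]) (suHom 4 F 2) (suHom_inj _ _) hc (by norm_num)
    (subW_le_of_forall (mem_of_mem_ext (forall_mem_SU h (by decide +kernel) M.hinv M.zv5 M.zv4) _) _) (M.G_lb (M.c1 h))
  have : Finite (Cfsg.SU 4 F 2) := Nat.finite_of_card_ne_zero (by rw [hc]; norm_num)
  exact cquot_of_card (RelLe.cquot0 (l := [[10], [12]]) (lZ := []) (a := 1) (b := 25920) (rel (M.c1 h) c1 ((faithful_eF _).mono le_top)) (by decide)
    (suHom 4 F 2) (suHom_inj _ _) hc (by norm_num) hK (M.hZ (M.c1 h)).1 (M.hZ (M.c1 h)).2 (M.Z_lb (M.c1 h)) (G_lb c1)) (card_psu (q := 2) hF 4 (by norm_num) (by decide +kernel))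
theorem iso {F : Type*} [Field F] [Fintype F] (hF : Fintype.card F = 4) :
    Nonempty ((subW gs1 [[0], [2]]) ≃* Cfsg.SU 4 F 2 ⧸ Subgroup.center (Cfsg.SU 4 F 2)) := cquot_equiv (hom hF)
theorem card : Nat.card (subW gs1 [[0], [2]]) = 25920 := by
  obtain ⟨F, _, _, hF⟩ := exists_field 2 2 (by norm_num)
  replace hF : Fintype.card F = 4 := hF
  exact (hom hF).choose_spec.2.2
theorem ub : UB (subW gs1 [[0], [2]]) 25920 := UB.of_card card (by norm_num)

theorem simple : IsSimpleGroup (subW gs1 [[0], [2]]) := by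
  obtain ⟨F, _, _, hF⟩ := exists_field 2 2 (by norm_num)
  replace hF : Fintype.card F = 4 := hF
  obtain ⟨el, h⟩ := Tab.exists_fc t4 t4_field F hF
  have : IsSimpleGroup (Cfsg.SU 4 F 2 ⧸ Subgroup.center (Cfsg.SU 4 F 2)) := Uni.isSimpleGroup_PSU (n := 4) (q := 2) hF (by norm_num) (by norm_num)
  exact (iso hF).some.isSimpleGroup

end
end CL.Std.U42

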