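/-
PSp4(3) and U4(2) (helper75).
Generated by tools/pg.
-/
import Cfsg.Agent.Spor.PGCtx
import Cfsg.Agent.Spor.PGStruct
import Cfsg.Agent.Spor.StdPS43
import Cfsg.Agent.Spor.StdU42

set_option autoImplicit false
set_option maxRecDepth 200000
set_option Elab.async false
set_option linter.unusedVariables false

namespace CL.U6Iso
open CL.PG

noncomputable def xa12 : Net := (.cons 20 (nat_lit 0xad62e)
 (.cons 10 (nat_lit 0xf800317)
 (.cons 5 (nat_lit 0x1c150141b)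
 (.cons 1 (nat_lit 0x24204a0)
 (.cons 1 (nat_lit 0x1014a50940)
 (.cons 1 (nat_lit 0x280a5294a0)
 (.cons 1 (nat_lit 0x5014212942)
 (.cons 1 (nat_lit 0x8120480)
 (.cons 5 (nat_lit 0x160601c)
 (.cons 10 (nat_lit 0x5000274)
 (.cons 20 (nat_lit 0x2330)
 .nil)))))))))))
noncomputable def xa13 : Net := (.cons 20 (nat_lit 0x99ceb)
 (.cons 10 (nat_lit 0x2180021e)
 (.cons 5 (nat_lit 0x180401c0c)
 (.cons 1 (nat_lit 0x84800002)
 (.cons 1 (nat_lit 0x14a401404)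
 (.cons 1 (nat_lit 0x409424094a)
 (.cons 1 (nat_lit 0x1481204a5)
 (.cons 5 (nat_lit 0x600405000)
 (.cons 10 (nat_lit 0x18e003d0)
 (.cons 20 (nat_lit 0xf10c2)
 .nil))))))))))
noncomputable def xa14 : Net := (.cons 20 (nat_lit 0xeff4e)
 (.cons 10 (nat_lit 0x2bc003ce)
 (.cons 5 (nat_lit 0x38030381c)
 (.cons 1 (nat_lit 0x2000000420)
 (.cons 1 (nat_lit 0x528484084a)
 (.cons 1 (nat_lit 0x294a4290a4)
 (.cons 1 (nat_lit 0x529421294a)
 (.cons 1 (nat_lit 0x14a4080a0)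
 (.cons 5 (nat_lit 0x301c01800)
 (.cons 10 (nat_lit 0x3500038e)
 (.cons 20 (nat_lit 0xbfb8c)
 .nil)))))))))))
noncomputable def xa15 : Net := (.cons 20 (nat_lit 0x6749c)
 (.cons 10 (nat_lit 0xf100066)
 (.cons 5 (nat_lit 0x240407c18)
 (.cons 1 (nat_lit 0x400)
 (.cons 1 (nat_lit 0x1080000948)
 (.cons 1 (nat_lit 0x2140009084)
 (.cons 1 (nat_lit 0x4290a12942)
 (.cons 1 (nat_lit 0x280a5210a0)
 (.cons 5 (nat_lit 0x300805002)
 (.cons 10 (nat_lit 0x11a00354)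
 (.cons 20 (nat_lit 0x56eec)
 .nil)))))))))))
noncomputable def xa16 : Net := (.cons 20 (nat_lit 0xab010)
 (.cons 10 (nat_lit 0x3fe003f0)
 (.cons 5 (nat_lit 0x3c1304c00)
 (.cons 1 (nat_lit 0x800000000)
 (.cons 1 (nat_lit 0x1290210000)
 (.cons 1 (nat_lit 0x2948429400)
 (.cons 1 (nat_lit 0x5284a50900)
 (.cons 1 (nat_lit 0x1020200a0)
 (.cons 5 (nat_lit 0x600c00010)
 (.cons 10 (nat_lit 0x37c003f0)
 (.cons 20 (nat_lit 0x72880)
 .nil)))))))))))
noncomputable def xa17 : Net := (.cons 20 (nat_lit 0x80008)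
 (.cons 10 (nat_lit 0x20e00208)
 (.cons 5 (nat_lit 0x241f00010)
 (.cons 1 (nat_lit 0x42000020)
 (.cons 1 (nat_lit 0x4284800040)
 (.cons 1 (nat_lit 0x210a4000a0)
 (.cons 1 (nat_lit 0x5294212948)
 (.cons 1 (nat_lit 0x2042500404)
 (.cons 5 (nat_lit 0x500004000)
 (.cons 10 (nat_lit 0x31e00010)
 (.cons 20 (nat_lit 0x80004)
 .nil)))))))))))
noncomputable def xa18 : Net := (.cons 20 (nat_lit 0xffab0)
 (.cons 10 (nat_lit 0x3ba00102)
 (.cons 5 (nat_lit 0x58000340a)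
 (.cons 1 (nat_lit 0x2400000)
 (.cons 1 (nat_lit 0x284a00000)
 (.cons 1 (nat_lit 0x908521404)
 (.cons 1 (nat_lit 0x1290a50802)
 (.cons 1 (nat_lit 0x80a428404)
 (.cons 5 (nat_lit 0x805008)
 (.cons 10 (nat_lit 0x3a800042)
 (.cons 20 (nat_lit 0xffab0)
 .nil)))))))))))
noncomputable def xa19 : Net := (.cons 20 (nat_lit 0xb7f1c)
 (.cons 10 (nat_lit 0x37800090)
 (.cons 5 (nat_lit 0x781605c0a)
 (.cons 1 (nat_lit 0x848020000)
 (.cons 1 (nat_lit 0x1094850002)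
 (.cons 1 (nat_lit 0x210a428424)
 (.cons 1 (nat_lit 0x4294210848)
 (.cons 1 (nat_lit 0x210a1094a4)
 (.cons 5 (nat_lit 0x200c01012)
 (.cons 10 (nat_lit 0x2f800024)
 (.cons 20 (nat_lit 0xed8fc)
 .nil)))))))))))
noncomputable def xa20 : Net := (.cons 10 (nat_lit 0x20000000)
 (.cons 5 (nat_lit 0x44000001c)
 (.cons 1 (nat_lit 0x40000000)
 (.cons 1 (nat_lit 0x4280000140)
 (.cons 1 (nat_lit 0x2940000080)
 (.cons 1 (nat_lit 0x5294800948)
 (.cons 1 (nat_lit 0x2142400424)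
 (.cons 5 (nat_lit 0x1c)
 (.cons 10 (nat_lit 0x10000000)
 .nil)))))))))
noncomputable def xa21 : Net := (.cons 20 (nat_lit 0x61800)
 (.cons 10 (nat_lit 0x18500000)
 (.cons 5 (nat_lit 0x700f07000)
 (.cons 1 (nat_lit 0x42000000)
 (.cons 1 (nat_lit 0x1084210800)
 (.cons 1 (nat_lit 0x2908529000)
 (.cons 1 (nat_lit 0x5214a52000)
 (.cons 1 (nat_lit 0x2040420000)
 (.cons 5 (nat_lit 0x1c00000)
 (.cons 10 (nat_lit 0x2400000)
 (.cons 20 (nat_lit 0xd800)
 .nil)))))))))))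
noncomputable def xws : List (List ℕ) :=
  [W (nat_lit 0xf0300e00802),
  W (nat_lit 0x100300d00408),
  W (nat_lit 0x641c06419),
  W (nat_lit 0x641c0681c),
  W (nat_lit 0x801d0801d),
  W (nat_lit 0x8020),
  W (nat_lit 0x2408424),
  W (nat_lit 0x2108c2108424),
  W (nat_lit 0x9024),
  W (nat_lit 0x98270a42509c290a026)]
noncomputable def xns : List Net := [CL.Std.PS43.a0, CL.Std.PS43.a1, CL.Std.PS43.a2, CL.Std.PS43.a3, CL.Std.PS43.a4, CL.Std.PS43.a5, CL.Std.PS43.a6, CL.Std.PS43.a7, CL.Std.PS43.a8, CL.Std.PS43.a9, CL.Std.PS43.a10, CL.Std.PS43.a11, xa12, xa13, xa14, xa15, xa16, xa17, xa18, xa19, xa20, xa21]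
noncomputable def xD : List (ℕ × List ℕ) := app CL.Std.PS43.D (mkDefs xws 12)
noncomputable def xchk : List (List ℕ × List ℕ) → Bool := CL.Std.PS43.P.relsB xns
noncomputable def xzE0 : Net :=
  (.cons 20 (nat_lit 0x8ab02)
 (.cons 10 (nat_lit 0x5d003df)
 (.cons 5 (nat_lit 0x74090601f)
 (.cons 1 (nat_lit 0x5000042148)
 (.cons 1 (nat_lit 0x280a4290a5)
 (.cons 1 (nat_lit 0x528485084a)
 (.cons 1 (nat_lit 0x2902501081)
 (.cons 5 (nat_lit 0x60020300a)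
 (.cons 10 (nat_lit 0x228003fa)
 (.cons 20 (nat_lit 0x6fa88)
 .nil))))))))))
noncomputable def xzK1 : Lk :=
  ⟨xzE0, 1, 3, 1⟩
noncomputable def xzts4 : List (List ℕ) :=
  [W (nat_lit 0xa0230741f06c1d),
  W (nat_lit 0x2c0982307820)]
noncomputable def xzts7 : List (List ℕ) :=
  [W (nat_lit 0xf0300e00802),
  W (nat_lit 0x100300d00408)]

theorem xzl2 : xzK1.relB CL.Std.PS43.P CL.Std.U42.P CL.U6Iso.xns [[24], [26]] [[0], [2]] = true := by decide +kernel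
theorem xzl3 : allL (xzK1.pl CL.Std.PS43.P CL.Std.U42.P CL.U6Iso.xns CL.Std.U42.ns 0) (zp [] [[24], [26]] [[0], [2]]) = true := by decide +kernel
theorem xzm5 : leB xD xzts4 [[24], [26]] = true := by decide +kernel
theorem xzr6 : xchk (zp [] [[0], [2]] xzts4) = true := by decide +kernel
theorem xzm8 : leB xD xzts7 [[0], [2]] = true := by decide +kernel
theorem xzr9 : xchk (zp [] [[24], [26]] xzts7) = true := by decide +kernel
theorem xze10 : extB CL.Std.PS43.ns xns 12 xws CL.Std.PS43.D = true := by decide +kernel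
theorem xzn11 : CL.Std.PS43.P.netsB xns (mkDefs xws 12) = true := by decide +kernel

section
variable {G X : Type*} [Group G] [MulAction G X] {e : ℕ → X} {gs : List G}

theorem xlen {k} (c : Ctx CL.Std.PS43.P e gs CL.Std.PS43.ns CL.Std.PS43.D k) : gs.length = 12 := c.len xze10

theorem xctx0 {k} (c : Ctx CL.Std.PS43.P e gs CL.Std.PS43.ns CL.Std.PS43.D k) : Ctx CL.Std.PS43.P e (ext gs xws) xns xD chk0 :=
  c.ext rfl xze10 xzn11

theorem xctx {k} (c : Ctx CL.Std.PS43.P e gs CL.Std.PS43.ns CL.Std.PS43.D k) {H : Subgroup G} (hF : Faithful e CL.Std.PS43.P.n H) (hH : ∀ g ∈ gs, g ∈ H) :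
    Ctx CL.Std.PS43.P e (ext gs xws) xns xD xchk :=
  (xctx0 c).withB hF (mem_of_mem_ext hH _)

theorem xiso_r {Γ Y : Type*} [Group Γ] [MulAction Γ Y] {e' : ℕ → Y} {cs : List Γ} {D₁ D₂ : List (ℕ × List ℕ)}
    {k₁ k₂ : List (List ℕ × List ℕ) → Bool} (c : Ctx CL.Std.PS43.P e gs CL.U6Iso.xns D₁ k₁) (c' : Ctx CL.Std.U42.P e' cs CL.Std.U42.ns D₂ k₂)
    (hF : Faithful e' CL.Std.U42.P.n (subW cs [[0], [2]])) :
    RelLe gs [[24], [26]] cs [[0], [2]] :=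
  c.relLe (K := xzK1) c' hF xzl2 (fun (t : ℕ) (ht : t < 1) => match t, ht with
    | 0, _ => xzl3
    | t + 1, h => absurd h (by omega))

theorem xiso_e (c : Ctx CL.Std.PS43.P e gs xns xD xchk) :
    subW gs (app [[24], [26]] []) = (subW gs [[0], [2]]) :=
  le_antisymm (c.le_of_rels (ws := [[24], [26]]) (l := [[0], [2]]) (c.rels _ xzr9) xzm8) (c.le_of_rels (ws := [[0], [2]]) (l := [[24], [26]]) (c.rels _ xzr6) xzm5)

theorem xiso (c : Ctx CL.Std.PS43.P e gs xns xD xchk) (hU : UB (subW gs [[0], [2]]) 25920) :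
    Nonempty ((subW gs [[0], [2]]) ≃* (subW CL.Std.U42.gs1 [[0], [2]])) :=
  (RelLe.quo' (l := [[24], [26]]) (lQ := []) (xiso_r c CL.Std.U42.c1 ((faithful_eF _).mono le_top)) (by decide) (xiso_e c) (a := 1) (b := 25920) hU
    (LB.one _) (LB.of_card CL.Std.U42.card)).equiv_nil

end

/-- The exceptional isomorphism `U₄(2) ≅ PSp₄(3)`. -/
theorem psu_psp {F K : Type*} [Field F] [Fintype F] [Field K] [Fintype K] (hF : Fintype.card F = 4)
    (hK : Fintype.card K = 3) : Nonempty (Cfsg.PSU 4 F 2 ≃* Cfsg.PSp 2 K) := by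
  have c := xctx CL.Std.PS43.c1 (faithful_eF _) fun _ _ => trivial
  have h := subW_ext (xlen CL.Std.PS43.c1) xws (l := [[0], [2]]) (by decide +kernel)
  have hU := h ▸ CL.Std.PS43.ub
  have e1 := CL.Std.PS43.iso hK
  rw [← h] at e1
  exact ⟨((CL.Std.U42.iso hF).some.symm.trans (xiso c hU).some.symm).trans e1.some⟩

end CL.U6Iso
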