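import Cfsg.Agent.Spor.TCSound

/-! coset enumeration certificate generated by tools/tc -/

set_option maxRecDepth 100000
set_option autoImplicit false
set_option linter.all false

namespace CL.TC.Fi22E

noncomputable def rows0 : Tr ℕ := (.node (nat_lit 1) (.leaf (nat_lit 0xec621dcc3ff28977310ef021fc43423b987f6710ea61fe0c3fc407ff10c08eee1dda03bf885f650ef8623dd83907ba06f940cfca23e2037f885fe3101bf0819e1c37b2067980cfe215f8c3c6fc305fb50afca1dfc427f186f850b2ef2c15e9c2fbc057f108fc619e5428bbf883fd608eee13f902fcb04f970967fe20bf1c27eb837e40af4c11e9c219ff284ff105f0c0fe5c1fd383fa80754fe209e181be28478606f6c0dedc199ff2847e707fe209e9417da82fb60541fca0de5413f282ff103f8809f1410bbca01fa403f6807f9013f8817d4031bf4605ecc0be1817d302fc607fc40423d900fc201fa403f8807f900fe30200)) (.leaf (nat_lit 0x3940dff11adec37c9c6f8b8df081b54e6e35f9c6ff88cf351ae4a35c586907a30cf0519fca35fc4639a0cf25192efe22dc5863a38c7e419fac2fcdc619ff88a72617eae2fd185fe18c7971567fca31c905baa0b75816fe229d10586ff889f3615ece2bd5857a30af831767fca2fcd453b40a7f112fc62ded44cbbf28af4513ef027fc447aa09fa3142eeae25d204bf8887e414eca25f584507b388f5811fe21bf904fea877c31241)))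
noncomputable def recs0 : Tr ℕ := (.leaf (nat_lit 0x16701670154015401410141012e012e011b011b))
noncomputable def rows : Tr ℕ := rows0
noncomputable def recs : Tr ℕ := recs0
noncomputable def ci0 : CI := ⟨[], (nat_lit 0), false, (.node (nat_lit 1) (.leaf Rule.defn) (.leaf Rule.copy)), (.leaf (XRule.rot (nat_lit 0) [] 30 0))⟩
noncomputable def ci8 : CI := ⟨[0], (nat_lit 8), false, (.node (nat_lit 4) (.node (nat_lit 2) (.node (nat_lit 1) (.leaf Rule.defn) (.leaf Rule.copy)) (.node (nat_lit 1) (.leaf (Rule.fwd [nat_lit 8] 30 0)) (.leaf (Rule.fwd [nat_lit 27, nat_lit 8, nat_lit 27, nat_lit 8, nat_lit 27] 0 0)))) (.node (nat_lit 2) (.node (nat_lit 1) (.leaf (Rule.fwd [nat_lit 46, nat_lit 8, nat_lit 46] 2 0)) (.leaf (Rule.fwd [nat_lit 65, nat_lit 8, nat_lit 65] 4 0))) (.node (nat_lit 1) (.leaf (Rule.fwd [nat_lit 103, nat_lit 8, nat_lit 103] 6 0)) (.leaf (Rule.fwd [nat_lit 84, nat_lit 8, nat_lit 84] 8 0))))), (.node (nat_lit 1)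 (.leaf XRule.defn) (.leaf XRule.defn))⟩
noncomputable def ci27 : CI := ⟨[1], (nat_lit 27), true, (.node (nat_lit 4) (.node (nat_lit 2) (.node (nat_lit 1) (.leaf Rule.defn) (.leaf Rule.copy)) (.node (nat_lit 1) (.leaf (Rule.fwd [nat_lit 27] 30 0)) (.leaf (Rule.fwd [nat_lit 46, nat_lit 27, nat_lit 46, nat_lit 27, nat_lit 46] 10 0)))) (.node (nat_lit 2) (.node (nat_lit 1) (.leaf (Rule.fwd [nat_lit 65, nat_lit 27, nat_lit 65] 12 0)) (.leaf (Rule.fwd [nat_lit 103, nat_lit 27, nat_lit 103] 14 0))) (.node (nat_lit 1) (.leaf (Rule.fwd [nat_lit 84, nat_lit 27, nat_lit 84] 16 0)) (.leaf (Rule.fwd [nat_lit 8, nat_lit 27, nat_lit 8, nat_lit 27, nat_lit 8] 0 1))))), (.node (nat_lit 1) (.leaf XRule.defn) (.leaf XRule.ax))⟩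
noncomputable def ci46 : CI := ⟨[2], (nat_lit 46), true, (.node (nat_lit 4) (.node (nat_lit 2) (.node (nat_lit 1) (.leaf Rule.defn) (.leaf Rule.copy)) (.node (nat_lit 1) (.leaf (Rule.fwd [nat_lit 8, nat_lit 46, nat_lit 8] 2 1)) (.leaf (Rule.fwd [nat_lit 46] 30 0)))) (.node (nat_lit 2) (.node (nat_lit 1) (.leaf (Rule.fwd [nat_lit 65, nat_lit 46, nat_lit 65, nat_lit 46, nat_lit 65] 18 0)) (.leaf (Rule.fwd [nat_lit 103, nat_lit 46, nat_lit 103, nat_lit 46, nat_lit 103] 20 0))) (.node (nat_lit 1) (.leaf (Rule.fwd [nat_lit 84, nat_lit 46, nat_lit 84] 22 0)) (.leaf (Rule.fwd [nat_lit 27, nat_lit 46, nat_lit 27, nat_lit 46, nat_lit 27] 10 1))))), (.node (nat_lit 1) (.leaf XRule.defn) (.leaf XRule.ax))⟩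
noncomputable def ci65 : CI := ⟨[3], (nat_lit 65), true, (.node (nat_lit 4) (.node (nat_lit 2) (.node (nat_lit 1) (.leaf Rule.defn) (.leaf Rule.copy)) (.node (nat_lit 1) (.leaf (Rule.fwd [nat_lit 8, nat_lit 65, nat_lit 8] 4 1)) (.leaf (Rule.fwd [nat_lit 27, nat_lit 65, nat_lit 27] 12 1)))) (.node (nat_lit 2) (.node (nat_lit 1) (.leaf (Rule.fwd [nat_lit 65] 30 0)) (.leaf (Rule.fwd [nat_lit 84, nat_lit 65, nat_lit 84, nat_lit 65, nat_lit 84] 26 0))) (.node (nat_lit 1) (.leaf (Rule.fwd [nat_lit 103, nat_lit 65, nat_lit 103] 24 0)) (.leaf (Rule.fwd [nat_lit 46, nat_lit 65, nat_lit 46, nat_lit 65, nat_lit 46] 18 1))))), (.node (nat_lit 1) (.leaf XRule.defn) (.leaf XRule.ax))⟩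
noncomputable def ci84 : CI := ⟨[4], (nat_lit 84), true, (.node (nat_lit 4) (.node (nat_lit 2) (.node (nat_lit 1) (.leaf Rule.defn) (.leaf Rule.copy)) (.node (nat_lit 1) (.leaf (Rule.fwd [nat_lit 8, nat_lit 84, nat_lit 8] 8 1)) (.leaf (Rule.fwd [nat_lit 27, nat_lit 84, nat_lit 27] 16 1)))) (.node (nat_lit 2) (.node (nat_lit 1) (.leaf (Rule.fwd [nat_lit 46, nat_lit 84, nat_lit 46] 22 1)) (.leaf (Rule.fwd [nat_lit 103, nat_lit 84, nat_lit 103] 28 1))) (.node (nat_lit 1) (.leaf (Rule.fwd [nat_lit 84] 30 0)) (.leaf (Rule.fwd [nat_lit 65, nat_lit 84, nat_lit 65, nat_lit 84, nat_lit 65] 26 1))))), (.node (nat_lit 1) (.leaf XRule.defn) (.leaf XRule.ax))⟩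
noncomputable def ci103 : CI := ⟨[5], (nat_lit 103), true, (.node (nat_lit 4) (.node (nat_lit 2) (.node (nat_lit 1) (.leaf Rule.defn) (.leaf Rule.copy)) (.node (nat_lit 1) (.leaf (Rule.fwd [nat_lit 8, nat_lit 103, nat_lit 8] 6 1)) (.leaf (Rule.fwd [nat_lit 27, nat_lit 103, nat_lit 27] 14 1)))) (.node (nat_lit 2) (.node (nat_lit 1) (.leaf (Rule.fwd [nat_lit 103] 30 0)) (.leaf (Rule.fwd [nat_lit 46, nat_lit 103, nat_lit 46, nat_lit 103, nat_lit 46] 20 1))) (.node (nat_lit 1) (.leaf (Rule.fwd [nat_lit 65, nat_lit 103, nat_lit 65] 24 1)) (.leaf (Rule.fwd [nat_lit 84, nat_lit 103, nat_lit 84] 28 0))))), (.node (nat_lit 1) (.leaf XRule.defn) (.leaf XRule.ax))⟩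
noncomputable def outer : Tr CI := (.node (nat_lit 1) (.node (nat_lit 4) (.node (nat_lit 8) (.leaf ci0) (.leaf ci8)) (.node (nat_lit 2) (.leaf ci84) (.leaf ci46))) (.node (nat_lit 2) (.leaf ci65) (.node (nat_lit 4) (.leaf ci27) (.leaf ci103))))
def cols : List ℕ := [nat_lit 8, nat_lit 27, nat_lit 46, nat_lit 65, nat_lit 84, nat_lit 103]
def invL : List ℕ := [0, 1, 2, 3, 4, 5]
def rels : List (List ℕ) := [[0, 1, 0, 1, 0, 1], [0, 2, 0, 2], [0, 3, 0, 3], [0, 5, 0, 5], [0, 4, 0, 4], [1, 2, 1, 2, 1, 2], [1, 3, 1, 3], [1, 5, 1, 5], [1, 4, 1, 4], [2, 3, 2, 3, 2, 3], [2, 5, 2, 5, 2, 5], [2, 4, 2, 4], [3, 5, 3, 5], [3, 4, 3, 4, 3, 4], [5, 4, 5, 4]]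
def subs : List (List ℕ) := [[1], [2], [3], [4], [5]]
noncomputable def row (n : ℕ) : ℕ := rowOf (fun h => rows.get h) (nat_lit 4) (nat_lit 15) (nat_lit 122) (nat_lit 0x3ffffffffffffffffffffffffffffff) n
noncomputable def xleaf (h : ℕ) : ℕ := recs.get h
noncomputable def mF : ℕ → ℕ := mainRow row (rowChk row xleaf outer (nat_lit 8) (nat_lit 255) (nat_lit 15) (nat_lit 12) (nat_lit 4095) (nat_lit 524287) (nat_lit 128) (nat_lit 27) (nat_lit 256) (nat_lit 8) (nat_lit 255) (nat_lit 16) (nat_lit 65535) (nat_lit 8) (nat_lit 255) cols)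
noncomputable def xF : ℕ → ℕ → ℕ := xLeaf row xleaf outer (nat_lit 255) (nat_lit 12) (nat_lit 524287) (nat_lit 128) (nat_lit 27) (nat_lit 8) (nat_lit 255) (nat_lit 16) (nat_lit 65535) (nat_lit 65280) (nat_lit 8) (nat_lit 255) (nat_lit 10) (nat_lit 1023) (nat_lit 2) (nat_lit 3) (nat_lit 103) (nat_lit 6912) (nat_lit 128)
noncomputable def cert : Cert := ⟨row, xleaf, outer, cols, nat_lit 8, nat_lit 255, nat_lit 15, nat_lit 12, nat_lit 4095, nat_lit 524287, nat_lit 128, nat_lit 27, nat_lit 256, nat_lit 8, nat_lit 255, nat_lit 16, nat_lit 65535, nat_lit 65280, nat_lit 8, nat_lit 255, nat_lit 10, nat_lit 1023, nat_lit 2, nat_lit 3, nat_lit 103, nat_lit 6912, nat_lit 128, nat_lit 19, nat_lit 128, nat_lit 1⟩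
theorem tabok : tabOK (fun i => invL.getD i i) rels subs outer cols (nat_lit 8) (nat_lit 103) = true := by decide +kernel
theorem m0 : rng mF (nat_lit 1) (nat_lit 27) = 0 := by decide +kernel
noncomputable def s0 : List ℕ := [nat_lit 0x401004010040000000000000000000000000000000000000000000000000000000000000000000000000000000000000000000000000000000000000000000000000000000000000000000000000000000000000000000000000000000000000000000000000000000000000000000000000000000000000000000000000000000000000000000000000000000000000000000000000000000000000000000]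
theorem x0 : xs xF s0 (nat_lit 1) = 0 := by decide +kernel
theorem mz0 : AllZ mF 1 (nat_lit 28) := (AllZ.step (AllZ.nil mF 1) (nat_lit 27) (nat_lit 28) rfl m0)
theorem xz0 : XZ xF (nat_lit 1) := (XZ.step (XZ.nil xF) s0 (nat_lit 1) (nat_lit 1) (by decide +kernel) x0)
/-- the certificate (27 points) is valid -/
theorem valid : cert.Valid (fun i => invL.getD i i) rels subs 6 :=
  ⟨by decide +kernel, tabok, by decide +kernel, mz0, xz0⟩
theorem cert_N : cert.N = 27 := rfl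

end CL.TC.Fi22E
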