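import Cfsg.Agent.Spor.TCSound

/-! coset enumeration certificate generated by tools/tc -/

set_option maxRecDepth 100000
set_option autoImplicit false
set_option linter.all false

namespace CL.TC.Fi22G

noncomputable def rows0 : Tr ℕ := (.node (nat_lit 4) (.node (nat_lit 2) (.node (nat_lit 1) (.leaf (nat_lit 0xfcc87f906fcc83e31e57f98ffe63df684ff20c1fe31cfe417f31df4c515ff209f98e7c637e989bdfcc6fe317fe413f31a33fc81fe633f602fc62cf7f318fe40ff317f8c555fe62df98afc61ffc8187fe40bf314f8c47ed057bf989ff205f9897d808aff311fcc43f902fcc3ccff203f9877c617f1843dfcc37f901fcc33e30757f985fe615fc80fe61267f308fcc1ff306fe4043fe60bf9827e607f98100)) (.leaf (nat_lit 0xfccdbec12fe443f33533fc87fe669ee0b7da22f7f333fe43ff332fb0415fa661e996ff21df99899fb03bf90dfccc3c32557fc867e65ff606fc65cf7f32ef4cabd323fe4303fc659fc85fe65be994abfe42bf32cf8cafd3287bf995fd819fc857e65467f909fcca7d31ffb42defe651fc84fe64ff6052bf8c97f908fcc9bdc0e57fc83fe64bf1927ba1af7f324f8c83f907fcc8ccff20df9917d811f18fbd)))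 (.node (nat_lit 1) (.leaf (nat_lit 0xf7477d346fe473f34733e9a17f237f9a37a68aaff91afcd17c339fb46defa687ee0eff233f9a219fb067f918fcd0fc33f57fc8bfe685f60c7c682f7f341f746bd33dfe45c3fc67ffc8b7e681ee0cabfe457f33ff8cfbdd187bf99f7a665fc8afe67a67d33bf4ce3f914fccf0cfd829fc89fe677e60e2bfe44bf33afb04fe3397bf99cfa66bee8d7f2241fe337fe447f338f4cd15ff221f99bfc66de999bd)) (.leaf (nat_lit 0xf4d57c34bfe4a7f35633f614ff251f9aaf9858aff927fcd53ec28f8d4defe6a7e1a47ba55fc9387f0d4bc34ff34c7f9260fee937a6a3fc92fe6a467d34dfe493f351f4d415ff247f9a87985df6923df4d3bdc26fe48bf34f33f6117f243f9a778694aff920fcd37ec21f8d31efe699ee91fa691fc9007f8d2bf91ffcd2fdc2257fc8f7e695f1a4fba42f7f349f709ff91efcd20cf868fe1a278679fc8e87)))) (.node (nat_lit 2) (.node (nat_lit 1) (.leaf (nat_lit 0xf0d83f939fcd8fdc3a57e1b179a79e1afff2701fdd38f4d87f937fcd88cfb875fc9b7e6c3e9b02bfe4d7f360f0d73ed367be9af79881fc9a7e6be67ec34fe4cff35ef30dd5ff265f9aefd867f1ae3dfcd73cd3df74d7f9320fe718f86b7d9a97f2601fc358f70c3f92ffcd6ccf86affc977e6b5ee17abf0d67cd31f0d5bf92d0fee96fa6b1fc967e6b267dc2ffe4aff358f4d5d5ff255f9abf86a7f695bd))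 (.leaf (nat_lit 0xf3143f94cfcdbbdc4d57e1b6f7aade6a7ff2961fdd4bf4db3f94afcdb4cf98a9fca4fe6d9e9b5abfe523f36bf3133ed497bd9b4f9a8fe1b57f28c1fb368ecd8ff945fcda8cf9c89e1b4f66cffca187f351bdc43fe50bf36933e622ff283f9b47b884afc367ecd7fcd44fe5003fba81e9b37f27ff9b399f0d77f93efcd9bd36557fc9efe6cbe620fda7cf7ce3cf0d93bd47fe4ec3f86c3ee1dff275f9b219))) (.node (nat_lit 1) (.leaf (nat_lit 0xe8ddbad6af3593f9630fdf3279ac5e1bb7f2c21fbd63ecdd3f960fcdd8cf9cbfe1baf7ac5fcaf07ef59bdc5efe577f37533de32ff2b9f9ba7b8baafa373e8dc3cd5bfe5683f7cb7e6acf86e7fcac07ef56bb371fe55ff37333e72b786e5deacff2aa1fb36cf7157f954fcdc8cf66d7fca9fe6e3ee2a2becdbfcd52f0dc3f9510fd9b7778b5fca87e6e067ce4ff0dbfb36dfe5383f9aa3ee277f29bf9b799)) (.leaf (nat_lit 0xe79dfad76f35d7f9740fc9bc75ae7e6b97f2e21fae70e8de3cd6ffe5b83f5ce5e6b6f86f1fcb607eb5c7bc6efe5aff37833d735746efe6b4ff2d01fa375f359fc377fe5983f46e9de347f2cbf9bb99)))))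
noncomputable def recs0 : Tr ℕ := (.leaf (nat_lit 0x0))
noncomputable def rows : Tr ℕ := rows0
noncomputable def recs : Tr ℕ := recs0
noncomputable def ci0 : CI := ⟨[], (nat_lit 0), false, (.node (nat_lit 1) (.leaf Rule.defn) (.leaf Rule.copy)), (.leaf (XRule.rot (nat_lit 0) [] 12 0))⟩
noncomputable def ci7 : CI := ⟨[0], (nat_lit 7), false, (.node (nat_lit 4) (.node (nat_lit 2) (.node (nat_lit 1) (.leaf Rule.defn) (.leaf Rule.copy)) (.node (nat_lit 1) (.leaf (Rule.fwd [nat_lit 7] 12 0)) (.leaf (Rule.fwd [nat_lit 43, nat_lit 7, nat_lit 43] 2 0)))) (.leaf (Rule.fwd [nat_lit 61, nat_lit 7, nat_lit 61] 4 0))), (.node (nat_lit 1) (.leaf XRule.defn) (.leaf XRule.defn))⟩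
noncomputable def ci25 : CI := ⟨[1], (nat_lit 25), false, (.node (nat_lit 4) (.node (nat_lit 2) (.node (nat_lit 1) (.leaf Rule.defn) (.leaf Rule.copy)) (.node (nat_lit 1) (.leaf (Rule.fwd [nat_lit 25] 12 0)) (.leaf (Rule.fwd [nat_lit 61, nat_lit 25, nat_lit 61] 8 0)))) (.leaf (Rule.fwd [nat_lit 7, nat_lit 25, nat_lit 7, nat_lit 25, nat_lit 7] 0 1))), (.node (nat_lit 1) (.leaf XRule.defn) (.leaf XRule.defn))⟩
noncomputable def ci43 : CI := ⟨[2], (nat_lit 43), false, (.node (nat_lit 4) (.node (nat_lit 2) (.node (nat_lit 1) (.leaf Rule.defn) (.leaf Rule.copy)) (.node (nat_lit 1) (.leaf (Rule.fwd [nat_lit 43] 12 0)) (.leaf (Rule.fwd [nat_lit 25, nat_lit 43, nat_lit 25, nat_lit 43, nat_lit 25] 6 1)))) (.leaf (Rule.fwd [nat_lit 7, nat_lit 43, nat_lit 7] 2 1))), (.node (nat_lit 1) (.leaf XRule.defn) (.leaf XRule.defn))⟩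
noncomputable def ci61 : CI := ⟨[3], (nat_lit 61), false, (.node (nat_lit 4) (.node (nat_lit 2) (.node (nat_lit 1) (.leaf Rule.defn) (.leaf Rule.copy)) (.node (nat_lit 1) (.leaf (Rule.fwd [nat_lit 61] 12 0)) (.leaf (Rule.fwd [nat_lit 43, nat_lit 61, nat_lit 43, nat_lit 61, nat_lit 43] 10 1)))) (.node (nat_lit 1) (.leaf (Rule.fwd [nat_lit 25, nat_lit 61, nat_lit 25] 8 1)) (.leaf (Rule.fwd [nat_lit 7, nat_lit 61, nat_lit 7] 4 1)))), (.node (nat_lit 1) (.leaf XRule.defn) (.leaf XRule.defn))⟩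
noncomputable def outer : Tr CI := (.node (nat_lit 2) (.node (nat_lit 1) (.leaf ci0) (.node (nat_lit 4) (.leaf ci25) (.leaf ci61))) (.node (nat_lit 4) (.leaf ci43) (.leaf ci7)))
def cols : List ℕ := [nat_lit 7, nat_lit 25, nat_lit 43, nat_lit 61]
def invL : List ℕ := [0, 1, 2, 3]
def rels : List (List ℕ) := [[0, 1, 0, 1, 0, 1], [0, 2, 0, 2], [0, 3, 0, 3], [1, 2, 1, 2, 1, 2], [1, 3, 1, 3], [2, 3, 2, 3, 2, 3]]
def subs : List (List ℕ) := []
noncomputable def row (n : ℕ) : ℕ := rowOf (fun h => rows.get h) (nat_lit 4) (nat_lit 15) (nat_lit 79) (nat_lit 0x7fffffffffffffffffff) n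
noncomputable def xleaf (h : ℕ) : ℕ := recs.get h
noncomputable def mF : ℕ → ℕ := mainRow row (rowChk row xleaf outer (nat_lit 8) (nat_lit 255) (nat_lit 7) (nat_lit 11) (nat_lit 2047) (nat_lit 262143) (nat_lit 128) (nat_lit 120) (nat_lit 256) (nat_lit 7) (nat_lit 127) (nat_lit 15) (nat_lit 32767) (nat_lit 8) (nat_lit 255) cols)
noncomputable def xF : ℕ → ℕ → ℕ := xLeaf row xleaf outer (nat_lit 255) (nat_lit 11) (nat_lit 262143) (nat_lit 128) (nat_lit 120) (nat_lit 7) (nat_lit 127) (nat_lit 15) (nat_lit 32767) (nat_lit 32640) (nat_lit 8) (nat_lit 255) (nat_lit 10) (nat_lit 1023) (nat_lit 2) (nat_lit 3) (nat_lit 61) (nat_lit 15360) (nat_lit 128)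
noncomputable def cert : Cert := ⟨row, xleaf, outer, cols, nat_lit 8, nat_lit 255, nat_lit 7, nat_lit 11, nat_lit 2047, nat_lit 262143, nat_lit 128, nat_lit 120, nat_lit 256, nat_lit 7, nat_lit 127, nat_lit 15, nat_lit 32767, nat_lit 32640, nat_lit 8, nat_lit 255, nat_lit 10, nat_lit 1023, nat_lit 2, nat_lit 3, nat_lit 61, nat_lit 15360, nat_lit 128, nat_lit 18, nat_lit 128, nat_lit 1⟩
theorem tabok : tabOK (fun i => invL.getD i i) rels subs outer cols (nat_lit 7) (nat_lit 61) = true := by decide +kernel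
theorem m0 : rng mF (nat_lit 1) (nat_lit 120) = 0 := by decide +kernel
noncomputable def s0 : List ℕ := [nat_lit 0x0]
theorem x0 : xs xF s0 (nat_lit 1) = 0 := by decide +kernel
theorem mz0 : AllZ mF 1 (nat_lit 121) := (AllZ.step (AllZ.nil mF 1) (nat_lit 120) (nat_lit 121) rfl m0)
theorem xz0 : XZ xF (nat_lit 1) := (XZ.step (XZ.nil xF) s0 (nat_lit 1) (nat_lit 1) (by decide +kernel) x0)
/-- the certificate (120 points) is valid -/
theorem valid : cert.Valid (fun i => invL.getD i i) rels subs 4 :=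
  ⟨by decide +kernel, tabok, by decide +kernel, mz0, xz0⟩
theorem cert_N : cert.N = 120 := rfl

end CL.TC.Fi22G
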