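import Cfsg.Agent.Spor.TCSound

/-! coset enumeration certificate generated by tools/tc -/

set_option maxRecDepth 100000
set_option autoImplicit false
set_option linter.all false

namespace CL.TC.Y331

noncomputable def rows0 : Tr ℕ := (.node (nat_lit 4) (.node (nat_lit 2) (.node (nat_lit 1) (.leaf (nat_lit 0xeee10e4c10e6a10fc815f6c0ee8c10fcc14fe20d08f0a0fe6a0ffc613fe20ce8a0ff1012e6a0ff140f58f0e0ee6c0ee8a0efc812f5210f6c0cfcc11fe20b08fe20ae700de8e0deee0dfb00beae0ded00dfca1094f2e0ce8c0ceaa0cfc80feac0cf500ee940cfe20908fe208e900beae0bf0e0bf920dfae09ef00bfca0e94fcc0de940aeb20af120afe208ed20aef20af120a44fe206eb009ece09f2e09ed009f900bfb007fca0c94fcc0beb208ed008f3008fd20afe206f0e08f300830fe205ed007eee07f4e07ef007f0e07f8c09eae0794fcc09ece06eec06f4c06eee06fd008fe205f4c061cfcc07eec05f0a05f6a05f0c05f2c05fcc06fe20408eca04f0a04f2804fe203f2a04f4a04f6a04fca0558ee803f2803fe202fc804f4803f6803f8803f88036cf0602fe201fc603f4602f6602f8602fa602fa60280f2401fc602f4401f6401f8401fa401fc401fe40100))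 (.leaf (nat_lit 0xfcc29dec20fc628e8a20eac1cf5026eb420fe21a08e8a1fdea1ffc627fe219e2a1ffaa1ae4a1ffca2658ea61efe217e341ee461ee9222ea618f0c25ea61e80ea81dfc625fe216e541de9221e281df6817f8a236cfcc24e0c1cfc623eaa1ce9220e2c1ced41cfe21608ea81bfc622fe215e541bee817e481bf4c21ea81b6ceaa1ae0a1afc621fe214eea16f901ffaa15fca2058eb219e1219e3019fc81fe5419fe214e6e19e901930ec618fe213e5418e6618e4618e901ee2618ec61880ec817fc61efe212e7417ed21bee813f4c1dec8176ceca16e2a16fc61dfe211ed21ae4a16faa12fca1c58eca15e2a15fc61bfe210f2a12e6a15f8c1aed41558ed014e2e14e4c14fc81af2e11fd019fe210eac141cee813fc618fe20fe9413e6813ed017e4813ee8136ceea12e4a12fc617fe20ef1215f2a0ff8c16ef41258ef011e4e11e6c11fc816f1214e7411fe20eecc111c))) (.node (nat_lit 1) (.leaf (nat_lit 0xfe226db030f863ce4e30df030f2e29f8c39e6e3094fcc3cfc63bfe226fc83ade82ff2828f8c38fa8276cfcc39dae2efc638e4c2edee2ee942efe226e2c2e1cfe223f8637fae24f8836e1234dee2de902de8e2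d94fcc37fe223df42cf8835e1233de62ce862cf662580fcc36fc635e882bfe223e1232dea2be8a2be342b58e662afe221df42ae062ae6625f1031f2622f4a3380fe220dd029f8634e6e29e7024f1030e9029e8e2994fcc34fc633fe220fc832e6823f102fe8828fa8216ce6827fc631fe21fe1427e0827f6821e2827f8a2f6cfcc30dcc26fc62fe6a26e0c26f6c20fcc2efe21f08e8625fe21de1425e2625e522ae0625f261ef4a2c80fe21cdf024f862de8e24e5229e0e24eb024eae2494fcc2dfc62cfe21cfc82be5228e0823ea823fa81d6ce8622fe21be1422e2622ea61ee2622f0c2ae862280e8821fc62afe21ae3421ea81df5027f681bf8a286c)) (.leaf (nat_lit 0xfcc4de6840fe235dd440d924ada840e4840de8406cfe233fb034dae3ff484bdf037e9049e503fe4e3f94fe232f864be4e3efae34df036e9048e503efca4c94fcc4bfe232fc64afa633de635e9047e463dde63d80fe22ff8649fae30f8848dd03ceee34f4c45e4e3c94fcc49fe22fdb43bf8847dc63bee633f4c44f663180fcc48fc647e483afe22fdca3aeea32f4c43df43a58fe22ed9039f8645e2e39dd039e6e39fb030fca4694fcc45fc644fe22efc843dc838e6838fa82fe08386cfe22cfb02ddce37f4841dd23fdce37e7037e6e3794fe22bf8641e6e36fae2ddd23edce36e7036fca4294fcc41fe22bfc640fa62cdd23ddc635e6635e063580fe228f863ffae29f883ee302ded03ce7034e6e3494fcc3ffe228dd433f883de262ced03be6633f662a80fcc3efc63de6832fe228e2a2bed03ae6a32e143258e4631fe227dd431de631de631f262ae0631f4a3b80))))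 (.node (nat_lit 2) (.node (nat_lit 1) (.leaf (nat_lit 0xd4e50fc65fe0a50dea50d8c50e2c50dd450fe24308df04ff065de2c4fe4c4fd525bfd05efe242e4c4f1cdee4ef6c42f465ce4a4ed525ad8c4efcc5dfe24108fe240e504dfae41dae4dd5259d8e4de304dfca5c94dee4cf465ae2a4ce4a4cdac42e5058fcc5bfe23e08fe23dfb03ef8659f6e3fdb041e5057e304bfca5a94fcc59e484afe23ddb44ada840e5056e284adc84a6cfe23bfb03cd8e49f4857db049eae3ff0c53e2e4994fe23af8657e2e48fae3cdb048eae3ef0c52fca5894fcc57fe23afc656fa63bda647ea63df0c51dc64780e0e46d6c46f4654fc855dac46e4c46e5446fe23908fe238f8653fae39f8852db045e4e45f703cfca5494fcc53fe238d9444f8851da644e4644f663bde64480fcc52fc651e2843fe238daa43e4a43f6a3afca5058e0e42f464ee4a42e6a42d924cdac42fcc4ffe23608fe235fb036f864df6e37d924bdae41e5041fca4e94)) (.leaf (nat_lit 0xfcc6be0860fe251d7460d6860e0860ee856f4a6a6cd265ffe250fc66adc65fd665fe065fda65ffa65180dd25eec669e105ee305ed145efe24fd8e5ee305e30dd05df2e4ff0667e2c5dd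1266fd069fe24ee2c5d1cdce5ce2c5cf6a4efc868d1265d6c5cfcc67fe24d08dd05bf0666e0c5be2c5bd6e4fd345bfe24ce2c5b1cdce5af6c4cf4665e2a5ad6c4ee1064fcc66fe24b08fe24ae3059fae4bd8e59d704de1063e1059fca6594dce58f4664e0a58e2a58d8c58e6c4cd5458fe24808fe247fb048f8663f6e49d9057e6e4becc61fca6494fcc63e2856fe247d9456d8856e684aecc60da8566cdea55d4a55d2855fe246d8a55e2a55e2a55e145558dee54f4662f6a46d4a54d8c54e2c54e3454fe24508fe244fb045d6e53f4861d9053e2e53f3049fca6294fe243f8661e0e52fae45d9052e2e52f3048d765294fcc61fe243fc660fa644d8651e2651f2647f8a5f80))) (.node (nat_lit 1) (.leaf (nat_lit 0xd8a70dea70e0870fe267c9273f9074faa68fca7558d926fdf26fef069fc874c946ffe267d4e6fdf06f30d8a6edea6ee086efe265cea68d9072f8c73d746e58d906ddee6df2c66fc873cee67cb46dfe265dec6d1cd8e6cdec6cf6a64fc872d4c6cdec65cd46cfe26308fe260df06bfae61d4e6bd506bdee6beb063cee6b94d086ade86afe25ffc871d486ade86ad886af68606cdb269ef25eec66fe1069cb469fe25dd6e69e106930daa68e0a68e2868fe25ccd26ed4a68f8c70d946858db067e0e67f2c5dfc870cd26dfd06ffe25ce0c671cdb066f2e5bf066de0c66d2e5dcd466fe25ae0c661cdae65e0c65f6a5afc86ed2c5cdd06cfcc6dfe25908dae64f6c58f466ce0a64d6c64e2c5acf464fe25708fe256e1063fae57d6e63d7063e2e59e8c6bfca6c94dce62f6c54d4a62cea62d6c62e0c62e1462fe25308fe251fb052f866bf6e53d7061e0e61ef057d0e6194))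 (.leaf (nat_lit 0xc8680fe27fd1480d2680b8680ca680cc680d268080ca87ffc680fe27ed547fba87fcc87fce87fd487f6ccca7ed2a7efc67ffe27dbca7ecea7ed0a7ed747e58cee7dd4c7dd6a7dfc87ebec7dd0c7dd347dfe27c08fe27ad707cd8e7cd8e7cc107cd2e7cfb07bfca7d94fe277d907bdae7bdae7bc307bf2e78f8c7cd4e7b94fcc7cd8e7adac7adac7ac2e7ad547afe277d0c7a1cfe276d9079dae79dae79c3078c4e79d3079d4e7994fe275db078dce78dce78c1279f107bd5078d6e7894fcc7bdac77dca77dca77c4c77f6c75fcc7afe27408fcc79dac76dca76dca76c6c75c6c76d5476fe27308fcc78dcc75dea75dea75c5276f5077d7475fe27008d6a74dca74de874fe26fc6a74faa70d2a74fca7758d6a73dca73de873fe26dcaa70c8a73faa6efca7658d6a72dca72de872fe26cd2a72daa6ecaa72d547258cea71dca71da871fe26ad2a71dca71d6a71d547158)))))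
noncomputable def recs0 : Tr ℕ := (.leaf (nat_lit 0x328019400b6005b002b0015800a20051002600130008e0047002100108))
noncomputable def rows : Tr ℕ := rows0
noncomputable def recs : Tr ℕ := recs0
noncomputable def ci0 : CI := ⟨[], (nat_lit 0), false, (.node (nat_lit 1) (.leaf Rule.defn) (.leaf Rule.copy)), (.leaf (XRule.rot (nat_lit 0) [] 58 0))⟩
noncomputable def ci8 : CI := ⟨[0], (nat_lit 8), true, (.node (nat_lit 8) (.node (nat_lit 4) (.node (nat_lit 2) (.node (nat_lit 1) (.leaf Rule.defn) (.leaf Rule.copy)) (.node (nat_lit 1) (.leaf (Rule.fwd [nat_lit 128, nat_lit 8, nat_lit 128] 12 0)) (.leaf (Rule.fwd [nat_lit 108, nat_lit 8, nat_lit 108] 10 0)))) (.node (nat_lit 2) (.node (nat_lit 1) (.leaf (Rule.fwd [nat_lit 8] 58 0)) (.leaf (Rule.fwd [nat_lit 28, nat_lit 8, nat_lit 28, nat_lit 8, nat_lit 28] 0 0))) (.node (nat_lit 1) (.leaf (Rule.fwd [nat_lit 148, nat_lit 8, nat_lit 148, nat_lit 8,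 nat_lit 148] 4 0)) (.leaf (Rule.fwd [nat_lit 48, nat_lit 8, nat_lit 48] 6 0))))) (.node (nat_lit 2) (.node (nat_lit 1) (.leaf (Rule.fwd [nat_lit 68, nat_lit 8, nat_lit 68] 8 0)) (.leaf (Rule.fwd [nat_lit 88, nat_lit 8, nat_lit 88, nat_lit 8, nat_lit 88] 2 0))) (.leaf (Rule.fwd [nat_lit 28, nat_lit 88, nat_lit 148, nat_lit 48, nat_lit 108, nat_lit 68, nat_lit 8, nat_lit 28, nat_lit 88, nat_lit 148, nat_lit 48, nat_lit 108, nat_lit 68, nat_lit 8, nat_lit 28, nat_lit 88, nat_lit 148, nat_lit 48, nat_lit 108, nat_lit 68, nat_lit 8, nat_lit 28, nat_lit 88, nat_lit 148, nat_lit 48, nat_lit 108, nat_lit 68, nat_lit 128, nat_lit 68, nat_lit 108, nat_lit 48, nat_lit 148, nat_lit 88, nat_lit 28, nat_lit 8, nat_lit 68, nat_lit 108, nat_lit 48, nat_lit 148, nat_lit 88, nat_lit 28, nat_lit 8, nat_lit 68, nat_lit 108, nat_lit 48, nat_lit 148, nat_lit 88, nat_lit 28, nat_lit 8, nat_lit 68, nat_lit 108,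 nat_lit 48, nat_lit 148, nat_lit 88, nat_lit 28, nat_lit 8, nat_lit 68, nat_lit 108, nat_lit 48, nat_lit 148, nat_lit 88, nat_lit 28, nat_lit 8, nat_lit 68, nat_lit 108, nat_lit 48, nat_lit 148, nat_lit 88, nat_lit 28, nat_lit 8, nat_lit 68, nat_lit 108, nat_lit 48, nat_lit 148, nat_lit 88, nat_lit 28, nat_lit 8, nat_lit 68, nat_lit 108, nat_lit 48, nat_lit 148, nat_lit 88, nat_lit 28, nat_lit 8, nat_lit 68, nat_lit 108, nat_lit 48, nat_lit 148, nat_lit 88, nat_lit 28, nat_lit 8, nat_lit 128, nat_lit 8, nat_lit 28, nat_lit 88, nat_lit 148, nat_lit 48, nat_lit 108, nat_lit 68, nat_lit 8, nat_lit 28, nat_lit 88, nat_lit 148, nat_lit 48, nat_lit 108, nat_lit 68, nat_lit 8, nat_lit 28, nat_lit 88, nat_lit 148, nat_lit 48, nat_lit 108, nat_lit 68, nat_lit 8, nat_lit 28, nat_lit 88, nat_lit 148, nat_lit 48, nat_lit 108, nat_lit 68, nat_lit 8, nat_lit 28, nat_lit 88, nat_lit 148, nat_lit 48,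 nat_lit 108, nat_lit 68] 56 35)))), (.node (nat_lit 1) (.leaf XRule.defn) (.leaf XRule.ax))⟩
noncomputable def ci28 : CI := ⟨[1], (nat_lit 28), true, (.node (nat_lit 8) (.node (nat_lit 4) (.node (nat_lit 2) (.node (nat_lit 1) (.leaf Rule.defn) (.leaf Rule.copy)) (.node (nat_lit 1) (.leaf (Rule.fwd [nat_lit 128, nat_lit 28, nat_lit 128] 24 0)) (.leaf (Rule.fwd [nat_lit 108, nat_lit 28, nat_lit 108] 22 0)))) (.node (nat_lit 2) (.node (nat_lit 1) (.leaf (Rule.fwd [nat_lit 88, nat_lit 28, nat_lit 88] 14 0)) (.leaf (Rule.fwd [nat_lit 28] 58 0))) (.node (nat_lit 1) (.leaf (Rule.fwd [nat_lit 48, nat_lit 28, nat_lit 48, nat_lit 28, nat_lit 48] 18 0)) (.leaf (Rule.fwd [nat_lit 148, nat_lit 28, nat_lit 148] 16 0))))) (.node (nat_lit 1) (.leaf (Rule.fwd [nat_lit 68, nat_lit 28, nat_lit 68] 20 0)) (.leaf (Rule.fwd [nat_lit 8, nat_lit 28, nat_lit 8, nat_lit 28, nat_lit 8] 0 1)))), (.node (nat_lit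 1) (.leaf XRule.defn) (.leaf XRule.ax))⟩
noncomputable def ci48 : CI := ⟨[2], (nat_lit 48), true, (.node (nat_lit 8) (.node (nat_lit 4) (.node (nat_lit 2) (.node (nat_lit 1) (.leaf Rule.defn) (.leaf Rule.copy)) (.node (nat_lit 1) (.leaf (Rule.fwd [nat_lit 128, nat_lit 48, nat_lit 128] 48 0)) (.leaf (Rule.fwd [nat_lit 108, nat_lit 48, nat_lit 108] 46 0)))) (.node (nat_lit 2) (.node (nat_lit 1) (.leaf (Rule.fwd [nat_lit 88, nat_lit 48, nat_lit 88] 28 1)) (.leaf (Rule.fwd [nat_lit 8, nat_lit 48, nat_lit 8] 6 1))) (.node (nat_lit 1) (.leaf (Rule.fwd [nat_lit 148, nat_lit 48, nat_lit 148] 36 1)) (.leaf (Rule.fwd [nat_lit 48] 58 0))))) (.node (nat_lit 1) (.leaf (Rule.fwd [nat_lit 68, nat_lit 48, nat_lit 68, nat_lit 48, nat_lit 68] 44 0)) (.leaf (Rule.fwd [nat_lit 28, nat_lit 48, nat_lit 28, nat_lit 48, nat_lit 28] 18 1)))), (.node (nat_lit 1) (.leaf XRule.defn) (.leaf XRule.ax))⟩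
noncomputable def ci68 : CI := ⟨[3], (nat_lit 68), true, (.node (nat_lit 8) (.node (nat_lit 4) (.node (nat_lit 2) (.node (nat_lit 1) (.leaf Rule.defn) (.leaf Rule.copy)) (.node (nat_lit 1) (.leaf (Rule.fwd [nat_lit 128, nat_lit 68, nat_lit 128] 52 0)) (.leaf (Rule.fwd [nat_lit 108, nat_lit 68, nat_lit 108] 50 0)))) (.node (nat_lit 2) (.node (nat_lit 1) (.leaf (Rule.fwd [nat_lit 88, nat_lit 68, nat_lit 88] 30 1)) (.leaf (Rule.fwd [nat_lit 8, nat_lit 68, nat_lit 8] 8 1))) (.node (nat_lit 1) (.leaf (Rule.fwd [nat_lit 28, nat_lit 68, nat_lit 28] 20 1)) (.leaf (Rule.fwd [nat_lit 148, nat_lit 68, nat_lit 148] 38 1))))) (.node (nat_lit 1) (.leaf (Rule.fwd [nat_lit 68] 58 0)) (.leaf (Rule.fwd [nat_lit 48, nat_lit 68, nat_lit 48, nat_lit 68, nat_lit 48] 44 1)))), (.node (nat_lit 1) (.leaf XRule.defn) (.leaf XRule.ax))⟩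
noncomputable def ci88 : CI := ⟨[4], (nat_lit 88), true, (.node (nat_lit 8) (.node (nat_lit 4) (.node (nat_lit 2) (.node (nat_lit 1) (.leaf Rule.defn) (.leaf Rule.copy)) (.node (nat_lit 1) (.leaf (Rule.fwd [nat_lit 128, nat_lit 88, nat_lit 128] 34 0)) (.leaf (Rule.fwd [nat_lit 88] 58 0)))) (.node (nat_lit 2) (.node (nat_lit 1) (.leaf (Rule.fwd [nat_lit 8, nat_lit 88, nat_lit 8, nat_lit 88, nat_lit 8] 2 1)) (.leaf (Rule.fwd [nat_lit 28, nat_lit 88, nat_lit 28] 14 1))) (.node (nat_lit 1) (.leaf (Rule.fwd [nat_lit 148, nat_lit 88, nat_lit 148] 26 0)) (.leaf (Rule.fwd [nat_lit 48, nat_lit 88, nat_lit 48] 28 0))))) (.node (nat_lit 1) (.leaf (Rule.fwd [nat_lit 68, nat_lit 88, nat_lit 68] 30 0)) (.leaf (Rule.fwd [nat_lit 108, nat_lit 88, nat_lit 108, nat_lit 88, nat_lit 108] 32 0)))), (.node (nat_lit 1) (.leaf XRule.defn) (.leaf XRule.ax))⟩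
noncomputable def ci108 : CI := ⟨[5], (nat_lit 108), true, (.node (nat_lit 8) (.node (nat_lit 4) (.node (nat_lit 2) (.node (nat_lit 1) (.leaf Rule.defn) (.leaf Rule.copy)) (.node (nat_lit 1) (.leaf (Rule.fwd [nat_lit 108] 58 0)) (.leaf (Rule.fwd [nat_lit 88, nat_lit 108, nat_lit 88, nat_lit 108, nat_lit 88] 32 1)))) (.node (nat_lit 2) (.node (nat_lit 1) (.leaf (Rule.fwd [nat_lit 8, nat_lit 108, nat_lit 8] 10 1)) (.leaf (Rule.fwd [nat_lit 28, nat_lit 108, nat_lit 28] 22 1))) (.node (nat_lit 1) (.leaf (Rule.fwd [nat_lit 148, nat_lit 108, nat_lit 148] 40 1)) (.leaf (Rule.fwd [nat_lit 48, nat_lit 108, nat_lit 48] 46 1))))) (.node (nat_lit 1) (.leaf (Rule.fwd [nat_lit 68, nat_lit 108, nat_lit 68] 50 1)) (.leaf (Rule.fwd [nat_lit 128, nat_lit 108, nat_lit 128, nat_lit 108, nat_lit 128] 54 0)))), (.node (nat_lit 1) (.leaf XRule.defn) (.leaf XRule.ax))⟩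
noncomputable def ci128 : CI := ⟨[6], (nat_lit 128), false, (.node (nat_lit 8) (.node (nat_lit 4) (.node (nat_lit 2) (.node (nat_lit 1) (.leaf Rule.defn) (.leaf Rule.copy)) (.node (nat_lit 1) (.leaf (Rule.fwd [nat_lit 128] 58 0)) (.leaf (Rule.fwd [nat_lit 108, nat_lit 128, nat_lit 108, nat_lit 128, nat_lit 108] 54 1)))) (.node (nat_lit 2) (.node (nat_lit 1) (.leaf (Rule.fwd [nat_lit 88, nat_lit 128, nat_lit 88] 34 1)) (.leaf (Rule.fwd [nat_lit 8, nat_lit 128, nat_lit 8] 12 1))) (.node (nat_lit 1) (.leaf (Rule.fwd [nat_lit 28, nat_lit 128, nat_lit 28] 24 1)) (.leaf (Rule.fwd [nat_lit 148, nat_lit 128, nat_lit 148] 42 1))))) (.node (nat_lit 1) (.leaf (Rule.fwd [nat_lit 48, nat_lit 128, nat_lit 48] 48 1)) (.leaf (Rule.fwd [nat_lit 68, nat_lit 128, nat_lit 68] 52 1)))), (.node (nat_lit 1) (.leaf XRule.defn) (.leaf XRule.defn))⟩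
noncomputable def ci148 : CI := ⟨[7], (nat_lit 148), true, (.node (nat_lit 8) (.node (nat_lit 4) (.node (nat_lit 2) (.node (nat_lit 1) (.leaf Rule.defn) (.leaf Rule.copy)) (.node (nat_lit 1) (.leaf (Rule.fwd [nat_lit 128, nat_lit 148, nat_lit 128] 42 0)) (.leaf (Rule.fwd [nat_lit 108, nat_lit 148, nat_lit 108] 40 0)))) (.node (nat_lit 2) (.node (nat_lit 1) (.leaf (Rule.fwd [nat_lit 88, nat_lit 148, nat_lit 88] 26 1)) (.leaf (Rule.fwd [nat_lit 148] 58 0))) (.node (nat_lit 1) (.leaf (Rule.fwd [nat_lit 8, nat_lit 148, nat_lit 8, nat_lit 148, nat_lit 8] 4 1)) (.leaf (Rule.fwd [nat_lit 28, nat_lit 148, nat_lit 28] 16 1))))) (.leaf (Rule.fwd [nat_lit 48, nat_lit 148, nat_lit 48] 36 0))), (.node (nat_lit 1) (.leaf XRule.defn) (.leaf XRule.ax))⟩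
noncomputable def outer : Tr CI := (.node (nat_lit 4) (.node (nat_lit 8) (.node (nat_lit 16) (.node (nat_lit 128) (.leaf ci0) (.leaf ci128)) (.leaf ci48)) (.node (nat_lit 16) (.leaf ci8) (.leaf ci88))) (.node (nat_lit 8) (.node (nat_lit 16) (.leaf ci68) (.leaf ci148)) (.node (nat_lit 16) (.leaf ci108) (.leaf ci28))))
def cols : List ℕ := [nat_lit 8, nat_lit 28, nat_lit 48, nat_lit 68, nat_lit 88, nat_lit 108, nat_lit 128, nat_lit 148]
def invL : List ℕ := [0, 1, 2, 3, 4, 5, 6, 7]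
def rels : List (List ℕ) := [[0, 1, 0, 1, 0, 1], [0, 4, 0, 4, 0, 4], [0, 7, 0, 7, 0, 7], [0, 2, 0, 2], [0, 3, 0, 3], [0, 5, 0, 5], [0, 6, 0, 6], [1, 4, 1, 4], [1, 7, 1, 7], [1, 2, 1, 2, 1, 2], [1, 3, 1, 3], [1, 5, 1, 5], [1, 6, 1, 6], [4, 7, 4, 7], [4, 2, 4, 2], [4, 3, 4, 3], [4, 5, 4, 5, 4, 5], [4, 6, 4, 6], [7, 2, 7, 2], [7, 3, 7, 3], [7, 5, 7, 5], [7, 6, 7, 6], [2, 3, 2, 3, 2, 3], [2, 5, 2, 5], [2, 6, 2, 6], [3, 5, 3, 5], [3, 6, 3, 6], [5, 6, 5, 6, 5, 6], [0, 1, 4, 7, 2, 5, 3, 0, 1, 4, 7, 2, 5, 3, 0, 1, 4, 7, 2, 5, 3, 0, 1, 4, 7, 2, 5, 3, 0, 1, 4, 7, 2, 5, 3, 0, 1, 4, 7, 2, 5, 3, 0, 1, 4, 7, 2, 5, 3, 0, 1, 4, 7, 2, 5, 3, 0, 1, 4, 7, 2, 5, 3, 6, 3, 5, 2, 7, 4, 1, 0, 3, 5, 2, 7, 4, 1, 0, 3, 5, 2, 7, 4, 1, 0, 3, 5, 2, 7, 4, 1, 0, 3, 5, 2, 7, 4, 1, 0, 3, 5, 2, 7, 4, 1, 0, 3, 5, 2, 7, 4, 1, 0, 3, 5, 2, 7, 4, 1, 0, 3, 5, 2, 7, 4, 1, 0, 6]]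
def subs : List (List ℕ) := [[0], [1], [2], [3], [4], [5], [7]]
noncomputable def row (n : ℕ) : ℕ := rowOf (fun h => rows.get h) (nat_lit 4) (nat_lit 15) (nat_lit 168) (nat_lit 0xffffffffffffffffffffffffffffffffffffffffff) n
noncomputable def xleaf (h : ℕ) : ℕ := recs.get h
noncomputable def mF : ℕ → ℕ := mainRow row (rowChk row xleaf outer (nat_lit 9) (nat_lit 511) (nat_lit 15) (nat_lit 13) (nat_lit 8191) (nat_lit 1048575) (nat_lit 128) (nat_lit 128) (nat_lit 256) (nat_lit 8) (nat_lit 255) (nat_lit 17) (nat_lit 131071) (nat_lit 8) (nat_lit 255) cols)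
noncomputable def xF : ℕ → ℕ → ℕ := xLeaf row xleaf outer (nat_lit 511) (nat_lit 13) (nat_lit 1048575) (nat_lit 128) (nat_lit 128) (nat_lit 8) (nat_lit 255) (nat_lit 17) (nat_lit 131071) (nat_lit 130816) (nat_lit 8) (nat_lit 255) (nat_lit 10) (nat_lit 1023) (nat_lit 2) (nat_lit 3) (nat_lit 148) (nat_lit 32768) (nat_lit 128)
noncomputable def cert : Cert := ⟨row, xleaf, outer, cols, nat_lit 9, nat_lit 511, nat_lit 15, nat_lit 13, nat_lit 8191, nat_lit 1048575, nat_lit 128, nat_lit 128, nat_lit 256, nat_lit 8, nat_lit 255, nat_lit 17, nat_lit 131071, nat_lit 130816, nat_lit 8, nat_lit 255, nat_lit 10, nat_lit 1023, nat_lit 2, nat_lit 3, nat_lit 148, nat_lit 32768, nat_lit 128, nat_lit 20, nat_lit 128, nat_lit 1⟩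
theorem tabok : tabOK (fun i => invL.getD i i) rels subs outer cols (nat_lit 8) (nat_lit 148) = true := by decide +kernel
theorem m0 : rng mF (nat_lit 1) (nat_lit 128) = 0 := by decide +kernel
noncomputable def s0 : List ℕ := [nat_lit 0x401004010040100400000000000000000000000000000000000000000000000000000000000000000000000000000000000000000000000000000000000000000000000000000000000000000000000000000000000000000000000000000000000000000000000000000000000000000000000000000000000000000000000000000000000000000000000000000000000000000000000000000000000000]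
theorem x0 : xs xF s0 (nat_lit 1) = 0 := by decide +kernel
theorem mz0 : AllZ mF 1 (nat_lit 129) := (AllZ.step (AllZ.nil mF 1) (nat_lit 128) (nat_lit 129) rfl m0)
theorem xz0 : XZ xF (nat_lit 1) := (XZ.step (XZ.nil xF) s0 (nat_lit 1) (nat_lit 1) (by decide +kernel) x0)
/-- the certificate (128 points) is valid -/
theorem valid : cert.Valid (fun i => invL.getD i i) rels subs 8 :=
  ⟨by decide +kernel, tabok, by decide +kernel, mz0, xz0⟩
theorem cert_N : cert.N = 128 := rfl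

end CL.TC.Y331
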