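import Cfsg.Agent.Spor.TCSound

/-! coset enumeration certificate generated by tools/tc -/

set_option maxRecDepth 100000
set_option autoImplicit false
set_option linter.all false

namespace CL.TC.YE7

noncomputable def rows0 : Tr ℕ := (.node (nat_lit 2) (.node (nat_lit 1) (.leaf (nat_lit 0xea821da0479a087e313fe21bde443ba08177580fe921ffc433ab87f660ff8825d183d53aa877950dfcc25d543bf188ff10cef21c37d9437c4077450deca1bf8c43f885f890d1bece19ed82ff307f660ceea19f903bf885047770bf5019d642fbb05f850bfc81bfc42423f8847d709eb015de02bc3857870afca18f5fc41be4057d807f1013e5c27cb84fe50b7afcc15fc41bb38478908f3011e6023bc0433ff105ece0ff1827cc03fa707f4e0fd9c1debf304fe808fe20be5c1bd3037a606f0c0ca9f981fbb02fe606f4c0bed417da82ff10408eea09e1413ca827b504f8809fc40ff2828df8403f2807e900fe201ff102fc809f100cbbc9817a302f6605fc407f181fd302fa60483e8807d900fc201fc605f4807f100ff20100)) (.leaf (nat_lit 0xfcc47b9083921071420fe23bc64839210177f11bdee3fc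e07fb190f171ffae39f9489ebf88d6f71ee703de60738b8f7c421e2e3cf5f98877a8ef351df2a37f8c83f88d7391d1bfe231c1c73a40e7831ef2e33f107f938e3d7e61fe0a37d146fc18ef241bfe231d246c6ff30f7061ae9235ed863928d7e41dfe22e11fc45b8b8cf5819e5033e0c73938cf37197afcc39c5863ac8c7a31af6a2df906ff88a8472817e322ffc453eb8af3617e8c2ff946953f30cf2616ed22dcd85bd18c73516fe22411ce057948aff111f862ff584bab0afe51854e6629d4c4ff30bff111e9229d4c53a98a20f4313e9029c8c4ff88875913ec627d8c4d07a40973912fe21dd1c4be18afd60ffca2ca9d1047ba087e615fc629fc43bb488f64112e))) (.node (nat_lit 1) (.leaf (nat_lit 0xfcc67fc4bbf3196b930d9061ba0c3ec17b3ee92ffe259a9cbf6497ed82ff705bf14c19ff318fe830dd25db18bb6a976f52efe25811be4b7f8956b72ddb25bde0afd217ef82d67df059fa0bff894ed72cdcc59f58abf2972a7092bfe24fb1caf8c947632ddd057c20ad9f84157e82dfe24db9cabcb13fc42ce0c54a9c14a75a94fe62cdca53bd0a7f8936f9291be3251fc4976b947032bdd051be0a38c1433f1827fd057fc4939b92f832adec4fc589d538b936c626fcc55bd89bda927e429fe24611ca097f4147f122e464fbd8978312f262554e4e49b5893f313f5622f464dc1493f890847f120dae47c608f8411fd721e0e47f9499eb9b916e622fcc4bd0c93829171522fe23e11fc4777390f2821ef03ff0c8feb8f7e5247a))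 (.leaf (nat_lit 0xca671a0ce3499c7f137cd2719cce3499c20e6437d286fa90dff19c7f136d126fa90dcbb3a9b6a536d6a6d9d4dbf19bff135d726c37a1cd75b1aec935d0c6ba54d7f21b7f13408fe265b1cd3ec19e9834d4e69b1cd3f29abd7f130fae63f18d35419eb733dae67b5ccdebf31a6d932fe261a9ccb5b196d632d2c64a9fc4bbe419ed831d7063b1cc77398ee7317a))))
noncomputable def recs0 : Tr ℕ := (.leaf (nat_lit 0x17a017a0167016701540154012e012e011b011b01080108))
noncomputable def rows : Tr ℕ := rows0
noncomputable def recs : Tr ℕ := recs0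
noncomputable def ci0 : CI := ⟨[], (nat_lit 0), false, (.node (nat_lit 1) (.leaf Rule.defn) (.leaf Rule.copy)), (.leaf (XRule.rot (nat_lit 0) [] 42 0))⟩
noncomputable def ci8 : CI := ⟨[0], (nat_lit 8), true, (.node (nat_lit 8) (.node (nat_lit 4) (.node (nat_lit 2) (.node (nat_lit 1) (.leaf Rule.defn) (.leaf Rule.copy)) (.node (nat_lit 1) (.leaf (Rule.fwd [nat_lit 65, nat_lit 8, nat_lit 65] 8 0)) (.leaf (Rule.fwd [nat_lit 46, nat_lit 8, nat_lit 46] 6 0)))) (.node (nat_lit 2) (.node (nat_lit 1) (.leaf (Rule.fwd [nat_lit 8] 42 0)) (.leaf (Rule.fwd [nat_lit 84, nat_lit 8, nat_lit 84, nat_lit 8, nat_lit 84] 2 0))) (.node (nat_lit 1) (.leaf (Rule.fwd [nat_lit 122, nat_lit 8, nat_lit 122, nat_lit 8, nat_lit 122] 4 0)) (.leaf (Rule.fwd [nat_lit 103, nat_lit 8, nat_lit 103] 10 0))))) (.leaf (Rule.fwd [nat_lit 27, nat_lit 8, nat_lit 27, nat_lit 8, nat_lit 27] 0 0))), (.node (nat_lit 1) (.leaf XRule.defn) (.leaf XRule.ax))⟩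
noncomputable def ci27 : CI := ⟨[1], (nat_lit 27), true, (.node (nat_lit 8) (.node (nat_lit 4) (.node (nat_lit 2) (.node (nat_lit 1) (.leaf Rule.defn) (.leaf Rule.copy)) (.node (nat_lit 1) (.leaf (Rule.fwd [nat_lit 65, nat_lit 27, nat_lit 65] 18 0)) (.leaf (Rule.fwd [nat_lit 27] 42 0)))) (.node (nat_lit 2) (.node (nat_lit 1) (.leaf (Rule.fwd [nat_lit 8, nat_lit 27, nat_lit 8, nat_lit 27, nat_lit 8] 0 1)) (.leaf (Rule.fwd [nat_lit 84, nat_lit 27, nat_lit 84] 12 0))) (.node (nat_lit 1) (.leaf (Rule.fwd [nat_lit 122, nat_lit 27, nat_lit 122] 14 0)) (.leaf (Rule.fwd [nat_lit 103, nat_lit 27, nat_lit 103] 20 0))))) (.leaf (Rule.fwd [nat_lit 46, nat_lit 27, nat_lit 46, nat_lit 27, nat_lit 46] 16 0))), (.node (nat_lit 1) (.leaf XRule.defn) (.leaf XRule.ax))⟩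
noncomputable def ci46 : CI := ⟨[2], (nat_lit 46), true, (.node (nat_lit 8) (.node (nat_lit 4) (.node (nat_lit 2) (.node (nat_lit 1) (.leaf Rule.defn) (.leaf Rule.copy)) (.node (nat_lit 1) (.leaf (Rule.fwd [nat_lit 46] 42 0)) (.leaf (Rule.fwd [nat_lit 27, nat_lit 46, nat_lit 27, nat_lit 46, nat_lit 27] 16 1)))) (.node (nat_lit 2) (.node (nat_lit 1) (.leaf (Rule.fwd [nat_lit 8, nat_lit 46, nat_lit 8] 6 1)) (.leaf (Rule.fwd [nat_lit 84, nat_lit 46, nat_lit 84] 24 1))) (.node (nat_lit 1) (.leaf (Rule.fwd [nat_lit 122, nat_lit 46, nat_lit 122] 30 1)) (.leaf (Rule.fwd [nat_lit 103, nat_lit 46, nat_lit 103] 38 0))))) (.leaf (Rule.fwd [nat_lit 65, nat_lit 46, nat_lit 65, nat_lit 46, nat_lit 65] 36 0))), (.node (nat_lit 1) (.leaf XRule.defn) (.leaf XRule.ax))⟩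
noncomputable def ci65 : CI := ⟨[3], (nat_lit 65), false, (.node (nat_lit 8) (.node (nat_lit 4) (.node (nat_lit 2) (.node (nat_lit 1) (.leaf Rule.defn) (.leaf Rule.copy)) (.node (nat_lit 1) (.leaf (Rule.fwd [nat_lit 65] 42 0)) (.leaf (Rule.fwd [nat_lit 46, nat_lit 65, nat_lit 46, nat_lit 65, nat_lit 46] 36 1)))) (.node (nat_lit 2) (.node (nat_lit 1) (.leaf (Rule.fwd [nat_lit 27, nat_lit 65, nat_lit 27] 18 1)) (.leaf (Rule.fwd [nat_lit 8, nat_lit 65, nat_lit 8] 8 1))) (.node (nat_lit 1) (.leaf (Rule.fwd [nat_lit 84, nat_lit 65, nat_lit 84] 26 1)) (.leaf (Rule.fwd [nat_lit 122, nat_lit 65, nat_lit 122] 32 1))))) (.leaf (Rule.fwd [nat_lit 103, nat_lit 65, nat_lit 103] 40 0))), (.node (nat_lit 1) (.leaf XRule.defn) (.leaf XRule.defn))⟩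
noncomputable def ci84 : CI := ⟨[4], (nat_lit 84), true, (.node (nat_lit 8) (.node (nat_lit 4) (.node (nat_lit 2) (.node (nat_lit 1) (.leaf Rule.defn) (.leaf Rule.copy)) (.node (nat_lit 1) (.leaf (Rule.fwd [nat_lit 65, nat_lit 84, nat_lit 65] 26 0)) (.leaf (Rule.fwd [nat_lit 46, nat_lit 84, nat_lit 46] 24 0)))) (.node (nat_lit 2) (.node (nat_lit 1) (.leaf (Rule.fwd [nat_lit 27, nat_lit 84, nat_lit 27] 12 1)) (.leaf (Rule.fwd [nat_lit 84] 42 0))) (.node (nat_lit 1) (.leaf (Rule.fwd [nat_lit 103, nat_lit 84, nat_lit 103, nat_lit 84, nat_lit 103] 28 0)) (.leaf (Rule.fwd [nat_lit 122, nat_lit 84, nat_lit 122] 22 0))))) (.leaf (Rule.fwd [nat_lit 8, nat_lit 84, nat_lit 8, nat_lit 84, nat_lit 8] 2 1))), (.node (nat_lit 1) (.leaf XRule.defn) (.leaf XRule.ax))⟩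
noncomputable def ci103 : CI := ⟨[5], (nat_lit 103), true, (.node (nat_lit 8) (.node (nat_lit 4) (.node (nat_lit 2) (.node (nat_lit 1) (.leaf Rule.defn) (.leaf Rule.copy)) (.node (nat_lit 1) (.leaf (Rule.fwd [nat_lit 65, nat_lit 103, nat_lit 65] 40 1)) (.leaf (Rule.fwd [nat_lit 46, nat_lit 103, nat_lit 46] 38 1)))) (.node (nat_lit 2) (.node (nat_lit 1) (.leaf (Rule.fwd [nat_lit 27, nat_lit 103, nat_lit 27] 20 1)) (.leaf (Rule.fwd [nat_lit 8, nat_lit 103, nat_lit 8] 10 1))) (.node (nat_lit 1) (.leaf (Rule.fwd [nat_lit 122, nat_lit 103, nat_lit 122] 34 1)) (.leaf (Rule.fwd [nat_lit 103] 42 0))))) (.leaf (Rule.fwd [nat_lit 84, nat_lit 103, nat_lit 84, nat_lit 103, nat_lit 84] 28 1))), (.node (nat_lit 1) (.leaf XRule.defn) (.leaf XRule.ax))⟩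
noncomputable def ci122 : CI := ⟨[6], (nat_lit 122), true, (.node (nat_lit 8) (.node (nat_lit 4) (.node (nat_lit 2) (.node (nat_lit 1) (.leaf Rule.defn) (.leaf Rule.copy)) (.node (nat_lit 1) (.leaf (Rule.fwd [nat_lit 65, nat_lit 122, nat_lit 65] 32 0)) (.leaf (Rule.fwd [nat_lit 46, nat_lit 122, nat_lit 46] 30 0)))) (.node (nat_lit 2) (.node (nat_lit 1) (.leaf (Rule.fwd [nat_lit 27, nat_lit 122, nat_lit 27] 14 1)) (.leaf (Rule.fwd [nat_lit 122] 42 0))) (.node (nat_lit 1) (.leaf (Rule.fwd [nat_lit 8, nat_lit 122, nat_lit 8, nat_lit 122, nat_lit 8] 4 1)) (.leaf (Rule.fwd [nat_lit 84, nat_lit 122, nat_lit 84] 22 1))))) (.leaf (Rule.fwd [nat_lit 103, nat_lit 122, nat_lit 103] 34 0))), (.node (nat_lit 1) (.leaf XRule.defn) (.leaf XRule.ax))⟩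
noncomputable def outer : Tr CI := (.node (nat_lit 2) (.node (nat_lit 64) (.node (nat_lit 8) (.leaf ci0) (.leaf ci8)) (.node (nat_lit 1) (.leaf ci84) (.leaf ci65))) (.node (nat_lit 1) (.node (nat_lit 4) (.leaf ci122) (.leaf ci46)) (.node (nat_lit 4) (.leaf ci27) (.leaf ci103))))
def cols : List ℕ := [nat_lit 8, nat_lit 27, nat_lit 46, nat_lit 65, nat_lit 84, nat_lit 103, nat_lit 122]
def invL : List ℕ := [0, 1, 2, 3, 4, 5, 6]
def rels : List (List ℕ) := [[0, 1, 0, 1, 0, 1], [0, 4, 0, 4, 0, 4], [0, 6, 0, 6, 0, 6], [0, 2, 0, 2], [0, 3, 0, 3], [0, 5, 0, 5], [1, 4, 1, 4], [1, 6, 1, 6], [1, 2, 1, 2, 1, 2], [1, 3, 1, 3], [1, 5, 1, 5], [4, 6, 4, 6], [4, 2, 4, 2], [4, 3, 4, 3], [4, 5, 4, 5, 4, 5], [6, 2, 6, 2], [6, 3, 6, 3], [6, 5, 6, 5], [2, 3, 2, 3, 2, 3], [2, 5, 2, 5], [3, 5, 3, 5]]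
def subs : List (List ℕ) := [[0], [1], [2], [4], [5], [6]]
noncomputable def row (n : ℕ) : ℕ := rowOf (fun h => rows.get h) (nat_lit 4) (nat_lit 15) (nat_lit 141) (nat_lit 0x1fffffffffffffffffffffffffffffffffff) n
noncomputable def xleaf (h : ℕ) : ℕ := recs.get h
noncomputable def mF : ℕ → ℕ := mainRow row (rowChk row xleaf outer (nat_lit 8) (nat_lit 255) (nat_lit 15) (nat_lit 12) (nat_lit 4095) (nat_lit 524287) (nat_lit 128) (nat_lit 56) (nat_lit 256) (nat_lit 8) (nat_lit 255) (nat_lit 16) (nat_lit 65535) (nat_lit 8) (nat_lit 255) cols)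
noncomputable def xF : ℕ → ℕ → ℕ := xLeaf row xleaf outer (nat_lit 255) (nat_lit 12) (nat_lit 524287) (nat_lit 128) (nat_lit 56) (nat_lit 8) (nat_lit 255) (nat_lit 16) (nat_lit 65535) (nat_lit 65280) (nat_lit 8) (nat_lit 255) (nat_lit 10) (nat_lit 1023) (nat_lit 2) (nat_lit 3) (nat_lit 122) (nat_lit 14336) (nat_lit 128)
noncomputable def cert : Cert := ⟨row, xleaf, outer, cols, nat_lit 8, nat_lit 255, nat_lit 15, nat_lit 12, nat_lit 4095, nat_lit 524287, nat_lit 128, nat_lit 56, nat_lit 256, nat_lit 8, nat_lit 255, nat_lit 16, nat_lit 65535, nat_lit 65280, nat_lit 8, nat_lit 255, nat_lit 10, nat_lit 1023, nat_lit 2, nat_lit 3, nat_lit 122, nat_lit 14336, nat_lit 128, nat_lit 19, nat_lit 128, nat_lit 1⟩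
theorem tabok : tabOK (fun i => invL.getD i i) rels subs outer cols (nat_lit 8) (nat_lit 122) = true := by decide +kernel
theorem m0 : rng mF (nat_lit 1) (nat_lit 56) = 0 := by decide +kernel
noncomputable def s0 : List ℕ := [nat_lit 0x401004010040100000000000000000000000000000000000000000000000000000000000000000000000000000000000000000000000000000000000000000000000000000000000000000000000000000000000000000000000000000000000000000000000000000000000000000000000000000000000000000000000000000000000000000000000000000000000000000000000000000000000000000]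
theorem x0 : xs xF s0 (nat_lit 1) = 0 := by decide +kernel
theorem mz0 : AllZ mF 1 (nat_lit 57) := (AllZ.step (AllZ.nil mF 1) (nat_lit 56) (nat_lit 57) rfl m0)
theorem xz0 : XZ xF (nat_lit 1) := (XZ.step (XZ.nil xF) s0 (nat_lit 1) (nat_lit 1) (by decide +kernel) x0)
/-- the certificate (56 points) is valid -/
theorem valid : cert.Valid (fun i => invL.getD i i) rels subs 7 :=
  ⟨by decide +kernel, tabok, by decide +kernel, mz0, xz0⟩
theorem cert_N : cert.N = 56 := rfl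

end CL.TC.YE7
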