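/-
Project IN, job HG-LIR: the stabilizer of two minimal vectors with inner product `16` is irreducible on the section
of dimension `20` of the Leech lattice modulo `2`.
-/
import Cfsg.Agent.Spor.InH0

set_option autoImplicit false

namespace CL.IN

open Cfsg Cfsg.Spor CL.Mj CL.Spor CL.Spor.Leech CL.Spor.Mon

/-- a basis modulo `2`: two dual vectors, the two given vectors, twenty neighbours -/
def lirG : ℕ := 0x9be2f8be317c5ef8c6318c6318be319425084a1084a1084a1084212842529421084250842128425084a1284252942528425284210842128421084252942128421084a5284210942108425294a1284a10842108421084a5084252942108425084a10842108425094a5294a108421284250842108421284a5294a5084210942128421084210942529421094a5094250842108421084252a42108421084210a42108421084210a42108421084210852108421084210a42108421084210842908421084210a42108421084210842148421084210a4210842108421084210a421084210a42108421084210842108521084210a42108421084210842108429084210a42108421084210842108421484210a421084210842108421084210a4210a42108421084210842108421085210a42108421084210842108421084290a4210842108421084210842108421484a109421294a52842108421084250842128425294a50842108421084a12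

/-- the standard basis in terms of it -/
def lirS : ℕ := 0x806077416a5b27f5d8105b3c085520068a3302ec13011d0300c6c00051a3000002005c820010000008000004000002000001000000800000400000200000100000080000040031d0

theorem lirG_inL (c : Fin 24) : inL (rowZ lirG c) = true :=
  (allBelow_iff (fun j => inL (rowZ lirG j)) 24).1 (by decide +kernel) c c.2

def lirV (c : Fin 24) : leechLattice := lv _ (lirG_inL c)

def lirX (j i : ℕ) : ℤ :=
  rowZ basT j i - sumZ (fun c => if lirS.testBit (24 * j + c) then rowZ lirG c i else 0) 24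

theorem lirX_ok (j : Fin 24) : (allBelow (fun i => decide (lirX j i % 2 = 0)) 24 &&
    inL fun i => lirX j i / 2) = true :=
  (allBelow_iff (fun j => allBelow (fun i => decide (lirX j i % 2 = 0)) 24 && inL fun i => lirX j i / 2) 24).1
    (by decide +kernel) j j.2

theorem lir_gen {M : AddSubgroup leechLattice} (hd : ∀ v, Dbl v → v ∈ M) (hg : ∀ c, lirV c ∈ M) (w : leechLattice) :
    w ∈ M := by
  have hb : ∀ j, basL j ∈ M := fun j => by
    obtain ⟨h1, h2⟩ := Bool.and_eq_true_iff.1 (lirX_ok j)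
    have e : basL j = lv _ h2 + lv _ h2 + ∑ c : Fin 24, if lirS.testBit (24 * j + c) then lirV c else 0 :=
      Subtype.ext (funext fun p => by
        have h3 := of_decide_eq_true ((allBelow_iff _ _).1 h1 _ (gIdx_lt p))
        have h4 : ((∑ c : Fin 24, if lirS.testBit (24 * j + c) then lirV c else 0 : leechLattice) : GolayPt → ℤ) p =
            sumZ (fun c => if lirS.testBit (24 * j + c) then rowZ lirG c (gIdx p) else 0) 24 := by
          rw [sumZ_eq, ← Fin.sum_univ_eq_sum_range, AddSubgroup.val_finsetSum, Finset.sum_apply]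
          refine Finset.sum_congr rfl fun c _ => ?_
          split_ifs <;> rfl
        rw [AddSubgroup.coe_add, Pi.add_apply, h4]
        change rowZ basT j (gIdx p) = lirX j (gIdx p) / 2 + lirX j (gIdx p) / 2 + _
        unfold lirX at h3 ⊢
        omega)
    rw [e]
    refine M.add_mem (hd _ ⟨_, rfl⟩) (M.sum_mem fun c _ => ?_)
    split_ifs
    exacts [hg c, M.zero_mem]
  have h1 : lift2 (co w) ∈ M := M.sum_mem fun j _ => M.nsmul_mem (hb j) _
  simpa using M.add_mem (hd _ (co_eq_iff.1 (co_lift2 (co w)).symm)) h1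

/-- the vectors with inner product divisible by `16` -/
def lirP (w : leechLattice) : AddSubgroup leechLattice where
  carrier := {t | (16 : ℤ) ∣ dt w t}
  zero_mem' := by change (16 : ℤ) ∣ dotInt _ 0; rw [dot_zero_right]; exact dvd_zero _
  add_mem' := fun {a b} ha hb => by
    change (16 : ℤ) ∣ dotInt _ ((a : GolayPt → ℤ) + (b : GolayPt → ℤ)); rw [dot_add_right]; exact dvd_add ha hb
  neg_mem' := fun {a} ha => by change (16 : ℤ) ∣ dotInt _ (-(a : GolayPt → ℤ)); rw [dot_neg_right]; exact ha.neg_right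

theorem lir_uni {w : leechLattice} (h : ∀ c, (16 : ℤ) ∣ dt w (lirV c)) : Dbl w :=
  co_eq_zero.1 (funext fun k => by
    have : (16 : ℤ) ∣ dotInt (w : GolayPt → ℤ) (duaL k) :=
      lir_gen (M := lirP w) (fun v hv => show (16 : ℤ) ∣ dotInt _ _ from dot_comm (v : GolayPt → ℤ) w ▸ hv.dvd_dot w) h (duaL k)
    rw [co_apply, decide_eq_false (by omega)]; rfl)

abbrev lirA : leechLattice := p2f none (some 0)
abbrev lirB : leechLattice := p2f none (some 1)
abbrev lirC : leechLattice := p2f (some 0) (some 1)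

theorem lir_tab : lirV 2 = lirA ∧ lirV 3 = lirB ∧ dt lirA (lirV 0) = 8 ∧ dt lirB (lirV 0) = 0 ∧ dt lirA (lirV 1) = 0 ∧
    dt lirB (lirV 1) = 8 ∧ Sh lirA ∧ Sh lirB ∧ dt lirA lirB = 16 ∧ dt lirB lirA = 16 ∧
    ∀ c : Fin 24, 4 ≤ c.1 → Sh (lirV c) ∧ dt lirA (lirV c) = 16 ∧ dt lirB (lirV c) = 16 := by decide +kernel

theorem lir_cases (c : Fin 24) : c = 0 ∨ c = 1 ∨ c = 2 ∨ c = 3 ∨ 4 ≤ c.1 := by revert c; decide

theorem lir_dual {w : leechLattice} (h1 : (16 : ℤ) ∣ dt w lirA) (h2 : (16 : ℤ) ∣ dt w lirB)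
    (h : ∀ c : Fin 24, 4 ≤ c.1 → (16 : ℤ) ∣ dt w (lirV c)) :
    Dbl w ∨ Dbl (w - lirA) ∨ Dbl (w - lirB) ∨ Dbl (w - lirA - lirB) := by
  obtain ⟨t2, t3, t4, t5, t6, t7, t8, t9, t10, t11, t12⟩ := lir_tab
  have a8 : dt lirA lirA = 32 := (sqNorm_eq_dot _).symm.trans t8
  have a9 : dt lirB lirB = 32 := (sqNorm_eq_dot _).symm.trans t9
  have key : ∀ (x : leechLattice) (a b : ℤ), (∀ t, dt x t = dt w t - a * dt lirA t - b * dt lirB t) →
      (16 : ℤ) ∣ dt w (lirV 0) - a * 8 → (16 : ℤ) ∣ dt w (lirV 1) - b * 8 → Dbl x := fun x a b e k0 k1 =>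
    lir_uni fun c => by
      rw [e]
      rcases lir_cases c with rfl | rfl | rfl | rfl | hc
      · rw [t4, t5]; omega
      · rw [t6, t7]; omega
      · rw [t2, a8, t11]; omega
      · rw [t3, a9, t10]; omega
      · have := h c hc
        rw [(t12 c hc).2.1, (t12 c hc).2.2]; omega
  have d0 : (8 : ℤ) ∣ dt w (lirV 0) := eight_dvd_dot w.2 (lirV 0).2
  have d1 : (8 : ℤ) ∣ dt w (lirV 1) := eight_dvd_dot w.2 (lirV 1).2
  by_cases k0 : (16 : ℤ) ∣ dt w (lirV 0) <;> by_cases k1 : (16 : ℤ) ∣ dt w (lirV 1)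
  · exact Or.inl (key w 0 0 (fun t => by ring) (by omega) (by omega))
  · exact Or.inr (Or.inr (Or.inl (key _ 0 1 (fun t => by
      simp only [dt, AddSubgroup.coe_sub, dot_sub_left]; ring) (by omega) (by omega))))
  · exact Or.inr (Or.inl (key _ 1 0 (fun t => by
      simp only [dt, AddSubgroup.coe_sub, dot_sub_left]; ring) (by omega) (by omega)))
  · exact Or.inr (Or.inr (Or.inr (key _ 1 1 (fun t => by
      simp only [dt, AddSubgroup.coe_sub, dot_sub_left]; ring) (by omega) (by omega))))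

theorem lir_span {M : AddSubgroup leechLattice} (hd : ∀ v, Dbl v → v ∈ M) (h1 : lirA ∈ M) (h2 : lirB ∈ M)
    (h : ∀ c : Fin 24, 4 ≤ c.1 → lirV c ∈ M) (hP : ∀ w ∈ M, (16 : ℤ) ∣ dt w lirA ∧ (16 : ℤ) ∣ dt w lirB)
    (w : leechLattice) (k1 : (16 : ℤ) ∣ dt w lirA) (k2 : (16 : ℤ) ∣ dt w lirB) : w ∈ M := by
  obtain ⟨t2, t3, t4, t5, t6, t7, -⟩ := lir_tab
  have : w ∈ M ⊔ AddSubgroup.zmultiples (lirV 0) ⊔ AddSubgroup.zmultiples (lirV 1) := by
    refine lir_gen (fun v hv => AddSubgroup.mem_sup_left (AddSubgroup.mem_sup_left (hd v hv))) (fun c => ?_) w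
    rcases lir_cases c with rfl | rfl | rfl | rfl | hc
    · exact AddSubgroup.mem_sup_left (AddSubgroup.mem_sup_right (AddSubgroup.mem_zmultiples _))
    · exact AddSubgroup.mem_sup_right (AddSubgroup.mem_zmultiples _)
    · exact AddSubgroup.mem_sup_left (AddSubgroup.mem_sup_left (t2 ▸ h1))
    · exact AddSubgroup.mem_sup_left (AddSubgroup.mem_sup_left (t3 ▸ h2))
    · exact AddSubgroup.mem_sup_left (AddSubgroup.mem_sup_left (h c hc))
  obtain ⟨_, hx, _, ⟨b, rfl⟩, rfl⟩ := AddSubgroup.mem_sup.1 this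
  obtain ⟨m, hm, _, ⟨a, rfl⟩, rfl⟩ := AddSubgroup.mem_sup.1 hx
  obtain ⟨m1, m2⟩ := hP m hm
  simp only [dt, AddSubgroup.coe_add, AddSubgroup.coe_zsmul, dot_add_left, dot_zsmul_left] at k1 k2 m1 m2
  rw [dot_comm (lirV 0 : GolayPt → ℤ), dot_comm (lirV 1 : GolayPt → ℤ)] at k1 k2
  simp only [dt] at t4 t5 t6 t7
  rw [t4, t6] at k1
  rw [t5, t7] at k2
  obtain ⟨a', rfl⟩ : ∃ a', a = a' + a' := ⟨a / 2, by omega⟩
  obtain ⟨b', rfl⟩ : ∃ b', b = b' + b' := ⟨b / 2, by omega⟩
  exact M.add_mem (M.add_mem hm (hd _ ⟨_, add_zsmul _ _ _⟩)) (hd _ ⟨_, add_zsmul _ _ _⟩)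

theorem lir_main (h3 : LN3) {M : AddSubgroup leechLattice} (hd : ∀ v, Dbl v → v ∈ M) (h1 : lirA ∈ M) (h2 : lirB ∈ M)
    (hi : ∀ g : Co0, g • lirA = lirA → g • lirB = lirB → ∀ w ∈ M, g • w ∈ M)
    (hP : ∀ w ∈ M, (16 : ℤ) ∣ dt w lirA ∧ (16 : ℤ) ∣ dt w lirB) {w : leechLattice} (hw : w ∈ M) {c : Fin 24}
    (hc : 4 ≤ c.1) (hn : ¬ (16 : ℤ) ∣ dt w (lirV c)) (c' : Fin 24) (hc' : 4 ≤ c'.1) : lirV c' ∈ M := by
  obtain ⟨-, -, -, -, -, -, t8, t9, t10, -, t12⟩ := lir_tab
  have nf : ∀ c : Fin 24, 4 ≤ c.1 → ∃ g : Co0, g • lirA = lirA ∧ g • lirB = lirB ∧ g • lirV c = lirC := fun c hc =>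
    h3 _ _ _ t8 t9 (t12 c hc).1 t10 (t12 c hc).2.1 (t12 c hc).2.2 _ _ _ (by decide) (by decide) (by decide)
  suffices hC : lirC ∈ M by
    obtain ⟨g, g1, g2, g3⟩ := nf c' hc'
    have := hi g⁻¹ (inv_smul_eq_iff.2 g1.symm) (inv_smul_eq_iff.2 g2.symm) _ hC
    rwa [← g3, inv_smul_smul] at this
  obtain ⟨g, g1, g2, g3⟩ := nf c hc
  have hx := hi g g1 g2 w hw
  rw [dt, ← dot_smul g, g3] at hn
  generalize g • w = x at hx hn
  obtain ⟨k1, k2⟩ := hP x hx
  have k3 := eight_dvd_dot x.2 lirC.2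
  simp only [dt, p2f, dot_add_right, dot_single] at k1 k2 k3 hn
  have ho := odd_of_one x.2 (i := none) (by omega) (some 19)
  have op : ∀ m : ℕ, isCode m = true → m.testBit 23 = false → m.testBit 0 = false → m.testBit 1 = false →
      ∀ v ∈ M, ∃ v' ∈ M, ∀ p, (v' : GolayPt → ℤ) p = if m.testBit (gIdx p) then 2 * (v : GolayPt → ℤ) p else 0 :=
    fun m hm a1 a2 a3 v hv => by
      have hz : ∀ i ∈ ofMask m, i ≠ none ∧ i ≠ some 0 ∧ i ≠ some 1 := fun i hi => by
        rw [mem_ofMask] at hi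
        refine ⟨?_, ?_, ?_⟩ <;> rintro rfl
        exacts [absurd (hi.symm.trans a1) (by decide), absurd (hi.symm.trans a2) (by decide),
          absurd (hi.symm.trans a3) (by decide)]
      refine ⟨v - eps _ (ofMask_mem_GC_of_isCode hm) • v, M.sub_mem hv (hi _ (eps_smul_of_disjoint _ fun i hi => ?_)
        (eps_smul_of_disjoint _ fun i hi => ?_) v hv), fun p => ?_⟩
      · simp [p2f, (hz i hi).1, (hz i hi).2.1]
      · simp [p2f, (hz i hi).1, (hz i hi).2.2]
      · simp only [AddSubgroup.coe_sub, Pi.sub_apply, eps_apply, mem_ofMask]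
        split_ifs <;> ring
  obtain ⟨x1, m1, e1⟩ := op 7221256 (by decide +kernel) (by decide) (by decide) (by decide) x hx
  obtain ⟨x2, m2, e2⟩ := op 5210132 (by decide +kernel) (by decide) (by decide) (by decide) x1 m1
  obtain ⟨x3, m3, e3⟩ := op 3698756 (by decide +kernel) (by decide) (by decide) (by decide) x2 m2
  obtain ⟨n, hn⟩ : ∃ n, (x : GolayPt → ℤ) (some 19) = 2 * n + 1 := ⟨(x : GolayPt → ℤ) (some 19) / 2, by omega⟩
  have tr : ∀ p : GolayPt, (Nat.testBit 3698756 (gIdx p) ∧ Nat.testBit 5210132 (gIdx p) ∧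
      Nat.testBit 7221256 (gIdx p)) ↔ p = some 19 := by decide +kernel
  have e4 : ∀ p, (x3 : GolayPt → ℤ) p = if p = some 19 then 8 * (2 * n + 1) else 0 := fun p => by
    rw [e3, e2, e1]
    by_cases hp : p = some 19
    · obtain ⟨a1, a2, a3⟩ := (tr p).2 hp
      rw [if_pos a1, if_pos a2, if_pos a3, if_pos hp, hp, hn]; ring
    · have := mt (tr p).1 hp
      rw [if_neg hp]
      split_ifs <;> first | rfl | exact absurd ⟨‹_›, ‹_›, ‹_›⟩ this
  have e5 : lirC = lirA + lirB - x3 + ((n • e8 (some 19) + p2f (some 19) none - e8 none) +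
      (n • e8 (some 19) + p2f (some 19) none - e8 none)) := Subtype.ext (funext fun p => by
    simp only [AddSubgroup.coe_add, AddSubgroup.coe_sub, AddSubgroup.coe_zsmul, Pi.add_apply, Pi.sub_apply,
      Pi.smul_apply, e4, p2f, coe_e8, Pi.single_apply, smul_eq_mul]
    split_ifs <;> ring)
  rw [e5]
  exact M.add_mem (M.sub_mem (M.add_mem h1 h2) m3) (hd _ ⟨_, rfl⟩)

theorem lir (h3 : LN3) : LIR := by
  intro v₁ v₂ s1 s2 d12 M hd h1 h2 hi hP ⟨w, hw, n1, n2, n3, n4⟩ t k1 k2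
  obtain ⟨g, g1, g2⟩ : ∃ g : Co0, g • v₁ = lirA ∧ g • v₂ = lirB := by
    obtain ⟨g, g1, g2⟩ := pair_m16 (v := v₁) (w := -v₂) s1 (by rw [AddSubgroup.coe_neg, sqNorm_neg]; exact s2)
      (by rw [AddSubgroup.coe_neg, dot_neg_right]; exact congrArg Neg.neg d12)
    obtain ⟨k, a1, a2, -⟩ := h3 leechU (-lX) (lv (lf [4, -4]) (by decide +kernel)) sqNorm_U (by decide +kernel)
      (by decide +kernel) (by decide +kernel) (by decide +kernel) (by decide +kernel) none (some 0) (some 1)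
      (by decide) (by decide) (by decide)
    refine ⟨k * g, by rw [mul_smul, g1, a1], ?_⟩
    rw [← g2, smul_neg g, neg_neg] at a2
    rw [mul_smul, a2]
  let N : AddSubgroup leechLattice := M.comap (DistribSMul.toAddMonoidHom leechLattice g⁻¹)
  have mN : ∀ x, x ∈ N ↔ g⁻¹ • x ∈ M := fun x => Iff.rfl
  have mN' : ∀ x, g • x ∈ N ↔ x ∈ M := fun x => by rw [mN, inv_smul_smul]
  have nd : ∀ v, Dbl v → v ∈ N := fun v hv => hd _ (hv.smul _)
  have nA : lirA ∈ N := g1 ▸ (mN' _).2 h1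
  have nB : lirB ∈ N := g2 ▸ (mN' _).2 h2
  have ni : ∀ k : Co0, k • lirA = lirA → k • lirB = lirB → ∀ w ∈ N, k • w ∈ N := fun k a1 a2 x hx => by
    have := hi (g⁻¹ * k * g) (by rw [mul_smul, mul_smul, g1, a1, ← g1, inv_smul_smul])
      (by rw [mul_smul, mul_smul, g2, a2, ← g2, inv_smul_smul]) _ ((mN x).1 hx)
    rwa [mul_smul, smul_inv_smul, mul_smul] at this
  have nP : ∀ x ∈ N, (16 : ℤ) ∣ dt x lirA ∧ (16 : ℤ) ∣ dt x lirB := fun x hx => by
    have := hP _ ((mN x).1 hx)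
    rwa [dt, dt, ← dot_smul g, ← dot_smul g _ v₂, smul_inv_smul, g1, g2] at this
  have hw' := (mN' w).2 hw
  refine (mN' t).1 (lir_span nd nA nB (fun c' hc' => ?_) nP _ (by rwa [dt, ← g1, dot_smul])
    (by rwa [dt, ← g2, dot_smul]))
  by_contra hne
  have := lir_dual (nP _ hw').1 (nP _ hw').2 fun c hc => by_contra fun hn =>
    hne (lir_main h3 nd nA nB ni nP hw' hc hn c' hc')
  rw [← g1, ← g2, ← smul_sub, ← smul_sub, ← smul_sub, dbl_smul_iff, dbl_smul_iff, dbl_smul_iff, dbl_smul_iff] at this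
  tauto

end CL.IN
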