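/-
Orders of the Monster and the Baby Monster: `C(s) / ⟨s⟩` is simple in a group of Monster type.
-/
import Cfsg.Agent.Spor.Mj1
import Cfsg.Agent.Spor.MjP2
import Cfsg.Agent.Spor.LeechMax

set_option autoImplicit false
set_option linter.unusedSectionVars false

namespace CL.Mj

open Cfsg Cfsg.Spor Subgroup CL.Even CL.Grp CL.Spor CL.Spor.Leech CL.Spor.Mon MulAction
open scoped commutatorElement

/-- A normal subgroup on which an involution of a pure four-group acts fixed point freely is trivial. -/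
theorem bs_fpf {H : Type*} [Group H] [Finite H] {N : Subgroup H} (hN : N.Normal) {a g g' : H} (ha : a * a = 1)
    (h2 : ∀ n ∈ N, a * n * a⁻¹ = n → n = 1) (e : g * a * g⁻¹ * (g' * a * g'⁻¹) = a) : N = ⊥ := by
  have h3 : ∀ n ∈ N, a * n * a⁻¹ = n⁻¹ := fun n hn => by
    have := MonoidHom.FixedPointFree.coe_eq_inv_of_involutive (φ := MulAut.conjNormal (H := N) a)
      (fun n e => Subtype.ext (h2 n n.2 (congrArg Subtype.val e)))
      (fun n => by rw [← MulAut.mul_apply, ← map_mul, ha, map_one, MulAut.one_apply])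
    exact congrArg Subtype.val (congrFun this ⟨n, hn⟩)
  have h4 : ∀ g : H, ∀ n ∈ N, g * a * g⁻¹ * n * (g * a * g⁻¹)⁻¹ = n⁻¹ := fun g n hn => by
    have := congrArg (fun u => g * u * g⁻¹) (h3 _ (hN.conj_mem' n hn g))
    simpa [mul_assoc] using this
  refine eq_bot_iff.2 fun n hn => h2 n hn ?_
  rw [← e]
  calc _ = g * a * g⁻¹ * (g' * a * g'⁻¹ * n * (g' * a * g'⁻¹)⁻¹) * (g * a * g⁻¹)⁻¹ := by group
    _ = n := by rw [h4 g' n hn, h4 g _ (inv_mem hn), inv_inv]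

/-- `4 e_1 + 4 e_3`. -/
def bsA : leechLattice := lv (lf [0,4,0,4,0,0,0,0,0,0,0,0,0,0,0,0,0,0,0,0,0,0,0,0]) (by decide +kernel)
/-- A vector of shape `2^8` orthogonal to `leechU`. -/
def bsB : leechLattice := lv (lf [2,2,2,0,2,0,0,0,0,0,0,0,0,2,0,0,2,0,0,0,0,0,-2,-2]) (by decide +kernel)

/-- The lattice part: a subgroup `M` with the closure properties contains all vectors of even inner product. -/
theorem bs_lattice {M : AddSubgroup leechLattice} (hd : ∀ v, Dbl v → v ∈ M) (hU : leechU ∈ M)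
    (hL : ∀ v ∈ M, (16 : ℤ) ∣ dotInt (v : GolayPt → ℤ) leechU)
    (h0 : ∀ v : leechLattice, sqNorm (v : GolayPt → ℤ) = 32 → dotInt (leechU : GolayPt → ℤ) v = 0 → v ∈ M)
    (hk : ∀ k : Co0, k • leechU = leechU → ∀ y : leechLattice, (16 : ℤ) ∣ dotInt (y : GolayPt → ℤ) leechU →
      k • y - y ∈ M) {v : leechLattice} (hv : (16 : ℤ) ∣ dotInt (v : GolayPt → ℤ) leechU) : v ∈ M := by
  have hi : ∀ k : Co0, k • leechU = leechU → ∀ y ∈ M, k • y ∈ M := fun k e y hy => by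
    simpa using M.add_mem (hk k e y (hL y hy)) hy
  let H : Subgroup (stabilizer Co0 leechU) :=
    { carrier := {k | (k : Co0) • lW' - lW' ∈ M}
      one_mem' := by simp
      mul_mem' := fun {a b} ha hb => by
        have := M.add_mem (hi a a.2 _ hb) ha
        rwa [smul_sub, sub_add_sub_cancel, ← mul_smul] at this
      inv_mem' := fun {a} ha => by
        have := M.neg_mem (hi _ a⁻¹.2 _ ha)
        rwa [smul_sub, coe_inv, inv_smul_smul, neg_sub] at this }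
  have hn : H.Normal := ⟨fun k hk' g => by
    have h1 := hk k k.2 ((g⁻¹ : stabilizer Co0 leechU) • lW' - lW') (by
      rw [AddSubgroup.coe_sub, dot_sub_left, ← congrArg (dotInt _) (congrArg Subtype.val g⁻¹.2)]
      exact ⟨0, sub_eq_zero.2 (dot_smul ..)⟩)
    have h2 := hi g g.2 _ (M.add_mem h1 hk')
    change ((g : Co0) * k * (g : Co0)⁻¹) • lW' - lW' ∈ M
    convert h2 using 1
    change _ = (g : Co0) • ((k : Co0) • ((g : Co0)⁻¹ • lW' - lW') - ((g : Co0)⁻¹ • lW' - lW') + ((k : Co0) • lW' - lW'))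
    simp only [smul_add, smul_sub, smul_inv_smul, mul_smul]; abel⟩
  have nW : sqNorm (lW' : GolayPt → ℤ) = 32 := by decide +kernel
  have t8 : ∀ p : leechLattice, sqNorm (p : GolayPt → ℤ) = 32 → dotInt (leechU : GolayPt → ℤ) p = -8 →
      ∃ k : stabilizer Co0 leechU, (k : Co0) • lW' = p := fun p h1 h2 => by
    obtain ⟨k, k1, k2⟩ := pair_of_base (pair_m8 sqNorm_U nW (by decide +kernel)) (pair_m8 sqNorm_U h1 h2)
    exact ⟨⟨k, k1⟩, k2⟩
  have hH : H = ⊤ := by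
    have := simple_stab32 sqNorm_U
    refine hn.eq_bot_or_eq_top.resolve_left fun e => ?_
    obtain ⟨k, hk⟩ := t8 lW (by decide +kernel) (by decide +kernel)
    have h1 : k ∈ H := show _ - _ ∈ M from hk ▸ h0 _ (by decide +kernel) (by decide +kernel)
    rw [e, mem_bot] at h1
    rw [h1, coe_one, one_smul] at hk
    exact absurd hk (by decide +kernel)
  have h8 : ∀ p : leechLattice, sqNorm (p : GolayPt → ℤ) = 32 → dotInt (leechU : GolayPt → ℤ) p = -8 →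
      p - lW' ∈ M := fun p h1 h2 => by
    obtain ⟨k, rfl⟩ := t8 p h1 h2
    exact hH.ge (mem_top k)
  have h16 : ∀ p : leechLattice, sqNorm (p : GolayPt → ℤ) = 32 → dotInt (leechU : GolayPt → ℤ) p = -16 → p ∈ M :=
    fun p h1 h2 => by
      obtain ⟨k, k1, k2⟩ := pair_m16 sqNorm_U h1 h2
      have := M.add_mem (M.add_mem (h8 lW (by decide +kernel) (by decide +kernel))
        (h8 (lX - lW) (by decide +kernel) (by decide +kernel))) (hd _ ⟨lW', rfl⟩)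
      rw [← inv_smul_smul k p, k2]
      refine hi _ (inv_smul_eq_iff.2 k1.symm) _ ?_
      convert this using 1; abel
  have hT : leechLattice ≤ (M ⊔ AddSubgroup.zmultiples lW').map leechLattice.subtype := by
    refine closure_min.ge.trans ((AddSubgroup.closure_le _).2 fun x hx => ⟨⟨x, hx.1⟩, ?_, rfl⟩)
    obtain ⟨x, hx1⟩ : ∃ y : leechLattice, y = ⟨x, hx.1⟩ := ⟨_, rfl⟩
    have hx2 : sqNorm (x : GolayPt → ℤ) = 32 := hx1 ▸ hx.2
    have hx3 : sqNorm ((-x : leechLattice) : GolayPt → ℤ) = 32 := by rw [AddSubgroup.coe_neg, sqNorm_neg, hx2]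
    have hx4 : dotInt (leechU : GolayPt → ℤ) (-x : leechLattice) = -dotInt (leechU : GolayPt → ℤ) x := by
      rw [AddSubgroup.coe_neg, dot_neg_right]
    rw [← hx1, SetLike.mem_coe]
    have l : ∀ {y}, y ∈ M → y ∈ M ⊔ AddSubgroup.zmultiples lW' := AddSubgroup.mem_sup_left
    have r : ∀ {y}, y - lW' ∈ M → y ∈ M ⊔ AddSubgroup.zmultiples lW' := fun hy => by
      simpa using add_mem (l hy) (AddSubgroup.mem_sup_right (AddSubgroup.mem_zmultiples lW'))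
    rcases dot_min_cases sqNorm_U hx2 with e | e | e
    · exact l (e ▸ hU)
    · exact l (e ▸ neg_mem hU)
    simp only [Finset.mem_insert, Finset.mem_singleton] at e
    rcases e with e | e | e | e | e
    · exact l (h16 x hx2 e)
    · exact r (h8 x hx2 e)
    · exact l (h0 x hx2 e)
    · exact neg_mem_iff.1 (r (h8 _ hx3 (by rw [hx4, e])))
    · exact neg_mem_iff.1 (l (h16 _ hx3 (by rw [hx4, e])))
  obtain ⟨w, hw, e⟩ := hT v.2
  obtain rfl : w = v := Subtype.ext e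
  obtain ⟨m, hm, _, ⟨k, rfl⟩, rfl⟩ := AddSubgroup.mem_sup.1 hw
  have h1 := hL m hm
  rw [AddSubgroup.coe_add, dot_add_left, AddSubgroup.coe_zsmul, dot_zsmul_left,
    show dotInt (lW' : GolayPt → ℤ) leechU = -8 by decide +kernel] at hv
  obtain ⟨j, rfl⟩ : ∃ j, k = j + j := ⟨k / 2, by omega⟩
  exact M.add_mem hm (hd _ ⟨_, add_zsmul ..⟩)

namespace GD

variable {G : Type*} [Group G] {z : G} {Q : Subgroup G} {π : centralizer ({z} : Set G) →* Co1}
  {R : leechLattice → G → Prop} {s s1 : G} (h : GD z Q π R s s1) [Finite G]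
include h

theorem bs_lift {k : Co0} (hk : k • leechU = leechU) :
    ∃ c : centralizer ({z} : Set G), π c = mk1 k ∧ c * s * (c : G)⁻¹ = s :=
  h.mt.conj_of_dbl h.hs h.hs (not_dbl_of_short (by rw [sqNorm_U]; norm_num) (by rw [sqNorm_U]; norm_num))
    (hk.symm ▸ Dbl.refl _)

theorem bs_img (c : centralizer ({z} : Set G)) (hc : c * s = s * c) : ∃ k : Co0, k • leechU = leechU ∧ π c = mk1 k := by
  obtain ⟨g, hg⟩ := mk1_surjective (π c)
  have h1 := h.mt.conj c g hg.symm h.hs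
  rw [hc, mul_inv_cancel_right] at h1
  rcases ((h.mt.dbl_iff' h1 h.hs).2 (Or.inl rfl)).pm_of_lt (by rw [sqNorm_smul, sqNorm_U]; norm_num)
    (by rw [sqNorm_U]; norm_num) with e | e
  · exact ⟨g, e, hg.symm⟩
  · exact ⟨negOne * g, by rw [mul_smul, e, negOne_smul, neg_neg],
      by rw [map_mul, mk1_eq_one.2 negOne_mem_center, one_mul, hg]⟩

/-- A conjugate of `z` centralising `C_Q(s)` is `z`. -/
theorem bs_fix {u : G} (hu : IsConj z u) (hc : ∀ g ∈ Q ⊓ centralizer {s}, g * u * g⁻¹ = u) : u = z := by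
  have h3 := h.mt.xe.cent_inf_cent_le h.sQ ((pow_two s).trans h.ss) fun a ha => mul_inv_eq_iff_eq_mul.1 (hc a ha)
  rcases (mem_closure_pair_two h.mt.xe.mul_self h.ss h.sz.symm).1 h3 with e | e | e | e
  · exact absurd (isConj_one_right.1 (e ▸ hu).symm) h.mt.xe.ne_one
  · exact e
  · exact absurd (e ▸ hu) h.not_conj
  · exact absurd (h.sz ▸ e ▸ hu) (h.not_conj' h.T_sz)

theorem bs_frame {u : G} (hu : R (e8 none) u) : ∃ g, g * s = s * g ∧ g * z * g⁻¹ = u := by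
  obtain ⟨g, rfl⟩ := isConj_iff.1 (h.mt.isConj_of_type hu (sqNorm_e8 _)).1
  obtain ⟨k, h1, h2⟩ := h.pair_z ⟨g, rfl, h.el g hu _ _ h.hs (by decide +kernel)⟩ (IsConj.refl s)
  exact ⟨k, mul_inv_eq_iff_eq_mul.1 h1, h2⟩

variable {N : Subgroup G} (hC : ∀ n ∈ N, n * s = s * n) (hN : ∀ g, g * s = s * g → ∀ n ∈ N, g * n * g⁻¹ ∈ N)
  (hs : s ∈ N)
include hC hN

theorem bs_dich : (∀ n ∈ N, n * z = z * n → n ∈ Q) ∨
    ∀ k : Co0, k • leechU = leechU → ∃ n : centralizer ({z} : Set G), (n : G) ∈ N ∧ π n = mk1 k := by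
  let K : Subgroup (stabilizer Co0 leechU) :=
    { carrier := {k | ∃ n : centralizer ({z} : Set G), (n : G) ∈ N ∧ π n = mk1 k}
      one_mem' := ⟨1, one_mem _, by simp⟩
      mul_mem' := fun ⟨a, a1, a2⟩ ⟨b, b1, b2⟩ => ⟨a * b, mul_mem a1 b1, by simp [a2, b2]⟩
      inv_mem' := fun ⟨a, a1, a2⟩ => ⟨a⁻¹, inv_mem a1, by simp [a2]⟩ }
  have hn : K.Normal := ⟨fun k ⟨n, n1, n2⟩ g => by
    obtain ⟨c, c1, c2⟩ := h.bs_lift g.2
    exact ⟨c * n * c⁻¹, hN c (mul_inv_eq_iff_eq_mul.1 c2) _ n1, by simp [c1, n2]⟩⟩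
  have := simple_stab32 sqNorm_U
  refine hn.eq_bot_or_eq_top.imp (fun e n hn hz => ?_) fun e k hk => e.ge (mem_top (⟨k, hk⟩ : stabilizer Co0 leechU))
  obtain ⟨k, k1, k2⟩ := h.bs_img ⟨n, mem_cent_singleton.2 hz⟩ (hC n hn)
  have h1 : (⟨k, k1⟩ : stabilizer Co0 leechU) ∈ K := ⟨_, hn, k2⟩
  rw [e, mem_bot, Subtype.ext_iff] at h1
  exact (h.mt.ker ⟨n, _⟩).1 (by rw [k2, show k = 1 from h1, map_one])

theorem bs_comm {k : Co0} {n : centralizer ({z} : Set G)} (h1 : (n : G) ∈ N) (h2 : π n = mk1 k) {y : leechLattice}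
    (hy : (16 : ℤ) ∣ dotInt (y : GolayPt → ℤ) leechU) : ∃ x ∈ N, R (k • y - y) x := by
  obtain ⟨x, hx⟩ := h.mt.exR y
  refine ⟨_, ?_, sub_eq_add_neg (k • y) y ▸ h.mt.mul (h.mt.conj n k h2 hx) (h.mt.inv hx)⟩
  simpa [mul_assoc] using mul_mem h1 (hN x ((h.mt.comm_iff hx h.hs).2 hy) _ (inv_mem h1))

include hs

theorem bs_a (hz : z ∉ N) {n : G} (hn : n ∈ N) (e : n * z = z * n) : n ∈ zpowers s := by
  have a1 : ∀ x ∈ N, x ∈ Q → x = 1 ∨ x = s := fun x hx hQ => by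
    have h3 := h.mt.xe.cent_inf_cent_le h.sQ ((pow_two s).trans h.ss) (x := x) fun a ha =>
      commutatorElement_eq_one_iff_mul_comm.1 ((h.mt.xe.mem_Z.1 (h.mt.xe.comm_mem ha.1 hQ)).resolve_right fun e =>
        hz (e ▸ mul_mem (hN a (mem_cent_singleton.1 ha.2) x hx) (inv_mem hx)))
    rcases (mem_closure_pair_two h.mt.xe.mul_self h.ss h.sz.symm).1 h3 with e | e | e | e
    · exact Or.inl e
    · exact absurd (e ▸ hx) hz
    · exact Or.inr e
    · exact absurd ((N.mul_mem_cancel_right hs).1 (e ▸ hx)) hz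
  rcases h.bs_dich hC hN with h1 | h1
  · exact (mem_zpowers_two (h.ord (IsConj.refl s))).2 (a1 n hn (h1 n hn e))
  exfalso
  obtain ⟨k, k1, k2⟩ := pair_orth (w := bsA) sqNorm_U (by decide +kernel) (by decide +kernel)
  obtain ⟨m, m1, m2⟩ := h1 k k1
  obtain ⟨x, x1, x2⟩ := h.bs_comm hC hN m1 m2 (y := bsA) (by decide +kernel)
  rw [k2] at x2
  rcases a1 x x1 (h.mt.mem x2) with rfl | rfl
  · exact absurd (((h.mt.zero x2).2 (one_mem _)).dvd_dot lW) (by decide +kernel)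
  · have := (h.mt.dbl_iff' x2 h.hs).2 (Or.inl rfl)
    exact absurd (this.dvd_dot bsB) (by decide +kernel)

theorem bs_b (hz : z ∈ N) {g : G} (hg : g * s = s * g) : g ∈ N := by
  have b0 : ∀ {v x y}, R v x → R v y → x ∈ N → y ∈ N := fun hx hy hm => by
    rcases (h.mt.dbl_iff' hy hx).1 (Dbl.refl _) with rfl | rfl
    exacts [hm, mul_mem hz hm]
  have b1 : ∀ {p y}, R p y → sqNorm (p : GolayPt → ℤ) = 32 → dotInt (leechU : GolayPt → ℤ) p = 0 → y ∈ N :=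
    fun {p y} hy h1 h2 => by
      obtain ⟨g, g1, rfl⟩ := (h.pq _ p s y h.hs hy sqNorm_U h1).2 h2
      exact hN g (mul_inv_eq_iff_eq_mul.1 g1) _ (mul_mem hs hz)
  have b2 : ∀ k : Co0, k • leechU = leechU → ∃ n : centralizer ({z} : Set G), (n : G) ∈ N ∧ π n = mk1 k := by
    refine (h.bs_dich hC hN).resolve_left fun h1 => ?_
    obtain ⟨u, hu⟩ := h.mt.exR (e8 none)
    obtain ⟨g, g1, rfl⟩ := h.bs_frame hu
    have k : ∀ {p y}, R p y → sqNorm (p : GolayPt → ℤ) = 32 → dotInt (leechU : GolayPt → ℤ) p = 0 →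
        (16 : ℤ) ∣ dotInt (p : GolayPt → ℤ) (e8 none) → y ∈ cj g Q := fun {p y} hy n1 n2 n3 => by
      refine mem_cj.2 (h1 _ (by simpa using hN g⁻¹ (Commute.inv_left g1).eq _ (b1 hy n1 n2)) ?_)
      simpa [mul_assoc] using p2_comm ((h.mt.comm_iff hy hu).2 n3) g
    obtain ⟨x, hx⟩ := h.mt.exR bsA
    obtain ⟨y, hy⟩ := h.mt.exR bsB
    have h' := h.mt.xe.conj g
    rcases h'.mem_Z.1 (h'.comm_mem (k hx (by decide +kernel) (by decide +kernel) (by decide +kernel))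
      (k hy (by decide +kernel) (by decide +kernel) (by decide +kernel))) with e | e
    · exact absurd ((h.mt.comm_iff hx hy).1 (commutatorElement_eq_one_iff_mul_comm.1 e)) (by decide +kernel)
    · exact (h.mt.xe.mem_Z.1 (e ▸ h.mt.xe.comm_mem (h.mt.mem hx) (h.mt.mem hy))).elim h'.ne_one (p2_ne h.mt hu)
  have b3 : ∀ x ∈ Q, x * s = s * x → x ∈ N := fun x hx e => by
    let M : AddSubgroup leechLattice :=
      { carrier := {v | ∃ x ∈ N, R v x}
        add_mem' := fun ⟨_, a1, a2⟩ ⟨_, b1, b2⟩ => ⟨_, mul_mem a1 b1, h.mt.mul a2 b2⟩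
        zero_mem' := ⟨1, one_mem _, h.mt.ofZero Dbl.zero (one_mem _)⟩
        neg_mem' := fun ⟨_, a1, a2⟩ => ⟨_, inv_mem a1, h.mt.inv a2⟩ }
    obtain ⟨v, hv⟩ := h.mt.exL x hx
    obtain ⟨y, y1, y2⟩ := bs_lattice (M := M) (fun v hv => ⟨1, one_mem _, h.mt.ofZero hv (one_mem _)⟩) ⟨s, hs, h.hs⟩
      (fun v ⟨y, y1, y2⟩ => (h.mt.comm_iff y2 h.hs).1 (hC y y1))
      (fun v h1 h2 => (h.mt.exR v).imp fun y hy => ⟨b1 hy h1 h2, hy⟩)
      (fun k hk y hy => let ⟨_, n1, n2⟩ := b2 k hk; h.bs_comm hC hN n1 n2 hy) ((h.mt.comm_iff hv h.hs).1 e)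
    exact b0 y2 hv y1
  have b4 : ∀ c, c * z = z * c → c * s = s * c → c ∈ N := fun c h1 h2 => by
    obtain ⟨k, k1, k2⟩ := h.bs_img ⟨c, mem_cent_singleton.2 h1⟩ h2
    obtain ⟨n, n1, n2⟩ := b2 k k1
    exact (N.mul_mem_cancel_left (inv_mem n1)).1 (b3 _ ((h.mt.ker (n⁻¹ * ⟨c, mem_cent_singleton.2 h1⟩)).1 (by
      rw [map_mul, map_inv, n2, k2, inv_mul_cancel])) ((Commute.inv_left (hC n n1)).mul_left h2).eq)
  have b5 := fun g : G => p2_ncard_mod (Z := {u | ∃ n ∈ N, n * g * z * (n * g)⁻¹ = u}) (P := Q ⊓ centralizer {s})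
    (h.mt.xe.isPGroup.to_le inf_le_left) (by
      rintro q hq _ ⟨n, hn, rfl⟩
      exact ⟨q * n, mul_mem (b3 q hq.1 (mem_cent_singleton.1 hq.2)) hn, by group⟩)
  have b6 : {u | ∃ n ∈ N, n * g * z * (n * g)⁻¹ = u}.ncard = {u | ∃ n ∈ N, n * 1 * z * (n * 1)⁻¹ = u}.ncard := by
    rw [← Set.ncard_image_of_injective _ (MulAut.conj g⁻¹).injective]
    congr 1
    ext u
    constructor
    · rintro ⟨_, ⟨n, hn, rfl⟩, rfl⟩
      exact ⟨_, hN g⁻¹ (Commute.inv_left hg).eq n hn, by simp [mul_assoc]⟩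
    · rintro ⟨n, hn, rfl⟩
      exact ⟨_, ⟨_, hN g hg n hn, rfl⟩, by simp [mul_assoc]⟩
  have b7 := b5 1
  rw [show {u | u ∈ {u | ∃ n ∈ N, n * 1 * z * (n * 1)⁻¹ = u} ∧ ∀ q ∈ Q ⊓ centralizer {s}, q * u * q⁻¹ = u} = {z} from
    Set.eq_singleton_iff_unique_mem.2 ⟨⟨⟨1, one_mem _, by simp⟩, fun q hq => by
      rw [h.mt.xe.comm hq.1, mul_inv_cancel_right]⟩, fun _ ⟨⟨_, _, e⟩, hu⟩ => h.bs_fix (isConj_iff.2 ⟨_, e⟩) hu⟩,
    Set.ncard_singleton, ← b6] at b7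
  obtain ⟨_, ⟨n, hn, rfl⟩, hu⟩ := Set.nonempty_of_ncard_ne_zero (Odd.pos (Nat.odd_iff.2 ((b5 g).symm.trans b7))).ne'
  exact (N.mul_mem_cancel_left hn).1 (b4 _ (mul_inv_eq_iff_eq_mul.1 (h.bs_fix (isConj_iff.2 ⟨_, rfl⟩) hu))
    (Commute.mul_left (hC n hn) hg).eq)

omit hC hN hs in
/-- `C(s) / ⟨s⟩` is simple. -/
theorem simpleB [hn : ((zpowers s).subgroupOf (centralizer ({s} : Set G))).Normal] :
    IsSimpleGroup (centralizer ({s} : Set G) ⧸ (zpowers s).subgroupOf (centralizer ({s} : Set G))) := by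
  have hm : ∀ a b : centralizer ({s} : Set G), (QuotientGroup.mk a : _ ⧸ (zpowers s).subgroupOf _) =
      QuotientGroup.mk b ↔ (b : G) = a ∨ (b : G) = a * s := fun a b => by
    rw [QuotientGroup.eq, mem_subgroupOf, mem_zpowers_two (h.ord (IsConj.refl s)), coe_mul, coe_inv,
      inv_mul_eq_iff_eq_mul, mul_one, inv_mul_eq_iff_eq_mul]
  let z' : centralizer ({s} : Set G) := ⟨z, mem_cent_singleton.2 h.sz.symm⟩
  have : Nontrivial (centralizer ({s} : Set G) ⧸ (zpowers s).subgroupOf (centralizer ({s} : Set G))) :=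
    ⟨QuotientGroup.mk 1, QuotientGroup.mk z', fun e => ((hm _ _).1 e).elim h.mt.xe.ne_one fun e =>
      h.not_conj (by rw [← one_mul s]; exact e ▸ IsConj.refl _)⟩
  refine ⟨fun B hB => ?_⟩
  let N := (B.comap (QuotientGroup.mk' _)).map (centralizer ({s} : Set G)).subtype
  have hmem : ∀ c : centralizer ({s} : Set G), (c : G) ∈ N ↔ QuotientGroup.mk c ∈ B := fun c =>
    mem_map_iff_mem Subtype.val_injective
  have hC : ∀ n ∈ N, n * s = s * n := by rintro _ ⟨c, -, rfl⟩; exact mem_cent_singleton.1 c.2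
  have hN : ∀ g, g * s = s * g → ∀ n ∈ N, g * n * g⁻¹ ∈ N := by
    rintro g hg _ ⟨c, hc, rfl⟩
    exact ⟨_, (hB.comap _).conj_mem c hc ⟨g, mem_cent_singleton.2 hg⟩, rfl⟩
  have hs : s ∈ N := (hmem ⟨s, mem_cent_singleton.2 rfl⟩).2 (by
    rw [(QuotientGroup.eq_one_iff _).2 (mem_subgroupOf.2 (mem_zpowers s))]; exact one_mem _)
  by_cases hz : z ∈ N
  · refine Or.inr (eq_top_iff.2 fun b _ => ?_)
    obtain ⟨c, rfl⟩ := QuotientGroup.mk_surjective b
    exact (hmem c).1 (h.bs_b hC hN hs hz (mem_cent_singleton.1 c.2))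
  obtain ⟨u, hu⟩ := h.mt.exR (e8 none)
  obtain ⟨g', g3, g4⟩ := h.bs_frame (h.mt.mulZ hu (mem_zpowers z))
  obtain ⟨g, g1, g2⟩ := h.bs_frame hu
  refine Or.inl (bs_fpf hB (a := QuotientGroup.mk z') (g := QuotientGroup.mk ⟨g, mem_cent_singleton.2 g1⟩)
    (g' := QuotientGroup.mk ⟨g', mem_cent_singleton.2 g3⟩) ((hm (z' * z') 1).2 (Or.inl h.mt.xe.mul_self.symm))
    (fun n hn e => ?_) ((hm (_ * z' * _⁻¹ * (_ * z' * _⁻¹)) z').2 (Or.inl ?_)))
  · obtain ⟨m, rfl⟩ := QuotientGroup.mk_surjective n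
    rcases (hm m (z' * m * z'⁻¹)).1 e.symm with e | e
    · exact (QuotientGroup.eq_one_iff _).2 (h.bs_a hC hN hs hz ((hmem m).2 hn) (mul_inv_eq_iff_eq_mul.1 e).symm)
    · refine absurd (isConj_iff.2 ⟨(m : G)⁻¹, ?_⟩) (h.not_conj' h.T_sz)
      rw [inv_inv, mul_assoc, mul_inv_eq_iff_eq_mul.1 (show z * m * z⁻¹ = m * s from e), mul_assoc, inv_mul_cancel_left]
  · change z = g * z * g⁻¹ * (g' * z * g'⁻¹)
    rw [g4, g2, ← mul_assoc, h.uu (isConj_iff.2 ⟨g, g2⟩), one_mul]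

end GD

end CL.Mj
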