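/-
The derived subgroup of O6^-(2).
Generated by tools/pg.
-/
import Cfsg.Agent.Spor.PGCtx
import Cfsg.Agent.Spor.PGStruct
import Cfsg.Agent.Spor.PGSub
import Cfsg.Agent.Spor.StdO6m2
import Cfsg.Agent.Spor.StdU42

set_option autoImplicit false
set_option maxRecDepth 200000
set_option Elab.async false
set_option linter.unusedVariables false

namespace CL.O6mAut.Aux.T
open CL.PG

def P : Par := ⟨27, 32, 5, 3⟩
theorem hP : P.Ok := by decide
noncomputable def a0 : Net := (.cons 16 (nat_lit 0x3801)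
 (.cons 8 (nat_lit 0xc10005)
 (.cons 4 (nat_lit 0xf0405)
 (.cons 2 (nat_lit 0x21300101)
 (.cons 1 (nat_lit 0x15404041)
 (.cons 2 (nat_lit 0x22)
 (.cons 4 (nat_lit 0x40e0000)
 (.cons 8 (nat_lit 0xd40000)
 (.cons 16 (nat_lit 0x38c0)
 .nil)))))))))
noncomputable def a1 : Net := (.cons 16 (nat_lit 0x225a)
 (.cons 8 (nat_lit 0x98001a)
 (.cons 4 (nat_lit 0xa020902)
 (.cons 2 (nat_lit 0x1012213)
 (.cons 1 (nat_lit 0x14011504)
 (.cons 2 (nat_lit 0x20002000)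
 (.cons 4 (nat_lit 0x60808)
 (.cons 8 (nat_lit 0xbc0000)
 (.cons 16 (nat_lit 0x2232)
 .nil)))))))))
noncomputable def a2 : Net := (.cons 16 (nat_lit 0x9b02)
 (.cons 8 (nat_lit 0x20048)
 (.cons 4 (nat_lit 0xc0f0204)
 (.cons 2 (nat_lit 0x12100320)
 (.cons 1 (nat_lit 0x150050)
 (.cons 4 (nat_lit 0x40c0000)
 (.cons 8 (nat_lit 0x96000e)
 (.cons 16 (nat_lit 0x9f1e)
 .nil))))))))
noncomputable def a3 : Net := (.cons 16 (nat_lit 0xcab4)
 (.cons 8 (nat_lit 0xea005e)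
 (.cons 4 (nat_lit 0xe000f0e)
 (.cons 2 (nat_lit 0x22231112)
 (.cons 1 (nat_lit 0x41144100)
 (.cons 2 (nat_lit 0x20220000)
 (.cons 4 (nat_lit 0x6000a0c)
 (.cons 8 (nat_lit 0xa20048)
 (.cons 16 (nat_lit 0xca54)
 .nil)))))))))
noncomputable def a4 : Net := (.cons 16 (nat_lit 0xa60)
 (.cons 8 (nat_lit 0x2700c0)
 (.cons 4 (nat_lit 0x2000308)
 (.cons 2 (nat_lit 0x3003000)
 (.cons 1 (nat_lit 0x1411040)
 (.cons 2 (nat_lit 0x20000)
 (.cons 4 (nat_lit 0x80200)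
 (.cons 8 (nat_lit 0x2c00c0)
 (.cons 16 (nat_lit 0xba0)
 .nil)))))))))
noncomputable def a5 : Net := (.cons 16 (nat_lit 0x2000)
 (.cons 8 (nat_lit 0xe100c2)
 (.cons 4 (nat_lit 0x4020c02)
 (.cons 2 (nat_lit 0x32210)
 (.cons 1 (nat_lit 0x40001410)
 (.cons 2 (nat_lit 0x2020)
 (.cons 4 (nat_lit 0x402)
 (.cons 8 (nat_lit 0xe00090)
 (.cons 16 (nat_lit 0x2000)
 .nil)))))))))
noncomputable def a6 : Net := (.cons 16 (nat_lit 0xcb68)
 (.cons 8 (nat_lit 0xa60040)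
 (.cons 4 (nat_lit 0x40e0700)
 (.cons 2 (nat_lit 0x21101200)
 (.cons 1 (nat_lit 0x44140400)
 (.cons 2 (nat_lit 0x20000200)
 (.cons 4 (nat_lit 0x6060400)
 (.cons 8 (nat_lit 0xa00040)
 (.cons 16 (nat_lit 0xcb68)
 .nil)))))))))
noncomputable def a7 : Net := (.cons 16 (nat_lit 0x2000)
 (.cons 8 (nat_lit 0xca001c)
 (.cons 4 (nat_lit 0x50c04)
 (.cons 2 (nat_lit 0x2100130)
 (.cons 1 (nat_lit 0x44000414)
 (.cons 2 (nat_lit 0x20000020)
 (.cons 4 (nat_lit 0x40c04)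
 (.cons 8 (nat_lit 0xca0014)
 (.cons 16 (nat_lit 0x2000)
 .nil)))))))))
noncomputable def ns0 : List Net := [a0, a1]
noncomputable def ws : List (List ℕ) :=
  [W (nat_lit 0x40401002),
  W (nat_lit 0x8040080300401),
  W (nat_lit 0x501c0602005),
  W (nat_lit 0x80140502006),
  W (nat_lit 0x50200602005),
  W (nat_lit 0x240e)]
noncomputable def ns : List Net := [a0, a1, a2, a3, a4, a5, a6, a7]
noncomputable def D : List (ℕ × List ℕ) := app [] (mkDefs ws 2)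
noncomputable def chk : List (List ℕ × List ℕ) → Bool := P.relsB ns
noncomputable def G_v0 : Lev :=
  ⟨0, 27, sg (W (nat_lit 0x100c0100c0100c0100c01)), [[4], [6]], 0, 2⟩
noncomputable def G_v1 : Lev :=
  ⟨2, 10, sg (W (nat_lit 0x1c0501c05)), [[8], [10], [12]], 2, 3⟩
noncomputable def G_v2 : Lev :=
  ⟨1, 8, sg (W (nat_lit 0xb0240d0240b)), [[8], [12]], 5, 0⟩
noncomputable def G_v3 : Lev :=
  ⟨5, 4, sg (W (nat_lit 0xd02409)), [[14]], 5, 1⟩
noncomputable def G_v4 : Lev :=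
  ⟨3, 3, sg (W (nat_lit 0x3c0f)), [], 6, 0⟩
noncomputable def G_vs5 : List Lev :=
  []
noncomputable def G_vs4 : List Lev :=
  G_v4 :: G_vs5
noncomputable def G_vs3 : List Lev :=
  G_v3 :: G_vs4
noncomputable def G_vs2 : List Lev :=
  G_v2 :: G_vs3
noncomputable def G_vs1 : List Lev :=
  G_v1 :: G_vs2
noncomputable def G_vs : List Lev :=
  G_v0 :: G_vs1

theorem zc0 : P.chainB ns D G_vs [[0], [2]] = true := by decide +kernel
theorem zk1 : allL (keepB P.n P.N) ns0 = true := by decide +kernel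
theorem ze2 : extB ns0 ns 2 ws [] = true := by decide +kernel
theorem zn3 : P.netsB ns (mkDefs ws 2) = true := by decide +kernel

section
variable {G X : Type*} [Group G] [MulAction G X] {e : ℕ → X} {gs : List G}

theorem keep0 : allL (keepB P.n P.N) ns0 = true := zk1

theorem len {k} (c : Ctx P e gs ns0 [] k) : gs.length = 2 := c.len ze2

theorem ctx0 {k} (c : Ctx P e gs ns0 [] k) : Ctx P e (ext gs ws) ns D chk0 :=
  c.ext rfl ze2 zn3

theorem ctx {k} (c : Ctx P e gs ns0 [] k) {H : Subgroup G} (hF : Faithful e P.n H) (hH : ∀ g ∈ gs, g ∈ H) :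
    Ctx P e (ext gs ws) ns D chk :=
  (ctx0 c).withB hF (mem_of_mem_ext hH _)

instance instNe : NeZero P.n := ⟨by decide⟩
noncomputable def gs0 : List (Equiv.Perm (Fin P.n)) := permsOf P.n P.N ns0
noncomputable def gs1 : List (Equiv.Perm (Fin P.n)) := ext gs0 ws
theorem c1 : Ctx P (eF P.n) gs1 ns D chk :=
  ctx (ctx_permsOf hP keep0) (faithful_eF _) fun _ _ => trivial

theorem G_c : P.chainB ns D G_vs [[0], [2]] = true :=
  zc0

theorem G_o : prodL G_vs 1 = 25920 := by decide +kernel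

theorem G_lb (c : Ctx P e gs ns D chk) :
    LB (subW gs [[0], [2]]) 25920 :=
  c.lb G_c G_o

end
end CL.O6mAut.Aux.T

namespace CL.O6mAut.Aux.S
open CL.PG

def P : Par := ⟨67, 80, 7, 3⟩
theorem hP : P.Ok := by decide
noncomputable def a0 : Net := (.cons 40 (nat_lit 0xfff8000000)
 (.cons 20 (nat_lit 0xd0a1f00000f34c0)
 (.cons 10 (nat_lit 0x1f3000bd0038100168)
 (.cons 5 (nat_lit 0x7c13054180381102014)
 (.cons 1 (nat_lit 0x21000000000100020)
 (.cons 1 (nat_lit 0x10042020000000200040)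
 (.cons 1 (nat_lit 0x290a5290050000428080)
 (.cons 1 (nat_lit 0x5214a528420004a12100)
 (.cons 1 (nat_lit 0x28420290a120485200a1)
 (.cons 5 (nat_lit 0x6000008020280c02814)
 (.cons 10 (nat_lit 0x130000ba003840017a)
 (.cons 20 (nat_lit 0x762c800000f34a8)
 (.cons 40 (nat_lit 0xfff8000000)
 .nil)))))))))))))
noncomputable def a1 : Net := (.cons 40 (nat_lit 0xfff8000000)
 (.cons 20 (nat_lit 0x53b5e0000052250)
 (.cons 10 (nat_lit 0x3630005c0004800150)
 (.cons 5 (nat_lit 0x580103c0d0200307c09)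
 (.cons 1 (nat_lit 0x80800000000000)
 (.cons 1 (nat_lit 0x200a5014a0000000800)
 (.cons 1 (nat_lit 0x29004290a500000014a1)
 (.cons 1 (nat_lit 0x5290a521420000a12842)
 (.cons 1 (nat_lit 0x28481080250000101021)
 (.cons 5 (nat_lit 0x2014070000001002008)
 (.cons 10 (nat_lit 0x130000800004000150)
 (.cons 20 (nat_lit 0x251620000052210)
 (.cons 40 (nat_lit 0xfff8000000)
 .nil)))))))))))))
noncomputable def a2 : Net := (.cons 40 (nat_lit 0xfff8000000)
 (.cons 20 (nat_lit 0xf08f90000054eb4)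
 (.cons 10 (nat_lit 0x198003cf0021400374)
 (.cons 5 (nat_lit 0x500a018120680400018)
 (.cons 1 (nat_lit 0x4000000000000)
 (.cons 1 (nat_lit 0x2409480080000002)
 (.cons 1 (nat_lit 0x214a52948501005080a4)
 (.cons 1 (nat_lit 0x408421294a0200a12048)
 (.cons 1 (nat_lit 0x10a0090a100400210a4)
 (.cons 5 (nat_lit 0x7802070000680400018)
 (.cons 10 (nat_lit 0x1600020600378)
 (.cons 20 (nat_lit 0x2962a0000054e8e)
 (.cons 40 (nat_lit 0xfff8000000)
 .nil)))))))))))))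
noncomputable def a3 : Net := (.cons 40 (nat_lit 0xfff8000000)
 (.cons 20 (nat_lit 0x3a9ca00000f368c)
 (.cons 10 (nat_lit 0x3cf002ff0029e00066)
 (.cons 5 (nat_lit 0x141706414068080400a)
 (.cons 1 (nat_lit 0x4000000000000)
 (.cons 1 (nat_lit 0x408085084a5010050000)
 (.cons 1 (nat_lit 0x21404290a4210a1200a0)
 (.cons 1 (nat_lit 0x528425204a5294250840)
 (.cons 1 (nat_lit 0x2908508020014a108080)
 (.cons 5 (nat_lit 0x30100400a070080400a)
 (.cons 10 (nat_lit 0xd60007c0029200074)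
 (.cons 20 (nat_lit 0xf608200000f36cc)
 (.cons 40 (nat_lit 0xfff8000000)
 .nil)))))))))))))
noncomputable def a4 : Net := (.cons 40 (nat_lit 0xdcd8000000)
 (.cons 20 (nat_lit 0x48b7a0000033620)
 (.cons 10 (nat_lit 0x334001d600018003c2)
 (.cons 5 (nat_lit 0x7808034000101800000)
 (.cons 1 (nat_lit 0x1404080000040100000)
 (.cons 1 (nat_lit 0x280a120400280a02002)
 (.cons 1 (nat_lit 0x21425214a10108401004)
 (.cons 1 (nat_lit 0x4294a5084a1284a4280a)
 (.cons 1 (nat_lit 0x29424094a10048129080)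
 (.cons 5 (nat_lit 0x7808040000101805008)
 (.cons 10 (nat_lit 0x334001d40001800258)
 (.cons 20 (nat_lit 0x48b3a0000033600)
 (.cons 40 (nat_lit 0xdcd8000000)
 .nil)))))))))))))
noncomputable def a5 : Net := (.cons 20 (nat_lit 0x100dc0000000d80)
 (.cons 10 (nat_lit 0x40000da00200000f4)
 (.cons 5 (nat_lit 0x40140c0500c02402)
 (.cons 1 (nat_lit 0x200000000000)
 (.cons 1 (nat_lit 0xa1204a0000052140)
 (.cons 1 (nat_lit 0x4290852908029484)
 (.cons 1 (nat_lit 0xa50902120481094a)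
 (.cons 1 (nat_lit 0x2529424280a409000)
 (.cons 5 (nat_lit 0x10000500c00810)
 (.cons 10 (nat_lit 0x1e800300001f4)
 (.cons 20 (nat_lit 0x100dc0000040c90)
 .nil)))))))))))
noncomputable def a6 : Net := (.cons 40 (nat_lit 0xdcd8000000)
 (.cons 20 (nat_lit 0x569040000062080)
 (.cons 10 (nat_lit 0x3d8003710036800060)
 (.cons 5 (nat_lit 0x5018054070600c02808)
 (.cons 1 (nat_lit 0x28000004200000008000)
 (.cons 1 (nat_lit 0x508005294a1000052940)
 (.cons 1 (nat_lit 0x29404214a42900521480)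
 (.cons 1 (nat_lit 0x509085294a1200a52940)
 (.cons 1 (nat_lit 0x29425204242908528000)
 (.cons 5 (nat_lit 0x5018050060600c02800)
 (.cons 10 (nat_lit 0x3d8001000036800060)
 (.cons 20 (nat_lit 0x169040000062080)
 (.cons 40 (nat_lit 0xdcd8000000)
 .nil)))))))))))))
noncomputable def a7 : Net := (.cons 40 (nat_lit 0xdcd8000000)
 (.cons 20 (nat_lit 0xe3e3b000001b7c0)
 (.cons 10 (nat_lit 0x1da0016e001d00006c)
 (.cons 5 (nat_lit 0x700b010130101a00010)
 (.cons 1 (nat_lit 0x40842100400200a52000)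
 (.cons 1 (nat_lit 0x2908521480294a421000)
 (.cons 1 (nat_lit 0x1210a509401284a50808)
 (.cons 1 (nat_lit 0x80a021001204a109004)
 (.cons 5 (nat_lit 0x2000030100101a00010)
 (.cons 10 (nat_lit 0xe001d80006c)
 (.cons 20 (nat_lit 0x3be00000001b7c0)
 (.cons 40 (nat_lit 0xdcd8000000)
 .nil))))))))))))
noncomputable def a8 : Net := (.cons 40 (nat_lit 0xdcd8000000)
 (.cons 20 (nat_lit 0x7883100000f2200)
 (.cons 10 (nat_lit 0x3910012200140001c8)
 (.cons 5 (nat_lit 0x3c04044140000e04808)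
 (.cons 1 (nat_lit 0x80000000008000)
 (.cons 1 (nat_lit 0x100001000010800)
 (.cons 1 (nat_lit 0x84200802000421400)
 (.cons 1 (nat_lit 0x290a500484000250900)
 (.cons 1 (nat_lit 0x14a4084a52008508080)
 (.cons 5 (nat_lit 0x380a020140000e05008)
 (.cons 10 (nat_lit 0x3200034000148001c8)
 (.cons 20 (nat_lit 0xacdc000000f2200)
 (.cons 40 (nat_lit 0xdcd8000000)
 .nil)))))))))))))
noncomputable def ns0 : List Net := [a0, a1]
noncomputable def ws : List (List ℕ) :=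
  [W (nat_lit 0x100400802),
  W (nat_lit 0x101002),
  W (nat_lit 0x601c0701405),
  W (nat_lit 0x70140502008),
  W (nat_lit 0x200801408),
  W (nat_lit 0xc0280b0280b),
  W (nat_lit 0x3810)]
noncomputable def ns : List Net := [a0, a1, a2, a3, a4, a5, a6, a7, a8]
noncomputable def D : List (ℕ × List ℕ) := app [] (mkDefs ws 2)
noncomputable def chk : List (List ℕ × List ℕ) → Bool := P.relsB ns
noncomputable def zt0 : List ℕ :=
  []
noncomputable def zcj1 : List (List ℕ) :=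
  []
noncomputable def zus4 : List (List ℕ) :=
  [[13],
  [15],
  W (nat_lit 0x3812)]
noncomputable def zF5 : List (List (ℕ × List ℕ)) :=
  [[(1, []),
   (0, []),
   (3, [17]),
   (2, [16])],
  [(1, [17]),
   (2, [16]),
   (0, []),
   (3, [17])]]
noncomputable def zus8 : List (List ℕ) :=
  [[8],
  [11],
  W (nat_lit 0x240d),
  W (nat_lit 0x240f),
  W (nat_lit 0x2411),
  W (nat_lit 0x903409),
  W (nat_lit 0x3011)]
noncomputable def zF9 : List (List (ℕ × List ℕ)) :=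
  [[(1, []),
   (0, []),
   (4, W (nat_lit 0x480e)),
   (6, []),
   (2, [15]),
   (7, W (nat_lit 0x480e)),
   (3, []),
   (5, [15])],
  [(1, W (nat_lit 0x480e)),
   (2, [15]),
   (0, []),
   (5, W (nat_lit 0x440e)),
   (4, W (nat_lit 0x480e)),
   (6, []),
   (3, W (nat_lit 0x3812)),
   (7, [17])],
  [(0, [13]),
   (3, []),
   (5, W (nat_lit 0x4810)),
   (1, []),
   (4, W (nat_lit 0x4810)),
   (2, W (nat_lit 0x4810)),
   (6, [13]),
   (7, W (nat_lit 0x4810))]]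
noncomputable def zus12 : List (List ℕ) :=
  [[4],
  [5],
  [6],
  [7],
  W (nat_lit 0x1407),
  W (nat_lit 0x1808),
  W (nat_lit 0x1409),
  W (nat_lit 0x180d),
  W (nat_lit 0x140c)]
noncomputable def zF13 : List (List (ℕ × List ℕ)) :=
  [[(1, []),
   (4, W (nat_lit 0x1003011)),
   (0, []),
   (6, W (nat_lit 0x11038120240f)),
   (5, W (nat_lit 0x440e0240d)),
   (2, W (nat_lit 0x4410)),
   (8, W (nat_lit 0x3812)),
   (3, [11]),
   (9, W (nat_lit 0x400c)),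
   (7, W (nat_lit 0x48100240f))],
  [(3, []),
   (5, []),
   (1, W (nat_lit 0x481002411)),
   (8, W (nat_lit 0x1104009)),
   (0, []),
   (9, W (nat_lit 0x1103011)),
   (2, []),
   (4, W (nat_lit 0x481002411)),
   (7, []),
   (6, W (nat_lit 0x48100240f))]]
noncomputable def zus16 : List (List ℕ) :=
  [[0],
  [1],
  [2],
  [3],
  W (nat_lit 0x401),
  W (nat_lit 0x802),
  W (nat_lit 0x803),
  W (nat_lit 0x804),
  W (nat_lit 0xc01),
  W (nat_lit 0x808),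
  W (nat_lit 0xc03),
  W (nat_lit 0x1001),
  W (nat_lit 0x408),
  W (nat_lit 0x1008),
  W (nat_lit 0x10180f),
  W (nat_lit 0x40c),
  W (nat_lit 0x406),
  W (nat_lit 0xc06),
  W (nat_lit 0xc08),
  W (nat_lit 0x407),
  W (nat_lit 0xc05),
  W (nat_lit 0x102003),
  W (nat_lit 0xc07),
  W (nat_lit 0x100407),
  W (nat_lit 0x1006),
  W (nat_lit 0x301808)]
noncomputable def zF17 : List (List (ℕ × List ℕ)) :=
  [[(1, []),
   (5, []),
   (0, []),
   (9, []),
   (12, []),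
   (6, []),
   (2, []),
   (16, W (nat_lit 0x440904408)),
   (17, W (nat_lit 0x480e0480c)),
   (7, W (nat_lit 0x100241101409)),
   (3, []),
   (18, W (nat_lit 0xe0240d02406)),
   (14, W (nat_lit 0x110240d02407)),
   (4, [5]),
   (21, W (nat_lit 0x1203812024110180d)),
   (8, W (nat_lit 0x381202405)),
   (10, W (nat_lit 0x11038090340901409)),
   (25, W (nat_lit 0x44100240f01409)),
   (22, W (nat_lit 0x11038120241101808)),
   (19, W (nat_lit 0x904408)),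
   (11, [5]),
   (13, [4]),
   (23, W (nat_lit 0x120380904405)),
   (20, W (nat_lit 0x1002407)),
   (15, W (nat_lit 0x480e03007)),
   (24, W (nat_lit 0x480e0180d)),
   (26, W (nat_lit 0x11038120240d0140c))],
  [(3, []),
   (1, [7]),
   (7, []),
   (11, []),
   (0, []),
   (4, [5]),
   (14, W (nat_lit 0x903c08)),
   (10, W (nat_lit 0x12040090180d)),
   (2, []),
   (19, W (nat_lit 0x904408)),
   (18, W (nat_lit 0x1002408)),
   (5, [4]),
   (21, W (nat_lit 0x1203812024110180d)),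
   (22, []),
   (17, W (nat_lit 0x11038120180d)),
   (6, W (nat_lit 0x3812030110180d)),
   (16, W (nat_lit 0x380903c06)),
   (25, W (nat_lit 0x110381203008)),
   (8, W (nat_lit 0x100241101409)),
   (12, W (nat_lit 0x100241101409)),
   (9, W (nat_lit 0x1103808)),
   (20, W (nat_lit 0x120380901407)),
   (26, W (nat_lit 0x110381203008)),
   (13, W (nat_lit 0x1204009)),
   (23, W (nat_lit 0x380903c05)),
   (15, W (nat_lit 0x12040090180d)),
   (24, W (nat_lit 0x120381201409))]]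
noncomputable def zE20 : Net :=
  .nil
noncomputable def zK21 : Lk :=
  ⟨zE20, 1, 3, 1⟩
noncomputable def zE24 : Net :=
  (.cons 40 (nat_lit 0x7ffffff)
 (.cons 20 (nat_lit 0xfff80)
 (.cons 10 (nat_lit 0x7f0007f)
 (.cons 5 (nat_lit 0x701c0701c)
 (.cons 1 (nat_lit 0x1084210842)
 (.cons 1 (nat_lit 0x294a5294a5)
 (.cons 1 (nat_lit 0x5294a5294a)
 (.cons 1 (nat_lit 0x2108421084)
 .nil))))))))
noncomputable def zK25 : Lk :=
  ⟨zE24, 1, 3, 1⟩

theorem zb2 : bnd (pcB D [] 3 zt0 zcj1) (leB (app D []) [[16]] ([16] :: [])) = true := by decide +kernel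
theorem zr3 : chk (pcR [] [16] 3 zt0 zcj1) = true := by decide +kernel
theorem zb6 : schB D [[13], [14]] [[16]] zus4 zF5 4 = true := by decide +kernel
theorem zr7 : chk (schR [[13], [14]] zus4 zF5) = true := by decide +kernel
theorem zb10 : schB D [[8], [10], [12]] [[13], [14]] zus8 zF9 8 = true := by decide +kernel
theorem zr11 : chk (schR [[8], [10], [12]] zus8 zF9) = true := by decide +kernel
theorem zb14 : schB D [[4], [6]] [[8], [10], [12]] zus12 zF13 10 = true := by decide +kernel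
theorem zr15 : chk (schR [[4], [6]] zus12 zF13) = true := by decide +kernel
theorem zb18 : schB D [[0], [2]] [[4], [6]] zus16 zF17 27 = true := by decide +kernel
theorem zr19 : chk (schR [[0], [2]] zus16 zF17) = true := by decide +kernel
theorem zl22 : zK21.relB CL.O6mAut.Aux.S.P CL.O6mAut.Aux.T.P CL.O6mAut.Aux.S.ns [[0], [2]] [[0], [2]] = true := by decide +kernel
theorem zl23 : allL (zK21.pl CL.O6mAut.Aux.S.P CL.O6mAut.Aux.T.P CL.O6mAut.Aux.S.ns CL.O6mAut.Aux.T.ns 0) (zp [] [[0], [2]] [[0], [2]]) = true := by decide +kernel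
theorem zl26 : zK25.relB CL.O6mAut.Aux.S.P CL.Std.U42.P CL.O6mAut.Aux.S.ns [[0], [2]] [[0], [2]] = true := by decide +kernel
theorem zl27 : allL (zK25.pl CL.O6mAut.Aux.S.P CL.Std.U42.P CL.O6mAut.Aux.S.ns CL.Std.U42.ns 0) (zp [] [[0], [2]] [[0], [2]]) = true := by decide +kernel
theorem zk28 : allL (keepB P.n P.N) ns0 = true := by decide +kernel
theorem ze29 : extB ns0 ns 2 ws [] = true := by decide +kernel
theorem zn30 : P.netsB ns (mkDefs ws 2) = true := by decide +kernel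

section
variable {G X : Type*} [Group G] [MulAction G X] {e : ℕ → X} {gs : List G}

theorem keep0 : allL (keepB P.n P.N) ns0 = true := zk28

theorem len {k} (c : Ctx P e gs ns0 [] k) : gs.length = 2 := c.len ze29

theorem ctx0 {k} (c : Ctx P e gs ns0 [] k) : Ctx P e (ext gs ws) ns D chk0 :=
  c.ext rfl ze29 zn30

theorem ctx {k} (c : Ctx P e gs ns0 [] k) {H : Subgroup G} (hF : Faithful e P.n H) (hH : ∀ g ∈ gs, g ∈ H) :
    Ctx P e (ext gs ws) ns D chk :=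
  (ctx0 c).withB hF (mem_of_mem_ext hH _)

instance instNe : NeZero P.n := ⟨by decide⟩
noncomputable def gs0 : List (Equiv.Perm (Fin P.n)) := permsOf P.n P.N ns0
noncomputable def gs1 : List (Equiv.Perm (Fin P.n)) := ext gs0 ws
theorem c1 : Ctx P (eF P.n) gs1 ns D chk :=
  ctx (ctx_permsOf hP keep0) (faithful_eF _) fun _ _ => trivial

theorem G_u4 (c : Ctx P e gs ns D chk) :
    UB (subW gs [[16]]) 3 :=
  (c.pc_step (UB.nil gs) (Rels.nil _)
    (c.rels _ zr3) zb2).le (by decide)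

theorem G_u3 (c : Ctx P e gs ns D chk) :
    UB (subW gs [[13], [14]]) 12 :=
  (c.sch_step (G_u4 c)
    (c.rels _ zr7) zb6).le (by decide)

theorem G_u2 (c : Ctx P e gs ns D chk) :
    UB (subW gs [[8], [10], [12]]) 96 :=
  (c.sch_step (G_u3 c)
    (c.rels _ zr11) zb10).le (by decide)

theorem G_u1 (c : Ctx P e gs ns D chk) :
    UB (subW gs [[4], [6]]) 960 :=
  (c.sch_step (G_u2 c)
    (c.rels _ zr15) zb14).le (by decide)

theorem G_u0 (c : Ctx P e gs ns D chk) :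
    UB (subW gs [[0], [2]]) 25920 :=
  (c.sch_step (G_u1 c)
    (c.rels _ zr19) zb18).le (by decide)

theorem G_ub (c : Ctx P e gs ns D chk) :
    UB (subW gs [[0], [2]]) 25920 :=
  (G_u0 c)

theorem toT {Γ Y : Type*} [Group Γ] [MulAction Γ Y] {e' : ℕ → Y} {cs : List Γ} {D₁ D₂ : List (ℕ × List ℕ)}
    {k₁ k₂ : List (List ℕ × List ℕ) → Bool} (c : Ctx CL.O6mAut.Aux.S.P e gs CL.O6mAut.Aux.S.ns D₁ k₁) (c' : Ctx CL.O6mAut.Aux.T.P e' cs CL.O6mAut.Aux.T.ns D₂ k₂)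
    (hF : Faithful e' CL.O6mAut.Aux.T.P.n (subW cs [[0], [2]])) :
    RelLe gs [[0], [2]] cs [[0], [2]] :=
  c.relLe (K := zK21) c' hF zl22 (fun (t : ℕ) (ht : t < 1) => match t, ht with
    | 0, _ => zl23
    | t + 1, h => absurd h (by omega))

theorem toB {Γ Y : Type*} [Group Γ] [MulAction Γ Y] {e' : ℕ → Y} {cs : List Γ} {D₁ D₂ : List (ℕ × List ℕ)}
    {k₁ k₂ : List (List ℕ × List ℕ) → Bool} (c : Ctx CL.O6mAut.Aux.S.P e gs CL.O6mAut.Aux.S.ns D₁ k₁) (c' : Ctx CL.Std.U42.P e' cs CL.Std.U42.ns D₂ k₂)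
    (hF : Faithful e' CL.Std.U42.P.n (subW cs [[0], [2]])) :
    RelLe gs [[0], [2]] cs [[0], [2]] :=
  c.relLe (K := zK25) c' hF zl26 (fun (t : ℕ) (ht : t < 1) => match t, ht with
    | 0, _ => zl27
    | t + 1, h => absurd h (by omega))

theorem rel {Γ Y : Type*} [Group Γ] [MulAction Γ Y] {e' : ℕ → Y} {cs : List Γ} {D₂ : List (ℕ × List ℕ)}
    {k₂ : List (List ℕ × List ℕ) → Bool} (c' : Ctx CL.Std.U42.P e' cs CL.Std.U42.ns D₂ k₂) (hF : Faithful e' CL.Std.U42.P.n (subW cs [[0], [2]])) :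
    RelLe CL.O6mAut.Aux.T.gs1 [[0], [2]] cs [[0], [2]] :=
  ((toT c1 CL.O6mAut.Aux.T.c1 ((faithful_eF _).mono le_top)).symm_of_card (G_ub c1) (CL.O6mAut.Aux.T.G_lb CL.O6mAut.Aux.T.c1)).trans (toB c1 c' hF)

end
end CL.O6mAut.Aux.S

namespace CL.O6mAut
open CL.PG

noncomputable def xa11 : Net := (.cons 16 (nat_lit 0x5e8e)
 (.cons 8 (nat_lit 0xc80060)
 (.cons 4 (nat_lit 0x106020b)
 (.cons 2 (nat_lit 0x23120000)
 (.cons 1 (nat_lit 0x10054105)
 (.cons 2 (nat_lit 0x20002000)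
 (.cons 4 (nat_lit 0xc040202)
 (.cons 8 (nat_lit 0xdc0040)
 (.cons 16 (nat_lit 0x5d52)
 .nil)))))))))
noncomputable def xa12 : Net := (.cons 16 (nat_lit 0x3bf0)
 (.cons 8 (nat_lit 0x4e00a6)
 (.cons 4 (nat_lit 0xb0c040f)
 (.cons 2 (nat_lit 0x21022133)
 (.cons 1 (nat_lit 0x51414101)
 (.cons 2 (nat_lit 0x220002)
 (.cons 4 (nat_lit 0xe0c000a)
 (.cons 8 (nat_lit 0x4e0066)
 (.cons 16 (nat_lit 0x3f7e)
 .nil)))))))))
noncomputable def xa13 : Net := (.cons 16 (nat_lit 0x9706)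
 (.cons 8 (nat_lit 0x68008e)
 (.cons 4 (nat_lit 0xd01020e)
 (.cons 2 (nat_lit 0x3200332)
 (.cons 1 (nat_lit 0x11104404)
 (.cons 2 (nat_lit 0x2202002)
 (.cons 4 (nat_lit 0x4000208)
 (.cons 8 (nat_lit 0xf80080)
 (.cons 16 (nat_lit 0x95c8)
 .nil)))))))))
noncomputable def xa14 : Net := (.cons 16 (nat_lit 0xfc16)
 (.cons 8 (nat_lit 0xc00008)
 (.cons 4 (nat_lit 0x9000000)
 (.cons 2 (nat_lit 0x22320332)
 (.cons 1 (nat_lit 0x44510554)
 (.cons 2 (nat_lit 0x22020002)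
 (.cons 8 (nat_lit 0x800008)
 (.cons 16 (nat_lit 0xf808)
 .nil))))))))
noncomputable def xa15 : Net := (.cons 16 (nat_lit 0x9e18)
 (.cons 8 (nat_lit 0xca0098)
 (.cons 4 (nat_lit 0x9060200)
 (.cons 2 (nat_lit 0x1201220)
 (.cons 1 (nat_lit 0x41515540)
 (.cons 2 (nat_lit 0x20020)
 (.cons 4 (nat_lit 0x40400)
 (.cons 8 (nat_lit 0x440098)
 (.cons 16 (nat_lit 0x9e18)
 .nil)))))))))
noncomputable def xa16 : Net := (.cons 16 (nat_lit 0x861e)
 (.cons 8 (nat_lit 0x800098)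
 (.cons 4 (nat_lit 0x8070d0e)
 (.cons 2 (nat_lit 0x3013010)
 (.cons 1 (nat_lit 0x5041140)
 (.cons 2 (nat_lit 0x22220)
 (.cons 4 (nat_lit 0x80e0208)
 (.cons 8 (nat_lit 0x800098)
 (.cons 16 (nat_lit 0x861e)
 .nil)))))))))
noncomputable def xa17 : Net := (.cons 16 (nat_lit 0x8000)
 (.cons 8 (nat_lit 0x980098)
 (.cons 4 (nat_lit 0xe0e0500)
 (.cons 2 (nat_lit 0x32233300)
 (.cons 1 (nat_lit 0x1400000)
 (.cons 2 (nat_lit 0x2200000)
 (.cons 4 (nat_lit 0xe0e0000)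
 (.cons 8 (nat_lit 0x980098)
 (.cons 16 (nat_lit 0x8000)
 .nil)))))))))
noncomputable def xa18 : Net := (.cons 16 (nat_lit 0x8000)
 (.cons 8 (nat_lit 0x860048)
 (.cons 4 (nat_lit 0x80d020c)
 (.cons 2 (nat_lit 0x3331020)
 (.cons 1 (nat_lit 0x410104)
 (.cons 4 (nat_lit 0x802020c)
 (.cons 8 (nat_lit 0x860048)
 (.cons 16 (nat_lit 0x8000)
 .nil))))))))
noncomputable def xa19 : Net := (.cons 16 (nat_lit 0x4ac)
 (.cons 8 (nat_lit 0x500ec)
 (.cons 4 (nat_lit 0x70008)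
 (.cons 2 (nat_lit 0x312300)
 (.cons 1 (nat_lit 0x1100404)
 (.cons 4 (nat_lit 0x408)
 (.cons 8 (nat_lit 0x4006c)
 (.cons 16 (nat_lit 0x34c)
 .nil))))))))
noncomputable def xa20 : Net := (.cons 16 (nat_lit 0x3c30)
 (.cons 8 (nat_lit 0xff0030)
 (.cons 4 (nat_lit 0x30200)
 (.cons 2 (nat_lit 0x3033000)
 (.cons 4 (nat_lit 0xc000400)
 (.cons 8 (nat_lit 0xf00030)
 (.cons 16 (nat_lit 0x3c30)
 .nil)))))))
noncomputable def xa21 : Net := (.cons 16 (nat_lit 0x552b)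
 (.cons 8 (nat_lit 0x90002)
 (.cons 4 (nat_lit 0x2000204)
 (.cons 2 (nat_lit 0x12022110)
 (.cons 1 (nat_lit 0x11140140)
 (.cons 2 (nat_lit 0x2020000)
 (.cons 4 (nat_lit 0x2020200)
 (.cons 8 (nat_lit 0x480022)
 (.cons 16 (nat_lit 0x5334)
 .nil)))))))))
noncomputable def xa22 : Net := (.cons 16 (nat_lit 0x3fac)
 (.cons 8 (nat_lit 0x3a00bf)
 (.cons 4 (nat_lit 0x50e0f0c)
 (.cons 2 (nat_lit 0x20120000)
 (.cons 1 (nat_lit 0x41105404)
 (.cons 2 (nat_lit 0x22200202)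
 (.cons 4 (nat_lit 0x408020c)
 (.cons 8 (nat_lit 0x30003e)
 (.cons 16 (nat_lit 0x3f9e)
 .nil)))))))))
noncomputable def xa23 : Net := (.cons 16 (nat_lit 0xc586)
 (.cons 8 (nat_lit 0x9800e6)
 (.cons 4 (nat_lit 0xb080706)
 (.cons 2 (nat_lit 0x30033212)
 (.cons 1 (nat_lit 0x44050110)
 (.cons 2 (nat_lit 0x20000200)
 (.cons 4 (nat_lit 0x2080804)
 (.cons 8 (nat_lit 0x5800e6)
 (.cons 16 (nat_lit 0xc580)
 .nil)))))))))
noncomputable def xa24 : Net := (.cons 16 (nat_lit 0xaaa2)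
 (.cons 8 (nat_lit 0xa10038)
 (.cons 4 (nat_lit 0x20c0a0e)
 (.cons 2 (nat_lit 0x1111130)
 (.cons 1 (nat_lit 0x5145044)
 (.cons 2 (nat_lit 0x20020)
 (.cons 4 (nat_lit 0x204080a)
 (.cons 8 (nat_lit 0xc0038)
 (.cons 16 (nat_lit 0xaea2)
 .nil)))))))))
noncomputable def xa25 : Net := (.cons 16 (nat_lit 0x7980)
 (.cons 8 (nat_lit 0x980020)
 (.cons 4 (nat_lit 0x80e020c)
 (.cons 2 (nat_lit 0x3020020)
 (.cons 1 (nat_lit 0x50540114)
 (.cons 2 (nat_lit 0x20020)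
 (.cons 4 (nat_lit 0x80e020c)
 (.cons 8 (nat_lit 0x980020)
 (.cons 16 (nat_lit 0x7980)
 .nil)))))))))
noncomputable def xa26 : Net := (.cons 16 (nat_lit 0x7860)
 (.cons 8 (nat_lit 0x6a0078)
 (.cons 4 (nat_lit 0x5000400)
 (.cons 1 (nat_lit 0x14501400)
 (.cons 4 (nat_lit 0xa0200)
 (.cons 8 (nat_lit 0x220078)
 (.cons 16 (nat_lit 0x7860)
 .nil)))))))
noncomputable def xa27 : Net := (.cons 16 (nat_lit 0x75c2)
 (.cons 8 (nat_lit 0x550048)
 (.cons 4 (nat_lit 0x6020c0a)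
 (.cons 2 (nat_lit 0x10330020)
 (.cons 1 (nat_lit 0x1140400)
 (.cons 2 (nat_lit 0x200200)
 (.cons 4 (nat_lit 0x2020c08)
 (.cons 8 (nat_lit 0x240048)
 (.cons 16 (nat_lit 0x75c2)
 .nil)))))))))
noncomputable def xa28 : Net := (.cons 16 (nat_lit 0x3c30)
 (.cons 8 (nat_lit 0xf0030)
 (.cons 4 (nat_lit 0xf0c0e00)
 (.cons 2 (nat_lit 0x30031200)
 (.cons 4 (nat_lit 0xc000800)
 (.cons 8 (nat_lit 0x30)
 (.cons 16 (nat_lit 0x3c30)
 .nil)))))))
noncomputable def xa29 : Net := (.cons 16 (nat_lit 0x52c0)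
 (.cons 8 (nat_lit 0x460048)
 (.cons 4 (nat_lit 0x50e0e08)
 (.cons 2 (nat_lit 0x1000020)
 (.cons 1 (nat_lit 0x50500)
 (.cons 4 (nat_lit 0x4080800)
 (.cons 8 (nat_lit 0x460048)
 (.cons 16 (nat_lit 0x52c0)
 .nil))))))))
noncomputable def xa30 : Net := (.cons 16 (nat_lit 0x8fe1)
 (.cons 8 (nat_lit 0x9c00f3)
 (.cons 4 (nat_lit 0x1060007)
 (.cons 2 (nat_lit 0x23200001)
 (.cons 1 (nat_lit 0x10414104)
 (.cons 2 (nat_lit 0x20222000)
 (.cons 4 (nat_lit 0x80a0404)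
 (.cons 8 (nat_lit 0x1800b0)
 (.cons 16 (nat_lit 0x88a0)
 .nil)))))))))
noncomputable def xa31 : Net := (.cons 16 (nat_lit 0x9c5a)
 (.cons 8 (nat_lit 0x2b00a4)
 (.cons 4 (nat_lit 0xd050a0a)
 (.cons 2 (nat_lit 0x22200231)
 (.cons 1 (nat_lit 0x41100150)
 (.cons 2 (nat_lit 0x22200200)
 (.cons 4 (nat_lit 0xc00080a)
 (.cons 8 (nat_lit 0xb000a4)
 (.cons 16 (nat_lit 0x9c5a)
 .nil)))))))))
noncomputable def xa32 : Net := (.cons 16 (nat_lit 0x9e78)
 (.cons 8 (nat_lit 0x1d0098)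
 (.cons 4 (nat_lit 0x80b0700)
 (.cons 2 (nat_lit 0x1212120)
 (.cons 1 (nat_lit 0x4001140)
 (.cons 2 (nat_lit 0x2002220)
 (.cons 4 (nat_lit 0x8040800)
 (.cons 8 (nat_lit 0x180098)
 (.cons 16 (nat_lit 0x9e78)
 .nil)))))))))
noncomputable def xa33 : Net := (.cons 16 (nat_lit 0xac31)
 (.cons 8 (nat_lit 0x490063)
 (.cons 4 (nat_lit 0xe08040c)
 (.cons 2 (nat_lit 0x302)
 (.cons 1 (nat_lit 0x5101404)
 (.cons 2 (nat_lit 0x200200)
 (.cons 4 (nat_lit 0x800000c)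
 (.cons 8 (nat_lit 0x4c0020)
 (.cons 16 (nat_lit 0xad30)
 .nil)))))))))
noncomputable def xa34 : Net := (.cons 16 (nat_lit 0xe69)
 (.cons 8 (nat_lit 0xb7000d)
 (.cons 4 (nat_lit 0x400090c)
 (.cons 2 (nat_lit 0x12033202)
 (.cons 1 (nat_lit 0x10040110)
 (.cons 2 (nat_lit 0x20200)
 (.cons 4 (nat_lit 0xc000a08)
 (.cons 8 (nat_lit 0xb2005c)
 (.cons 16 (nat_lit 0xb58)
 .nil)))))))))
noncomputable def xa35 : Net := (.cons 16 (nat_lit 0x9e00)
 (.cons 8 (nat_lit 0xe00001)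
 (.cons 4 (nat_lit 0xc080608)
 (.cons 2 (nat_lit 0x2)
 (.cons 1 (nat_lit 0x11040010)
 (.cons 4 (nat_lit 0x80008)
 (.cons 8 (nat_lit 0xe00000)
 (.cons 16 (nat_lit 0x9e00)
 .nil))))))))
noncomputable def xa36 : Net := (.cons 16 (nat_lit 0x8000)
 (.cons 8 (nat_lit 0x2c0000)
 (.cons 4 (nat_lit 0xd0000)
 (.cons 2 (nat_lit 0x23130000)
 (.cons 4 (nat_lit 0x80000)
 (.cons 8 (nat_lit 0x2c0000)
 (.cons 16 (nat_lit 0x8000)
 .nil)))))))
noncomputable def xws : List (List ℕ) :=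
  [W (nat_lit 0x54110281201804),
  W (nat_lit 0x15044100281200410),
  W (nat_lit 0x601905c17),
  W (nat_lit 0x1a05c190641705c19),
  W (nat_lit 0x1e06c1b06c1e06c1e),
  W (nat_lit 0x781b),
  W (nat_lit 0x6c1e0781c),
  W (nat_lit 0x881f),
  W (nat_lit 0x7c2308820),
  W (nat_lit 0x2709827),
  W (nat_lit 0xa82506c210601c),
  W (nat_lit 0x2707c1c0781706419),
  W (nat_lit 0x2b0b42c),
  W (nat_lit 0x2b0ac2e0b82e),
  W (nat_lit 0x2f0c42f),
  W (nat_lit 0xc8320c830),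
  W (nat_lit 0xc8300c430),
  W (nat_lit 0xd0370dc34),
  W (nat_lit 0xd8370d834),
  W (nat_lit 0x40401002),
  W (nat_lit 0x40080300802),
  W (nat_lit 0x3d0fc3e0fc3e1003e),
  W (nat_lit 0x1003e0fc3e0f840),
  W (nat_lit 0x4410842),
  W (nat_lit 0x108441084310441),
  W (nat_lit 0x12046)]
noncomputable def xns : List Net := [CL.Std.O6m2.a0, CL.Std.O6m2.a1, CL.Std.O6m2.a2, CL.Std.O6m2.a3, CL.Std.O6m2.a4, CL.Std.O6m2.a5, CL.Std.O6m2.a6, CL.Std.O6m2.a7, CL.Std.O6m2.a8, CL.Std.O6m2.a9, CL.Std.O6m2.a10, xa11, xa12, xa13, xa14, xa15, xa16, xa17, xa18, xa19, xa20, xa21, xa22, xa23, xa24, xa25, xa26, xa27, xa28, xa29, xa30, xa31, xa32, xa33, xa34, xa35, xa36]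
noncomputable def xD : List (ℕ × List ℕ) := app CL.Std.O6m2.D (mkDefs xws 11)
noncomputable def xchk : List (List ℕ × List ℕ) → Bool := CL.Std.O6m2.P.relsB xns
noncomputable def xzt0 : List ℕ :=
  []
noncomputable def xzcj1 : List (List ℕ) :=
  []
noncomputable def xzus4 : List (List ℕ) :=
  [[36],
  [38],
  [39]]
noncomputable def xzF5 : List (List (ℕ × List ℕ)) :=
  [[(1, []),
   (0, []),
   (3, [40]),
   (2, [41])],
  [(2, []),
   (1, [41]),
   (3, []),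
   (0, [])]]
noncomputable def xzus8 : List (List ℕ) :=
  [[30],
  [31],
  [32],
  [34],
  W (nat_lit 0x7c1f),
  W (nat_lit 0x7c22),
  W (nat_lit 0x7c29)]
noncomputable def xzF9 : List (List (ℕ × List ℕ)) :=
  [[(1, []),
   (5, []),
   (0, []),
   (2, W (nat_lit 0xa828)),
   (7, [41]),
   (6, W (nat_lit 0xa828)),
   (3, []),
   (4, [])],
  [(3, []),
   (2, W (nat_lit 0xa427)),
   (0, [36]),
   (5, [36]),
   (7, [38]),
   (6, W (nat_lit 0xa427)),
   (1, []),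
   (4, [36])],
  [(4, []),
   (2, [41]),
   (1, [40]),
   (5, [38]),
   (0, []),
   (3, [39]),
   (7, W (nat_lit 0xa425)),
   (6, W (nat_lit 0xa428))]]
noncomputable def xzus12 : List (List ℕ) :=
  [[26],
  [27],
  [28],
  W (nat_lit 0x6c1b),
  W (nat_lit 0x6c1d),
  W (nat_lit 0x701c),
  W (nat_lit 0x701e),
  W (nat_lit 0x6c27),
  W (nat_lit 0x6c21)]
noncomputable def xzF13 : List (List (ℕ × List ℕ)) :=
  [[(1, []),
   (4, []),
   (0, []),
   (7, W (nat_lit 0x2a09c1f)),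
   (6, []),
   (9, [34]),
   (2, []),
   (5, W (nat_lit 0x2a0a020)),
   (3, W (nat_lit 0x2707c1f)),
   (8, W (nat_lit 0x9421))],
  [(3, []),
   (5, []),
   (0, W (nat_lit 0x9420)),
   (7, [32]),
   (8, W (nat_lit 0xa41f)),
   (1, [34]),
   (9, W (nat_lit 0x2507c1f)),
   (2, []),
   (4, W (nat_lit 0xa820)),
   (6, W (nat_lit 0x2707c1f))]]
noncomputable def xzus16 : List (List ℕ) :=
  [[22],
  [23],
  [24],
  [25],
  W (nat_lit 0x5c17),
  W (nat_lit 0x5c19),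
  W (nat_lit 0x6018),
  W (nat_lit 0x5c1c),
  W (nat_lit 0x5c22),
  W (nat_lit 0x5c1d),
  W (nat_lit 0x6419),
  W (nat_lit 0x601b),
  W (nat_lit 0x6818),
  W (nat_lit 0x681a),
  W (nat_lit 0x1705c1a),
  W (nat_lit 0x5c1b),
  W (nat_lit 0x1706419),
  W (nat_lit 0x170701a),
  W (nat_lit 0x5c2a),
  W (nat_lit 0x5c21),
  W (nat_lit 0x1706420),
  W (nat_lit 0x170641f),
  W (nat_lit 0x601c),
  W (nat_lit 0x1706421),
  W (nat_lit 0x641d),
  W (nat_lit 0x6429)]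
noncomputable def xzF17 : List (List (ℕ × List ℕ)) :=
  [[(1, []),
   (5, []),
   (0, []),
   (9, W (nat_lit 0x2907c220701c)),
   (12, W (nat_lit 0x2a0941f0701c)),
   (7, []),
   (10, [34]),
   (2, []),
   (8, W (nat_lit 0xa42707c1f0701c)),
   (16, W (nat_lit 0x2906c21)),
   (3, W (nat_lit 0x280801d)),
   (21, W (nat_lit 0xa81b)),
   (15, W (nat_lit 0x2909423)),
   (4, []),
   (14, W (nat_lit 0x2909c1f0701c)),
   (23, []),
   (6, W (nat_lit 0x2707c2206c21)),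
   (18, W (nat_lit 0x290941f06c27)),
   (25, W (nat_lit 0xa8250841c)),
   (17, W (nat_lit 0x290a02306c21)),
   (19, W (nat_lit 0x94230701c)),
   (26, W (nat_lit 0x2707c1c)),
   (11, W (nat_lit 0x2507c1c)),
   (13, W (nat_lit 0x2508c1d)),
   (22, W (nat_lit 0xa81f0a41b)),
   (20, W (nat_lit 0x2708c1b)),
   (24, W (nat_lit 0x2507c1f0701c))],
  [(3, []),
   (6, []),
   (7, [26]),
   (11, []),
   (0, []),
   (1, W (nat_lit 0x290942306c27)),
   (17, []),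
   (13, W (nat_lit 0xa41d)),
   (2, W (nat_lit 0xa42707c1f0701c)),
   (16, W (nat_lit 0x280841d)),
   (12, W (nat_lit 0xa82506c27)),
   (14, []),
   (21, W (nat_lit 0xa01f0a41c)),
   (18, W (nat_lit 0x2a0801d)),
   (4, []),
   (5, []),
   (24, W (nat_lit 0x290941f0701c)),
   (15, W (nat_lit 0x290a02106c1b)),
   (8, []),
   (9, W (nat_lit 0xa82706c1d)),
   (10, W (nat_lit 0x7c1d)),
   (23, [39]),
   (19, W (nat_lit 0x2708c1d)),
   (20, W (nat_lit 0x200701c)),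
   (22, W (nat_lit 0x2909c21)),
   (25, W (nat_lit 0x2507c2906c21)),
   (26, W (nat_lit 0xa82807c2206c1b))]]
noncomputable def xN_v0 : Lev :=
  ⟨0, 27, sg (W (nat_lit 0x5c1705c1905c1905c1706417)), [[26], [28]], 11, 2⟩
noncomputable def xN_v1 : Lev :=
  ⟨1, 10, sg (W (nat_lit 0x1b06c1d06c1b)), [[30], [32], [34]], 13, 3⟩
noncomputable def xN_v2 : Lev :=
  ⟨3, 8, sg (W (nat_lit 0x8c1f08c1f)), [[36], [38]], 16, 2⟩
noncomputable def xN_v3 : Lev :=
  ⟨5, 4, sg (W (nat_lit 0x2509c25)), [[40]], 18, 1⟩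
noncomputable def xN_v4 : Lev :=
  ⟨9, 3, sg (W (nat_lit 0xa429)), [], 19, 0⟩
noncomputable def xN_vs5 : List Lev :=
  []
noncomputable def xN_vs4 : List Lev :=
  xN_v4 :: xN_vs5
noncomputable def xN_vs3 : List Lev :=
  xN_v3 :: xN_vs4
noncomputable def xN_vs2 : List Lev :=
  xN_v2 :: xN_vs3
noncomputable def xN_vs1 : List Lev :=
  xN_v1 :: xN_vs2
noncomputable def xN_vs : List Lev :=
  xN_v0 :: xN_vs1
noncomputable def xzts21 : List (List ℕ) :=
  [W (nat_lit 0x54110281201804),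
  W (nat_lit 0x15044100281200410)]
noncomputable def xzcj24 : List (List (List ℕ)) :=
  [[W (nat_lit 0x290a02306c1b05c1c), W (nat_lit 0xa42707c2206c1d)],
  [W (nat_lit 0x2a0941b09c19), W (nat_lit 0xa01f0881b07419)]]
noncomputable def xzE27 : Net :=
  (.cons 16 (nat_lit 0x8fd2)
 (.cons 8 (nat_lit 0x700082)
 (.cons 4 (nat_lit 0xb000904)
 (.cons 2 (nat_lit 0x30031230)
 (.cons 1 (nat_lit 0x45041044)
 (.cons 2 (nat_lit 0x20020)
 (.cons 4 (nat_lit 0xe000e04)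
 (.cons 8 (nat_lit 0x7800b6)
 (.cons 16 (nat_lit 0x8b2a)
 .nil)))))))))
noncomputable def xzK28 : Lk :=
  ⟨xzE27, 1, 3, 1⟩
noncomputable def xzts31 : List (List ℕ) :=
  [W (nat_lit 0x350dc310b038),
  W (nat_lit 0xe43c0bc360ac2f)]
noncomputable def xzts34 : List (List ℕ) :=
  [W (nat_lit 0xa82506c210601c),
  W (nat_lit 0x2707c1c0781706419)]
noncomputable def xzm37 : ℕ :=
  (nat_lit 0x4020000)
noncomputable def xzm38 : ℕ :=
  (nat_lit 0x210)
noncomputable def xcen_F : List (List ℕ × ℕ × ℕ) :=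
  [([0], xzm37, xzm37),
  ([2], xzm38, xzm38)]
noncomputable def xcenG_v0 : Lev :=
  ⟨2, 27, sg (W (nat_lit 0x403004030040300401)), [[60], [62]], 28, 2⟩
noncomputable def xcenG_v1 : Lev :=
  ⟨3, 16, sg (W (nat_lit 0xfc3d0f43f0f43d0fc3d)), [[64], [66]], 30, 2⟩
noncomputable def xcenG_v2 : Lev :=
  ⟨6, 10, sg (W (nat_lit 0x4110c4110c41)), [[68], [70]], 32, 2⟩
noncomputable def xcenG_v3 : Lev :=
  ⟨9, 6, sg (W (nat_lit 0x1144511c45)), [[72]], 34, 1⟩
noncomputable def xcenG_v4 : Lev :=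
  ⟨15, 2, sg [72], [], 35, 0⟩
noncomputable def xcenG_vs5 : List Lev :=
  []
noncomputable def xcenG_vs4 : List Lev :=
  xcenG_v4 :: xcenG_vs5
noncomputable def xcenG_vs3 : List Lev :=
  xcenG_v3 :: xcenG_vs4
noncomputable def xcenG_vs2 : List Lev :=
  xcenG_v2 :: xcenG_vs3
noncomputable def xcenG_vs1 : List Lev :=
  xcenG_v1 :: xcenG_vs2
noncomputable def xcenG_vs : List Lev :=
  xcenG_v0 :: xcenG_vs1
noncomputable def xcen_x : List (ℕ × List ℕ) :=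
  [((nat_lit 0), []),
  ((nat_lit 0), [(nat_lit 0x1e79e78)]),
  ((nat_lit 0), []),
  ((nat_lit 0), []),
  ((nat_lit 0), [])]
noncomputable def xcen_G : Gl :=
  ⟨CL.Std.O6m2.P, xns, (app xD []), (diag [[22], [24]]), [], [], memM (app xD []) [], true⟩
noncomputable def xcen_s : St :=
  ⟨(mkS CL.Std.O6m2.P.n xcenG_vs xcen_x), [[0], [2]], [], mapL Prod.snd xcen_F, memM (app xD []) [], []⟩
noncomputable def xzt42 : ST :=
  (.img [2] 0 (.img [0] 2 (.dif 1 0 (.br 0 [] [] [(2, [])] (.cons (.img (W (nat_lit 0xc02)) 5 (.orb 0 (.img [2] 0 (.and 2 0 (.br 0 [] [] [(3, [])] (.cons (.img [3] 1 (.br 0 [] [] [(6, [])] (.cons (.img [0] 0 (.br 0 [] [] [(9, [])] (.cons (.img [2] 10 (.br 0 [] [] [(15, [])] (.cons .fnd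
 .nil)))
 .nil)))
 .nil)))
 .nil))))))
 .nil)))))

theorem xzb2 : bnd (pcB xD [] 3 xzt0 xzcj1) (leB (app xD []) [[40]] ([40] :: [])) = true := by decide +kernel
theorem xzr3 : xchk (pcR [] [40] 3 xzt0 xzcj1) = true := by decide +kernel
theorem xzb6 : schB xD [[36], [38]] [[40]] xzus4 xzF5 4 = true := by decide +kernel
theorem xzr7 : xchk (schR [[36], [38]] xzus4 xzF5) = true := by decide +kernel
theorem xzb10 : schB xD [[30], [32], [34]] [[36], [38]] xzus8 xzF9 8 = true := by decide +kernel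
theorem xzr11 : xchk (schR [[30], [32], [34]] xzus8 xzF9) = true := by decide +kernel
theorem xzb14 : schB xD [[26], [28]] [[30], [32], [34]] xzus12 xzF13 10 = true := by decide +kernel
theorem xzr15 : xchk (schR [[26], [28]] xzus12 xzF13) = true := by decide +kernel
theorem xzb18 : schB xD [[22], [24]] [[26], [28]] xzus16 xzF17 27 = true := by decide +kernel
theorem xzr19 : xchk (schR [[22], [24]] xzus16 xzF17) = true := by decide +kernel
theorem xzc20 : CL.Std.O6m2.P.chainB xns xD xN_vs [[22], [24]] = true := by decide +kernel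
theorem xzm22 : leB xD xzts21 [[0], [2]] = true := by decide +kernel
theorem xzr23 : xchk (zp [] [[22], [24]] xzts21) = true := by decide +kernel
theorem xzm25 : nrmB xD [[0], [2]] [[22], [24]] xzcj24 = true := by decide +kernel
theorem xzr26 : xchk (nrmR [[0], [2]] [[22], [24]] xzcj24) = true := by decide +kernel
theorem xzl29 : xzK28.relB CL.Std.O6m2.P CL.O6mAut.Aux.T.P CL.O6mAut.xns [[42], [44]] [[0], [2]] = true := by decide +kernel
theorem xzl30 : allL (xzK28.pl CL.Std.O6m2.P CL.O6mAut.Aux.T.P CL.O6mAut.xns CL.O6mAut.Aux.T.ns 0) (zp [] [[42], [44]] [[0], [2]]) = true := by decide +kernel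
theorem xzm32 : leB xD xzts31 [[42], [44]] = true := by decide +kernel
theorem xzr33 : xchk (zp [] [[22], [24]] xzts31) = true := by decide +kernel
theorem xzm35 : leB xD xzts34 [[22], [24]] = true := by decide +kernel
theorem xzr36 : xchk (zp [] [[42], [44]] xzts34) = true := by decide +kernel
theorem xzf39 : CL.Std.O6m2.P.fixXB xns (diag [[22], [24]]) xcen_F = true := by decide +kernel
theorem xzc40 : CL.Std.O6m2.P.chainB xns xD xcenG_vs [[0], [2]] = true := by decide +kernel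
theorem xzs41 : ssB CL.Std.O6m2.P.N xns xD (mkS CL.Std.O6m2.P.n xcenG_vs xcen_x) [[0], [2]] = true := by decide +kernel
theorem xzs43 : xcen_G.chk xzt42 xcen_s none = true := by decide +kernel
theorem xzr44 : xchk (comR [] (mapL Prod.snd (diag [[22], [24]]))) = true := by decide +kernel
theorem xzm45 : leB xD [] [[0], [2]] = true := by decide +kernel
theorem xze46 : extB CL.Std.O6m2.ns xns 11 xws CL.Std.O6m2.D = true := by decide +kernel
theorem xzn47 : CL.Std.O6m2.P.netsB xns (mkDefs xws 11) = true := by decide +kernel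

section
variable {G X : Type*} [Group G] [MulAction G X] {e : ℕ → X} {gs : List G}

theorem xlen {k} (c : Ctx CL.Std.O6m2.P e gs CL.Std.O6m2.ns CL.Std.O6m2.D k) : gs.length = 11 := c.len xze46

theorem xctx0 {k} (c : Ctx CL.Std.O6m2.P e gs CL.Std.O6m2.ns CL.Std.O6m2.D k) : Ctx CL.Std.O6m2.P e (ext gs xws) xns xD chk0 :=
  c.ext rfl xze46 xzn47

theorem xctx {k} (c : Ctx CL.Std.O6m2.P e gs CL.Std.O6m2.ns CL.Std.O6m2.D k) {H : Subgroup G} (hF : Faithful e CL.Std.O6m2.P.n H) (hH : ∀ g ∈ gs, g ∈ H) :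
    Ctx CL.Std.O6m2.P e (ext gs xws) xns xD xchk :=
  (xctx0 c).withB hF (mem_of_mem_ext hH _)

theorem xN_u4 (c : Ctx CL.Std.O6m2.P e gs xns xD xchk) :
    UB (subW gs [[40]]) 3 :=
  (c.pc_step (UB.nil gs) (Rels.nil _)
    (c.rels _ xzr3) xzb2).le (by decide)

theorem xN_u3 (c : Ctx CL.Std.O6m2.P e gs xns xD xchk) :
    UB (subW gs [[36], [38]]) 12 :=
  (c.sch_step (xN_u4 c)
    (c.rels _ xzr7) xzb6).le (by decide)

theorem xN_u2 (c : Ctx CL.Std.O6m2.P e gs xns xD xchk) :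
    UB (subW gs [[30], [32], [34]]) 96 :=
  (c.sch_step (xN_u3 c)
    (c.rels _ xzr11) xzb10).le (by decide)

theorem xN_u1 (c : Ctx CL.Std.O6m2.P e gs xns xD xchk) :
    UB (subW gs [[26], [28]]) 960 :=
  (c.sch_step (xN_u2 c)
    (c.rels _ xzr15) xzb14).le (by decide)

theorem xN_u0 (c : Ctx CL.Std.O6m2.P e gs xns xD xchk) :
    UB (subW gs [[22], [24]]) 25920 :=
  (c.sch_step (xN_u1 c)
    (c.rels _ xzr19) xzb18).le (by decide)

theorem xN_ub (c : Ctx CL.Std.O6m2.P e gs xns xD xchk) :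
    UB (subW gs [[22], [24]]) 25920 :=
  (xN_u0 c)

theorem xN_c : CL.Std.O6m2.P.chainB xns xD xN_vs [[22], [24]] = true :=
  xzc20

theorem xN_o : prodL xN_vs 1 = 25920 := by decide +kernel

theorem xN_ex (c : Ctx CL.Std.O6m2.P e gs xns xD xchk) :
    Exact e CL.Std.O6m2.P.n CL.Std.O6m2.P.N gs xns 1 xN_vs [[22], [24]] :=
  c.exact xN_c xN_o (xN_ub c)

theorem xN_card (c : Ctx CL.Std.O6m2.P e gs xns xD xchk) :
    Nat.card (subW gs [[22], [24]]) = 25920 :=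
  (xN_ex c).card.trans xN_o

theorem xle (c : Ctx CL.Std.O6m2.P e gs xns xD xchk) :
    (subW gs [[22], [24]]) ≤ (subW gs [[0], [2]]) :=
  (c.le_of_rels (ws := [[22], [24]]) (l := [[0], [2]]) (c.rels _ xzr23) xzm22)

theorem xnor (c : Ctx CL.Std.O6m2.P e gs xns xD xchk) (hU : UB (subW gs [[0], [2]]) 51840) :
    (subW gs [[0], [2]]) ≤ Subgroup.normalizer (subW gs [[22], [24]] : Set G) :=
  have hfin : Finite (subW gs [[22], [24]]) := (hU.mono (xle c)).1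
  (c.le_normalizer (cj := xzcj24) hfin (c.rels _ xzr26) xzm25)

theorem xiso_r_T {Γ Y : Type*} [Group Γ] [MulAction Γ Y] {e' : ℕ → Y} {cs : List Γ} {D₁ D₂ : List (ℕ × List ℕ)}
    {k₁ k₂ : List (List ℕ × List ℕ) → Bool} (c : Ctx CL.Std.O6m2.P e gs CL.O6mAut.xns D₁ k₁) (c' : Ctx CL.O6mAut.Aux.T.P e' cs CL.O6mAut.Aux.T.ns D₂ k₂)
    (hF : Faithful e' CL.O6mAut.Aux.T.P.n (subW cs [[0], [2]])) :
    RelLe gs [[42], [44]] cs [[0], [2]] :=
  c.relLe (K := xzK28) c' hF xzl29 (fun (t : ℕ) (ht : t < 1) => match t, ht with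
    | 0, _ => xzl30
    | t + 1, h => absurd h (by omega))

theorem xiso_r {Γ Y : Type*} [Group Γ] [MulAction Γ Y] {e' : ℕ → Y} {cs : List Γ} {D₁ D₂ : List (ℕ × List ℕ)}
    {k₁ k₂ : List (List ℕ × List ℕ) → Bool} (c : Ctx CL.Std.O6m2.P e gs CL.O6mAut.xns D₁ k₁) (c' : Ctx CL.Std.U42.P e' cs CL.Std.U42.ns D₂ k₂)
    (hF : Faithful e' CL.Std.U42.P.n (subW cs [[0], [2]])) :
    RelLe gs [[42], [44]] cs [[0], [2]] :=
  (xiso_r_T c CL.O6mAut.Aux.T.c1 ((faithful_eF _).mono le_top)).trans (CL.O6mAut.Aux.S.rel c' hF)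

theorem xiso_e (c : Ctx CL.Std.O6m2.P e gs xns xD xchk) :
    subW gs (app [[42], [44]] []) = (subW gs [[22], [24]]) :=
  le_antisymm (c.le_of_rels (ws := [[42], [44]]) (l := [[22], [24]]) (c.rels _ xzr36) xzm35) (c.le_of_rels (ws := [[22], [24]]) (l := [[42], [44]]) (c.rels _ xzr33) xzm32)

theorem xiso (c : Ctx CL.Std.O6m2.P e gs xns xD xchk) :
    Nonempty ((subW gs [[22], [24]]) ≃* (subW CL.Std.U42.gs1 [[0], [2]])) :=
  (RelLe.quo' (l := [[42], [44]]) (lQ := []) (xiso_r c CL.Std.U42.c1 ((faithful_eF _).mono le_top)) (by decide) (xiso_e c) (a := 1) (b := 25920) (xN_ub c)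
    (LB.one _) (LB.of_card CL.Std.U42.card)).equiv_nil

theorem xcenG_c : CL.Std.O6m2.P.chainB xns xD xcenG_vs [[0], [2]] = true :=
  xzc40

theorem xcenG_o : prodL xcenG_vs 1 = 51840 := by decide +kernel

theorem xcen (c : Ctx CL.Std.O6m2.P e gs xns xD xchk) (hU : UB (subW gs [[0], [2]]) 51840) :
    (subW gs [[0], [2]]) ⊓ Subgroup.centralizer (subW gs [[22], [24]] : Set G) = (subW gs []) :=
  c.cent (lx := [[22], [24]]) (Rels.nil _) (c.sOk (c.exact xcenG_c xcenG_o hU) xzs41) (fun _ h => by cases h)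
    (c.fixX xzf39) (c.rels _ xzr44) xzm45 xzs43

end
end CL.O6mAut

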