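/-
Standard stabiliser chains of `M24`, `M23`, `M22`, `M21`, `M12`, `M11`, a Sylow 2-subgroup, chains for centralisers and normalisers.
-/
import Cfsg.Agent.Spor.M24Back
import Cfsg.Agent.Spor.M24Simple

set_option autoImplicit false

namespace CL.Spor
open Cfsg MulAction
open scoped Pointwise

/-- A chain for `H ⊓ C(x)`. -/
theorem SChain.cent {H : Subgroup M24} {levels : List (ℕ × List ℕ)} (h : SChain H levels) {X : ℕ} {x : M24}
    (hX : Rep X x) (al : List ℕ) {lv : List (ℕ × List ℕ)} (hT : ∀ t ∈ levelEls lv, Good H t)
    (hc : (allL (fun P => Nat.beq (pmul P X) (pmul X P)) (levelEls lv) &&
      (transOK lv && Nat.beq (lenProd lv) (ubC (pruneConj X X) levels al))) = true) :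
    SChain (H ⊓ Subgroup.centralizer {x}) lv := by
  rw [Bool.and_eq_true] at hc
  exact sChain_of_card (good_inf_all hT (good_centralizer_all hT hX hc.1))
    (h.card_inf_le (pruneOK_centralizer hX) al) hc.2

theorem good_normalizer_all {S X : List ℕ} {H K : Subgroup M24} (hS : ∀ P ∈ S, Good H P) (hX : ∀ P ∈ X, Good K P)
    (hK : K = gen X) {lvK : List (ℕ × List ℕ)} (hL : ∀ t ∈ levelEls lvK, Good K t)
    (h : allL (fun P => allL (fun Q => sift lvK (pconj P Q)) X) S = true) :
    ∀ P ∈ S, Good (Subgroup.normalizer (K : Set M24)) P := fun P hP => (hS P hP).of_rep fun g hg => by
  apply Subgroup.mem_normalizer_fintype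
  intro n hn
  have : gen X ≤ K.comap (MulAut.conj g).toMonoidHom := gen_le_of fun Q hQ =>
    mem_of_sift hL (hg.conj (hX Q hQ).rep) ((allL_iff _ _).1 ((allL_iff _ _).1 h P hP) Q hQ)
  exact this (hK ▸ hn)

/-- A chain for `H ⊓ N(K)`. -/
theorem SChain.norm {H K : Subgroup M24} {levels lvK : List (ℕ × List ℕ)} (h : SChain H levels) (hK : SChain K lvK)
    {X : List ℕ} (hX : ∀ P ∈ X, Good K P) (e : K = gen X) (al : List ℕ) {lv : List (ℕ × List ℕ)}
    (hT : ∀ t ∈ levelEls lv, Good H t)
    (hc : (allL (fun P => allL (fun Q => sift lvK (pconj P Q)) X) (levelEls lv) &&
      (transOK lv && Nat.beq (lenProd lv) (ubC (pruneNorm X (prods lvK pone)) levels al))) = true) :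
    SChain (H ⊓ Subgroup.normalizer (K : Set M24)) lv := by
  rw [Bool.and_eq_true] at hc
  exact sChain_of_card (good_inf_all hT (good_normalizer_all hT hX e hK.1 hc.1))
    (h.card_inf_le (pruneOK_normalizer hK hX) al) hc.2

/-- A chain for `H ⊓ K` when `K` stabilises a set. -/
theorem SChain.stab {H : Subgroup M24} {levels : List (ℕ × List ℕ)} (h : SChain H levels) (A : ℕ) (al : List ℕ)
    {lv : List (ℕ × List ℕ)} (hT : ∀ t ∈ levelEls lv, Good H t)
    (hc : (allL (fixesMask A) (levelEls lv) &&
      (transOK lv && Nat.beq (lenProd lv) (ubC (pruneSet A A) levels al))) = true) :
    SChain (H ⊓ stabilizer M24 (ofMask A)) lv := by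
  rw [Bool.and_eq_true] at hc
  exact sChain_of_card (good_inf_all hT (good_stab_all hT hc.1)) (h.card_inf_le (pruneOK_set A A) al) hc.2

/-- The powers of `X` below `n`. -/
def powL (X n : ℕ) : List ℕ := Nat.rec (motive := fun _ => List ℕ) [] (fun k ih => ppow X k :: ih) n

theorem gen_singleton {X : ℕ} {x : M24} (hX : Rep X x) : gen [X] = Subgroup.zpowers x := by
  rw [Subgroup.zpowers_eq_closure, gen]
  congr 1; ext g; simp [hX.m24_eq, eq_comm]

/-- A chain for a cyclic group acting regularly on the orbit of `b`. -/
theorem sChain_zpowers {X : ℕ} {x : M24} (hX : Rep X x) (b n : ℕ)
    (hc : (Nat.blt 0 n && Nat.beq (ppow X n) pone && (transOK [(b, powL X n)] && Nat.beq (lenProd [(b, powL X n)]) n)) = true) :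
    SChain (Subgroup.zpowers x) [(b, powL X n)] := by
  simp only [Bool.and_eq_true, Nat.blt_eq, Nat.beq_eq] at hc
  refine sChain_of_card (n := n) ?_ ?_ (by simp [hc.2.1, hc.2.2])
  · intro t ht
    simp only [levelEls, List.flatMap_cons, List.flatMap_nil, List.append_nil] at ht
    clear hc
    induction n with
    | zero => exact absurd ht List.not_mem_nil
    | succ n ih =>
      rcases List.mem_cons.1 ht with rfl | h
      · exact ⟨_, Subgroup.npow_mem_zpowers x n, hX.pow n⟩
      · exact ih h
  · rw [Nat.card_zpowers]
    exact orderOf_le_of_pow_eq_one hc.1.1 ((hX.pow n).eq_one_iff.2 hc.1.2)

/-- Transversals for `M24` along the base 23, 0, 1, 2, 3, 4, 5. -/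
def lev4 : List (ℕ × List ℕ) := [(3, [984818244535754528103549039458486304, 966397621084152595608325226481453088, 962654717146601952860492594140416032, 980265909220069859677694670457407520, 967580415455907411547662912282200096, 967533375121106613322417967324629024, 968872432538788898982988797877782560, 968532857005385255703650877663938592, 961438956620049001677386430328277024, 962777000747920840872496531720308768, 962048816021373442269272382190618656, 977907830335508552949836225316587552, 982808773341904765705022018148436000, 984152521142423989020434227495831584, 960785919081584708915034718552426528, 973850004901741047217770226592942112, 984765860546999731135528508597635104, 983471585922102326481708649960179744, 959578120397050514953330268730329120, 964893147800140956117251750996838432]), (4, [984818244535754528103549039458486304, 980224387687010295957922729495201824, 983548720921252936276249910206105632, 970452748381697609285226999098476576, 961365507626256404119956257276790816, 969836898326968551397880902883313696, 980504394422866046962412236452235296, 966320096358733541442380578386184224, 975754295934893126319599781779965984, 981515887986994088769278604842469408, 967365292857695660364575527991871520,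 961029066359601346093702817927759904, 961409415667826064667231448532617248, 970499966350631336865513127433832480, 968621477650857569167789942210922528, 983141956895601025126892051911247904]), (5, [984818244535754528103549039458486304, 972606645568131968584696805283956768, 976531636853126291160407323722221600])]
/-- Chain for the stabiliser of 23, 0, 1. -/
def lev21 : List (ℕ × List ℕ) := (2, [984818244535754528103549039458486304, 961451473457327126373651706543691808, 964027098713572261962713007850236960, 973129038507987372337956543483187232, 977015854930633561025845978932189216, 971579599964551962271536671874523168, 978247736248214350438409123420148768, 982832783013667702865630566725012512, 980944029307052241309036660937511968, 960913644681461285738649396795913248, 960151849278938658875892025723864096, 973118495085256912663907979333126176, 965260602552495883198084326952751136, 976318200436464710930331823099001888, 963946486094786600336433774225695776, 974432308492534802918113927734312992, 970277136640536453610607335742582816, 958841381276149778643981481106705440, 974341187302716677775568738813516832, 975363545323594129433079093901600800, 962181845043238178553987166895224864]) :: lev4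
/-- Chain for the stabiliser of 23, 0. -/
def lev22 : List (ℕ × List ℕ) := (1, [984818244535754528103549039458486304, 974380510768821363662145534143076928, 977864963184960973661438897150854272, 962655308690997926317267911717752160, 977597189294346115073206437232751872, 984633991584221928053342715412370080, 972605142918315000989262695742578144, 974066035770039457865611192360354112, 974012871389369661617401880943637792, 969952412052033243847481939299780672, 963551588333871290335261031600293280, 984758576739964327947256796468708864, 972392832075230256283955293757506944, 984678545626792765479467354487784992, 977795241832441748803068622745470560, 976535129397661303907965836336992448, 961441402210608949204404363461116544, 963925441115628586956513487221047520, 983336000593242288124043344059412160, 976450507762037318365588509891310016, 970459441140208725215989223498786976, 984251204390997783315264886502738016]) :: lev21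
/-- Chain for the stabiliser of 23. -/
def lev23 : List (ℕ × List ℕ) := (0, [984818244535754528103549039458486304, 956302485175575353788796878166559809, 956709441910203461498593497208492130, 955976305995358692400003018625453266, 958020233522794296771657265635857539, 978766510459594708251448298497017958, 956686622797822184739091644344317526, 956689138056861486629315337021374699, 957316225099133873385554888546685171, 956085195133363055212480936219446308, 956076827199281340881598671847005608, 956296727270839960037227930540118677, 955920825750030368566475429925437679, 955966478651646757843861320444743178, 955964817264750826711104779462970793, 969702266959080722221185939870755335, 958019557145615672730664740719923760, 965788909600880221945171921837141229, 982670746268354618586509449241266324, 978751313254620969705137295584470158, 956703025398203910543842384009235941, 958029085632388655745765514903143692, 956685353633585477251300863406016913]) :: lev22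
/-- Chain for `M24`. -/
def lev24 : List (ℕ × List ℕ) := (23, [984818244535754528103549039458486304, 1795248432537898728475572672376535, 44673570877212604306017735907225623, 87551893321887283366365293184594999, 928413874498667716355043516223936224, 755859705571862642503515274234732567, 130430215766561988943882167652005975, 477144491347695089491217979027889856, 253823597301981865184255958302697047, 606430463705032075921020289251791584, 188733548408912823331662971205375712, 340521816086893865652444079096708832, 233901957229795813748128223705255648, 809234197944448842566689733615358688, 898922973984567955690684865979898592, 566469323825474823936451464662328032, 632621206115999716225436602913104919, 436503019551772329584969531916526615, 391469733891187524809500476556126231, 312331546689708172668935192681137527, 687193853609325935276057030289765463, 520022813792369793915838637655891969, 724774924493076582300266094728228992, 846970947369054522796317982645065888]) :: lev23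

theorem chain24 : SChain ⊤ lev24 :=
  sChain_of_card (good_top_of_all (by decide +kernel)) card_top_M24_le (by decide +kernel)
theorem chain23 : SChain (stabilizer M24 (gPt 23)) lev23 := chain24.tail.1.congr (top_inf_eq _)
theorem chain22 : SChain (stabilizer M24 (gPt 23) ⊓ stabilizer M24 (gPt 0)) lev22 := chain23.tail.1
theorem chain21 : SChain (stabilizer M24 (gPt 23) ⊓ stabilizer M24 (gPt 0) ⊓ stabilizer M24 (gPt 1)) lev21 :=
  chain22.tail.1
theorem chain4 : SChain (stabilizer M24 (gPt 23) ⊓ stabilizer M24 (gPt 0) ⊓ stabilizer M24 (gPt 1) ⊓
    stabilizer M24 (gPt 2)) lev4 := chain21.tail.1

/-- Chain for the stabiliser of `dod0` and 0, 1. -/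
def lev10 : List (ℕ × List ℕ) := [(2, [984818244535754528103549039458486304, 965287539554454126398511638473215008, 235410610152873002895006743971282976, 969884037562890965349590813760729120, 234087195543560038524201801623184416, 320845750606218533663718373087004704, 815489381734132202162361707717538848, 313429986437186046059806064087539744, 466880323101969894984886370990037024, 601468133057617341495158134749532192]), (3, [984818244535754528103549039458486304, 304527279934878073638008567181674528, 809399594410595785774724965859756064, 970531819526550031117983620406741024, 928952864966028496604741530750814240, 858502712789113075489201924125100064, 899189355044933402820830013086107680, 858988336336270505570052787752405024, 796422664143520048046740322637776928]), (4, [984818244535754528103549039458486304, 719923664328491199848526586197411872, 232652365823391711183829569059784736, 970499966350631336865513127433832480, 609271311764373893382231684089481248, 608405391266436187982588441666881568, 715872302521680643580706198532491296, 227578386318009578406903204956702752])]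
/-- Chain for the stabiliser of `dod0` and 0. -/
def lev11 : List (ℕ × List ℕ) := (1, [984818244535754528103549039458486304, 898488849032420879204510871313712544, 226290413572340691404350325824501312, 837893880370414405397140814009271584, 470817062927369605826825589672215680, 715698540176483734906760934989497600, 809275171825209189681008177009198592, 978329933299122975683446603816964480, 595417598369769489198530433286157504, 227757164519238556506331775210095680, 812116960672977841642993412186059872]) :: lev10
/-- Chain for the stabiliser of `dod0` along the base 0, 1, 2, 3, 4. -/
def lev12 : List (ℕ × List ℕ) := (0, [984818244535754528103549039458486304, 608372347163871627712182531267772841, 936777607000627407740723511247015489, 641460760288957881337364953071356486, 879636042424644330412181867671341346, 719599222168007287213511905209486476, 630365184107753738341210356830964880, 227963437389274403158058060498356740, 719435749741444976050910074080601224, 845922864610897974390063211158208653, 850450885789590476686395087480954947, 609029396184510816268936608437253234]) :: lev11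

theorem chain12 : SChain (stabilizer M24 dod0) lev12 :=
  sChain_of_card (good_stab_all (good_top_of_all (by decide +kernel)) (by decide +kernel))
    (card_stabilizer_dodecad dod0_mem).le (by decide +kernel)
theorem chain11 : SChain (stabilizer M24 dod0 ⊓ stabilizer M24 (gPt 0)) lev11 := chain12.tail.1
theorem chain10 : SChain (stabilizer M24 dod0 ⊓ stabilizer M24 (gPt 0) ⊓ stabilizer M24 (gPt 1)) lev10 := chain11.tail.1

/-- Chain for a Sylow 2-subgroup of `M23` and `M22`. -/
def levQ2 : List (ℕ × List ℕ) := [(1, [984818244535754528103549039458486304, 981887540327472235980906686250648640]), (3, [984818244535754528103549039458486304, 960831283963798152912375878980765728, 964073805886567692774798621412591648, 965011074703115379814735225140217888]), (4, [984818244535754528103549039458486304, 971592882964418941354553515258775584, 980224387687010295957922729495201824, 983548720921252936276249910206105632, 968708902336673183175954409307867168, 981818691054096003685363657089320992, 975346028712660580592452217730074656, 963721886883755259286232606933354528, 961365507626256404119956257276790816, 979121071158219704299181131031480352, 966182099583441531322624363496310816, 970499966350631336865513127433832480,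 976448692869377735270425038196672544, 972512676110088067912772961567868960, 967812279691448225500382947153381408, 965128854020860192151391391390468128])]
/-- Chain for a Sylow 2-subgroup of `M24`. -/
def levP2 : List (ℕ × List ℕ) := (23, [984818244535754528103549039458486304, 107058976088544323713985472033676289, 594126470738448228353239967604970609, 235455144547425583794837410748807715, 49672109006902188911663282029812738, 152610255990008564287369093405754821, 721991971566381659126509032048725166, 13524192199983079413396058521307191]) :: levQ2
/-- The standard Sylow 2-subgroup of `M24`; it fixes `oct0`, `trio0`, `sext0`. -/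
noncomputable def P2 : Subgroup M24 := gen (levelEls levP2)
/-- The standard Sylow 2-subgroup of `M23` and `M22`. -/
noncomputable def Q2 : Subgroup M24 := P2 ⊓ stabilizer M24 (gPt 23)

theorem chainP2 : SChain P2 levP2 := sChain_gen (by decide +kernel)
theorem chainQ2 : SChain Q2 levQ2 := chainP2.tail.1
theorem card_P2 : Nat.card P2 = 1024 := chainP2.card_eq.trans (by decide +kernel)
theorem card_Q2 : Nat.card Q2 = 128 := chainQ2.card_eq.trans (by decide +kernel)
theorem sylIn_P2 : Fus.SylIn 2 P2 ⊤ :=
  sylIn_of_card (k := 10) (m := 239085) Nat.prime_two le_top card_P2 (by rw [Subgroup.card_top, card_M24]; norm_num) (by norm_num)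
theorem Q2_le : Q2 ≤ stabilizer M24 (gPt 23) ⊓ stabilizer M24 (gPt 0) :=
  chainQ2.eq_gen ▸ gen_le (good_inf_all (good_pt_all chainQ2.1 (by norm_num) (by decide +kernel))
    (good_pt_all chainQ2.1 (by norm_num) (by decide +kernel)))
theorem card_M23' : Nat.card (stabilizer M24 (gPt 23)) = 10200960 := chain23.card_eq.trans (by decide +kernel)
theorem card_M22' : Nat.card (stabilizer M24 (gPt 23) ⊓ stabilizer M24 (gPt 0) : Subgroup M24) = 443520 :=
  chain22.card_eq.trans (by decide +kernel)
theorem card_M11' : Nat.card (stabilizer M24 dod0 ⊓ stabilizer M24 (gPt 0) : Subgroup M24) = 7920 :=
  chain11.card_eq.trans (by decide +kernel)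
theorem sylIn_Q2_M23 : Fus.SylIn 2 Q2 (stabilizer M24 (gPt 23)) :=
  sylIn_of_card (k := 7) (m := 79695) Nat.prime_two inf_le_right card_Q2 card_M23' (by norm_num)
theorem sylIn_Q2_M22 : Fus.SylIn 2 Q2 (stabilizer M24 (gPt 23) ⊓ stabilizer M24 (gPt 0)) :=
  sylIn_of_card (k := 7) (m := 3465) Nat.prime_two Q2_le card_Q2 card_M22' (by norm_num)
theorem P2_le_oct0 : P2 ≤ stabilizer M24 oct0 := gen_le (good_stab_all chainP2.1 (by decide +kernel))
theorem P2_le_sext0 : P2 ≤ stabilizer M24 sext0 := gen_le (good_sext_all chainP2.1 (by norm_num) (by decide +kernel))
theorem P2_le_trio0 : P2 ≤ stabilizer M24 trio0 :=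
  gen_le (isFam_trios.good_stab chainP2.1 (by norm_num) (by decide +kernel))

theorem gPt_23 : gPt 23 = none := by decide +kernel
theorem gPt_0 : gPt 0 = some 0 := by decide +kernel

theorem M23_subgroupOf : Spor.M23.subgroupOf M24 = stabilizer M24 (gPt 23) := by
  ext g; rw [gPt_23]; exact and_iff_right g.2
theorem M22_subgroupOf : Spor.M22.subgroupOf M24 = stabilizer M24 (gPt 23) ⊓ stabilizer M24 (gPt 0) := by
  ext g; rw [gPt_23, gPt_0]; exact and_congr_left' (and_iff_right g.2)
theorem M12_subgroupOf : Spor.M12.subgroupOf M24 = stabilizer M24 dod0 := by
  ext g; rw [← squareDodecad_eq]; exact and_iff_right g.2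
theorem M11_subgroupOf : Spor.M11.subgroupOf M24 = stabilizer M24 dod0 ⊓ stabilizer M24 (gPt 0) := by
  ext g; rw [← squareDodecad_eq, gPt_0]; exact and_congr_left' (and_iff_right g.2)

/-- `M23` seen inside `M24`. -/
noncomputable def equivM23 : stabilizer M24 (gPt 23) ≃* Spor.M23 :=
  (MulEquiv.subgroupCongr M23_subgroupOf.symm).trans (Subgroup.subgroupOfEquivOfLe inf_le_left)
/-- `M22` seen inside `M24`. -/
noncomputable def equivM22 : (stabilizer M24 (gPt 23) ⊓ stabilizer M24 (gPt 0) : Subgroup M24) ≃* Spor.M22 :=
  (MulEquiv.subgroupCongr M22_subgroupOf.symm).trans (Subgroup.subgroupOfEquivOfLe (inf_le_left.trans inf_le_left))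
/-- `M12` seen inside `M24`. -/
noncomputable def equivM12 : stabilizer M24 dod0 ≃* Spor.M12 :=
  (MulEquiv.subgroupCongr M12_subgroupOf.symm).trans (Subgroup.subgroupOfEquivOfLe inf_le_left)
/-- `M11` seen inside `M24`. -/
noncomputable def equivM11 : (stabilizer M24 dod0 ⊓ stabilizer M24 (gPt 0) : Subgroup M24) ≃* Spor.M11 :=
  (MulEquiv.subgroupCongr M11_subgroupOf.symm).trans (Subgroup.subgroupOfEquivOfLe (inf_le_left.trans inf_le_left))

end CL.Spor
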