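/-
The wreath product of A5 by a group of order 2 on ten points.
Generated by tools/pg.
-/
import Cfsg.Agent.Spor.PGStruct
import Cfsg.Agent.Spor.PGCtx

set_option autoImplicit false
set_option maxRecDepth 200000
set_option Elab.async false
set_option linter.unusedVariables false

namespace CL.Std.A5w2
open CL.PG

def P : Par := ⟨10, 10, 4, 2⟩
theorem hP : P.Ok := by decide
noncomputable def a0 : Net := (.cons 1 (nat_lit 0x1)
 (.cons 1 (nat_lit 0x2)
 .nil))
noncomputable def a1 : Net := (.cons 1 (nat_lit 0x1)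
 (.cons 1 (nat_lit 0x2)
 (.cons 1 (nat_lit 0x4)
 (.cons 1 (nat_lit 0x8)
 .nil))))
noncomputable def a2 : Net := (.cons 5 (nat_lit 0x1f)
 .nil)
noncomputable def a3 : Net := (.cons 1 (nat_lit 0x4)
 (.cons 1 (nat_lit 0x8)
 .nil))
noncomputable def a4 : Net := (.cons 1 (nat_lit 0x100)
 (.cons 1 (nat_lit 0x80)
 (.cons 1 (nat_lit 0x40)
 (.cons 1 (nat_lit 0x20)
 .nil))))
noncomputable def a5 : Net := (.cons 1 (nat_lit 0x4)
 (.cons 1 (nat_lit 0x2)
 .nil))
noncomputable def a6 : Net := (.cons 1 (nat_lit 0x100)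
 (.cons 1 (nat_lit 0xa0)
 (.cons 1 (nat_lit 0x40)
 (.cons 1 (nat_lit 0xa0)
 .nil))))
noncomputable def a7 : Net := (.cons 1 (nat_lit 0x80)
 (.cons 1 (nat_lit 0x100)
 .nil))
noncomputable def a8 : Net := (.cons 1 (nat_lit 0x40)
 (.cons 1 (nat_lit 0x80)
 .nil))
noncomputable def a9 : Net := (.cons 5 (nat_lit 0x1f)
 (.cons 1 (nat_lit 0xa5)
 (.cons 1 (nat_lit 0x14a)
 (.cons 1 (nat_lit 0xa5)
 (.cons 1 (nat_lit 0x14a)
 (.cons 1 (nat_lit 0xa5)
 .nil))))))
noncomputable def a10 : Net := (.cons 5 (nat_lit 0x1f)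
 (.cons 1 (nat_lit 0xa0)
 (.cons 1 (nat_lit 0x148)
 (.cons 1 (nat_lit 0xa5)
 (.cons 1 (nat_lit 0x14a)
 (.cons 1 (nat_lit 0xa1)
 .nil))))))
noncomputable def a11 : Net := (.cons 5 (nat_lit 0x1f)
 (.cons 1 (nat_lit 0xa0)
 (.cons 1 (nat_lit 0x148)
 (.cons 1 (nat_lit 0xa5)
 (.cons 1 (nat_lit 0x14a)
 (.cons 1 (nat_lit 0x1)
 .nil))))))
noncomputable def a12 : Net := (.cons 1 (nat_lit 0x40)
 (.cons 1 (nat_lit 0xa4)
 (.cons 1 (nat_lit 0x4a)
 (.cons 1 (nat_lit 0x4)
 .nil))))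
noncomputable def a13 : Net := (.cons 1 (nat_lit 0x4a)
 (.cons 1 (nat_lit 0xa4)
 (.cons 1 (nat_lit 0x4a)
 (.cons 1 (nat_lit 0x4)
 .nil))))
noncomputable def a14 : Net := (.cons 1 (nat_lit 0x4)
 (.cons 1 (nat_lit 0xa)
 (.cons 1 (nat_lit 0x4)
 .nil)))
noncomputable def a15 : Net := (.cons 1 (nat_lit 0xa)
 (.cons 1 (nat_lit 0x4)
 (.cons 1 (nat_lit 0xa)
 (.cons 1 (nat_lit 0xa4)
 .nil))))
noncomputable def a16 : Net := (.cons 1 (nat_lit 0x40)
 (.cons 1 (nat_lit 0xa0)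
 (.cons 1 (nat_lit 0x40)
 (.cons 1 (nat_lit 0xa0)
 .nil))))
noncomputable def a17 : Net := (.cons 1 (nat_lit 0xa0)
 .nil)
noncomputable def a18 : Net := (.cons 5 (nat_lit 0x1f)
 (.cons 1 (nat_lit 0xa0)
 (.cons 1 (nat_lit 0x148)
 (.cons 1 (nat_lit 0xa5)
 (.cons 1 (nat_lit 0x14a)
 (.cons 1 (nat_lit 0x1)
 .nil))))))
noncomputable def a19 : Net := (.cons 5 (nat_lit 0x1f)
 (.cons 1 (nat_lit 0xa0)
 (.cons 1 (nat_lit 0x148)
 (.cons 1 (nat_lit 0xa5)
 (.cons 1 (nat_lit 0x14a)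
 (.cons 1 (nat_lit 0xa1)
 .nil))))))
noncomputable def a20 : Net := (.cons 5 (nat_lit 0x1f)
 (.cons 1 (nat_lit 0x20)
 (.cons 1 (nat_lit 0x48)
 (.cons 1 (nat_lit 0x84)
 (.cons 1 (nat_lit 0x102)
 (.cons 1 (nat_lit 0x1)
 .nil))))))
noncomputable def a21 : Net := (.cons 5 (nat_lit 0x1f)
 (.cons 1 (nat_lit 0x20)
 (.cons 1 (nat_lit 0x48)
 (.cons 1 (nat_lit 0x85)
 (.cons 1 (nat_lit 0x10a)
 (.cons 1 (nat_lit 0xa1)
 .nil))))))
noncomputable def a22 : Net := (.cons 1 (nat_lit 0x40)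
 (.cons 1 (nat_lit 0xa0)
 (.cons 1 (nat_lit 0x40)
 (.cons 1 (nat_lit 0xa0)
 .nil))))
noncomputable def a23 : Net := (.cons 1 (nat_lit 0xa0)
 .nil)
noncomputable def ns0 : List Net := [a0, a1, a2]
noncomputable def ws : List (List ℕ) :=
  [W (nat_lit 0x40080401001),
  W (nat_lit 0x10140401802),
  W (nat_lit 0x400803),
  W (nat_lit 0x180400406),
  W (nat_lit 0xa03809),
  W (nat_lit 0x340a),
  W (nat_lit 0x10044100240702c0701005),
  W (nat_lit 0x40110400901c0c01005),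
  W (nat_lit 0x480e01c0c01005),
  W (nat_lit 0x5415),
  W (nat_lit 0x6016),
  W (nat_lit 0x5414),
  W (nat_lit 0x581806014),
  W (nat_lit 0x701a06820074200701c07c1b0801e068200681c),
  W (nat_lit 0x781e0781b06820080200642006c1b07c1a),
  W (nat_lit 0x2106413),
  W (nat_lit 0x842306413),
  W (nat_lit 0x2306c13),
  W (nat_lit 0x6413),
  W (nat_lit 0x4c1805816),
  W (nat_lit 0x5c1405414)]
noncomputable def ns : List Net := [a0, a1, a2, a3, a4, a5, a6, a7, a8, a9, a10, a11, a12, a13, a14, a15, a16, a17, a18, a19, a20, a21, a22, a23]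
noncomputable def D : List (ℕ × List ℕ) := app [] (mkDefs ws 3)
noncomputable def chk : List (List ℕ × List ℕ) → Bool := P.relsB ns
noncomputable def zt0 : List ℕ :=
  []
noncomputable def zcj1 : List (List ℕ) :=
  []
noncomputable def zus4 : List (List ℕ) :=
  [[16],
  [17],
  W (nat_lit 0x4410)]
noncomputable def zF5 : List (List (ℕ × List ℕ)) :=
  [[(0, [14]),
   (2, [15]),
   (3, [14]),
   (1, [])],
  [(1, []),
   (2, []),
   (0, []),
   (3, [15])]]
noncomputable def zus8 : List (List ℕ) :=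
  [[8],
  [9],
  [13],
  W (nat_lit 0x240f)]
noncomputable def zF9 : List (List (ℕ × List ℕ)) :=
  [[(1, []),
   (3, W (nat_lit 0x4012)),
   (0, []),
   (4, []),
   (2, W (nat_lit 0x4012))],
  [(1, [16]),
   (3, [17]),
   (2, [15]),
   (0, []),
   (4, W (nat_lit 0x4410))]]
noncomputable def zt12 : List ℕ :=
  []
noncomputable def zcj13 : List (List ℕ) :=
  [[8],
  W (nat_lit 0x4409)]
noncomputable def zus16 : List (List ℕ) :=
  [[10],
  [11],
  W (nat_lit 0x2c07)]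
noncomputable def zF17 : List (List (ℕ × List ℕ)) :=
  [[(0, [6]),
   (3, []),
   (1, [7]),
   (2, [6])],
  [(0, [8]),
   (1, [8]),
   (2, [8]),
   (3, [8])],
  [(1, []),
   (2, []),
   (0, []),
   (3, [6])],
  [(0, W (nat_lit 0x4409)),
   (1, W (nat_lit 0x4409)),
   (2, W (nat_lit 0x4409)),
   (3, W (nat_lit 0x4409))]]
noncomputable def zus20 : List (List ℕ) :=
  [[0],
  [1],
  [3],
  [4],
  W (nat_lit 0x405),
  W (nat_lit 0x40b),
  W (nat_lit 0x805),
  W (nat_lit 0x1005),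
  W (nat_lit 0x140e)]
noncomputable def zF21 : List (List (ℕ × List ℕ)) :=
  [[(1, []),
   (2, []),
   (0, []),
   (3, [11]),
   (4, W (nat_lit 0x400a)),
   (5, W (nat_lit 0x400a)),
   (6, [10]),
   (7, W (nat_lit 0x400a)),
   (8, W (nat_lit 0x400a)),
   (9, W (nat_lit 0x400a))],
  [(1, [6]),
   (2, W (nat_lit 0x1c0b)),
   (6, [6]),
   (0, []),
   (4, [9]),
   (5, [9]),
   (3, W (nat_lit 0x1c0b)),
   (7, [9]),
   (8, [9]),
   (9, [9])],
  [(4, []),
   (5, []),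
   (7, []),
   (8, []),
   (0, []),
   (1, []),
   (9, [7]),
   (2, []),
   (3, []),
   (6, [6])]]
noncomputable def G_v0 : Lev :=
  ⟨0, 10, sg (W (nat_lit 0x500c0500c01)), [[6], [8], [10], [12]], 0, 4⟩
noncomputable def G_v1 : Lev :=
  ⟨1, 4, sg (W (nat_lit 0x701c0b)), [[6], [8], [12]], 4, 0⟩
noncomputable def G_v2 : Lev :=
  ⟨2, 3, sg (W (nat_lit 0x1c07)), [[8], [12]], 4, 0⟩
noncomputable def G_v3 : Lev :=
  ⟨5, 5, sg (W (nat_lit 0x240902409)), [[14], [16]], 4, 2⟩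
noncomputable def G_v4 : Lev :=
  ⟨6, 4, sg (W (nat_lit 0xf03c11)), [[14]], 6, 0⟩
noncomputable def G_v5 : Lev :=
  ⟨7, 3, sg (W (nat_lit 0x3c0f)), [], 6, 0⟩
noncomputable def G_vs6 : List Lev :=
  []
noncomputable def G_vs5 : List Lev :=
  G_v5 :: G_vs6
noncomputable def G_vs4 : List Lev :=
  G_v4 :: G_vs5
noncomputable def G_vs3 : List Lev :=
  G_v3 :: G_vs4
noncomputable def G_vs2 : List Lev :=
  G_v2 :: G_vs3
noncomputable def G_vs1 : List Lev :=
  G_v1 :: G_vs2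
noncomputable def G_vs : List Lev :=
  G_v0 :: G_vs1
noncomputable def pc2_P_ps : List PcG :=
  [⟨[36], 2, W (nat_lit 0x4c29), [W (nat_lit 0x2b0a427), [18], W (nat_lit 0x130ac29), [40]]⟩,
  ⟨[38], 2, W (nat_lit 0x4c2b), [W (nat_lit 0x130ac29), [18], [42]]⟩,
  ⟨[40], 2, [], [[42], [18]]⟩,
  ⟨[42], 2, [], [[18]]⟩,
  ⟨[18], 2, [], []⟩]
noncomputable def zE25 : List (ℕ × List ℕ) :=
  [(20, [38]),
  (22, [36])]
noncomputable def pc2_P_v0 : Lev :=
  ⟨0, 2, sg [18], [[24], [26], [28], [30]], 9, 4⟩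
noncomputable def pc2_P_v1 : Lev :=
  ⟨1, 4, sg (W (nat_lit 0x6c19)), [[32], [34]], 13, 2⟩
noncomputable def pc2_P_v2 : Lev :=
  ⟨5, 4, sg (W (nat_lit 0x8c21)), [], 15, 0⟩
noncomputable def pc2_P_vs3 : List Lev :=
  []
noncomputable def pc2_P_vs2 : List Lev :=
  pc2_P_v2 :: pc2_P_vs3
noncomputable def pc2_P_vs1 : List Lev :=
  pc2_P_v1 :: pc2_P_vs2
noncomputable def pc2_P_vs : List Lev :=
  pc2_P_v0 :: pc2_P_vs1
noncomputable def pc2_s_ms : List ℕ :=
  [(nat_lit 0x210),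
  (nat_lit 0x21)]
noncomputable def pc2_sG_v0 : Lev :=
  ⟨4, 8, sg (W (nat_lit 0x5c1305c13)), [[44], [46]], 19, 2⟩
noncomputable def pc2_sG_v1 : Lev :=
  ⟨5, 4, sg (W (nat_lit 0xbc2d)), [], 21, 0⟩
noncomputable def pc2_sG_vs2 : List Lev :=
  []
noncomputable def pc2_sG_vs1 : List Lev :=
  pc2_sG_v1 :: pc2_sG_vs2
noncomputable def pc2_sG_vs : List Lev :=
  pc2_sG_v0 :: pc2_sG_vs1
noncomputable def pc2_s_x : List (ℕ × List ℕ) :=
  [((nat_lit 0), [(nat_lit 0x1fe)]),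
  ((nat_lit 0), [])]
noncomputable def pc2_s_G : Gl :=
  ⟨P, ns, (app D []), [], [], [], memM (app D []) [], true⟩
noncomputable def pc2_s_s : St :=
  ⟨(mkS P.n pc2_sG_vs pc2_s_x), [[18], [20], [22]], [], diag pc2_s_ms, memM (app D []) [], []⟩
noncomputable def zt32 : ST :=
  (.orb 0 (.and 1 0 (.br 0 [] [] [(4, [])] (.cons (.and 4 2 (.br 0 [] [] [(5, [])] (.cons .fnd
 .nil)))
 .nil))))
noncomputable def zus35 : List (List ℕ × ℕ) :=
  [(W (nat_lit 0x803), (nat_lit 0x201)),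
  (W (nat_lit 0x1005), (nat_lit 0x201))]
noncomputable def zts37 : List (List ℕ) :=
  [W (nat_lit 0x10044100240702c0701005),
  W (nat_lit 0x40110400901c0c01005),
  W (nat_lit 0x480e01c0c01005)]
noncomputable def zE40 : Net :=
  .nil
noncomputable def zK41 : Lk :=
  ⟨zE40, 1, 2, 1⟩

theorem zb2 : bnd (pcB D [] 3 zt0 zcj1) (leB (app D []) [[14]] ([14] :: [])) = true := by decide +kernel
theorem zr3 : chk (pcR [] [14] 3 zt0 zcj1) = true := by decide +kernel
theorem zb6 : schB D [[14], [16]] [[14]] zus4 zF5 4 = true := by decide +kernel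
theorem zr7 : chk (schR [[14], [16]] zus4 zF5) = true := by decide +kernel
theorem zb10 : schB D [[8], [12]] [[14], [16]] zus8 zF9 5 = true := by decide +kernel
theorem zr11 : chk (schR [[8], [12]] zus8 zF9) = true := by decide +kernel
theorem zb14 : bnd (pcB D [[8], [12]] 3 zt12 zcj13) (leB (app D []) [[6], [8], [12]] ([6] :: [[8], [12]])) = true := by decide +kernel
theorem zr15 : chk (pcR [[8], [12]] [6] 3 zt12 zcj13) = true := by decide +kernel
theorem zb18 : schB D [[6], [8], [10], [12]] [[6], [8], [12]] zus16 zF17 4 = true := by decide +kernel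
theorem zr19 : chk (schR [[6], [8], [10], [12]] zus16 zF17) = true := by decide +kernel
theorem zb22 : schB D [[0], [2], [4]] [[6], [8], [10], [12]] zus20 zF21 10 = true := by decide +kernel
theorem zr23 : chk (schR [[0], [2], [4]] zus20 zF21) = true := by decide +kernel
theorem zc24 : P.chainB ns D G_vs [[0], [2], [4]] = true := by decide +kernel
theorem zr26 : chk (pcsR pc2_P_ps []) = true := by decide +kernel
theorem zr27 : chk (defRels zE25) = true := by decide +kernel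
theorem zb28 : bnd (pcsB D pc2_P_ps []) (leB (app D zE25) [[18], [20], [22]] (pcGens pc2_P_ps [])) = true := by decide +kernel
theorem zc29 : P.chainB ns D pc2_P_vs [[18], [20], [22]] = true := by decide +kernel
theorem zc30 : P.chainB ns D pc2_sG_vs [[18], [20], [22]] = true := by decide +kernel
theorem zs31 : ssB P.N ns D (mkS P.n pc2_sG_vs pc2_s_x) [[18], [20], [22]] = true := by decide +kernel
theorem zs33 : pc2_s_G.chk zt32 pc2_s_s none = true := by decide +kernel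
theorem zm34 : bnd (allL (invB P.N ns []) pc2_s_ms) (leB D [] [[18], [20], [22]]) = true := by decide +kernel
theorem zm36 : P.coreB ns D [[0], [2], [4]] [[18], [20], [22]] zus35 pc2_s_ms = true := by decide +kernel
theorem zm38 : leB D zts37 [[0], [2], [4]] = true := by decide +kernel
theorem zr39 : chk (zp [] [[18], [20], [22]] zts37) = true := by decide +kernel
theorem zl42 : zK41.relB CL.Std.A5w2.P CL.Std.A5w2.P CL.Std.A5w2.ns [[0], [2], [4]] [[0], [2], [4]] = true := by decide +kernel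
theorem zl43 : allL (zK41.pl CL.Std.A5w2.P CL.Std.A5w2.P CL.Std.A5w2.ns CL.Std.A5w2.ns 0) (zp [] [[0], [2], [4]] [[0], [2], [4]]) = true := by decide +kernel
theorem zk44 : allL (keepB P.n P.N) ns0 = true := by decide +kernel
theorem ze45 : extB ns0 ns 3 ws [] = true := by decide +kernel
theorem zn46 : P.netsB ns (mkDefs ws 3) = true := by decide +kernel

variable {G X : Type*} [Group G] [MulAction G X] {e : ℕ → X} {gs : List G}

theorem keep0 : allL (keepB P.n P.N) ns0 = true := zk44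

theorem len {k} (c : Ctx P e gs ns0 [] k) : gs.length = 3 := c.len ze45

theorem ctx0 {k} (c : Ctx P e gs ns0 [] k) : Ctx P e (ext gs ws) ns D chk0 :=
  c.ext rfl ze45 zn46

theorem ctx {k} (c : Ctx P e gs ns0 [] k) {H : Subgroup G} (hF : Faithful e P.n H) (hH : ∀ g ∈ gs, g ∈ H) :
    Ctx P e (ext gs ws) ns D chk :=
  (ctx0 c).withB hF (mem_of_mem_ext hH _)

instance instNe : NeZero P.n := ⟨by decide⟩
noncomputable def gs0 : List (Equiv.Perm (Fin P.n)) := permsOf P.n P.N ns0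
noncomputable def gs1 : List (Equiv.Perm (Fin P.n)) := ext gs0 ws
theorem c1 : Ctx P (eF P.n) gs1 ns D chk :=
  ctx (ctx_permsOf hP keep0) (faithful_eF _) fun _ _ => trivial

theorem G_u5 (c : Ctx P e gs ns D chk) :
    UB (subW gs [[14]]) 3 :=
  (c.pc_step (UB.nil gs) (Rels.nil _)
    (c.rels _ zr3) zb2).le (by decide)

theorem G_u4 (c : Ctx P e gs ns D chk) :
    UB (subW gs [[14], [16]]) 12 :=
  (c.sch_step (G_u5 c)
    (c.rels _ zr7) zb6).le (by decide)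

theorem G_u3 (c : Ctx P e gs ns D chk) :
    UB (subW gs [[8], [12]]) 60 :=
  (c.sch_step (G_u4 c)
    (c.rels _ zr11) zb10).le (by decide)

theorem G_u2 (c : Ctx P e gs ns D chk) :
    UB (subW gs [[6], [8], [12]]) 180 :=
  (c.pc_step (G_u3 c) (Rels.nil _)
    (c.rels _ zr15) zb14).le (by decide)

theorem G_u1 (c : Ctx P e gs ns D chk) :
    UB (subW gs [[6], [8], [10], [12]]) 720 :=
  (c.sch_step (G_u2 c)
    (c.rels _ zr19) zb18).le (by decide)

theorem G_u0 (c : Ctx P e gs ns D chk) :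
    UB (subW gs [[0], [2], [4]]) 7200 :=
  (c.sch_step (G_u1 c)
    (c.rels _ zr23) zb22).le (by decide)

theorem G_ub (c : Ctx P e gs ns D chk) :
    UB (subW gs [[0], [2], [4]]) 7200 :=
  (G_u0 c)

theorem G_c : P.chainB ns D G_vs [[0], [2], [4]] = true :=
  zc24

theorem G_o : prodL G_vs 1 = 7200 := by decide +kernel

theorem G_ex (c : Ctx P e gs ns D chk) :
    Exact e P.n P.N gs ns 1 G_vs [[0], [2], [4]] :=
  c.exact G_c G_o (G_ub c)

theorem G_card (c : Ctx P e gs ns D chk) :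
    Nat.card (subW gs [[0], [2], [4]]) = 7200 :=
  (G_ex c).card.trans G_o

theorem G_lb (c : Ctx P e gs ns D chk) :
    LB (subW gs [[0], [2], [4]]) 7200 :=
  c.lb G_c G_o

theorem pc2_P_pr (c : Ctx P e gs ns D chk) :
    Rels gs (pcsR pc2_P_ps []) :=
  (c.rels _ zr26)

theorem pc2_P_pe (c : Ctx P e gs ns D chk) :
    Rels gs (defRels zE25) :=
  (c.rels _ zr27)

theorem pc2_P_pb : bnd (pcsB D pc2_P_ps []) (leB (app D zE25) [[18], [20], [22]] (pcGens pc2_P_ps [])) = true := zb28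

theorem pc2_P_ub (c : Ctx P e gs ns D chk) :
    UB (subW gs [[18], [20], [22]]) 32 :=
  c.pcs (UB.nil gs) (pc2_P_pe c) (pc2_P_pr c) pc2_P_pb (by decide +kernel)

theorem pc2_P_c : P.chainB ns D pc2_P_vs [[18], [20], [22]] = true :=
  zc29

theorem pc2_P_o : prodL pc2_P_vs 1 = 32 := by decide +kernel

theorem pc2_P_lb (c : Ctx P e gs ns D chk) :
    LB (subW gs [[18], [20], [22]]) 32 :=
  c.lb pc2_P_c pc2_P_o

theorem pc2_P_card (c : Ctx P e gs ns D chk) :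
    Nat.card (subW gs [[18], [20], [22]]) = 32 :=
  (pc2_P_ub c).card_eq (pc2_P_lb c)

theorem pc2_sG_c : P.chainB ns D pc2_sG_vs [[18], [20], [22]] = true :=
  zc30

theorem pc2_sG_o : prodL pc2_sG_vs 1 = 32 := by decide +kernel

theorem pc2_s (c : Ctx P e gs ns D chk) :
    ∀ g, g ∈ (subW gs []) ↔ g ∈ (subW gs [[18], [20], [22]]) ∧ ∀ m ∈ pc2_s_ms, g ∈ sstab G (mset e P.n m) :=
  c.setStab (Rels.nil _) (c.sOk (c.exact pc2_sG_c pc2_sG_o (pc2_P_ub c)) zs31) (fun _ h => by cases h) zm34 zs33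

theorem pc2 (c : Ctx P e gs ns D chk) :
    Cfsg.pCore 2 (subW gs [[0], [2], [4]]) = ⊥ :=
  pCore_eq_bot_of_le (c.pCoreOf_le (p := 2) (by norm_num) (b := 225) (G_card c) (pc2_P_card c) (by norm_num) (c.le_of_rels (ws := [[18], [20], [22]]) (l := [[0], [2], [4]]) (c.rels _ zr39) zm38) zm36 (pc2_s c))

theorem self {Γ Y : Type*} [Group Γ] [MulAction Γ Y] {e' : ℕ → Y} {cs : List Γ} {D₁ D₂ : List (ℕ × List ℕ)}
    {k₁ k₂ : List (List ℕ × List ℕ) → Bool} (c : Ctx CL.Std.A5w2.P e gs CL.Std.A5w2.ns D₁ k₁) (c' : Ctx CL.Std.A5w2.P e' cs CL.Std.A5w2.ns D₂ k₂)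
    (hF : Faithful e' CL.Std.A5w2.P.n (subW cs [[0], [2], [4]])) :
    RelLe gs [[0], [2], [4]] cs [[0], [2], [4]] :=
  c.relLe (K := zK41) c' hF zl42 (fun (t : ℕ) (ht : t < 1) => match t, ht with
    | 0, _ => zl43
    | t + 1, h => absurd h (by omega))


end CL.Std.A5w2
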