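/-
Symmetric and alternating groups of degree at most 12 as standard models.
Generated by tools/pg.
-/
import Cfsg.Agent.Spor.PGCtx
import Cfsg.Agent.Spor.PGStruct

set_option autoImplicit false
set_option maxRecDepth 200000
set_option Elab.async false
set_option linter.unusedVariables false

namespace CL.Std.S2
open CL.PG

def P : Par := ⟨2, 2, 1, 0⟩
theorem hP : P.Ok := by decide
noncomputable def a0 : Net := (.cons 1 (nat_lit 0x1)
 .nil)
noncomputable def ns0 : List Net := [a0]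
noncomputable def ws : List (List ℕ) :=
  []
noncomputable def ns : List Net := [a0]
noncomputable def D : List (ℕ × List ℕ) := app [] (mkDefs ws 1)
noncomputable def chk : List (List ℕ × List ℕ) → Bool := P.relsB ns
noncomputable def G_v0 : Lev :=
  ⟨0, 2, sg [0], [], 0, 0⟩
noncomputable def G_vs1 : List Lev :=
  []
noncomputable def G_vs : List Lev :=
  G_v0 :: G_vs1

theorem zc0 : P.chainB ns D G_vs [[0]] = true := by decide +kernel
theorem zk1 : allL (keepB P.n P.N) ns0 = true := by decide +kernel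
theorem ze2 : extB ns0 ns 1 ws [] = true := by decide +kernel
theorem zn3 : P.netsB ns (mkDefs ws 1) = true := by decide +kernel

section
variable {G X : Type*} [Group G] [MulAction G X] {e : ℕ → X} {gs : List G}

theorem keep0 : allL (keepB P.n P.N) ns0 = true := zk1

theorem len {k} (c : Ctx P e gs ns0 [] k) : gs.length = 1 := c.len ze2

theorem ctx0 {k} (c : Ctx P e gs ns0 [] k) : Ctx P e (ext gs ws) ns D chk0 :=
  c.ext rfl ze2 zn3

theorem ctx {k} (c : Ctx P e gs ns0 [] k) {H : Subgroup G} (hF : Faithful e P.n H) (hH : ∀ g ∈ gs, g ∈ H) :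
    Ctx P e (ext gs ws) ns D chk :=
  (ctx0 c).withB hF (mem_of_mem_ext hH _)

instance instNe : NeZero P.n := ⟨by decide⟩
noncomputable def gs0 : List (Equiv.Perm (Fin P.n)) := permsOf P.n P.N ns0
noncomputable def gs1 : List (Equiv.Perm (Fin P.n)) := ext gs0 ws
theorem c1 : Ctx P (eF P.n) gs1 ns D chk :=
  ctx (ctx_permsOf hP keep0) (faithful_eF _) fun _ _ => trivial

theorem G_c : P.chainB ns D G_vs [[0]] = true :=
  zc0

theorem G_o : prodL G_vs 1 = 2 := by decide +kernel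

theorem G_lb (c : Ctx P e gs ns D chk) :
    LB (subW gs [[0]]) 2 :=
  c.lb G_c G_o

theorem top : (subW gs1 [[0]]) = ⊤ := eq_top_of_lb (G_lb c1) (card_perm_fin 2 (by decide)) (by norm_num)
theorem iso : Nonempty ((subW gs1 [[0]]) ≃* Equiv.Perm (Fin 2)) := equiv_of_eq_top top
theorem card : Nat.card (subW gs1 [[0]]) = 2 := (Nat.card_congr iso.some.toEquiv).trans (card_perm_fin 2 (by decide))

theorem ub : UB (subW gs1 [[0]]) 2 := UB.of_card card (by norm_num)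

end
end CL.Std.S2

namespace CL.Std.S3
open CL.PG

def P : Par := ⟨3, 3, 2, 1⟩
theorem hP : P.Ok := by decide
noncomputable def a0 : Net := (.cons 1 (nat_lit 0x1)
 .nil)
noncomputable def a1 : Net := (.cons 1 (nat_lit 0x1)
 (.cons 1 (nat_lit 0x2)
 .nil))
noncomputable def a2 : Net := (.cons 1 (nat_lit 0x2)
 .nil)
noncomputable def ns0 : List Net := [a0, a1]
noncomputable def ws : List (List ℕ) :=
  [W (nat_lit 0x400403)]
noncomputable def ns : List Net := [a0, a1, a2]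
noncomputable def D : List (ℕ × List ℕ) := app [] (mkDefs ws 2)
noncomputable def chk : List (List ℕ × List ℕ) → Bool := P.relsB ns
noncomputable def G_v0 : Lev :=
  ⟨0, 3, sg (W (nat_lit 0xc01)), [[4]], 0, 1⟩
noncomputable def G_v1 : Lev :=
  ⟨1, 2, sg [4], [], 1, 0⟩
noncomputable def G_vs2 : List Lev :=
  []
noncomputable def G_vs1 : List Lev :=
  G_v1 :: G_vs2
noncomputable def G_vs : List Lev :=
  G_v0 :: G_vs1
noncomputable def pc2_P_ps : List PcG :=
  [⟨[4], 2, [], []⟩]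
noncomputable def pc2_P_v0 : Lev :=
  ⟨1, 2, sg [4], [], 1, 0⟩
noncomputable def pc2_P_vs1 : List Lev :=
  []
noncomputable def pc2_P_vs : List Lev :=
  pc2_P_v0 :: pc2_P_vs1
noncomputable def pc2_s_ms : List ℕ :=
  [(nat_lit 0x2)]
noncomputable def pc2_sG_v0 : Lev :=
  ⟨1, 2, sg [4], [], 1, 0⟩
noncomputable def pc2_sG_vs1 : List Lev :=
  []
noncomputable def pc2_sG_vs : List Lev :=
  pc2_sG_v0 :: pc2_sG_vs1
noncomputable def pc2_s_x : List (ℕ × List ℕ) :=
  [((nat_lit 0), [])]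
noncomputable def pc2_s_G : Gl :=
  ⟨P, ns, (app D []), [], [], [], memM (app D []) [], true⟩
noncomputable def pc2_s_s : St :=
  ⟨(mkS P.n pc2_sG_vs pc2_s_x), [[4]], [], diag pc2_s_ms, memM (app D []) [], []⟩
noncomputable def zt6 : ST :=
  (.br 0 [] [] [(1, [])] (.cons .fnd
 .nil))
noncomputable def zus9 : List (List ℕ × ℕ) :=
  [(W (nat_lit 0x100c0300403), (nat_lit 0x1))]
noncomputable def zts11 : List (List ℕ) :=
  [[4]]

theorem zc0 : P.chainB ns D G_vs [[0], [2]] = true := by decide +kernel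
theorem zr1 : chk (pcsR pc2_P_ps []) = true := by decide +kernel
theorem zb2 : bnd (pcsB D pc2_P_ps []) (leB (app D []) [[4]] (pcGens pc2_P_ps [])) = true := by decide +kernel
theorem zc3 : P.chainB ns D pc2_P_vs [[4]] = true := by decide +kernel
theorem zc4 : P.chainB ns D pc2_sG_vs [[4]] = true := by decide +kernel
theorem zs5 : ssB P.N ns D (mkS P.n pc2_sG_vs pc2_s_x) [[4]] = true := by decide +kernel
theorem zs7 : pc2_s_G.chk zt6 pc2_s_s none = true := by decide +kernel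
theorem zm8 : bnd (allL (invB P.N ns []) pc2_s_ms) (leB D [] [[4]]) = true := by decide +kernel
theorem zm10 : P.coreB ns D [[0], [2]] [[4]] zus9 pc2_s_ms = true := by decide +kernel
theorem zm12 : leB D zts11 [[0], [2]] = true := by decide +kernel
theorem zr13 : chk (zp [] [[4]] zts11) = true := by decide +kernel
theorem zk14 : allL (keepB P.n P.N) ns0 = true := by decide +kernel
theorem ze15 : extB ns0 ns 2 ws [] = true := by decide +kernel
theorem zn16 : P.netsB ns (mkDefs ws 2) = true := by decide +kernel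

section
variable {G X : Type*} [Group G] [MulAction G X] {e : ℕ → X} {gs : List G}

theorem keep0 : allL (keepB P.n P.N) ns0 = true := zk14

theorem len {k} (c : Ctx P e gs ns0 [] k) : gs.length = 2 := c.len ze15

theorem ctx0 {k} (c : Ctx P e gs ns0 [] k) : Ctx P e (ext gs ws) ns D chk0 :=
  c.ext rfl ze15 zn16

theorem ctx {k} (c : Ctx P e gs ns0 [] k) {H : Subgroup G} (hF : Faithful e P.n H) (hH : ∀ g ∈ gs, g ∈ H) :
    Ctx P e (ext gs ws) ns D chk :=
  (ctx0 c).withB hF (mem_of_mem_ext hH _)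

instance instNe : NeZero P.n := ⟨by decide⟩
noncomputable def gs0 : List (Equiv.Perm (Fin P.n)) := permsOf P.n P.N ns0
noncomputable def gs1 : List (Equiv.Perm (Fin P.n)) := ext gs0 ws
theorem c1 : Ctx P (eF P.n) gs1 ns D chk :=
  ctx (ctx_permsOf hP keep0) (faithful_eF _) fun _ _ => trivial

theorem G_c : P.chainB ns D G_vs [[0], [2]] = true :=
  zc0

theorem G_o : prodL G_vs 1 = 6 := by decide +kernel

theorem G_lb (c : Ctx P e gs ns D chk) :
    LB (subW gs [[0], [2]]) 6 :=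
  c.lb G_c G_o

theorem top : (subW gs1 [[0], [2]]) = ⊤ := eq_top_of_lb (G_lb c1) (card_perm_fin 3 (by decide)) (by norm_num)
theorem iso : Nonempty ((subW gs1 [[0], [2]]) ≃* Equiv.Perm (Fin 3)) := equiv_of_eq_top top
theorem card : Nat.card (subW gs1 [[0], [2]]) = 6 := (Nat.card_congr iso.some.toEquiv).trans (card_perm_fin 3 (by decide))

theorem ub : UB (subW gs1 [[0], [2]]) 6 := UB.of_card card (by norm_num)

theorem pc2_P_pr (c : Ctx P e gs ns D chk) :
    Rels gs (pcsR pc2_P_ps []) :=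
  (c.rels _ zr1)

theorem pc2_P_pe (c : Ctx P e gs ns D chk) :
    Rels gs (defRels []) :=
  (Rels.nil _)

theorem pc2_P_pb : bnd (pcsB D pc2_P_ps []) (leB (app D []) [[4]] (pcGens pc2_P_ps [])) = true := zb2

theorem pc2_P_ub (c : Ctx P e gs ns D chk) :
    UB (subW gs [[4]]) 2 :=
  c.pcs (UB.nil gs) (pc2_P_pe c) (pc2_P_pr c) pc2_P_pb (by decide +kernel)

theorem pc2_P_c : P.chainB ns D pc2_P_vs [[4]] = true :=
  zc3

theorem pc2_P_o : prodL pc2_P_vs 1 = 2 := by decide +kernel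

theorem pc2_P_lb (c : Ctx P e gs ns D chk) :
    LB (subW gs [[4]]) 2 :=
  c.lb pc2_P_c pc2_P_o

theorem pc2_P_card (c : Ctx P e gs ns D chk) :
    Nat.card (subW gs [[4]]) = 2 :=
  (pc2_P_ub c).card_eq (pc2_P_lb c)

theorem pc2_sG_c : P.chainB ns D pc2_sG_vs [[4]] = true :=
  zc4

theorem pc2_sG_o : prodL pc2_sG_vs 1 = 2 := by decide +kernel

theorem pc2_s (c : Ctx P e gs ns D chk) :
    ∀ g, g ∈ (subW gs []) ↔ g ∈ (subW gs [[4]]) ∧ ∀ m ∈ pc2_s_ms, g ∈ sstab G (mset e P.n m) :=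
  c.setStab (Rels.nil _) (c.sOk (c.exact pc2_sG_c pc2_sG_o (pc2_P_ub c)) zs5) (fun _ h => by cases h) zm8 zs7

theorem pc2 (c : Ctx P e gs ns D chk) (hK : Nat.card (subW gs [[0], [2]]) = 6) :
    Cfsg.pCore 2 (subW gs [[0], [2]]) = ⊥ :=
  pCore_eq_bot_of_le (c.pCoreOf_le (p := 2) (by norm_num) (b := 3) hK (pc2_P_card c) (by norm_num) (c.le_of_rels (ws := [[4]]) (l := [[0], [2]]) (c.rels _ zr13) zm12) zm10 (pc2_s c))

theorem core2 : Cfsg.pCore 2 (subW gs1 [[0], [2]]) = ⊥ := pc2 c1 card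

end
end CL.Std.S3

namespace CL.Std.A3
open CL.PG

def P : Par := ⟨3, 3, 2, 1⟩
theorem hP : P.Ok := by decide
noncomputable def a0 : Net := (.cons 1 (nat_lit 0x1)
 (.cons 1 (nat_lit 0x2)
 .nil))
noncomputable def ns0 : List Net := [a0]
noncomputable def ws : List (List ℕ) :=
  []
noncomputable def ns : List Net := [a0]
noncomputable def D : List (ℕ × List ℕ) := app [] (mkDefs ws 1)
noncomputable def chk : List (List ℕ × List ℕ) → Bool := P.relsB ns
noncomputable def G_v0 : Lev :=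
  ⟨0, 3, sg (W (nat_lit 0x401)), [], 0, 0⟩
noncomputable def G_vs1 : List Lev :=
  []
noncomputable def G_vs : List Lev :=
  G_v0 :: G_vs1
noncomputable def zt1 : List ℕ :=
  []
noncomputable def zcj2 : List (List ℕ) :=
  []

theorem zc0 : P.chainB ns D G_vs [[0]] = true := by decide +kernel
theorem zb3 : bnd (pcB D [] 3 zt1 zcj2) (leB (app D []) [[0]] ([0] :: [])) = true := by decide +kernel
theorem zr4 : chk (pcR [] [0] 3 zt1 zcj2) = true := by decide +kernel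
theorem zk5 : allL (keepB P.n P.N) ns0 = true := by decide +kernel
theorem ze6 : extB ns0 ns 1 ws [] = true := by decide +kernel
theorem zn7 : P.netsB ns (mkDefs ws 1) = true := by decide +kernel

section
variable {G X : Type*} [Group G] [MulAction G X] {e : ℕ → X} {gs : List G}

theorem keep0 : allL (keepB P.n P.N) ns0 = true := zk5

theorem len {k} (c : Ctx P e gs ns0 [] k) : gs.length = 1 := c.len ze6

theorem ctx0 {k} (c : Ctx P e gs ns0 [] k) : Ctx P e (ext gs ws) ns D chk0 :=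
  c.ext rfl ze6 zn7

theorem ctx {k} (c : Ctx P e gs ns0 [] k) {H : Subgroup G} (hF : Faithful e P.n H) (hH : ∀ g ∈ gs, g ∈ H) :
    Ctx P e (ext gs ws) ns D chk :=
  (ctx0 c).withB hF (mem_of_mem_ext hH _)

instance instNe : NeZero P.n := ⟨by decide⟩
noncomputable def gs0 : List (Equiv.Perm (Fin P.n)) := permsOf P.n P.N ns0
noncomputable def gs1 : List (Equiv.Perm (Fin P.n)) := ext gs0 ws
theorem c1 : Ctx P (eF P.n) gs1 ns D chk :=
  ctx (ctx_permsOf hP keep0) (faithful_eF _) fun _ _ => trivial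

theorem G_c : P.chainB ns D G_vs [[0]] = true :=
  zc0

theorem G_o : prodL G_vs 1 = 3 := by decide +kernel

theorem G_lb (c : Ctx P e gs ns D chk) :
    LB (subW gs [[0]]) 3 :=
  c.lb G_c G_o

theorem G_u0 (c : Ctx P e gs ns D chk) :
    UB (subW gs [[0]]) 3 :=
  (c.pc_step (UB.nil gs) (Rels.nil _)
    (c.rels _ zr4) zb3).le (by decide)

theorem G_ub (c : Ctx P e gs ns D chk) :
    UB (subW gs [[0]]) 3 :=
  (G_u0 c)

theorem card : Nat.card (subW gs1 [[0]]) = 3 := (G_ub c1).card_eq (G_lb c1)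
theorem eq : (subW gs1 [[0]]) = alternatingGroup (Fin 3) := eq_alternatingGroup_of_card card (by decide)
theorem iso : Nonempty ((subW gs1 [[0]]) ≃* alternatingGroup (Fin 3)) := ⟨MulEquiv.subgroupCongr eq⟩

theorem ub : UB (subW gs1 [[0]]) 3 := UB.of_card card (by norm_num)

end
end CL.Std.A3

namespace CL.Std.S4
open CL.PG

def P : Par := ⟨4, 4, 2, 1⟩
theorem hP : P.Ok := by decide
noncomputable def a0 : Net := (.cons 1 (nat_lit 0x1)
 .nil)
noncomputable def a1 : Net := (.cons 2 (nat_lit 0x1)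
 (.cons 1 (nat_lit 0x5)
 .nil))
noncomputable def a2 : Net := (.cons 1 (nat_lit 0x4)
 (.cons 2 (nat_lit 0x2)
 .nil))
noncomputable def a3 : Net := (.cons 2 (nat_lit 0x2)
 (.cons 1 (nat_lit 0x4)
 (.cons 2 (nat_lit 0x2)
 .nil)))
noncomputable def a4 : Net := (.cons 1 (nat_lit 0x4)
 .nil)
noncomputable def ns0 : List Net := [a0, a1]
noncomputable def ws : List (List ℕ) :=
  [W (nat_lit 0xc02),
  W (nat_lit 0x300c0201002),
  W (nat_lit 0x1c06)]
noncomputable def ns : List Net := [a0, a1, a2, a3, a4]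
noncomputable def D : List (ℕ × List ℕ) := app [] (mkDefs ws 2)
noncomputable def chk : List (List ℕ × List ℕ) → Bool := P.relsB ns
noncomputable def G_v0 : Lev :=
  ⟨0, 4, sg (W (nat_lit 0x300c01)), [[4], [6]], 0, 2⟩
noncomputable def G_v1 : Lev :=
  ⟨1, 3, sg (W (nat_lit 0x1405)), [[8]], 2, 1⟩
noncomputable def G_v2 : Lev :=
  ⟨2, 2, sg [8], [], 3, 0⟩
noncomputable def G_vs3 : List Lev :=
  []
noncomputable def G_vs2 : List Lev :=
  G_v2 :: G_vs3
noncomputable def G_vs1 : List Lev :=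
  G_v1 :: G_vs2
noncomputable def G_vs : List Lev :=
  G_v0 :: G_vs1
noncomputable def pc3_P_ps : List PcG :=
  [⟨[5], 3, [], []⟩]
noncomputable def pc3_P_v0 : Lev :=
  ⟨1, 3, sg (W (nat_lit 0x1806)), [], 3, 0⟩
noncomputable def pc3_P_vs1 : List Lev :=
  []
noncomputable def pc3_P_vs : List Lev :=
  pc3_P_v0 :: pc3_P_vs1
noncomputable def pc3_s_ms : List ℕ :=
  [(nat_lit 0x2)]
noncomputable def pc3_sG_v0 : Lev :=
  ⟨1, 3, sg (W (nat_lit 0x1806)), [], 3, 0⟩
noncomputable def pc3_sG_vs1 : List Lev :=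
  []
noncomputable def pc3_sG_vs : List Lev :=
  pc3_sG_v0 :: pc3_sG_vs1
noncomputable def pc3_s_x : List (ℕ × List ℕ) :=
  [((nat_lit 0), [])]
noncomputable def pc3_s_G : Gl :=
  ⟨P, ns, (app D []), [], [], [], memM (app D []) [], true⟩
noncomputable def pc3_s_s : St :=
  ⟨(mkS P.n pc3_sG_vs pc3_s_x), [[5]], [], diag pc3_s_ms, memM (app D []) [], []⟩
noncomputable def zt6 : ST :=
  (.br 0 [] [] [(1, [])] (.cons .fnd
 .nil))
noncomputable def zus9 : List (List ℕ × ℕ) :=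
  [(W (nat_lit 0xc0201001), (nat_lit 0x1))]
noncomputable def zts11 : List (List ℕ) :=
  [[5]]

theorem zc0 : P.chainB ns D G_vs [[0], [2]] = true := by decide +kernel
theorem zr1 : chk (pcsR pc3_P_ps []) = true := by decide +kernel
theorem zb2 : bnd (pcsB D pc3_P_ps []) (leB (app D []) [[5]] (pcGens pc3_P_ps [])) = true := by decide +kernel
theorem zc3 : P.chainB ns D pc3_P_vs [[5]] = true := by decide +kernel
theorem zc4 : P.chainB ns D pc3_sG_vs [[5]] = true := by decide +kernel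
theorem zs5 : ssB P.N ns D (mkS P.n pc3_sG_vs pc3_s_x) [[5]] = true := by decide +kernel
theorem zs7 : pc3_s_G.chk zt6 pc3_s_s none = true := by decide +kernel
theorem zm8 : bnd (allL (invB P.N ns []) pc3_s_ms) (leB D [] [[5]]) = true := by decide +kernel
theorem zm10 : P.coreB ns D [[0], [2]] [[5]] zus9 pc3_s_ms = true := by decide +kernel
theorem zm12 : leB D zts11 [[0], [2]] = true := by decide +kernel
theorem zr13 : chk (zp [] [[5]] zts11) = true := by decide +kernel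
theorem zk14 : allL (keepB P.n P.N) ns0 = true := by decide +kernel
theorem ze15 : extB ns0 ns 2 ws [] = true := by decide +kernel
theorem zn16 : P.netsB ns (mkDefs ws 2) = true := by decide +kernel

section
variable {G X : Type*} [Group G] [MulAction G X] {e : ℕ → X} {gs : List G}

theorem keep0 : allL (keepB P.n P.N) ns0 = true := zk14

theorem len {k} (c : Ctx P e gs ns0 [] k) : gs.length = 2 := c.len ze15

theorem ctx0 {k} (c : Ctx P e gs ns0 [] k) : Ctx P e (ext gs ws) ns D chk0 :=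
  c.ext rfl ze15 zn16

theorem ctx {k} (c : Ctx P e gs ns0 [] k) {H : Subgroup G} (hF : Faithful e P.n H) (hH : ∀ g ∈ gs, g ∈ H) :
    Ctx P e (ext gs ws) ns D chk :=
  (ctx0 c).withB hF (mem_of_mem_ext hH _)

instance instNe : NeZero P.n := ⟨by decide⟩
noncomputable def gs0 : List (Equiv.Perm (Fin P.n)) := permsOf P.n P.N ns0
noncomputable def gs1 : List (Equiv.Perm (Fin P.n)) := ext gs0 ws
theorem c1 : Ctx P (eF P.n) gs1 ns D chk :=
  ctx (ctx_permsOf hP keep0) (faithful_eF _) fun _ _ => trivial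

theorem G_c : P.chainB ns D G_vs [[0], [2]] = true :=
  zc0

theorem G_o : prodL G_vs 1 = 24 := by decide +kernel

theorem G_lb (c : Ctx P e gs ns D chk) :
    LB (subW gs [[0], [2]]) 24 :=
  c.lb G_c G_o

theorem top : (subW gs1 [[0], [2]]) = ⊤ := eq_top_of_lb (G_lb c1) (card_perm_fin 4 (by decide)) (by norm_num)
theorem iso : Nonempty ((subW gs1 [[0], [2]]) ≃* Equiv.Perm (Fin 4)) := equiv_of_eq_top top
theorem card : Nat.card (subW gs1 [[0], [2]]) = 24 := (Nat.card_congr iso.some.toEquiv).trans (card_perm_fin 4 (by decide))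

theorem ub : UB (subW gs1 [[0], [2]]) 24 := UB.of_card card (by norm_num)

theorem pc3_P_pr (c : Ctx P e gs ns D chk) :
    Rels gs (pcsR pc3_P_ps []) :=
  (c.rels _ zr1)

theorem pc3_P_pe (c : Ctx P e gs ns D chk) :
    Rels gs (defRels []) :=
  (Rels.nil _)

theorem pc3_P_pb : bnd (pcsB D pc3_P_ps []) (leB (app D []) [[5]] (pcGens pc3_P_ps [])) = true := zb2

theorem pc3_P_ub (c : Ctx P e gs ns D chk) :
    UB (subW gs [[5]]) 3 :=
  c.pcs (UB.nil gs) (pc3_P_pe c) (pc3_P_pr c) pc3_P_pb (by decide +kernel)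

theorem pc3_P_c : P.chainB ns D pc3_P_vs [[5]] = true :=
  zc3

theorem pc3_P_o : prodL pc3_P_vs 1 = 3 := by decide +kernel

theorem pc3_P_lb (c : Ctx P e gs ns D chk) :
    LB (subW gs [[5]]) 3 :=
  c.lb pc3_P_c pc3_P_o

theorem pc3_P_card (c : Ctx P e gs ns D chk) :
    Nat.card (subW gs [[5]]) = 3 :=
  (pc3_P_ub c).card_eq (pc3_P_lb c)

theorem pc3_sG_c : P.chainB ns D pc3_sG_vs [[5]] = true :=
  zc4

theorem pc3_sG_o : prodL pc3_sG_vs 1 = 3 := by decide +kernel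

theorem pc3_s (c : Ctx P e gs ns D chk) :
    ∀ g, g ∈ (subW gs []) ↔ g ∈ (subW gs [[5]]) ∧ ∀ m ∈ pc3_s_ms, g ∈ sstab G (mset e P.n m) :=
  c.setStab (Rels.nil _) (c.sOk (c.exact pc3_sG_c pc3_sG_o (pc3_P_ub c)) zs5) (fun _ h => by cases h) zm8 zs7

theorem pc3 (c : Ctx P e gs ns D chk) (hK : Nat.card (subW gs [[0], [2]]) = 24) :
    Cfsg.pCore 3 (subW gs [[0], [2]]) = ⊥ :=
  pCore_eq_bot_of_le (c.pCoreOf_le (p := 3) (by norm_num) (b := 8) hK (pc3_P_card c) (by norm_num) (c.le_of_rels (ws := [[5]]) (l := [[0], [2]]) (c.rels _ zr13) zm12) zm10 (pc3_s c))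

theorem core3 : Cfsg.pCore 3 (subW gs1 [[0], [2]]) = ⊥ := pc3 c1 card

end
end CL.Std.S4

namespace CL.Std.A4
open CL.PG

def P : Par := ⟨4, 4, 2, 1⟩
theorem hP : P.Ok := by decide
noncomputable def a0 : Net := (.cons 2 (nat_lit 0x1)
 (.cons 1 (nat_lit 0x1)
 .nil))
noncomputable def a1 : Net := (.cons 1 (nat_lit 0x4)
 (.cons 2 (nat_lit 0x2)
 .nil))
noncomputable def ns0 : List Net := [a0, a1]
noncomputable def ws : List (List ℕ) :=
  []
noncomputable def ns : List Net := [a0, a1]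
noncomputable def D : List (ℕ × List ℕ) := app [] (mkDefs ws 2)
noncomputable def chk : List (List ℕ × List ℕ) → Bool := P.relsB ns
noncomputable def G_v0 : Lev :=
  ⟨0, 4, sg (W (nat_lit 0x300401)), [[2]], 0, 0⟩
noncomputable def G_v1 : Lev :=
  ⟨1, 3, sg (W (nat_lit 0xc03)), [], 0, 0⟩
noncomputable def G_vs2 : List Lev :=
  []
noncomputable def G_vs1 : List Lev :=
  G_v1 :: G_vs2
noncomputable def G_vs : List Lev :=
  G_v0 :: G_vs1
noncomputable def zt1 : List ℕ :=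
  []
noncomputable def zcj2 : List (List ℕ) :=
  []
noncomputable def zus5 : List (List ℕ) :=
  [[0],
  [1],
  W (nat_lit 0x404)]
noncomputable def zF6 : List (List (ℕ × List ℕ)) :=
  [[(1, []),
   (2, []),
   (0, []),
   (3, [3])],
  [(0, [2]),
   (2, [3]),
   (3, [2]),
   (1, [])]]
noncomputable def pc3_P_ps : List PcG :=
  [⟨[3], 3, [], []⟩]
noncomputable def pc3_P_v0 : Lev :=
  ⟨1, 3, sg (W (nat_lit 0x1004)), [], 0, 0⟩
noncomputable def pc3_P_vs1 : List Lev :=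
  []
noncomputable def pc3_P_vs : List Lev :=
  pc3_P_v0 :: pc3_P_vs1
noncomputable def pc3_s_ms : List ℕ :=
  [(nat_lit 0x4)]
noncomputable def pc3_sG_v0 : Lev :=
  ⟨2, 3, sg (W (nat_lit 0x1004)), [], 0, 0⟩
noncomputable def pc3_sG_vs1 : List Lev :=
  []
noncomputable def pc3_sG_vs : List Lev :=
  pc3_sG_v0 :: pc3_sG_vs1
noncomputable def pc3_s_x : List (ℕ × List ℕ) :=
  [((nat_lit 0), [])]
noncomputable def pc3_s_G : Gl :=
  ⟨P, ns, (app D []), [], [], [], memM (app D []) [], true⟩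
noncomputable def pc3_s_s : St :=
  ⟨(mkS P.n pc3_sG_vs pc3_s_x), [[3]], [], diag pc3_s_ms, memM (app D []) [], []⟩
noncomputable def zt14 : ST :=
  (.br 0 [] [] [(2, [])] (.cons .fnd
 .nil))
noncomputable def zus17 : List (List ℕ × ℕ) :=
  [(W (nat_lit 0x404), (nat_lit 0x1))]
noncomputable def zts19 : List (List ℕ) :=
  [[3]]

theorem zc0 : P.chainB ns D G_vs [[0], [2]] = true := by decide +kernel
theorem zb3 : bnd (pcB D [] 3 zt1 zcj2) (leB (app D []) [[2]] ([2] :: [])) = true := by decide +kernel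
theorem zr4 : chk (pcR [] [2] 3 zt1 zcj2) = true := by decide +kernel
theorem zb7 : schB D [[0], [2]] [[2]] zus5 zF6 4 = true := by decide +kernel
theorem zr8 : chk (schR [[0], [2]] zus5 zF6) = true := by decide +kernel
theorem zr9 : chk (pcsR pc3_P_ps []) = true := by decide +kernel
theorem zb10 : bnd (pcsB D pc3_P_ps []) (leB (app D []) [[3]] (pcGens pc3_P_ps [])) = true := by decide +kernel
theorem zc11 : P.chainB ns D pc3_P_vs [[3]] = true := by decide +kernel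
theorem zc12 : P.chainB ns D pc3_sG_vs [[3]] = true := by decide +kernel
theorem zs13 : ssB P.N ns D (mkS P.n pc3_sG_vs pc3_s_x) [[3]] = true := by decide +kernel
theorem zs15 : pc3_s_G.chk zt14 pc3_s_s none = true := by decide +kernel
theorem zm16 : bnd (allL (invB P.N ns []) pc3_s_ms) (leB D [] [[3]]) = true := by decide +kernel
theorem zm18 : P.coreB ns D [[0], [2]] [[3]] zus17 pc3_s_ms = true := by decide +kernel
theorem zm20 : leB D zts19 [[0], [2]] = true := by decide +kernel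
theorem zr21 : chk (zp [] [[3]] zts19) = true := by decide +kernel
theorem zk22 : allL (keepB P.n P.N) ns0 = true := by decide +kernel
theorem ze23 : extB ns0 ns 2 ws [] = true := by decide +kernel
theorem zn24 : P.netsB ns (mkDefs ws 2) = true := by decide +kernel

section
variable {G X : Type*} [Group G] [MulAction G X] {e : ℕ → X} {gs : List G}

theorem keep0 : allL (keepB P.n P.N) ns0 = true := zk22

theorem len {k} (c : Ctx P e gs ns0 [] k) : gs.length = 2 := c.len ze23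

theorem ctx0 {k} (c : Ctx P e gs ns0 [] k) : Ctx P e (ext gs ws) ns D chk0 :=
  c.ext rfl ze23 zn24

theorem ctx {k} (c : Ctx P e gs ns0 [] k) {H : Subgroup G} (hF : Faithful e P.n H) (hH : ∀ g ∈ gs, g ∈ H) :
    Ctx P e (ext gs ws) ns D chk :=
  (ctx0 c).withB hF (mem_of_mem_ext hH _)

instance instNe : NeZero P.n := ⟨by decide⟩
noncomputable def gs0 : List (Equiv.Perm (Fin P.n)) := permsOf P.n P.N ns0
noncomputable def gs1 : List (Equiv.Perm (Fin P.n)) := ext gs0 ws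
theorem c1 : Ctx P (eF P.n) gs1 ns D chk :=
  ctx (ctx_permsOf hP keep0) (faithful_eF _) fun _ _ => trivial

theorem G_c : P.chainB ns D G_vs [[0], [2]] = true :=
  zc0

theorem G_o : prodL G_vs 1 = 12 := by decide +kernel

theorem G_lb (c : Ctx P e gs ns D chk) :
    LB (subW gs [[0], [2]]) 12 :=
  c.lb G_c G_o

theorem G_u1 (c : Ctx P e gs ns D chk) :
    UB (subW gs [[2]]) 3 :=
  (c.pc_step (UB.nil gs) (Rels.nil _)
    (c.rels _ zr4) zb3).le (by decide)

theorem G_u0 (c : Ctx P e gs ns D chk) :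
    UB (subW gs [[0], [2]]) 12 :=
  (c.sch_step (G_u1 c)
    (c.rels _ zr8) zb7).le (by decide)

theorem G_ub (c : Ctx P e gs ns D chk) :
    UB (subW gs [[0], [2]]) 12 :=
  (G_u0 c)

theorem card : Nat.card (subW gs1 [[0], [2]]) = 12 := (G_ub c1).card_eq (G_lb c1)
theorem eq : (subW gs1 [[0], [2]]) = alternatingGroup (Fin 4) := eq_alternatingGroup_of_card card (by decide)
theorem iso : Nonempty ((subW gs1 [[0], [2]]) ≃* alternatingGroup (Fin 4)) := ⟨MulEquiv.subgroupCongr eq⟩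

theorem ub : UB (subW gs1 [[0], [2]]) 12 := UB.of_card card (by norm_num)

theorem pc3_P_pr (c : Ctx P e gs ns D chk) :
    Rels gs (pcsR pc3_P_ps []) :=
  (c.rels _ zr9)

theorem pc3_P_pe (c : Ctx P e gs ns D chk) :
    Rels gs (defRels []) :=
  (Rels.nil _)

theorem pc3_P_pb : bnd (pcsB D pc3_P_ps []) (leB (app D []) [[3]] (pcGens pc3_P_ps [])) = true := zb10

theorem pc3_P_ub (c : Ctx P e gs ns D chk) :
    UB (subW gs [[3]]) 3 :=
  c.pcs (UB.nil gs) (pc3_P_pe c) (pc3_P_pr c) pc3_P_pb (by decide +kernel)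

theorem pc3_P_c : P.chainB ns D pc3_P_vs [[3]] = true :=
  zc11

theorem pc3_P_o : prodL pc3_P_vs 1 = 3 := by decide +kernel

theorem pc3_P_lb (c : Ctx P e gs ns D chk) :
    LB (subW gs [[3]]) 3 :=
  c.lb pc3_P_c pc3_P_o

theorem pc3_P_card (c : Ctx P e gs ns D chk) :
    Nat.card (subW gs [[3]]) = 3 :=
  (pc3_P_ub c).card_eq (pc3_P_lb c)

theorem pc3_sG_c : P.chainB ns D pc3_sG_vs [[3]] = true :=
  zc12

theorem pc3_sG_o : prodL pc3_sG_vs 1 = 3 := by decide +kernel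

theorem pc3_s (c : Ctx P e gs ns D chk) :
    ∀ g, g ∈ (subW gs []) ↔ g ∈ (subW gs [[3]]) ∧ ∀ m ∈ pc3_s_ms, g ∈ sstab G (mset e P.n m) :=
  c.setStab (Rels.nil _) (c.sOk (c.exact pc3_sG_c pc3_sG_o (pc3_P_ub c)) zs13) (fun _ h => by cases h) zm16 zs15

theorem pc3 (c : Ctx P e gs ns D chk) (hK : Nat.card (subW gs [[0], [2]]) = 12) :
    Cfsg.pCore 3 (subW gs [[0], [2]]) = ⊥ :=
  pCore_eq_bot_of_le (c.pCoreOf_le (p := 3) (by norm_num) (b := 4) hK (pc3_P_card c) (by norm_num) (c.le_of_rels (ws := [[3]]) (l := [[0], [2]]) (c.rels _ zr21) zm20) zm18 (pc3_s c))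

theorem core3 : Cfsg.pCore 3 (subW gs1 [[0], [2]]) = ⊥ := pc3 c1 card

end
end CL.Std.A4

namespace CL.Std.S5
open CL.PG

def P : Par := ⟨5, 5, 3, 2⟩
theorem hP : P.Ok := by decide
noncomputable def a0 : Net := (.cons 1 (nat_lit 0x1)
 .nil)
noncomputable def a1 : Net := (.cons 1 (nat_lit 0x1)
 (.cons 1 (nat_lit 0x2)
 (.cons 1 (nat_lit 0x4)
 (.cons 1 (nat_lit 0x8)
 .nil))))
noncomputable def a2 : Net := (.cons 1 (nat_lit 0x2)
 .nil)
noncomputable def a3 : Net := (.cons 1 (nat_lit 0x2)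
 (.cons 1 (nat_lit 0x4)
 (.cons 1 (nat_lit 0x8)
 .nil)))
noncomputable def a4 : Net := (.cons 1 (nat_lit 0x4)
 (.cons 1 (nat_lit 0x8)
 .nil))
noncomputable def a5 : Net := (.cons 1 (nat_lit 0x4)
 .nil)
noncomputable def a6 : Net := (.cons 1 (nat_lit 0x8)
 .nil)
noncomputable def a7 : Net := (.cons 1 (nat_lit 0x4)
 (.cons 1 (nat_lit 0xa)
 (.cons 1 (nat_lit 0x4)
 .nil)))
noncomputable def a8 : Net := (.cons 1 (nat_lit 0x2)
 .nil)
noncomputable def ns0 : List Net := [a0, a1]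
noncomputable def ws : List (List ℕ) :=
  [W (nat_lit 0x400403),
  W (nat_lit 0x80200c02),
  W (nat_lit 0x1c06),
  W (nat_lit 0x80200602006),
  W (nat_lit 0xa02c09),
  W (nat_lit 0x901407),
  W (nat_lit 0xf0340f)]
noncomputable def ns : List Net := [a0, a1, a2, a3, a4, a5, a6, a7, a8]
noncomputable def D : List (ℕ × List ℕ) := app [] (mkDefs ws 2)
noncomputable def chk : List (List ℕ × List ℕ) → Bool := P.relsB ns
noncomputable def G_v0 : Lev :=
  ⟨0, 5, sg (W (nat_lit 0xc0300c01)), [[4], [6]], 0, 2⟩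
noncomputable def G_v1 : Lev :=
  ⟨1, 4, sg (W (nat_lit 0x701c05)), [[8], [10]], 2, 2⟩
noncomputable def G_v2 : Lev :=
  ⟨2, 3, sg (W (nat_lit 0x2409)), [[12]], 4, 1⟩
noncomputable def G_v3 : Lev :=
  ⟨3, 2, sg [12], [], 5, 0⟩
noncomputable def G_vs4 : List Lev :=
  []
noncomputable def G_vs3 : List Lev :=
  G_v3 :: G_vs4
noncomputable def G_vs2 : List Lev :=
  G_v2 :: G_vs3
noncomputable def G_vs1 : List Lev :=
  G_v1 :: G_vs2
noncomputable def G_vs : List Lev :=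
  G_v0 :: G_vs1
noncomputable def pc2_P_ps : List PcG :=
  [⟨[14], 2, [], [[12], [16]]⟩,
  ⟨[16], 2, [], [[12]]⟩,
  ⟨[12], 2, [], []⟩]
noncomputable def pc2_P_v0 : Lev :=
  ⟨1, 4, sg (W (nat_lit 0xf0340f)), [[12]], 6, 0⟩
noncomputable def pc2_P_v1 : Lev :=
  ⟨3, 2, sg [12], [], 5, 0⟩
noncomputable def pc2_P_vs2 : List Lev :=
  []
noncomputable def pc2_P_vs1 : List Lev :=
  pc2_P_v1 :: pc2_P_vs2
noncomputable def pc2_P_vs : List Lev :=
  pc2_P_v0 :: pc2_P_vs1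
noncomputable def pc2_s_ms : List ℕ :=
  [(nat_lit 0x10),
  (nat_lit 0x1d)]
noncomputable def pc2_sG_v0 : Lev :=
  ⟨1, 4, sg (W (nat_lit 0xf0340f)), [[12]], 6, 0⟩
noncomputable def pc2_sG_v1 : Lev :=
  ⟨3, 2, sg [12], [], 5, 0⟩
noncomputable def pc2_sG_vs2 : List Lev :=
  []
noncomputable def pc2_sG_vs1 : List Lev :=
  pc2_sG_v1 :: pc2_sG_vs2
noncomputable def pc2_sG_vs : List Lev :=
  pc2_sG_v0 :: pc2_sG_vs1
noncomputable def pc2_s_x : List (ℕ × List ℕ) :=
  [((nat_lit 0), [(nat_lit 0x1e)]),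
  ((nat_lit 0), [(nat_lit 0x18)])]
noncomputable def pc2_s_G : Gl :=
  ⟨P, ns, (app D []), [], [], [], memM (app D []) [], true⟩
noncomputable def pc2_s_s : St :=
  ⟨(mkS P.n pc2_sG_vs pc2_s_x), [[12], [14]], [], diag pc2_s_ms, memM (app D []) [], []⟩
noncomputable def zt6 : ST :=
  (.orb 0 (.dif 0 2 (.br 0 [] [] [(1, [])] (.cons (.orb 0 (.dif 0 4 (.br 0 [] [] [(3, [])] (.cons .fnd
 .nil))))
 .nil))))
noncomputable def zus9 : List (List ℕ × ℕ) :=
  [(W (nat_lit 0x100401002), (nat_lit 0x1)),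
  (W (nat_lit 0x20080400802), (nat_lit 0x1e))]
noncomputable def zts11 : List (List ℕ) :=
  [[12],
  W (nat_lit 0x901407)]
noncomputable def pc3_P_ps : List PcG :=
  [⟨[8], 3, [], []⟩]
noncomputable def pc3_P_v0 : Lev :=
  ⟨2, 3, sg (W (nat_lit 0x2409)), [], 7, 0⟩
noncomputable def pc3_P_vs1 : List Lev :=
  []
noncomputable def pc3_P_vs : List Lev :=
  pc3_P_v0 :: pc3_P_vs1
noncomputable def pc3_s_ms : List ℕ :=
  [(nat_lit 0x4)]
noncomputable def pc3_sG_v0 : Lev :=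
  ⟨2, 3, sg (W (nat_lit 0x2409)), [], 7, 0⟩
noncomputable def pc3_sG_vs1 : List Lev :=
  []
noncomputable def pc3_sG_vs : List Lev :=
  pc3_sG_v0 :: pc3_sG_vs1
noncomputable def pc3_s_x : List (ℕ × List ℕ) :=
  [((nat_lit 0), [])]
noncomputable def pc3_s_G : Gl :=
  ⟨P, ns, (app D []), [], [], [], memM (app D []) [], true⟩
noncomputable def pc3_s_s : St :=
  ⟨(mkS P.n pc3_sG_vs pc3_s_x), [[8]], [], diag pc3_s_ms, memM (app D []) [], []⟩
noncomputable def zt19 : ST :=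
  (.br 0 [] [] [(2, [])] (.cons .fnd
 .nil))
noncomputable def zus22 : List (List ℕ × ℕ) :=
  [(W (nat_lit 0x1004040040100403), (nat_lit 0x2))]
noncomputable def zts24 : List (List ℕ) :=
  [[8]]

theorem zc0 : P.chainB ns D G_vs [[0], [2]] = true := by decide +kernel
theorem zr1 : chk (pcsR pc2_P_ps []) = true := by decide +kernel
theorem zb2 : bnd (pcsB D pc2_P_ps []) (leB (app D []) [[12], [14]] (pcGens pc2_P_ps [])) = true := by decide +kernel
theorem zc3 : P.chainB ns D pc2_P_vs [[12], [14]] = true := by decide +kernel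
theorem zc4 : P.chainB ns D pc2_sG_vs [[12], [14]] = true := by decide +kernel
theorem zs5 : ssB P.N ns D (mkS P.n pc2_sG_vs pc2_s_x) [[12], [14]] = true := by decide +kernel
theorem zs7 : pc2_s_G.chk zt6 pc2_s_s none = true := by decide +kernel
theorem zm8 : bnd (allL (invB P.N ns []) pc2_s_ms) (leB D [] [[12], [14]]) = true := by decide +kernel
theorem zm10 : P.coreB ns D [[0], [2]] [[12], [14]] zus9 pc2_s_ms = true := by decide +kernel
theorem zm12 : leB D zts11 [[0], [2]] = true := by decide +kernel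
theorem zr13 : chk (zp [] [[12], [14]] zts11) = true := by decide +kernel
theorem zr14 : chk (pcsR pc3_P_ps []) = true := by decide +kernel
theorem zb15 : bnd (pcsB D pc3_P_ps []) (leB (app D []) [[8]] (pcGens pc3_P_ps [])) = true := by decide +kernel
theorem zc16 : P.chainB ns D pc3_P_vs [[8]] = true := by decide +kernel
theorem zc17 : P.chainB ns D pc3_sG_vs [[8]] = true := by decide +kernel
theorem zs18 : ssB P.N ns D (mkS P.n pc3_sG_vs pc3_s_x) [[8]] = true := by decide +kernel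
theorem zs20 : pc3_s_G.chk zt19 pc3_s_s none = true := by decide +kernel
theorem zm21 : bnd (allL (invB P.N ns []) pc3_s_ms) (leB D [] [[8]]) = true := by decide +kernel
theorem zm23 : P.coreB ns D [[0], [2]] [[8]] zus22 pc3_s_ms = true := by decide +kernel
theorem zm25 : leB D zts24 [[0], [2]] = true := by decide +kernel
theorem zr26 : chk (zp [] [[8]] zts24) = true := by decide +kernel
theorem zk27 : allL (keepB P.n P.N) ns0 = true := by decide +kernel
theorem ze28 : extB ns0 ns 2 ws [] = true := by decide +kernel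
theorem zn29 : P.netsB ns (mkDefs ws 2) = true := by decide +kernel

section
variable {G X : Type*} [Group G] [MulAction G X] {e : ℕ → X} {gs : List G}

theorem keep0 : allL (keepB P.n P.N) ns0 = true := zk27

theorem len {k} (c : Ctx P e gs ns0 [] k) : gs.length = 2 := c.len ze28

theorem ctx0 {k} (c : Ctx P e gs ns0 [] k) : Ctx P e (ext gs ws) ns D chk0 :=
  c.ext rfl ze28 zn29

theorem ctx {k} (c : Ctx P e gs ns0 [] k) {H : Subgroup G} (hF : Faithful e P.n H) (hH : ∀ g ∈ gs, g ∈ H) :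
    Ctx P e (ext gs ws) ns D chk :=
  (ctx0 c).withB hF (mem_of_mem_ext hH _)

instance instNe : NeZero P.n := ⟨by decide⟩
noncomputable def gs0 : List (Equiv.Perm (Fin P.n)) := permsOf P.n P.N ns0
noncomputable def gs1 : List (Equiv.Perm (Fin P.n)) := ext gs0 ws
theorem c1 : Ctx P (eF P.n) gs1 ns D chk :=
  ctx (ctx_permsOf hP keep0) (faithful_eF _) fun _ _ => trivial

theorem G_c : P.chainB ns D G_vs [[0], [2]] = true :=
  zc0

theorem G_o : prodL G_vs 1 = 120 := by decide +kernel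

theorem G_lb (c : Ctx P e gs ns D chk) :
    LB (subW gs [[0], [2]]) 120 :=
  c.lb G_c G_o

theorem top : (subW gs1 [[0], [2]]) = ⊤ := eq_top_of_lb (G_lb c1) (card_perm_fin 5 (by decide)) (by norm_num)
theorem iso : Nonempty ((subW gs1 [[0], [2]]) ≃* Equiv.Perm (Fin 5)) := equiv_of_eq_top top
theorem card : Nat.card (subW gs1 [[0], [2]]) = 120 := (Nat.card_congr iso.some.toEquiv).trans (card_perm_fin 5 (by decide))

theorem ub : UB (subW gs1 [[0], [2]]) 120 := UB.of_card card (by norm_num)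

theorem pc2_P_pr (c : Ctx P e gs ns D chk) :
    Rels gs (pcsR pc2_P_ps []) :=
  (c.rels _ zr1)

theorem pc2_P_pe (c : Ctx P e gs ns D chk) :
    Rels gs (defRels []) :=
  (Rels.nil _)

theorem pc2_P_pb : bnd (pcsB D pc2_P_ps []) (leB (app D []) [[12], [14]] (pcGens pc2_P_ps [])) = true := zb2

theorem pc2_P_ub (c : Ctx P e gs ns D chk) :
    UB (subW gs [[12], [14]]) 8 :=
  c.pcs (UB.nil gs) (pc2_P_pe c) (pc2_P_pr c) pc2_P_pb (by decide +kernel)

theorem pc2_P_c : P.chainB ns D pc2_P_vs [[12], [14]] = true :=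
  zc3

theorem pc2_P_o : prodL pc2_P_vs 1 = 8 := by decide +kernel

theorem pc2_P_lb (c : Ctx P e gs ns D chk) :
    LB (subW gs [[12], [14]]) 8 :=
  c.lb pc2_P_c pc2_P_o

theorem pc2_P_card (c : Ctx P e gs ns D chk) :
    Nat.card (subW gs [[12], [14]]) = 8 :=
  (pc2_P_ub c).card_eq (pc2_P_lb c)

theorem pc2_sG_c : P.chainB ns D pc2_sG_vs [[12], [14]] = true :=
  zc4

theorem pc2_sG_o : prodL pc2_sG_vs 1 = 8 := by decide +kernel

theorem pc2_s (c : Ctx P e gs ns D chk) :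
    ∀ g, g ∈ (subW gs []) ↔ g ∈ (subW gs [[12], [14]]) ∧ ∀ m ∈ pc2_s_ms, g ∈ sstab G (mset e P.n m) :=
  c.setStab (Rels.nil _) (c.sOk (c.exact pc2_sG_c pc2_sG_o (pc2_P_ub c)) zs5) (fun _ h => by cases h) zm8 zs7

theorem pc2 (c : Ctx P e gs ns D chk) (hK : Nat.card (subW gs [[0], [2]]) = 120) :
    Cfsg.pCore 2 (subW gs [[0], [2]]) = ⊥ :=
  pCore_eq_bot_of_le (c.pCoreOf_le (p := 2) (by norm_num) (b := 15) hK (pc2_P_card c) (by norm_num) (c.le_of_rels (ws := [[12], [14]]) (l := [[0], [2]]) (c.rels _ zr13) zm12) zm10 (pc2_s c))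

theorem core2 : Cfsg.pCore 2 (subW gs1 [[0], [2]]) = ⊥ := pc2 c1 card

theorem pc3_P_pr (c : Ctx P e gs ns D chk) :
    Rels gs (pcsR pc3_P_ps []) :=
  (c.rels _ zr14)

theorem pc3_P_pe (c : Ctx P e gs ns D chk) :
    Rels gs (defRels []) :=
  (Rels.nil _)

theorem pc3_P_pb : bnd (pcsB D pc3_P_ps []) (leB (app D []) [[8]] (pcGens pc3_P_ps [])) = true := zb15

theorem pc3_P_ub (c : Ctx P e gs ns D chk) :
    UB (subW gs [[8]]) 3 :=
  c.pcs (UB.nil gs) (pc3_P_pe c) (pc3_P_pr c) pc3_P_pb (by decide +kernel)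

theorem pc3_P_c : P.chainB ns D pc3_P_vs [[8]] = true :=
  zc16

theorem pc3_P_o : prodL pc3_P_vs 1 = 3 := by decide +kernel

theorem pc3_P_lb (c : Ctx P e gs ns D chk) :
    LB (subW gs [[8]]) 3 :=
  c.lb pc3_P_c pc3_P_o

theorem pc3_P_card (c : Ctx P e gs ns D chk) :
    Nat.card (subW gs [[8]]) = 3 :=
  (pc3_P_ub c).card_eq (pc3_P_lb c)

theorem pc3_sG_c : P.chainB ns D pc3_sG_vs [[8]] = true :=
  zc17

theorem pc3_sG_o : prodL pc3_sG_vs 1 = 3 := by decide +kernel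

theorem pc3_s (c : Ctx P e gs ns D chk) :
    ∀ g, g ∈ (subW gs []) ↔ g ∈ (subW gs [[8]]) ∧ ∀ m ∈ pc3_s_ms, g ∈ sstab G (mset e P.n m) :=
  c.setStab (Rels.nil _) (c.sOk (c.exact pc3_sG_c pc3_sG_o (pc3_P_ub c)) zs18) (fun _ h => by cases h) zm21 zs20

theorem pc3 (c : Ctx P e gs ns D chk) (hK : Nat.card (subW gs [[0], [2]]) = 120) :
    Cfsg.pCore 3 (subW gs [[0], [2]]) = ⊥ :=
  pCore_eq_bot_of_le (c.pCoreOf_le (p := 3) (by norm_num) (b := 40) hK (pc3_P_card c) (by norm_num) (c.le_of_rels (ws := [[8]]) (l := [[0], [2]]) (c.rels _ zr26) zm25) zm23 (pc3_s c))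

theorem core3 : Cfsg.pCore 3 (subW gs1 [[0], [2]]) = ⊥ := pc3 c1 card

end
end CL.Std.S5

namespace CL.Std.A5
open CL.PG

def P : Par := ⟨5, 5, 3, 2⟩
theorem hP : P.Ok := by decide
noncomputable def a0 : Net := (.cons 1 (nat_lit 0x1)
 (.cons 1 (nat_lit 0x2)
 .nil))
noncomputable def a1 : Net := (.cons 1 (nat_lit 0x1)
 (.cons 1 (nat_lit 0x2)
 (.cons 1 (nat_lit 0x4)
 (.cons 1 (nat_lit 0x8)
 .nil))))
noncomputable def a2 : Net := (.cons 1 (nat_lit 0x2)
 (.cons 1 (nat_lit 0x4)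
 (.cons 1 (nat_lit 0xa)
 .nil)))
noncomputable def a3 : Net := (.cons 1 (nat_lit 0x4)
 (.cons 1 (nat_lit 0xa)
 (.cons 1 (nat_lit 0x4)
 .nil)))
noncomputable def a4 : Net := (.cons 1 (nat_lit 0x8)
 (.cons 1 (nat_lit 0x4)
 .nil))
noncomputable def ns0 : List Net := [a0, a1]
noncomputable def ws : List (List ℕ) :=
  [W (nat_lit 0x100c01),
  W (nat_lit 0x300c01),
  W (nat_lit 0x1407)]
noncomputable def ns : List Net := [a0, a1, a2, a3, a4]
noncomputable def D : List (ℕ × List ℕ) := app [] (mkDefs ws 2)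
noncomputable def chk : List (List ℕ × List ℕ) → Bool := P.relsB ns
noncomputable def G_v0 : Lev :=
  ⟨0, 5, sg (W (nat_lit 0x300c01)), [[4], [6]], 0, 2⟩
noncomputable def G_v1 : Lev :=
  ⟨1, 4, sg (W (nat_lit 0x1c05)), [[8]], 2, 1⟩
noncomputable def G_v2 : Lev :=
  ⟨2, 3, sg (W (nat_lit 0x2409)), [], 3, 0⟩
noncomputable def G_vs3 : List Lev :=
  []
noncomputable def G_vs2 : List Lev :=
  G_v2 :: G_vs3
noncomputable def G_vs1 : List Lev :=
  G_v1 :: G_vs2
noncomputable def G_vs : List Lev :=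
  G_v0 :: G_vs1
noncomputable def zt1 : List ℕ :=
  []
noncomputable def zcj2 : List (List ℕ) :=
  []
noncomputable def zus5 : List (List ℕ) :=
  [[4],
  [5],
  W (nat_lit 0x1409)]
noncomputable def zF6 : List (List (ℕ × List ℕ)) :=
  [[(1, []),
   (2, []),
   (0, []),
   (3, [8])],
  [(1, [9]),
   (0, [8]),
   (3, []),
   (2, [])]]
noncomputable def zus9 : List (List ℕ) :=
  [[0],
  [1],
  [3],
  W (nat_lit 0x405)]
noncomputable def zF10 : List (List (ℕ × List ℕ)) :=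
  [[(1, []),
   (2, []),
   (0, []),
   (3, W (nat_lit 0xa01409)),
   (4, W (nat_lit 0x1409))],
  [(1, [9]),
   (2, [4]),
   (4, W (nat_lit 0x2806)),
   (0, []),
   (3, [5])]]

theorem zc0 : P.chainB ns D G_vs [[0], [2]] = true := by decide +kernel
theorem zb3 : bnd (pcB D [] 3 zt1 zcj2) (leB (app D []) [[8]] ([8] :: [])) = true := by decide +kernel
theorem zr4 : chk (pcR [] [8] 3 zt1 zcj2) = true := by decide +kernel
theorem zb7 : schB D [[4], [6]] [[8]] zus5 zF6 4 = true := by decide +kernel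
theorem zr8 : chk (schR [[4], [6]] zus5 zF6) = true := by decide +kernel
theorem zb11 : schB D [[0], [2]] [[4], [6]] zus9 zF10 5 = true := by decide +kernel
theorem zr12 : chk (schR [[0], [2]] zus9 zF10) = true := by decide +kernel
theorem zk13 : allL (keepB P.n P.N) ns0 = true := by decide +kernel
theorem ze14 : extB ns0 ns 2 ws [] = true := by decide +kernel
theorem zn15 : P.netsB ns (mkDefs ws 2) = true := by decide +kernel

section
variable {G X : Type*} [Group G] [MulAction G X] {e : ℕ → X} {gs : List G}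

theorem keep0 : allL (keepB P.n P.N) ns0 = true := zk13

theorem len {k} (c : Ctx P e gs ns0 [] k) : gs.length = 2 := c.len ze14

theorem ctx0 {k} (c : Ctx P e gs ns0 [] k) : Ctx P e (ext gs ws) ns D chk0 :=
  c.ext rfl ze14 zn15

theorem ctx {k} (c : Ctx P e gs ns0 [] k) {H : Subgroup G} (hF : Faithful e P.n H) (hH : ∀ g ∈ gs, g ∈ H) :
    Ctx P e (ext gs ws) ns D chk :=
  (ctx0 c).withB hF (mem_of_mem_ext hH _)

instance instNe : NeZero P.n := ⟨by decide⟩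
noncomputable def gs0 : List (Equiv.Perm (Fin P.n)) := permsOf P.n P.N ns0
noncomputable def gs1 : List (Equiv.Perm (Fin P.n)) := ext gs0 ws
theorem c1 : Ctx P (eF P.n) gs1 ns D chk :=
  ctx (ctx_permsOf hP keep0) (faithful_eF _) fun _ _ => trivial

theorem G_c : P.chainB ns D G_vs [[0], [2]] = true :=
  zc0

theorem G_o : prodL G_vs 1 = 60 := by decide +kernel

theorem G_lb (c : Ctx P e gs ns D chk) :
    LB (subW gs [[0], [2]]) 60 :=
  c.lb G_c G_o

theorem G_u2 (c : Ctx P e gs ns D chk) :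
    UB (subW gs [[8]]) 3 :=
  (c.pc_step (UB.nil gs) (Rels.nil _)
    (c.rels _ zr4) zb3).le (by decide)

theorem G_u1 (c : Ctx P e gs ns D chk) :
    UB (subW gs [[4], [6]]) 12 :=
  (c.sch_step (G_u2 c)
    (c.rels _ zr8) zb7).le (by decide)

theorem G_u0 (c : Ctx P e gs ns D chk) :
    UB (subW gs [[0], [2]]) 60 :=
  (c.sch_step (G_u1 c)
    (c.rels _ zr12) zb11).le (by decide)

theorem G_ub (c : Ctx P e gs ns D chk) :
    UB (subW gs [[0], [2]]) 60 :=
  (G_u0 c)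

theorem card : Nat.card (subW gs1 [[0], [2]]) = 60 := (G_ub c1).card_eq (G_lb c1)
theorem eq : (subW gs1 [[0], [2]]) = alternatingGroup (Fin 5) := eq_alternatingGroup_of_card card (by decide)
theorem iso : Nonempty ((subW gs1 [[0], [2]]) ≃* alternatingGroup (Fin 5)) := ⟨MulEquiv.subgroupCongr eq⟩

theorem simple : IsSimpleGroup (subW gs1 [[0], [2]]) :=
  have := alternatingGroup.isSimpleGroup (α := Fin 5) (by simp)
  iso.some.isSimpleGroup

theorem ub : UB (subW gs1 [[0], [2]]) 60 := UB.of_card card (by norm_num)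

end
end CL.Std.A5

namespace CL.Std.S6
open CL.PG

def P : Par := ⟨6, 6, 3, 2⟩
theorem hP : P.Ok := by decide
noncomputable def a0 : Net := (.cons 1 (nat_lit 0x1)
 .nil)
noncomputable def a1 : Net := (.cons 3 (nat_lit 0x1)
 (.cons 1 (nat_lit 0x9)
 (.cons 1 (nat_lit 0x12)
 .nil)))
noncomputable def a2 : Net := (.cons 3 (nat_lit 0x4)
 (.cons 1 (nat_lit 0x8)
 (.cons 1 (nat_lit 0x10)
 (.cons 1 (nat_lit 0x8)
 (.cons 3 (nat_lit 0x4)
 .nil)))))
noncomputable def a3 : Net := (.cons 3 (nat_lit 0x4)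
 (.cons 1 (nat_lit 0x12)
 (.cons 1 (nat_lit 0x8)
 .nil)))
noncomputable def a4 : Net := (.cons 1 (nat_lit 0x8)
 (.cons 1 (nat_lit 0x10)
 (.cons 3 (nat_lit 0x4)
 .nil)))
noncomputable def a5 : Net := (.cons 1 (nat_lit 0x8)
 (.cons 1 (nat_lit 0x10)
 .nil))
noncomputable def a6 : Net := (.cons 1 (nat_lit 0x8)
 .nil)
noncomputable def a7 : Net := (.cons 1 (nat_lit 0x10)
 .nil)
noncomputable def a8 : Net := (.cons 3 (nat_lit 0x2)
 (.cons 1 (nat_lit 0x1)
 (.cons 3 (nat_lit 0x2)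
 .nil)))
noncomputable def a9 : Net := (.cons 3 (nat_lit 0x6)
 (.cons 1 (nat_lit 0x8)
 (.cons 3 (nat_lit 0x2)
 .nil)))
noncomputable def a10 : Net := (.cons 3 (nat_lit 0x4)
 (.cons 1 (nat_lit 0x2)
 (.cons 3 (nat_lit 0x4)
 .nil)))
noncomputable def a11 : Net := (.cons 3 (nat_lit 0x4)
 (.cons 1 (nat_lit 0x8)
 (.cons 1 (nat_lit 0x10)
 (.cons 1 (nat_lit 0x8)
 (.cons 3 (nat_lit 0x4)
 .nil)))))
noncomputable def a12 : Net := (.cons 1 (nat_lit 0x8)
 (.cons 1 (nat_lit 0x12)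
 (.cons 1 (nat_lit 0x8)
 .nil)))
noncomputable def a13 : Net := (.cons 3 (nat_lit 0x6)
 (.cons 1 (nat_lit 0x8)
 (.cons 1 (nat_lit 0x10)
 (.cons 1 (nat_lit 0x9)
 (.cons 3 (nat_lit 0x6)
 .nil)))))
noncomputable def a14 : Net := (.cons 3 (nat_lit 0x2)
 (.cons 1 (nat_lit 0x1)
 (.cons 3 (nat_lit 0x2)
 .nil)))
noncomputable def a15 : Net := (.cons 3 (nat_lit 0x4)
 (.cons 1 (nat_lit 0x8)
 (.cons 1 (nat_lit 0x10)
 (.cons 1 (nat_lit 0x8)
 (.cons 3 (nat_lit 0x4)
 .nil)))))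
noncomputable def a16 : Net := (.cons 1 (nat_lit 0x9)
 (.cons 1 (nat_lit 0x12)
 .nil))
noncomputable def a17 : Net := (.cons 3 (nat_lit 0x2)
 (.cons 1 (nat_lit 0x8)
 (.cons 1 (nat_lit 0x12)
 .nil)))
noncomputable def ns0 : List Net := [a0, a1]
noncomputable def ws : List (List ℕ) :=
  [W (nat_lit 0x40100200c03),
  W (nat_lit 0x404),
  W (nat_lit 0x200801807),
  W (nat_lit 0x180a0180a),
  W (nat_lit 0xa01809),
  W (nat_lit 0x2c0b0340b),
  W (nat_lit 0x3c0b0180901c0b01004),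
  W (nat_lit 0x3c0a01c0b),
  W (nat_lit 0xb01807),
  W (nat_lit 0x140501504c1605015),
  W (nat_lit 0x1704c17),
  W (nat_lit 0x481405414),
  W (nat_lit 0x1304814),
  W (nat_lit 0x781c),
  W (nat_lit 0x2c0a02001),
  W (nat_lit 0x3c0c01808)]
noncomputable def ns : List Net := [a0, a1, a2, a3, a4, a5, a6, a7, a8, a9, a10, a11, a12, a13, a14, a15, a16, a17]
noncomputable def D : List (ℕ × List ℕ) := app [] (mkDefs ws 2)
noncomputable def chk : List (List ℕ × List ℕ) → Bool := P.relsB ns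
noncomputable def G_v0 : Lev :=
  ⟨0, 6, sg (W (nat_lit 0x300c0300c01)), [[4], [6]], 0, 2⟩
noncomputable def G_v1 : Lev :=
  ⟨1, 5, sg (W (nat_lit 0x1c0701407)), [[8], [5]], 2, 1⟩
noncomputable def G_v2 : Lev :=
  ⟨2, 4, sg (W (nat_lit 0x902409)), [[10], [12]], 3, 2⟩
noncomputable def G_v3 : Lev :=
  ⟨3, 3, sg (W (nat_lit 0x2c0b)), [[14]], 5, 1⟩
noncomputable def G_v4 : Lev :=
  ⟨4, 2, sg [14], [], 6, 0⟩
noncomputable def G_vs5 : List Lev :=
  []
noncomputable def G_vs4 : List Lev :=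
  G_v4 :: G_vs5
noncomputable def G_vs3 : List Lev :=
  G_v3 :: G_vs4
noncomputable def G_vs2 : List Lev :=
  G_v2 :: G_vs3
noncomputable def G_vs1 : List Lev :=
  G_v1 :: G_vs2
noncomputable def G_vs : List Lev :=
  G_v0 :: G_vs1
noncomputable def pc2_P_ps : List PcG :=
  [⟨[20], 2, [], [[18], [24], [16]]⟩,
  ⟨[24], 2, [], [[18], [16]]⟩,
  ⟨[18], 2, [], [[16]]⟩,
  ⟨[16], 2, [], []⟩]
noncomputable def pc2_P_v0 : Lev :=
  ⟨0, 2, sg [16], [[18], [20]], 9, 0⟩
noncomputable def pc2_P_v1 : Lev :=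
  ⟨1, 4, sg (W (nat_lit 0x1305413)), [[22]], 9, 1⟩
noncomputable def pc2_P_v2 : Lev :=
  ⟨2, 2, sg [22], [], 10, 0⟩
noncomputable def pc2_P_vs3 : List Lev :=
  []
noncomputable def pc2_P_vs2 : List Lev :=
  pc2_P_v2 :: pc2_P_vs3
noncomputable def pc2_P_vs1 : List Lev :=
  pc2_P_v1 :: pc2_P_vs2
noncomputable def pc2_P_vs : List Lev :=
  pc2_P_v0 :: pc2_P_vs1
noncomputable def pc2_s_ms : List ℕ :=
  [(nat_lit 0x24),
  (nat_lit 0x6),
  (nat_lit 0x36)]
noncomputable def pc2_sG_v0 : Lev :=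
  ⟨1, 4, sg (W (nat_lit 0x1305413)), [[26], [28]], 11, 2⟩
noncomputable def pc2_sG_v1 : Lev :=
  ⟨0, 2, sg [26], [[30]], 13, 1⟩
noncomputable def pc2_sG_v2 : Lev :=
  ⟨2, 2, sg [30], [], 14, 0⟩
noncomputable def pc2_sG_vs3 : List Lev :=
  []
noncomputable def pc2_sG_vs2 : List Lev :=
  pc2_sG_v2 :: pc2_sG_vs3
noncomputable def pc2_sG_vs1 : List Lev :=
  pc2_sG_v1 :: pc2_sG_vs2
noncomputable def pc2_sG_vs : List Lev :=
  pc2_sG_v0 :: pc2_sG_vs1
noncomputable def pc2_s_x : List (ℕ × List ℕ) :=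
  [((nat_lit 0), []),
  ((nat_lit 0), [(nat_lit 0x11)]),
  ((nat_lit 0), [])]
noncomputable def pc2_s_G : Gl :=
  ⟨P, ns, (app D []), [], [], [], memM (app D []) [], true⟩
noncomputable def pc2_s_s : St :=
  ⟨(mkS P.n pc2_sG_vs pc2_s_x), [[16], [18], [20]], [], diag pc2_s_ms, memM (app D []) [], []⟩
noncomputable def zt6 : ST :=
  (.dif 1 0 (.br 0 [] [] [(1, [])] (.cons (.orb 0 (.dif 0 5 (.br 0 [] [] [(0, [])] (.cons (.and 5 6 (.br 0 [] [] [(2, [])] (.cons .fnd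
 .nil)))
 .nil))))
 .nil)))
noncomputable def zus9 : List (List ℕ × ℕ) :=
  [(W (nat_lit 0xc0100c0100c03), (nat_lit 0x11)),
  (W (nat_lit 0x100400804), (nat_lit 0x11)),
  (W (nat_lit 0x401002), (nat_lit 0x2e))]
noncomputable def zts11 : List (List ℕ) :=
  [W (nat_lit 0x3c0b0180901c0b01004),
  W (nat_lit 0x3c0a01c0b),
  W (nat_lit 0xb01807)]
noncomputable def pc3_P_ps : List PcG :=
  [⟨[11], 3, [], [[32]]⟩,
  ⟨[32], 3, [], []⟩]
noncomputable def pc3_P_v0 : Lev :=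
  ⟨0, 3, sg (W (nat_lit 0x8421)), [[11]], 15, 0⟩
noncomputable def pc3_P_v1 : Lev :=
  ⟨3, 3, sg (W (nat_lit 0x300c)), [], 15, 0⟩
noncomputable def pc3_P_vs2 : List Lev :=
  []
noncomputable def pc3_P_vs1 : List Lev :=
  pc3_P_v1 :: pc3_P_vs2
noncomputable def pc3_P_vs : List Lev :=
  pc3_P_v0 :: pc3_P_vs1
noncomputable def pc3_s_ms : List ℕ :=
  [(nat_lit 0xe)]
noncomputable def pc3_sG_v0 : Lev :=
  ⟨0, 3, sg (W (nat_lit 0x8421)), [[11]], 15, 0⟩
noncomputable def pc3_sG_v1 : Lev :=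
  ⟨3, 3, sg (W (nat_lit 0x300c)), [], 15, 0⟩
noncomputable def pc3_sG_vs2 : List Lev :=
  []
noncomputable def pc3_sG_vs1 : List Lev :=
  pc3_sG_v1 :: pc3_sG_vs2
noncomputable def pc3_sG_vs : List Lev :=
  pc3_sG_v0 :: pc3_sG_vs1
noncomputable def pc3_s_x : List (ℕ × List ℕ) :=
  [((nat_lit 0), [(nat_lit 0x7)]),
  ((nat_lit 0), [])]
noncomputable def pc3_s_G : Gl :=
  ⟨P, ns, (app D []), [], [], [], memM (app D []) [], true⟩
noncomputable def pc3_s_s : St :=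
  ⟨(mkS P.n pc3_sG_vs pc3_s_x), [[32], [11]], [], diag pc3_s_ms, memM (app D []) [], []⟩
noncomputable def zt19 : ST :=
  (.orb 0 (.dif 0 1 (.br 0 [] [] [(0, [])] (.cons (.dif 3 2 (.br 0 [] [] [(3, [])] (.cons .fnd
 .nil)))
 .nil))))
noncomputable def zus22 : List (List ℕ × ℕ) :=
  [(W (nat_lit 0x100200802), (nat_lit 0x7))]
noncomputable def zts24 : List (List ℕ) :=
  [W (nat_lit 0x2c0a02001),
  [11]]
noncomputable def pc5_P_ps : List PcG :=
  [⟨[34], 5, [], []⟩]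
noncomputable def pc5_P_v0 : Lev :=
  ⟨1, 5, sg (W (nat_lit 0x8c2308c23)), [], 16, 0⟩
noncomputable def pc5_P_vs1 : List Lev :=
  []
noncomputable def pc5_P_vs : List Lev :=
  pc5_P_v0 :: pc5_P_vs1
noncomputable def pc5_s_ms : List ℕ :=
  [(nat_lit 0x1f)]
noncomputable def pc5_sG_v0 : Lev :=
  ⟨5, 5, sg (W (nat_lit 0x8c2308c23)), [], 16, 0⟩
noncomputable def pc5_sG_vs1 : List Lev :=
  []
noncomputable def pc5_sG_vs : List Lev :=
  pc5_sG_v0 :: pc5_sG_vs1
noncomputable def pc5_s_x : List (ℕ × List ℕ) :=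
  [((nat_lit 0), [(nat_lit 0x3e)])]
noncomputable def pc5_s_G : Gl :=
  ⟨P, ns, (app D []), [], [], [], memM (app D []) [], true⟩
noncomputable def pc5_s_s : St :=
  ⟨(mkS P.n pc5_sG_vs pc5_s_x), [[34]], [], diag pc5_s_ms, memM (app D []) [], []⟩
noncomputable def zt32 : ST :=
  (.orb 0 (.dif 0 1 (.br 0 [] [] [(5, [])] (.cons .fnd
 .nil))))
noncomputable def zus35 : List (List ℕ × ℕ) :=
  [(W (nat_lit 0x100200c0200803), (nat_lit 0x3e))]
noncomputable def zts37 : List (List ℕ) :=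
  [W (nat_lit 0x3c0c01808)]

theorem zc0 : P.chainB ns D G_vs [[0], [2]] = true := by decide +kernel
theorem zr1 : chk (pcsR pc2_P_ps []) = true := by decide +kernel
theorem zb2 : bnd (pcsB D pc2_P_ps []) (leB (app D []) [[16], [18], [20]] (pcGens pc2_P_ps [])) = true := by decide +kernel
theorem zc3 : P.chainB ns D pc2_P_vs [[16], [18], [20]] = true := by decide +kernel
theorem zc4 : P.chainB ns D pc2_sG_vs [[16], [18], [20]] = true := by decide +kernel
theorem zs5 : ssB P.N ns D (mkS P.n pc2_sG_vs pc2_s_x) [[16], [18], [20]] = true := by decide +kernel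
theorem zs7 : pc2_s_G.chk zt6 pc2_s_s none = true := by decide +kernel
theorem zm8 : bnd (allL (invB P.N ns []) pc2_s_ms) (leB D [] [[16], [18], [20]]) = true := by decide +kernel
theorem zm10 : P.coreB ns D [[0], [2]] [[16], [18], [20]] zus9 pc2_s_ms = true := by decide +kernel
theorem zm12 : leB D zts11 [[0], [2]] = true := by decide +kernel
theorem zr13 : chk (zp [] [[16], [18], [20]] zts11) = true := by decide +kernel
theorem zr14 : chk (pcsR pc3_P_ps []) = true := by decide +kernel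
theorem zb15 : bnd (pcsB D pc3_P_ps []) (leB (app D []) [[32], [11]] (pcGens pc3_P_ps [])) = true := by decide +kernel
theorem zc16 : P.chainB ns D pc3_P_vs [[32], [11]] = true := by decide +kernel
theorem zc17 : P.chainB ns D pc3_sG_vs [[32], [11]] = true := by decide +kernel
theorem zs18 : ssB P.N ns D (mkS P.n pc3_sG_vs pc3_s_x) [[32], [11]] = true := by decide +kernel
theorem zs20 : pc3_s_G.chk zt19 pc3_s_s none = true := by decide +kernel
theorem zm21 : bnd (allL (invB P.N ns []) pc3_s_ms) (leB D [] [[32], [11]]) = true := by decide +kernel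
theorem zm23 : P.coreB ns D [[0], [2]] [[32], [11]] zus22 pc3_s_ms = true := by decide +kernel
theorem zm25 : leB D zts24 [[0], [2]] = true := by decide +kernel
theorem zr26 : chk (zp [] [[32], [11]] zts24) = true := by decide +kernel
theorem zr27 : chk (pcsR pc5_P_ps []) = true := by decide +kernel
theorem zb28 : bnd (pcsB D pc5_P_ps []) (leB (app D []) [[34]] (pcGens pc5_P_ps [])) = true := by decide +kernel
theorem zc29 : P.chainB ns D pc5_P_vs [[34]] = true := by decide +kernel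
theorem zc30 : P.chainB ns D pc5_sG_vs [[34]] = true := by decide +kernel
theorem zs31 : ssB P.N ns D (mkS P.n pc5_sG_vs pc5_s_x) [[34]] = true := by decide +kernel
theorem zs33 : pc5_s_G.chk zt32 pc5_s_s none = true := by decide +kernel
theorem zm34 : bnd (allL (invB P.N ns []) pc5_s_ms) (leB D [] [[34]]) = true := by decide +kernel
theorem zm36 : P.coreB ns D [[0], [2]] [[34]] zus35 pc5_s_ms = true := by decide +kernel
theorem zm38 : leB D zts37 [[0], [2]] = true := by decide +kernel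
theorem zr39 : chk (zp [] [[34]] zts37) = true := by decide +kernel
theorem zk40 : allL (keepB P.n P.N) ns0 = true := by decide +kernel
theorem ze41 : extB ns0 ns 2 ws [] = true := by decide +kernel
theorem zn42 : P.netsB ns (mkDefs ws 2) = true := by decide +kernel

section
variable {G X : Type*} [Group G] [MulAction G X] {e : ℕ → X} {gs : List G}

theorem keep0 : allL (keepB P.n P.N) ns0 = true := zk40

theorem len {k} (c : Ctx P e gs ns0 [] k) : gs.length = 2 := c.len ze41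

theorem ctx0 {k} (c : Ctx P e gs ns0 [] k) : Ctx P e (ext gs ws) ns D chk0 :=
  c.ext rfl ze41 zn42

theorem ctx {k} (c : Ctx P e gs ns0 [] k) {H : Subgroup G} (hF : Faithful e P.n H) (hH : ∀ g ∈ gs, g ∈ H) :
    Ctx P e (ext gs ws) ns D chk :=
  (ctx0 c).withB hF (mem_of_mem_ext hH _)

instance instNe : NeZero P.n := ⟨by decide⟩
noncomputable def gs0 : List (Equiv.Perm (Fin P.n)) := permsOf P.n P.N ns0
noncomputable def gs1 : List (Equiv.Perm (Fin P.n)) := ext gs0 ws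
theorem c1 : Ctx P (eF P.n) gs1 ns D chk :=
  ctx (ctx_permsOf hP keep0) (faithful_eF _) fun _ _ => trivial

theorem G_c : P.chainB ns D G_vs [[0], [2]] = true :=
  zc0

theorem G_o : prodL G_vs 1 = 720 := by decide +kernel

theorem G_lb (c : Ctx P e gs ns D chk) :
    LB (subW gs [[0], [2]]) 720 :=
  c.lb G_c G_o

theorem top : (subW gs1 [[0], [2]]) = ⊤ := eq_top_of_lb (G_lb c1) (card_perm_fin 6 (by decide)) (by norm_num)
theorem iso : Nonempty ((subW gs1 [[0], [2]]) ≃* Equiv.Perm (Fin 6)) := equiv_of_eq_top top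
theorem card : Nat.card (subW gs1 [[0], [2]]) = 720 := (Nat.card_congr iso.some.toEquiv).trans (card_perm_fin 6 (by decide))

theorem ub : UB (subW gs1 [[0], [2]]) 720 := UB.of_card card (by norm_num)

theorem pc2_P_pr (c : Ctx P e gs ns D chk) :
    Rels gs (pcsR pc2_P_ps []) :=
  (c.rels _ zr1)

theorem pc2_P_pe (c : Ctx P e gs ns D chk) :
    Rels gs (defRels []) :=
  (Rels.nil _)

theorem pc2_P_pb : bnd (pcsB D pc2_P_ps []) (leB (app D []) [[16], [18], [20]] (pcGens pc2_P_ps [])) = true := zb2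

theorem pc2_P_ub (c : Ctx P e gs ns D chk) :
    UB (subW gs [[16], [18], [20]]) 16 :=
  c.pcs (UB.nil gs) (pc2_P_pe c) (pc2_P_pr c) pc2_P_pb (by decide +kernel)

theorem pc2_P_c : P.chainB ns D pc2_P_vs [[16], [18], [20]] = true :=
  zc3

theorem pc2_P_o : prodL pc2_P_vs 1 = 16 := by decide +kernel

theorem pc2_P_lb (c : Ctx P e gs ns D chk) :
    LB (subW gs [[16], [18], [20]]) 16 :=
  c.lb pc2_P_c pc2_P_o

theorem pc2_P_card (c : Ctx P e gs ns D chk) :
    Nat.card (subW gs [[16], [18], [20]]) = 16 :=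
  (pc2_P_ub c).card_eq (pc2_P_lb c)

theorem pc2_sG_c : P.chainB ns D pc2_sG_vs [[16], [18], [20]] = true :=
  zc4

theorem pc2_sG_o : prodL pc2_sG_vs 1 = 16 := by decide +kernel

theorem pc2_s (c : Ctx P e gs ns D chk) :
    ∀ g, g ∈ (subW gs []) ↔ g ∈ (subW gs [[16], [18], [20]]) ∧ ∀ m ∈ pc2_s_ms, g ∈ sstab G (mset e P.n m) :=
  c.setStab (Rels.nil _) (c.sOk (c.exact pc2_sG_c pc2_sG_o (pc2_P_ub c)) zs5) (fun _ h => by cases h) zm8 zs7

theorem pc2 (c : Ctx P e gs ns D chk) (hK : Nat.card (subW gs [[0], [2]]) = 720) :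
    Cfsg.pCore 2 (subW gs [[0], [2]]) = ⊥ :=
  pCore_eq_bot_of_le (c.pCoreOf_le (p := 2) (by norm_num) (b := 45) hK (pc2_P_card c) (by norm_num) (c.le_of_rels (ws := [[16], [18], [20]]) (l := [[0], [2]]) (c.rels _ zr13) zm12) zm10 (pc2_s c))

theorem core2 : Cfsg.pCore 2 (subW gs1 [[0], [2]]) = ⊥ := pc2 c1 card

theorem pc3_P_pr (c : Ctx P e gs ns D chk) :
    Rels gs (pcsR pc3_P_ps []) :=
  (c.rels _ zr14)

theorem pc3_P_pe (c : Ctx P e gs ns D chk) :
    Rels gs (defRels []) :=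
  (Rels.nil _)

theorem pc3_P_pb : bnd (pcsB D pc3_P_ps []) (leB (app D []) [[32], [11]] (pcGens pc3_P_ps [])) = true := zb15

theorem pc3_P_ub (c : Ctx P e gs ns D chk) :
    UB (subW gs [[32], [11]]) 9 :=
  c.pcs (UB.nil gs) (pc3_P_pe c) (pc3_P_pr c) pc3_P_pb (by decide +kernel)

theorem pc3_P_c : P.chainB ns D pc3_P_vs [[32], [11]] = true :=
  zc16

theorem pc3_P_o : prodL pc3_P_vs 1 = 9 := by decide +kernel

theorem pc3_P_lb (c : Ctx P e gs ns D chk) :
    LB (subW gs [[32], [11]]) 9 :=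
  c.lb pc3_P_c pc3_P_o

theorem pc3_P_card (c : Ctx P e gs ns D chk) :
    Nat.card (subW gs [[32], [11]]) = 9 :=
  (pc3_P_ub c).card_eq (pc3_P_lb c)

theorem pc3_sG_c : P.chainB ns D pc3_sG_vs [[32], [11]] = true :=
  zc17

theorem pc3_sG_o : prodL pc3_sG_vs 1 = 9 := by decide +kernel

theorem pc3_s (c : Ctx P e gs ns D chk) :
    ∀ g, g ∈ (subW gs []) ↔ g ∈ (subW gs [[32], [11]]) ∧ ∀ m ∈ pc3_s_ms, g ∈ sstab G (mset e P.n m) :=
  c.setStab (Rels.nil _) (c.sOk (c.exact pc3_sG_c pc3_sG_o (pc3_P_ub c)) zs18) (fun _ h => by cases h) zm21 zs20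

theorem pc3 (c : Ctx P e gs ns D chk) (hK : Nat.card (subW gs [[0], [2]]) = 720) :
    Cfsg.pCore 3 (subW gs [[0], [2]]) = ⊥ :=
  pCore_eq_bot_of_le (c.pCoreOf_le (p := 3) (by norm_num) (b := 80) hK (pc3_P_card c) (by norm_num) (c.le_of_rels (ws := [[32], [11]]) (l := [[0], [2]]) (c.rels _ zr26) zm25) zm23 (pc3_s c))

theorem core3 : Cfsg.pCore 3 (subW gs1 [[0], [2]]) = ⊥ := pc3 c1 card

theorem pc5_P_pr (c : Ctx P e gs ns D chk) :
    Rels gs (pcsR pc5_P_ps []) :=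
  (c.rels _ zr27)

theorem pc5_P_pe (c : Ctx P e gs ns D chk) :
    Rels gs (defRels []) :=
  (Rels.nil _)

theorem pc5_P_pb : bnd (pcsB D pc5_P_ps []) (leB (app D []) [[34]] (pcGens pc5_P_ps [])) = true := zb28

theorem pc5_P_ub (c : Ctx P e gs ns D chk) :
    UB (subW gs [[34]]) 5 :=
  c.pcs (UB.nil gs) (pc5_P_pe c) (pc5_P_pr c) pc5_P_pb (by decide +kernel)

theorem pc5_P_c : P.chainB ns D pc5_P_vs [[34]] = true :=
  zc29

theorem pc5_P_o : prodL pc5_P_vs 1 = 5 := by decide +kernel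

theorem pc5_P_lb (c : Ctx P e gs ns D chk) :
    LB (subW gs [[34]]) 5 :=
  c.lb pc5_P_c pc5_P_o

theorem pc5_P_card (c : Ctx P e gs ns D chk) :
    Nat.card (subW gs [[34]]) = 5 :=
  (pc5_P_ub c).card_eq (pc5_P_lb c)

theorem pc5_sG_c : P.chainB ns D pc5_sG_vs [[34]] = true :=
  zc30

theorem pc5_sG_o : prodL pc5_sG_vs 1 = 5 := by decide +kernel

theorem pc5_s (c : Ctx P e gs ns D chk) :
    ∀ g, g ∈ (subW gs []) ↔ g ∈ (subW gs [[34]]) ∧ ∀ m ∈ pc5_s_ms, g ∈ sstab G (mset e P.n m) :=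
  c.setStab (Rels.nil _) (c.sOk (c.exact pc5_sG_c pc5_sG_o (pc5_P_ub c)) zs31) (fun _ h => by cases h) zm34 zs33

theorem pc5 (c : Ctx P e gs ns D chk) (hK : Nat.card (subW gs [[0], [2]]) = 720) :
    Cfsg.pCore 5 (subW gs [[0], [2]]) = ⊥ :=
  pCore_eq_bot_of_le (c.pCoreOf_le (p := 5) (by norm_num) (b := 144) hK (pc5_P_card c) (by norm_num) (c.le_of_rels (ws := [[34]]) (l := [[0], [2]]) (c.rels _ zr39) zm38) zm36 (pc5_s c))

theorem core5 : Cfsg.pCore 5 (subW gs1 [[0], [2]]) = ⊥ := pc5 c1 card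

end
end CL.Std.S6

namespace CL.Std.A6
open CL.PG

def P : Par := ⟨6, 6, 3, 2⟩
theorem hP : P.Ok := by decide
noncomputable def a0 : Net := (.cons 1 (nat_lit 0x1)
 (.cons 1 (nat_lit 0x2)
 .nil))
noncomputable def a1 : Net := (.cons 1 (nat_lit 0x8)
 (.cons 1 (nat_lit 0x12)
 (.cons 3 (nat_lit 0x4)
 .nil)))
noncomputable def a2 : Net := (.cons 3 (nat_lit 0x2)
 (.cons 1 (nat_lit 0x2)
 (.cons 1 (nat_lit 0x8)
 (.cons 3 (nat_lit 0x4)
 .nil))))
noncomputable def a3 : Net := (.cons 3 (nat_lit 0x4)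
 (.cons 1 (nat_lit 0x8)
 (.cons 1 (nat_lit 0x10)
 (.cons 1 (nat_lit 0x8)
 .nil))))
noncomputable def a4 : Net := (.cons 3 (nat_lit 0x2)
 (.cons 1 (nat_lit 0x8)
 (.cons 1 (nat_lit 0x12)
 (.cons 1 (nat_lit 0x8)
 (.cons 3 (nat_lit 0x2)
 .nil)))))
noncomputable def a5 : Net := (.cons 1 (nat_lit 0x8)
 (.cons 1 (nat_lit 0x10)
 .nil))
noncomputable def ns0 : List Net := [a0, a1]
noncomputable def ws : List (List ℕ) :=
  [W (nat_lit 0x201002),
  W (nat_lit 0x180600c03),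
  W (nat_lit 0x1404),
  W (nat_lit 0x240701c0a)]
noncomputable def ns : List Net := [a0, a1, a2, a3, a4, a5]
noncomputable def D : List (ℕ × List ℕ) := app [] (mkDefs ws 2)
noncomputable def chk : List (List ℕ × List ℕ) → Bool := P.relsB ns
noncomputable def G_v0 : Lev :=
  ⟨0, 6, sg (W (nat_lit 0x300c0300401)), [[4], [3]], 0, 1⟩
noncomputable def G_v1 : Lev :=
  ⟨1, 5, sg (W (nat_lit 0x501005)), [[6], [8]], 1, 2⟩
noncomputable def G_v2 : Lev :=
  ⟨2, 4, sg (W (nat_lit 0x2407)), [[10]], 3, 1⟩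
noncomputable def G_v3 : Lev :=
  ⟨3, 3, sg (W (nat_lit 0x2c0b)), [], 4, 0⟩
noncomputable def G_vs4 : List Lev :=
  []
noncomputable def G_vs3 : List Lev :=
  G_v3 :: G_vs4
noncomputable def G_vs2 : List Lev :=
  G_v2 :: G_vs3
noncomputable def G_vs1 : List Lev :=
  G_v1 :: G_vs2
noncomputable def G_vs : List Lev :=
  G_v0 :: G_vs1
noncomputable def zt1 : List ℕ :=
  []
noncomputable def zcj2 : List (List ℕ) :=
  []
noncomputable def zus5 : List (List ℕ) :=
  [[6],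
  [7],
  [8]]
noncomputable def zF6 : List (List (ℕ × List ℕ)) :=
  [[(1, []),
   (2, []),
   (0, []),
   (3, [11])],
  [(3, []),
   (2, [10]),
   (1, [11]),
   (0, [])]]
noncomputable def zus9 : List (List ℕ) :=
  [[2],
  [5],
  [3],
  W (nat_lit 0x1004)]
noncomputable def zF10 : List (List (ℕ × List ℕ)) :=
  [[(1, [8]),
   (3, [10]),
   (0, []),
   (4, W (nat_lit 0x2c09)),
   (2, [7])],
  [(3, []),
   (0, []),
   (1, W (nat_lit 0x2c09)),
   (4, []),
   (2, W (nat_lit 0x2c08))]]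
noncomputable def zus13 : List (List ℕ) :=
  [[0],
  [1],
  W (nat_lit 0x404),
  W (nat_lit 0x406),
  W (nat_lit 0x809)]
noncomputable def zF14 : List (List (ℕ × List ℕ)) :=
  [[(1, []),
   (2, []),
   (0, []),
   (3, W (nat_lit 0x3006)),
   (4, W (nat_lit 0x2c04)),
   (5, W (nat_lit 0xc02003))],
  [(0, [2]),
   (2, [5]),
   (4, W (nat_lit 0xb02403)),
   (1, []),
   (5, W (nat_lit 0x801004)),
   (3, W (nat_lit 0x3003))]]

theorem zc0 : P.chainB ns D G_vs [[0], [2]] = true := by decide +kernel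
theorem zb3 : bnd (pcB D [] 3 zt1 zcj2) (leB (app D []) [[10]] ([10] :: [])) = true := by decide +kernel
theorem zr4 : chk (pcR [] [10] 3 zt1 zcj2) = true := by decide +kernel
theorem zb7 : schB D [[6], [8]] [[10]] zus5 zF6 4 = true := by decide +kernel
theorem zr8 : chk (schR [[6], [8]] zus5 zF6) = true := by decide +kernel
theorem zb11 : schB D [[4], [3]] [[6], [8]] zus9 zF10 5 = true := by decide +kernel
theorem zr12 : chk (schR [[4], [3]] zus9 zF10) = true := by decide +kernel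
theorem zb15 : schB D [[0], [2]] [[4], [3]] zus13 zF14 6 = true := by decide +kernel
theorem zr16 : chk (schR [[0], [2]] zus13 zF14) = true := by decide +kernel
theorem zk17 : allL (keepB P.n P.N) ns0 = true := by decide +kernel
theorem ze18 : extB ns0 ns 2 ws [] = true := by decide +kernel
theorem zn19 : P.netsB ns (mkDefs ws 2) = true := by decide +kernel

section
variable {G X : Type*} [Group G] [MulAction G X] {e : ℕ → X} {gs : List G}

theorem keep0 : allL (keepB P.n P.N) ns0 = true := zk17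

theorem len {k} (c : Ctx P e gs ns0 [] k) : gs.length = 2 := c.len ze18

theorem ctx0 {k} (c : Ctx P e gs ns0 [] k) : Ctx P e (ext gs ws) ns D chk0 :=
  c.ext rfl ze18 zn19

theorem ctx {k} (c : Ctx P e gs ns0 [] k) {H : Subgroup G} (hF : Faithful e P.n H) (hH : ∀ g ∈ gs, g ∈ H) :
    Ctx P e (ext gs ws) ns D chk :=
  (ctx0 c).withB hF (mem_of_mem_ext hH _)

instance instNe : NeZero P.n := ⟨by decide⟩
noncomputable def gs0 : List (Equiv.Perm (Fin P.n)) := permsOf P.n P.N ns0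
noncomputable def gs1 : List (Equiv.Perm (Fin P.n)) := ext gs0 ws
theorem c1 : Ctx P (eF P.n) gs1 ns D chk :=
  ctx (ctx_permsOf hP keep0) (faithful_eF _) fun _ _ => trivial

theorem G_c : P.chainB ns D G_vs [[0], [2]] = true :=
  zc0

theorem G_o : prodL G_vs 1 = 360 := by decide +kernel

theorem G_lb (c : Ctx P e gs ns D chk) :
    LB (subW gs [[0], [2]]) 360 :=
  c.lb G_c G_o

theorem G_u3 (c : Ctx P e gs ns D chk) :
    UB (subW gs [[10]]) 3 :=
  (c.pc_step (UB.nil gs) (Rels.nil _)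
    (c.rels _ zr4) zb3).le (by decide)

theorem G_u2 (c : Ctx P e gs ns D chk) :
    UB (subW gs [[6], [8]]) 12 :=
  (c.sch_step (G_u3 c)
    (c.rels _ zr8) zb7).le (by decide)

theorem G_u1 (c : Ctx P e gs ns D chk) :
    UB (subW gs [[4], [3]]) 60 :=
  (c.sch_step (G_u2 c)
    (c.rels _ zr12) zb11).le (by decide)

theorem G_u0 (c : Ctx P e gs ns D chk) :
    UB (subW gs [[0], [2]]) 360 :=
  (c.sch_step (G_u1 c)
    (c.rels _ zr16) zb15).le (by decide)

theorem G_ub (c : Ctx P e gs ns D chk) :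
    UB (subW gs [[0], [2]]) 360 :=
  (G_u0 c)

theorem card : Nat.card (subW gs1 [[0], [2]]) = 360 := (G_ub c1).card_eq (G_lb c1)
theorem eq : (subW gs1 [[0], [2]]) = alternatingGroup (Fin 6) := eq_alternatingGroup_of_card card (by decide)
theorem iso : Nonempty ((subW gs1 [[0], [2]]) ≃* alternatingGroup (Fin 6)) := ⟨MulEquiv.subgroupCongr eq⟩

theorem simple : IsSimpleGroup (subW gs1 [[0], [2]]) :=
  have := alternatingGroup.isSimpleGroup (α := Fin 6) (by simp)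
  iso.some.isSimpleGroup

theorem ub : UB (subW gs1 [[0], [2]]) 360 := UB.of_card card (by norm_num)

end
end CL.Std.A6

namespace CL.Std.S7
open CL.PG

def P : Par := ⟨7, 8, 3, 2⟩
theorem hP : P.Ok := by decide
noncomputable def a0 : Net := (.cons 1 (nat_lit 0x1)
 .nil)
noncomputable def a1 : Net := (.cons 4 (nat_lit 0x1)
 (.cons 2 (nat_lit 0x11)
 (.cons 1 (nat_lit 0x15)
 .nil)))
noncomputable def a2 : Net := (.cons 1 (nat_lit 0x4)
 (.cons 2 (nat_lit 0x2)
 .nil))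
noncomputable def a3 : Net := (.cons 4 (nat_lit 0xc)
 (.cons 2 (nat_lit 0x22)
 (.cons 1 (nat_lit 0x54)
 (.cons 2 (nat_lit 0x2)
 (.cons 4 (nat_lit 0x8)
 .nil)))))
noncomputable def a4 : Net := (.cons 4 (nat_lit 0x2)
 (.cons 2 (nat_lit 0x10)
 (.cons 1 (nat_lit 0x4)
 (.cons 2 (nat_lit 0x2)
 (.cons 4 (nat_lit 0x6)
 .nil)))))
noncomputable def a5 : Net := (.cons 2 (nat_lit 0x10)
 (.cons 1 (nat_lit 0x10)
 (.cons 4 (nat_lit 0x4)
 .nil)))
noncomputable def a6 : Net := (.cons 2 (nat_lit 0x20)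
 (.cons 1 (nat_lit 0x40)
 (.cons 2 (nat_lit 0x20)
 .nil)))
noncomputable def a7 : Net := (.cons 4 (nat_lit 0x8)
 (.cons 2 (nat_lit 0x20)
 (.cons 1 (nat_lit 0x50)
 (.cons 4 (nat_lit 0x8)
 .nil))))
noncomputable def a8 : Net := (.cons 2 (nat_lit 0x20)
 (.cons 1 (nat_lit 0x40)
 (.cons 2 (nat_lit 0x20)
 .nil)))
noncomputable def a9 : Net := (.cons 2 (nat_lit 0x10)
 (.cons 1 (nat_lit 0x10)
 .nil))
noncomputable def a10 : Net := (.cons 4 (nat_lit 0xc)
 (.cons 2 (nat_lit 0x32)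
 (.cons 1 (nat_lit 0x4)
 (.cons 2 (nat_lit 0x2)
 (.cons 4 (nat_lit 0xc)
 .nil)))))
noncomputable def a11 : Net := (.cons 4 (nat_lit 0xa)
 (.cons 1 (nat_lit 0x40)
 (.cons 4 (nat_lit 0x8)
 .nil)))
noncomputable def a12 : Net := (.cons 4 (nat_lit 0x4)
 (.cons 2 (nat_lit 0x12)
 (.cons 4 (nat_lit 0x4)
 .nil)))
noncomputable def a13 : Net := (.cons 4 (nat_lit 0xa)
 (.cons 2 (nat_lit 0x20)
 (.cons 1 (nat_lit 0x40)
 (.cons 4 (nat_lit 0x8)
 .nil))))
noncomputable def a14 : Net := (.cons 4 (nat_lit 0xa)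
 (.cons 1 (nat_lit 0x40)
 (.cons 4 (nat_lit 0x8)
 .nil)))
noncomputable def a15 : Net := (.cons 2 (nat_lit 0x20)
 (.cons 1 (nat_lit 0x40)
 (.cons 2 (nat_lit 0x20)
 .nil)))
noncomputable def a16 : Net := (.cons 4 (nat_lit 0x4)
 (.cons 2 (nat_lit 0x12)
 (.cons 4 (nat_lit 0x4)
 .nil)))
noncomputable def a17 : Net := (.cons 4 (nat_lit 0xa)
 (.cons 1 (nat_lit 0x40)
 (.cons 4 (nat_lit 0x8)
 .nil)))
noncomputable def a18 : Net := (.cons 4 (nat_lit 0x6)
 (.cons 2 (nat_lit 0x10)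
 (.cons 1 (nat_lit 0x4)
 (.cons 4 (nat_lit 0x4)
 .nil))))
noncomputable def a19 : Net := (.cons 4 (nat_lit 0x6)
 (.cons 2 (nat_lit 0x12)
 (.cons 1 (nat_lit 0x4)
 (.cons 2 (nat_lit 0x2)
 (.cons 4 (nat_lit 0x6)
 .nil)))))
noncomputable def a20 : Net := (.cons 4 (nat_lit 0x4)
 (.cons 2 (nat_lit 0x10)
 (.cons 4 (nat_lit 0x4)
 .nil)))
noncomputable def a21 : Net := (.cons 2 (nat_lit 0x20)
 (.cons 1 (nat_lit 0x40)
 (.cons 2 (nat_lit 0x20)
 .nil)))
noncomputable def a22 : Net := (.cons 4 (nat_lit 0x2)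
 (.cons 2 (nat_lit 0x20)
 (.cons 1 (nat_lit 0x40)
 (.cons 2 (nat_lit 0x20)
 .nil))))
noncomputable def a23 : Net := (.cons 4 (nat_lit 0xc)
 (.cons 2 (nat_lit 0x12)
 (.cons 1 (nat_lit 0x44)
 (.cons 2 (nat_lit 0x2)
 (.cons 4 (nat_lit 0xe)
 .nil)))))
noncomputable def a24 : Net := (.cons 4 (nat_lit 0xc)
 (.cons 2 (nat_lit 0x10)
 (.cons 1 (nat_lit 0x40)
 (.cons 4 (nat_lit 0xc)
 .nil))))
noncomputable def a25 : Net := (.cons 4 (nat_lit 0xc)
 (.cons 2 (nat_lit 0x12)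
 (.cons 1 (nat_lit 0x44)
 (.cons 2 (nat_lit 0x2)
 (.cons 4 (nat_lit 0xe)
 .nil)))))
noncomputable def a26 : Net := (.cons 4 (nat_lit 0x4)
 (.cons 2 (nat_lit 0x30)
 (.cons 1 (nat_lit 0x44)
 (.cons 2 (nat_lit 0x20)
 .nil))))
noncomputable def ns0 : List Net := [a0, a1]
noncomputable def ws : List (List ℕ) :=
  [W (nat_lit 0x10040080300803),
  W (nat_lit 0x404),
  W (nat_lit 0x802005),
  W (nat_lit 0x502005),
  W (nat_lit 0xa0300a),
  W (nat_lit 0x2c0a),
  W (nat_lit 0xe03c0e03810),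
  W (nat_lit 0x3c0d03c0f),
  W (nat_lit 0x1302807),
  W (nat_lit 0x4c0f034090140a),
  W (nat_lit 0x1403c0d02406),
  W (nat_lit 0x641705c16),
  W (nat_lit 0x1506016),
  W (nat_lit 0x701d0701c),
  W (nat_lit 0x6c15),
  W (nat_lit 0x7c1b),
  W (nat_lit 0x1b06c15),
  W (nat_lit 0x1706818),
  W (nat_lit 0x541a05c1a),
  W (nat_lit 0xa42909c2a09c27),
  W (nat_lit 0x90140a),
  W (nat_lit 0x500a0140a),
  W (nat_lit 0x2f0b42d),
  W (nat_lit 0xc42d),
  W (nat_lit 0x500f0240f)]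
noncomputable def ns : List Net := [a0, a1, a2, a3, a4, a5, a6, a7, a8, a9, a10, a11, a12, a13, a14, a15, a16, a17, a18, a19, a20, a21, a22, a23, a24, a25, a26]
noncomputable def D : List (ℕ × List ℕ) := app [] (mkDefs ws 2)
noncomputable def chk : List (List ℕ × List ℕ) → Bool := P.relsB ns
noncomputable def G_v0 : Lev :=
  ⟨0, 7, sg (W (nat_lit 0xc0300c0300c01)), [[4], [6]], 0, 2⟩
noncomputable def G_v1 : Lev :=
  ⟨1, 6, sg (W (nat_lit 0x1c0701c05)), [[8], [10]], 2, 2⟩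
noncomputable def G_v2 : Lev :=
  ⟨2, 5, sg (W (nat_lit 0x902c09)), [[12], [14]], 4, 2⟩
noncomputable def G_v3 : Lev :=
  ⟨3, 4, sg (W (nat_lit 0xd03c0f)), [[16], [18]], 6, 2⟩
noncomputable def G_v4 : Lev :=
  ⟨4, 3, sg (W (nat_lit 0x4413)), [[16]], 8, 0⟩
noncomputable def G_v5 : Lev :=
  ⟨5, 2, sg [16], [], 8, 0⟩
noncomputable def G_vs6 : List Lev :=
  []
noncomputable def G_vs5 : List Lev :=
  G_v5 :: G_vs6
noncomputable def G_vs4 : List Lev :=
  G_v4 :: G_vs5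
noncomputable def G_vs3 : List Lev :=
  G_v3 :: G_vs4
noncomputable def G_vs2 : List Lev :=
  G_v2 :: G_vs3
noncomputable def G_vs1 : List Lev :=
  G_v1 :: G_vs2
noncomputable def G_vs : List Lev :=
  G_v0 :: G_vs1
noncomputable def pc2_P_ps : List PcG :=
  [⟨[32], 2, [], [W (nat_lit 0x1509423), [20], [36]]⟩,
  ⟨[34], 2, [], [[36], [20]]⟩,
  ⟨[36], 2, [], [[20]]⟩,
  ⟨[20], 2, [], []⟩]
noncomputable def zE1 : List (ℕ × List ℕ) :=
  [(22, [34]),
  (24, [32])]
noncomputable def pc2_P_v0 : Lev :=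
  ⟨2, 2, sg [20], [[26], [28]], 11, 2⟩
noncomputable def pc2_P_v1 : Lev :=
  ⟨1, 4, sg (W (nat_lit 0x741b)), [[30]], 13, 1⟩
noncomputable def pc2_P_v2 : Lev :=
  ⟨5, 2, sg [30], [], 14, 0⟩
noncomputable def pc2_P_vs3 : List Lev :=
  []
noncomputable def pc2_P_vs2 : List Lev :=
  pc2_P_v2 :: pc2_P_vs3
noncomputable def pc2_P_vs1 : List Lev :=
  pc2_P_v1 :: pc2_P_vs2
noncomputable def pc2_P_vs : List Lev :=
  pc2_P_v0 :: pc2_P_vs1
noncomputable def pc2_s_ms : List ℕ :=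
  [(nat_lit 0x22),
  (nat_lit 0x69),
  (nat_lit 0x4d)]
noncomputable def pc2_sG_v0 : Lev :=
  ⟨1, 4, sg (W (nat_lit 0x5c15)), [[38], [40]], 17, 2⟩
noncomputable def pc2_sG_v1 : Lev :=
  ⟨2, 2, sg [38], [[42]], 19, 1⟩
noncomputable def pc2_sG_v2 : Lev :=
  ⟨5, 2, sg [42], [], 20, 0⟩
noncomputable def pc2_sG_vs3 : List Lev :=
  []
noncomputable def pc2_sG_vs2 : List Lev :=
  pc2_sG_v2 :: pc2_sG_vs3
noncomputable def pc2_sG_vs1 : List Lev :=
  pc2_sG_v1 :: pc2_sG_vs2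
noncomputable def pc2_sG_vs : List Lev :=
  pc2_sG_v0 :: pc2_sG_vs1
noncomputable def pc2_s_x : List (ℕ × List ℕ) :=
  [((nat_lit 0), []),
  ((nat_lit 0), [(nat_lit 0x14)]),
  ((nat_lit 0), [])]
noncomputable def pc2_s_G : Gl :=
  ⟨P, ns, (app D []), [], [], [], memM (app D []) [], true⟩
noncomputable def pc2_s_s : St :=
  ⟨(mkS P.n pc2_sG_vs pc2_s_x), [[20], [22], [24]], [], diag pc2_s_ms, memM (app D []) [], []⟩
noncomputable def zt8 : ST :=
  (.dif 0 1 (.br 0 [] [] [(1, [])] (.cons (.orb 0 (.and 0 5 (.br 0 [] [] [(2, [])] (.cons (.and 5 6 (.br 0 [] [] [(5, [])] (.cons .fnd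
 .nil)))
 .nil))))
 .nil)))
noncomputable def zus11 : List (List ℕ × ℕ) :=
  [(W (nat_lit 0x1010040040400802), (nat_lit 0x14)),
  (W (nat_lit 0x30080201002), (nat_lit 0x6a)),
  (W (nat_lit 0x100c0300c0200c02), (nat_lit 0x6a))]
noncomputable def zts13 : List (List ℕ) :=
  [W (nat_lit 0x1302807),
  W (nat_lit 0x4c0f034090140a),
  W (nat_lit 0x1403c0d02406)]
noncomputable def pc3_P_ps : List PcG :=
  [⟨[50], 3, [], [[44]]⟩,
  ⟨[44], 3, [], []⟩]
noncomputable def zE16 : List (ℕ × List ℕ) :=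
  [(46, [50])]
noncomputable def pc3_P_v0 : Lev :=
  ⟨1, 3, sg (W (nat_lit 0xb42d)), [[48]], 22, 1⟩
noncomputable def pc3_P_v1 : Lev :=
  ⟨2, 3, sg (W (nat_lit 0xc431)), [], 23, 0⟩
noncomputable def pc3_P_vs2 : List Lev :=
  []
noncomputable def pc3_P_vs1 : List Lev :=
  pc3_P_v1 :: pc3_P_vs2
noncomputable def pc3_P_vs : List Lev :=
  pc3_P_v0 :: pc3_P_vs1
noncomputable def pc3_s_ms : List ℕ :=
  [(nat_lit 0x2),
  (nat_lit 0x32)]
noncomputable def pc3_sG_v0 : Lev :=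
  ⟨1, 3, sg (W (nat_lit 0xb42d)), [[48]], 22, 1⟩
noncomputable def pc3_sG_v1 : Lev :=
  ⟨4, 3, sg (W (nat_lit 0xc431)), [], 24, 0⟩
noncomputable def pc3_sG_vs2 : List Lev :=
  []
noncomputable def pc3_sG_vs1 : List Lev :=
  pc3_sG_v1 :: pc3_sG_vs2
noncomputable def pc3_sG_vs : List Lev :=
  pc3_sG_v0 :: pc3_sG_vs1
noncomputable def pc3_s_x : List (ℕ × List ℕ) :=
  [((nat_lit 0), []),
  ((nat_lit 0), [(nat_lit 0x1c)])]
noncomputable def pc3_s_G : Gl :=
  ⟨P, ns, (app D []), [], [], [], memM (app D []) [], true⟩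
noncomputable def pc3_s_s : St :=
  ⟨(mkS P.n pc3_sG_vs pc3_s_x), [[44], [46]], [], diag pc3_s_ms, memM (app D []) [], []⟩
noncomputable def zt23 : ST :=
  (.br 0 [] [] [(1, [])] (.cons (.orb 0 (.and 3 0 (.br 0 [] [] [(4, [])] (.cons .fnd
 .nil))))
 .nil))
noncomputable def zus26 : List (List ℕ × ℕ) :=
  [(W (nat_lit 0x200c01), (nat_lit 0x1)),
  (W (nat_lit 0x40080400403), (nat_lit 0x1c))]
noncomputable def zts28 : List (List ℕ) :=
  [W (nat_lit 0x90140a),
  W (nat_lit 0x500a0140a)]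
noncomputable def pc5_P_ps : List PcG :=
  [⟨[52], 5, [], []⟩]
noncomputable def pc5_P_v0 : Lev :=
  ⟨2, 5, sg (W (nat_lit 0xd4350d435)), [], 25, 0⟩
noncomputable def pc5_P_vs1 : List Lev :=
  []
noncomputable def pc5_P_vs : List Lev :=
  pc5_P_v0 :: pc5_P_vs1
noncomputable def pc5_s_ms : List ℕ :=
  [(nat_lit 0x8)]
noncomputable def pc5_sG_v0 : Lev :=
  ⟨3, 5, sg (W (nat_lit 0xd4350d435)), [], 25, 0⟩
noncomputable def pc5_sG_vs1 : List Lev :=
  []
noncomputable def pc5_sG_vs : List Lev :=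
  pc5_sG_v0 :: pc5_sG_vs1
noncomputable def pc5_s_x : List (ℕ × List ℕ) :=
  [((nat_lit 0), [])]
noncomputable def pc5_s_G : Gl :=
  ⟨P, ns, (app D []), [], [], [], memM (app D []) [], true⟩
noncomputable def pc5_s_s : St :=
  ⟨(mkS P.n pc5_sG_vs pc5_s_x), [[52]], [], diag pc5_s_ms, memM (app D []) [], []⟩
noncomputable def zt36 : ST :=
  (.br 0 [] [] [(3, [])] (.cons .fnd
 .nil))
noncomputable def zus39 : List (List ℕ × ℕ) :=
  [(W (nat_lit 0x10100101001), (nat_lit 0x1))]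
noncomputable def zts41 : List (List ℕ) :=
  [W (nat_lit 0x500f0240f)]

theorem zc0 : P.chainB ns D G_vs [[0], [2]] = true := by decide +kernel
theorem zr2 : chk (pcsR pc2_P_ps []) = true := by decide +kernel
theorem zr3 : chk (defRels zE1) = true := by decide +kernel
theorem zb4 : bnd (pcsB D pc2_P_ps []) (leB (app D zE1) [[20], [22], [24]] (pcGens pc2_P_ps [])) = true := by decide +kernel
theorem zc5 : P.chainB ns D pc2_P_vs [[20], [22], [24]] = true := by decide +kernel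
theorem zc6 : P.chainB ns D pc2_sG_vs [[20], [22], [24]] = true := by decide +kernel
theorem zs7 : ssB P.N ns D (mkS P.n pc2_sG_vs pc2_s_x) [[20], [22], [24]] = true := by decide +kernel
theorem zs9 : pc2_s_G.chk zt8 pc2_s_s none = true := by decide +kernel
theorem zm10 : bnd (allL (invB P.N ns []) pc2_s_ms) (leB D [] [[20], [22], [24]]) = true := by decide +kernel
theorem zm12 : P.coreB ns D [[0], [2]] [[20], [22], [24]] zus11 pc2_s_ms = true := by decide +kernel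
theorem zm14 : leB D zts13 [[0], [2]] = true := by decide +kernel
theorem zr15 : chk (zp [] [[20], [22], [24]] zts13) = true := by decide +kernel
theorem zr17 : chk (pcsR pc3_P_ps []) = true := by decide +kernel
theorem zr18 : chk (defRels zE16) = true := by decide +kernel
theorem zb19 : bnd (pcsB D pc3_P_ps []) (leB (app D zE16) [[44], [46]] (pcGens pc3_P_ps [])) = true := by decide +kernel
theorem zc20 : P.chainB ns D pc3_P_vs [[44], [46]] = true := by decide +kernel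
theorem zc21 : P.chainB ns D pc3_sG_vs [[44], [46]] = true := by decide +kernel
theorem zs22 : ssB P.N ns D (mkS P.n pc3_sG_vs pc3_s_x) [[44], [46]] = true := by decide +kernel
theorem zs24 : pc3_s_G.chk zt23 pc3_s_s none = true := by decide +kernel
theorem zm25 : bnd (allL (invB P.N ns []) pc3_s_ms) (leB D [] [[44], [46]]) = true := by decide +kernel
theorem zm27 : P.coreB ns D [[0], [2]] [[44], [46]] zus26 pc3_s_ms = true := by decide +kernel
theorem zm29 : leB D zts28 [[0], [2]] = true := by decide +kernel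
theorem zr30 : chk (zp [] [[44], [46]] zts28) = true := by decide +kernel
theorem zr31 : chk (pcsR pc5_P_ps []) = true := by decide +kernel
theorem zb32 : bnd (pcsB D pc5_P_ps []) (leB (app D []) [[52]] (pcGens pc5_P_ps [])) = true := by decide +kernel
theorem zc33 : P.chainB ns D pc5_P_vs [[52]] = true := by decide +kernel
theorem zc34 : P.chainB ns D pc5_sG_vs [[52]] = true := by decide +kernel
theorem zs35 : ssB P.N ns D (mkS P.n pc5_sG_vs pc5_s_x) [[52]] = true := by decide +kernel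
theorem zs37 : pc5_s_G.chk zt36 pc5_s_s none = true := by decide +kernel
theorem zm38 : bnd (allL (invB P.N ns []) pc5_s_ms) (leB D [] [[52]]) = true := by decide +kernel
theorem zm40 : P.coreB ns D [[0], [2]] [[52]] zus39 pc5_s_ms = true := by decide +kernel
theorem zm42 : leB D zts41 [[0], [2]] = true := by decide +kernel
theorem zr43 : chk (zp [] [[52]] zts41) = true := by decide +kernel
theorem zk44 : allL (keepB P.n P.N) ns0 = true := by decide +kernel
theorem ze45 : extB ns0 ns 2 ws [] = true := by decide +kernel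
theorem zn46 : P.netsB ns (mkDefs ws 2) = true := by decide +kernel

section
variable {G X : Type*} [Group G] [MulAction G X] {e : ℕ → X} {gs : List G}

theorem keep0 : allL (keepB P.n P.N) ns0 = true := zk44

theorem len {k} (c : Ctx P e gs ns0 [] k) : gs.length = 2 := c.len ze45

theorem ctx0 {k} (c : Ctx P e gs ns0 [] k) : Ctx P e (ext gs ws) ns D chk0 :=
  c.ext rfl ze45 zn46

theorem ctx {k} (c : Ctx P e gs ns0 [] k) {H : Subgroup G} (hF : Faithful e P.n H) (hH : ∀ g ∈ gs, g ∈ H) :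
    Ctx P e (ext gs ws) ns D chk :=
  (ctx0 c).withB hF (mem_of_mem_ext hH _)

instance instNe : NeZero P.n := ⟨by decide⟩
noncomputable def gs0 : List (Equiv.Perm (Fin P.n)) := permsOf P.n P.N ns0
noncomputable def gs1 : List (Equiv.Perm (Fin P.n)) := ext gs0 ws
theorem c1 : Ctx P (eF P.n) gs1 ns D chk :=
  ctx (ctx_permsOf hP keep0) (faithful_eF _) fun _ _ => trivial

theorem G_c : P.chainB ns D G_vs [[0], [2]] = true :=
  zc0

theorem G_o : prodL G_vs 1 = 5040 := by decide +kernel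

theorem G_lb (c : Ctx P e gs ns D chk) :
    LB (subW gs [[0], [2]]) 5040 :=
  c.lb G_c G_o

theorem top : (subW gs1 [[0], [2]]) = ⊤ := eq_top_of_lb (G_lb c1) (card_perm_fin 7 (by decide)) (by norm_num)
theorem iso : Nonempty ((subW gs1 [[0], [2]]) ≃* Equiv.Perm (Fin 7)) := equiv_of_eq_top top
theorem card : Nat.card (subW gs1 [[0], [2]]) = 5040 := (Nat.card_congr iso.some.toEquiv).trans (card_perm_fin 7 (by decide))

theorem ub : UB (subW gs1 [[0], [2]]) 5040 := UB.of_card card (by norm_num)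

theorem pc2_P_pr (c : Ctx P e gs ns D chk) :
    Rels gs (pcsR pc2_P_ps []) :=
  (c.rels _ zr2)

theorem pc2_P_pe (c : Ctx P e gs ns D chk) :
    Rels gs (defRels zE1) :=
  (c.rels _ zr3)

theorem pc2_P_pb : bnd (pcsB D pc2_P_ps []) (leB (app D zE1) [[20], [22], [24]] (pcGens pc2_P_ps [])) = true := zb4

theorem pc2_P_ub (c : Ctx P e gs ns D chk) :
    UB (subW gs [[20], [22], [24]]) 16 :=
  c.pcs (UB.nil gs) (pc2_P_pe c) (pc2_P_pr c) pc2_P_pb (by decide +kernel)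

theorem pc2_P_c : P.chainB ns D pc2_P_vs [[20], [22], [24]] = true :=
  zc5

theorem pc2_P_o : prodL pc2_P_vs 1 = 16 := by decide +kernel

theorem pc2_P_lb (c : Ctx P e gs ns D chk) :
    LB (subW gs [[20], [22], [24]]) 16 :=
  c.lb pc2_P_c pc2_P_o

theorem pc2_P_card (c : Ctx P e gs ns D chk) :
    Nat.card (subW gs [[20], [22], [24]]) = 16 :=
  (pc2_P_ub c).card_eq (pc2_P_lb c)

theorem pc2_sG_c : P.chainB ns D pc2_sG_vs [[20], [22], [24]] = true :=
  zc6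

theorem pc2_sG_o : prodL pc2_sG_vs 1 = 16 := by decide +kernel

theorem pc2_s (c : Ctx P e gs ns D chk) :
    ∀ g, g ∈ (subW gs []) ↔ g ∈ (subW gs [[20], [22], [24]]) ∧ ∀ m ∈ pc2_s_ms, g ∈ sstab G (mset e P.n m) :=
  c.setStab (Rels.nil _) (c.sOk (c.exact pc2_sG_c pc2_sG_o (pc2_P_ub c)) zs7) (fun _ h => by cases h) zm10 zs9

theorem pc2 (c : Ctx P e gs ns D chk) (hK : Nat.card (subW gs [[0], [2]]) = 5040) :
    Cfsg.pCore 2 (subW gs [[0], [2]]) = ⊥ :=
  pCore_eq_bot_of_le (c.pCoreOf_le (p := 2) (by norm_num) (b := 315) hK (pc2_P_card c) (by norm_num) (c.le_of_rels (ws := [[20], [22], [24]]) (l := [[0], [2]]) (c.rels _ zr15) zm14) zm12 (pc2_s c))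

theorem core2 : Cfsg.pCore 2 (subW gs1 [[0], [2]]) = ⊥ := pc2 c1 card

theorem pc3_P_pr (c : Ctx P e gs ns D chk) :
    Rels gs (pcsR pc3_P_ps []) :=
  (c.rels _ zr17)

theorem pc3_P_pe (c : Ctx P e gs ns D chk) :
    Rels gs (defRels zE16) :=
  (c.rels _ zr18)

theorem pc3_P_pb : bnd (pcsB D pc3_P_ps []) (leB (app D zE16) [[44], [46]] (pcGens pc3_P_ps [])) = true := zb19

theorem pc3_P_ub (c : Ctx P e gs ns D chk) :
    UB (subW gs [[44], [46]]) 9 :=
  c.pcs (UB.nil gs) (pc3_P_pe c) (pc3_P_pr c) pc3_P_pb (by decide +kernel)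

theorem pc3_P_c : P.chainB ns D pc3_P_vs [[44], [46]] = true :=
  zc20

theorem pc3_P_o : prodL pc3_P_vs 1 = 9 := by decide +kernel

theorem pc3_P_lb (c : Ctx P e gs ns D chk) :
    LB (subW gs [[44], [46]]) 9 :=
  c.lb pc3_P_c pc3_P_o

theorem pc3_P_card (c : Ctx P e gs ns D chk) :
    Nat.card (subW gs [[44], [46]]) = 9 :=
  (pc3_P_ub c).card_eq (pc3_P_lb c)

theorem pc3_sG_c : P.chainB ns D pc3_sG_vs [[44], [46]] = true :=
  zc21

theorem pc3_sG_o : prodL pc3_sG_vs 1 = 9 := by decide +kernel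

theorem pc3_s (c : Ctx P e gs ns D chk) :
    ∀ g, g ∈ (subW gs []) ↔ g ∈ (subW gs [[44], [46]]) ∧ ∀ m ∈ pc3_s_ms, g ∈ sstab G (mset e P.n m) :=
  c.setStab (Rels.nil _) (c.sOk (c.exact pc3_sG_c pc3_sG_o (pc3_P_ub c)) zs22) (fun _ h => by cases h) zm25 zs24

theorem pc3 (c : Ctx P e gs ns D chk) (hK : Nat.card (subW gs [[0], [2]]) = 5040) :
    Cfsg.pCore 3 (subW gs [[0], [2]]) = ⊥ :=
  pCore_eq_bot_of_le (c.pCoreOf_le (p := 3) (by norm_num) (b := 560) hK (pc3_P_card c) (by norm_num) (c.le_of_rels (ws := [[44], [46]]) (l := [[0], [2]]) (c.rels _ zr30) zm29) zm27 (pc3_s c))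

theorem core3 : Cfsg.pCore 3 (subW gs1 [[0], [2]]) = ⊥ := pc3 c1 card

theorem pc5_P_pr (c : Ctx P e gs ns D chk) :
    Rels gs (pcsR pc5_P_ps []) :=
  (c.rels _ zr31)

theorem pc5_P_pe (c : Ctx P e gs ns D chk) :
    Rels gs (defRels []) :=
  (Rels.nil _)

theorem pc5_P_pb : bnd (pcsB D pc5_P_ps []) (leB (app D []) [[52]] (pcGens pc5_P_ps [])) = true := zb32

theorem pc5_P_ub (c : Ctx P e gs ns D chk) :
    UB (subW gs [[52]]) 5 :=
  c.pcs (UB.nil gs) (pc5_P_pe c) (pc5_P_pr c) pc5_P_pb (by decide +kernel)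

theorem pc5_P_c : P.chainB ns D pc5_P_vs [[52]] = true :=
  zc33

theorem pc5_P_o : prodL pc5_P_vs 1 = 5 := by decide +kernel

theorem pc5_P_lb (c : Ctx P e gs ns D chk) :
    LB (subW gs [[52]]) 5 :=
  c.lb pc5_P_c pc5_P_o

theorem pc5_P_card (c : Ctx P e gs ns D chk) :
    Nat.card (subW gs [[52]]) = 5 :=
  (pc5_P_ub c).card_eq (pc5_P_lb c)

theorem pc5_sG_c : P.chainB ns D pc5_sG_vs [[52]] = true :=
  zc34

theorem pc5_sG_o : prodL pc5_sG_vs 1 = 5 := by decide +kernel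

theorem pc5_s (c : Ctx P e gs ns D chk) :
    ∀ g, g ∈ (subW gs []) ↔ g ∈ (subW gs [[52]]) ∧ ∀ m ∈ pc5_s_ms, g ∈ sstab G (mset e P.n m) :=
  c.setStab (Rels.nil _) (c.sOk (c.exact pc5_sG_c pc5_sG_o (pc5_P_ub c)) zs35) (fun _ h => by cases h) zm38 zs37

theorem pc5 (c : Ctx P e gs ns D chk) (hK : Nat.card (subW gs [[0], [2]]) = 5040) :
    Cfsg.pCore 5 (subW gs [[0], [2]]) = ⊥ :=
  pCore_eq_bot_of_le (c.pCoreOf_le (p := 5) (by norm_num) (b := 1008) hK (pc5_P_card c) (by norm_num) (c.le_of_rels (ws := [[52]]) (l := [[0], [2]]) (c.rels _ zr43) zm42) zm40 (pc5_s c))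

theorem core5 : Cfsg.pCore 5 (subW gs1 [[0], [2]]) = ⊥ := pc5 c1 card

end
end CL.Std.S7

namespace CL.Std.A7
open CL.PG

def P : Par := ⟨7, 8, 3, 2⟩
theorem hP : P.Ok := by decide
noncomputable def a0 : Net := (.cons 2 (nat_lit 0x1)
 (.cons 1 (nat_lit 0x1)
 .nil))
noncomputable def a1 : Net := (.cons 4 (nat_lit 0x1)
 (.cons 2 (nat_lit 0x11)
 (.cons 1 (nat_lit 0x15)
 .nil)))
noncomputable def a2 : Net := (.cons 4 (nat_lit 0x8)
 (.cons 2 (nat_lit 0x10)
 (.cons 1 (nat_lit 0x50)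
 (.cons 4 (nat_lit 0xc)
 .nil))))
noncomputable def a3 : Net := (.cons 4 (nat_lit 0xe)
 (.cons 2 (nat_lit 0x22)
 (.cons 1 (nat_lit 0x14)
 (.cons 2 (nat_lit 0x2)
 (.cons 4 (nat_lit 0xc)
 .nil)))))
noncomputable def a4 : Net := (.cons 4 (nat_lit 0x6)
 (.cons 2 (nat_lit 0x12)
 (.cons 1 (nat_lit 0x4)
 (.cons 4 (nat_lit 0x2)
 .nil))))
noncomputable def a5 : Net := (.cons 2 (nat_lit 0x20)
 (.cons 1 (nat_lit 0x40)
 (.cons 2 (nat_lit 0x20)
 (.cons 4 (nat_lit 0x4)
 .nil))))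
noncomputable def a6 : Net := (.cons 4 (nat_lit 0x8)
 (.cons 2 (nat_lit 0x20)
 (.cons 1 (nat_lit 0x10)
 (.cons 4 (nat_lit 0x8)
 .nil))))
noncomputable def a7 : Net := (.cons 4 (nat_lit 0x8)
 (.cons 2 (nat_lit 0x30)
 (.cons 4 (nat_lit 0x8)
 .nil)))
noncomputable def a8 : Net := (.cons 2 (nat_lit 0x30)
 (.cons 1 (nat_lit 0x40)
 (.cons 2 (nat_lit 0x20)
 .nil)))
noncomputable def ns0 : List Net := [a0, a1]
noncomputable def ws : List (List ℕ) :=
  [W (nat_lit 0x300401),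
  W (nat_lit 0x201002),
  W (nat_lit 0x1806),
  W (nat_lit 0x200801807),
  W (nat_lit 0xa03009),
  W (nat_lit 0x902c0b),
  W (nat_lit 0x400e038100400d)]
noncomputable def ns : List Net := [a0, a1, a2, a3, a4, a5, a6, a7, a8]
noncomputable def D : List (ℕ × List ℕ) := app [] (mkDefs ws 2)
noncomputable def chk : List (List ℕ × List ℕ) → Bool := P.relsB ns
noncomputable def G_v0 : Lev :=
  ⟨0, 7, sg (W (nat_lit 0x300c0300c01)), [[4], [6]], 0, 2⟩
noncomputable def G_v1 : Lev :=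
  ⟨1, 6, sg (W (nat_lit 0x50140501407)), [[8], [10]], 2, 2⟩
noncomputable def G_v2 : Lev :=
  ⟨2, 5, sg (W (nat_lit 0x240902409)), [[12], [14]], 4, 2⟩
noncomputable def G_v3 : Lev :=
  ⟨3, 4, sg (W (nat_lit 0x3c0d)), [[16]], 6, 1⟩
noncomputable def G_v4 : Lev :=
  ⟨4, 3, sg (W (nat_lit 0x4411)), [], 7, 0⟩
noncomputable def G_vs5 : List Lev :=
  []
noncomputable def G_vs4 : List Lev :=
  G_v4 :: G_vs5
noncomputable def G_vs3 : List Lev :=
  G_v3 :: G_vs4
noncomputable def G_vs2 : List Lev :=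
  G_v2 :: G_vs3
noncomputable def G_vs1 : List Lev :=
  G_v1 :: G_vs2
noncomputable def G_vs : List Lev :=
  G_v0 :: G_vs1
noncomputable def zt1 : List ℕ :=
  []
noncomputable def zcj2 : List (List ℕ) :=
  []
noncomputable def zus5 : List (List ℕ) :=
  [[12],
  [13],
  W (nat_lit 0x3412)]
noncomputable def zF6 : List (List (ℕ × List ℕ)) :=
  [[(1, []),
   (2, []),
   (0, []),
   (3, [17])],
  [(1, [16]),
   (0, [17]),
   (3, []),
   (2, [])]]
noncomputable def zus9 : List (List ℕ) :=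
  [[8],
  [9],
  [11],
  W (nat_lit 0x2409)]
noncomputable def zF10 : List (List (ℕ × List ℕ)) :=
  [[(1, []),
   (4, []),
   (0, []),
   (2, [13]),
   (3, [12])],
  [(1, W (nat_lit 0x440d)),
   (3, W (nat_lit 0x440d)),
   (2, [13]),
   (0, []),
   (4, [17])]]
noncomputable def zus13 : List (List ℕ) :=
  [[6],
  [7],
  W (nat_lit 0x1c05),
  W (nat_lit 0x1c06),
  W (nat_lit 0x1c09)]
noncomputable def zF14 : List (List (ℕ × List ℕ)) :=
  [[(0, W (nat_lit 0x2409)),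
   (3, []),
   (5, W (nat_lit 0x120340c)),
   (2, W (nat_lit 0xd02409)),
   (1, []),
   (4, [])],
  [(1, []),
   (4, W (nat_lit 0x110340a)),
   (0, []),
   (3, W (nat_lit 0x440d02409)),
   (5, [13]),
   (2, W (nat_lit 0x480e02409))]]
noncomputable def zus17 : List (List ℕ) :=
  [[0],
  [1],
  [3],
  W (nat_lit 0x408),
  W (nat_lit 0x809),
  W (nat_lit 0x80a)]
noncomputable def zF18 : List (List (ℕ × List ℕ)) :=
  [[(1, []),
   (2, []),
   (0, []),
   (3, W (nat_lit 0x1c05)),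
   (4, W (nat_lit 0x120340c01c05)),
   (5, W (nat_lit 0x110340a01c05)),
   (6, W (nat_lit 0x110380901c05))],
  [(1, W (nat_lit 0x2409)),
   (2, [7]),
   (4, W (nat_lit 0x902407)),
   (0, []),
   (6, W (nat_lit 0x3807)),
   (3, W (nat_lit 0x1c05)),
   (5, W (nat_lit 0x110340a01c05))]]

theorem zc0 : P.chainB ns D G_vs [[0], [2]] = true := by decide +kernel
theorem zb3 : bnd (pcB D [] 3 zt1 zcj2) (leB (app D []) [[16]] ([16] :: [])) = true := by decide +kernel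
theorem zr4 : chk (pcR [] [16] 3 zt1 zcj2) = true := by decide +kernel
theorem zb7 : schB D [[12], [14]] [[16]] zus5 zF6 4 = true := by decide +kernel
theorem zr8 : chk (schR [[12], [14]] zus5 zF6) = true := by decide +kernel
theorem zb11 : schB D [[8], [10]] [[12], [14]] zus9 zF10 5 = true := by decide +kernel
theorem zr12 : chk (schR [[8], [10]] zus9 zF10) = true := by decide +kernel
theorem zb15 : schB D [[4], [6]] [[8], [10]] zus13 zF14 6 = true := by decide +kernel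
theorem zr16 : chk (schR [[4], [6]] zus13 zF14) = true := by decide +kernel
theorem zb19 : schB D [[0], [2]] [[4], [6]] zus17 zF18 7 = true := by decide +kernel
theorem zr20 : chk (schR [[0], [2]] zus17 zF18) = true := by decide +kernel
theorem zk21 : allL (keepB P.n P.N) ns0 = true := by decide +kernel
theorem ze22 : extB ns0 ns 2 ws [] = true := by decide +kernel
theorem zn23 : P.netsB ns (mkDefs ws 2) = true := by decide +kernel

section
variable {G X : Type*} [Group G] [MulAction G X] {e : ℕ → X} {gs : List G}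

theorem keep0 : allL (keepB P.n P.N) ns0 = true := zk21

theorem len {k} (c : Ctx P e gs ns0 [] k) : gs.length = 2 := c.len ze22

theorem ctx0 {k} (c : Ctx P e gs ns0 [] k) : Ctx P e (ext gs ws) ns D chk0 :=
  c.ext rfl ze22 zn23

theorem ctx {k} (c : Ctx P e gs ns0 [] k) {H : Subgroup G} (hF : Faithful e P.n H) (hH : ∀ g ∈ gs, g ∈ H) :
    Ctx P e (ext gs ws) ns D chk :=
  (ctx0 c).withB hF (mem_of_mem_ext hH _)

instance instNe : NeZero P.n := ⟨by decide⟩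
noncomputable def gs0 : List (Equiv.Perm (Fin P.n)) := permsOf P.n P.N ns0
noncomputable def gs1 : List (Equiv.Perm (Fin P.n)) := ext gs0 ws
theorem c1 : Ctx P (eF P.n) gs1 ns D chk :=
  ctx (ctx_permsOf hP keep0) (faithful_eF _) fun _ _ => trivial

theorem G_c : P.chainB ns D G_vs [[0], [2]] = true :=
  zc0

theorem G_o : prodL G_vs 1 = 2520 := by decide +kernel

theorem G_lb (c : Ctx P e gs ns D chk) :
    LB (subW gs [[0], [2]]) 2520 :=
  c.lb G_c G_o

theorem G_u4 (c : Ctx P e gs ns D chk) :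
    UB (subW gs [[16]]) 3 :=
  (c.pc_step (UB.nil gs) (Rels.nil _)
    (c.rels _ zr4) zb3).le (by decide)

theorem G_u3 (c : Ctx P e gs ns D chk) :
    UB (subW gs [[12], [14]]) 12 :=
  (c.sch_step (G_u4 c)
    (c.rels _ zr8) zb7).le (by decide)

theorem G_u2 (c : Ctx P e gs ns D chk) :
    UB (subW gs [[8], [10]]) 60 :=
  (c.sch_step (G_u3 c)
    (c.rels _ zr12) zb11).le (by decide)

theorem G_u1 (c : Ctx P e gs ns D chk) :
    UB (subW gs [[4], [6]]) 360 :=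
  (c.sch_step (G_u2 c)
    (c.rels _ zr16) zb15).le (by decide)

theorem G_u0 (c : Ctx P e gs ns D chk) :
    UB (subW gs [[0], [2]]) 2520 :=
  (c.sch_step (G_u1 c)
    (c.rels _ zr20) zb19).le (by decide)

theorem G_ub (c : Ctx P e gs ns D chk) :
    UB (subW gs [[0], [2]]) 2520 :=
  (G_u0 c)

theorem card : Nat.card (subW gs1 [[0], [2]]) = 2520 := (G_ub c1).card_eq (G_lb c1)
theorem eq : (subW gs1 [[0], [2]]) = alternatingGroup (Fin 7) := eq_alternatingGroup_of_card card (by decide)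
theorem iso : Nonempty ((subW gs1 [[0], [2]]) ≃* alternatingGroup (Fin 7)) := ⟨MulEquiv.subgroupCongr eq⟩

theorem simple : IsSimpleGroup (subW gs1 [[0], [2]]) :=
  have := alternatingGroup.isSimpleGroup (α := Fin 7) (by simp)
  iso.some.isSimpleGroup

theorem ub : UB (subW gs1 [[0], [2]]) 2520 := UB.of_card card (by norm_num)

end
end CL.Std.A7

namespace CL.Std.S8
open CL.PG

def P : Par := ⟨8, 8, 3, 2⟩
theorem hP : P.Ok := by decide
noncomputable def a0 : Net := (.cons 1 (nat_lit 0x1)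
 .nil)
noncomputable def a1 : Net := (.cons 4 (nat_lit 0x1)
 (.cons 2 (nat_lit 0x11)
 (.cons 1 (nat_lit 0x55)
 .nil)))
noncomputable def a2 : Net := (.cons 2 (nat_lit 0x10)
 (.cons 1 (nat_lit 0x54)
 (.cons 2 (nat_lit 0x2)
 (.cons 4 (nat_lit 0x8)
 .nil))))
noncomputable def a3 : Net := (.cons 4 (nat_lit 0x8)
 (.cons 2 (nat_lit 0x2)
 (.cons 4 (nat_lit 0x8)
 .nil)))
noncomputable def a4 : Net := (.cons 2 (nat_lit 0x10)
 (.cons 1 (nat_lit 0x54)
 (.cons 4 (nat_lit 0x8)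
 .nil)))
noncomputable def a5 : Net := (.cons 4 (nat_lit 0x8)
 (.cons 2 (nat_lit 0x10)
 (.cons 1 (nat_lit 0x14)
 (.cons 4 (nat_lit 0xc)
 .nil))))
noncomputable def a6 : Net := (.cons 4 (nat_lit 0x8)
 (.cons 2 (nat_lit 0x20)
 (.cons 1 (nat_lit 0x50)
 .nil)))
noncomputable def a7 : Net := (.cons 2 (nat_lit 0x20)
 (.cons 1 (nat_lit 0x50)
 .nil))
noncomputable def a8 : Net := (.cons 1 (nat_lit 0x10)
 .nil)
noncomputable def a9 : Net := (.cons 2 (nat_lit 0x20)
 (.cons 1 (nat_lit 0x40)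
 .nil))
noncomputable def a10 : Net := (.cons 1 (nat_lit 0x40)
 .nil)
noncomputable def a11 : Net := (.cons 1 (nat_lit 0x4)
 (.cons 4 (nat_lit 0x8)
 .nil))
noncomputable def a12 : Net := (.cons 2 (nat_lit 0x10)
 (.cons 1 (nat_lit 0x10)
 .nil))
noncomputable def a13 : Net := (.cons 2 (nat_lit 0x20)
 (.cons 1 (nat_lit 0x50)
 (.cons 4 (nat_lit 0x8)
 .nil)))
noncomputable def a14 : Net := (.cons 4 (nat_lit 0xc)
 (.cons 2 (nat_lit 0x12)
 (.cons 1 (nat_lit 0x10)
 (.cons 2 (nat_lit 0x20)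
 .nil))))
noncomputable def ns0 : List Net := [a0, a1]
noncomputable def ws : List (List ℕ) :=
  [W (nat_lit 0xc01),
  W (nat_lit 0x200c0101002),
  W (nat_lit 0x1c050140802006),
  W (nat_lit 0x7018060200501405),
  W (nat_lit 0xb0280a),
  W (nat_lit 0xc0240b0240902409),
  W (nat_lit 0x340f0380e),
  W (nat_lit 0x440f04812),
  W (nat_lit 0x1203c0f0480f03c12),
  W (nat_lit 0x400d03409),
  W (nat_lit 0x5410),
  W (nat_lit 0x140340d),
  W (nat_lit 0x500f02806)]
noncomputable def ns : List Net := [a0, a1, a2, a3, a4, a5, a6, a7, a8, a9, a10, a11, a12, a13, a14]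
noncomputable def D : List (ℕ × List ℕ) := app [] (mkDefs ws 2)
noncomputable def chk : List (List ℕ × List ℕ) → Bool := P.relsB ns
noncomputable def G_v0 : Lev :=
  ⟨0, 8, sg (W (nat_lit 0x300c0300c0300c01)), [[4], [6]], 0, 2⟩
noncomputable def G_v1 : Lev :=
  ⟨1, 7, sg (W (nat_lit 0x14050140501405)), [[8], [10]], 2, 2⟩
noncomputable def G_v2 : Lev :=
  ⟨2, 6, sg (W (nat_lit 0x90240902409)), [[12], [14]], 4, 2⟩
noncomputable def G_v3 : Lev :=
  ⟨3, 5, sg (W (nat_lit 0x340d0340d)), [[16], [14]], 6, 1⟩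
noncomputable def G_v4 : Lev :=
  ⟨4, 4, sg (W (nat_lit 0xf03c11)), [[18], [20]], 7, 2⟩
noncomputable def G_v5 : Lev :=
  ⟨5, 3, sg (W (nat_lit 0x4c13)), [[20]], 9, 0⟩
noncomputable def G_v6 : Lev :=
  ⟨6, 2, sg [20], [], 9, 0⟩
noncomputable def G_vs7 : List Lev :=
  []
noncomputable def G_vs6 : List Lev :=
  G_v6 :: G_vs7
noncomputable def G_vs5 : List Lev :=
  G_v5 :: G_vs6
noncomputable def G_vs4 : List Lev :=
  G_v4 :: G_vs5
noncomputable def G_vs3 : List Lev :=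
  G_v3 :: G_vs4
noncomputable def G_vs2 : List Lev :=
  G_v2 :: G_vs3
noncomputable def G_vs1 : List Lev :=
  G_v1 :: G_vs2
noncomputable def G_vs : List Lev :=
  G_v0 :: G_vs1
noncomputable def pc3_P_ps : List PcG :=
  [⟨[24], 3, [], [[22]]⟩,
  ⟨[22], 3, [], []⟩]
noncomputable def pc3_P_v0 : Lev :=
  ⟨2, 3, sg (W (nat_lit 0x5c17)), [[24]], 11, 0⟩
noncomputable def pc3_P_v1 : Lev :=
  ⟨4, 3, sg (W (nat_lit 0x6419)), [], 11, 0⟩
noncomputable def pc3_P_vs2 : List Lev :=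
  []
noncomputable def pc3_P_vs1 : List Lev :=
  pc3_P_v1 :: pc3_P_vs2
noncomputable def pc3_P_vs : List Lev :=
  pc3_P_v0 :: pc3_P_vs1
noncomputable def pc3_s_ms : List ℕ :=
  [(nat_lit 0x7),
  (nat_lit 0x40)]
noncomputable def pc3_sG_v0 : Lev :=
  ⟨2, 3, sg (W (nat_lit 0x5c17)), [[24]], 11, 0⟩
noncomputable def pc3_sG_v1 : Lev :=
  ⟨6, 3, sg (W (nat_lit 0x6419)), [], 11, 0⟩
noncomputable def pc3_sG_vs2 : List Lev :=
  []
noncomputable def pc3_sG_vs1 : List Lev :=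
  pc3_sG_v1 :: pc3_sG_vs2
noncomputable def pc3_sG_vs : List Lev :=
  pc3_sG_v0 :: pc3_sG_vs1
noncomputable def pc3_s_x : List (ℕ × List ℕ) :=
  [((nat_lit 0), [(nat_lit 0x8c)]),
  ((nat_lit 0), [])]
noncomputable def pc3_s_G : Gl :=
  ⟨P, ns, (app D []), [], [], [], memM (app D []) [], true⟩
noncomputable def pc3_s_s : St :=
  ⟨(mkS P.n pc3_sG_vs pc3_s_x), [[22], [24]], [], diag pc3_s_ms, memM (app D []) [], []⟩
noncomputable def zt6 : ST :=
  (.orb 0 (.and 1 0 (.br 0 [] [] [(2, [])] (.cons (.br 4 [] [] [(6, [])] (.cons .fnd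
 .nil))
 .nil))))
noncomputable def zus9 : List (List ℕ × ℕ) :=
  [(W (nat_lit 0x200c0300c0200c01), (nat_lit 0x70)),
  (W (nat_lit 0x100c0300802), (nat_lit 0x1))]
noncomputable def zts11 : List (List ℕ) :=
  [W (nat_lit 0x400d03409),
  W (nat_lit 0x5410)]
noncomputable def pc5_P_ps : List PcG :=
  [⟨[26], 5, [], []⟩]
noncomputable def pc5_P_v0 : Lev :=
  ⟨3, 5, sg (W (nat_lit 0x6c1b06c1b)), [], 12, 0⟩
noncomputable def pc5_P_vs1 : List Lev :=
  []
noncomputable def pc5_P_vs : List Lev :=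
  pc5_P_v0 :: pc5_P_vs1
noncomputable def pc5_s_ms : List ℕ :=
  [(nat_lit 0x40)]
noncomputable def pc5_sG_v0 : Lev :=
  ⟨6, 5, sg (W (nat_lit 0x6c1b06c1b)), [], 12, 0⟩
noncomputable def pc5_sG_vs1 : List Lev :=
  []
noncomputable def pc5_sG_vs : List Lev :=
  pc5_sG_v0 :: pc5_sG_vs1
noncomputable def pc5_s_x : List (ℕ × List ℕ) :=
  [((nat_lit 0), [])]
noncomputable def pc5_s_G : Gl :=
  ⟨P, ns, (app D []), [], [], [], memM (app D []) [], true⟩
noncomputable def pc5_s_s : St :=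
  ⟨(mkS P.n pc5_sG_vs pc5_s_x), [[26]], [], diag pc5_s_ms, memM (app D []) [], []⟩
noncomputable def zt19 : ST :=
  (.br 0 [] [] [(6, [])] (.cons .fnd
 .nil))
noncomputable def zus22 : List (List ℕ × ℕ) :=
  [(W (nat_lit 0xc0300c01), (nat_lit 0x1))]
noncomputable def zts24 : List (List ℕ) :=
  [W (nat_lit 0x140340d)]
noncomputable def pc7_P_ps : List PcG :=
  [⟨[28], 7, [], []⟩]
noncomputable def pc7_P_v0 : Lev :=
  ⟨1, 7, sg (W (nat_lit 0x741d0741d0741d)), [], 13, 0⟩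
noncomputable def pc7_P_vs1 : List Lev :=
  []
noncomputable def pc7_P_vs : List Lev :=
  pc7_P_v0 :: pc7_P_vs1
noncomputable def pc7_s_ms : List ℕ :=
  [(nat_lit 0x2)]
noncomputable def pc7_sG_v0 : Lev :=
  ⟨1, 7, sg (W (nat_lit 0x741d0741d0741d)), [], 13, 0⟩
noncomputable def pc7_sG_vs1 : List Lev :=
  []
noncomputable def pc7_sG_vs : List Lev :=
  pc7_sG_v0 :: pc7_sG_vs1
noncomputable def pc7_s_x : List (ℕ × List ℕ) :=
  [((nat_lit 0), [])]
noncomputable def pc7_s_G : Gl :=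
  ⟨P, ns, (app D []), [], [], [], memM (app D []) [], true⟩
noncomputable def pc7_s_s : St :=
  ⟨(mkS P.n pc7_sG_vs pc7_s_x), [[28]], [], diag pc7_s_ms, memM (app D []) [], []⟩
noncomputable def zt32 : ST :=
  (.br 0 [] [] [(1, [])] (.cons .fnd
 .nil))
noncomputable def zus35 : List (List ℕ × ℕ) :=
  [(W (nat_lit 0x300c020100101004), (nat_lit 0x1))]
noncomputable def zts37 : List (List ℕ) :=
  [W (nat_lit 0x500f02806)]

theorem zc0 : P.chainB ns D G_vs [[0], [2]] = true := by decide +kernel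
theorem zr1 : chk (pcsR pc3_P_ps []) = true := by decide +kernel
theorem zb2 : bnd (pcsB D pc3_P_ps []) (leB (app D []) [[22], [24]] (pcGens pc3_P_ps [])) = true := by decide +kernel
theorem zc3 : P.chainB ns D pc3_P_vs [[22], [24]] = true := by decide +kernel
theorem zc4 : P.chainB ns D pc3_sG_vs [[22], [24]] = true := by decide +kernel
theorem zs5 : ssB P.N ns D (mkS P.n pc3_sG_vs pc3_s_x) [[22], [24]] = true := by decide +kernel
theorem zs7 : pc3_s_G.chk zt6 pc3_s_s none = true := by decide +kernel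
theorem zm8 : bnd (allL (invB P.N ns []) pc3_s_ms) (leB D [] [[22], [24]]) = true := by decide +kernel
theorem zm10 : P.coreB ns D [[0], [2]] [[22], [24]] zus9 pc3_s_ms = true := by decide +kernel
theorem zm12 : leB D zts11 [[0], [2]] = true := by decide +kernel
theorem zr13 : chk (zp [] [[22], [24]] zts11) = true := by decide +kernel
theorem zr14 : chk (pcsR pc5_P_ps []) = true := by decide +kernel
theorem zb15 : bnd (pcsB D pc5_P_ps []) (leB (app D []) [[26]] (pcGens pc5_P_ps [])) = true := by decide +kernel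
theorem zc16 : P.chainB ns D pc5_P_vs [[26]] = true := by decide +kernel
theorem zc17 : P.chainB ns D pc5_sG_vs [[26]] = true := by decide +kernel
theorem zs18 : ssB P.N ns D (mkS P.n pc5_sG_vs pc5_s_x) [[26]] = true := by decide +kernel
theorem zs20 : pc5_s_G.chk zt19 pc5_s_s none = true := by decide +kernel
theorem zm21 : bnd (allL (invB P.N ns []) pc5_s_ms) (leB D [] [[26]]) = true := by decide +kernel
theorem zm23 : P.coreB ns D [[0], [2]] [[26]] zus22 pc5_s_ms = true := by decide +kernel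
theorem zm25 : leB D zts24 [[0], [2]] = true := by decide +kernel
theorem zr26 : chk (zp [] [[26]] zts24) = true := by decide +kernel
theorem zr27 : chk (pcsR pc7_P_ps []) = true := by decide +kernel
theorem zb28 : bnd (pcsB D pc7_P_ps []) (leB (app D []) [[28]] (pcGens pc7_P_ps [])) = true := by decide +kernel
theorem zc29 : P.chainB ns D pc7_P_vs [[28]] = true := by decide +kernel
theorem zc30 : P.chainB ns D pc7_sG_vs [[28]] = true := by decide +kernel
theorem zs31 : ssB P.N ns D (mkS P.n pc7_sG_vs pc7_s_x) [[28]] = true := by decide +kernel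
theorem zs33 : pc7_s_G.chk zt32 pc7_s_s none = true := by decide +kernel
theorem zm34 : bnd (allL (invB P.N ns []) pc7_s_ms) (leB D [] [[28]]) = true := by decide +kernel
theorem zm36 : P.coreB ns D [[0], [2]] [[28]] zus35 pc7_s_ms = true := by decide +kernel
theorem zm38 : leB D zts37 [[0], [2]] = true := by decide +kernel
theorem zr39 : chk (zp [] [[28]] zts37) = true := by decide +kernel
theorem zk40 : allL (keepB P.n P.N) ns0 = true := by decide +kernel
theorem ze41 : extB ns0 ns 2 ws [] = true := by decide +kernel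
theorem zn42 : P.netsB ns (mkDefs ws 2) = true := by decide +kernel

section
variable {G X : Type*} [Group G] [MulAction G X] {e : ℕ → X} {gs : List G}

theorem keep0 : allL (keepB P.n P.N) ns0 = true := zk40

theorem len {k} (c : Ctx P e gs ns0 [] k) : gs.length = 2 := c.len ze41

theorem ctx0 {k} (c : Ctx P e gs ns0 [] k) : Ctx P e (ext gs ws) ns D chk0 :=
  c.ext rfl ze41 zn42

theorem ctx {k} (c : Ctx P e gs ns0 [] k) {H : Subgroup G} (hF : Faithful e P.n H) (hH : ∀ g ∈ gs, g ∈ H) :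
    Ctx P e (ext gs ws) ns D chk :=
  (ctx0 c).withB hF (mem_of_mem_ext hH _)

instance instNe : NeZero P.n := ⟨by decide⟩
noncomputable def gs0 : List (Equiv.Perm (Fin P.n)) := permsOf P.n P.N ns0
noncomputable def gs1 : List (Equiv.Perm (Fin P.n)) := ext gs0 ws
theorem c1 : Ctx P (eF P.n) gs1 ns D chk :=
  ctx (ctx_permsOf hP keep0) (faithful_eF _) fun _ _ => trivial

theorem G_c : P.chainB ns D G_vs [[0], [2]] = true :=
  zc0

theorem G_o : prodL G_vs 1 = 40320 := by decide +kernel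

theorem G_lb (c : Ctx P e gs ns D chk) :
    LB (subW gs [[0], [2]]) 40320 :=
  c.lb G_c G_o

theorem top : (subW gs1 [[0], [2]]) = ⊤ := eq_top_of_lb (G_lb c1) (card_perm_fin 8 (by decide)) (by norm_num)
theorem iso : Nonempty ((subW gs1 [[0], [2]]) ≃* Equiv.Perm (Fin 8)) := equiv_of_eq_top top
theorem card : Nat.card (subW gs1 [[0], [2]]) = 40320 := (Nat.card_congr iso.some.toEquiv).trans (card_perm_fin 8 (by decide))

theorem ub : UB (subW gs1 [[0], [2]]) 40320 := UB.of_card card (by norm_num)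

theorem pc3_P_pr (c : Ctx P e gs ns D chk) :
    Rels gs (pcsR pc3_P_ps []) :=
  (c.rels _ zr1)

theorem pc3_P_pe (c : Ctx P e gs ns D chk) :
    Rels gs (defRels []) :=
  (Rels.nil _)

theorem pc3_P_pb : bnd (pcsB D pc3_P_ps []) (leB (app D []) [[22], [24]] (pcGens pc3_P_ps [])) = true := zb2

theorem pc3_P_ub (c : Ctx P e gs ns D chk) :
    UB (subW gs [[22], [24]]) 9 :=
  c.pcs (UB.nil gs) (pc3_P_pe c) (pc3_P_pr c) pc3_P_pb (by decide +kernel)

theorem pc3_P_c : P.chainB ns D pc3_P_vs [[22], [24]] = true :=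
  zc3

theorem pc3_P_o : prodL pc3_P_vs 1 = 9 := by decide +kernel

theorem pc3_P_lb (c : Ctx P e gs ns D chk) :
    LB (subW gs [[22], [24]]) 9 :=
  c.lb pc3_P_c pc3_P_o

theorem pc3_P_card (c : Ctx P e gs ns D chk) :
    Nat.card (subW gs [[22], [24]]) = 9 :=
  (pc3_P_ub c).card_eq (pc3_P_lb c)

theorem pc3_sG_c : P.chainB ns D pc3_sG_vs [[22], [24]] = true :=
  zc4

theorem pc3_sG_o : prodL pc3_sG_vs 1 = 9 := by decide +kernel

theorem pc3_s (c : Ctx P e gs ns D chk) :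
    ∀ g, g ∈ (subW gs []) ↔ g ∈ (subW gs [[22], [24]]) ∧ ∀ m ∈ pc3_s_ms, g ∈ sstab G (mset e P.n m) :=
  c.setStab (Rels.nil _) (c.sOk (c.exact pc3_sG_c pc3_sG_o (pc3_P_ub c)) zs5) (fun _ h => by cases h) zm8 zs7

theorem pc3 (c : Ctx P e gs ns D chk) (hK : Nat.card (subW gs [[0], [2]]) = 40320) :
    Cfsg.pCore 3 (subW gs [[0], [2]]) = ⊥ :=
  pCore_eq_bot_of_le (c.pCoreOf_le (p := 3) (by norm_num) (b := 4480) hK (pc3_P_card c) (by norm_num) (c.le_of_rels (ws := [[22], [24]]) (l := [[0], [2]]) (c.rels _ zr13) zm12) zm10 (pc3_s c))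

theorem core3 : Cfsg.pCore 3 (subW gs1 [[0], [2]]) = ⊥ := pc3 c1 card

theorem pc5_P_pr (c : Ctx P e gs ns D chk) :
    Rels gs (pcsR pc5_P_ps []) :=
  (c.rels _ zr14)

theorem pc5_P_pe (c : Ctx P e gs ns D chk) :
    Rels gs (defRels []) :=
  (Rels.nil _)

theorem pc5_P_pb : bnd (pcsB D pc5_P_ps []) (leB (app D []) [[26]] (pcGens pc5_P_ps [])) = true := zb15

theorem pc5_P_ub (c : Ctx P e gs ns D chk) :
    UB (subW gs [[26]]) 5 :=
  c.pcs (UB.nil gs) (pc5_P_pe c) (pc5_P_pr c) pc5_P_pb (by decide +kernel)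

theorem pc5_P_c : P.chainB ns D pc5_P_vs [[26]] = true :=
  zc16

theorem pc5_P_o : prodL pc5_P_vs 1 = 5 := by decide +kernel

theorem pc5_P_lb (c : Ctx P e gs ns D chk) :
    LB (subW gs [[26]]) 5 :=
  c.lb pc5_P_c pc5_P_o

theorem pc5_P_card (c : Ctx P e gs ns D chk) :
    Nat.card (subW gs [[26]]) = 5 :=
  (pc5_P_ub c).card_eq (pc5_P_lb c)

theorem pc5_sG_c : P.chainB ns D pc5_sG_vs [[26]] = true :=
  zc17

theorem pc5_sG_o : prodL pc5_sG_vs 1 = 5 := by decide +kernel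

theorem pc5_s (c : Ctx P e gs ns D chk) :
    ∀ g, g ∈ (subW gs []) ↔ g ∈ (subW gs [[26]]) ∧ ∀ m ∈ pc5_s_ms, g ∈ sstab G (mset e P.n m) :=
  c.setStab (Rels.nil _) (c.sOk (c.exact pc5_sG_c pc5_sG_o (pc5_P_ub c)) zs18) (fun _ h => by cases h) zm21 zs20

theorem pc5 (c : Ctx P e gs ns D chk) (hK : Nat.card (subW gs [[0], [2]]) = 40320) :
    Cfsg.pCore 5 (subW gs [[0], [2]]) = ⊥ :=
  pCore_eq_bot_of_le (c.pCoreOf_le (p := 5) (by norm_num) (b := 8064) hK (pc5_P_card c) (by norm_num) (c.le_of_rels (ws := [[26]]) (l := [[0], [2]]) (c.rels _ zr26) zm25) zm23 (pc5_s c))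

theorem core5 : Cfsg.pCore 5 (subW gs1 [[0], [2]]) = ⊥ := pc5 c1 card

theorem pc7_P_pr (c : Ctx P e gs ns D chk) :
    Rels gs (pcsR pc7_P_ps []) :=
  (c.rels _ zr27)

theorem pc7_P_pe (c : Ctx P e gs ns D chk) :
    Rels gs (defRels []) :=
  (Rels.nil _)

theorem pc7_P_pb : bnd (pcsB D pc7_P_ps []) (leB (app D []) [[28]] (pcGens pc7_P_ps [])) = true := zb28

theorem pc7_P_ub (c : Ctx P e gs ns D chk) :
    UB (subW gs [[28]]) 7 :=
  c.pcs (UB.nil gs) (pc7_P_pe c) (pc7_P_pr c) pc7_P_pb (by decide +kernel)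

theorem pc7_P_c : P.chainB ns D pc7_P_vs [[28]] = true :=
  zc29

theorem pc7_P_o : prodL pc7_P_vs 1 = 7 := by decide +kernel

theorem pc7_P_lb (c : Ctx P e gs ns D chk) :
    LB (subW gs [[28]]) 7 :=
  c.lb pc7_P_c pc7_P_o

theorem pc7_P_card (c : Ctx P e gs ns D chk) :
    Nat.card (subW gs [[28]]) = 7 :=
  (pc7_P_ub c).card_eq (pc7_P_lb c)

theorem pc7_sG_c : P.chainB ns D pc7_sG_vs [[28]] = true :=
  zc30

theorem pc7_sG_o : prodL pc7_sG_vs 1 = 7 := by decide +kernel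

theorem pc7_s (c : Ctx P e gs ns D chk) :
    ∀ g, g ∈ (subW gs []) ↔ g ∈ (subW gs [[28]]) ∧ ∀ m ∈ pc7_s_ms, g ∈ sstab G (mset e P.n m) :=
  c.setStab (Rels.nil _) (c.sOk (c.exact pc7_sG_c pc7_sG_o (pc7_P_ub c)) zs31) (fun _ h => by cases h) zm34 zs33

theorem pc7 (c : Ctx P e gs ns D chk) (hK : Nat.card (subW gs [[0], [2]]) = 40320) :
    Cfsg.pCore 7 (subW gs [[0], [2]]) = ⊥ :=
  pCore_eq_bot_of_le (c.pCoreOf_le (p := 7) (by norm_num) (b := 5760) hK (pc7_P_card c) (by norm_num) (c.le_of_rels (ws := [[28]]) (l := [[0], [2]]) (c.rels _ zr39) zm38) zm36 (pc7_s c))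

theorem core7 : Cfsg.pCore 7 (subW gs1 [[0], [2]]) = ⊥ := pc7 c1 card

end
end CL.Std.S8

namespace CL.Std.A8
open CL.PG

def P : Par := ⟨8, 8, 3, 2⟩
theorem hP : P.Ok := by decide
noncomputable def a0 : Net := (.cons 2 (nat_lit 0x1)
 (.cons 1 (nat_lit 0x1)
 .nil))
noncomputable def a1 : Net := (.cons 2 (nat_lit 0x10)
 (.cons 1 (nat_lit 0x54)
 (.cons 2 (nat_lit 0x2)
 (.cons 4 (nat_lit 0x8)
 .nil))))
noncomputable def a2 : Net := (.cons 4 (nat_lit 0x8)
 (.cons 2 (nat_lit 0x20)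
 (.cons 1 (nat_lit 0x54)
 (.cons 2 (nat_lit 0x2)
 .nil))))
noncomputable def a3 : Net := (.cons 2 (nat_lit 0x32)
 (.cons 1 (nat_lit 0x4)
 (.cons 4 (nat_lit 0xc)
 .nil)))
noncomputable def a4 : Net := (.cons 2 (nat_lit 0x30)
 (.cons 4 (nat_lit 0xc)
 .nil))
noncomputable def a5 : Net := (.cons 4 (nat_lit 0xc)
 (.cons 2 (nat_lit 0x20)
 (.cons 1 (nat_lit 0x50)
 (.cons 4 (nat_lit 0x8)
 .nil))))
noncomputable def a6 : Net := (.cons 2 (nat_lit 0x20)
 (.cons 1 (nat_lit 0x10)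
 .nil))
noncomputable def a7 : Net := (.cons 2 (nat_lit 0x10)
 (.cons 1 (nat_lit 0x50)
 (.cons 4 (nat_lit 0x8)
 .nil)))
noncomputable def a8 : Net := (.cons 1 (nat_lit 0x50)
 .nil)
noncomputable def a9 : Net := (.cons 1 (nat_lit 0x40)
 (.cons 2 (nat_lit 0x20)
 .nil))
noncomputable def ns0 : List Net := [a0, a1]
noncomputable def ws : List (List ℕ) :=
  [W (nat_lit 0x201002),
  W (nat_lit 0xc03),
  W (nat_lit 0x200802006),
  W (nat_lit 0x140701405),
  W (nat_lit 0xc0280a0300c),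
  W (nat_lit 0x2c09),
  W (nat_lit 0xf0340d04010),
  W (nat_lit 0x110440e038110340d0480e)]
noncomputable def ns : List Net := [a0, a1, a2, a3, a4, a5, a6, a7, a8, a9]
noncomputable def D : List (ℕ × List ℕ) := app [] (mkDefs ws 2)
noncomputable def chk : List (List ℕ × List ℕ) → Bool := P.relsB ns
noncomputable def G_v0 : Lev :=
  ⟨0, 8, sg (W (nat_lit 0x300c0300c0300401)), [[4], [6]], 0, 2⟩
noncomputable def G_v1 : Lev :=
  ⟨1, 7, sg (W (nat_lit 0x140701405)), [[8], [10]], 2, 2⟩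
noncomputable def G_v2 : Lev :=
  ⟨2, 6, sg (W (nat_lit 0x240b02409)), [[12], [14]], 4, 2⟩
noncomputable def G_v3 : Lev :=
  ⟨3, 5, sg (W (nat_lit 0x3c0d0340f)), [[13], [16]], 6, 1⟩
noncomputable def G_v4 : Lev :=
  ⟨4, 4, sg (W (nat_lit 0x440e)), [[18]], 7, 1⟩
noncomputable def G_v5 : Lev :=
  ⟨5, 3, sg (W (nat_lit 0x4c13)), [], 8, 0⟩
noncomputable def G_vs6 : List Lev :=
  []
noncomputable def G_vs5 : List Lev :=
  G_v5 :: G_vs6
noncomputable def G_vs4 : List Lev :=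
  G_v4 :: G_vs5
noncomputable def G_vs3 : List Lev :=
  G_v3 :: G_vs4
noncomputable def G_vs2 : List Lev :=
  G_v2 :: G_vs3
noncomputable def G_vs1 : List Lev :=
  G_v1 :: G_vs2
noncomputable def G_vs : List Lev :=
  G_v0 :: G_vs1
noncomputable def zt1 : List ℕ :=
  []
noncomputable def zcj2 : List (List ℕ) :=
  []
noncomputable def zus5 : List (List ℕ) :=
  [[13],
  [12],
  W (nat_lit 0x3813)]
noncomputable def zF6 : List (List (ℕ × List ℕ)) :=
  [[(1, []),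
   (2, []),
   (0, []),
   (3, [18])],
  [(1, [19]),
   (0, [18]),
   (3, []),
   (2, [])]]
noncomputable def zus9 : List (List ℕ) :=
  [[14],
  [15],
  W (nat_lit 0x3c0e),
  W (nat_lit 0x4010)]
noncomputable def zF10 : List (List (ℕ × List ℕ)) :=
  [[(0, [12]),
   (2, [13]),
   (3, [12]),
   (1, []),
   (4, W (nat_lit 0x500d))],
  [(1, []),
   (3, W (nat_lit 0x500e)),
   (0, []),
   (4, W (nat_lit 0x500e)),
   (2, [])]]
noncomputable def zus13 : List (List ℕ) :=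
  [[8],
  [9],
  [11],
  W (nat_lit 0x240c),
  W (nat_lit 0x240d)]
noncomputable def zF14 : List (List (ℕ × List ℕ)) :=
  [[(1, []),
   (2, []),
   (0, []),
   (4, W (nat_lit 0x500e)),
   (5, W (nat_lit 0x500e04010)),
   (3, W (nat_lit 0x500e03c0e))],
  [(2, [14]),
   (3, [19]),
   (4, W (nat_lit 0x4c0d03c0e)),
   (0, []),
   (1, []),
   (5, W (nat_lit 0x500e04c10))]]
noncomputable def zus17 : List (List ℕ) :=
  [[4],
  [5],
  [7],
  W (nat_lit 0x1405),
  W (nat_lit 0x1407),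
  W (nat_lit 0x1807)]
noncomputable def zF18 : List (List (ℕ × List ℕ)) :=
  [[(1, []),
   (4, []),
   (0, []),
   (6, W (nat_lit 0x130340f0380c)),
   (3, W (nat_lit 0x500e040100240d)),
   (2, W (nat_lit 0x3c0a)),
   (5, W (nat_lit 0x4c0e0240d))],
  [(2, [11]),
   (5, []),
   (6, []),
   (0, []),
   (1, W (nat_lit 0xd03c0c)),
   (3, [9]),
   (4, W (nat_lit 0x500d0240d))]]
noncomputable def zus21 : List (List ℕ) :=
  [[0],
  [1],
  W (nat_lit 0x404),
  W (nat_lit 0x406),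
  W (nat_lit 0x408),
  W (nat_lit 0x807),
  W (nat_lit 0x101008)]
noncomputable def zF22 : List (List (ℕ × List ℕ)) :=
  [[(1, []),
   (2, []),
   (0, []),
   (3, W (nat_lit 0x4006)),
   (4, W (nat_lit 0x901405)),
   (5, W (nat_lit 0x500e04c0c)),
   (6, W (nat_lit 0x2408)),
   (7, W (nat_lit 0x1404009))],
  [(0, W (nat_lit 0x2405)),
   (2, [5]),
   (4, W (nat_lit 0x3c05)),
   (1, []),
   (6, W (nat_lit 0x901405)),
   (3, []),
   (7, [4]),
   (5, [])]]

theorem zc0 : P.chainB ns D G_vs [[0], [2]] = true := by decide +kernel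
theorem zb3 : bnd (pcB D [] 3 zt1 zcj2) (leB (app D []) [[18]] ([18] :: [])) = true := by decide +kernel
theorem zr4 : chk (pcR [] [18] 3 zt1 zcj2) = true := by decide +kernel
theorem zb7 : schB D [[13], [16]] [[18]] zus5 zF6 4 = true := by decide +kernel
theorem zr8 : chk (schR [[13], [16]] zus5 zF6) = true := by decide +kernel
theorem zb11 : schB D [[12], [14]] [[13], [16]] zus9 zF10 5 = true := by decide +kernel
theorem zr12 : chk (schR [[12], [14]] zus9 zF10) = true := by decide +kernel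
theorem zb15 : schB D [[8], [10]] [[12], [14]] zus13 zF14 6 = true := by decide +kernel
theorem zr16 : chk (schR [[8], [10]] zus13 zF14) = true := by decide +kernel
theorem zb19 : schB D [[4], [6]] [[8], [10]] zus17 zF18 7 = true := by decide +kernel
theorem zr20 : chk (schR [[4], [6]] zus17 zF18) = true := by decide +kernel
theorem zb23 : schB D [[0], [2]] [[4], [6]] zus21 zF22 8 = true := by decide +kernel
theorem zr24 : chk (schR [[0], [2]] zus21 zF22) = true := by decide +kernel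
theorem zk25 : allL (keepB P.n P.N) ns0 = true := by decide +kernel
theorem ze26 : extB ns0 ns 2 ws [] = true := by decide +kernel
theorem zn27 : P.netsB ns (mkDefs ws 2) = true := by decide +kernel

section
variable {G X : Type*} [Group G] [MulAction G X] {e : ℕ → X} {gs : List G}

theorem keep0 : allL (keepB P.n P.N) ns0 = true := zk25

theorem len {k} (c : Ctx P e gs ns0 [] k) : gs.length = 2 := c.len ze26

theorem ctx0 {k} (c : Ctx P e gs ns0 [] k) : Ctx P e (ext gs ws) ns D chk0 :=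
  c.ext rfl ze26 zn27

theorem ctx {k} (c : Ctx P e gs ns0 [] k) {H : Subgroup G} (hF : Faithful e P.n H) (hH : ∀ g ∈ gs, g ∈ H) :
    Ctx P e (ext gs ws) ns D chk :=
  (ctx0 c).withB hF (mem_of_mem_ext hH _)

instance instNe : NeZero P.n := ⟨by decide⟩
noncomputable def gs0 : List (Equiv.Perm (Fin P.n)) := permsOf P.n P.N ns0
noncomputable def gs1 : List (Equiv.Perm (Fin P.n)) := ext gs0 ws
theorem c1 : Ctx P (eF P.n) gs1 ns D chk :=
  ctx (ctx_permsOf hP keep0) (faithful_eF _) fun _ _ => trivial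

theorem G_c : P.chainB ns D G_vs [[0], [2]] = true :=
  zc0

theorem G_o : prodL G_vs 1 = 20160 := by decide +kernel

theorem G_lb (c : Ctx P e gs ns D chk) :
    LB (subW gs [[0], [2]]) 20160 :=
  c.lb G_c G_o

theorem G_u5 (c : Ctx P e gs ns D chk) :
    UB (subW gs [[18]]) 3 :=
  (c.pc_step (UB.nil gs) (Rels.nil _)
    (c.rels _ zr4) zb3).le (by decide)

theorem G_u4 (c : Ctx P e gs ns D chk) :
    UB (subW gs [[13], [16]]) 12 :=
  (c.sch_step (G_u5 c)
    (c.rels _ zr8) zb7).le (by decide)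

theorem G_u3 (c : Ctx P e gs ns D chk) :
    UB (subW gs [[12], [14]]) 60 :=
  (c.sch_step (G_u4 c)
    (c.rels _ zr12) zb11).le (by decide)

theorem G_u2 (c : Ctx P e gs ns D chk) :
    UB (subW gs [[8], [10]]) 360 :=
  (c.sch_step (G_u3 c)
    (c.rels _ zr16) zb15).le (by decide)

theorem G_u1 (c : Ctx P e gs ns D chk) :
    UB (subW gs [[4], [6]]) 2520 :=
  (c.sch_step (G_u2 c)
    (c.rels _ zr20) zb19).le (by decide)

theorem G_u0 (c : Ctx P e gs ns D chk) :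
    UB (subW gs [[0], [2]]) 20160 :=
  (c.sch_step (G_u1 c)
    (c.rels _ zr24) zb23).le (by decide)

theorem G_ub (c : Ctx P e gs ns D chk) :
    UB (subW gs [[0], [2]]) 20160 :=
  (G_u0 c)

theorem card : Nat.card (subW gs1 [[0], [2]]) = 20160 := (G_ub c1).card_eq (G_lb c1)
theorem eq : (subW gs1 [[0], [2]]) = alternatingGroup (Fin 8) := eq_alternatingGroup_of_card card (by decide)
theorem iso : Nonempty ((subW gs1 [[0], [2]]) ≃* alternatingGroup (Fin 8)) := ⟨MulEquiv.subgroupCongr eq⟩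

theorem simple : IsSimpleGroup (subW gs1 [[0], [2]]) :=
  have := alternatingGroup.isSimpleGroup (α := Fin 8) (by simp)
  iso.some.isSimpleGroup

theorem ub : UB (subW gs1 [[0], [2]]) 20160 := UB.of_card card (by norm_num)

end
end CL.Std.A8

namespace CL.Std.S9
open CL.PG

def P : Par := ⟨9, 10, 4, 2⟩
theorem hP : P.Ok := by decide
noncomputable def a0 : Net := (.cons 1 (nat_lit 0x1)
 .nil)
noncomputable def a1 : Net := (.cons 5 (nat_lit 0x1)
 (.cons 1 (nat_lit 0x1)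
 (.cons 1 (nat_lit 0x2)
 (.cons 1 (nat_lit 0x24)
 (.cons 1 (nat_lit 0x48)
 (.cons 1 (nat_lit 0x80)
 .nil))))))
noncomputable def a2 : Net := (.cons 5 (nat_lit 0x1e)
 (.cons 1 (nat_lit 0x100)
 (.cons 1 (nat_lit 0x84)
 (.cons 1 (nat_lit 0x142)
 (.cons 1 (nat_lit 0xa0)
 (.cons 5 (nat_lit 0x1c)
 .nil))))))
noncomputable def a3 : Net := (.cons 5 (nat_lit 0x10)
 (.cons 1 (nat_lit 0x20)
 (.cons 1 (nat_lit 0x40)
 (.cons 1 (nat_lit 0x80)
 (.cons 1 (nat_lit 0x102)
 (.cons 1 (nat_lit 0x4)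
 (.cons 5 (nat_lit 0x18)
 .nil)))))))
noncomputable def a4 : Net := (.cons 5 (nat_lit 0x1c)
 (.cons 1 (nat_lit 0x100)
 (.cons 1 (nat_lit 0x80)
 (.cons 1 (nat_lit 0x140)
 (.cons 1 (nat_lit 0x24)
 (.cons 5 (nat_lit 0x18)
 .nil))))))
noncomputable def a5 : Net := (.cons 5 (nat_lit 0x8)
 (.cons 1 (nat_lit 0x4)
 (.cons 1 (nat_lit 0x8)
 (.cons 1 (nat_lit 0x4)
 .nil))))
noncomputable def a6 : Net := (.cons 5 (nat_lit 0x10)
 (.cons 1 (nat_lit 0x100)
 (.cons 1 (nat_lit 0x80)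
 (.cons 1 (nat_lit 0x40)
 (.cons 1 (nat_lit 0x20)
 (.cons 5 (nat_lit 0x18)
 .nil))))))
noncomputable def a7 : Net := (.cons 5 (nat_lit 0x8)
 (.cons 1 (nat_lit 0xa0)
 (.cons 1 (nat_lit 0x48)
 (.cons 1 (nat_lit 0x20)
 (.cons 5 (nat_lit 0x8)
 .nil)))))
noncomputable def a8 : Net := (.cons 5 (nat_lit 0x10)
 (.cons 1 (nat_lit 0x20)
 (.cons 1 (nat_lit 0x140)
 (.cons 1 (nat_lit 0x80)
 (.cons 1 (nat_lit 0x140)
 (.cons 1 (nat_lit 0x20)
 (.cons 5 (nat_lit 0x10)
 .nil)))))))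
noncomputable def a9 : Net := (.cons 5 (nat_lit 0x10)
 (.cons 1 (nat_lit 0x80)
 (.cons 1 (nat_lit 0x140)
 (.cons 1 (nat_lit 0xa0)
 (.cons 1 (nat_lit 0x140)
 (.cons 1 (nat_lit 0x20)
 (.cons 5 (nat_lit 0x10)
 .nil)))))))
noncomputable def a10 : Net := (.cons 1 (nat_lit 0x20)
 (.cons 1 (nat_lit 0x40)
 (.cons 1 (nat_lit 0x20)
 .nil)))
noncomputable def a11 : Net := (.cons 1 (nat_lit 0xa0)
 (.cons 1 (nat_lit 0x40)
 .nil))
noncomputable def a12 : Net := (.cons 1 (nat_lit 0x80)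
 (.cons 1 (nat_lit 0x40)
 .nil))
noncomputable def a13 : Net := (.cons 1 (nat_lit 0x80)
 .nil)
noncomputable def a14 : Net := (.cons 5 (nat_lit 0x8)
 (.cons 1 (nat_lit 0xa0)
 (.cons 1 (nat_lit 0x40)
 (.cons 1 (nat_lit 0xa0)
 (.cons 5 (nat_lit 0x8)
 .nil)))))
noncomputable def a15 : Net := (.cons 1 (nat_lit 0x40)
 .nil)
noncomputable def a16 : Net := (.cons 5 (nat_lit 0x8)
 (.cons 1 (nat_lit 0x4)
 (.cons 5 (nat_lit 0x8)
 .nil)))
noncomputable def a17 : Net := (.cons 1 (nat_lit 0xa)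
 (.cons 1 (nat_lit 0x4)
 (.cons 1 (nat_lit 0xa)
 .nil)))
noncomputable def a18 : Net := (.cons 5 (nat_lit 0x10)
 (.cons 1 (nat_lit 0x20)
 (.cons 1 (nat_lit 0x140)
 (.cons 1 (nat_lit 0xa4)
 (.cons 1 (nat_lit 0x142)
 (.cons 1 (nat_lit 0x24)
 (.cons 5 (nat_lit 0x10)
 .nil)))))))
noncomputable def a19 : Net := (.cons 5 (nat_lit 0x2)
 (.cons 1 (nat_lit 0x48)
 (.cons 1 (nat_lit 0xa4)
 (.cons 1 (nat_lit 0x4a)
 (.cons 1 (nat_lit 0x84)
 (.cons 5 (nat_lit 0x2)
 .nil))))))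
noncomputable def a20 : Net := (.cons 5 (nat_lit 0x8)
 (.cons 1 (nat_lit 0x4)
 (.cons 5 (nat_lit 0x8)
 .nil)))
noncomputable def a21 : Net := (.cons 5 (nat_lit 0x8)
 (.cons 1 (nat_lit 0xa0)
 (.cons 1 (nat_lit 0x40)
 (.cons 1 (nat_lit 0xa4)
 (.cons 5 (nat_lit 0x8)
 .nil)))))
noncomputable def a22 : Net := (.cons 5 (nat_lit 0xc)
 (.cons 1 (nat_lit 0x40)
 (.cons 1 (nat_lit 0x4)
 (.cons 5 (nat_lit 0xc)
 .nil))))
noncomputable def a23 : Net := (.cons 1 (nat_lit 0x40)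
 .nil)
noncomputable def a24 : Net := (.cons 5 (nat_lit 0x4)
 (.cons 1 (nat_lit 0xa)
 (.cons 1 (nat_lit 0x84)
 (.cons 1 (nat_lit 0x4a)
 (.cons 1 (nat_lit 0x80)
 .nil)))))
noncomputable def a25 : Net := (.cons 5 (nat_lit 0x8)
 (.cons 1 (nat_lit 0xa0)
 (.cons 1 (nat_lit 0x40)
 (.cons 1 (nat_lit 0xa0)
 (.cons 5 (nat_lit 0x8)
 .nil)))))
noncomputable def a26 : Net := (.cons 1 (nat_lit 0x40)
 .nil)
noncomputable def a27 : Net := (.cons 5 (nat_lit 0x8)
 (.cons 1 (nat_lit 0xa0)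
 (.cons 1 (nat_lit 0x40)
 (.cons 1 (nat_lit 0xa0)
 (.cons 5 (nat_lit 0x8)
 .nil)))))
noncomputable def a28 : Net := (.cons 5 (nat_lit 0x10)
 (.cons 1 (nat_lit 0x40)
 (.cons 1 (nat_lit 0x80)
 (.cons 1 (nat_lit 0x100)
 (.cons 1 (nat_lit 0x20)
 (.cons 5 (nat_lit 0x10)
 .nil))))))
noncomputable def a29 : Net := (.cons 5 (nat_lit 0x1c)
 (.cons 1 (nat_lit 0x80)
 (.cons 1 (nat_lit 0x140)
 (.cons 1 (nat_lit 0xa4)
 (.cons 5 (nat_lit 0x10)
 .nil)))))
noncomputable def ns0 : List Net := [a0, a1]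
noncomputable def ws : List (List ℕ) :=
  [W (nat_lit 0x804010010100200c03),
  W (nat_lit 0xc02),
  W (nat_lit 0x701405),
  W (nat_lit 0x140701c0602005),
  W (nat_lit 0x300c03009),
  W (nat_lit 0xc0280a0280b0280a),
  W (nat_lit 0xf0380e03c0e0400e),
  W (nat_lit 0x400e0380e),
  W (nat_lit 0x1304814),
  W (nat_lit 0x4813),
  W (nat_lit 0x5817),
  W (nat_lit 0x180601505c16),
  W (nat_lit 0x6c1a05c1304c10),
  W (nat_lit 0x6c1a),
  W (nat_lit 0x641704409),
  W (nat_lit 0x1b0541804c130340a0140e),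
  W (nat_lit 0x1b0680902c06),
  W (nat_lit 0x6c1103405),
  W (nat_lit 0x1f09423088240882208824098230942008020098260782209026),
  W (nat_lit 0x842708c2507825078210802609c25),
  W (nat_lit 0x742009422080260742508c2209c1e098230a02008c1f07426),
  W (nat_lit 0x2e0a42e),
  W (nat_lit 0xbc290b423),
  W (nat_lit 0xa42b),
  W (nat_lit 0x2c0a82e0ac2e),
  W (nat_lit 0xac2e0b82a),
  W (nat_lit 0x681506013),
  W (nat_lit 0x6c1704c1303809)]
noncomputable def ns : List Net := [a0, a1, a2, a3, a4, a5, a6, a7, a8, a9, a10, a11, a12, a13, a14, a15, a16, a17, a18, a19, a20, a21, a22, a23, a24, a25, a26, a27, a28, a29]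
noncomputable def D : List (ℕ × List ℕ) := app [] (mkDefs ws 2)
noncomputable def chk : List (List ℕ × List ℕ) → Bool := P.relsB ns
noncomputable def G_v0 : Lev :=
  ⟨0, 9, sg (W (nat_lit 0xc0300c0300c0300c01)), [[4], [6]], 0, 2⟩
noncomputable def G_v1 : Lev :=
  ⟨1, 8, sg (W (nat_lit 0x14050140501c05)), [[8], [10]], 2, 2⟩
noncomputable def G_v2 : Lev :=
  ⟨2, 7, sg (W (nat_lit 0x2c090240902409)), [[12], [14]], 4, 2⟩
noncomputable def G_v3 : Lev :=
  ⟨3, 6, sg (W (nat_lit 0x340d03c0d)), [[16], [18]], 6, 2⟩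
noncomputable def G_v4 : Lev :=
  ⟨4, 5, sg (W (nat_lit 0x4c1304c11)), [[20], [22]], 8, 2⟩
noncomputable def G_v5 : Lev :=
  ⟨5, 4, sg (W (nat_lit 0x1705c15)), [[24], [26]], 10, 2⟩
noncomputable def G_v6 : Lev :=
  ⟨6, 3, sg (W (nat_lit 0x6419)), [[26]], 12, 0⟩
noncomputable def G_v7 : Lev :=
  ⟨7, 2, sg [26], [], 12, 0⟩
noncomputable def G_vs8 : List Lev :=
  []
noncomputable def G_vs7 : List Lev :=
  G_v7 :: G_vs8
noncomputable def G_vs6 : List Lev :=
  G_v6 :: G_vs7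
noncomputable def G_vs5 : List Lev :=
  G_v5 :: G_vs6
noncomputable def G_vs4 : List Lev :=
  G_v4 :: G_vs5
noncomputable def G_vs3 : List Lev :=
  G_v3 :: G_vs4
noncomputable def G_vs2 : List Lev :=
  G_v2 :: G_vs3
noncomputable def G_vs1 : List Lev :=
  G_v1 :: G_vs2
noncomputable def G_vs : List Lev :=
  G_v0 :: G_vs1
noncomputable def pc2_P_ps : List PcG :=
  [⟨[38], 2, W (nat_lit 0x8c2909431), [[36], W (nat_lit 0x3308c31), [34], [50], [46], [40]]⟩,
  ⟨[48], 2, [], [W (nat_lit 0x3308c2f0a425), [46], [40], [34], [50]]⟩,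
  ⟨[36], 2, [], [[40], [46], [50], [34]]⟩,
  ⟨[40], 2, [], [[46], [34], [50]]⟩,
  ⟨[46], 2, [], [[34], [50]]⟩,
  ⟨[34], 2, [], [[50]]⟩,
  ⟨[50], 2, [], []⟩]
noncomputable def zE1 : List (ℕ × List ℕ) :=
  [(28, [50]),
  (30, [46]),
  (32, [40])]
noncomputable def pc2_P_v0 : Lev :=
  ⟨1, 8, sg (W (nat_lit 0x2709423)), [[40], [42], [44]], 18, 3⟩
noncomputable def pc2_P_v1 : Lev :=
  ⟨3, 2, sg [42], [[40], [44]], 21, 0⟩
noncomputable def pc2_P_v2 : Lev :=
  ⟨2, 4, sg (W (nat_lit 0xb429)), [[46]], 21, 1⟩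
noncomputable def pc2_P_v3 : Lev :=
  ⟨6, 2, sg [46], [], 22, 0⟩
noncomputable def pc2_P_vs4 : List Lev :=
  []
noncomputable def pc2_P_vs3 : List Lev :=
  pc2_P_v3 :: pc2_P_vs4
noncomputable def pc2_P_vs2 : List Lev :=
  pc2_P_v2 :: pc2_P_vs3
noncomputable def pc2_P_vs1 : List Lev :=
  pc2_P_v1 :: pc2_P_vs2
noncomputable def pc2_P_vs : List Lev :=
  pc2_P_v0 :: pc2_P_vs1
noncomputable def pc2_s_ms : List ℕ :=
  [(nat_lit 0x1fb),
  (nat_lit 0x2),
  (nat_lit 0x1f7),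
  (nat_lit 0x17f)]
noncomputable def pc2_sG_v0 : Lev :=
  ⟨1, 8, sg (W (nat_lit 0x2709423)), [[40], [42], [44]], 18, 3⟩
noncomputable def pc2_sG_v1 : Lev :=
  ⟨2, 4, sg (W (nat_lit 0xb429)), [[52], [54]], 24, 2⟩
noncomputable def pc2_sG_v2 : Lev :=
  ⟨3, 2, sg [54], [[52]], 26, 0⟩
noncomputable def pc2_sG_v3 : Lev :=
  ⟨6, 2, sg [52], [], 26, 0⟩
noncomputable def pc2_sG_vs4 : List Lev :=
  []
noncomputable def pc2_sG_vs3 : List Lev :=
  pc2_sG_v3 :: pc2_sG_vs4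
noncomputable def pc2_sG_vs2 : List Lev :=
  pc2_sG_v2 :: pc2_sG_vs3
noncomputable def pc2_sG_vs1 : List Lev :=
  pc2_sG_v1 :: pc2_sG_vs2
noncomputable def pc2_sG_vs : List Lev :=
  pc2_sG_v0 :: pc2_sG_vs1
noncomputable def pc2_s_x : List (ℕ × List ℕ) :=
  [((nat_lit 0), []),
  ((nat_lit 0), [(nat_lit 0x1c4)]),
  ((nat_lit 0), [(nat_lit 0x28)]),
  ((nat_lit 0), [(nat_lit 0xc0)])]
noncomputable def pc2_s_G : Gl :=
  ⟨P, ns, (app D []), [], [], [], memM (app D []) [], true⟩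
noncomputable def pc2_s_s : St :=
  ⟨(mkS P.n pc2_sG_vs pc2_s_x), [[28], [30], [32], [34], [36], [38]], [], diag pc2_s_ms, memM (app D []) [], []⟩
noncomputable def zt8 : ST :=
  (.br 1 [] [] [(1, [])] (.cons (.orb 0 (.dif 0 2 (.br 0 [] [] [(2, [])] (.cons (.orb 0 (.dif 0 7 (.br 0 [] [] [(3, [])] (.cons (.orb 0 (.and 0 11 (.br 0 [] [] [(6, [])] (.cons .fnd
 .nil))))
 .nil))))
 .nil))))
 .nil))
noncomputable def zus11 : List (List ℕ × ℕ) :=
  [(W (nat_lit 0x1004), (nat_lit 0x1fe)),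
  (W (nat_lit 0x4004040080400404), (nat_lit 0x1)),
  (W (nat_lit 0x4004010100400804), (nat_lit 0x1fe)),
  (W (nat_lit 0x1004040080300c03), (nat_lit 0x1fe))]
noncomputable def zts13 : List (List ℕ) :=
  [W (nat_lit 0x6c1a05c1304c10),
  W (nat_lit 0x6c1a),
  W (nat_lit 0x641704409),
  W (nat_lit 0x1b0541804c130340a0140e),
  W (nat_lit 0x1b0680902c06),
  W (nat_lit 0x6c1103405)]
noncomputable def pc5_P_ps : List PcG :=
  [⟨[56], 5, [], []⟩]
noncomputable def pc5_P_v0 : Lev :=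
  ⟨4, 5, sg (W (nat_lit 0xe4390e439)), [], 27, 0⟩
noncomputable def pc5_P_vs1 : List Lev :=
  []
noncomputable def pc5_P_vs : List Lev :=
  pc5_P_v0 :: pc5_P_vs1
noncomputable def pc5_s_ms : List ℕ :=
  [(nat_lit 0x100)]
noncomputable def pc5_sG_v0 : Lev :=
  ⟨8, 5, sg (W (nat_lit 0xe4390e439)), [], 27, 0⟩
noncomputable def pc5_sG_vs1 : List Lev :=
  []
noncomputable def pc5_sG_vs : List Lev :=
  pc5_sG_v0 :: pc5_sG_vs1
noncomputable def pc5_s_x : List (ℕ × List ℕ) :=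
  [((nat_lit 0), [])]
noncomputable def pc5_s_G : Gl :=
  ⟨P, ns, (app D []), [], [], [], memM (app D []) [], true⟩
noncomputable def pc5_s_s : St :=
  ⟨(mkS P.n pc5_sG_vs pc5_s_x), [[56]], [], diag pc5_s_ms, memM (app D []) [], []⟩
noncomputable def zt21 : ST :=
  (.br 0 [] [] [(8, [])] (.cons .fnd
 .nil))
noncomputable def zus24 : List (List ℕ × ℕ) :=
  [(W (nat_lit 0xc0100401), (nat_lit 0x2))]
noncomputable def zts26 : List (List ℕ) :=
  [W (nat_lit 0x681506013)]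
noncomputable def pc7_P_ps : List PcG :=
  [⟨[58], 7, [], []⟩]
noncomputable def pc7_P_v0 : Lev :=
  ⟨2, 7, sg (W (nat_lit 0xec3b0ec3b0ec3b)), [], 28, 0⟩
noncomputable def pc7_P_vs1 : List Lev :=
  []
noncomputable def pc7_P_vs : List Lev :=
  pc7_P_v0 :: pc7_P_vs1
noncomputable def pc7_s_ms : List ℕ :=
  [(nat_lit 0x10)]
noncomputable def pc7_sG_v0 : Lev :=
  ⟨4, 7, sg (W (nat_lit 0xec3b0ec3b0ec3b)), [], 28, 0⟩
noncomputable def pc7_sG_vs1 : List Lev :=
  []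
noncomputable def pc7_sG_vs : List Lev :=
  pc7_sG_v0 :: pc7_sG_vs1
noncomputable def pc7_s_x : List (ℕ × List ℕ) :=
  [((nat_lit 0), [])]
noncomputable def pc7_s_G : Gl :=
  ⟨P, ns, (app D []), [], [], [], memM (app D []) [], true⟩
noncomputable def pc7_s_s : St :=
  ⟨(mkS P.n pc7_sG_vs pc7_s_x), [[58]], [], diag pc7_s_ms, memM (app D []) [], []⟩
noncomputable def zt34 : ST :=
  (.br 0 [] [] [(4, [])] (.cons .fnd
 .nil))
noncomputable def zus37 : List (List ℕ × ℕ) :=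
  [(W (nat_lit 0x4010100401004), (nat_lit 0x1))]
noncomputable def zts39 : List (List ℕ) :=
  [W (nat_lit 0x6c1704c1303809)]

theorem zc0 : P.chainB ns D G_vs [[0], [2]] = true := by decide +kernel
theorem zr2 : chk (pcsR pc2_P_ps []) = true := by decide +kernel
theorem zr3 : chk (defRels zE1) = true := by decide +kernel
theorem zb4 : bnd (pcsB D pc2_P_ps []) (leB (app D zE1) [[28], [30], [32], [34], [36], [38]] (pcGens pc2_P_ps [])) = true := by decide +kernel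
theorem zc5 : P.chainB ns D pc2_P_vs [[28], [30], [32], [34], [36], [38]] = true := by decide +kernel
theorem zc6 : P.chainB ns D pc2_sG_vs [[28], [30], [32], [34], [36], [38]] = true := by decide +kernel
theorem zs7 : ssB P.N ns D (mkS P.n pc2_sG_vs pc2_s_x) [[28], [30], [32], [34], [36], [38]] = true := by decide +kernel
theorem zs9 : pc2_s_G.chk zt8 pc2_s_s none = true := by decide +kernel
theorem zm10 : bnd (allL (invB P.N ns []) pc2_s_ms) (leB D [] [[28], [30], [32], [34], [36], [38]]) = true := by decide +kernel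
theorem zm12 : P.coreB ns D [[0], [2]] [[28], [30], [32], [34], [36], [38]] zus11 pc2_s_ms = true := by decide +kernel
theorem zm14 : leB D zts13 [[0], [2]] = true := by decide +kernel
theorem zr15 : chk (zp [] [[28], [30], [32], [34], [36], [38]] zts13) = true := by decide +kernel
theorem zr16 : chk (pcsR pc5_P_ps []) = true := by decide +kernel
theorem zb17 : bnd (pcsB D pc5_P_ps []) (leB (app D []) [[56]] (pcGens pc5_P_ps [])) = true := by decide +kernel
theorem zc18 : P.chainB ns D pc5_P_vs [[56]] = true := by decide +kernel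
theorem zc19 : P.chainB ns D pc5_sG_vs [[56]] = true := by decide +kernel
theorem zs20 : ssB P.N ns D (mkS P.n pc5_sG_vs pc5_s_x) [[56]] = true := by decide +kernel
theorem zs22 : pc5_s_G.chk zt21 pc5_s_s none = true := by decide +kernel
theorem zm23 : bnd (allL (invB P.N ns []) pc5_s_ms) (leB D [] [[56]]) = true := by decide +kernel
theorem zm25 : P.coreB ns D [[0], [2]] [[56]] zus24 pc5_s_ms = true := by decide +kernel
theorem zm27 : leB D zts26 [[0], [2]] = true := by decide +kernel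
theorem zr28 : chk (zp [] [[56]] zts26) = true := by decide +kernel
theorem zr29 : chk (pcsR pc7_P_ps []) = true := by decide +kernel
theorem zb30 : bnd (pcsB D pc7_P_ps []) (leB (app D []) [[58]] (pcGens pc7_P_ps [])) = true := by decide +kernel
theorem zc31 : P.chainB ns D pc7_P_vs [[58]] = true := by decide +kernel
theorem zc32 : P.chainB ns D pc7_sG_vs [[58]] = true := by decide +kernel
theorem zs33 : ssB P.N ns D (mkS P.n pc7_sG_vs pc7_s_x) [[58]] = true := by decide +kernel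
theorem zs35 : pc7_s_G.chk zt34 pc7_s_s none = true := by decide +kernel
theorem zm36 : bnd (allL (invB P.N ns []) pc7_s_ms) (leB D [] [[58]]) = true := by decide +kernel
theorem zm38 : P.coreB ns D [[0], [2]] [[58]] zus37 pc7_s_ms = true := by decide +kernel
theorem zm40 : leB D zts39 [[0], [2]] = true := by decide +kernel
theorem zr41 : chk (zp [] [[58]] zts39) = true := by decide +kernel
theorem zk42 : allL (keepB P.n P.N) ns0 = true := by decide +kernel
theorem ze43 : extB ns0 ns 2 ws [] = true := by decide +kernel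
theorem zn44 : P.netsB ns (mkDefs ws 2) = true := by decide +kernel

section
variable {G X : Type*} [Group G] [MulAction G X] {e : ℕ → X} {gs : List G}

theorem keep0 : allL (keepB P.n P.N) ns0 = true := zk42

theorem len {k} (c : Ctx P e gs ns0 [] k) : gs.length = 2 := c.len ze43

theorem ctx0 {k} (c : Ctx P e gs ns0 [] k) : Ctx P e (ext gs ws) ns D chk0 :=
  c.ext rfl ze43 zn44

theorem ctx {k} (c : Ctx P e gs ns0 [] k) {H : Subgroup G} (hF : Faithful e P.n H) (hH : ∀ g ∈ gs, g ∈ H) :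
    Ctx P e (ext gs ws) ns D chk :=
  (ctx0 c).withB hF (mem_of_mem_ext hH _)

instance instNe : NeZero P.n := ⟨by decide⟩
noncomputable def gs0 : List (Equiv.Perm (Fin P.n)) := permsOf P.n P.N ns0
noncomputable def gs1 : List (Equiv.Perm (Fin P.n)) := ext gs0 ws
theorem c1 : Ctx P (eF P.n) gs1 ns D chk :=
  ctx (ctx_permsOf hP keep0) (faithful_eF _) fun _ _ => trivial

theorem G_c : P.chainB ns D G_vs [[0], [2]] = true :=
  zc0

theorem G_o : prodL G_vs 1 = 362880 := by decide +kernel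

theorem G_lb (c : Ctx P e gs ns D chk) :
    LB (subW gs [[0], [2]]) 362880 :=
  c.lb G_c G_o

theorem top : (subW gs1 [[0], [2]]) = ⊤ := eq_top_of_lb (G_lb c1) (card_perm_fin 9 (by decide)) (by norm_num)
theorem iso : Nonempty ((subW gs1 [[0], [2]]) ≃* Equiv.Perm (Fin 9)) := equiv_of_eq_top top
theorem card : Nat.card (subW gs1 [[0], [2]]) = 362880 := (Nat.card_congr iso.some.toEquiv).trans (card_perm_fin 9 (by decide))

theorem ub : UB (subW gs1 [[0], [2]]) 362880 := UB.of_card card (by norm_num)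

theorem pc2_P_pr (c : Ctx P e gs ns D chk) :
    Rels gs (pcsR pc2_P_ps []) :=
  (c.rels _ zr2)

theorem pc2_P_pe (c : Ctx P e gs ns D chk) :
    Rels gs (defRels zE1) :=
  (c.rels _ zr3)

theorem pc2_P_pb : bnd (pcsB D pc2_P_ps []) (leB (app D zE1) [[28], [30], [32], [34], [36], [38]] (pcGens pc2_P_ps [])) = true := zb4

theorem pc2_P_ub (c : Ctx P e gs ns D chk) :
    UB (subW gs [[28], [30], [32], [34], [36], [38]]) 128 :=
  c.pcs (UB.nil gs) (pc2_P_pe c) (pc2_P_pr c) pc2_P_pb (by decide +kernel)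

theorem pc2_P_c : P.chainB ns D pc2_P_vs [[28], [30], [32], [34], [36], [38]] = true :=
  zc5

theorem pc2_P_o : prodL pc2_P_vs 1 = 128 := by decide +kernel

theorem pc2_P_lb (c : Ctx P e gs ns D chk) :
    LB (subW gs [[28], [30], [32], [34], [36], [38]]) 128 :=
  c.lb pc2_P_c pc2_P_o

theorem pc2_P_card (c : Ctx P e gs ns D chk) :
    Nat.card (subW gs [[28], [30], [32], [34], [36], [38]]) = 128 :=
  (pc2_P_ub c).card_eq (pc2_P_lb c)

theorem pc2_sG_c : P.chainB ns D pc2_sG_vs [[28], [30], [32], [34], [36], [38]] = true :=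
  zc6

theorem pc2_sG_o : prodL pc2_sG_vs 1 = 128 := by decide +kernel

theorem pc2_s (c : Ctx P e gs ns D chk) :
    ∀ g, g ∈ (subW gs []) ↔ g ∈ (subW gs [[28], [30], [32], [34], [36], [38]]) ∧ ∀ m ∈ pc2_s_ms, g ∈ sstab G (mset e P.n m) :=
  c.setStab (Rels.nil _) (c.sOk (c.exact pc2_sG_c pc2_sG_o (pc2_P_ub c)) zs7) (fun _ h => by cases h) zm10 zs9

theorem pc2 (c : Ctx P e gs ns D chk) (hK : Nat.card (subW gs [[0], [2]]) = 362880) :
    Cfsg.pCore 2 (subW gs [[0], [2]]) = ⊥ :=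
  pCore_eq_bot_of_le (c.pCoreOf_le (p := 2) (by norm_num) (b := 2835) hK (pc2_P_card c) (by norm_num) (c.le_of_rels (ws := [[28], [30], [32], [34], [36], [38]]) (l := [[0], [2]]) (c.rels _ zr15) zm14) zm12 (pc2_s c))

theorem core2 : Cfsg.pCore 2 (subW gs1 [[0], [2]]) = ⊥ := pc2 c1 card

theorem pc5_P_pr (c : Ctx P e gs ns D chk) :
    Rels gs (pcsR pc5_P_ps []) :=
  (c.rels _ zr16)

theorem pc5_P_pe (c : Ctx P e gs ns D chk) :
    Rels gs (defRels []) :=
  (Rels.nil _)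

theorem pc5_P_pb : bnd (pcsB D pc5_P_ps []) (leB (app D []) [[56]] (pcGens pc5_P_ps [])) = true := zb17

theorem pc5_P_ub (c : Ctx P e gs ns D chk) :
    UB (subW gs [[56]]) 5 :=
  c.pcs (UB.nil gs) (pc5_P_pe c) (pc5_P_pr c) pc5_P_pb (by decide +kernel)

theorem pc5_P_c : P.chainB ns D pc5_P_vs [[56]] = true :=
  zc18

theorem pc5_P_o : prodL pc5_P_vs 1 = 5 := by decide +kernel

theorem pc5_P_lb (c : Ctx P e gs ns D chk) :
    LB (subW gs [[56]]) 5 :=
  c.lb pc5_P_c pc5_P_o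

theorem pc5_P_card (c : Ctx P e gs ns D chk) :
    Nat.card (subW gs [[56]]) = 5 :=
  (pc5_P_ub c).card_eq (pc5_P_lb c)

theorem pc5_sG_c : P.chainB ns D pc5_sG_vs [[56]] = true :=
  zc19

theorem pc5_sG_o : prodL pc5_sG_vs 1 = 5 := by decide +kernel

theorem pc5_s (c : Ctx P e gs ns D chk) :
    ∀ g, g ∈ (subW gs []) ↔ g ∈ (subW gs [[56]]) ∧ ∀ m ∈ pc5_s_ms, g ∈ sstab G (mset e P.n m) :=
  c.setStab (Rels.nil _) (c.sOk (c.exact pc5_sG_c pc5_sG_o (pc5_P_ub c)) zs20) (fun _ h => by cases h) zm23 zs22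

theorem pc5 (c : Ctx P e gs ns D chk) (hK : Nat.card (subW gs [[0], [2]]) = 362880) :
    Cfsg.pCore 5 (subW gs [[0], [2]]) = ⊥ :=
  pCore_eq_bot_of_le (c.pCoreOf_le (p := 5) (by norm_num) (b := 72576) hK (pc5_P_card c) (by norm_num) (c.le_of_rels (ws := [[56]]) (l := [[0], [2]]) (c.rels _ zr28) zm27) zm25 (pc5_s c))

theorem core5 : Cfsg.pCore 5 (subW gs1 [[0], [2]]) = ⊥ := pc5 c1 card

theorem pc7_P_pr (c : Ctx P e gs ns D chk) :
    Rels gs (pcsR pc7_P_ps []) :=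
  (c.rels _ zr29)

theorem pc7_P_pe (c : Ctx P e gs ns D chk) :
    Rels gs (defRels []) :=
  (Rels.nil _)

theorem pc7_P_pb : bnd (pcsB D pc7_P_ps []) (leB (app D []) [[58]] (pcGens pc7_P_ps [])) = true := zb30

theorem pc7_P_ub (c : Ctx P e gs ns D chk) :
    UB (subW gs [[58]]) 7 :=
  c.pcs (UB.nil gs) (pc7_P_pe c) (pc7_P_pr c) pc7_P_pb (by decide +kernel)

theorem pc7_P_c : P.chainB ns D pc7_P_vs [[58]] = true :=
  zc31

theorem pc7_P_o : prodL pc7_P_vs 1 = 7 := by decide +kernel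

theorem pc7_P_lb (c : Ctx P e gs ns D chk) :
    LB (subW gs [[58]]) 7 :=
  c.lb pc7_P_c pc7_P_o

theorem pc7_P_card (c : Ctx P e gs ns D chk) :
    Nat.card (subW gs [[58]]) = 7 :=
  (pc7_P_ub c).card_eq (pc7_P_lb c)

theorem pc7_sG_c : P.chainB ns D pc7_sG_vs [[58]] = true :=
  zc32

theorem pc7_sG_o : prodL pc7_sG_vs 1 = 7 := by decide +kernel

theorem pc7_s (c : Ctx P e gs ns D chk) :
    ∀ g, g ∈ (subW gs []) ↔ g ∈ (subW gs [[58]]) ∧ ∀ m ∈ pc7_s_ms, g ∈ sstab G (mset e P.n m) :=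
  c.setStab (Rels.nil _) (c.sOk (c.exact pc7_sG_c pc7_sG_o (pc7_P_ub c)) zs33) (fun _ h => by cases h) zm36 zs35

theorem pc7 (c : Ctx P e gs ns D chk) (hK : Nat.card (subW gs [[0], [2]]) = 362880) :
    Cfsg.pCore 7 (subW gs [[0], [2]]) = ⊥ :=
  pCore_eq_bot_of_le (c.pCoreOf_le (p := 7) (by norm_num) (b := 51840) hK (pc7_P_card c) (by norm_num) (c.le_of_rels (ws := [[58]]) (l := [[0], [2]]) (c.rels _ zr41) zm40) zm38 (pc7_s c))

theorem core7 : Cfsg.pCore 7 (subW gs1 [[0], [2]]) = ⊥ := pc7 c1 card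

end
end CL.Std.S9

namespace CL.Std.A9
open CL.PG

def P : Par := ⟨9, 10, 4, 2⟩
theorem hP : P.Ok := by decide
noncomputable def a0 : Net := (.cons 1 (nat_lit 0x1)
 (.cons 1 (nat_lit 0x2)
 .nil))
noncomputable def a1 : Net := (.cons 5 (nat_lit 0x1)
 (.cons 1 (nat_lit 0x1)
 (.cons 1 (nat_lit 0x2)
 (.cons 1 (nat_lit 0x24)
 (.cons 1 (nat_lit 0x48)
 (.cons 1 (nat_lit 0x80)
 .nil))))))
noncomputable def a2 : Net := (.cons 5 (nat_lit 0x18)
 (.cons 1 (nat_lit 0x100)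
 (.cons 1 (nat_lit 0x84)
 (.cons 1 (nat_lit 0x42)
 (.cons 1 (nat_lit 0x24)
 (.cons 5 (nat_lit 0x10)
 .nil))))))
noncomputable def a3 : Net := (.cons 5 (nat_lit 0x10)
 (.cons 1 (nat_lit 0x20)
 (.cons 1 (nat_lit 0x40)
 (.cons 1 (nat_lit 0x80)
 (.cons 1 (nat_lit 0x100)
 (.cons 1 (nat_lit 0x4)
 (.cons 5 (nat_lit 0x18)
 .nil)))))))
noncomputable def a4 : Net := (.cons 1 (nat_lit 0x4)
 (.cons 5 (nat_lit 0x8)
 .nil))
noncomputable def a5 : Net := (.cons 5 (nat_lit 0x10)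
 (.cons 1 (nat_lit 0x20)
 (.cons 1 (nat_lit 0x40)
 (.cons 1 (nat_lit 0x80)
 (.cons 1 (nat_lit 0x100)
 (.cons 5 (nat_lit 0x10)
 .nil))))))
noncomputable def a6 : Net := (.cons 5 (nat_lit 0x18)
 (.cons 1 (nat_lit 0x100)
 (.cons 1 (nat_lit 0x80)
 (.cons 1 (nat_lit 0x40)
 (.cons 1 (nat_lit 0x20)
 (.cons 5 (nat_lit 0x18)
 .nil))))))
noncomputable def a7 : Net := (.cons 5 (nat_lit 0x10)
 (.cons 1 (nat_lit 0x140)
 (.cons 1 (nat_lit 0xa0)
 (.cons 1 (nat_lit 0x140)
 (.cons 5 (nat_lit 0x10)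
 .nil)))))
noncomputable def a8 : Net := (.cons 1 (nat_lit 0xa0)
 .nil)
noncomputable def a9 : Net := (.cons 1 (nat_lit 0x40)
 (.cons 1 (nat_lit 0x80)
 .nil))
noncomputable def ns0 : List Net := [a0, a1]
noncomputable def ws : List (List ℕ) :=
  [W (nat_lit 0x201002),
  W (nat_lit 0x300401),
  W (nat_lit 0x140701c05),
  W (nat_lit 0x2807),
  W (nat_lit 0x2408),
  W (nat_lit 0x380c0380e0300e),
  W (nat_lit 0x2c0b02c0f02c10),
  W (nat_lit 0x400b02c0b)]
noncomputable def ns : List Net := [a0, a1, a2, a3, a4, a5, a6, a7, a8, a9]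
noncomputable def D : List (ℕ × List ℕ) := app [] (mkDefs ws 2)
noncomputable def chk : List (List ℕ × List ℕ) → Bool := P.relsB ns
noncomputable def G_v0 : Lev :=
  ⟨0, 9, sg (W (nat_lit 0x300c0300c0300c01)), [[4], [6]], 0, 2⟩
noncomputable def G_v1 : Lev :=
  ⟨1, 8, sg (W (nat_lit 0x7014050140501405)), [[8], [7]], 2, 1⟩
noncomputable def G_v2 : Lev :=
  ⟨2, 7, sg (W (nat_lit 0x20080200802409)), [[10], [12]], 3, 2⟩
noncomputable def G_v3 : Lev :=
  ⟨3, 6, sg (W (nat_lit 0xb02c0b02c0d)), [[11], [14]], 5, 1⟩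
noncomputable def G_v4 : Lev :=
  ⟨4, 5, sg (W (nat_lit 0xc03c0c)), [[16], [18]], 6, 2⟩
noncomputable def G_v5 : Lev :=
  ⟨5, 4, sg (W (nat_lit 0x1104c11)), [[18]], 8, 0⟩
noncomputable def G_v6 : Lev :=
  ⟨6, 3, sg (W (nat_lit 0x4c13)), [], 8, 0⟩
noncomputable def G_vs7 : List Lev :=
  []
noncomputable def G_vs6 : List Lev :=
  G_v6 :: G_vs7
noncomputable def G_vs5 : List Lev :=
  G_v5 :: G_vs6
noncomputable def G_vs4 : List Lev :=
  G_v4 :: G_vs5
noncomputable def G_vs3 : List Lev :=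
  G_v3 :: G_vs4
noncomputable def G_vs2 : List Lev :=
  G_v2 :: G_vs3
noncomputable def G_vs1 : List Lev :=
  G_v1 :: G_vs2
noncomputable def G_vs : List Lev :=
  G_v0 :: G_vs1
noncomputable def zt1 : List ℕ :=
  []
noncomputable def zcj2 : List (List ℕ) :=
  []
noncomputable def zus5 : List (List ℕ) :=
  [[16],
  W (nat_lit 0x4413),
  W (nat_lit 0x4414)]
noncomputable def zF6 : List (List (ℕ × List ℕ)) :=
  [[(1, []),
   (0, []),
   (3, [19]),
   (2, [18])],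
  [(0, [18]),
   (2, []),
   (3, []),
   (1, [])]]
noncomputable def zus9 : List (List ℕ) :=
  [[11],
  [10],
  [14],
  W (nat_lit 0x300c)]
noncomputable def zF10 : List (List (ℕ × List ℕ)) :=
  [[(1, []),
   (4, []),
   (0, []),
   (2, [18]),
   (3, [19])],
  [(3, []),
   (1, W (nat_lit 0x1404413)),
   (4, W (nat_lit 0x5011)),
   (0, []),
   (2, W (nat_lit 0x4413))]]
noncomputable def zus13 : List (List ℕ) :=
  [[12],
  [13],
  W (nat_lit 0x340b),
  W (nat_lit 0x340c),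
  W (nat_lit 0x340f)]
noncomputable def zF14 : List (List (ℕ × List ℕ)) :=
  [[(0, [10]),
   (3, []),
   (5, W (nat_lit 0x4c0b)),
   (2, W (nat_lit 0x14044130300c)),
   (1, []),
   (4, W (nat_lit 0x4414))],
  [(1, []),
   (4, W (nat_lit 0x4c0c)),
   (0, []),
   (3, W (nat_lit 0x130300c)),
   (5, W (nat_lit 0x50110500f)),
   (2, W (nat_lit 0x140440f))]]
noncomputable def zus17 : List (List ℕ) :=
  [[6],
  [7],
  W (nat_lit 0x200b),
  W (nat_lit 0x2008),
  W (nat_lit 0x80200f),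
  W (nat_lit 0x2013)]
noncomputable def zF18 : List (List (ℕ × List ℕ)) :=
  [[(1, [12]),
   (2, W (nat_lit 0x4c0b0340f)),
   (0, [11]),
   (3, W (nat_lit 0x300e)),
   (4, W (nat_lit 0x1104c0e)),
   (5, W (nat_lit 0x1104c0e)),
   (6, W (nat_lit 0x300e))],
  [(2, []),
   (0, []),
   (4, []),
   (1, W (nat_lit 0x300d)),
   (6, W (nat_lit 0x300d)),
   (3, W (nat_lit 0x130300d)),
   (5, [19])]]
noncomputable def zus21 : List (List ℕ) :=
  [[4],
  [5],
  W (nat_lit 0x1405),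
  W (nat_lit 0x1407),
  W (nat_lit 0x140b),
  W (nat_lit 0x1413),
  W (nat_lit 0x50140f)]
noncomputable def zF22 : List (List (ℕ × List ℕ)) :=
  [[(1, []),
   (3, []),
   (0, []),
   (6, W (nat_lit 0x300d)),
   (4, W (nat_lit 0xc03407)),
   (2, W (nat_lit 0x300d)),
   (7, [19]),
   (5, W (nat_lit 0x130300d))],
  [(0, [6]),
   (4, []),
   (5, W (nat_lit 0x4c0b0340f0200b)),
   (1, W (nat_lit 0x200b)),
   (2, W (nat_lit 0x3407)),
   (7, W (nat_lit 0x140440d02c080200f)),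
   (3, W (nat_lit 0x3c0d02c080200f)),
   (6, W (nat_lit 0x130200b))]]
noncomputable def zus25 : List (List ℕ) :=
  [[0],
  [1],
  [3],
  W (nat_lit 0x406),
  W (nat_lit 0x1004),
  W (nat_lit 0x100b),
  W (nat_lit 0x1013),
  W (nat_lit 0x40100f)]
noncomputable def zF26 : List (List (ℕ × List ℕ)) :=
  [[(1, []),
   (2, []),
   (0, []),
   (3, W (nat_lit 0x1407)),
   (4, W (nat_lit 0x2c0801407)),
   (5, W (nat_lit 0x3007)),
   (6, W (nat_lit 0x1407)),
   (7, W (nat_lit 0x1407)),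
   (8, W (nat_lit 0x3007))],
  [(1, [6]),
   (2, [5]),
   (4, W (nat_lit 0x1c05)),
   (0, []),
   (6, W (nat_lit 0x4c0b0340f0140b)),
   (3, []),
   (8, W (nat_lit 0x140440f01c06)),
   (5, W (nat_lit 0x1c06)),
   (7, [18])]]

theorem zc0 : P.chainB ns D G_vs [[0], [2]] = true := by decide +kernel
theorem zb3 : bnd (pcB D [] 3 zt1 zcj2) (leB (app D []) [[18]] ([18] :: [])) = true := by decide +kernel
theorem zr4 : chk (pcR [] [18] 3 zt1 zcj2) = true := by decide +kernel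
theorem zb7 : schB D [[16], [18]] [[18]] zus5 zF6 4 = true := by decide +kernel
theorem zr8 : chk (schR [[16], [18]] zus5 zF6) = true := by decide +kernel
theorem zb11 : schB D [[11], [14]] [[16], [18]] zus9 zF10 5 = true := by decide +kernel
theorem zr12 : chk (schR [[11], [14]] zus9 zF10) = true := by decide +kernel
theorem zb15 : schB D [[10], [12]] [[11], [14]] zus13 zF14 6 = true := by decide +kernel
theorem zr16 : chk (schR [[10], [12]] zus13 zF14) = true := by decide +kernel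
theorem zb19 : schB D [[8], [7]] [[10], [12]] zus17 zF18 7 = true := by decide +kernel
theorem zr20 : chk (schR [[8], [7]] zus17 zF18) = true := by decide +kernel
theorem zb23 : schB D [[4], [6]] [[8], [7]] zus21 zF22 8 = true := by decide +kernel
theorem zr24 : chk (schR [[4], [6]] zus21 zF22) = true := by decide +kernel
theorem zb27 : schB D [[0], [2]] [[4], [6]] zus25 zF26 9 = true := by decide +kernel
theorem zr28 : chk (schR [[0], [2]] zus25 zF26) = true := by decide +kernel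
theorem zk29 : allL (keepB P.n P.N) ns0 = true := by decide +kernel
theorem ze30 : extB ns0 ns 2 ws [] = true := by decide +kernel
theorem zn31 : P.netsB ns (mkDefs ws 2) = true := by decide +kernel

section
variable {G X : Type*} [Group G] [MulAction G X] {e : ℕ → X} {gs : List G}

theorem keep0 : allL (keepB P.n P.N) ns0 = true := zk29

theorem len {k} (c : Ctx P e gs ns0 [] k) : gs.length = 2 := c.len ze30

theorem ctx0 {k} (c : Ctx P e gs ns0 [] k) : Ctx P e (ext gs ws) ns D chk0 :=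
  c.ext rfl ze30 zn31

theorem ctx {k} (c : Ctx P e gs ns0 [] k) {H : Subgroup G} (hF : Faithful e P.n H) (hH : ∀ g ∈ gs, g ∈ H) :
    Ctx P e (ext gs ws) ns D chk :=
  (ctx0 c).withB hF (mem_of_mem_ext hH _)

instance instNe : NeZero P.n := ⟨by decide⟩
noncomputable def gs0 : List (Equiv.Perm (Fin P.n)) := permsOf P.n P.N ns0
noncomputable def gs1 : List (Equiv.Perm (Fin P.n)) := ext gs0 ws
theorem c1 : Ctx P (eF P.n) gs1 ns D chk :=
  ctx (ctx_permsOf hP keep0) (faithful_eF _) fun _ _ => trivial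

theorem G_c : P.chainB ns D G_vs [[0], [2]] = true :=
  zc0

theorem G_o : prodL G_vs 1 = 181440 := by decide +kernel

theorem G_lb (c : Ctx P e gs ns D chk) :
    LB (subW gs [[0], [2]]) 181440 :=
  c.lb G_c G_o

theorem G_u6 (c : Ctx P e gs ns D chk) :
    UB (subW gs [[18]]) 3 :=
  (c.pc_step (UB.nil gs) (Rels.nil _)
    (c.rels _ zr4) zb3).le (by decide)

theorem G_u5 (c : Ctx P e gs ns D chk) :
    UB (subW gs [[16], [18]]) 12 :=
  (c.sch_step (G_u6 c)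
    (c.rels _ zr8) zb7).le (by decide)

theorem G_u4 (c : Ctx P e gs ns D chk) :
    UB (subW gs [[11], [14]]) 60 :=
  (c.sch_step (G_u5 c)
    (c.rels _ zr12) zb11).le (by decide)

theorem G_u3 (c : Ctx P e gs ns D chk) :
    UB (subW gs [[10], [12]]) 360 :=
  (c.sch_step (G_u4 c)
    (c.rels _ zr16) zb15).le (by decide)

theorem G_u2 (c : Ctx P e gs ns D chk) :
    UB (subW gs [[8], [7]]) 2520 :=
  (c.sch_step (G_u3 c)
    (c.rels _ zr20) zb19).le (by decide)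

theorem G_u1 (c : Ctx P e gs ns D chk) :
    UB (subW gs [[4], [6]]) 20160 :=
  (c.sch_step (G_u2 c)
    (c.rels _ zr24) zb23).le (by decide)

theorem G_u0 (c : Ctx P e gs ns D chk) :
    UB (subW gs [[0], [2]]) 181440 :=
  (c.sch_step (G_u1 c)
    (c.rels _ zr28) zb27).le (by decide)

theorem G_ub (c : Ctx P e gs ns D chk) :
    UB (subW gs [[0], [2]]) 181440 :=
  (G_u0 c)

theorem card : Nat.card (subW gs1 [[0], [2]]) = 181440 := (G_ub c1).card_eq (G_lb c1)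
theorem eq : (subW gs1 [[0], [2]]) = alternatingGroup (Fin 9) := eq_alternatingGroup_of_card card (by decide)
theorem iso : Nonempty ((subW gs1 [[0], [2]]) ≃* alternatingGroup (Fin 9)) := ⟨MulEquiv.subgroupCongr eq⟩

theorem simple : IsSimpleGroup (subW gs1 [[0], [2]]) :=
  have := alternatingGroup.isSimpleGroup (α := Fin 9) (by simp)
  iso.some.isSimpleGroup

theorem ub : UB (subW gs1 [[0], [2]]) 181440 := UB.of_card card (by norm_num)

end
end CL.Std.A9

namespace CL.Std.S10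
open CL.PG

def P : Par := ⟨10, 10, 4, 2⟩
theorem hP : P.Ok := by decide
noncomputable def a0 : Net := (.cons 1 (nat_lit 0x1)
 .nil)
noncomputable def a1 : Net := (.cons 5 (nat_lit 0x1)
 (.cons 1 (nat_lit 0x21)
 (.cons 1 (nat_lit 0x42)
 (.cons 1 (nat_lit 0x84)
 (.cons 1 (nat_lit 0x108)
 .nil)))))
noncomputable def a2 : Net := (.cons 5 (nat_lit 0x10)
 (.cons 1 (nat_lit 0xa)
 (.cons 1 (nat_lit 0x4)
 (.cons 1 (nat_lit 0xa)
 (.cons 5 (nat_lit 0x10)
 .nil)))))
noncomputable def a3 : Net := (.cons 1 (nat_lit 0x40)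
 (.cons 1 (nat_lit 0xa4)
 (.cons 1 (nat_lit 0x14a)
 (.cons 1 (nat_lit 0x84)
 (.cons 5 (nat_lit 0x18)
 .nil)))))
noncomputable def a4 : Net := (.cons 1 (nat_lit 0xa0)
 .nil)
noncomputable def a5 : Net := (.cons 1 (nat_lit 0x40)
 (.cons 1 (nat_lit 0x84)
 (.cons 1 (nat_lit 0x148)
 (.cons 5 (nat_lit 0x10)
 .nil))))
noncomputable def a6 : Net := (.cons 1 (nat_lit 0x40)
 (.cons 1 (nat_lit 0x80)
 (.cons 1 (nat_lit 0x148)
 (.cons 1 (nat_lit 0x80)
 (.cons 5 (nat_lit 0x10)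
 .nil)))))
noncomputable def a7 : Net := (.cons 5 (nat_lit 0x10)
 (.cons 1 (nat_lit 0x80)
 (.cons 1 (nat_lit 0x140)
 (.cons 1 (nat_lit 0xa0)
 (.cons 1 (nat_lit 0x140)
 (.cons 1 (nat_lit 0x20)
 (.cons 5 (nat_lit 0x10)
 .nil)))))))
noncomputable def a8 : Net := (.cons 5 (nat_lit 0x10)
 (.cons 1 (nat_lit 0x80)
 (.cons 1 (nat_lit 0x140)
 (.cons 1 (nat_lit 0xa0)
 (.cons 1 (nat_lit 0x40)
 .nil)))))
noncomputable def a9 : Net := (.cons 5 (nat_lit 0x18)
 (.cons 1 (nat_lit 0x100)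
 (.cons 1 (nat_lit 0x80)
 (.cons 1 (nat_lit 0x148)
 (.cons 5 (nat_lit 0x18)
 .nil)))))
noncomputable def a10 : Net := (.cons 1 (nat_lit 0x100)
 .nil)
noncomputable def a11 : Net := (.cons 1 (nat_lit 0xa0)
 (.cons 1 (nat_lit 0x140)
 (.cons 1 (nat_lit 0x80)
 .nil)))
noncomputable def a12 : Net := (.cons 1 (nat_lit 0x80)
 (.cons 1 (nat_lit 0x40)
 .nil))
noncomputable def a13 : Net := (.cons 1 (nat_lit 0x100)
 (.cons 1 (nat_lit 0x80)
 .nil))
noncomputable def a14 : Net := (.cons 1 (nat_lit 0x80)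
 (.cons 1 (nat_lit 0x100)
 (.cons 1 (nat_lit 0x80)
 .nil)))
noncomputable def a15 : Net := (.cons 1 (nat_lit 0x100)
 .nil)
noncomputable def a16 : Net := (.cons 5 (nat_lit 0x10)
 .nil)
noncomputable def a17 : Net := (.cons 5 (nat_lit 0x6)
 (.cons 1 (nat_lit 0x20)
 (.cons 1 (nat_lit 0x40)
 (.cons 1 (nat_lit 0x21)
 (.cons 5 (nat_lit 0x6)
 .nil)))))
noncomputable def a18 : Net := (.cons 5 (nat_lit 0x8)
 .nil)
noncomputable def a19 : Net := (.cons 5 (nat_lit 0x4)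
 (.cons 1 (nat_lit 0x20)
 (.cons 1 (nat_lit 0x40)
 (.cons 1 (nat_lit 0x20)
 (.cons 5 (nat_lit 0x4)
 .nil)))))
noncomputable def a20 : Net := (.cons 5 (nat_lit 0x15)
 (.cons 1 (nat_lit 0x20)
 (.cons 1 (nat_lit 0x42)
 (.cons 5 (nat_lit 0x4)
 .nil))))
noncomputable def a21 : Net := (.cons 5 (nat_lit 0x1f)
 (.cons 1 (nat_lit 0x81)
 (.cons 1 (nat_lit 0x14a)
 (.cons 1 (nat_lit 0xa5)
 (.cons 1 (nat_lit 0x4a)
 (.cons 1 (nat_lit 0x85)
 (.cons 5 (nat_lit 0x18)
 .nil)))))))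
noncomputable def a22 : Net := (.cons 5 (nat_lit 0x1f)
 (.cons 1 (nat_lit 0xa0)
 (.cons 1 (nat_lit 0x14a)
 (.cons 1 (nat_lit 0xa5)
 (.cons 1 (nat_lit 0x14a)
 (.cons 1 (nat_lit 0x5)
 (.cons 5 (nat_lit 0x8)
 .nil)))))))
noncomputable def a23 : Net := (.cons 5 (nat_lit 0x18)
 (.cons 1 (nat_lit 0xa0)
 (.cons 1 (nat_lit 0x148)
 (.cons 1 (nat_lit 0xa5)
 (.cons 1 (nat_lit 0x14a)
 (.cons 1 (nat_lit 0x85)
 (.cons 5 (nat_lit 0x18)
 .nil)))))))
noncomputable def a24 : Net := (.cons 5 (nat_lit 0x10)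
 (.cons 1 (nat_lit 0xa0)
 (.cons 1 (nat_lit 0x140)
 (.cons 1 (nat_lit 0xa5)
 (.cons 1 (nat_lit 0x14a)
 (.cons 1 (nat_lit 0xa5)
 (.cons 5 (nat_lit 0x10)
 .nil)))))))
noncomputable def a25 : Net := (.cons 5 (nat_lit 0x4)
 (.cons 1 (nat_lit 0x20)
 (.cons 1 (nat_lit 0x40)
 (.cons 1 (nat_lit 0x20)
 (.cons 5 (nat_lit 0x4)
 .nil)))))
noncomputable def a26 : Net := (.cons 5 (nat_lit 0x1c)
 (.cons 1 (nat_lit 0x20)
 (.cons 1 (nat_lit 0x148)
 (.cons 1 (nat_lit 0x20)
 (.cons 5 (nat_lit 0x4)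
 .nil)))))
noncomputable def a27 : Net := (.cons 5 (nat_lit 0x18)
 (.cons 1 (nat_lit 0x108)
 .nil))
noncomputable def a28 : Net := (.cons 5 (nat_lit 0x10)
 .nil)
noncomputable def a29 : Net := (.cons 5 (nat_lit 0x1f)
 (.cons 1 (nat_lit 0xa0)
 (.cons 1 (nat_lit 0x14a)
 (.cons 1 (nat_lit 0xa5)
 (.cons 1 (nat_lit 0x14a)
 (.cons 1 (nat_lit 0x5)
 (.cons 5 (nat_lit 0x8)
 .nil)))))))
noncomputable def a30 : Net := (.cons 5 (nat_lit 0x1f)
 (.cons 1 (nat_lit 0x81)
 (.cons 1 (nat_lit 0x14a)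
 (.cons 1 (nat_lit 0xa5)
 (.cons 1 (nat_lit 0x4a)
 (.cons 1 (nat_lit 0x85)
 (.cons 5 (nat_lit 0x18)
 .nil)))))))
noncomputable def a31 : Net := (.cons 5 (nat_lit 0xc)
 (.cons 1 (nat_lit 0x20)
 (.cons 1 (nat_lit 0x14a)
 (.cons 1 (nat_lit 0x20)
 (.cons 5 (nat_lit 0x4)
 .nil)))))
noncomputable def a32 : Net := (.cons 5 (nat_lit 0x8)
 .nil)
noncomputable def a33 : Net := (.cons 5 (nat_lit 0x2)
 (.cons 1 (nat_lit 0x1)
 (.cons 5 (nat_lit 0x2)
 .nil)))
noncomputable def a34 : Net := (.cons 5 (nat_lit 0x4)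
 (.cons 1 (nat_lit 0x20)
 (.cons 1 (nat_lit 0x40)
 (.cons 1 (nat_lit 0x20)
 (.cons 5 (nat_lit 0x4)
 .nil)))))
noncomputable def a35 : Net := (.cons 5 (nat_lit 0x8)
 .nil)
noncomputable def a36 : Net := (.cons 5 (nat_lit 0xc)
 (.cons 1 (nat_lit 0x10a)
 (.cons 5 (nat_lit 0x4)
 .nil)))
noncomputable def a37 : Net := (.cons 5 (nat_lit 0x4)
 (.cons 1 (nat_lit 0x20)
 (.cons 1 (nat_lit 0x40)
 (.cons 1 (nat_lit 0x20)
 (.cons 5 (nat_lit 0x4)
 .nil)))))
noncomputable def a38 : Net := (.cons 5 (nat_lit 0x4)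
 (.cons 1 (nat_lit 0x20)
 (.cons 1 (nat_lit 0x42)
 (.cons 1 (nat_lit 0x20)
 (.cons 5 (nat_lit 0x4)
 .nil)))))
noncomputable def a39 : Net := (.cons 5 (nat_lit 0x4)
 (.cons 1 (nat_lit 0x2)
 (.cons 5 (nat_lit 0x4)
 .nil)))
noncomputable def a40 : Net := (.cons 5 (nat_lit 0x4)
 (.cons 1 (nat_lit 0x20)
 (.cons 1 (nat_lit 0x42)
 (.cons 1 (nat_lit 0x20)
 (.cons 5 (nat_lit 0x4)
 .nil)))))
noncomputable def a41 : Net := (.cons 5 (nat_lit 0x14)
 (.cons 1 (nat_lit 0x20)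
 (.cons 1 (nat_lit 0x40)
 (.cons 1 (nat_lit 0x20)
 (.cons 5 (nat_lit 0x4)
 .nil)))))
noncomputable def a42 : Net := (.cons 5 (nat_lit 0x4)
 (.cons 1 (nat_lit 0x20)
 (.cons 1 (nat_lit 0x40)
 (.cons 1 (nat_lit 0x20)
 (.cons 5 (nat_lit 0x4)
 .nil)))))
noncomputable def a43 : Net := (.cons 5 (nat_lit 0x14)
 (.cons 1 (nat_lit 0x20)
 (.cons 1 (nat_lit 0x40)
 (.cons 1 (nat_lit 0x20)
 (.cons 5 (nat_lit 0x4)
 .nil)))))
noncomputable def a44 : Net := (.cons 5 (nat_lit 0x10)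
 .nil)
noncomputable def a45 : Net := (.cons 5 (nat_lit 0x2)
 (.cons 1 (nat_lit 0x20)
 (.cons 1 (nat_lit 0x40)
 (.cons 5 (nat_lit 0x2)
 .nil))))
noncomputable def a46 : Net := (.cons 5 (nat_lit 0x14)
 (.cons 1 (nat_lit 0x40)
 (.cons 1 (nat_lit 0x80)
 (.cons 1 (nat_lit 0x108)
 (.cons 1 (nat_lit 0x80)
 (.cons 5 (nat_lit 0x1c)
 .nil))))))
noncomputable def a47 : Net := (.cons 5 (nat_lit 0x8)
 (.cons 1 (nat_lit 0x100)
 .nil))
noncomputable def a48 : Net := (.cons 5 (nat_lit 0x10)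
 (.cons 1 (nat_lit 0xa0)
 (.cons 1 (nat_lit 0x140)
 (.cons 1 (nat_lit 0xa0)
 (.cons 1 (nat_lit 0x142)
 (.cons 1 (nat_lit 0x24)
 .nil))))))
noncomputable def a49 : Net := (.cons 5 (nat_lit 0x14)
 (.cons 1 (nat_lit 0x100)
 (.cons 1 (nat_lit 0x80)
 (.cons 1 (nat_lit 0x140)
 (.cons 5 (nat_lit 0x14)
 .nil)))))
noncomputable def a50 : Net := (.cons 5 (nat_lit 0x1b)
 (.cons 1 (nat_lit 0x2)
 (.cons 1 (nat_lit 0xa4)
 (.cons 1 (nat_lit 0x148)
 (.cons 1 (nat_lit 0xa1)
 (.cons 5 (nat_lit 0x14)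
 .nil))))))
noncomputable def a51 : Net := (.cons 5 (nat_lit 0x2)
 (.cons 1 (nat_lit 0x140)
 (.cons 1 (nat_lit 0x84)
 (.cons 1 (nat_lit 0x142)
 (.cons 1 (nat_lit 0x24)
 .nil)))))
noncomputable def a52 : Net := (.cons 5 (nat_lit 0x18)
 (.cons 1 (nat_lit 0x20)
 (.cons 1 (nat_lit 0x40)
 (.cons 1 (nat_lit 0xa0)
 (.cons 1 (nat_lit 0x148)
 (.cons 1 (nat_lit 0x80)
 .nil))))))
noncomputable def ns0 : List Net := [a0, a1]
noncomputable def ws : List (List ℕ) :=
  [W (nat_lit 0x100c0101002),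
  W (nat_lit 0xc0100c02),
  W (nat_lit 0x1407014070180802006),
  W (nat_lit 0x5020080140801408),
  W (nat_lit 0x300a0300902c0a02c0b),
  W (nat_lit 0x2c0903009),
  W (nat_lit 0x100340f0380e),
  W (nat_lit 0x38100380f03c0e),
  W (nat_lit 0x1405014),
  W (nat_lit 0x1205014),
  W (nat_lit 0x60150601805817),
  W (nat_lit 0x541a05819),
  W (nat_lit 0x19064150681a),
  W (nat_lit 0x741c),
  W (nat_lit 0x70190581706811),
  W (nat_lit 0x1f070170680e02c0b0400701c0102008),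
  W (nat_lit 0x701905c1a0441303813),
  W (nat_lit 0x7c1c05c1a0380b02c10),
  W (nat_lit 0x7c1b064160601104c0e0300c01c0101c07),
  W (nat_lit 0x7019058170481802004),
  W (nat_lit 0x6417068130341002004),
  W (nat_lit 0x2708c26084260902e09c290a021094230942a08c2a),
  W (nat_lit 0x2708c2b0b8250b82e0982b0b82509026090270982a0a82a0ac25),
  W (nat_lit 0xb4290b429094290b0230a8280a42e0982d0b02a),
  W (nat_lit 0x2f0d0320c030),
  W (nat_lit 0xc8300cc2f0cc2f),
  W (nat_lit 0x320d032),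
  W (nat_lit 0x2f0e429),
  W (nat_lit 0x390dc2f0e429),
  W (nat_lit 0x390dc390dc2f0bc29),
  W (nat_lit 0x370e437),
  W (nat_lit 0xe4370c031),
  W (nat_lit 0xdc35),
  W (nat_lit 0x2e0b02708c2d09c2d0842e0a0220b82b088290882b098280a42d0b024),
  W (nat_lit 0x260b424088220942b0a029088240a8250942c0b82a0b02c09c2608424),
  W (nat_lit 0x942508c2a088250ac2b08c2a0a02d0ac2d0b024),
  W (nat_lit 0x9c2d088280882d08c2d094230a42109424098280b0220a429),
  W (nat_lit 0x1284c1344b11c4911c4b12449),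
  W (nat_lit 0x47134491244d1284e12848),
  W (nat_lit 0x1284b1204c1244d128471284c11c4d12048),
  W (nat_lit 0x14450),
  W (nat_lit 0x5014c50),
  W (nat_lit 0x15858),
  W (nat_lit 0x7c1b06418054110341002c0b01408),
  W (nat_lit 0x1b0641605c1a0440d02c0b),
  W (nat_lit 0x1f0701905c1a0441303813),
  W (nat_lit 0x7c1a05c110380c01407),
  W (nat_lit 0x17c5e),
  W (nat_lit 0x7c1b06818054110340b0141200403),
  W (nat_lit 0x6c1905817068130340d03007),
  W (nat_lit 0x7c1b0641804c0e)]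
noncomputable def ns : List Net := [a0, a1, a2, a3, a4, a5, a6, a7, a8, a9, a10, a11, a12, a13, a14, a15, a16, a17, a18, a19, a20, a21, a22, a23, a24, a25, a26, a27, a28, a29, a30, a31, a32, a33, a34, a35, a36, a37, a38, a39, a40, a41, a42, a43, a44, a45, a46, a47, a48, a49, a50, a51, a52]
noncomputable def D : List (ℕ × List ℕ) := app [] (mkDefs ws 2)
noncomputable def chk : List (List ℕ × List ℕ) → Bool := P.relsB ns
noncomputable def G_v0 : Lev :=
  ⟨0, 10, sg (W (nat_lit 0x300c0300c0300c0300c01)), [[4], [6]], 0, 2⟩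
noncomputable def G_v1 : Lev :=
  ⟨1, 9, sg (W (nat_lit 0x701c0701c05)), [[8], [10]], 2, 2⟩
noncomputable def G_v2 : Lev :=
  ⟨2, 8, sg (W (nat_lit 0xb02c0902c0902c0b)), [[12], [14]], 4, 2⟩
noncomputable def G_v3 : Lev :=
  ⟨3, 7, sg (W (nat_lit 0x3c0d0340d0340d)), [[16], [18]], 6, 2⟩
noncomputable def G_v4 : Lev :=
  ⟨4, 6, sg (W (nat_lit 0x441304411)), [[20], [22]], 8, 2⟩
noncomputable def G_v5 : Lev :=
  ⟨5, 5, sg (W (nat_lit 0x1705417)), [[21], [24]], 10, 1⟩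
noncomputable def G_v6 : Lev :=
  ⟨6, 4, sg (W (nat_lit 0x1606419)), [[26], [28]], 11, 2⟩
noncomputable def G_v7 : Lev :=
  ⟨7, 3, sg (W (nat_lit 0x6c1b)), [[30]], 13, 1⟩
noncomputable def G_v8 : Lev :=
  ⟨8, 2, sg [30], [], 14, 0⟩
noncomputable def G_vs9 : List Lev :=
  []
noncomputable def G_vs8 : List Lev :=
  G_v8 :: G_vs9
noncomputable def G_vs7 : List Lev :=
  G_v7 :: G_vs8
noncomputable def G_vs6 : List Lev :=
  G_v6 :: G_vs7
noncomputable def G_vs5 : List Lev :=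
  G_v5 :: G_vs6
noncomputable def G_vs4 : List Lev :=
  G_v4 :: G_vs5
noncomputable def G_vs3 : List Lev :=
  G_v3 :: G_vs4
noncomputable def G_vs2 : List Lev :=
  G_v2 :: G_vs3
noncomputable def G_vs1 : List Lev :=
  G_v1 :: G_vs2
noncomputable def G_vs : List Lev :=
  G_v0 :: G_vs1
noncomputable def pc2_P_ps : List PcG :=
  [⟨[58], 2, W (nat_lit 0x11441), [W (nat_lit 0x39114290fc3d), W (nat_lit 0x3910429), W (nat_lit 0x39114431043f), [68], [56], [64], [66]]⟩,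
  ⟨[60], 2, W (nat_lit 0xe44510c410a43f), [[40], W (nat_lit 0x39114431043f), [68], [64], [56], [66]]⟩,
  ⟨[62], 2, W (nat_lit 0xe441), [W (nat_lit 0x391144310429), [56], [66], [68], [64]]⟩,
  ⟨[40], 2, W (nat_lit 0x11443), [[64], [68], [66], [56]]⟩,
  ⟨[64], 2, [], [[66], [68], [56]]⟩,
  ⟨[66], 2, [], [[68], [56]]⟩,
  ⟨[68], 2, [], [[56]]⟩,
  ⟨[56], 2, [], []⟩]
noncomputable def zE1 : List (ℕ × List ℕ) :=
  [(32, [56]),
  (34, W (nat_lit 0x11443)),
  (36, [64]),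
  (38, [68]),
  (42, [60]),
  (44, [58])]
noncomputable def pc2_P_v0 : Lev :=
  ⟨1, 2, sg [40], [[46], [48], [50]], 21, 3⟩
noncomputable def pc2_P_v1 : Lev :=
  ⟨0, 8, sg (W (nat_lit 0xbc2f0c42f)), [[52], [54], [56]], 24, 3⟩
noncomputable def pc2_P_v2 : Lev :=
  ⟨2, 2, sg [52], [[54], [56]], 27, 0⟩
noncomputable def pc2_P_v3 : Lev :=
  ⟨3, 4, sg (W (nat_lit 0x370e437)), [[56]], 27, 0⟩
noncomputable def pc2_P_v4 : Lev :=
  ⟨4, 2, sg [56], [], 27, 0⟩
noncomputable def pc2_P_vs5 : List Lev :=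
  []
noncomputable def pc2_P_vs4 : List Lev :=
  pc2_P_v4 :: pc2_P_vs5
noncomputable def pc2_P_vs3 : List Lev :=
  pc2_P_v3 :: pc2_P_vs4
noncomputable def pc2_P_vs2 : List Lev :=
  pc2_P_v2 :: pc2_P_vs3
noncomputable def pc2_P_vs1 : List Lev :=
  pc2_P_v1 :: pc2_P_vs2
noncomputable def pc2_P_vs : List Lev :=
  pc2_P_v0 :: pc2_P_vs1
noncomputable def pc2_s_ms : List ℕ :=
  [(nat_lit 0x81),
  (nat_lit 0x2df),
  (nat_lit 0x220)]
noncomputable def pc2_sG_v0 : Lev :=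
  ⟨0, 8, sg (W (nat_lit 0x2b0a423)), [[70], [72], [74], [76]], 33, 4⟩
noncomputable def pc2_sG_v1 : Lev :=
  ⟨8, 4, sg (W (nat_lit 0x12447)), [[78], [80], [82]], 37, 3⟩
noncomputable def pc2_sG_v2 : Lev :=
  ⟨1, 2, sg [78], [[84], [86]], 40, 2⟩
noncomputable def pc2_sG_v3 : Lev :=
  ⟨2, 2, sg [84], [[88]], 42, 1⟩
noncomputable def pc2_sG_v4 : Lev :=
  ⟨4, 2, sg [88], [], 43, 0⟩
noncomputable def pc2_sG_vs5 : List Lev :=
  []
noncomputable def pc2_sG_vs4 : List Lev :=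
  pc2_sG_v4 :: pc2_sG_vs5
noncomputable def pc2_sG_vs3 : List Lev :=
  pc2_sG_v3 :: pc2_sG_vs4
noncomputable def pc2_sG_vs2 : List Lev :=
  pc2_sG_v2 :: pc2_sG_vs3
noncomputable def pc2_sG_vs1 : List Lev :=
  pc2_sG_v1 :: pc2_sG_vs2
noncomputable def pc2_sG_vs : List Lev :=
  pc2_sG_v0 :: pc2_sG_vs1
noncomputable def pc2_s_x : List (ℕ × List ℕ) :=
  [((nat_lit 0), [(nat_lit 0x37d)]),
  ((nat_lit 0), [(nat_lit 0x318)]),
  ((nat_lit 0), [(nat_lit 0x82)]),
  ((nat_lit 0), [(nat_lit 0x24)]),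
  ((nat_lit 0), [(nat_lit 0x210)])]
noncomputable def pc2_s_G : Gl :=
  ⟨P, ns, (app D []), [], [], [], memM (app D []) [], true⟩
noncomputable def pc2_s_s : St :=
  ⟨(mkS P.n pc2_sG_vs pc2_s_x), [[32], [34], [36], [38], [40], [42], [44]], [], diag pc2_s_ms, memM (app D []) [], []⟩
noncomputable def zt8 : ST :=
  (.orb 0 (.and 1 0 (.br 0 [] [] [(0, [])] (.cons (.orb 0 (.dif 0 5 (.br 0 [] [] [(8, [])] (.cons (.orb 0 (.dif 0 7 (.br 0 [] [] [(1, [])] (.cons (.orb 0 (.and 0 11 (.br 0 [] [] [(2, [])] (.cons (.orb 0 (.dif 0 15 (.br 0 [] [] [(4, [])] (.cons .fnd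
 .nil))))
 .nil))))
 .nil))))
 .nil))))
 .nil))))
noncomputable def zus11 : List (List ℕ × ℕ) :=
  [(W (nat_lit 0x100200c01), (nat_lit 0x82)),
  (W (nat_lit 0x80300c02), (nat_lit 0x37d)),
  (W (nat_lit 0x40100c03), (nat_lit 0x82))]
noncomputable def zts13 : List (List ℕ) :=
  [W (nat_lit 0x70190581706811),
  W (nat_lit 0x1f070170680e02c0b0400701c0102008),
  W (nat_lit 0x701905c1a0441303813),
  W (nat_lit 0x7c1c05c1a0380b02c10),
  W (nat_lit 0x7c1b064160601104c0e0300c01c0101c07),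
  W (nat_lit 0x7019058170481802004),
  W (nat_lit 0x6417068130341002004)]
noncomputable def pc3_P_ps : List PcG :=
  [⟨[96], 3, [], [[98], [90], [94]]⟩,
  ⟨[94], 3, [], [[98], [90]]⟩,
  ⟨[98], 3, [], [[90]]⟩,
  ⟨[90], 3, [], []⟩]
noncomputable def zE16 : List (ℕ × List ℕ) :=
  [(92, W (nat_lit 0x6318c5f))]
noncomputable def pc3_P_v0 : Lev :=
  ⟨1, 9, sg (W (nat_lit 0x5b174611845b)), [[92], [94]], 47, 0⟩
noncomputable def pc3_P_v1 : Lev :=
  ⟨2, 3, sg (W (nat_lit 0x1745d)), [[94]], 47, 0⟩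
noncomputable def pc3_P_v2 : Lev :=
  ⟨3, 3, sg (W (nat_lit 0x17c5f)), [], 47, 0⟩
noncomputable def pc3_P_vs3 : List Lev :=
  []
noncomputable def pc3_P_vs2 : List Lev :=
  pc3_P_v2 :: pc3_P_vs3
noncomputable def pc3_P_vs1 : List Lev :=
  pc3_P_v1 :: pc3_P_vs2
noncomputable def pc3_P_vs : List Lev :=
  pc3_P_v0 :: pc3_P_vs1
noncomputable def pc3_s_ms : List ℕ :=
  [(nat_lit 0x100),
  (nat_lit 0x80),
  (nat_lit 0x40)]
noncomputable def pc3_sG_v0 : Lev :=
  ⟨6, 9, sg (W (nat_lit 0x5b174611845d)), [[90], [94]], 48, 0⟩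
noncomputable def pc3_sG_v1 : Lev :=
  ⟨7, 3, sg (W (nat_lit 0x16c5b)), [[94]], 48, 0⟩
noncomputable def pc3_sG_v2 : Lev :=
  ⟨8, 3, sg (W (nat_lit 0x17c5f)), [], 48, 0⟩
noncomputable def pc3_sG_vs3 : List Lev :=
  []
noncomputable def pc3_sG_vs2 : List Lev :=
  pc3_sG_v2 :: pc3_sG_vs3
noncomputable def pc3_sG_vs1 : List Lev :=
  pc3_sG_v1 :: pc3_sG_vs2
noncomputable def pc3_sG_vs : List Lev :=
  pc3_sG_v0 :: pc3_sG_vs1
noncomputable def pc3_s_x : List (ℕ × List ℕ) :=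
  [((nat_lit 0), []),
  ((nat_lit 0), []),
  ((nat_lit 0), [])]
noncomputable def pc3_s_G : Gl :=
  ⟨P, ns, (app D []), [], [], [], memM (app D []) [], true⟩
noncomputable def pc3_s_s : St :=
  ⟨(mkS P.n pc3_sG_vs pc3_s_x), [[90], [92], [94], [96]], [], diag pc3_s_ms, memM (app D []) [], []⟩
noncomputable def zt23 : ST :=
  (.br 2 [] [] [(6, [])] (.cons (.br 2 [] [] [(7, [])] (.cons (.br 2 [] [] [(8, [])] (.cons .fnd
 .nil))
 .nil))
 .nil))
noncomputable def zus26 : List (List ℕ × ℕ) :=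
  [(W (nat_lit 0x40100c03), (nat_lit 0x1)),
  (W (nat_lit 0xc0200c0300401), (nat_lit 0x1)),
  (W (nat_lit 0x30040300c03), (nat_lit 0x1))]
noncomputable def zts28 : List (List ℕ) :=
  [W (nat_lit 0x7c1b06418054110341002c0b01408),
  W (nat_lit 0x1b0641605c1a0440d02c0b),
  W (nat_lit 0x1f0701905c1a0441303813),
  W (nat_lit 0x7c1a05c110380c01407)]
noncomputable def pc5_P_ps : List PcG :=
  [⟨[102], 5, [], [[100]]⟩,
  ⟨[100], 5, [], []⟩]
noncomputable def pc5_P_v0 : Lev :=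
  ⟨0, 5, sg (W (nat_lit 0x1946519465)), [[102]], 50, 0⟩
noncomputable def pc5_P_v1 : Lev :=
  ⟨1, 5, sg (W (nat_lit 0x19c6719c67)), [], 50, 0⟩
noncomputable def pc5_P_vs2 : List Lev :=
  []
noncomputable def pc5_P_vs1 : List Lev :=
  pc5_P_v1 :: pc5_P_vs2
noncomputable def pc5_P_vs : List Lev :=
  pc5_P_v0 :: pc5_P_vs1
noncomputable def pc5_s_ms : List ℕ :=
  [(nat_lit 0x354)]
noncomputable def pc5_sG_v0 : Lev :=
  ⟨0, 5, sg (W (nat_lit 0x1946519465)), [[102]], 50, 0⟩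
noncomputable def pc5_sG_v1 : Lev :=
  ⟨6, 5, sg (W (nat_lit 0x19c6719c67)), [], 50, 0⟩
noncomputable def pc5_sG_vs2 : List Lev :=
  []
noncomputable def pc5_sG_vs1 : List Lev :=
  pc5_sG_v1 :: pc5_sG_vs2
noncomputable def pc5_sG_vs : List Lev :=
  pc5_sG_v0 :: pc5_sG_vs1
noncomputable def pc5_s_x : List (ℕ × List ℕ) :=
  [((nat_lit 0x4000000000000), [(nat_lit 0x195)]),
  ((nat_lit 0x8000000000000), [(nat_lit 0x10)]),
  ((nat_lit 0), [(nat_lit 0x2)])]
noncomputable def pc5_s_G : Gl :=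
  ⟨P, ns, (app D []), [], [], [], memM (app D []) [], true⟩
noncomputable def pc5_s_s : St :=
  ⟨(mkS P.n pc5_sG_vs pc5_s_x), [[100], [102]], [], diag pc5_s_ms, memM (app D []) [], []⟩
noncomputable def zt36 : ST :=
  (.orb 0 (.dif 0 1 (.br 0 [] [] [(7, W (nat_lit 0x19866)), (0, [])] (.cons (.orb 0 (.and 2 0 (.mis 0)))
 (.cons (.dif 3 2 (.br 0 [] [] [(9, W (nat_lit 0x19c67)), (6, [])] (.cons (.orb 0 (.dif 0 6 (.mis 0)))
 (.cons .fnd
 .nil))))
 .nil)))))
noncomputable def zus39 : List (List ℕ × ℕ) :=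
  [(W (nat_lit 0x40100200804), (nat_lit 0x26a))]
noncomputable def zts41 : List (List ℕ) :=
  [W (nat_lit 0x7c1b06818054110340b0141200403),
  W (nat_lit 0x6c1905817068130340d03007)]
noncomputable def pc7_P_ps : List PcG :=
  [⟨[104], 7, [], []⟩]
noncomputable def pc7_P_v0 : Lev :=
  ⟨3, 7, sg (W (nat_lit 0x1a4691a4691a469)), [], 51, 0⟩
noncomputable def pc7_P_vs1 : List Lev :=
  []
noncomputable def pc7_P_vs : List Lev :=
  pc7_P_v0 :: pc7_P_vs1
noncomputable def pc7_s_ms : List ℕ :=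
  [(nat_lit 0x23f)]
noncomputable def pc7_sG_v0 : Lev :=
  ⟨6, 7, sg (W (nat_lit 0x1a4691a4691a469)), [], 51, 0⟩
noncomputable def pc7_sG_vs1 : List Lev :=
  []
noncomputable def pc7_sG_vs : List Lev :=
  pc7_sG_v0 :: pc7_sG_vs1
noncomputable def pc7_s_x : List (ℕ × List ℕ) :=
  [((nat_lit 0x10000000000000), [(nat_lit 0x3f8)]),
  ((nat_lit 0), [(nat_lit 0x8),
   (nat_lit 0x80)])]
noncomputable def pc7_s_G : Gl :=
  ⟨P, ns, (app D []), [], [], [], memM (app D []) [], true⟩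
noncomputable def pc7_s_s : St :=
  ⟨(mkS P.n pc7_sG_vs pc7_s_x), [[104]], [], diag pc7_s_ms, memM (app D []) [], []⟩
noncomputable def zt49 : ST :=
  (.orb 0 (.dif 0 1 (.br 0 [] [] [(7, W (nat_lit 0x6a1a86a)), (8, [105]), (6, [])] (.cons (.orb 1 (.and 0 4 (.mis 0)))
 (.cons (.orb 0 (.and 0 4 (.mis 0)))
 (.cons .fnd
 .nil))))))
noncomputable def zus52 : List (List ℕ × ℕ) :=
  [(W (nat_lit 0xc0300c0200c01), (nat_lit 0x3f8))]
noncomputable def zts54 : List (List ℕ) :=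
  [W (nat_lit 0x7c1b0641804c0e)]

theorem zc0 : P.chainB ns D G_vs [[0], [2]] = true := by decide +kernel
theorem zr2 : chk (pcsR pc2_P_ps []) = true := by decide +kernel
theorem zr3 : chk (defRels zE1) = true := by decide +kernel
theorem zb4 : bnd (pcsB D pc2_P_ps []) (leB (app D zE1) [[32], [34], [36], [38], [40], [42], [44]] (pcGens pc2_P_ps [])) = true := by decide +kernel
theorem zc5 : P.chainB ns D pc2_P_vs [[32], [34], [36], [38], [40], [42], [44]] = true := by decide +kernel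
theorem zc6 : P.chainB ns D pc2_sG_vs [[32], [34], [36], [38], [40], [42], [44]] = true := by decide +kernel
theorem zs7 : ssB P.N ns D (mkS P.n pc2_sG_vs pc2_s_x) [[32], [34], [36], [38], [40], [42], [44]] = true := by decide +kernel
theorem zs9 : pc2_s_G.chk zt8 pc2_s_s none = true := by decide +kernel
theorem zm10 : bnd (allL (invB P.N ns []) pc2_s_ms) (leB D [] [[32], [34], [36], [38], [40], [42], [44]]) = true := by decide +kernel
theorem zm12 : P.coreB ns D [[0], [2]] [[32], [34], [36], [38], [40], [42], [44]] zus11 pc2_s_ms = true := by decide +kernel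
theorem zm14 : leB D zts13 [[0], [2]] = true := by decide +kernel
theorem zr15 : chk (zp [] [[32], [34], [36], [38], [40], [42], [44]] zts13) = true := by decide +kernel
theorem zr17 : chk (pcsR pc3_P_ps []) = true := by decide +kernel
theorem zr18 : chk (defRels zE16) = true := by decide +kernel
theorem zb19 : bnd (pcsB D pc3_P_ps []) (leB (app D zE16) [[90], [92], [94], [96]] (pcGens pc3_P_ps [])) = true := by decide +kernel
theorem zc20 : P.chainB ns D pc3_P_vs [[90], [92], [94], [96]] = true := by decide +kernel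
theorem zc21 : P.chainB ns D pc3_sG_vs [[90], [92], [94], [96]] = true := by decide +kernel
theorem zs22 : ssB P.N ns D (mkS P.n pc3_sG_vs pc3_s_x) [[90], [92], [94], [96]] = true := by decide +kernel
theorem zs24 : pc3_s_G.chk zt23 pc3_s_s none = true := by decide +kernel
theorem zm25 : bnd (allL (invB P.N ns []) pc3_s_ms) (leB D [] [[90], [92], [94], [96]]) = true := by decide +kernel
theorem zm27 : P.coreB ns D [[0], [2]] [[90], [92], [94], [96]] zus26 pc3_s_ms = true := by decide +kernel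
theorem zm29 : leB D zts28 [[0], [2]] = true := by decide +kernel
theorem zr30 : chk (zp [] [[90], [92], [94], [96]] zts28) = true := by decide +kernel
theorem zr31 : chk (pcsR pc5_P_ps []) = true := by decide +kernel
theorem zb32 : bnd (pcsB D pc5_P_ps []) (leB (app D []) [[100], [102]] (pcGens pc5_P_ps [])) = true := by decide +kernel
theorem zc33 : P.chainB ns D pc5_P_vs [[100], [102]] = true := by decide +kernel
theorem zc34 : P.chainB ns D pc5_sG_vs [[100], [102]] = true := by decide +kernel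
theorem zs35 : ssB P.N ns D (mkS P.n pc5_sG_vs pc5_s_x) [[100], [102]] = true := by decide +kernel
theorem zs37 : pc5_s_G.chk zt36 pc5_s_s none = true := by decide +kernel
theorem zm38 : bnd (allL (invB P.N ns []) pc5_s_ms) (leB D [] [[100], [102]]) = true := by decide +kernel
theorem zm40 : P.coreB ns D [[0], [2]] [[100], [102]] zus39 pc5_s_ms = true := by decide +kernel
theorem zm42 : leB D zts41 [[0], [2]] = true := by decide +kernel
theorem zr43 : chk (zp [] [[100], [102]] zts41) = true := by decide +kernel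
theorem zr44 : chk (pcsR pc7_P_ps []) = true := by decide +kernel
theorem zb45 : bnd (pcsB D pc7_P_ps []) (leB (app D []) [[104]] (pcGens pc7_P_ps [])) = true := by decide +kernel
theorem zc46 : P.chainB ns D pc7_P_vs [[104]] = true := by decide +kernel
theorem zc47 : P.chainB ns D pc7_sG_vs [[104]] = true := by decide +kernel
theorem zs48 : ssB P.N ns D (mkS P.n pc7_sG_vs pc7_s_x) [[104]] = true := by decide +kernel
theorem zs50 : pc7_s_G.chk zt49 pc7_s_s none = true := by decide +kernel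
theorem zm51 : bnd (allL (invB P.N ns []) pc7_s_ms) (leB D [] [[104]]) = true := by decide +kernel
theorem zm53 : P.coreB ns D [[0], [2]] [[104]] zus52 pc7_s_ms = true := by decide +kernel
theorem zm55 : leB D zts54 [[0], [2]] = true := by decide +kernel
theorem zr56 : chk (zp [] [[104]] zts54) = true := by decide +kernel
theorem zk57 : allL (keepB P.n P.N) ns0 = true := by decide +kernel
theorem ze58 : extB ns0 ns 2 ws [] = true := by decide +kernel
theorem zn59 : P.netsB ns (mkDefs ws 2) = true := by decide +kernel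

section
variable {G X : Type*} [Group G] [MulAction G X] {e : ℕ → X} {gs : List G}

theorem keep0 : allL (keepB P.n P.N) ns0 = true := zk57

theorem len {k} (c : Ctx P e gs ns0 [] k) : gs.length = 2 := c.len ze58

theorem ctx0 {k} (c : Ctx P e gs ns0 [] k) : Ctx P e (ext gs ws) ns D chk0 :=
  c.ext rfl ze58 zn59

theorem ctx {k} (c : Ctx P e gs ns0 [] k) {H : Subgroup G} (hF : Faithful e P.n H) (hH : ∀ g ∈ gs, g ∈ H) :
    Ctx P e (ext gs ws) ns D chk :=
  (ctx0 c).withB hF (mem_of_mem_ext hH _)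

instance instNe : NeZero P.n := ⟨by decide⟩
noncomputable def gs0 : List (Equiv.Perm (Fin P.n)) := permsOf P.n P.N ns0
noncomputable def gs1 : List (Equiv.Perm (Fin P.n)) := ext gs0 ws
theorem c1 : Ctx P (eF P.n) gs1 ns D chk :=
  ctx (ctx_permsOf hP keep0) (faithful_eF _) fun _ _ => trivial

theorem G_c : P.chainB ns D G_vs [[0], [2]] = true :=
  zc0

theorem G_o : prodL G_vs 1 = 3628800 := by decide +kernel

theorem G_lb (c : Ctx P e gs ns D chk) :
    LB (subW gs [[0], [2]]) 3628800 :=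
  c.lb G_c G_o

theorem top : (subW gs1 [[0], [2]]) = ⊤ := eq_top_of_lb (G_lb c1) (card_perm_fin 10 (by decide)) (by norm_num)
theorem iso : Nonempty ((subW gs1 [[0], [2]]) ≃* Equiv.Perm (Fin 10)) := equiv_of_eq_top top
theorem card : Nat.card (subW gs1 [[0], [2]]) = 3628800 := (Nat.card_congr iso.some.toEquiv).trans (card_perm_fin 10 (by decide))

theorem ub : UB (subW gs1 [[0], [2]]) 3628800 := UB.of_card card (by norm_num)

theorem pc2_P_pr (c : Ctx P e gs ns D chk) :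
    Rels gs (pcsR pc2_P_ps []) :=
  (c.rels _ zr2)

theorem pc2_P_pe (c : Ctx P e gs ns D chk) :
    Rels gs (defRels zE1) :=
  (c.rels _ zr3)

theorem pc2_P_pb : bnd (pcsB D pc2_P_ps []) (leB (app D zE1) [[32], [34], [36], [38], [40], [42], [44]] (pcGens pc2_P_ps [])) = true := zb4

theorem pc2_P_ub (c : Ctx P e gs ns D chk) :
    UB (subW gs [[32], [34], [36], [38], [40], [42], [44]]) 256 :=
  c.pcs (UB.nil gs) (pc2_P_pe c) (pc2_P_pr c) pc2_P_pb (by decide +kernel)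

theorem pc2_P_c : P.chainB ns D pc2_P_vs [[32], [34], [36], [38], [40], [42], [44]] = true :=
  zc5

theorem pc2_P_o : prodL pc2_P_vs 1 = 256 := by decide +kernel

theorem pc2_P_lb (c : Ctx P e gs ns D chk) :
    LB (subW gs [[32], [34], [36], [38], [40], [42], [44]]) 256 :=
  c.lb pc2_P_c pc2_P_o

theorem pc2_P_card (c : Ctx P e gs ns D chk) :
    Nat.card (subW gs [[32], [34], [36], [38], [40], [42], [44]]) = 256 :=
  (pc2_P_ub c).card_eq (pc2_P_lb c)

theorem pc2_sG_c : P.chainB ns D pc2_sG_vs [[32], [34], [36], [38], [40], [42], [44]] = true :=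
  zc6

theorem pc2_sG_o : prodL pc2_sG_vs 1 = 256 := by decide +kernel

theorem pc2_s (c : Ctx P e gs ns D chk) :
    ∀ g, g ∈ (subW gs []) ↔ g ∈ (subW gs [[32], [34], [36], [38], [40], [42], [44]]) ∧ ∀ m ∈ pc2_s_ms, g ∈ sstab G (mset e P.n m) :=
  c.setStab (Rels.nil _) (c.sOk (c.exact pc2_sG_c pc2_sG_o (pc2_P_ub c)) zs7) (fun _ h => by cases h) zm10 zs9

theorem pc2 (c : Ctx P e gs ns D chk) (hK : Nat.card (subW gs [[0], [2]]) = 3628800) :
    Cfsg.pCore 2 (subW gs [[0], [2]]) = ⊥ :=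
  pCore_eq_bot_of_le (c.pCoreOf_le (p := 2) (by norm_num) (b := 14175) hK (pc2_P_card c) (by norm_num) (c.le_of_rels (ws := [[32], [34], [36], [38], [40], [42], [44]]) (l := [[0], [2]]) (c.rels _ zr15) zm14) zm12 (pc2_s c))

theorem core2 : Cfsg.pCore 2 (subW gs1 [[0], [2]]) = ⊥ := pc2 c1 card

theorem pc3_P_pr (c : Ctx P e gs ns D chk) :
    Rels gs (pcsR pc3_P_ps []) :=
  (c.rels _ zr17)

theorem pc3_P_pe (c : Ctx P e gs ns D chk) :
    Rels gs (defRels zE16) :=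
  (c.rels _ zr18)

theorem pc3_P_pb : bnd (pcsB D pc3_P_ps []) (leB (app D zE16) [[90], [92], [94], [96]] (pcGens pc3_P_ps [])) = true := zb19

theorem pc3_P_ub (c : Ctx P e gs ns D chk) :
    UB (subW gs [[90], [92], [94], [96]]) 81 :=
  c.pcs (UB.nil gs) (pc3_P_pe c) (pc3_P_pr c) pc3_P_pb (by decide +kernel)

theorem pc3_P_c : P.chainB ns D pc3_P_vs [[90], [92], [94], [96]] = true :=
  zc20

theorem pc3_P_o : prodL pc3_P_vs 1 = 81 := by decide +kernel

theorem pc3_P_lb (c : Ctx P e gs ns D chk) :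
    LB (subW gs [[90], [92], [94], [96]]) 81 :=
  c.lb pc3_P_c pc3_P_o

theorem pc3_P_card (c : Ctx P e gs ns D chk) :
    Nat.card (subW gs [[90], [92], [94], [96]]) = 81 :=
  (pc3_P_ub c).card_eq (pc3_P_lb c)

theorem pc3_sG_c : P.chainB ns D pc3_sG_vs [[90], [92], [94], [96]] = true :=
  zc21

theorem pc3_sG_o : prodL pc3_sG_vs 1 = 81 := by decide +kernel

theorem pc3_s (c : Ctx P e gs ns D chk) :
    ∀ g, g ∈ (subW gs []) ↔ g ∈ (subW gs [[90], [92], [94], [96]]) ∧ ∀ m ∈ pc3_s_ms, g ∈ sstab G (mset e P.n m) :=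
  c.setStab (Rels.nil _) (c.sOk (c.exact pc3_sG_c pc3_sG_o (pc3_P_ub c)) zs22) (fun _ h => by cases h) zm25 zs24

theorem pc3 (c : Ctx P e gs ns D chk) (hK : Nat.card (subW gs [[0], [2]]) = 3628800) :
    Cfsg.pCore 3 (subW gs [[0], [2]]) = ⊥ :=
  pCore_eq_bot_of_le (c.pCoreOf_le (p := 3) (by norm_num) (b := 44800) hK (pc3_P_card c) (by norm_num) (c.le_of_rels (ws := [[90], [92], [94], [96]]) (l := [[0], [2]]) (c.rels _ zr30) zm29) zm27 (pc3_s c))

theorem core3 : Cfsg.pCore 3 (subW gs1 [[0], [2]]) = ⊥ := pc3 c1 card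

theorem pc5_P_pr (c : Ctx P e gs ns D chk) :
    Rels gs (pcsR pc5_P_ps []) :=
  (c.rels _ zr31)

theorem pc5_P_pe (c : Ctx P e gs ns D chk) :
    Rels gs (defRels []) :=
  (Rels.nil _)

theorem pc5_P_pb : bnd (pcsB D pc5_P_ps []) (leB (app D []) [[100], [102]] (pcGens pc5_P_ps [])) = true := zb32

theorem pc5_P_ub (c : Ctx P e gs ns D chk) :
    UB (subW gs [[100], [102]]) 25 :=
  c.pcs (UB.nil gs) (pc5_P_pe c) (pc5_P_pr c) pc5_P_pb (by decide +kernel)

theorem pc5_P_c : P.chainB ns D pc5_P_vs [[100], [102]] = true :=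
  zc33

theorem pc5_P_o : prodL pc5_P_vs 1 = 25 := by decide +kernel

theorem pc5_P_lb (c : Ctx P e gs ns D chk) :
    LB (subW gs [[100], [102]]) 25 :=
  c.lb pc5_P_c pc5_P_o

theorem pc5_P_card (c : Ctx P e gs ns D chk) :
    Nat.card (subW gs [[100], [102]]) = 25 :=
  (pc5_P_ub c).card_eq (pc5_P_lb c)

theorem pc5_sG_c : P.chainB ns D pc5_sG_vs [[100], [102]] = true :=
  zc34

theorem pc5_sG_o : prodL pc5_sG_vs 1 = 25 := by decide +kernel

theorem pc5_s (c : Ctx P e gs ns D chk) :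
    ∀ g, g ∈ (subW gs []) ↔ g ∈ (subW gs [[100], [102]]) ∧ ∀ m ∈ pc5_s_ms, g ∈ sstab G (mset e P.n m) :=
  c.setStab (Rels.nil _) (c.sOk (c.exact pc5_sG_c pc5_sG_o (pc5_P_ub c)) zs35) (fun _ h => by cases h) zm38 zs37

theorem pc5 (c : Ctx P e gs ns D chk) (hK : Nat.card (subW gs [[0], [2]]) = 3628800) :
    Cfsg.pCore 5 (subW gs [[0], [2]]) = ⊥ :=
  pCore_eq_bot_of_le (c.pCoreOf_le (p := 5) (by norm_num) (b := 145152) hK (pc5_P_card c) (by norm_num) (c.le_of_rels (ws := [[100], [102]]) (l := [[0], [2]]) (c.rels _ zr43) zm42) zm40 (pc5_s c))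

theorem core5 : Cfsg.pCore 5 (subW gs1 [[0], [2]]) = ⊥ := pc5 c1 card

theorem pc7_P_pr (c : Ctx P e gs ns D chk) :
    Rels gs (pcsR pc7_P_ps []) :=
  (c.rels _ zr44)

theorem pc7_P_pe (c : Ctx P e gs ns D chk) :
    Rels gs (defRels []) :=
  (Rels.nil _)

theorem pc7_P_pb : bnd (pcsB D pc7_P_ps []) (leB (app D []) [[104]] (pcGens pc7_P_ps [])) = true := zb45

theorem pc7_P_ub (c : Ctx P e gs ns D chk) :
    UB (subW gs [[104]]) 7 :=
  c.pcs (UB.nil gs) (pc7_P_pe c) (pc7_P_pr c) pc7_P_pb (by decide +kernel)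

theorem pc7_P_c : P.chainB ns D pc7_P_vs [[104]] = true :=
  zc46

theorem pc7_P_o : prodL pc7_P_vs 1 = 7 := by decide +kernel

theorem pc7_P_lb (c : Ctx P e gs ns D chk) :
    LB (subW gs [[104]]) 7 :=
  c.lb pc7_P_c pc7_P_o

theorem pc7_P_card (c : Ctx P e gs ns D chk) :
    Nat.card (subW gs [[104]]) = 7 :=
  (pc7_P_ub c).card_eq (pc7_P_lb c)

theorem pc7_sG_c : P.chainB ns D pc7_sG_vs [[104]] = true :=
  zc47

theorem pc7_sG_o : prodL pc7_sG_vs 1 = 7 := by decide +kernel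

theorem pc7_s (c : Ctx P e gs ns D chk) :
    ∀ g, g ∈ (subW gs []) ↔ g ∈ (subW gs [[104]]) ∧ ∀ m ∈ pc7_s_ms, g ∈ sstab G (mset e P.n m) :=
  c.setStab (Rels.nil _) (c.sOk (c.exact pc7_sG_c pc7_sG_o (pc7_P_ub c)) zs48) (fun _ h => by cases h) zm51 zs50

theorem pc7 (c : Ctx P e gs ns D chk) (hK : Nat.card (subW gs [[0], [2]]) = 3628800) :
    Cfsg.pCore 7 (subW gs [[0], [2]]) = ⊥ :=
  pCore_eq_bot_of_le (c.pCoreOf_le (p := 7) (by norm_num) (b := 518400) hK (pc7_P_card c) (by norm_num) (c.le_of_rels (ws := [[104]]) (l := [[0], [2]]) (c.rels _ zr56) zm55) zm53 (pc7_s c))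

theorem core7 : Cfsg.pCore 7 (subW gs1 [[0], [2]]) = ⊥ := pc7 c1 card

end
end CL.Std.S10

namespace CL.Std.A10
open CL.PG

def P : Par := ⟨10, 10, 4, 2⟩
theorem hP : P.Ok := by decide
noncomputable def a0 : Net := (.cons 1 (nat_lit 0x1)
 (.cons 1 (nat_lit 0x2)
 .nil))
noncomputable def a1 : Net := (.cons 1 (nat_lit 0x20)
 (.cons 1 (nat_lit 0x42)
 (.cons 1 (nat_lit 0x84)
 (.cons 1 (nat_lit 0x108)
 (.cons 5 (nat_lit 0x10)
 .nil)))))
noncomputable def a2 : Net := (.cons 5 (nat_lit 0x10)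
 (.cons 1 (nat_lit 0x8)
 (.cons 1 (nat_lit 0x4)
 (.cons 1 (nat_lit 0xa)
 (.cons 5 (nat_lit 0x10)
 .nil)))))
noncomputable def a3 : Net := (.cons 5 (nat_lit 0x18)
 (.cons 1 (nat_lit 0x8)
 (.cons 1 (nat_lit 0x4)
 (.cons 5 (nat_lit 0x18)
 .nil))))
noncomputable def a4 : Net := (.cons 5 (nat_lit 0x10)
 (.cons 1 (nat_lit 0x20)
 (.cons 1 (nat_lit 0x40)
 (.cons 1 (nat_lit 0x80)
 (.cons 1 (nat_lit 0x100)
 (.cons 1 (nat_lit 0x4)
 (.cons 5 (nat_lit 0x18)
 .nil)))))))
noncomputable def a5 : Net := (.cons 5 (nat_lit 0x10)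
 (.cons 1 (nat_lit 0x100)
 (.cons 1 (nat_lit 0x80)
 (.cons 1 (nat_lit 0x48)
 (.cons 1 (nat_lit 0x20)
 .nil)))))
noncomputable def a6 : Net := (.cons 1 (nat_lit 0x80)
 (.cons 1 (nat_lit 0x100)
 .nil))
noncomputable def a7 : Net := (.cons 5 (nat_lit 0x2)
 (.cons 1 (nat_lit 0x10a)
 (.cons 1 (nat_lit 0xa4)
 (.cons 1 (nat_lit 0x4a)
 (.cons 1 (nat_lit 0xa0)
 (.cons 5 (nat_lit 0x12)
 .nil))))))
noncomputable def a8 : Net := (.cons 1 (nat_lit 0x80)
 (.cons 1 (nat_lit 0x100)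
 .nil))
noncomputable def a9 : Net := (.cons 1 (nat_lit 0x20)
 (.cons 1 (nat_lit 0x40)
 .nil))
noncomputable def a10 : Net := (.cons 1 (nat_lit 0x80)
 (.cons 1 (nat_lit 0x40)
 .nil))
noncomputable def ns0 : List Net := [a0, a1]
noncomputable def ws : List (List ℕ) :=
  [W (nat_lit 0xc0201002),
  W (nat_lit 0x600c0601005),
  W (nat_lit 0x301806),
  W (nat_lit 0xa02008),
  W (nat_lit 0x901c0a),
  W (nat_lit 0x380b02c0b0380c),
  W (nat_lit 0x380e),
  W (nat_lit 0x100440f),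
  W (nat_lit 0x1104c1205012)]
noncomputable def ns : List Net := [a0, a1, a2, a3, a4, a5, a6, a7, a8, a9, a10]
noncomputable def D : List (ℕ × List ℕ) := app [] (mkDefs ws 2)
noncomputable def chk : List (List ℕ × List ℕ) → Bool := P.relsB ns
noncomputable def G_v0 : Lev :=
  ⟨0, 10, sg (W (nat_lit 0x300c0300c0300c0300401)), [[4], [2]], 0, 1⟩
noncomputable def G_v1 : Lev :=
  ⟨1, 9, sg (W (nat_lit 0xc0300c0300c0301405)), [[6], [8]], 1, 2⟩
noncomputable def G_v2 : Lev :=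
  ⟨2, 8, sg (W (nat_lit 0x9024090240901c07)), [[10], [12]], 3, 2⟩
noncomputable def G_v3 : Lev :=
  ⟨3, 7, sg (W (nat_lit 0x2c0b02c0b02c0b)), [[14], [16]], 5, 2⟩
noncomputable def G_v4 : Lev :=
  ⟨4, 6, sg (W (nat_lit 0x1103c0f03c0f)), [[16], [18]], 7, 1⟩
noncomputable def G_v5 : Lev :=
  ⟨5, 5, sg (W (nat_lit 0x4c1104413)), [[17], [20]], 8, 1⟩
noncomputable def G_v6 : Lev :=
  ⟨6, 4, sg (W (nat_lit 0x1204815)), [[17]], 9, 0⟩
noncomputable def G_v7 : Lev :=
  ⟨7, 3, sg (W (nat_lit 0x4812)), [], 9, 0⟩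
noncomputable def G_vs8 : List Lev :=
  []
noncomputable def G_vs7 : List Lev :=
  G_v7 :: G_vs8
noncomputable def G_vs6 : List Lev :=
  G_v6 :: G_vs7
noncomputable def G_vs5 : List Lev :=
  G_v5 :: G_vs6
noncomputable def G_vs4 : List Lev :=
  G_v4 :: G_vs5
noncomputable def G_vs3 : List Lev :=
  G_v3 :: G_vs4
noncomputable def G_vs2 : List Lev :=
  G_v2 :: G_vs3
noncomputable def G_vs1 : List Lev :=
  G_v1 :: G_vs2
noncomputable def G_vs : List Lev :=
  G_v0 :: G_vs1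
noncomputable def zt1 : List ℕ :=
  []
noncomputable def zcj2 : List (List ℕ) :=
  []
noncomputable def zus5 : List (List ℕ) :=
  [[20],
  [21],
  W (nat_lit 0x5411)]
noncomputable def zF6 : List (List (ℕ × List ℕ)) :=
  [[(0, [17]),
   (2, [16]),
   (3, [17]),
   (1, [])],
  [(1, []),
   (2, []),
   (0, []),
   (3, [16])]]
noncomputable def zus9 : List (List ℕ) :=
  [[18],
  [19],
  W (nat_lit 0x4c15),
  W (nat_lit 0x5012)]
noncomputable def zF10 : List (List (ℕ × List ℕ)) :=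
  [[(0, [16]),
   (1, W (nat_lit 0x4415)),
   (3, W (nat_lit 0x4416)),
   (4, W (nat_lit 0x4416)),
   (2, [])],
  [(1, []),
   (2, []),
   (0, []),
   (3, [20]),
   (4, [21])]]
noncomputable def zus13 : List (List ℕ) :=
  [[14],
  [15],
  W (nat_lit 0x3c0f),
  W (nat_lit 0x3c11),
  W (nat_lit 0x3c12)]
noncomputable def zF14 : List (List (ℕ × List ℕ)) :=
  [[(1, []),
   (3, []),
   (0, []),
   (4, W (nat_lit 0x1105413)),
   (2, W (nat_lit 0x4814)),
   (5, W (nat_lit 0x481604c15))],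
  [(0, [16]),
   (4, []),
   (2, [18]),
   (3, [20]),
   (5, []),
   (1, [])]]
noncomputable def zus17 : List (List ℕ) :=
  [[10],
  [11],
  W (nat_lit 0x2c0b),
  W (nat_lit 0x2c0d),
  W (nat_lit 0x2c10),
  W (nat_lit 0x2c0f)]
noncomputable def zF18 : List (List (ℕ × List ℕ)) :=
  [[(1, []),
   (3, []),
   (0, []),
   (4, W (nat_lit 0x440f)),
   (6, W (nat_lit 0x541305410)),
   (2, W (nat_lit 0x541104c0f)),
   (5, W (nat_lit 0x541103c12))],
  [(0, [16]),
   (4, []),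
   (2, [21]),
   (1, W (nat_lit 0x481504c0f)),
   (3, W (nat_lit 0x441603c0f)),
   (5, [21]),
   (6, W (nat_lit 0x5413))]]
noncomputable def zus21 : List (List ℕ) :=
  [[6],
  [7],
  [8],
  W (nat_lit 0x1c0d),
  W (nat_lit 0x2010),
  W (nat_lit 0x1c0f),
  W (nat_lit 0x1c10)]
noncomputable def zF22 : List (List (ℕ × List ℕ)) :=
  [[(1, []),
   (2, []),
   (0, []),
   (3, [16]),
   (4, [16]),
   (5, W (nat_lit 0x1105012)),
   (6, W (nat_lit 0x541104c0f)),
   (7, W (nat_lit 0x1604c15))],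
  [(3, []),
   (1, W (nat_lit 0x440c)),
   (0, [11]),
   (5, W (nat_lit 0x1104c1002c0b)),
   (2, W (nat_lit 0x440c)),
   (7, W (nat_lit 0x481603c0b)),
   (4, W (nat_lit 0x480f0480c)),
   (6, W (nat_lit 0x58130540f02c0f))]]
noncomputable def zus25 : List (List ℕ) :=
  [[3],
  [2],
  W (nat_lit 0xc08),
  W (nat_lit 0xc03),
  W (nat_lit 0x100d),
  W (nat_lit 0x300c03),
  W (nat_lit 0x100f),
  W (nat_lit 0x1010)]
noncomputable def zF26 : List (List (ℕ × List ℕ)) :=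
  [[(1, [11]),
   (2, W (nat_lit 0xb02c08)),
   (0, [8]),
   (3, [16]),
   (4, [17]),
   (5, W (nat_lit 0x140400b02c07)),
   (6, [20]),
   (7, W (nat_lit 0x441504c0f02c0b01c0f)),
   (8, W (nat_lit 0x120501002c0b01c0d))],
  [(2, []),
   (0, []),
   (4, []),
   (1, W (nat_lit 0x110541104c150400c01c10)),
   (6, []),
   (3, W (nat_lit 0x2c08)),
   (8, W (nat_lit 0x48150441403c1102c1001c10)),
   (5, W (nat_lit 0x150441404809)),
   (7, W (nat_lit 0x150441404009))]]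
noncomputable def zus29 : List (List ℕ) :=
  [[0],
  [1],
  W (nat_lit 0x404),
  W (nat_lit 0x803),
  W (nat_lit 0x808),
  W (nat_lit 0x200c03),
  W (nat_lit 0x10100d),
  W (nat_lit 0x101010),
  W (nat_lit 0x10100f)]
noncomputable def zF30 : List (List (ℕ × List ℕ)) :=
  [[(1, []),
   (2, []),
   (0, []),
   (3, W (nat_lit 0xb02c0800c03)),
   (4, W (nat_lit 0x3004)),
   (5, W (nat_lit 0xb02003)),
   (6, W (nat_lit 0x2c0800c08)),
   (7, W (nat_lit 0xb02c0800c03)),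
   (8, W (nat_lit 0xb02c0800c03)),
   (9, W (nat_lit 0xb02c0800c03))],
  [(0, [2]),
   (2, W (nat_lit 0x2c0800c03)),
   (4, []),
   (1, []),
   (6, []),
   (3, W (nat_lit 0x3003)),
   (8, W (nat_lit 0x110541104c150400c02003)),
   (5, W (nat_lit 0x3004)),
   (9, W (nat_lit 0x150440f0480b02c0700c03)),
   (7, W (nat_lit 0x4815044130540f03c0b02c0700c03))]]

theorem zc0 : P.chainB ns D G_vs [[0], [2]] = true := by decide +kernel
theorem zb3 : bnd (pcB D [] 3 zt1 zcj2) (leB (app D []) [[17]] ([17] :: [])) = true := by decide +kernel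
theorem zr4 : chk (pcR [] [17] 3 zt1 zcj2) = true := by decide +kernel
theorem zb7 : schB D [[17], [20]] [[17]] zus5 zF6 4 = true := by decide +kernel
theorem zr8 : chk (schR [[17], [20]] zus5 zF6) = true := by decide +kernel
theorem zb11 : schB D [[16], [18]] [[17], [20]] zus9 zF10 5 = true := by decide +kernel
theorem zr12 : chk (schR [[16], [18]] zus9 zF10) = true := by decide +kernel
theorem zb15 : schB D [[14], [16]] [[16], [18]] zus13 zF14 6 = true := by decide +kernel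
theorem zr16 : chk (schR [[14], [16]] zus13 zF14) = true := by decide +kernel
theorem zb19 : schB D [[10], [12]] [[14], [16]] zus17 zF18 7 = true := by decide +kernel
theorem zr20 : chk (schR [[10], [12]] zus17 zF18) = true := by decide +kernel
theorem zb23 : schB D [[6], [8]] [[10], [12]] zus21 zF22 8 = true := by decide +kernel
theorem zr24 : chk (schR [[6], [8]] zus21 zF22) = true := by decide +kernel
theorem zb27 : schB D [[4], [2]] [[6], [8]] zus25 zF26 9 = true := by decide +kernel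
theorem zr28 : chk (schR [[4], [2]] zus25 zF26) = true := by decide +kernel
theorem zb31 : schB D [[0], [2]] [[4], [2]] zus29 zF30 10 = true := by decide +kernel
theorem zr32 : chk (schR [[0], [2]] zus29 zF30) = true := by decide +kernel
theorem zk33 : allL (keepB P.n P.N) ns0 = true := by decide +kernel
theorem ze34 : extB ns0 ns 2 ws [] = true := by decide +kernel
theorem zn35 : P.netsB ns (mkDefs ws 2) = true := by decide +kernel

section
variable {G X : Type*} [Group G] [MulAction G X] {e : ℕ → X} {gs : List G}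

theorem keep0 : allL (keepB P.n P.N) ns0 = true := zk33

theorem len {k} (c : Ctx P e gs ns0 [] k) : gs.length = 2 := c.len ze34

theorem ctx0 {k} (c : Ctx P e gs ns0 [] k) : Ctx P e (ext gs ws) ns D chk0 :=
  c.ext rfl ze34 zn35

theorem ctx {k} (c : Ctx P e gs ns0 [] k) {H : Subgroup G} (hF : Faithful e P.n H) (hH : ∀ g ∈ gs, g ∈ H) :
    Ctx P e (ext gs ws) ns D chk :=
  (ctx0 c).withB hF (mem_of_mem_ext hH _)

instance instNe : NeZero P.n := ⟨by decide⟩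
noncomputable def gs0 : List (Equiv.Perm (Fin P.n)) := permsOf P.n P.N ns0
noncomputable def gs1 : List (Equiv.Perm (Fin P.n)) := ext gs0 ws
theorem c1 : Ctx P (eF P.n) gs1 ns D chk :=
  ctx (ctx_permsOf hP keep0) (faithful_eF _) fun _ _ => trivial

theorem G_c : P.chainB ns D G_vs [[0], [2]] = true :=
  zc0

theorem G_o : prodL G_vs 1 = 1814400 := by decide +kernel

theorem G_lb (c : Ctx P e gs ns D chk) :
    LB (subW gs [[0], [2]]) 1814400 :=
  c.lb G_c G_o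

theorem G_u7 (c : Ctx P e gs ns D chk) :
    UB (subW gs [[17]]) 3 :=
  (c.pc_step (UB.nil gs) (Rels.nil _)
    (c.rels _ zr4) zb3).le (by decide)

theorem G_u6 (c : Ctx P e gs ns D chk) :
    UB (subW gs [[17], [20]]) 12 :=
  (c.sch_step (G_u7 c)
    (c.rels _ zr8) zb7).le (by decide)

theorem G_u5 (c : Ctx P e gs ns D chk) :
    UB (subW gs [[16], [18]]) 60 :=
  (c.sch_step (G_u6 c)
    (c.rels _ zr12) zb11).le (by decide)

theorem G_u4 (c : Ctx P e gs ns D chk) :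
    UB (subW gs [[14], [16]]) 360 :=
  (c.sch_step (G_u5 c)
    (c.rels _ zr16) zb15).le (by decide)

theorem G_u3 (c : Ctx P e gs ns D chk) :
    UB (subW gs [[10], [12]]) 2520 :=
  (c.sch_step (G_u4 c)
    (c.rels _ zr20) zb19).le (by decide)

theorem G_u2 (c : Ctx P e gs ns D chk) :
    UB (subW gs [[6], [8]]) 20160 :=
  (c.sch_step (G_u3 c)
    (c.rels _ zr24) zb23).le (by decide)

theorem G_u1 (c : Ctx P e gs ns D chk) :
    UB (subW gs [[4], [2]]) 181440 :=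
  (c.sch_step (G_u2 c)
    (c.rels _ zr28) zb27).le (by decide)

theorem G_u0 (c : Ctx P e gs ns D chk) :
    UB (subW gs [[0], [2]]) 1814400 :=
  (c.sch_step (G_u1 c)
    (c.rels _ zr32) zb31).le (by decide)

theorem G_ub (c : Ctx P e gs ns D chk) :
    UB (subW gs [[0], [2]]) 1814400 :=
  (G_u0 c)

theorem card : Nat.card (subW gs1 [[0], [2]]) = 1814400 := (G_ub c1).card_eq (G_lb c1)
theorem eq : (subW gs1 [[0], [2]]) = alternatingGroup (Fin 10) := eq_alternatingGroup_of_card card (by decide)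
theorem iso : Nonempty ((subW gs1 [[0], [2]]) ≃* alternatingGroup (Fin 10)) := ⟨MulEquiv.subgroupCongr eq⟩

theorem simple : IsSimpleGroup (subW gs1 [[0], [2]]) :=
  have := alternatingGroup.isSimpleGroup (α := Fin 10) (by simp)
  iso.some.isSimpleGroup

theorem ub : UB (subW gs1 [[0], [2]]) 1814400 := UB.of_card card (by norm_num)

end
end CL.Std.A10

namespace CL.Std.S11
open CL.PG

def P : Par := ⟨11, 12, 4, 2⟩
theorem hP : P.Ok := by decide
noncomputable def a0 : Net := (.cons 1 (nat_lit 0x1)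
 .nil)
noncomputable def a1 : Net := (.cons 6 (nat_lit 0x1)
 (.cons 3 (nat_lit 0x41)
 (.cons 1 (nat_lit 0x49)
 (.cons 1 (nat_lit 0x92)
 (.cons 1 (nat_lit 0x200)
 .nil)))))
noncomputable def a2 : Net := (.cons 1 (nat_lit 0x2)
 .nil)
noncomputable def a3 : Net := (.cons 6 (nat_lit 0x20)
 (.cons 3 (nat_lit 0x44)
 (.cons 1 (nat_lit 0x248)
 (.cons 1 (nat_lit 0x490)
 (.cons 3 (nat_lit 0x6)
 (.cons 6 (nat_lit 0x30)
 .nil))))))
noncomputable def a4 : Net := (.cons 6 (nat_lit 0x10)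
 (.cons 3 (nat_lit 0x4)
 (.cons 1 (nat_lit 0x10)
 (.cons 3 (nat_lit 0x4)
 (.cons 6 (nat_lit 0x10)
 .nil)))))
noncomputable def a5 : Net := (.cons 6 (nat_lit 0x30)
 (.cons 3 (nat_lit 0x104)
 (.cons 1 (nat_lit 0x490)
 (.cons 1 (nat_lit 0x248)
 (.cons 3 (nat_lit 0x4)
 (.cons 6 (nat_lit 0x20)
 .nil))))))
noncomputable def a6 : Net := (.cons 6 (nat_lit 0x10)
 (.cons 1 (nat_lit 0x8)
 (.cons 6 (nat_lit 0x10)
 .nil)))
noncomputable def a7 : Net := (.cons 6 (nat_lit 0x1c)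
 (.cons 3 (nat_lit 0xc4)
 (.cons 1 (nat_lit 0x10)
 (.cons 1 (nat_lit 0x8)
 (.cons 6 (nat_lit 0x4)
 .nil)))))
noncomputable def a8 : Net := (.cons 6 (nat_lit 0x20)
 (.cons 3 (nat_lit 0x40)
 (.cons 1 (nat_lit 0x240)
 (.cons 1 (nat_lit 0x480)
 (.cons 6 (nat_lit 0x30)
 .nil)))))
noncomputable def a9 : Net := (.cons 6 (nat_lit 0x20)
 (.cons 3 (nat_lit 0x100)
 (.cons 1 (nat_lit 0x40)
 (.cons 1 (nat_lit 0x80)
 (.cons 1 (nat_lit 0x40)
 (.cons 3 (nat_lit 0x100)
 (.cons 6 (nat_lit 0x20)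
 .nil)))))))
noncomputable def a10 : Net := (.cons 6 (nat_lit 0x20)
 (.cons 3 (nat_lit 0x100)
 (.cons 1 (nat_lit 0x480)
 (.cons 1 (nat_lit 0x240)
 (.cons 6 (nat_lit 0x20)
 .nil)))))
noncomputable def a11 : Net := (.cons 1 (nat_lit 0x40)
 .nil)
noncomputable def a12 : Net := (.cons 3 (nat_lit 0x40)
 (.cons 1 (nat_lit 0x40)
 (.cons 1 (nat_lit 0x80)
 (.cons 1 (nat_lit 0x200)
 .nil))))
noncomputable def a13 : Net := (.cons 3 (nat_lit 0x80)
 .nil)
noncomputable def a14 : Net := (.cons 3 (nat_lit 0x180)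
 (.cons 1 (nat_lit 0x400)
 (.cons 1 (nat_lit 0x200)
 (.cons 3 (nat_lit 0x100)
 .nil))))
noncomputable def a15 : Net := (.cons 3 (nat_lit 0x100)
 (.cons 1 (nat_lit 0x200)
 (.cons 1 (nat_lit 0x400)
 (.cons 1 (nat_lit 0x200)
 (.cons 3 (nat_lit 0x100)
 .nil)))))
noncomputable def a16 : Net := (.cons 3 (nat_lit 0x100)
 (.cons 1 (nat_lit 0x400)
 (.cons 3 (nat_lit 0x100)
 .nil)))
noncomputable def a17 : Net := (.cons 1 (nat_lit 0x200)
 .nil)
noncomputable def a18 : Net := (.cons 3 (nat_lit 0x2)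
 (.cons 1 (nat_lit 0x8)
 (.cons 1 (nat_lit 0x12)
 (.cons 1 (nat_lit 0x8)
 (.cons 3 (nat_lit 0x2)
 .nil)))))
noncomputable def a19 : Net := (.cons 1 (nat_lit 0x80)
 .nil)
noncomputable def a20 : Net := (.cons 1 (nat_lit 0x8)
 (.cons 1 (nat_lit 0x10)
 (.cons 1 (nat_lit 0x8)
 .nil)))
noncomputable def a21 : Net := (.cons 6 (nat_lit 0x10)
 (.cons 3 (nat_lit 0x2)
 (.cons 6 (nat_lit 0x10)
 .nil)))
noncomputable def a22 : Net := (.cons 6 (nat_lit 0x38)
 (.cons 3 (nat_lit 0x182)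
 (.cons 1 (nat_lit 0x2)
 (.cons 1 (nat_lit 0x200)
 (.cons 3 (nat_lit 0x80)
 (.cons 6 (nat_lit 0x28)
 .nil))))))
noncomputable def a23 : Net := (.cons 6 (nat_lit 0x2)
 (.cons 3 (nat_lit 0x140)
 (.cons 1 (nat_lit 0x8)
 (.cons 1 (nat_lit 0x410)
 (.cons 1 (nat_lit 0x8)
 (.cons 3 (nat_lit 0x100)
 .nil))))))
noncomputable def a24 : Net := (.cons 6 (nat_lit 0x6)
 (.cons 3 (nat_lit 0x6)
 (.cons 1 (nat_lit 0x82)
 (.cons 1 (nat_lit 0x8)
 (.cons 3 (nat_lit 0x2)
 (.cons 6 (nat_lit 0x14)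
 .nil))))))
noncomputable def a25 : Net := (.cons 3 (nat_lit 0x4)
 (.cons 1 (nat_lit 0x10)
 (.cons 3 (nat_lit 0x4)
 .nil)))
noncomputable def a26 : Net := (.cons 1 (nat_lit 0x8)
 (.cons 1 (nat_lit 0x10)
 (.cons 3 (nat_lit 0x4)
 .nil)))
noncomputable def a27 : Net := (.cons 1 (nat_lit 0x8)
 (.cons 1 (nat_lit 0x90)
 (.cons 3 (nat_lit 0x4)
 .nil)))
noncomputable def a28 : Net := (.cons 1 (nat_lit 0x8)
 (.cons 1 (nat_lit 0x10)
 (.cons 1 (nat_lit 0x8)
 .nil)))
noncomputable def a29 : Net := (.cons 6 (nat_lit 0x14)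
 (.cons 3 (nat_lit 0x84)
 (.cons 1 (nat_lit 0x82)
 (.cons 1 (nat_lit 0x8)
 (.cons 3 (nat_lit 0x4)
 (.cons 6 (nat_lit 0x10)
 .nil))))))
noncomputable def a30 : Net := (.cons 1 (nat_lit 0x80)
 .nil)
noncomputable def a31 : Net := (.cons 6 (nat_lit 0x10)
 (.cons 3 (nat_lit 0x2)
 (.cons 1 (nat_lit 0x80)
 (.cons 6 (nat_lit 0x10)
 .nil))))
noncomputable def a32 : Net := (.cons 3 (nat_lit 0x2)
 (.cons 1 (nat_lit 0x8)
 (.cons 1 (nat_lit 0x12)
 (.cons 1 (nat_lit 0x8)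
 (.cons 3 (nat_lit 0x2)
 .nil)))))
noncomputable def a33 : Net := (.cons 6 (nat_lit 0x10)
 (.cons 3 (nat_lit 0x42)
 (.cons 1 (nat_lit 0x8)
 (.cons 1 (nat_lit 0x90)
 (.cons 1 (nat_lit 0x8)
 (.cons 6 (nat_lit 0x10)
 .nil))))))
noncomputable def a34 : Net := (.cons 3 (nat_lit 0x40)
 .nil)
noncomputable def a35 : Net := (.cons 6 (nat_lit 0x16)
 (.cons 3 (nat_lit 0x42)
 (.cons 1 (nat_lit 0x8)
 (.cons 1 (nat_lit 0x12)
 (.cons 1 (nat_lit 0x8)
 (.cons 6 (nat_lit 0x14)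
 .nil))))))
noncomputable def a36 : Net := (.cons 6 (nat_lit 0x2)
 (.cons 3 (nat_lit 0x100)
 (.cons 1 (nat_lit 0x8)
 (.cons 1 (nat_lit 0x410)
 (.cons 1 (nat_lit 0x8)
 (.cons 3 (nat_lit 0x100)
 .nil))))))
noncomputable def a37 : Net := (.cons 6 (nat_lit 0x10)
 (.cons 3 (nat_lit 0x42)
 (.cons 1 (nat_lit 0x8)
 (.cons 1 (nat_lit 0x10)
 (.cons 1 (nat_lit 0x8)
 (.cons 6 (nat_lit 0x10)
 .nil))))))
noncomputable def a38 : Net := (.cons 6 (nat_lit 0x10)
 (.cons 3 (nat_lit 0x2)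
 (.cons 6 (nat_lit 0x10)
 .nil)))
noncomputable def a39 : Net := (.cons 3 (nat_lit 0x40)
 .nil)
noncomputable def a40 : Net := (.cons 3 (nat_lit 0x40)
 .nil)
noncomputable def a41 : Net := (.cons 3 (nat_lit 0x40)
 (.cons 1 (nat_lit 0x8)
 (.cons 1 (nat_lit 0x10)
 (.cons 1 (nat_lit 0x8)
 .nil))))
noncomputable def a42 : Net := (.cons 6 (nat_lit 0x2c)
 (.cons 3 (nat_lit 0x4)
 (.cons 1 (nat_lit 0x200)
 (.cons 1 (nat_lit 0x410)
 (.cons 1 (nat_lit 0x200)
 (.cons 3 (nat_lit 0x4)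
 (.cons 6 (nat_lit 0x20)
 .nil)))))))
noncomputable def a43 : Net := (.cons 6 (nat_lit 0x8)
 (.cons 1 (nat_lit 0x8)
 (.cons 1 (nat_lit 0x10)
 (.cons 1 (nat_lit 0x48)
 (.cons 3 (nat_lit 0x80)
 .nil)))))
noncomputable def a44 : Net := (.cons 3 (nat_lit 0x80)
 (.cons 1 (nat_lit 0x40)
 .nil))
noncomputable def a45 : Net := (.cons 6 (nat_lit 0x38)
 (.cons 3 (nat_lit 0x44)
 (.cons 1 (nat_lit 0x8)
 (.cons 1 (nat_lit 0x90)
 (.cons 1 (nat_lit 0x40)
 (.cons 3 (nat_lit 0x184)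
 (.cons 6 (nat_lit 0x30)
 .nil)))))))
noncomputable def a46 : Net := (.cons 6 (nat_lit 0x8)
 (.cons 1 (nat_lit 0x8)
 (.cons 1 (nat_lit 0x10)
 (.cons 1 (nat_lit 0x8)
 .nil))))
noncomputable def a47 : Net := (.cons 6 (nat_lit 0x3e)
 (.cons 3 (nat_lit 0x184)
 (.cons 1 (nat_lit 0x8)
 (.cons 1 (nat_lit 0x410)
 (.cons 1 (nat_lit 0x40)
 (.cons 3 (nat_lit 0x6)
 (.cons 6 (nat_lit 0x36)
 .nil)))))))
noncomputable def a48 : Net := (.cons 6 (nat_lit 0x2c)
 (.cons 3 (nat_lit 0xc6)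
 (.cons 1 (nat_lit 0x200)
 (.cons 1 (nat_lit 0x490)
 (.cons 1 (nat_lit 0x48)
 (.cons 3 (nat_lit 0x4)
 (.cons 6 (nat_lit 0x30)
 .nil)))))))
noncomputable def a49 : Net := (.cons 6 (nat_lit 0x8)
 (.cons 3 (nat_lit 0x180)
 (.cons 1 (nat_lit 0x400)
 (.cons 1 (nat_lit 0x200)
 (.cons 3 (nat_lit 0x100)
 .nil)))))
noncomputable def a50 : Net := (.cons 6 (nat_lit 0x14)
 (.cons 3 (nat_lit 0x84)
 (.cons 1 (nat_lit 0x8)
 (.cons 1 (nat_lit 0x10)
 (.cons 1 (nat_lit 0x200)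
 (.cons 3 (nat_lit 0x84)
 (.cons 6 (nat_lit 0x1c)
 .nil)))))))
noncomputable def a51 : Net := (.cons 6 (nat_lit 0x30)
 (.cons 3 (nat_lit 0xc0)
 (.cons 1 (nat_lit 0x200)
 (.cons 1 (nat_lit 0x480)
 (.cons 1 (nat_lit 0x40)
 (.cons 3 (nat_lit 0x80)
 (.cons 6 (nat_lit 0x20)
 .nil)))))))
noncomputable def ns0 : List Net := [a0, a1]
noncomputable def ws : List (List ℕ) :=
  [W (nat_lit 0x400803),
  W (nat_lit 0x80200c02),
  W (nat_lit 0x501c0502006),
  W (nat_lit 0x1408),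
  W (nat_lit 0xa02c090300a),
  W (nat_lit 0x2c0902c0a02c0a),
  W (nat_lit 0x341004010),
  W (nat_lit 0xe03c0d0400e),
  W (nat_lit 0x441404812),
  W (nat_lit 0x1504c16),
  W (nat_lit 0x5814),
  W (nat_lit 0x170641706818),
  W (nat_lit 0x601a06018),
  W (nat_lit 0x1e0781c0741d),
  W (nat_lit 0x1b0781e06c1d),
  W (nat_lit 0x2008820),
  W (nat_lit 0x48120341102411),
  W (nat_lit 0x230841e),
  W (nat_lit 0x150481203410),
  W (nat_lit 0x3008),
  W (nat_lit 0x2307c1e06815054110340f02405),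
  W (nat_lit 0x6c1d0681a0541203c0c0200f),
  W (nat_lit 0x230781a05415044110400901407),
  W (nat_lit 0xb8310b42d0b4270b0320c82a0c4290b4290ac3109c25094250c42d),
  W (nat_lit 0x2c094320a0320b8320c8270c82d0b4320982d0ac280a0260b832),
  W (nat_lit 0x2c0a8250a4260a0320a82b098320a4250c42e),
  W (nat_lit 0x330d836),
  W (nat_lit 0xe4360ac31),
  W (nat_lit 0xd837),
  W (nat_lit 0x360dc2b),
  W (nat_lit 0xe433),
  W (nat_lit 0x320c8260c43109c2a0bc31094300c42e0b0250c031),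
  W (nat_lit 0x942b0b8280a82f0a02d0c82f0a8280a4280bc2d),
  W (nat_lit 0xb031098280b42a0a8300b03109c2e0942e09c2d),
  W (nat_lit 0x9c2b0a8260b02c0a4300a8250a8310b42a0bc290c82e0c82d),
  W (nat_lit 0x1104511c43120451204a11844),
  W (nat_lit 0x44110441184711c43124441144511c44),
  W (nat_lit 0x49110451284a1204510c4311c4610c49),
  W (nat_lit 0x4c1304f),
  W (nat_lit 0x12c4d),
  W (nat_lit 0x2307c1e05c1904c160480f02411),
  W (nat_lit 0x6c17054210481203410),
  W (nat_lit 0x2307c1a),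
  W (nat_lit 0x68150840d0240b),
  W (nat_lit 0x1605a16858),
  W (nat_lit 0x8c2106c1d05c12034120241902019),
  W (nat_lit 0x230841e05c19054120840f02011),
  W (nat_lit 0x5f1885f),
  W (nat_lit 0x6117c61),
  W (nat_lit 0x8c1f06c170641305812)]
noncomputable def ns : List Net := [a0, a1, a2, a3, a4, a5, a6, a7, a8, a9, a10, a11, a12, a13, a14, a15, a16, a17, a18, a19, a20, a21, a22, a23, a24, a25, a26, a27, a28, a29, a30, a31, a32, a33, a34, a35, a36, a37, a38, a39, a40, a41, a42, a43, a44, a45, a46, a47, a48, a49, a50, a51]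
noncomputable def D : List (ℕ × List ℕ) := app [] (mkDefs ws 2)
noncomputable def chk : List (List ℕ × List ℕ) → Bool := P.relsB ns
noncomputable def G_v0 : Lev :=
  ⟨0, 11, sg (W (nat_lit 0xc0300c0300c0300c0300c01)), [[4], [6]], 0, 2⟩
noncomputable def G_v1 : Lev :=
  ⟨1, 10, sg (W (nat_lit 0x701c0701c0701c0701c05)), [[8], [10]], 2, 2⟩
noncomputable def G_v2 : Lev :=
  ⟨2, 9, sg (W (nat_lit 0x2c0b02c0b02c0b02c09)), [[12], [14]], 4, 2⟩
noncomputable def G_v3 : Lev :=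
  ⟨3, 8, sg (W (nat_lit 0xf03c0f03c0d)), [[16], [18]], 6, 2⟩
noncomputable def G_v4 : Lev :=
  ⟨4, 7, sg (W (nat_lit 0x44110441104411)), [[18], [20]], 8, 1⟩
noncomputable def G_v5 : Lev :=
  ⟨5, 6, sg (W (nat_lit 0x150541505413)), [[22], [24]], 9, 2⟩
noncomputable def G_v6 : Lev :=
  ⟨6, 5, sg (W (nat_lit 0x641906417)), [[26], [28]], 11, 2⟩
noncomputable def G_v7 : Lev :=
  ⟨7, 4, sg (W (nat_lit 0x1d0741b)), [[30], [32]], 13, 2⟩
noncomputable def G_v8 : Lev :=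
  ⟨8, 3, sg (W (nat_lit 0x841f)), [[34]], 15, 1⟩
noncomputable def G_v9 : Lev :=
  ⟨9, 2, sg [34], [], 16, 0⟩
noncomputable def G_vs10 : List Lev :=
  []
noncomputable def G_vs9 : List Lev :=
  G_v9 :: G_vs10
noncomputable def G_vs8 : List Lev :=
  G_v8 :: G_vs9
noncomputable def G_vs7 : List Lev :=
  G_v7 :: G_vs8
noncomputable def G_vs6 : List Lev :=
  G_v6 :: G_vs7
noncomputable def G_vs5 : List Lev :=
  G_v5 :: G_vs6
noncomputable def G_vs4 : List Lev :=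
  G_v4 :: G_vs5
noncomputable def G_vs3 : List Lev :=
  G_v3 :: G_vs4
noncomputable def G_vs2 : List Lev :=
  G_v2 :: G_vs3
noncomputable def G_vs1 : List Lev :=
  G_v1 :: G_vs2
noncomputable def G_vs : List Lev :=
  G_v0 :: G_vs1
noncomputable def pc2_P_ps : List PcG :=
  [⟨[48], 2, W (nat_lit 0x3f0b43b), [W (nat_lit 0x1043d0e42d0ec2f), W (nat_lit 0xfc2d), W (nat_lit 0x410fc3b), W (nat_lit 0xfc3d), [56], [64], [62]]⟩,
  ⟨[46], 2, [], [[44], [58], [56], W (nat_lit 0xfc3d), [62], [64]]⟩,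
  ⟨[58], 2, W (nat_lit 0x410f439), [W (nat_lit 0x1042d), W (nat_lit 0xfc3d), W (nat_lit 0x10439), [64], [62]]⟩,
  ⟨[44], 2, W (nat_lit 0x1043f0f439), [[60], [56], [64], [62]]⟩,
  ⟨[56], 2, [], [[60], [62], [64]]⟩,
  ⟨[60], 2, [], [[62], [64]]⟩,
  ⟨[62], 2, [], [[64]]⟩,
  ⟨[64], 2, [], []⟩]
noncomputable def zE1 : List (ℕ × List ℕ) :=
  [(36, [64]),
  (38, [60]),
  (40, [56]),
  (42, W (nat_lit 0xfc3d))]
noncomputable def pc2_P_v0 : Lev :=
  ⟨6, 2, sg [46], [[36], [38], [40], [42], [44], [48]], 23, 0⟩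
noncomputable def pc2_P_v1 : Lev :=
  ⟨1, 8, sg (W (nat_lit 0xb4310b42b)), [[50], [52], [54]], 23, 3⟩
noncomputable def pc2_P_v2 : Lev :=
  ⟨7, 2, sg [54], [[50], [52]], 26, 0⟩
noncomputable def pc2_P_v3 : Lev :=
  ⟨2, 4, sg (W (nat_lit 0xd433)), [[56]], 26, 1⟩
noncomputable def pc2_P_v4 : Lev :=
  ⟨3, 2, sg [56], [], 27, 0⟩
noncomputable def pc2_P_vs5 : List Lev :=
  []
noncomputable def pc2_P_vs4 : List Lev :=
  pc2_P_v4 :: pc2_P_vs5
noncomputable def pc2_P_vs3 : List Lev :=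
  pc2_P_v3 :: pc2_P_vs4
noncomputable def pc2_P_vs2 : List Lev :=
  pc2_P_v2 :: pc2_P_vs3
noncomputable def pc2_P_vs1 : List Lev :=
  pc2_P_v1 :: pc2_P_vs2
noncomputable def pc2_P_vs : List Lev :=
  pc2_P_v0 :: pc2_P_vs1
noncomputable def pc2_s_ms : List ℕ :=
  [(nat_lit 0x80),
  (nat_lit 0x6dd),
  (nat_lit 0x24),
  (nat_lit 0x200)]
noncomputable def pc2_sG_v0 : Lev :=
  ⟨2, 8, sg (W (nat_lit 0xb42f0b425)), [[66], [68], [70], [72]], 31, 4⟩
noncomputable def pc2_sG_v1 : Lev :=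
  ⟨7, 4, sg (W (nat_lit 0x11c43)), [[74], [76], [78]], 35, 3⟩
noncomputable def pc2_sG_v2 : Lev :=
  ⟨1, 2, sg [74], [[80], [82]], 38, 2⟩
noncomputable def pc2_sG_v3 : Lev :=
  ⟨3, 2, sg [82], [[80]], 40, 0⟩
noncomputable def pc2_sG_v4 : Lev :=
  ⟨6, 2, sg [80], [], 40, 0⟩
noncomputable def pc2_sG_vs5 : List Lev :=
  []
noncomputable def pc2_sG_vs4 : List Lev :=
  pc2_sG_v4 :: pc2_sG_vs5
noncomputable def pc2_sG_vs3 : List Lev :=
  pc2_sG_v3 :: pc2_sG_vs4
noncomputable def pc2_sG_vs2 : List Lev :=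
  pc2_sG_v2 :: pc2_sG_vs3
noncomputable def pc2_sG_vs1 : List Lev :=
  pc2_sG_v1 :: pc2_sG_vs2
noncomputable def pc2_sG_vs : List Lev :=
  pc2_sG_v0 :: pc2_sG_vs1
noncomputable def pc2_s_x : List (ℕ × List ℕ) :=
  [((nat_lit 0), []),
  ((nat_lit 0), []),
  ((nat_lit 0), [(nat_lit 0x402)]),
  ((nat_lit 0), [(nat_lit 0x28)]),
  ((nat_lit 0), [(nat_lit 0x240)])]
noncomputable def pc2_s_G : Gl :=
  ⟨P, ns, (app D []), [], [], [], memM (app D []) [], true⟩
noncomputable def pc2_s_s : St :=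
  ⟨(mkS P.n pc2_sG_vs pc2_s_x), [[36], [38], [40], [42], [44], [46], [48]], [], diag pc2_s_ms, memM (app D []) [], []⟩
noncomputable def zt8 : ST :=
  (.and 2 1 (.br 0 [] [] [(2, [])] (.cons (.br 2 [] [] [(7, [])] (.cons (.orb 0 (.dif 0 5 (.br 0 [] [] [(1, [])] (.cons (.orb 0 (.and 0 8 (.br 0 [] [] [(3, [])] (.cons (.orb 0 (.dif 0 13 (.br 0 [] [] [(6, [])] (.cons .fnd
 .nil))))
 .nil))))
 .nil))))
 .nil))
 .nil)))
noncomputable def zus11 : List (List ℕ × ℕ) :=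
  [(W (nat_lit 0x300c020080200c03), (nat_lit 0x1)),
  (W (nat_lit 0x200c0100401), (nat_lit 0x5be)),
  (W (nat_lit 0x200c030080300c02), (nat_lit 0x240)),
  (W (nat_lit 0x300803), (nat_lit 0x1))]
noncomputable def zts13 : List (List ℕ) :=
  [W (nat_lit 0x48120341102411),
  W (nat_lit 0x230841e),
  W (nat_lit 0x150481203410),
  W (nat_lit 0x3008),
  W (nat_lit 0x2307c1e06815054110340f02405),
  W (nat_lit 0x6c1d0681a0541203c0c0200f),
  W (nat_lit 0x230781a05415044110400901407)]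
noncomputable def pc3_P_ps : List PcG :=
  [⟨[90], 3, W (nat_lit 0x5515457), [W (nat_lit 0x15c59), [84], W (nat_lit 0x1545515c57)]⟩,
  ⟨[88], 3, [], [[86], [84]]⟩,
  ⟨[86], 3, [], [[84]]⟩,
  ⟨[84], 3, [], []⟩]
noncomputable def pc3_P_v0 : Lev :=
  ⟨2, 9, sg (W (nat_lit 0x571545b16c55)), [[86], [88]], 44, 0⟩
noncomputable def pc3_P_v1 : Lev :=
  ⟨3, 3, sg (W (nat_lit 0x15c57)), [[88]], 44, 0⟩
noncomputable def pc3_P_v2 : Lev :=
  ⟨6, 3, sg (W (nat_lit 0x16459)), [], 44, 0⟩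
noncomputable def pc3_P_vs3 : List Lev :=
  []
noncomputable def pc3_P_vs2 : List Lev :=
  pc3_P_v2 :: pc3_P_vs3
noncomputable def pc3_P_vs1 : List Lev :=
  pc3_P_v1 :: pc3_P_vs2
noncomputable def pc3_P_vs : List Lev :=
  pc3_P_v0 :: pc3_P_vs1
noncomputable def pc3_s_ms : List ℕ :=
  [(nat_lit 0x57f),
  (nat_lit 0x4)]
noncomputable def pc3_sG_v0 : Lev :=
  ⟨2, 9, sg (W (nat_lit 0x571545b16c55)), [[86], [88]], 44, 0⟩
noncomputable def pc3_sG_v1 : Lev :=
  ⟨7, 3, sg (W (nat_lit 0x15c57)), [[92]], 44, 1⟩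
noncomputable def pc3_sG_v2 : Lev :=
  ⟨9, 3, sg (W (nat_lit 0x1745d)), [], 45, 0⟩
noncomputable def pc3_sG_vs3 : List Lev :=
  []
noncomputable def pc3_sG_vs2 : List Lev :=
  pc3_sG_v2 :: pc3_sG_vs3
noncomputable def pc3_sG_vs1 : List Lev :=
  pc3_sG_v1 :: pc3_sG_vs2
noncomputable def pc3_sG_vs : List Lev :=
  pc3_sG_v0 :: pc3_sG_vs1
noncomputable def pc3_s_x : List (ℕ × List ℕ) :=
  [((nat_lit 0), []),
  ((nat_lit 0), [(nat_lit 0x4c0)]),
  ((nat_lit 0), [(nat_lit 0x228)])]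
noncomputable def pc3_s_G : Gl :=
  ⟨P, ns, (app D []), [], [], [], memM (app D []) [], true⟩
noncomputable def pc3_s_s : St :=
  ⟨(mkS P.n pc3_sG_vs pc3_s_x), [[84], [86], [88], [90]], [], diag pc3_s_ms, memM (app D []) [], []⟩
noncomputable def zt21 : ST :=
  (.br 1 [] [] [(2, [])] (.cons (.orb 0 (.dif 0 2 (.br 0 [] [] [(7, [])] (.cons (.orb 0 (.dif 0 5 (.br 0 [] [] [(9, [])] (.cons .fnd
 .nil))))
 .nil))))
 .nil))
noncomputable def zus24 : List (List ℕ × ℕ) :=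
  [(W (nat_lit 0x300c030040100403), (nat_lit 0x7fc)),
  (W (nat_lit 0x10100100c0100c02), (nat_lit 0x1))]
noncomputable def zts26 : List (List ℕ) :=
  [W (nat_lit 0x2307c1e05c1904c160480f02411),
  W (nat_lit 0x6c17054210481203410),
  W (nat_lit 0x2307c1a),
  W (nat_lit 0x68150840d0240b)]
noncomputable def pc5_P_ps : List PcG :=
  [⟨[96], 5, [], [[94]]⟩,
  ⟨[94], 5, [], []⟩]
noncomputable def pc5_P_v0 : Lev :=
  ⟨1, 5, sg (W (nat_lit 0x5f1845f)), [[98]], 47, 1⟩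
noncomputable def pc5_P_v1 : Lev :=
  ⟨3, 5, sg (W (nat_lit 0x18c6318c63)), [], 48, 0⟩
noncomputable def pc5_P_vs2 : List Lev :=
  []
noncomputable def pc5_P_vs1 : List Lev :=
  pc5_P_v1 :: pc5_P_vs2
noncomputable def pc5_P_vs : List Lev :=
  pc5_P_v0 :: pc5_P_vs1
noncomputable def pc5_s_ms : List ℕ :=
  [(nat_lit 0x43a)]
noncomputable def pc5_sG_v0 : Lev :=
  ⟨2, 5, sg (W (nat_lit 0x5f1845f)), [[100]], 48, 1⟩
noncomputable def pc5_sG_v1 : Lev :=
  ⟨3, 5, sg (W (nat_lit 0x1946519465)), [], 49, 0⟩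
noncomputable def pc5_sG_vs2 : List Lev :=
  []
noncomputable def pc5_sG_vs1 : List Lev :=
  pc5_sG_v1 :: pc5_sG_vs2
noncomputable def pc5_sG_vs : List Lev :=
  pc5_sG_v0 :: pc5_sG_vs1
noncomputable def pc5_s_x : List (ℕ × List ℕ) :=
  [((nat_lit 0x1000000000000), [(nat_lit 0x76)]),
  ((nat_lit 0x4000000000000), [(nat_lit 0x2)]),
  ((nat_lit 0), [(nat_lit 0x200)])]
noncomputable def pc5_s_G : Gl :=
  ⟨P, ns, (app D []), [], [], [], memM (app D []) [], true⟩
noncomputable def pc5_s_s : St :=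
  ⟨(mkS P.n pc5_sG_vs pc5_s_x), [[94], [96]], [], diag pc5_s_ms, memM (app D []) [], []⟩
noncomputable def zt34 : ST :=
  (.orb 0 (.dif 0 1 (.br 0 [] [] [(6, [97]), (2, [])] (.cons (.orb 0 (.and 0 4 (.mis 0)))
 (.cons (.dif 3 2 (.br 0 [] [] [(10, W (nat_lit 0x19866)), (3, [])] (.cons (.orb 0 (.and 2 0 (.mis 0)))
 (.cons .fnd
 .nil))))
 .nil)))))
noncomputable def zus37 : List (List ℕ × ℕ) :=
  [(W (nat_lit 0x40100c02), (nat_lit 0x76))]
noncomputable def zts39 : List (List ℕ) :=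
  [W (nat_lit 0x8c2106c1d05c12034120241902019),
  W (nat_lit 0x230841e05c19054120840f02011)]
noncomputable def pc7_P_ps : List PcG :=
  [⟨[102], 7, [], []⟩]
noncomputable def pc7_P_v0 : Lev :=
  ⟨4, 7, sg (W (nat_lit 0x19c6719c6719c67)), [], 50, 0⟩
noncomputable def pc7_P_vs1 : List Lev :=
  []
noncomputable def pc7_P_vs : List Lev :=
  pc7_P_v0 :: pc7_P_vs1
noncomputable def pc7_s_ms : List ℕ :=
  [(nat_lit 0x200)]
noncomputable def pc7_sG_v0 : Lev :=
  ⟨9, 7, sg (W (nat_lit 0x19c6719c6719c67)), [], 50, 0⟩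
noncomputable def pc7_sG_vs1 : List Lev :=
  []
noncomputable def pc7_sG_vs : List Lev :=
  pc7_sG_v0 :: pc7_sG_vs1
noncomputable def pc7_s_x : List (ℕ × List ℕ) :=
  [((nat_lit 0), [])]
noncomputable def pc7_s_G : Gl :=
  ⟨P, ns, (app D []), [], [], [], memM (app D []) [], true⟩
noncomputable def pc7_s_s : St :=
  ⟨(mkS P.n pc7_sG_vs pc7_s_x), [[102]], [], diag pc7_s_ms, memM (app D []) [], []⟩
noncomputable def zt47 : ST :=
  (.br 0 [] [] [(9, [])] (.cons .fnd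
 .nil))
noncomputable def zus50 : List (List ℕ × ℕ) :=
  [(W (nat_lit 0x10040300c02), (nat_lit 0x2))]
noncomputable def zts52 : List (List ℕ) :=
  [W (nat_lit 0x8c1f06c170641305812)]

theorem zc0 : P.chainB ns D G_vs [[0], [2]] = true := by decide +kernel
theorem zr2 : chk (pcsR pc2_P_ps []) = true := by decide +kernel
theorem zr3 : chk (defRels zE1) = true := by decide +kernel
theorem zb4 : bnd (pcsB D pc2_P_ps []) (leB (app D zE1) [[36], [38], [40], [42], [44], [46], [48]] (pcGens pc2_P_ps [])) = true := by decide +kernel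
theorem zc5 : P.chainB ns D pc2_P_vs [[36], [38], [40], [42], [44], [46], [48]] = true := by decide +kernel
theorem zc6 : P.chainB ns D pc2_sG_vs [[36], [38], [40], [42], [44], [46], [48]] = true := by decide +kernel
theorem zs7 : ssB P.N ns D (mkS P.n pc2_sG_vs pc2_s_x) [[36], [38], [40], [42], [44], [46], [48]] = true := by decide +kernel
theorem zs9 : pc2_s_G.chk zt8 pc2_s_s none = true := by decide +kernel
theorem zm10 : bnd (allL (invB P.N ns []) pc2_s_ms) (leB D [] [[36], [38], [40], [42], [44], [46], [48]]) = true := by decide +kernel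
theorem zm12 : P.coreB ns D [[0], [2]] [[36], [38], [40], [42], [44], [46], [48]] zus11 pc2_s_ms = true := by decide +kernel
theorem zm14 : leB D zts13 [[0], [2]] = true := by decide +kernel
theorem zr15 : chk (zp [] [[36], [38], [40], [42], [44], [46], [48]] zts13) = true := by decide +kernel
theorem zr16 : chk (pcsR pc3_P_ps []) = true := by decide +kernel
theorem zb17 : bnd (pcsB D pc3_P_ps []) (leB (app D []) [[84], [86], [88], [90]] (pcGens pc3_P_ps [])) = true := by decide +kernel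
theorem zc18 : P.chainB ns D pc3_P_vs [[84], [86], [88], [90]] = true := by decide +kernel
theorem zc19 : P.chainB ns D pc3_sG_vs [[84], [86], [88], [90]] = true := by decide +kernel
theorem zs20 : ssB P.N ns D (mkS P.n pc3_sG_vs pc3_s_x) [[84], [86], [88], [90]] = true := by decide +kernel
theorem zs22 : pc3_s_G.chk zt21 pc3_s_s none = true := by decide +kernel
theorem zm23 : bnd (allL (invB P.N ns []) pc3_s_ms) (leB D [] [[84], [86], [88], [90]]) = true := by decide +kernel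
theorem zm25 : P.coreB ns D [[0], [2]] [[84], [86], [88], [90]] zus24 pc3_s_ms = true := by decide +kernel
theorem zm27 : leB D zts26 [[0], [2]] = true := by decide +kernel
theorem zr28 : chk (zp [] [[84], [86], [88], [90]] zts26) = true := by decide +kernel
theorem zr29 : chk (pcsR pc5_P_ps []) = true := by decide +kernel
theorem zb30 : bnd (pcsB D pc5_P_ps []) (leB (app D []) [[94], [96]] (pcGens pc5_P_ps [])) = true := by decide +kernel
theorem zc31 : P.chainB ns D pc5_P_vs [[94], [96]] = true := by decide +kernel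
theorem zc32 : P.chainB ns D pc5_sG_vs [[94], [96]] = true := by decide +kernel
theorem zs33 : ssB P.N ns D (mkS P.n pc5_sG_vs pc5_s_x) [[94], [96]] = true := by decide +kernel
theorem zs35 : pc5_s_G.chk zt34 pc5_s_s none = true := by decide +kernel
theorem zm36 : bnd (allL (invB P.N ns []) pc5_s_ms) (leB D [] [[94], [96]]) = true := by decide +kernel
theorem zm38 : P.coreB ns D [[0], [2]] [[94], [96]] zus37 pc5_s_ms = true := by decide +kernel
theorem zm40 : leB D zts39 [[0], [2]] = true := by decide +kernel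
theorem zr41 : chk (zp [] [[94], [96]] zts39) = true := by decide +kernel
theorem zr42 : chk (pcsR pc7_P_ps []) = true := by decide +kernel
theorem zb43 : bnd (pcsB D pc7_P_ps []) (leB (app D []) [[102]] (pcGens pc7_P_ps [])) = true := by decide +kernel
theorem zc44 : P.chainB ns D pc7_P_vs [[102]] = true := by decide +kernel
theorem zc45 : P.chainB ns D pc7_sG_vs [[102]] = true := by decide +kernel
theorem zs46 : ssB P.N ns D (mkS P.n pc7_sG_vs pc7_s_x) [[102]] = true := by decide +kernel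
theorem zs48 : pc7_s_G.chk zt47 pc7_s_s none = true := by decide +kernel
theorem zm49 : bnd (allL (invB P.N ns []) pc7_s_ms) (leB D [] [[102]]) = true := by decide +kernel
theorem zm51 : P.coreB ns D [[0], [2]] [[102]] zus50 pc7_s_ms = true := by decide +kernel
theorem zm53 : leB D zts52 [[0], [2]] = true := by decide +kernel
theorem zr54 : chk (zp [] [[102]] zts52) = true := by decide +kernel
theorem zk55 : allL (keepB P.n P.N) ns0 = true := by decide +kernel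
theorem ze56 : extB ns0 ns 2 ws [] = true := by decide +kernel
theorem zn57 : P.netsB ns (mkDefs ws 2) = true := by decide +kernel

section
variable {G X : Type*} [Group G] [MulAction G X] {e : ℕ → X} {gs : List G}

theorem keep0 : allL (keepB P.n P.N) ns0 = true := zk55

theorem len {k} (c : Ctx P e gs ns0 [] k) : gs.length = 2 := c.len ze56

theorem ctx0 {k} (c : Ctx P e gs ns0 [] k) : Ctx P e (ext gs ws) ns D chk0 :=
  c.ext rfl ze56 zn57

theorem ctx {k} (c : Ctx P e gs ns0 [] k) {H : Subgroup G} (hF : Faithful e P.n H) (hH : ∀ g ∈ gs, g ∈ H) :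
    Ctx P e (ext gs ws) ns D chk :=
  (ctx0 c).withB hF (mem_of_mem_ext hH _)

instance instNe : NeZero P.n := ⟨by decide⟩
noncomputable def gs0 : List (Equiv.Perm (Fin P.n)) := permsOf P.n P.N ns0
noncomputable def gs1 : List (Equiv.Perm (Fin P.n)) := ext gs0 ws
theorem c1 : Ctx P (eF P.n) gs1 ns D chk :=
  ctx (ctx_permsOf hP keep0) (faithful_eF _) fun _ _ => trivial

theorem G_c : P.chainB ns D G_vs [[0], [2]] = true :=
  zc0

theorem G_o : prodL G_vs 1 = 39916800 := by decide +kernel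

theorem G_lb (c : Ctx P e gs ns D chk) :
    LB (subW gs [[0], [2]]) 39916800 :=
  c.lb G_c G_o

theorem top : (subW gs1 [[0], [2]]) = ⊤ := eq_top_of_lb (G_lb c1) (card_perm_fin 11 (by decide)) (by norm_num)
theorem iso : Nonempty ((subW gs1 [[0], [2]]) ≃* Equiv.Perm (Fin 11)) := equiv_of_eq_top top
theorem card : Nat.card (subW gs1 [[0], [2]]) = 39916800 := (Nat.card_congr iso.some.toEquiv).trans (card_perm_fin 11 (by decide))

theorem ub : UB (subW gs1 [[0], [2]]) 39916800 := UB.of_card card (by norm_num)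

theorem pc2_P_pr (c : Ctx P e gs ns D chk) :
    Rels gs (pcsR pc2_P_ps []) :=
  (c.rels _ zr2)

theorem pc2_P_pe (c : Ctx P e gs ns D chk) :
    Rels gs (defRels zE1) :=
  (c.rels _ zr3)

theorem pc2_P_pb : bnd (pcsB D pc2_P_ps []) (leB (app D zE1) [[36], [38], [40], [42], [44], [46], [48]] (pcGens pc2_P_ps [])) = true := zb4

theorem pc2_P_ub (c : Ctx P e gs ns D chk) :
    UB (subW gs [[36], [38], [40], [42], [44], [46], [48]]) 256 :=
  c.pcs (UB.nil gs) (pc2_P_pe c) (pc2_P_pr c) pc2_P_pb (by decide +kernel)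

theorem pc2_P_c : P.chainB ns D pc2_P_vs [[36], [38], [40], [42], [44], [46], [48]] = true :=
  zc5

theorem pc2_P_o : prodL pc2_P_vs 1 = 256 := by decide +kernel

theorem pc2_P_lb (c : Ctx P e gs ns D chk) :
    LB (subW gs [[36], [38], [40], [42], [44], [46], [48]]) 256 :=
  c.lb pc2_P_c pc2_P_o

theorem pc2_P_card (c : Ctx P e gs ns D chk) :
    Nat.card (subW gs [[36], [38], [40], [42], [44], [46], [48]]) = 256 :=
  (pc2_P_ub c).card_eq (pc2_P_lb c)

theorem pc2_sG_c : P.chainB ns D pc2_sG_vs [[36], [38], [40], [42], [44], [46], [48]] = true :=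
  zc6

theorem pc2_sG_o : prodL pc2_sG_vs 1 = 256 := by decide +kernel

theorem pc2_s (c : Ctx P e gs ns D chk) :
    ∀ g, g ∈ (subW gs []) ↔ g ∈ (subW gs [[36], [38], [40], [42], [44], [46], [48]]) ∧ ∀ m ∈ pc2_s_ms, g ∈ sstab G (mset e P.n m) :=
  c.setStab (Rels.nil _) (c.sOk (c.exact pc2_sG_c pc2_sG_o (pc2_P_ub c)) zs7) (fun _ h => by cases h) zm10 zs9

theorem pc2 (c : Ctx P e gs ns D chk) (hK : Nat.card (subW gs [[0], [2]]) = 39916800) :
    Cfsg.pCore 2 (subW gs [[0], [2]]) = ⊥ :=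
  pCore_eq_bot_of_le (c.pCoreOf_le (p := 2) (by norm_num) (b := 155925) hK (pc2_P_card c) (by norm_num) (c.le_of_rels (ws := [[36], [38], [40], [42], [44], [46], [48]]) (l := [[0], [2]]) (c.rels _ zr15) zm14) zm12 (pc2_s c))

theorem core2 : Cfsg.pCore 2 (subW gs1 [[0], [2]]) = ⊥ := pc2 c1 card

theorem pc3_P_pr (c : Ctx P e gs ns D chk) :
    Rels gs (pcsR pc3_P_ps []) :=
  (c.rels _ zr16)

theorem pc3_P_pe (c : Ctx P e gs ns D chk) :
    Rels gs (defRels []) :=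
  (Rels.nil _)

theorem pc3_P_pb : bnd (pcsB D pc3_P_ps []) (leB (app D []) [[84], [86], [88], [90]] (pcGens pc3_P_ps [])) = true := zb17

theorem pc3_P_ub (c : Ctx P e gs ns D chk) :
    UB (subW gs [[84], [86], [88], [90]]) 81 :=
  c.pcs (UB.nil gs) (pc3_P_pe c) (pc3_P_pr c) pc3_P_pb (by decide +kernel)

theorem pc3_P_c : P.chainB ns D pc3_P_vs [[84], [86], [88], [90]] = true :=
  zc18

theorem pc3_P_o : prodL pc3_P_vs 1 = 81 := by decide +kernel

theorem pc3_P_lb (c : Ctx P e gs ns D chk) :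
    LB (subW gs [[84], [86], [88], [90]]) 81 :=
  c.lb pc3_P_c pc3_P_o

theorem pc3_P_card (c : Ctx P e gs ns D chk) :
    Nat.card (subW gs [[84], [86], [88], [90]]) = 81 :=
  (pc3_P_ub c).card_eq (pc3_P_lb c)

theorem pc3_sG_c : P.chainB ns D pc3_sG_vs [[84], [86], [88], [90]] = true :=
  zc19

theorem pc3_sG_o : prodL pc3_sG_vs 1 = 81 := by decide +kernel

theorem pc3_s (c : Ctx P e gs ns D chk) :
    ∀ g, g ∈ (subW gs []) ↔ g ∈ (subW gs [[84], [86], [88], [90]]) ∧ ∀ m ∈ pc3_s_ms, g ∈ sstab G (mset e P.n m) :=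
  c.setStab (Rels.nil _) (c.sOk (c.exact pc3_sG_c pc3_sG_o (pc3_P_ub c)) zs20) (fun _ h => by cases h) zm23 zs22

theorem pc3 (c : Ctx P e gs ns D chk) (hK : Nat.card (subW gs [[0], [2]]) = 39916800) :
    Cfsg.pCore 3 (subW gs [[0], [2]]) = ⊥ :=
  pCore_eq_bot_of_le (c.pCoreOf_le (p := 3) (by norm_num) (b := 492800) hK (pc3_P_card c) (by norm_num) (c.le_of_rels (ws := [[84], [86], [88], [90]]) (l := [[0], [2]]) (c.rels _ zr28) zm27) zm25 (pc3_s c))

theorem core3 : Cfsg.pCore 3 (subW gs1 [[0], [2]]) = ⊥ := pc3 c1 card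

theorem pc5_P_pr (c : Ctx P e gs ns D chk) :
    Rels gs (pcsR pc5_P_ps []) :=
  (c.rels _ zr29)

theorem pc5_P_pe (c : Ctx P e gs ns D chk) :
    Rels gs (defRels []) :=
  (Rels.nil _)

theorem pc5_P_pb : bnd (pcsB D pc5_P_ps []) (leB (app D []) [[94], [96]] (pcGens pc5_P_ps [])) = true := zb30

theorem pc5_P_ub (c : Ctx P e gs ns D chk) :
    UB (subW gs [[94], [96]]) 25 :=
  c.pcs (UB.nil gs) (pc5_P_pe c) (pc5_P_pr c) pc5_P_pb (by decide +kernel)

theorem pc5_P_c : P.chainB ns D pc5_P_vs [[94], [96]] = true :=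
  zc31

theorem pc5_P_o : prodL pc5_P_vs 1 = 25 := by decide +kernel

theorem pc5_P_lb (c : Ctx P e gs ns D chk) :
    LB (subW gs [[94], [96]]) 25 :=
  c.lb pc5_P_c pc5_P_o

theorem pc5_P_card (c : Ctx P e gs ns D chk) :
    Nat.card (subW gs [[94], [96]]) = 25 :=
  (pc5_P_ub c).card_eq (pc5_P_lb c)

theorem pc5_sG_c : P.chainB ns D pc5_sG_vs [[94], [96]] = true :=
  zc32

theorem pc5_sG_o : prodL pc5_sG_vs 1 = 25 := by decide +kernel

theorem pc5_s (c : Ctx P e gs ns D chk) :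
    ∀ g, g ∈ (subW gs []) ↔ g ∈ (subW gs [[94], [96]]) ∧ ∀ m ∈ pc5_s_ms, g ∈ sstab G (mset e P.n m) :=
  c.setStab (Rels.nil _) (c.sOk (c.exact pc5_sG_c pc5_sG_o (pc5_P_ub c)) zs33) (fun _ h => by cases h) zm36 zs35

theorem pc5 (c : Ctx P e gs ns D chk) (hK : Nat.card (subW gs [[0], [2]]) = 39916800) :
    Cfsg.pCore 5 (subW gs [[0], [2]]) = ⊥ :=
  pCore_eq_bot_of_le (c.pCoreOf_le (p := 5) (by norm_num) (b := 1596672) hK (pc5_P_card c) (by norm_num) (c.le_of_rels (ws := [[94], [96]]) (l := [[0], [2]]) (c.rels _ zr41) zm40) zm38 (pc5_s c))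

theorem core5 : Cfsg.pCore 5 (subW gs1 [[0], [2]]) = ⊥ := pc5 c1 card

theorem pc7_P_pr (c : Ctx P e gs ns D chk) :
    Rels gs (pcsR pc7_P_ps []) :=
  (c.rels _ zr42)

theorem pc7_P_pe (c : Ctx P e gs ns D chk) :
    Rels gs (defRels []) :=
  (Rels.nil _)

theorem pc7_P_pb : bnd (pcsB D pc7_P_ps []) (leB (app D []) [[102]] (pcGens pc7_P_ps [])) = true := zb43

theorem pc7_P_ub (c : Ctx P e gs ns D chk) :
    UB (subW gs [[102]]) 7 :=
  c.pcs (UB.nil gs) (pc7_P_pe c) (pc7_P_pr c) pc7_P_pb (by decide +kernel)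

theorem pc7_P_c : P.chainB ns D pc7_P_vs [[102]] = true :=
  zc44

theorem pc7_P_o : prodL pc7_P_vs 1 = 7 := by decide +kernel

theorem pc7_P_lb (c : Ctx P e gs ns D chk) :
    LB (subW gs [[102]]) 7 :=
  c.lb pc7_P_c pc7_P_o

theorem pc7_P_card (c : Ctx P e gs ns D chk) :
    Nat.card (subW gs [[102]]) = 7 :=
  (pc7_P_ub c).card_eq (pc7_P_lb c)

theorem pc7_sG_c : P.chainB ns D pc7_sG_vs [[102]] = true :=
  zc45

theorem pc7_sG_o : prodL pc7_sG_vs 1 = 7 := by decide +kernel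

theorem pc7_s (c : Ctx P e gs ns D chk) :
    ∀ g, g ∈ (subW gs []) ↔ g ∈ (subW gs [[102]]) ∧ ∀ m ∈ pc7_s_ms, g ∈ sstab G (mset e P.n m) :=
  c.setStab (Rels.nil _) (c.sOk (c.exact pc7_sG_c pc7_sG_o (pc7_P_ub c)) zs46) (fun _ h => by cases h) zm49 zs48

theorem pc7 (c : Ctx P e gs ns D chk) (hK : Nat.card (subW gs [[0], [2]]) = 39916800) :
    Cfsg.pCore 7 (subW gs [[0], [2]]) = ⊥ :=
  pCore_eq_bot_of_le (c.pCoreOf_le (p := 7) (by norm_num) (b := 5702400) hK (pc7_P_card c) (by norm_num) (c.le_of_rels (ws := [[102]]) (l := [[0], [2]]) (c.rels _ zr54) zm53) zm51 (pc7_s c))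

theorem core7 : Cfsg.pCore 7 (subW gs1 [[0], [2]]) = ⊥ := pc7 c1 card

end
end CL.Std.S11

namespace CL.Std.A11
open CL.PG

def P : Par := ⟨11, 12, 4, 2⟩
theorem hP : P.Ok := by decide
noncomputable def a0 : Net := (.cons 1 (nat_lit 0x1)
 (.cons 1 (nat_lit 0x2)
 .nil))
noncomputable def a1 : Net := (.cons 6 (nat_lit 0x1)
 (.cons 3 (nat_lit 0x41)
 (.cons 1 (nat_lit 0x49)
 (.cons 1 (nat_lit 0x92)
 (.cons 1 (nat_lit 0x200)
 .nil)))))
noncomputable def a2 : Net := (.cons 3 (nat_lit 0x6)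
 (.cons 1 (nat_lit 0x10)
 (.cons 1 (nat_lit 0x8)
 (.cons 3 (nat_lit 0x6)
 .nil))))
noncomputable def a3 : Net := (.cons 6 (nat_lit 0x20)
 (.cons 3 (nat_lit 0x44)
 (.cons 1 (nat_lit 0x248)
 (.cons 1 (nat_lit 0x490)
 (.cons 3 (nat_lit 0x4)
 (.cons 6 (nat_lit 0x30)
 .nil))))))
noncomputable def a4 : Net := (.cons 6 (nat_lit 0x20)
 (.cons 3 (nat_lit 0xc0)
 (.cons 1 (nat_lit 0x480)
 (.cons 1 (nat_lit 0x240)
 (.cons 6 (nat_lit 0x38)
 .nil)))))
noncomputable def a5 : Net := (.cons 3 (nat_lit 0x6)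
 (.cons 1 (nat_lit 0x8)
 (.cons 1 (nat_lit 0x12)
 (.cons 1 (nat_lit 0x8)
 (.cons 3 (nat_lit 0x6)
 .nil)))))
noncomputable def a6 : Net := (.cons 1 (nat_lit 0x48)
 .nil)
noncomputable def a7 : Net := (.cons 6 (nat_lit 0x30)
 (.cons 3 (nat_lit 0x180)
 (.cons 1 (nat_lit 0x240)
 (.cons 1 (nat_lit 0x480)
 (.cons 1 (nat_lit 0x200)
 (.cons 6 (nat_lit 0x20)
 .nil))))))
noncomputable def a8 : Net := (.cons 6 (nat_lit 0x32)
 (.cons 3 (nat_lit 0x42)
 (.cons 1 (nat_lit 0x240)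
 (.cons 1 (nat_lit 0x480)
 (.cons 1 (nat_lit 0x40)
 (.cons 6 (nat_lit 0x22)
 .nil))))))
noncomputable def a9 : Net := (.cons 6 (nat_lit 0x20)
 (.cons 3 (nat_lit 0x140)
 (.cons 1 (nat_lit 0x40)
 (.cons 1 (nat_lit 0x80)
 (.cons 1 (nat_lit 0x240)
 (.cons 3 (nat_lit 0x180)
 (.cons 6 (nat_lit 0x20)
 .nil)))))))
noncomputable def a10 : Net := (.cons 1 (nat_lit 0x80)
 (.cons 1 (nat_lit 0x200)
 .nil))
noncomputable def a11 : Net := (.cons 3 (nat_lit 0x140)
 (.cons 1 (nat_lit 0x400)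
 (.cons 1 (nat_lit 0x200)
 (.cons 3 (nat_lit 0x180)
 .nil))))
noncomputable def a12 : Net := (.cons 3 (nat_lit 0x100)
 (.cons 1 (nat_lit 0x400)
 (.cons 1 (nat_lit 0x200)
 (.cons 3 (nat_lit 0x100)
 .nil))))
noncomputable def ns0 : List Net := [a0, a1]
noncomputable def ws : List (List ℕ) :=
  [W (nat_lit 0x400803),
  W (nat_lit 0xc02),
  W (nat_lit 0x70180701405),
  W (nat_lit 0x1808018080140701c05),
  W (nat_lit 0xb0280c0280a0280c),
  W (nat_lit 0x34090380a0380a),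
  W (nat_lit 0x90240e024090240e),
  W (nat_lit 0x481203c0f),
  W (nat_lit 0x401103c0f),
  W (nat_lit 0x4c1305814),
  W (nat_lit 0x160601805418)]
noncomputable def ns : List Net := [a0, a1, a2, a3, a4, a5, a6, a7, a8, a9, a10, a11, a12]
noncomputable def D : List (ℕ × List ℕ) := app [] (mkDefs ws 2)
noncomputable def chk : List (List ℕ × List ℕ) → Bool := P.relsB ns
noncomputable def G_v0 : Lev :=
  ⟨0, 11, sg (W (nat_lit 0x300c0300c0300c0300c01)), [[4], [6]], 0, 2⟩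
noncomputable def G_v1 : Lev :=
  ⟨1, 10, sg (W (nat_lit 0x701c0701c0701c0701405)), [[8], [10]], 2, 2⟩
noncomputable def G_v2 : Lev :=
  ⟨2, 9, sg (W (nat_lit 0x24090240b024090240b)), [[12], [9]], 4, 1⟩
noncomputable def G_v3 : Lev :=
  ⟨3, 8, sg (W (nat_lit 0x280a0280d)), [[14], [16]], 5, 2⟩
noncomputable def G_v4 : Lev :=
  ⟨4, 7, sg (W (nat_lit 0x3c0f0440f)), [[18], [20]], 7, 2⟩
noncomputable def G_v5 : Lev :=
  ⟨5, 6, sg (W (nat_lit 0x541304c13)), [[22], [20]], 9, 1⟩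
noncomputable def G_v6 : Lev :=
  ⟨6, 5, sg (W (nat_lit 0x1505c17)), [[20], [24]], 10, 1⟩
noncomputable def G_v7 : Lev :=
  ⟨7, 4, sg (W (nat_lit 0x1506415)), [[24]], 11, 0⟩
noncomputable def G_v8 : Lev :=
  ⟨8, 3, sg (W (nat_lit 0x6419)), [], 11, 0⟩
noncomputable def G_vs9 : List Lev :=
  []
noncomputable def G_vs8 : List Lev :=
  G_v8 :: G_vs9
noncomputable def G_vs7 : List Lev :=
  G_v7 :: G_vs8
noncomputable def G_vs6 : List Lev :=
  G_v6 :: G_vs7
noncomputable def G_vs5 : List Lev :=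
  G_v5 :: G_vs6
noncomputable def G_vs4 : List Lev :=
  G_v4 :: G_vs5
noncomputable def G_vs3 : List Lev :=
  G_v3 :: G_vs4
noncomputable def G_vs2 : List Lev :=
  G_v2 :: G_vs3
noncomputable def G_vs1 : List Lev :=
  G_v1 :: G_vs2
noncomputable def G_vs : List Lev :=
  G_v0 :: G_vs1
noncomputable def zt1 : List ℕ :=
  []
noncomputable def zcj2 : List (List ℕ) :=
  []
noncomputable def zus5 : List (List ℕ) :=
  [[20],
  W (nat_lit 0x5419),
  W (nat_lit 0x541a)]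
noncomputable def zF6 : List (List (ℕ × List ℕ)) :=
  [[(1, []),
   (0, []),
   (3, [25]),
   (2, [24])],
  [(0, [24]),
   (2, []),
   (3, []),
   (1, [])]]
noncomputable def zus9 : List (List ℕ) :=
  [[22],
  [23],
  W (nat_lit 0x5c17),
  W (nat_lit 0x5c15)]
noncomputable def zF10 : List (List (ℕ × List ℕ)) :=
  [[(1, []),
   (3, []),
   (0, []),
   (4, W (nat_lit 0x5419)),
   (2, W (nat_lit 0x6815))],
  [(0, [20]),
   (4, []),
   (3, [25]),
   (2, [24]),
   (1, [])]]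
noncomputable def zus13 : List (List ℕ) :=
  [[18],
  [19],
  W (nat_lit 0x4c13),
  W (nat_lit 0x5014),
  W (nat_lit 0x4c17)]
noncomputable def zF14 : List (List (ℕ × List ℕ)) :=
  [[(1, []),
   (3, []),
   (0, []),
   (4, []),
   (2, []),
   (5, W (nat_lit 0x641506418))],
  [(0, [20]),
   (3, [23]),
   (2, W (nat_lit 0x190541a05c17)),
   (1, [22]),
   (5, W (nat_lit 0x641506418)),
   (4, W (nat_lit 0x1a05c15))]]
noncomputable def zus17 : List (List ℕ) :=
  [[14],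
  [15],
  [16],
  [17],
  W (nat_lit 0x3c11),
  W (nat_lit 0x3c18)]
noncomputable def zF18 : List (List (ℕ × List ℕ)) :=
  [[(1, []),
   (3, W (nat_lit 0x1a05414)),
   (0, []),
   (5, W (nat_lit 0x641506818)),
   (6, W (nat_lit 0x150641804c17)),
   (4, []),
   (2, W (nat_lit 0x150681704c13))],
  [(3, []),
   (5, []),
   (6, W (nat_lit 0x190541a04c13)),
   (1, W (nat_lit 0x1506413)),
   (0, []),
   (2, W (nat_lit 0x641506818)),
   (4, W (nat_lit 0x541a05c13))]]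
noncomputable def zus21 : List (List ℕ) :=
  [[12],
  [9],
  [8],
  W (nat_lit 0x2813),
  W (nat_lit 0x2818),
  W (nat_lit 0x280a),
  W (nat_lit 0x280f)]
noncomputable def zF22 : List (List (ℕ × List ℕ)) :=
  [[(1, []),
   (0, []),
   (2, W (nat_lit 0x5c14)),
   (3, W (nat_lit 0x64150681803c11)),
   (4, W (nat_lit 0x6815064170541305c12)),
   (6, W (nat_lit 0x68150641704c17)),
   (5, W (nat_lit 0x541904c13)),
   (7, W (nat_lit 0x1a05c1704c0f))],
  [(2, []),
   (4, W (nat_lit 0x6415068170541304c11)),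
   (6, []),
   (0, []),
   (7, W (nat_lit 0x681705c1304c12)),
   (1, W (nat_lit 0x1a0541905c1305c11)),
   (3, []),
   (5, W (nat_lit 0x68150601405011))]]
noncomputable def zus25 : List (List ℕ) :=
  [[10],
  W (nat_lit 0x2c09),
  W (nat_lit 0x2c0a),
  W (nat_lit 0xb02409),
  W (nat_lit 0x2c0d),
  W (nat_lit 0xb02411),
  W (nat_lit 0xb02412),
  W (nat_lit 0xb0280f)]
noncomputable def zF26 : List (List (ℕ × List ℕ)) :=
  [[(0, [8]),
   (2, []),
   (4, []),
   (1, []),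
   (3, []),
   (6, W (nat_lit 0x1a0541a05c1704c0f)),
   (8, W (nat_lit 0x541903c18)),
   (5, [16]),
   (7, W (nat_lit 0x68150681804c1303c11))],
  [(1, []),
   (0, []),
   (5, [8]),
   (3, [12]),
   (4, W (nat_lit 0x1a0541a05c1303c180280a)),
   (2, [9]),
   (6, W (nat_lit 0x400a)),
   (7, W (nat_lit 0x150440a)),
   (8, W (nat_lit 0x1a0541a0600d))]]
noncomputable def zus29 : List (List ℕ) :=
  [[4],
  [5],
  W (nat_lit 0x1407),
  W (nat_lit 0x1808),
  W (nat_lit 0x1409),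
  W (nat_lit 0x140a),
  W (nat_lit 0x501c09),
  W (nat_lit 0x502808),
  W (nat_lit 0x501c11)]
noncomputable def zF30 : List (List (ℕ × List ℕ)) :=
  [[(1, []),
   (2, []),
   (0, []),
   (3, W (nat_lit 0x5c0f0600a04c0b)),
   (4, W (nat_lit 0x190541a060120240b)),
   (5, W (nat_lit 0x541002c0a)),
   (6, W (nat_lit 0x190541a0600f02c09)),
   (7, W (nat_lit 0x641505c1303c180340b0280f)),
   (8, W (nat_lit 0x6417050120280b02411)),
   (9, W (nat_lit 0x5c0f0600a04c0b))],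
  [(0, W (nat_lit 0x150500f0240b)),
   (3, []),
   (1, W (nat_lit 0x6415068170501402c0d)),
   (5, W (nat_lit 0x681505c170501002813)),
   (2, []),
   (7, W (nat_lit 0x541905c1303c180280f)),
   (4, W (nat_lit 0x190541a060120240b)),
   (9, W (nat_lit 0x1a05c140500f0440d)),
   (6, []),
   (8, W (nat_lit 0x5c17050100280a))]]
noncomputable def zus33 : List (List ℕ) :=
  [[0],
  [1],
  [3],
  W (nat_lit 0x405),
  W (nat_lit 0x1004),
  W (nat_lit 0x1009),
  W (nat_lit 0x100a),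
  W (nat_lit 0x1011),
  W (nat_lit 0x100f),
  W (nat_lit 0x401018)]
noncomputable def zF34 : List (List (ℕ × List ℕ)) :=
  [[(1, []),
   (2, []),
   (0, []),
   (3, [5]),
   (4, [4]),
   (5, W (nat_lit 0x190541a060120240b)),
   (6, [5]),
   (7, [5]),
   (8, [5]),
   (9, [5]),
   (10, W (nat_lit 0x190541a060120240b))],
  [(1, W (nat_lit 0x150500f0240b)),
   (2, W (nat_lit 0x541403c0902c05)),
   (4, W (nat_lit 0x150500f0240b)),
   (0, []),
   (6, W (nat_lit 0x1703c180281302c05)),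
   (3, []),
   (8, W (nat_lit 0x54190601304c1103406)),
   (5, W (nat_lit 0x340b03405)),
   (10, W (nat_lit 0x54170541304c100340b03405)),
   (7, W (nat_lit 0x641705c140500f0600a06006)),
   (9, W (nat_lit 0x190541905c17050100280a02c090480501c09))]]

theorem zc0 : P.chainB ns D G_vs [[0], [2]] = true := by decide +kernel
theorem zb3 : bnd (pcB D [] 3 zt1 zcj2) (leB (app D []) [[24]] ([24] :: [])) = true := by decide +kernel
theorem zr4 : chk (pcR [] [24] 3 zt1 zcj2) = true := by decide +kernel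
theorem zb7 : schB D [[20], [24]] [[24]] zus5 zF6 4 = true := by decide +kernel
theorem zr8 : chk (schR [[20], [24]] zus5 zF6) = true := by decide +kernel
theorem zb11 : schB D [[22], [20]] [[20], [24]] zus9 zF10 5 = true := by decide +kernel
theorem zr12 : chk (schR [[22], [20]] zus9 zF10) = true := by decide +kernel
theorem zb15 : schB D [[18], [20]] [[22], [20]] zus13 zF14 6 = true := by decide +kernel
theorem zr16 : chk (schR [[18], [20]] zus13 zF14) = true := by decide +kernel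
theorem zb19 : schB D [[14], [16]] [[18], [20]] zus17 zF18 7 = true := by decide +kernel
theorem zr20 : chk (schR [[14], [16]] zus17 zF18) = true := by decide +kernel
theorem zb23 : schB D [[12], [9]] [[14], [16]] zus21 zF22 8 = true := by decide +kernel
theorem zr24 : chk (schR [[12], [9]] zus21 zF22) = true := by decide +kernel
theorem zb27 : schB D [[8], [10]] [[12], [9]] zus25 zF26 9 = true := by decide +kernel
theorem zr28 : chk (schR [[8], [10]] zus25 zF26) = true := by decide +kernel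
theorem zb31 : schB D [[4], [6]] [[8], [10]] zus29 zF30 10 = true := by decide +kernel
theorem zr32 : chk (schR [[4], [6]] zus29 zF30) = true := by decide +kernel
theorem zb35 : schB D [[0], [2]] [[4], [6]] zus33 zF34 11 = true := by decide +kernel
theorem zr36 : chk (schR [[0], [2]] zus33 zF34) = true := by decide +kernel
theorem zk37 : allL (keepB P.n P.N) ns0 = true := by decide +kernel
theorem ze38 : extB ns0 ns 2 ws [] = true := by decide +kernel
theorem zn39 : P.netsB ns (mkDefs ws 2) = true := by decide +kernel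

section
variable {G X : Type*} [Group G] [MulAction G X] {e : ℕ → X} {gs : List G}

theorem keep0 : allL (keepB P.n P.N) ns0 = true := zk37

theorem len {k} (c : Ctx P e gs ns0 [] k) : gs.length = 2 := c.len ze38

theorem ctx0 {k} (c : Ctx P e gs ns0 [] k) : Ctx P e (ext gs ws) ns D chk0 :=
  c.ext rfl ze38 zn39

theorem ctx {k} (c : Ctx P e gs ns0 [] k) {H : Subgroup G} (hF : Faithful e P.n H) (hH : ∀ g ∈ gs, g ∈ H) :
    Ctx P e (ext gs ws) ns D chk :=
  (ctx0 c).withB hF (mem_of_mem_ext hH _)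

instance instNe : NeZero P.n := ⟨by decide⟩
noncomputable def gs0 : List (Equiv.Perm (Fin P.n)) := permsOf P.n P.N ns0
noncomputable def gs1 : List (Equiv.Perm (Fin P.n)) := ext gs0 ws
theorem c1 : Ctx P (eF P.n) gs1 ns D chk :=
  ctx (ctx_permsOf hP keep0) (faithful_eF _) fun _ _ => trivial

theorem G_c : P.chainB ns D G_vs [[0], [2]] = true :=
  zc0

theorem G_o : prodL G_vs 1 = 19958400 := by decide +kernel

theorem G_lb (c : Ctx P e gs ns D chk) :
    LB (subW gs [[0], [2]]) 19958400 :=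
  c.lb G_c G_o

theorem G_u8 (c : Ctx P e gs ns D chk) :
    UB (subW gs [[24]]) 3 :=
  (c.pc_step (UB.nil gs) (Rels.nil _)
    (c.rels _ zr4) zb3).le (by decide)

theorem G_u7 (c : Ctx P e gs ns D chk) :
    UB (subW gs [[20], [24]]) 12 :=
  (c.sch_step (G_u8 c)
    (c.rels _ zr8) zb7).le (by decide)

theorem G_u6 (c : Ctx P e gs ns D chk) :
    UB (subW gs [[22], [20]]) 60 :=
  (c.sch_step (G_u7 c)
    (c.rels _ zr12) zb11).le (by decide)

theorem G_u5 (c : Ctx P e gs ns D chk) :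
    UB (subW gs [[18], [20]]) 360 :=
  (c.sch_step (G_u6 c)
    (c.rels _ zr16) zb15).le (by decide)

theorem G_u4 (c : Ctx P e gs ns D chk) :
    UB (subW gs [[14], [16]]) 2520 :=
  (c.sch_step (G_u5 c)
    (c.rels _ zr20) zb19).le (by decide)

theorem G_u3 (c : Ctx P e gs ns D chk) :
    UB (subW gs [[12], [9]]) 20160 :=
  (c.sch_step (G_u4 c)
    (c.rels _ zr24) zb23).le (by decide)

theorem G_u2 (c : Ctx P e gs ns D chk) :
    UB (subW gs [[8], [10]]) 181440 :=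
  (c.sch_step (G_u3 c)
    (c.rels _ zr28) zb27).le (by decide)

theorem G_u1 (c : Ctx P e gs ns D chk) :
    UB (subW gs [[4], [6]]) 1814400 :=
  (c.sch_step (G_u2 c)
    (c.rels _ zr32) zb31).le (by decide)

theorem G_u0 (c : Ctx P e gs ns D chk) :
    UB (subW gs [[0], [2]]) 19958400 :=
  (c.sch_step (G_u1 c)
    (c.rels _ zr36) zb35).le (by decide)

theorem G_ub (c : Ctx P e gs ns D chk) :
    UB (subW gs [[0], [2]]) 19958400 :=
  (G_u0 c)

theorem card : Nat.card (subW gs1 [[0], [2]]) = 19958400 := (G_ub c1).card_eq (G_lb c1)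
theorem eq : (subW gs1 [[0], [2]]) = alternatingGroup (Fin 11) := eq_alternatingGroup_of_card card (by decide)
theorem iso : Nonempty ((subW gs1 [[0], [2]]) ≃* alternatingGroup (Fin 11)) := ⟨MulEquiv.subgroupCongr eq⟩

theorem simple : IsSimpleGroup (subW gs1 [[0], [2]]) :=
  have := alternatingGroup.isSimpleGroup (α := Fin 11) (by simp)
  iso.some.isSimpleGroup

theorem ub : UB (subW gs1 [[0], [2]]) 19958400 := UB.of_card card (by norm_num)

end
end CL.Std.A11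

namespace CL.Std.S12
open CL.PG

def P : Par := ⟨12, 12, 4, 2⟩
theorem hP : P.Ok := by decide
noncomputable def a0 : Net := (.cons 1 (nat_lit 0x1)
 .nil)
noncomputable def a1 : Net := (.cons 6 (nat_lit 0x1)
 (.cons 3 (nat_lit 0x41)
 (.cons 1 (nat_lit 0x249)
 (.cons 1 (nat_lit 0x492)
 .nil))))
noncomputable def a2 : Net := (.cons 6 (nat_lit 0x20)
 (.cons 3 (nat_lit 0x44)
 (.cons 1 (nat_lit 0x248)
 (.cons 1 (nat_lit 0x490)
 (.cons 3 (nat_lit 0x6)
 (.cons 6 (nat_lit 0x30)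
 .nil))))))
noncomputable def a3 : Net := (.cons 6 (nat_lit 0x20)
 (.cons 3 (nat_lit 0x104)
 (.cons 1 (nat_lit 0x492)
 (.cons 1 (nat_lit 0x248)
 .nil))))
noncomputable def a4 : Net := (.cons 1 (nat_lit 0x400)
 (.cons 1 (nat_lit 0x200)
 .nil))
noncomputable def a5 : Net := (.cons 3 (nat_lit 0x40)
 (.cons 1 (nat_lit 0x248)
 (.cons 1 (nat_lit 0x490)
 (.cons 3 (nat_lit 0x4)
 (.cons 6 (nat_lit 0x20)
 .nil)))))
noncomputable def a6 : Net := (.cons 6 (nat_lit 0x20)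
 (.cons 3 (nat_lit 0x100)
 (.cons 1 (nat_lit 0x200)
 (.cons 1 (nat_lit 0x490)
 (.cons 1 (nat_lit 0x248)
 .nil)))))
noncomputable def a7 : Net := (.cons 1 (nat_lit 0x200)
 (.cons 1 (nat_lit 0x400)
 (.cons 1 (nat_lit 0x200)
 (.cons 3 (nat_lit 0x100)
 .nil))))
noncomputable def a8 : Net := (.cons 6 (nat_lit 0x30)
 (.cons 3 (nat_lit 0x100)
 (.cons 1 (nat_lit 0x480)
 (.cons 1 (nat_lit 0x40)
 (.cons 6 (nat_lit 0x20)
 .nil)))))
noncomputable def a9 : Net := (.cons 6 (nat_lit 0x38)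
 (.cons 3 (nat_lit 0x100)
 (.cons 1 (nat_lit 0x8)
 (.cons 1 (nat_lit 0x90)
 (.cons 1 (nat_lit 0x40)
 (.cons 3 (nat_lit 0x100)
 (.cons 6 (nat_lit 0x18)
 .nil)))))))
noncomputable def a10 : Net := (.cons 3 (nat_lit 0x1c0)
 (.cons 1 (nat_lit 0x40)
 (.cons 1 (nat_lit 0x80)
 (.cons 1 (nat_lit 0x200)
 (.cons 6 (nat_lit 0x20)
 .nil)))))
noncomputable def a11 : Net := (.cons 3 (nat_lit 0x180)
 (.cons 1 (nat_lit 0x400)
 (.cons 3 (nat_lit 0x100)
 .nil)))
noncomputable def a12 : Net := (.cons 3 (nat_lit 0x40)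
 (.cons 1 (nat_lit 0x200)
 (.cons 1 (nat_lit 0x400)
 (.cons 1 (nat_lit 0x40)
 (.cons 3 (nat_lit 0x100)
 .nil)))))
noncomputable def a13 : Net := (.cons 3 (nat_lit 0x100)
 (.cons 1 (nat_lit 0x40)
 (.cons 1 (nat_lit 0x80)
 (.cons 1 (nat_lit 0x40)
 .nil))))
noncomputable def a14 : Net := (.cons 3 (nat_lit 0x80)
 (.cons 1 (nat_lit 0x80)
 (.cons 1 (nat_lit 0x200)
 (.cons 3 (nat_lit 0x180)
 .nil))))
noncomputable def a15 : Net := (.cons 3 (nat_lit 0x100)
 (.cons 1 (nat_lit 0x400)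
 (.cons 1 (nat_lit 0x200)
 .nil)))
noncomputable def a16 : Net := (.cons 3 (nat_lit 0x100)
 (.cons 1 (nat_lit 0x400)
 .nil))
noncomputable def a17 : Net := (.cons 1 (nat_lit 0x200)
 .nil)
noncomputable def a18 : Net := (.cons 1 (nat_lit 0x200)
 (.cons 1 (nat_lit 0x400)
 .nil))
noncomputable def a19 : Net := (.cons 1 (nat_lit 0x400)
 .nil)
noncomputable def a20 : Net := (.cons 1 (nat_lit 0x400)
 (.cons 1 (nat_lit 0x1)
 .nil))
noncomputable def a21 : Net := (.cons 6 (nat_lit 0x10)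
 (.cons 3 (nat_lit 0x80)
 (.cons 1 (nat_lit 0x40)
 (.cons 3 (nat_lit 0x80)
 (.cons 6 (nat_lit 0x10)
 .nil)))))
noncomputable def a22 : Net := (.cons 6 (nat_lit 0x20)
 (.cons 3 (nat_lit 0x100)
 (.cons 1 (nat_lit 0x80)
 (.cons 3 (nat_lit 0x100)
 (.cons 6 (nat_lit 0x20)
 .nil)))))
noncomputable def a23 : Net := (.cons 6 (nat_lit 0x3d)
 (.cons 3 (nat_lit 0x147)
 (.cons 1 (nat_lit 0x249)
 (.cons 1 (nat_lit 0x492)
 (.cons 1 (nat_lit 0x209)
 (.cons 3 (nat_lit 0x80)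
 (.cons 6 (nat_lit 0x10)
 .nil)))))))
noncomputable def a24 : Net := (.cons 6 (nat_lit 0x3c)
 (.cons 3 (nat_lit 0x86)
 (.cons 1 (nat_lit 0x8)
 (.cons 1 (nat_lit 0x12)
 (.cons 1 (nat_lit 0x48)
 (.cons 3 (nat_lit 0x86)
 (.cons 6 (nat_lit 0x30)
 .nil)))))))
noncomputable def a25 : Net := (.cons 6 (nat_lit 0xd)
 (.cons 3 (nat_lit 0x106)
 (.cons 1 (nat_lit 0x208)
 (.cons 1 (nat_lit 0x410)
 (.cons 1 (nat_lit 0x208)
 (.cons 3 (nat_lit 0x104)
 .nil))))))
noncomputable def a26 : Net := (.cons 6 (nat_lit 0x23)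
 (.cons 3 (nat_lit 0x102)
 (.cons 1 (nat_lit 0x200)
 (.cons 1 (nat_lit 0x400)
 (.cons 1 (nat_lit 0x240)
 (.cons 3 (nat_lit 0x180)
 (.cons 6 (nat_lit 0x10)
 .nil)))))))
noncomputable def a27 : Net := (.cons 3 (nat_lit 0x180)
 (.cons 1 (nat_lit 0x80)
 (.cons 3 (nat_lit 0x100)
 (.cons 6 (nat_lit 0x20)
 .nil))))
noncomputable def a28 : Net := (.cons 6 (nat_lit 0x21)
 (.cons 3 (nat_lit 0x106)
 (.cons 1 (nat_lit 0x40)
 (.cons 1 (nat_lit 0x82)
 (.cons 1 (nat_lit 0x1)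
 (.cons 3 (nat_lit 0x186)
 (.cons 6 (nat_lit 0x32)
 .nil)))))))
noncomputable def a29 : Net := (.cons 6 (nat_lit 0x10)
 (.cons 3 (nat_lit 0x80)
 (.cons 1 (nat_lit 0x410)
 (.cons 1 (nat_lit 0x41)
 (.cons 3 (nat_lit 0x80)
 (.cons 6 (nat_lit 0x10)
 .nil))))))
noncomputable def a30 : Net := (.cons 6 (nat_lit 0x12)
 (.cons 3 (nat_lit 0x184)
 (.cons 1 (nat_lit 0x201)
 (.cons 1 (nat_lit 0x482)
 (.cons 1 (nat_lit 0x241)
 (.cons 3 (nat_lit 0x104)
 (.cons 6 (nat_lit 0x20)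
 .nil)))))))
noncomputable def a31 : Net := (.cons 6 (nat_lit 0x30)
 (.cons 3 (nat_lit 0x80)
 (.cons 1 (nat_lit 0x410)
 (.cons 1 (nat_lit 0x40)
 (.cons 3 (nat_lit 0x80)
 (.cons 6 (nat_lit 0x30)
 .nil))))))
noncomputable def a32 : Net := (.cons 6 (nat_lit 0x32)
 (.cons 3 (nat_lit 0x82)
 (.cons 1 (nat_lit 0x40)
 (.cons 3 (nat_lit 0x80)
 (.cons 6 (nat_lit 0x12)
 .nil)))))
noncomputable def a33 : Net := (.cons 6 (nat_lit 0x20)
 (.cons 3 (nat_lit 0x80)
 (.cons 1 (nat_lit 0x400)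
 .nil)))
noncomputable def a34 : Net := (.cons 6 (nat_lit 0x10)
 (.cons 3 (nat_lit 0x100)
 (.cons 1 (nat_lit 0x90)
 (.cons 3 (nat_lit 0x100)
 (.cons 6 (nat_lit 0x10)
 .nil)))))
noncomputable def a35 : Net := (.cons 1 (nat_lit 0x400)
 .nil)
noncomputable def a36 : Net := (.cons 6 (nat_lit 0x23)
 (.cons 3 (nat_lit 0x102)
 (.cons 1 (nat_lit 0x200)
 (.cons 1 (nat_lit 0x400)
 (.cons 1 (nat_lit 0x240)
 (.cons 3 (nat_lit 0x180)
 (.cons 6 (nat_lit 0x10)
 .nil)))))))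
noncomputable def a37 : Net := (.cons 6 (nat_lit 0xd)
 (.cons 3 (nat_lit 0x106)
 (.cons 1 (nat_lit 0x208)
 (.cons 1 (nat_lit 0x410)
 (.cons 1 (nat_lit 0x208)
 (.cons 3 (nat_lit 0x104)
 .nil))))))
noncomputable def a38 : Net := (.cons 6 (nat_lit 0x3c)
 (.cons 3 (nat_lit 0x86)
 (.cons 1 (nat_lit 0x8)
 (.cons 1 (nat_lit 0x12)
 (.cons 1 (nat_lit 0x48)
 (.cons 3 (nat_lit 0x86)
 (.cons 6 (nat_lit 0x30)
 .nil)))))))
noncomputable def a39 : Net := (.cons 6 (nat_lit 0x1e)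
 (.cons 3 (nat_lit 0x145)
 (.cons 1 (nat_lit 0x249)
 (.cons 1 (nat_lit 0x492)
 (.cons 1 (nat_lit 0x248)
 .nil)))))
noncomputable def a40 : Net := (.cons 6 (nat_lit 0x3c)
 (.cons 3 (nat_lit 0x182)
 (.cons 1 (nat_lit 0x90)
 (.cons 1 (nat_lit 0x41)
 (.cons 3 (nat_lit 0x102)
 (.cons 6 (nat_lit 0x30)
 .nil))))))
noncomputable def a41 : Net := (.cons 6 (nat_lit 0x10)
 (.cons 3 (nat_lit 0x80)
 (.cons 1 (nat_lit 0x40)
 (.cons 3 (nat_lit 0x80)
 (.cons 6 (nat_lit 0x10)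
 .nil)))))
noncomputable def a42 : Net := (.cons 6 (nat_lit 0x30)
 (.cons 3 (nat_lit 0x80)
 (.cons 1 (nat_lit 0x400)
 (.cons 1 (nat_lit 0x40)
 (.cons 3 (nat_lit 0x80)
 (.cons 6 (nat_lit 0x30)
 .nil))))))
noncomputable def a43 : Net := (.cons 6 (nat_lit 0x30)
 (.cons 3 (nat_lit 0x80)
 (.cons 1 (nat_lit 0x10)
 (.cons 1 (nat_lit 0x40)
 (.cons 3 (nat_lit 0x80)
 (.cons 6 (nat_lit 0x30)
 .nil))))))
noncomputable def a44 : Net := (.cons 1 (nat_lit 0x400)
 (.cons 1 (nat_lit 0x1)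
 .nil))
noncomputable def a45 : Net := (.cons 6 (nat_lit 0x32)
 (.cons 3 (nat_lit 0x186)
 (.cons 1 (nat_lit 0x200)
 (.cons 1 (nat_lit 0x402)
 (.cons 1 (nat_lit 0x240)
 (.cons 3 (nat_lit 0x184)
 (.cons 6 (nat_lit 0x12)
 .nil)))))))
noncomputable def a46 : Net := (.cons 6 (nat_lit 0x30)
 (.cons 3 (nat_lit 0x1c6)
 (.cons 1 (nat_lit 0x48)
 (.cons 1 (nat_lit 0x492)
 (.cons 1 (nat_lit 0x208)
 (.cons 3 (nat_lit 0x6)
 (.cons 6 (nat_lit 0x30)
 .nil)))))))
noncomputable def a47 : Net := (.cons 6 (nat_lit 0x30)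
 (.cons 3 (nat_lit 0x80)
 (.cons 1 (nat_lit 0x10)
 (.cons 1 (nat_lit 0x40)
 (.cons 3 (nat_lit 0x80)
 (.cons 6 (nat_lit 0x30)
 .nil))))))
noncomputable def a48 : Net := (.cons 6 (nat_lit 0x3e)
 (.cons 3 (nat_lit 0x186)
 (.cons 1 (nat_lit 0x200)
 (.cons 1 (nat_lit 0x402)
 (.cons 1 (nat_lit 0x240)
 (.cons 3 (nat_lit 0x184)
 (.cons 6 (nat_lit 0x12)
 .nil)))))))
noncomputable def a49 : Net := (.cons 6 (nat_lit 0xc)
 (.cons 3 (nat_lit 0x100)
 (.cons 1 (nat_lit 0x200)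
 (.cons 1 (nat_lit 0x400)
 (.cons 1 (nat_lit 0x200)
 (.cons 3 (nat_lit 0x100)
 .nil))))))
noncomputable def a50 : Net := (.cons 6 (nat_lit 0x30)
 (.cons 3 (nat_lit 0x1c0)
 (.cons 1 (nat_lit 0x40)
 (.cons 1 (nat_lit 0x480)
 (.cons 1 (nat_lit 0x200)
 (.cons 6 (nat_lit 0x30)
 .nil))))))
noncomputable def a51 : Net := (.cons 3 (nat_lit 0x180)
 (.cons 1 (nat_lit 0x200)
 (.cons 1 (nat_lit 0x480)
 (.cons 1 (nat_lit 0x200)
 (.cons 3 (nat_lit 0x180)
 .nil)))))
noncomputable def a52 : Net := (.cons 6 (nat_lit 0x32)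
 (.cons 3 (nat_lit 0x82)
 (.cons 1 (nat_lit 0x40)
 (.cons 3 (nat_lit 0x80)
 (.cons 6 (nat_lit 0x12)
 .nil)))))
noncomputable def a53 : Net := (.cons 3 (nat_lit 0x180)
 (.cons 1 (nat_lit 0x80)
 (.cons 3 (nat_lit 0x100)
 (.cons 6 (nat_lit 0x20)
 .nil))))
noncomputable def a54 : Net := (.cons 1 (nat_lit 0x400)
 .nil)
noncomputable def a55 : Net := (.cons 6 (nat_lit 0x10)
 (.cons 3 (nat_lit 0x180)
 (.cons 1 (nat_lit 0x200)
 (.cons 1 (nat_lit 0x400)
 (.cons 1 (nat_lit 0x240)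
 (.cons 3 (nat_lit 0x180)
 (.cons 6 (nat_lit 0x10)
 .nil)))))))
noncomputable def a56 : Net := (.cons 3 (nat_lit 0x100)
 (.cons 1 (nat_lit 0x200)
 (.cons 1 (nat_lit 0x400)
 (.cons 1 (nat_lit 0x200)
 (.cons 3 (nat_lit 0x100)
 .nil)))))
noncomputable def a57 : Net := (.cons 3 (nat_lit 0x80)
 (.cons 1 (nat_lit 0x402)
 (.cons 1 (nat_lit 0x200)
 (.cons 3 (nat_lit 0x80)
 (.cons 6 (nat_lit 0x4)
 .nil)))))
noncomputable def a58 : Net := (.cons 6 (nat_lit 0x10)
 (.cons 3 (nat_lit 0x80)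
 (.cons 1 (nat_lit 0x400)
 (.cons 1 (nat_lit 0x208)
 (.cons 3 (nat_lit 0x80)
 .nil)))))
noncomputable def a59 : Net := (.cons 3 (nat_lit 0x80)
 (.cons 1 (nat_lit 0x200)
 (.cons 1 (nat_lit 0x400)
 (.cons 3 (nat_lit 0x80)
 .nil))))
noncomputable def a60 : Net := (.cons 6 (nat_lit 0x5)
 (.cons 3 (nat_lit 0x6)
 (.cons 1 (nat_lit 0x1)
 (.cons 1 (nat_lit 0x12)
 (.cons 1 (nat_lit 0x1)
 (.cons 3 (nat_lit 0x6)
 .nil))))))
noncomputable def a61 : Net := (.cons 6 (nat_lit 0x1b)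
 (.cons 3 (nat_lit 0x105)
 (.cons 1 (nat_lit 0x9)
 (.cons 1 (nat_lit 0x412)
 (.cons 1 (nat_lit 0x201)
 (.cons 3 (nat_lit 0x80)
 (.cons 6 (nat_lit 0x8)
 .nil)))))))
noncomputable def a62 : Net := (.cons 6 (nat_lit 0x14)
 (.cons 3 (nat_lit 0x80)
 (.cons 1 (nat_lit 0x200)
 (.cons 1 (nat_lit 0x402)
 (.cons 1 (nat_lit 0x8)
 (.cons 3 (nat_lit 0x80)
 .nil))))))
noncomputable def a63 : Net := (.cons 6 (nat_lit 0x3c)
 (.cons 3 (nat_lit 0x184)
 (.cons 1 (nat_lit 0x410)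
 (.cons 1 (nat_lit 0x8)
 (.cons 3 (nat_lit 0x102)
 (.cons 6 (nat_lit 0x30)
 .nil))))))
noncomputable def a64 : Net := (.cons 3 (nat_lit 0x80)
 (.cons 1 (nat_lit 0x400)
 (.cons 1 (nat_lit 0x208)
 (.cons 3 (nat_lit 0x80)
 (.cons 6 (nat_lit 0x10)
 .nil)))))
noncomputable def a65 : Net := (.cons 6 (nat_lit 0x10)
 (.cons 3 (nat_lit 0x80)
 (.cons 1 (nat_lit 0x400)
 (.cons 1 (nat_lit 0x208)
 (.cons 3 (nat_lit 0x80)
 .nil)))))
noncomputable def a66 : Net := (.cons 3 (nat_lit 0x80)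
 (.cons 1 (nat_lit 0x200)
 (.cons 1 (nat_lit 0x400)
 (.cons 3 (nat_lit 0x80)
 .nil))))
noncomputable def a67 : Net := (.cons 6 (nat_lit 0x1b)
 (.cons 3 (nat_lit 0x105)
 (.cons 1 (nat_lit 0x9)
 (.cons 1 (nat_lit 0x412)
 (.cons 1 (nat_lit 0x201)
 (.cons 3 (nat_lit 0x80)
 (.cons 6 (nat_lit 0x8)
 .nil)))))))
noncomputable def a68 : Net := (.cons 6 (nat_lit 0x10)
 (.cons 1 (nat_lit 0x2)
 (.cons 1 (nat_lit 0x8)
 (.cons 6 (nat_lit 0x4)
 .nil))))
noncomputable def a69 : Net := (.cons 6 (nat_lit 0x10)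
 (.cons 3 (nat_lit 0x80)
 (.cons 1 (nat_lit 0x400)
 (.cons 1 (nat_lit 0x208)
 (.cons 3 (nat_lit 0x80)
 .nil)))))
noncomputable def a70 : Net := (.cons 3 (nat_lit 0x80)
 (.cons 1 (nat_lit 0x402)
 (.cons 1 (nat_lit 0x200)
 (.cons 3 (nat_lit 0x80)
 (.cons 6 (nat_lit 0x4)
 .nil)))))
noncomputable def a71 : Net := (.cons 6 (nat_lit 0x1)
 (.cons 3 (nat_lit 0x4)
 (.cons 1 (nat_lit 0x1)
 (.cons 1 (nat_lit 0x2)
 (.cons 1 (nat_lit 0x9)
 (.cons 3 (nat_lit 0x4)
 (.cons 6 (nat_lit 0x10)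
 .nil)))))))
noncomputable def a72 : Net := (.cons 6 (nat_lit 0x2b)
 (.cons 3 (nat_lit 0x102)
 (.cons 1 (nat_lit 0x48)
 (.cons 1 (nat_lit 0x90)
 (.cons 1 (nat_lit 0x240)
 (.cons 3 (nat_lit 0x102)
 (.cons 6 (nat_lit 0x3a)
 .nil)))))))
noncomputable def a73 : Net := (.cons 3 (nat_lit 0x80)
 (.cons 1 (nat_lit 0x200)
 (.cons 1 (nat_lit 0x400)
 (.cons 1 (nat_lit 0x8)
 (.cons 3 (nat_lit 0x80)
 (.cons 6 (nat_lit 0x10)
 .nil))))))
noncomputable def a74 : Net := (.cons 3 (nat_lit 0x80)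
 (.cons 1 (nat_lit 0x200)
 (.cons 1 (nat_lit 0x400)
 (.cons 3 (nat_lit 0x80)
 .nil))))
noncomputable def a75 : Net := (.cons 1 (nat_lit 0x8)
 (.cons 6 (nat_lit 0x10)
 .nil))
noncomputable def a76 : Net := (.cons 6 (nat_lit 0x10)
 (.cons 3 (nat_lit 0x40)
 (.cons 1 (nat_lit 0x200)
 (.cons 1 (nat_lit 0x400)
 (.cons 6 (nat_lit 0x30)
 .nil)))))
noncomputable def a77 : Net := (.cons 6 (nat_lit 0x14)
 (.cons 3 (nat_lit 0x4)
 (.cons 1 (nat_lit 0x8)
 (.cons 1 (nat_lit 0x90)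
 (.cons 3 (nat_lit 0x4)
 (.cons 6 (nat_lit 0x10)
 .nil))))))
noncomputable def a78 : Net := (.cons 6 (nat_lit 0x30)
 (.cons 1 (nat_lit 0x200)
 (.cons 1 (nat_lit 0x490)
 (.cons 1 (nat_lit 0x240)
 (.cons 3 (nat_lit 0x100)
 (.cons 6 (nat_lit 0x10)
 .nil))))))
noncomputable def a79 : Net := (.cons 6 (nat_lit 0x16)
 (.cons 3 (nat_lit 0xc0)
 (.cons 1 (nat_lit 0x8)
 (.cons 1 (nat_lit 0x490)
 (.cons 1 (nat_lit 0x40)
 (.cons 3 (nat_lit 0x6)
 .nil))))))
noncomputable def ns0 : List Net := [a0, a1]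
noncomputable def ws : List (List ℕ) :=
  [W (nat_lit 0x300c0201002),
  W (nat_lit 0x804),
  W (nat_lit 0x200801806),
  W (nat_lit 0x602008),
  W (nat_lit 0xc0240c0240b),
  W (nat_lit 0xa0280e0240d),
  W (nat_lit 0x90340d0240e),
  W (nat_lit 0x401004410044100440f04812),
  W (nat_lit 0x3c12048120480f048120481004812),
  W (nat_lit 0x501605014),
  W (nat_lit 0x1504c16),
  W (nat_lit 0x501405814),
  W (nat_lit 0x170681b),
  W (nat_lit 0x1807818),
  W (nat_lit 0x601d07418),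
  W (nat_lit 0x8420),
  W (nat_lit 0x1f07c1f0881f),
  W (nat_lit 0x9026),
  W (nat_lit 0x9c01),
  W (nat_lit 0x1d0681604415),
  W (nat_lit 0x981f0641904c15),
  W (nat_lit 0x881806415044140340c01c04),
  W (nat_lit 0x981a04c13044110340a0300a),
  W (nat_lit 0x1f05812034090301301c150101c),
  W (nat_lit 0x26080190541102c0b01c150101c),
  W (nat_lit 0xbc2b0c02a0b0270ac340c42a0c43509c340c42a0b02d0ac3509c340b0300c8350c830),
  W (nat_lit 0xd83609c2a0bc2a0b8290d0300a8300b8270c4290b4300c42d0a02d0bc2b),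
  W (nat_lit 0x2e0d4290c82d0d8340b82f0b4330b8330cc2a0d4290d030),
  W (nat_lit 0x320d02f0c82a0d42b0a82d0c4280bc360b8310a8340ac300d833),
  W (nat_lit 0xf0390e4390dc3a),
  W (nat_lit 0x390dc39),
  W (nat_lit 0x370dc37),
  W (nat_lit 0x10840),
  W (nat_lit 0x10c4311444),
  W (nat_lit 0x110390e03d),
  W (nat_lit 0x4310c3f0e82f),
  W (nat_lit 0x11c390e03a0f42f),
  W (nat_lit 0x471103f0e4380e82f),
  W (nat_lit 0xfc390e03a0f432),
  W (nat_lit 0x4310c3f),
  W (nat_lit 0x11c3f),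
  W (nat_lit 0x11c4310c3f),
  W (nat_lit 0x430fc3b),
  W (nat_lit 0x2d0c02709c2d0bc340a0310c42e0d0360c82a0bc280c82b0cc2f0cc320d035),
  W (nat_lit 0xcc310b42c0a82a0a82a0cc360cc2a0a8320c0360b82a0b8270c034),
  W (nat_lit 0x360b8290a4350cc2f0a0340d0300c02e0a42d0c8300ac320b034),
  W (nat_lit 0xcc270b8280b83109c2a0a8300cc320a82f09c3009c330bc270b435),
  W (nat_lit 0xb82b0a0320a0300d82e0d4320d42d0d42f0a42c0b832),
  W (nat_lit 0x17c611786416c5e1786317c5d17c5f17c64),
  W (nat_lit 0x621905d1805e17c5f1845c17461),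
  W (nat_lit 0x17c62170631705c17c5c174611905d1845f1746118c61),
  W (nat_lit 0x5f18c5b1745c188631745f1746219062),
  W (nat_lit 0x1a066198661a06c1a8651b0661a06c),
  W (nat_lit 0x6b1a0661a8681986b1ac661a8651a46919c6a),
  W (nat_lit 0x6c19c661a46b1a8681a46b),
  W (nat_lit 0x9c200640c04c05),
  W (nat_lit 0x27088170781403409),
  W (nat_lit 0x2708c1f05c1e),
  W (nat_lit 0x260881706813054110380b0181501015),
  W (nat_lit 0x27098220741905c13054110540d03c0c0240601015),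
  W (nat_lit 0x7c1d07a1e0731e8761ec751d07a),
  W (nat_lit 0x1f0741d47b1e4751e87c1e8771d0741ec7b1d078),
  W (nat_lit 0x1f47f1f880),
  W (nat_lit 0x802007e2007e),
  W (nat_lit 0x2108420882),
  W (nat_lit 0x2147d1fc79),
  W (nat_lit 0x862047e),
  W (nat_lit 0x21482),
  W (nat_lit 0x862087e),
  W (nat_lit 0x1d47a1d0791f0791d4791d4791e4741ec74),
  W (nat_lit 0x1f07c1d0791dc791ec7b1e0751e074),
  W (nat_lit 0x7c1d07c1d4731e8771cc781d07a1ec7a1ec73),
  W (nat_lit 0x2448f),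
  W (nat_lit 0x2449124c90),
  W (nat_lit 0x2607c170781905c1504413),
  W (nat_lit 0x5c0d0280b),
  W (nat_lit 0x9c220601a04c13),
  W (nat_lit 0x260801905c16044150341502c0b01c15)]
noncomputable def ns : List Net := [a0, a1, a2, a3, a4, a5, a6, a7, a8, a9, a10, a11, a12, a13, a14, a15, a16, a17, a18, a19, a20, a21, a22, a23, a24, a25, a26, a27, a28, a29, a30, a31, a32, a33, a34, a35, a36, a37, a38, a39, a40, a41, a42, a43, a44, a45, a46, a47, a48, a49, a50, a51, a52, a53, a54, a55, a56, a57, a58, a59, a60, a61, a62, a63, a64, a65, a66, a67, a68, a69, a70, a71, a72, a73, a74, a75, a76, a77, a78, a79]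
noncomputable def D : List (ℕ × List ℕ) := app [] (mkDefs ws 2)
noncomputable def chk : List (List ℕ × List ℕ) → Bool := P.relsB ns
noncomputable def G_v0 : Lev :=
  ⟨0, 12, sg (W (nat_lit 0x300c0300c0300c0300c0300c01)), [[4], [6]], 0, 2⟩
noncomputable def G_v1 : Lev :=
  ⟨1, 11, sg (W (nat_lit 0x501405014050140501c05)), [[8], [10]], 2, 2⟩
noncomputable def G_v2 : Lev :=
  ⟨2, 10, sg (W (nat_lit 0x2c0b02c0b02c0b0240b)), [[8], [12]], 4, 1⟩
noncomputable def G_v3 : Lev :=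
  ⟨3, 9, sg (W (nat_lit 0x24090340d0340d0340d)), [[14], [16]], 5, 2⟩
noncomputable def G_v4 : Lev :=
  ⟨4, 8, sg (W (nat_lit 0x1103c0f0441104411)), [[18], [20]], 7, 2⟩
noncomputable def G_v5 : Lev :=
  ⟨5, 7, sg (W (nat_lit 0x541305413)), [[22], [24], [26]], 9, 3⟩
noncomputable def G_v6 : Lev :=
  ⟨6, 6, sg (W (nat_lit 0x5c1905c19)), [[28], [22]], 12, 1⟩
noncomputable def G_v7 : Lev :=
  ⟨7, 5, sg (W (nat_lit 0x741d05c1d)), [[30], [32]], 13, 2⟩
noncomputable def G_v8 : Lev :=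
  ⟨8, 4, sg (W (nat_lit 0x1f07c1f)), [[34], [36]], 15, 2⟩
noncomputable def G_v9 : Lev :=
  ⟨9, 3, sg (W (nat_lit 0x9423)), [[38]], 17, 1⟩
noncomputable def G_v10 : Lev :=
  ⟨10, 2, sg [38], [], 18, 0⟩
noncomputable def G_vs11 : List Lev :=
  []
noncomputable def G_vs10 : List Lev :=
  G_v10 :: G_vs11
noncomputable def G_vs9 : List Lev :=
  G_v9 :: G_vs10
noncomputable def G_vs8 : List Lev :=
  G_v8 :: G_vs9
noncomputable def G_vs7 : List Lev :=
  G_v7 :: G_vs8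
noncomputable def G_vs6 : List Lev :=
  G_v6 :: G_vs7
noncomputable def G_vs5 : List Lev :=
  G_v5 :: G_vs6
noncomputable def G_vs4 : List Lev :=
  G_v4 :: G_vs5
noncomputable def G_vs3 : List Lev :=
  G_v3 :: G_vs4
noncomputable def G_vs2 : List Lev :=
  G_v2 :: G_vs3
noncomputable def G_vs1 : List Lev :=
  G_v1 :: G_vs2
noncomputable def G_vs : List Lev :=
  G_v0 :: G_vs1
noncomputable def pc2_P_ps : List PcG :=
  [⟨[72], 2, W (nat_lit 0x16457), [W (nat_lit 0x15c2f1444b), W (nat_lit 0x1542f1444d), W (nat_lit 0x2f1444f), W (nat_lit 0x15c2f), W (nat_lit 0x15c51), W (nat_lit 0x5915c53), [88], W (nat_lit 0x5915c55), [84]]⟩,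
  ⟨[74], 2, [], [W (nat_lit 0x15c2f1444d), [46], W (nat_lit 0x1542f1444f), [78], W (nat_lit 0x5915c53), W (nat_lit 0x5915c55), [88], [86]]⟩,
  ⟨[76], 2, W (nat_lit 0x590bc51), [W (nat_lit 0x1642f1444f), [46], [80], [82], [84], [86], [88]]⟩,
  ⟨[78], 2, W (nat_lit 0x5915c55), [W (nat_lit 0x5915c51), W (nat_lit 0x5915c2f), W (nat_lit 0x15c53), [88], [86], [84]]⟩,
  ⟨[80], 2, [84], [[46], W (nat_lit 0x15453), [84], W (nat_lit 0x5915c55), [88]]⟩,
  ⟨[46], 2, [84], [W (nat_lit 0x15453), [84], W (nat_lit 0x5915c55), [88]]⟩,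
  ⟨[82], 2, [], [[84], [86], [88]]⟩,
  ⟨[84], 2, [], [[86], [88]]⟩,
  ⟨[86], 2, [], [[88]]⟩,
  ⟨[88], 2, [], []⟩]
noncomputable def zE1 : List (ℕ × List ℕ) :=
  [(40, [88]),
  (42, [82]),
  (38, W (nat_lit 0x15c53)),
  (44, W (nat_lit 0x15453)),
  (48, [76]),
  (50, [74]),
  (52, [72])]
noncomputable def pc2_P_v0 : Lev :=
  ⟨2, 4, sg (W (nat_lit 0x2f0c42f)), [[54], [56], [58], [60]], 25, 4⟩
noncomputable def pc2_P_v1 : Lev :=
  ⟨8, 2, sg [60], [[54], [56], [58]], 29, 0⟩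
noncomputable def pc2_P_v2 : Lev :=
  ⟨0, 8, sg (W (nat_lit 0xe4390ec39)), [[55], [62], [64]], 29, 2⟩
noncomputable def pc2_P_v3 : Lev :=
  ⟨4, 2, sg [62], [[66], [68]], 31, 2⟩
noncomputable def pc2_P_v4 : Lev :=
  ⟨5, 4, sg (W (nat_lit 0x4310c43)), [[70]], 33, 1⟩
noncomputable def pc2_P_v5 : Lev :=
  ⟨10, 2, sg [70], [], 34, 0⟩
noncomputable def pc2_P_vs6 : List Lev :=
  []
noncomputable def pc2_P_vs5 : List Lev :=
  pc2_P_v5 :: pc2_P_vs6
noncomputable def pc2_P_vs4 : List Lev :=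
  pc2_P_v4 :: pc2_P_vs5
noncomputable def pc2_P_vs3 : List Lev :=
  pc2_P_v3 :: pc2_P_vs4
noncomputable def pc2_P_vs2 : List Lev :=
  pc2_P_v2 :: pc2_P_vs3
noncomputable def pc2_P_vs1 : List Lev :=
  pc2_P_v1 :: pc2_P_vs2
noncomputable def pc2_P_vs : List Lev :=
  pc2_P_v0 :: pc2_P_vs1
noncomputable def pc2_s_ms : List ℕ :=
  [(nat_lit 0xc30),
  (nat_lit 0x861),
  (nat_lit 0x614),
  (nat_lit 0xf39)]
noncomputable def pc2_sG_v0 : Lev :=
  ⟨0, 8, sg (W (nat_lit 0x350bc29)), [[90], [92], [94], [96], [98]], 43, 5⟩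
noncomputable def pc2_sG_v1 : Lev :=
  ⟨2, 4, sg (W (nat_lit 0x1845d)), [[100], [102], [104], [106]], 48, 4⟩
noncomputable def pc2_sG_v2 : Lev :=
  ⟨7, 4, sg (W (nat_lit 0x1a465)), [[108], [110], [112]], 52, 3⟩
noncomputable def pc2_sG_v3 : Lev :=
  ⟨4, 2, sg [110], [[108], [112]], 55, 0⟩
noncomputable def pc2_sG_v4 : Lev :=
  ⟨8, 2, sg [112], [[108]], 55, 0⟩
noncomputable def pc2_sG_v5 : Lev :=
  ⟨10, 2, sg [108], [], 55, 0⟩
noncomputable def pc2_sG_vs6 : List Lev :=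
  []
noncomputable def pc2_sG_vs5 : List Lev :=
  pc2_sG_v5 :: pc2_sG_vs6
noncomputable def pc2_sG_vs4 : List Lev :=
  pc2_sG_v4 :: pc2_sG_vs5
noncomputable def pc2_sG_vs3 : List Lev :=
  pc2_sG_v3 :: pc2_sG_vs4
noncomputable def pc2_sG_vs2 : List Lev :=
  pc2_sG_v2 :: pc2_sG_vs3
noncomputable def pc2_sG_vs1 : List Lev :=
  pc2_sG_v1 :: pc2_sG_vs2
noncomputable def pc2_sG_vs : List Lev :=
  pc2_sG_v0 :: pc2_sG_vs1
noncomputable def pc2_s_x : List (ℕ × List ℕ) :=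
  [((nat_lit 0), []),
  ((nat_lit 0), []),
  ((nat_lit 0), [(nat_lit 0xca0)]),
  ((nat_lit 0), [(nat_lit 0x50)]),
  ((nat_lit 0), [(nat_lit 0x300)]),
  ((nat_lit 0), [(nat_lit 0xc00)])]
noncomputable def pc2_s_G : Gl :=
  ⟨P, ns, (app D []), [], [], [], memM (app D []) [], true⟩
noncomputable def pc2_s_s : St :=
  ⟨(mkS P.n pc2_sG_vs pc2_s_x), [[40], [42], [38], [44], [46], [48], [50], [52]], [], diag pc2_s_ms, memM (app D []) [], []⟩
noncomputable def zt8 : ST :=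
  (.dif 1 0 (.and 0 4 (.br 0 [] [] [(0, [])] (.cons (.dif 5 6 (.br 0 [] [] [(2, [])] (.cons (.orb 0 (.dif 0 6 (.br 0 [] [] [(7, [])] (.cons (.orb 0 (.and 0 9 (.br 0 [] [] [(4, [])] (.cons (.orb 0 (.dif 0 14 (.br 0 [] [] [(8, [])] (.cons (.orb 0 (.dif 0 16 (.br 0 [] [] [(10, [])] (.cons .fnd
 .nil))))
 .nil))))
 .nil))))
 .nil))))
 .nil)))
 .nil))))
noncomputable def zus11 : List (List ℕ × ℕ) :=
  [(W (nat_lit 0x400404), (nat_lit 0x30c)),
  (W (nat_lit 0xc020080200c03), (nat_lit 0x30c)),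
  (W (nat_lit 0x4010100400403), (nat_lit 0x30c)),
  (W (nat_lit 0x4040040401004), (nat_lit 0xcf3))]
noncomputable def zts13 : List (List ℕ) :=
  [W (nat_lit 0x9c01),
  W (nat_lit 0x1d0681604415),
  [38],
  W (nat_lit 0x981f0641904c15),
  W (nat_lit 0x881806415044140340c01c04),
  W (nat_lit 0x981a04c13044110340a0300a),
  W (nat_lit 0x1f05812034090301301c150101c),
  W (nat_lit 0x26080190541102c0b01c150101c)]
noncomputable def pc3_P_ps : List PcG :=
  [⟨[134], 3, W (nat_lit 0x8d22c89), [W (nat_lit 0x2348b22c79), [138], [140], [136]]⟩,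
  ⟨[120], 3, [], [[136], [138], [140]]⟩,
  ⟨[136], 3, [], [[138], [140]]⟩,
  ⟨[138], 3, [], [[140]]⟩,
  ⟨[140], 3, [], []⟩]
noncomputable def zE16 : List (ℕ × List ℕ) :=
  [(114, [140]),
  (116, [138]),
  (118, W (nat_lit 0x2348b22489)),
  (122, [134])]
noncomputable def pc3_P_v0 : Lev :=
  ⟨0, 3, sg (W (nat_lit 0x1e479)), [[124], [126]], 60, 2⟩
noncomputable def pc3_P_v1 : Lev :=
  ⟨1, 9, sg (W (nat_lit 0x1fc7d1fc7d)), [[128], [130]], 62, 2⟩
noncomputable def pc3_P_v2 : Lev :=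
  ⟨3, 3, sg (W (nat_lit 0x20481)), [[132]], 64, 1⟩
noncomputable def pc3_P_v3 : Lev :=
  ⟨7, 3, sg (W (nat_lit 0x21485)), [], 65, 0⟩
noncomputable def pc3_P_vs4 : List Lev :=
  []
noncomputable def pc3_P_vs3 : List Lev :=
  pc3_P_v3 :: pc3_P_vs4
noncomputable def pc3_P_vs2 : List Lev :=
  pc3_P_v2 :: pc3_P_vs3
noncomputable def pc3_P_vs1 : List Lev :=
  pc3_P_v1 :: pc3_P_vs2
noncomputable def pc3_P_vs : List Lev :=
  pc3_P_v0 :: pc3_P_vs1
noncomputable def pc3_s_ms : List ℕ :=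
  [(nat_lit 0xc1),
  (nat_lit 0x62),
  (nat_lit 0xfce)]
noncomputable def pc3_sG_v0 : Lev :=
  ⟨1, 9, sg (W (nat_lit 0x751cc7b1ec73)), [[142], [144], [146]], 69, 3⟩
noncomputable def pc3_sG_v1 : Lev :=
  ⟨0, 3, sg (W (nat_lit 0x23c8f)), [[148], [150]], 72, 2⟩
noncomputable def pc3_sG_v2 : Lev :=
  ⟨4, 3, sg (W (nat_lit 0x25c97)), [[148]], 74, 0⟩
noncomputable def pc3_sG_v3 : Lev :=
  ⟨7, 3, sg (W (nat_lit 0x25495)), [], 74, 0⟩
noncomputable def pc3_sG_vs4 : List Lev :=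
  []
noncomputable def pc3_sG_vs3 : List Lev :=
  pc3_sG_v3 :: pc3_sG_vs4
noncomputable def pc3_sG_vs2 : List Lev :=
  pc3_sG_v2 :: pc3_sG_vs3
noncomputable def pc3_sG_vs1 : List Lev :=
  pc3_sG_v1 :: pc3_sG_vs2
noncomputable def pc3_sG_vs : List Lev :=
  pc3_sG_v0 :: pc3_sG_vs1
noncomputable def pc3_s_x : List (ℕ × List ℕ) :=
  [((nat_lit 0), [(nat_lit 0xf9e)]),
  ((nat_lit 0), []),
  ((nat_lit 0), [(nat_lit 0x418)]),
  ((nat_lit 0), [])]
noncomputable def pc3_s_G : Gl :=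
  ⟨P, ns, (app D []), [], [], [], memM (app D []) [], true⟩
noncomputable def pc3_s_s : St :=
  ⟨(mkS P.n pc3_sG_vs pc3_s_x), [[114], [116], [118], [120], [122]], [], diag pc3_s_ms, memM (app D []) [], []⟩
noncomputable def zt23 : ST :=
  (.orb 0 (.and 2 0 (.br 0 [] [] [(1, [])] (.cons (.dif 3 5 (.br 0 [] [] [(0, [])] (.cons (.orb 0 (.dif 0 8 (.br 0 [] [] [(4, [])] (.cons (.and 8 7 (.br 0 [] [] [(7, [])] (.cons .fnd
 .nil)))
 .nil))))
 .nil)))
 .nil))))
noncomputable def zus26 : List (List ℕ × ℕ) :=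
  [(W (nat_lit 0x404), (nat_lit 0x61)),
  (W (nat_lit 0x40040100c02), (nat_lit 0x61)),
  (W (nat_lit 0x80200c02), (nat_lit 0xf9e))]
noncomputable def zts28 : List (List ℕ) :=
  [W (nat_lit 0x9c200640c04c05),
  W (nat_lit 0x27088170781403409),
  W (nat_lit 0x2708c1f05c1e),
  W (nat_lit 0x260881706813054110380b0181501015),
  W (nat_lit 0x27098220741905c13054110540d03c0c0240601015)]
noncomputable def pc5_P_ps : List PcG :=
  [⟨[154], 5, [], [[152]]⟩,
  ⟨[152], 5, [], []⟩]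
noncomputable def pc5_P_v0 : Lev :=
  ⟨2, 5, sg (W (nat_lit 0x26c9b26c9b)), [[152]], 76, 0⟩
noncomputable def pc5_P_v1 : Lev :=
  ⟨4, 5, sg (W (nat_lit 0x2649926499)), [], 76, 0⟩
noncomputable def pc5_P_vs2 : List Lev :=
  []
noncomputable def pc5_P_vs1 : List Lev :=
  pc5_P_v1 :: pc5_P_vs2
noncomputable def pc5_P_vs : List Lev :=
  pc5_P_v0 :: pc5_P_vs1
noncomputable def pc5_s_ms : List ℕ :=
  [(nat_lit 0x962)]
noncomputable def pc5_sG_v0 : Lev :=
  ⟨8, 5, sg (W (nat_lit 0x26c9b26c9b)), [[152]], 76, 0⟩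
noncomputable def pc5_sG_v1 : Lev :=
  ⟨4, 5, sg (W (nat_lit 0x2649926499)), [], 76, 0⟩
noncomputable def pc5_sG_vs2 : List Lev :=
  []
noncomputable def pc5_sG_vs1 : List Lev :=
  pc5_sG_v1 :: pc5_sG_vs2
noncomputable def pc5_sG_vs : List Lev :=
  pc5_sG_v0 :: pc5_sG_vs1
noncomputable def pc5_s_x : List (ℕ × List ℕ) :=
  [((nat_lit 0), [(nat_lit 0x58c)]),
  ((nat_lit 0x10000000000000000000), [(nat_lit 0xa70)]),
  ((nat_lit 0), [(nat_lit 0x800)])]
noncomputable def pc5_s_G : Gl :=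
  ⟨P, ns, (app D []), [], [], [], memM (app D []) [], true⟩
noncomputable def pc5_s_s : St :=
  ⟨(mkS P.n pc5_sG_vs pc5_s_x), [[152], [154]], [], diag pc5_s_ms, memM (app D []) [], []⟩
noncomputable def zt36 : ST :=
  (.orb 0 (.and 1 0 (.br 0 [] [] [(8, [])] (.cons (.orb 0 (.dif 0 4 (.br 0 [] [] [(9, [153]), (4, [])] (.cons (.orb 0 (.and 2 0 (.mis 0)))
 (.cons .fnd
 .nil)))))
 .nil))))
noncomputable def zus39 : List (List ℕ × ℕ) :=
  [(W (nat_lit 0xc0100c0100401), (nat_lit 0x58c))]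
noncomputable def zts41 : List (List ℕ) :=
  [W (nat_lit 0x2607c170781905c1504413),
  W (nat_lit 0x5c0d0280b)]
noncomputable def pc7_P_ps : List PcG :=
  [⟨[156], 7, [], []⟩]
noncomputable def pc7_P_v0 : Lev :=
  ⟨5, 7, sg (W (nat_lit 0x2749d2749d2749d)), [], 77, 0⟩
noncomputable def pc7_P_vs1 : List Lev :=
  []
noncomputable def pc7_P_vs : List Lev :=
  pc7_P_v0 :: pc7_P_vs1
noncomputable def pc7_s_ms : List ℕ :=
  [(nat_lit 0x800)]
noncomputable def pc7_sG_v0 : Lev :=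
  ⟨11, 7, sg (W (nat_lit 0x2749d2749d2749d)), [], 77, 0⟩
noncomputable def pc7_sG_vs1 : List Lev :=
  []
noncomputable def pc7_sG_vs : List Lev :=
  pc7_sG_v0 :: pc7_sG_vs1
noncomputable def pc7_s_x : List (ℕ × List ℕ) :=
  [((nat_lit 0), [])]
noncomputable def pc7_s_G : Gl :=
  ⟨P, ns, (app D []), [], [], [], memM (app D []) [], true⟩
noncomputable def pc7_s_s : St :=
  ⟨(mkS P.n pc7_sG_vs pc7_s_x), [[156]], [], diag pc7_s_ms, memM (app D []) [], []⟩
noncomputable def zt49 : ST :=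
  (.br 0 [] [] [(11, [])] (.cons .fnd
 .nil))
noncomputable def zus52 : List (List ℕ × ℕ) :=
  [(W (nat_lit 0x200c0300803), (nat_lit 0x2))]
noncomputable def zts54 : List (List ℕ) :=
  [W (nat_lit 0x9c220601a04c13)]
noncomputable def pc11_P_ps : List PcG :=
  [⟨[158], 11, [], []⟩]
noncomputable def pc11_P_v0 : Lev :=
  ⟨1, 11, sg (W (nat_lit 0x27c9f27c9f27c9f27c9f27c9f)), [], 78, 0⟩
noncomputable def pc11_P_vs1 : List Lev :=
  []
noncomputable def pc11_P_vs : List Lev :=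
  pc11_P_v0 :: pc11_P_vs1
noncomputable def pc11_s_ms : List ℕ :=
  [(nat_lit 0x2)]
noncomputable def pc11_sG_v0 : Lev :=
  ⟨1, 11, sg (W (nat_lit 0x27c9f27c9f27c9f27c9f27c9f)), [], 78, 0⟩
noncomputable def pc11_sG_vs1 : List Lev :=
  []
noncomputable def pc11_sG_vs : List Lev :=
  pc11_sG_v0 :: pc11_sG_vs1
noncomputable def pc11_s_x : List (ℕ × List ℕ) :=
  [((nat_lit 0), [])]
noncomputable def pc11_s_G : Gl :=
  ⟨P, ns, (app D []), [], [], [], memM (app D []) [], true⟩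
noncomputable def pc11_s_s : St :=
  ⟨(mkS P.n pc11_sG_vs pc11_s_x), [[158]], [], diag pc11_s_ms, memM (app D []) [], []⟩
noncomputable def zt62 : ST :=
  (.br 0 [] [] [(1, [])] (.cons .fnd
 .nil))
noncomputable def zus65 : List (List ℕ × ℕ) :=
  [(W (nat_lit 0x200804), (nat_lit 0x1))]
noncomputable def zts67 : List (List ℕ) :=
  [W (nat_lit 0x260801905c16044150341502c0b01c15)]

theorem zc0 : P.chainB ns D G_vs [[0], [2]] = true := by decide +kernel
theorem zr2 : chk (pcsR pc2_P_ps []) = true := by decide +kernel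
theorem zr3 : chk (defRels zE1) = true := by decide +kernel
theorem zb4 : bnd (pcsB D pc2_P_ps []) (leB (app D zE1) [[40], [42], [38], [44], [46], [48], [50], [52]] (pcGens pc2_P_ps [])) = true := by decide +kernel
theorem zc5 : P.chainB ns D pc2_P_vs [[40], [42], [38], [44], [46], [48], [50], [52]] = true := by decide +kernel
theorem zc6 : P.chainB ns D pc2_sG_vs [[40], [42], [38], [44], [46], [48], [50], [52]] = true := by decide +kernel
theorem zs7 : ssB P.N ns D (mkS P.n pc2_sG_vs pc2_s_x) [[40], [42], [38], [44], [46], [48], [50], [52]] = true := by decide +kernel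
theorem zs9 : pc2_s_G.chk zt8 pc2_s_s none = true := by decide +kernel
theorem zm10 : bnd (allL (invB P.N ns []) pc2_s_ms) (leB D [] [[40], [42], [38], [44], [46], [48], [50], [52]]) = true := by decide +kernel
theorem zm12 : P.coreB ns D [[0], [2]] [[40], [42], [38], [44], [46], [48], [50], [52]] zus11 pc2_s_ms = true := by decide +kernel
theorem zm14 : leB D zts13 [[0], [2]] = true := by decide +kernel
theorem zr15 : chk (zp [] [[40], [42], [38], [44], [46], [48], [50], [52]] zts13) = true := by decide +kernel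
theorem zr17 : chk (pcsR pc3_P_ps []) = true := by decide +kernel
theorem zr18 : chk (defRels zE16) = true := by decide +kernel
theorem zb19 : bnd (pcsB D pc3_P_ps []) (leB (app D zE16) [[114], [116], [118], [120], [122]] (pcGens pc3_P_ps [])) = true := by decide +kernel
theorem zc20 : P.chainB ns D pc3_P_vs [[114], [116], [118], [120], [122]] = true := by decide +kernel
theorem zc21 : P.chainB ns D pc3_sG_vs [[114], [116], [118], [120], [122]] = true := by decide +kernel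
theorem zs22 : ssB P.N ns D (mkS P.n pc3_sG_vs pc3_s_x) [[114], [116], [118], [120], [122]] = true := by decide +kernel
theorem zs24 : pc3_s_G.chk zt23 pc3_s_s none = true := by decide +kernel
theorem zm25 : bnd (allL (invB P.N ns []) pc3_s_ms) (leB D [] [[114], [116], [118], [120], [122]]) = true := by decide +kernel
theorem zm27 : P.coreB ns D [[0], [2]] [[114], [116], [118], [120], [122]] zus26 pc3_s_ms = true := by decide +kernel
theorem zm29 : leB D zts28 [[0], [2]] = true := by decide +kernel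
theorem zr30 : chk (zp [] [[114], [116], [118], [120], [122]] zts28) = true := by decide +kernel
theorem zr31 : chk (pcsR pc5_P_ps []) = true := by decide +kernel
theorem zb32 : bnd (pcsB D pc5_P_ps []) (leB (app D []) [[152], [154]] (pcGens pc5_P_ps [])) = true := by decide +kernel
theorem zc33 : P.chainB ns D pc5_P_vs [[152], [154]] = true := by decide +kernel
theorem zc34 : P.chainB ns D pc5_sG_vs [[152], [154]] = true := by decide +kernel
theorem zs35 : ssB P.N ns D (mkS P.n pc5_sG_vs pc5_s_x) [[152], [154]] = true := by decide +kernel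
theorem zs37 : pc5_s_G.chk zt36 pc5_s_s none = true := by decide +kernel
theorem zm38 : bnd (allL (invB P.N ns []) pc5_s_ms) (leB D [] [[152], [154]]) = true := by decide +kernel
theorem zm40 : P.coreB ns D [[0], [2]] [[152], [154]] zus39 pc5_s_ms = true := by decide +kernel
theorem zm42 : leB D zts41 [[0], [2]] = true := by decide +kernel
theorem zr43 : chk (zp [] [[152], [154]] zts41) = true := by decide +kernel
theorem zr44 : chk (pcsR pc7_P_ps []) = true := by decide +kernel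
theorem zb45 : bnd (pcsB D pc7_P_ps []) (leB (app D []) [[156]] (pcGens pc7_P_ps [])) = true := by decide +kernel
theorem zc46 : P.chainB ns D pc7_P_vs [[156]] = true := by decide +kernel
theorem zc47 : P.chainB ns D pc7_sG_vs [[156]] = true := by decide +kernel
theorem zs48 : ssB P.N ns D (mkS P.n pc7_sG_vs pc7_s_x) [[156]] = true := by decide +kernel
theorem zs50 : pc7_s_G.chk zt49 pc7_s_s none = true := by decide +kernel
theorem zm51 : bnd (allL (invB P.N ns []) pc7_s_ms) (leB D [] [[156]]) = true := by decide +kernel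
theorem zm53 : P.coreB ns D [[0], [2]] [[156]] zus52 pc7_s_ms = true := by decide +kernel
theorem zm55 : leB D zts54 [[0], [2]] = true := by decide +kernel
theorem zr56 : chk (zp [] [[156]] zts54) = true := by decide +kernel
theorem zr57 : chk (pcsR pc11_P_ps []) = true := by decide +kernel
theorem zb58 : bnd (pcsB D pc11_P_ps []) (leB (app D []) [[158]] (pcGens pc11_P_ps [])) = true := by decide +kernel
theorem zc59 : P.chainB ns D pc11_P_vs [[158]] = true := by decide +kernel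
theorem zc60 : P.chainB ns D pc11_sG_vs [[158]] = true := by decide +kernel
theorem zs61 : ssB P.N ns D (mkS P.n pc11_sG_vs pc11_s_x) [[158]] = true := by decide +kernel
theorem zs63 : pc11_s_G.chk zt62 pc11_s_s none = true := by decide +kernel
theorem zm64 : bnd (allL (invB P.N ns []) pc11_s_ms) (leB D [] [[158]]) = true := by decide +kernel
theorem zm66 : P.coreB ns D [[0], [2]] [[158]] zus65 pc11_s_ms = true := by decide +kernel
theorem zm68 : leB D zts67 [[0], [2]] = true := by decide +kernel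
theorem zr69 : chk (zp [] [[158]] zts67) = true := by decide +kernel
theorem zk70 : allL (keepB P.n P.N) ns0 = true := by decide +kernel
theorem ze71 : extB ns0 ns 2 ws [] = true := by decide +kernel
theorem zn72 : P.netsB ns (mkDefs ws 2) = true := by decide +kernel

section
variable {G X : Type*} [Group G] [MulAction G X] {e : ℕ → X} {gs : List G}

theorem keep0 : allL (keepB P.n P.N) ns0 = true := zk70

theorem len {k} (c : Ctx P e gs ns0 [] k) : gs.length = 2 := c.len ze71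

theorem ctx0 {k} (c : Ctx P e gs ns0 [] k) : Ctx P e (ext gs ws) ns D chk0 :=
  c.ext rfl ze71 zn72

theorem ctx {k} (c : Ctx P e gs ns0 [] k) {H : Subgroup G} (hF : Faithful e P.n H) (hH : ∀ g ∈ gs, g ∈ H) :
    Ctx P e (ext gs ws) ns D chk :=
  (ctx0 c).withB hF (mem_of_mem_ext hH _)

instance instNe : NeZero P.n := ⟨by decide⟩
noncomputable def gs0 : List (Equiv.Perm (Fin P.n)) := permsOf P.n P.N ns0
noncomputable def gs1 : List (Equiv.Perm (Fin P.n)) := ext gs0 ws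
theorem c1 : Ctx P (eF P.n) gs1 ns D chk :=
  ctx (ctx_permsOf hP keep0) (faithful_eF _) fun _ _ => trivial

theorem G_c : P.chainB ns D G_vs [[0], [2]] = true :=
  zc0

theorem G_o : prodL G_vs 1 = 479001600 := by decide +kernel

theorem G_lb (c : Ctx P e gs ns D chk) :
    LB (subW gs [[0], [2]]) 479001600 :=
  c.lb G_c G_o

theorem top : (subW gs1 [[0], [2]]) = ⊤ := eq_top_of_lb (G_lb c1) (card_perm_fin 12 (by decide)) (by norm_num)
theorem iso : Nonempty ((subW gs1 [[0], [2]]) ≃* Equiv.Perm (Fin 12)) := equiv_of_eq_top top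
theorem card : Nat.card (subW gs1 [[0], [2]]) = 479001600 := (Nat.card_congr iso.some.toEquiv).trans (card_perm_fin 12 (by decide))

theorem ub : UB (subW gs1 [[0], [2]]) 479001600 := UB.of_card card (by norm_num)

theorem pc2_P_pr (c : Ctx P e gs ns D chk) :
    Rels gs (pcsR pc2_P_ps []) :=
  (c.rels _ zr2)

theorem pc2_P_pe (c : Ctx P e gs ns D chk) :
    Rels gs (defRels zE1) :=
  (c.rels _ zr3)

theorem pc2_P_pb : bnd (pcsB D pc2_P_ps []) (leB (app D zE1) [[40], [42], [38], [44], [46], [48], [50], [52]] (pcGens pc2_P_ps [])) = true := zb4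

theorem pc2_P_ub (c : Ctx P e gs ns D chk) :
    UB (subW gs [[40], [42], [38], [44], [46], [48], [50], [52]]) 1024 :=
  c.pcs (UB.nil gs) (pc2_P_pe c) (pc2_P_pr c) pc2_P_pb (by decide +kernel)

theorem pc2_P_c : P.chainB ns D pc2_P_vs [[40], [42], [38], [44], [46], [48], [50], [52]] = true :=
  zc5

theorem pc2_P_o : prodL pc2_P_vs 1 = 1024 := by decide +kernel

theorem pc2_P_lb (c : Ctx P e gs ns D chk) :
    LB (subW gs [[40], [42], [38], [44], [46], [48], [50], [52]]) 1024 :=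
  c.lb pc2_P_c pc2_P_o

theorem pc2_P_card (c : Ctx P e gs ns D chk) :
    Nat.card (subW gs [[40], [42], [38], [44], [46], [48], [50], [52]]) = 1024 :=
  (pc2_P_ub c).card_eq (pc2_P_lb c)

theorem pc2_sG_c : P.chainB ns D pc2_sG_vs [[40], [42], [38], [44], [46], [48], [50], [52]] = true :=
  zc6

theorem pc2_sG_o : prodL pc2_sG_vs 1 = 1024 := by decide +kernel

theorem pc2_s (c : Ctx P e gs ns D chk) :
    ∀ g, g ∈ (subW gs []) ↔ g ∈ (subW gs [[40], [42], [38], [44], [46], [48], [50], [52]]) ∧ ∀ m ∈ pc2_s_ms, g ∈ sstab G (mset e P.n m) :=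
  c.setStab (Rels.nil _) (c.sOk (c.exact pc2_sG_c pc2_sG_o (pc2_P_ub c)) zs7) (fun _ h => by cases h) zm10 zs9

theorem pc2 (c : Ctx P e gs ns D chk) (hK : Nat.card (subW gs [[0], [2]]) = 479001600) :
    Cfsg.pCore 2 (subW gs [[0], [2]]) = ⊥ :=
  pCore_eq_bot_of_le (c.pCoreOf_le (p := 2) (by norm_num) (b := 467775) hK (pc2_P_card c) (by norm_num) (c.le_of_rels (ws := [[40], [42], [38], [44], [46], [48], [50], [52]]) (l := [[0], [2]]) (c.rels _ zr15) zm14) zm12 (pc2_s c))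

theorem core2 : Cfsg.pCore 2 (subW gs1 [[0], [2]]) = ⊥ := pc2 c1 card

theorem pc3_P_pr (c : Ctx P e gs ns D chk) :
    Rels gs (pcsR pc3_P_ps []) :=
  (c.rels _ zr17)

theorem pc3_P_pe (c : Ctx P e gs ns D chk) :
    Rels gs (defRels zE16) :=
  (c.rels _ zr18)

theorem pc3_P_pb : bnd (pcsB D pc3_P_ps []) (leB (app D zE16) [[114], [116], [118], [120], [122]] (pcGens pc3_P_ps [])) = true := zb19

theorem pc3_P_ub (c : Ctx P e gs ns D chk) :
    UB (subW gs [[114], [116], [118], [120], [122]]) 243 :=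
  c.pcs (UB.nil gs) (pc3_P_pe c) (pc3_P_pr c) pc3_P_pb (by decide +kernel)

theorem pc3_P_c : P.chainB ns D pc3_P_vs [[114], [116], [118], [120], [122]] = true :=
  zc20

theorem pc3_P_o : prodL pc3_P_vs 1 = 243 := by decide +kernel

theorem pc3_P_lb (c : Ctx P e gs ns D chk) :
    LB (subW gs [[114], [116], [118], [120], [122]]) 243 :=
  c.lb pc3_P_c pc3_P_o

theorem pc3_P_card (c : Ctx P e gs ns D chk) :
    Nat.card (subW gs [[114], [116], [118], [120], [122]]) = 243 :=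
  (pc3_P_ub c).card_eq (pc3_P_lb c)

theorem pc3_sG_c : P.chainB ns D pc3_sG_vs [[114], [116], [118], [120], [122]] = true :=
  zc21

theorem pc3_sG_o : prodL pc3_sG_vs 1 = 243 := by decide +kernel

theorem pc3_s (c : Ctx P e gs ns D chk) :
    ∀ g, g ∈ (subW gs []) ↔ g ∈ (subW gs [[114], [116], [118], [120], [122]]) ∧ ∀ m ∈ pc3_s_ms, g ∈ sstab G (mset e P.n m) :=
  c.setStab (Rels.nil _) (c.sOk (c.exact pc3_sG_c pc3_sG_o (pc3_P_ub c)) zs22) (fun _ h => by cases h) zm25 zs24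

theorem pc3 (c : Ctx P e gs ns D chk) (hK : Nat.card (subW gs [[0], [2]]) = 479001600) :
    Cfsg.pCore 3 (subW gs [[0], [2]]) = ⊥ :=
  pCore_eq_bot_of_le (c.pCoreOf_le (p := 3) (by norm_num) (b := 1971200) hK (pc3_P_card c) (by norm_num) (c.le_of_rels (ws := [[114], [116], [118], [120], [122]]) (l := [[0], [2]]) (c.rels _ zr30) zm29) zm27 (pc3_s c))

theorem core3 : Cfsg.pCore 3 (subW gs1 [[0], [2]]) = ⊥ := pc3 c1 card

theorem pc5_P_pr (c : Ctx P e gs ns D chk) :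
    Rels gs (pcsR pc5_P_ps []) :=
  (c.rels _ zr31)

theorem pc5_P_pe (c : Ctx P e gs ns D chk) :
    Rels gs (defRels []) :=
  (Rels.nil _)

theorem pc5_P_pb : bnd (pcsB D pc5_P_ps []) (leB (app D []) [[152], [154]] (pcGens pc5_P_ps [])) = true := zb32

theorem pc5_P_ub (c : Ctx P e gs ns D chk) :
    UB (subW gs [[152], [154]]) 25 :=
  c.pcs (UB.nil gs) (pc5_P_pe c) (pc5_P_pr c) pc5_P_pb (by decide +kernel)

theorem pc5_P_c : P.chainB ns D pc5_P_vs [[152], [154]] = true :=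
  zc33

theorem pc5_P_o : prodL pc5_P_vs 1 = 25 := by decide +kernel

theorem pc5_P_lb (c : Ctx P e gs ns D chk) :
    LB (subW gs [[152], [154]]) 25 :=
  c.lb pc5_P_c pc5_P_o

theorem pc5_P_card (c : Ctx P e gs ns D chk) :
    Nat.card (subW gs [[152], [154]]) = 25 :=
  (pc5_P_ub c).card_eq (pc5_P_lb c)

theorem pc5_sG_c : P.chainB ns D pc5_sG_vs [[152], [154]] = true :=
  zc34

theorem pc5_sG_o : prodL pc5_sG_vs 1 = 25 := by decide +kernel

theorem pc5_s (c : Ctx P e gs ns D chk) :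
    ∀ g, g ∈ (subW gs []) ↔ g ∈ (subW gs [[152], [154]]) ∧ ∀ m ∈ pc5_s_ms, g ∈ sstab G (mset e P.n m) :=
  c.setStab (Rels.nil _) (c.sOk (c.exact pc5_sG_c pc5_sG_o (pc5_P_ub c)) zs35) (fun _ h => by cases h) zm38 zs37

theorem pc5 (c : Ctx P e gs ns D chk) (hK : Nat.card (subW gs [[0], [2]]) = 479001600) :
    Cfsg.pCore 5 (subW gs [[0], [2]]) = ⊥ :=
  pCore_eq_bot_of_le (c.pCoreOf_le (p := 5) (by norm_num) (b := 19160064) hK (pc5_P_card c) (by norm_num) (c.le_of_rels (ws := [[152], [154]]) (l := [[0], [2]]) (c.rels _ zr43) zm42) zm40 (pc5_s c))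

theorem core5 : Cfsg.pCore 5 (subW gs1 [[0], [2]]) = ⊥ := pc5 c1 card

theorem pc7_P_pr (c : Ctx P e gs ns D chk) :
    Rels gs (pcsR pc7_P_ps []) :=
  (c.rels _ zr44)

theorem pc7_P_pe (c : Ctx P e gs ns D chk) :
    Rels gs (defRels []) :=
  (Rels.nil _)

theorem pc7_P_pb : bnd (pcsB D pc7_P_ps []) (leB (app D []) [[156]] (pcGens pc7_P_ps [])) = true := zb45

theorem pc7_P_ub (c : Ctx P e gs ns D chk) :
    UB (subW gs [[156]]) 7 :=
  c.pcs (UB.nil gs) (pc7_P_pe c) (pc7_P_pr c) pc7_P_pb (by decide +kernel)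

theorem pc7_P_c : P.chainB ns D pc7_P_vs [[156]] = true :=
  zc46

theorem pc7_P_o : prodL pc7_P_vs 1 = 7 := by decide +kernel

theorem pc7_P_lb (c : Ctx P e gs ns D chk) :
    LB (subW gs [[156]]) 7 :=
  c.lb pc7_P_c pc7_P_o

theorem pc7_P_card (c : Ctx P e gs ns D chk) :
    Nat.card (subW gs [[156]]) = 7 :=
  (pc7_P_ub c).card_eq (pc7_P_lb c)

theorem pc7_sG_c : P.chainB ns D pc7_sG_vs [[156]] = true :=
  zc47

theorem pc7_sG_o : prodL pc7_sG_vs 1 = 7 := by decide +kernel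

theorem pc7_s (c : Ctx P e gs ns D chk) :
    ∀ g, g ∈ (subW gs []) ↔ g ∈ (subW gs [[156]]) ∧ ∀ m ∈ pc7_s_ms, g ∈ sstab G (mset e P.n m) :=
  c.setStab (Rels.nil _) (c.sOk (c.exact pc7_sG_c pc7_sG_o (pc7_P_ub c)) zs48) (fun _ h => by cases h) zm51 zs50

theorem pc7 (c : Ctx P e gs ns D chk) (hK : Nat.card (subW gs [[0], [2]]) = 479001600) :
    Cfsg.pCore 7 (subW gs [[0], [2]]) = ⊥ :=
  pCore_eq_bot_of_le (c.pCoreOf_le (p := 7) (by norm_num) (b := 68428800) hK (pc7_P_card c) (by norm_num) (c.le_of_rels (ws := [[156]]) (l := [[0], [2]]) (c.rels _ zr56) zm55) zm53 (pc7_s c))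

theorem core7 : Cfsg.pCore 7 (subW gs1 [[0], [2]]) = ⊥ := pc7 c1 card

theorem pc11_P_pr (c : Ctx P e gs ns D chk) :
    Rels gs (pcsR pc11_P_ps []) :=
  (c.rels _ zr57)

theorem pc11_P_pe (c : Ctx P e gs ns D chk) :
    Rels gs (defRels []) :=
  (Rels.nil _)

theorem pc11_P_pb : bnd (pcsB D pc11_P_ps []) (leB (app D []) [[158]] (pcGens pc11_P_ps [])) = true := zb58

theorem pc11_P_ub (c : Ctx P e gs ns D chk) :
    UB (subW gs [[158]]) 11 :=
  c.pcs (UB.nil gs) (pc11_P_pe c) (pc11_P_pr c) pc11_P_pb (by decide +kernel)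

theorem pc11_P_c : P.chainB ns D pc11_P_vs [[158]] = true :=
  zc59

theorem pc11_P_o : prodL pc11_P_vs 1 = 11 := by decide +kernel

theorem pc11_P_lb (c : Ctx P e gs ns D chk) :
    LB (subW gs [[158]]) 11 :=
  c.lb pc11_P_c pc11_P_o

theorem pc11_P_card (c : Ctx P e gs ns D chk) :
    Nat.card (subW gs [[158]]) = 11 :=
  (pc11_P_ub c).card_eq (pc11_P_lb c)

theorem pc11_sG_c : P.chainB ns D pc11_sG_vs [[158]] = true :=
  zc60

theorem pc11_sG_o : prodL pc11_sG_vs 1 = 11 := by decide +kernel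

theorem pc11_s (c : Ctx P e gs ns D chk) :
    ∀ g, g ∈ (subW gs []) ↔ g ∈ (subW gs [[158]]) ∧ ∀ m ∈ pc11_s_ms, g ∈ sstab G (mset e P.n m) :=
  c.setStab (Rels.nil _) (c.sOk (c.exact pc11_sG_c pc11_sG_o (pc11_P_ub c)) zs61) (fun _ h => by cases h) zm64 zs63

theorem pc11 (c : Ctx P e gs ns D chk) (hK : Nat.card (subW gs [[0], [2]]) = 479001600) :
    Cfsg.pCore 11 (subW gs [[0], [2]]) = ⊥ :=
  pCore_eq_bot_of_le (c.pCoreOf_le (p := 11) (by norm_num) (b := 43545600) hK (pc11_P_card c) (by norm_num) (c.le_of_rels (ws := [[158]]) (l := [[0], [2]]) (c.rels _ zr69) zm68) zm66 (pc11_s c))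

theorem core11 : Cfsg.pCore 11 (subW gs1 [[0], [2]]) = ⊥ := pc11 c1 card

end
end CL.Std.S12

namespace CL.Std.A12
open CL.PG

def P : Par := ⟨12, 12, 4, 2⟩
theorem hP : P.Ok := by decide
noncomputable def a0 : Net := (.cons 1 (nat_lit 0x1)
 (.cons 1 (nat_lit 0x2)
 .nil))
noncomputable def a1 : Net := (.cons 3 (nat_lit 0x40)
 (.cons 1 (nat_lit 0x248)
 (.cons 1 (nat_lit 0x492)
 (.cons 3 (nat_lit 0x4)
 (.cons 6 (nat_lit 0x20)
 .nil)))))
noncomputable def a2 : Net := (.cons 3 (nat_lit 0x44)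
 (.cons 1 (nat_lit 0x240)
 (.cons 1 (nat_lit 0x482)
 (.cons 1 (nat_lit 0x8)
 (.cons 3 (nat_lit 0x2)
 (.cons 6 (nat_lit 0x20)
 .nil))))))
noncomputable def a3 : Net := (.cons 6 (nat_lit 0x20)
 (.cons 3 (nat_lit 0x104)
 (.cons 1 (nat_lit 0x492)
 (.cons 1 (nat_lit 0x248)
 .nil))))
noncomputable def a4 : Net := (.cons 6 (nat_lit 0x20)
 (.cons 3 (nat_lit 0x44)
 (.cons 1 (nat_lit 0x248)
 (.cons 1 (nat_lit 0x490)
 (.cons 3 (nat_lit 0x4)
 (.cons 6 (nat_lit 0x30)
 .nil))))))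
noncomputable def a5 : Net := (.cons 6 (nat_lit 0x34)
 (.cons 3 (nat_lit 0x182)
 (.cons 1 (nat_lit 0x248)
 (.cons 1 (nat_lit 0x492)
 (.cons 1 (nat_lit 0x48)
 (.cons 3 (nat_lit 0x82)
 (.cons 6 (nat_lit 0x10)
 .nil)))))))
noncomputable def a6 : Net := (.cons 6 (nat_lit 0x18)
 (.cons 3 (nat_lit 0x1c0)
 (.cons 1 (nat_lit 0x490)
 (.cons 1 (nat_lit 0x208)
 (.cons 6 (nat_lit 0x18)
 .nil)))))
noncomputable def a7 : Net := (.cons 6 (nat_lit 0x20)
 (.cons 3 (nat_lit 0x1c0)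
 (.cons 1 (nat_lit 0x40)
 (.cons 1 (nat_lit 0x480)
 (.cons 1 (nat_lit 0x208)
 (.cons 3 (nat_lit 0x80)
 (.cons 6 (nat_lit 0x30)
 .nil)))))))
noncomputable def a8 : Net := (.cons 6 (nat_lit 0x30)
 (.cons 3 (nat_lit 0x140)
 (.cons 1 (nat_lit 0x200)
 (.cons 1 (nat_lit 0x480)
 (.cons 6 (nat_lit 0x20)
 .nil)))))
noncomputable def a9 : Net := (.cons 3 (nat_lit 0x140)
 (.cons 1 (nat_lit 0x90)
 (.cons 1 (nat_lit 0x40)
 (.cons 6 (nat_lit 0x20)
 .nil))))
noncomputable def a10 : Net := (.cons 6 (nat_lit 0x8)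
 (.cons 3 (nat_lit 0x80)
 (.cons 1 (nat_lit 0x8)
 (.cons 1 (nat_lit 0x410)
 (.cons 1 (nat_lit 0x48)
 (.cons 3 (nat_lit 0x80)
 (.cons 6 (nat_lit 0x28)
 .nil)))))))
noncomputable def a11 : Net := (.cons 3 (nat_lit 0xc0)
 (.cons 1 (nat_lit 0x200)
 (.cons 1 (nat_lit 0x480)
 (.cons 1 (nat_lit 0x240)
 (.cons 6 (nat_lit 0x20)
 .nil)))))
noncomputable def a12 : Net := (.cons 1 (nat_lit 0x40)
 (.cons 1 (nat_lit 0x480)
 (.cons 1 (nat_lit 0x240)
 (.cons 3 (nat_lit 0x100)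
 .nil))))
noncomputable def a13 : Net := (.cons 3 (nat_lit 0x40)
 (.cons 1 (nat_lit 0x80)
 .nil))
noncomputable def a14 : Net := (.cons 3 (nat_lit 0x100)
 (.cons 1 (nat_lit 0x200)
 (.cons 1 (nat_lit 0x400)
 (.cons 3 (nat_lit 0x80)
 .nil))))
noncomputable def a15 : Net := (.cons 3 (nat_lit 0x100)
 (.cons 1 (nat_lit 0x80)
 (.cons 1 (nat_lit 0x200)
 (.cons 3 (nat_lit 0x80)
 .nil))))
noncomputable def a16 : Net := (.cons 1 (nat_lit 0x200)
 (.cons 1 (nat_lit 0x400)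
 .nil))
noncomputable def a17 : Net := (.cons 1 (nat_lit 0x400)
 (.cons 3 (nat_lit 0x100)
 .nil))
noncomputable def ns0 : List Net := [a0, a1]
noncomputable def ws : List (List ℕ) :=
  [W (nat_lit 0x100c01),
  W (nat_lit 0x100100401),
  W (nat_lit 0x802006),
  W (nat_lit 0x180701c060180801408),
  W (nat_lit 0x300c02409),
  W (nat_lit 0xb02c0b02c090240b),
  W (nat_lit 0xe03810),
  W (nat_lit 0x400e04010),
  W (nat_lit 0x4c1304c1204812),
  W (nat_lit 0x1105012),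
  W (nat_lit 0x1606016),
  W (nat_lit 0x1806015),
  W (nat_lit 0x1c0681b0681a),
  W (nat_lit 0x1b06419),
  W (nat_lit 0x781f0781e),
  W (nat_lit 0x1f07c1d)]
noncomputable def ns : List Net := [a0, a1, a2, a3, a4, a5, a6, a7, a8, a9, a10, a11, a12, a13, a14, a15, a16, a17]
noncomputable def D : List (ℕ × List ℕ) := app [] (mkDefs ws 2)
noncomputable def chk : List (List ℕ × List ℕ) → Bool := P.relsB ns
noncomputable def G_v0 : Lev :=
  ⟨0, 12, sg (W (nat_lit 0x300c0300c0300c0300c0300401)), [[4], [6]], 0, 2⟩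
noncomputable def G_v1 : Lev :=
  ⟨1, 11, sg (W (nat_lit 0x140501405014050140501405)), [[8], [10]], 2, 2⟩
noncomputable def G_v2 : Lev :=
  ⟨2, 10, sg (W (nat_lit 0x9024090240b02409)), [[12], [14]], 4, 2⟩
noncomputable def G_v3 : Lev :=
  ⟨3, 9, sg (W (nat_lit 0x340d03c0d)), [[16], [18]], 6, 2⟩
noncomputable def G_v4 : Lev :=
  ⟨4, 8, sg (W (nat_lit 0x441104c11)), [[20], [22]], 8, 2⟩
noncomputable def G_v5 : Lev :=
  ⟨5, 7, sg (W (nat_lit 0x170541705c15)), [[24], [26]], 10, 2⟩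
noncomputable def G_v6 : Lev :=
  ⟨6, 6, sg (W (nat_lit 0x1b0641906419)), [[28], [30]], 12, 2⟩
noncomputable def G_v7 : Lev :=
  ⟨7, 5, sg (W (nat_lit 0x1d07c1d)), [[32], [34]], 14, 2⟩
noncomputable def G_v8 : Lev :=
  ⟨8, 4, sg (W (nat_lit 0x2108423)), [[32]], 16, 0⟩
noncomputable def G_v9 : Lev :=
  ⟨9, 3, sg (W (nat_lit 0x8421)), [], 16, 0⟩
noncomputable def G_vs10 : List Lev :=
  []
noncomputable def G_vs9 : List Lev :=
  G_v9 :: G_vs10
noncomputable def G_vs8 : List Lev :=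
  G_v8 :: G_vs9
noncomputable def G_vs7 : List Lev :=
  G_v7 :: G_vs8
noncomputable def G_vs6 : List Lev :=
  G_v6 :: G_vs7
noncomputable def G_vs5 : List Lev :=
  G_v5 :: G_vs6
noncomputable def G_vs4 : List Lev :=
  G_v4 :: G_vs5
noncomputable def G_vs3 : List Lev :=
  G_v3 :: G_vs4
noncomputable def G_vs2 : List Lev :=
  G_v2 :: G_vs3
noncomputable def G_vs1 : List Lev :=
  G_v1 :: G_vs2
noncomputable def G_vs : List Lev :=
  G_v0 :: G_vs1
noncomputable def zt1 : List ℕ :=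
  []
noncomputable def zcj2 : List (List ℕ) :=
  []
noncomputable def zus5 : List (List ℕ) :=
  [[34],
  [35],
  W (nat_lit 0x8c22)]
noncomputable def zF6 : List (List (ℕ × List ℕ)) :=
  [[(0, [32]),
   (2, [33]),
   (3, [32]),
   (1, [])],
  [(1, []),
   (2, []),
   (0, []),
   (3, [33])]]
noncomputable def zus9 : List (List ℕ) :=
  [[28],
  [29],
  [30],
  W (nat_lit 0x741d)]
noncomputable def zF10 : List (List (ℕ × List ℕ)) :=
  [[(1, []),
   (4, []),
   (0, []),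
   (2, W (nat_lit 0x8424)),
   (3, W (nat_lit 0x8c22))],
  [(3, []),
   (0, [33]),
   (4, [32]),
   (2, [34]),
   (1, W (nat_lit 0x8c22))]]
noncomputable def zus13 : List (List ℕ) :=
  [[24],
  [25],
  [26],
  W (nat_lit 0x6419),
  W (nat_lit 0x641b)]
noncomputable def zF14 : List (List (ℕ × List ℕ)) :=
  [[(1, []),
   (4, []),
   (0, []),
   (2, [30]),
   (3, W (nat_lit 0x841d)),
   (5, [28])],
  [(3, []),
   (5, []),
   (2, W (nat_lit 0x84230881e)),
   (0, []),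
   (4, W (nat_lit 0x210741d)),
   (1, [])]]
noncomputable def zus17 : List (List ℕ) :=
  [[20],
  [21],
  [22],
  [23],
  W (nat_lit 0x5418),
  W (nat_lit 0x541b)]
noncomputable def zF18 : List (List (ℕ × List ℕ)) :=
  [[(1, []),
   (4, W (nat_lit 0x2407c19)),
   (0, []),
   (5, W (nat_lit 0x210901e)),
   (2, W (nat_lit 0x882407c1a)),
   (3, W (nat_lit 0x230741d)),
   (6, W (nat_lit 0x7c1a))],
  [(3, []),
   (2, [25]),
   (4, [26]),
   (6, []),
   (0, []),
   (1, []),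
   (5, W (nat_lit 0x7c1a))]]
noncomputable def zus21 : List (List ℕ) :=
  [[16],
  [17],
  [18],
  [19],
  W (nat_lit 0x4411),
  W (nat_lit 0x4415),
  W (nat_lit 0x4417)]
noncomputable def zF22 : List (List (ℕ × List ℕ)) :=
  [[(1, []),
   (5, []),
   (0, []),
   (6, W (nat_lit 0x210901f06415)),
   (4, W (nat_lit 0x641905418)),
   (7, W (nat_lit 0x2107416)),
   (2, W (nat_lit 0x1f06815)),
   (3, W (nat_lit 0x220781a0541b))],
  [(3, []),
   (1, [23]),
   (6, W (nat_lit 0x220901d0741906c18)),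
   (5, W (nat_lit 0x2407c1905418)),
   (0, []),
   (7, W (nat_lit 0x741906c15)),
   (4, W (nat_lit 0x84230781a05418)),
   (2, W (nat_lit 0x220901e06419))]]
noncomputable def zus25 : List (List ℕ) :=
  [[12],
  [13],
  [14],
  [15],
  W (nat_lit 0x340f),
  W (nat_lit 0x3411),
  W (nat_lit 0x3414),
  W (nat_lit 0x341d)]
noncomputable def zF26 : List (List (ℕ × List ℕ)) :=
  [[(1, []),
   (3, W (nat_lit 0x2108c1f0641506011)),
   (0, []),
   (2, [17]),
   (5, W (nat_lit 0x841e0641906011)),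
   (7, W (nat_lit 0x901d06c18)),
   (8, W (nat_lit 0x881d0641b05412)),
   (4, W (nat_lit 0x220781904417)),
   (6, W (nat_lit 0x88230881d074190641504415))],
  [(3, []),
   (5, []),
   (4, W (nat_lit 0x84230881e0641904411)),
   (7, W (nat_lit 0x2106c1506c11)),
   (0, []),
   (1, W (nat_lit 0x841d0741b0541804415)),
   (2, []),
   (6, W (nat_lit 0x2105813)),
   (8, W (nat_lit 0x84230881f05811))]]
noncomputable def zus29 : List (List ℕ) :=
  [[8],
  [9],
  [11],
  W (nat_lit 0x2409),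
  W (nat_lit 0x240b),
  W (nat_lit 0x240c),
  W (nat_lit 0x280a),
  W (nat_lit 0x240d),
  W (nat_lit 0x240e)]
noncomputable def zF30 : List (List (ℕ × List ℕ)) :=
  [[(1, []),
   (4, []),
   (0, []),
   (8, W (nat_lit 0x220741804411)),
   (6, W (nat_lit 0x2407c1a058110540f)),
   (5, W (nat_lit 0x2108c220781a0441503414)),
   (9, W (nat_lit 0x220901d07415044170340f)),
   (2, []),
   (7, W (nat_lit 0x8c190541b044150340f)),
   (3, W (nat_lit 0x2407c1b0581303411))],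
  [(2, W (nat_lit 0x240741d054120341d)),
   (5, []),
   (8, W (nat_lit 0x882307c1a0601105c0f)),
   (0, []),
   (4, W (nat_lit 0x2108c2206c1506c10)),
   (7, W (nat_lit 0x901d07419064150601105c0e)),
   (1, []),
   (3, [13]),
   (9, W (nat_lit 0x901f0641b05c130340f)),
   (6, W (nat_lit 0x882307c1906c110540f))]]
noncomputable def zus33 : List (List ℕ) :=
  [[4],
  [5],
  [6],
  W (nat_lit 0x1405),
  W (nat_lit 0x1410),
  W (nat_lit 0x140c),
  W (nat_lit 0x1c0b),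
  W (nat_lit 0x140e),
  W (nat_lit 0x140d),
  W (nat_lit 0x180c)]
noncomputable def zF34 : List (List (ℕ × List ℕ)) :=
  [[(1, []),
   (4, []),
   (0, []),
   (2, W (nat_lit 0x2208c220741906c1002409)),
   (6, W (nat_lit 0x2208c2207c1905009)),
   (3, W (nat_lit 0x8c1d06c1502409)),
   (8, W (nat_lit 0x2108c220781a0541804c0d0440c)),
   (5, W (nat_lit 0x2208c1f0681105c0d03c09)),
   (10, W (nat_lit 0x841d054180440d)),
   (7, W (nat_lit 0x841d064190541b0480d0240e)),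
   (9, W (nat_lit 0x220741d06c180500c))],
  [(3, []),
   (2, W (nat_lit 0x230881d0741b0540f)),
   (0, W (nat_lit 0x2108c1d06c15060110540d0740a)),
   (5, W (nat_lit 0x8824078190500a)),
   (1, W (nat_lit 0x220901f068160440f0240b)),
   (7, W (nat_lit 0x8c220741506c110540e02409)),
   (4, W (nat_lit 0x8c2206c0f0280a)),
   (9, W (nat_lit 0x8c220641506c0f0240e)),
   (6, W (nat_lit 0x8c1e0641905c0e0240d)),
   (10, W (nat_lit 0x2108c220741d06c1506c0d0500a)),
   (8, W (nat_lit 0x1d074190641506c14034110240b))]]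
noncomputable def zus37 : List (List ℕ) :=
  [[0],
  [1],
  W (nat_lit 0x404),
  W (nat_lit 0x405),
  W (nat_lit 0x80a),
  W (nat_lit 0x101013),
  W (nat_lit 0x10100b),
  W (nat_lit 0x101017),
  W (nat_lit 0x10101e),
  W (nat_lit 0x101014),
  W (nat_lit 0x80c)]
noncomputable def zF38 : List (List (ℕ × List ℕ)) :=
  [[(1, []),
   (2, []),
   (0, []),
   (3, W (nat_lit 0x2108c1d06c15060110540d07405)),
   (4, W (nat_lit 0x8c220741d06c1503c07)),
   (5, W (nat_lit 0x88230881d0641b0400902406)),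
   (6, W (nat_lit 0x2108c1d06c15060110540d07405)),
   (7, W (nat_lit 0x841f06011034140140d)),
   (8, W (nat_lit 0x2108c1d06c15060110540d07405)),
   (9, W (nat_lit 0x2108c1d06c15060110540d07405)),
   (10, W (nat_lit 0x2108c1d06c15060110540d07405)),
   (11, W (nat_lit 0x901b0541b04c0902c06))],
  [(0, W (nat_lit 0x880902406)),
   (2, [4]),
   (4, W (nat_lit 0x8c220741d06c1503c06)),
   (1, []),
   (6, W (nat_lit 0x8424078170500902c05)),
   (3, W (nat_lit 0x880902406)),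
   (8, W (nat_lit 0x220741d064190581103c0902c05)),
   (5, W (nat_lit 0x230881d074190581404005)),
   (10, W (nat_lit 0x220741d0641b0541b03c0902c05)),
   (7, W (nat_lit 0x2208c1f0641b054110440f0240b0140d)),
   (11, W (nat_lit 0x2208c1e06c1704c1001410)),
   (9, W (nat_lit 0x210901d0741a058110380902406))]]

theorem zc0 : P.chainB ns D G_vs [[0], [2]] = true := by decide +kernel
theorem zb3 : bnd (pcB D [] 3 zt1 zcj2) (leB (app D []) [[32]] ([32] :: [])) = true := by decide +kernel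
theorem zr4 : chk (pcR [] [32] 3 zt1 zcj2) = true := by decide +kernel
theorem zb7 : schB D [[32], [34]] [[32]] zus5 zF6 4 = true := by decide +kernel
theorem zr8 : chk (schR [[32], [34]] zus5 zF6) = true := by decide +kernel
theorem zb11 : schB D [[28], [30]] [[32], [34]] zus9 zF10 5 = true := by decide +kernel
theorem zr12 : chk (schR [[28], [30]] zus9 zF10) = true := by decide +kernel
theorem zb15 : schB D [[24], [26]] [[28], [30]] zus13 zF14 6 = true := by decide +kernel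
theorem zr16 : chk (schR [[24], [26]] zus13 zF14) = true := by decide +kernel
theorem zb19 : schB D [[20], [22]] [[24], [26]] zus17 zF18 7 = true := by decide +kernel
theorem zr20 : chk (schR [[20], [22]] zus17 zF18) = true := by decide +kernel
theorem zb23 : schB D [[16], [18]] [[20], [22]] zus21 zF22 8 = true := by decide +kernel
theorem zr24 : chk (schR [[16], [18]] zus21 zF22) = true := by decide +kernel
theorem zb27 : schB D [[12], [14]] [[16], [18]] zus25 zF26 9 = true := by decide +kernel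
theorem zr28 : chk (schR [[12], [14]] zus25 zF26) = true := by decide +kernel
theorem zb31 : schB D [[8], [10]] [[12], [14]] zus29 zF30 10 = true := by decide +kernel
theorem zr32 : chk (schR [[8], [10]] zus29 zF30) = true := by decide +kernel
theorem zb35 : schB D [[4], [6]] [[8], [10]] zus33 zF34 11 = true := by decide +kernel
theorem zr36 : chk (schR [[4], [6]] zus33 zF34) = true := by decide +kernel
theorem zb39 : schB D [[0], [2]] [[4], [6]] zus37 zF38 12 = true := by decide +kernel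
theorem zr40 : chk (schR [[0], [2]] zus37 zF38) = true := by decide +kernel
theorem zk41 : allL (keepB P.n P.N) ns0 = true := by decide +kernel
theorem ze42 : extB ns0 ns 2 ws [] = true := by decide +kernel
theorem zn43 : P.netsB ns (mkDefs ws 2) = true := by decide +kernel

section
variable {G X : Type*} [Group G] [MulAction G X] {e : ℕ → X} {gs : List G}

theorem keep0 : allL (keepB P.n P.N) ns0 = true := zk41

theorem len {k} (c : Ctx P e gs ns0 [] k) : gs.length = 2 := c.len ze42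

theorem ctx0 {k} (c : Ctx P e gs ns0 [] k) : Ctx P e (ext gs ws) ns D chk0 :=
  c.ext rfl ze42 zn43

theorem ctx {k} (c : Ctx P e gs ns0 [] k) {H : Subgroup G} (hF : Faithful e P.n H) (hH : ∀ g ∈ gs, g ∈ H) :
    Ctx P e (ext gs ws) ns D chk :=
  (ctx0 c).withB hF (mem_of_mem_ext hH _)

instance instNe : NeZero P.n := ⟨by decide⟩
noncomputable def gs0 : List (Equiv.Perm (Fin P.n)) := permsOf P.n P.N ns0
noncomputable def gs1 : List (Equiv.Perm (Fin P.n)) := ext gs0 ws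
theorem c1 : Ctx P (eF P.n) gs1 ns D chk :=
  ctx (ctx_permsOf hP keep0) (faithful_eF _) fun _ _ => trivial

theorem G_c : P.chainB ns D G_vs [[0], [2]] = true :=
  zc0

theorem G_o : prodL G_vs 1 = 239500800 := by decide +kernel

theorem G_lb (c : Ctx P e gs ns D chk) :
    LB (subW gs [[0], [2]]) 239500800 :=
  c.lb G_c G_o

theorem G_u9 (c : Ctx P e gs ns D chk) :
    UB (subW gs [[32]]) 3 :=
  (c.pc_step (UB.nil gs) (Rels.nil _)
    (c.rels _ zr4) zb3).le (by decide)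

theorem G_u8 (c : Ctx P e gs ns D chk) :
    UB (subW gs [[32], [34]]) 12 :=
  (c.sch_step (G_u9 c)
    (c.rels _ zr8) zb7).le (by decide)

theorem G_u7 (c : Ctx P e gs ns D chk) :
    UB (subW gs [[28], [30]]) 60 :=
  (c.sch_step (G_u8 c)
    (c.rels _ zr12) zb11).le (by decide)

theorem G_u6 (c : Ctx P e gs ns D chk) :
    UB (subW gs [[24], [26]]) 360 :=
  (c.sch_step (G_u7 c)
    (c.rels _ zr16) zb15).le (by decide)

theorem G_u5 (c : Ctx P e gs ns D chk) :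
    UB (subW gs [[20], [22]]) 2520 :=
  (c.sch_step (G_u6 c)
    (c.rels _ zr20) zb19).le (by decide)

theorem G_u4 (c : Ctx P e gs ns D chk) :
    UB (subW gs [[16], [18]]) 20160 :=
  (c.sch_step (G_u5 c)
    (c.rels _ zr24) zb23).le (by decide)

theorem G_u3 (c : Ctx P e gs ns D chk) :
    UB (subW gs [[12], [14]]) 181440 :=
  (c.sch_step (G_u4 c)
    (c.rels _ zr28) zb27).le (by decide)

theorem G_u2 (c : Ctx P e gs ns D chk) :
    UB (subW gs [[8], [10]]) 1814400 :=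
  (c.sch_step (G_u3 c)
    (c.rels _ zr32) zb31).le (by decide)

theorem G_u1 (c : Ctx P e gs ns D chk) :
    UB (subW gs [[4], [6]]) 19958400 :=
  (c.sch_step (G_u2 c)
    (c.rels _ zr36) zb35).le (by decide)

theorem G_u0 (c : Ctx P e gs ns D chk) :
    UB (subW gs [[0], [2]]) 239500800 :=
  (c.sch_step (G_u1 c)
    (c.rels _ zr40) zb39).le (by decide)

theorem G_ub (c : Ctx P e gs ns D chk) :
    UB (subW gs [[0], [2]]) 239500800 :=
  (G_u0 c)

theorem card : Nat.card (subW gs1 [[0], [2]]) = 239500800 := (G_ub c1).card_eq (G_lb c1)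
theorem eq : (subW gs1 [[0], [2]]) = alternatingGroup (Fin 12) := eq_alternatingGroup_of_card card (by decide)
theorem iso : Nonempty ((subW gs1 [[0], [2]]) ≃* alternatingGroup (Fin 12)) := ⟨MulEquiv.subgroupCongr eq⟩

theorem simple : IsSimpleGroup (subW gs1 [[0], [2]]) :=
  have := alternatingGroup.isSimpleGroup (α := Fin 12) (by simp)
  iso.some.isSimpleGroup

theorem ub : UB (subW gs1 [[0], [2]]) 239500800 := UB.of_card card (by norm_num)

end
end CL.Std.A12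

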