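/-
Centralisers `(2^k × 2^{1+8}).U₄(2)` (helper9), part D: definitions and the statements of the intermediate results.
-/
import Cfsg.Agent.Spor.U6Z
import Cfsg.Agent.Spor.U6I

set_option autoImplicit false

namespace CL.Fc

open Subgroup CL.Even CL.Grp CL.U6 CL.MT Cfsg

universe u v

/-- `J = Z * 2^{1+8}` is normal in `H`, `H / J = Γ` is `U₄(2)` or `U₄(2).2`, and `π` identifies `J / Z` with an
orthogonal module. -/
structure GM (G : Type u) (Γ : Type v) [Group G] [Group Γ] where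
  z : G
  H : Subgroup G
  Z : Subgroup G
  J : Subgroup G
  m : Γ → ℕ
  r : G → Γ
  π : G → V8
  ρ : Γ →* Module.End (ZMod 2) V8
  B : LinearMap.BilinForm (ZMod 2) V8
  q : V8 → ZMod 2
  rm : RM m ρ B q
  ord : orderOf z = 2
  zZ : z ∈ Z
  ZJ : Z ≤ J
  JH : J ≤ H
  Hz : ∀ {c}, c ∈ H → Commute c z
  norm : ∀ {c j}, c ∈ H → j ∈ J → c * j * c⁻¹ ∈ J
  sq : ∀ {j}, j ∈ J → j * j = 1 ∨ j * j = z
  π_mul : ∀ {a b}, a ∈ J → b ∈ J → π (a * b) = π a + π b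
  π_surj : ∀ v, ∃ a ∈ J, π a = v
  π_zero : ∀ {a}, a ∈ J → (π a = 0 ↔ a ∈ Z)
  q_zero : ∀ {a}, a ∈ J → (q (π a) = 0 ↔ a * a = 1)
  B_zero : ∀ {a b}, a ∈ J → b ∈ J → (B (π a) (π b) = 0 ↔ Commute a b)
  act : ∀ {c a}, c ∈ H → a ∈ J → ρ (r c) (π a) = π (c * a * c⁻¹)
  r_mul : ∀ {a b}, a ∈ H → b ∈ H → r (a * b) = r a * r b
  r_eq : ∀ {a}, a ∈ H → (r a = 1 ↔ a ∈ J)
  r_surj : ∀ γ, ∃ a ∈ H, r a = γ
  inner : ∀ {c}, c ∈ H → sl (m (r c)) = false → ∀ e ∈ Z, Commute c e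

/-- `γ` is a transvection. -/
def Tv {Γ : Type v} (m : Γ → ℕ) (γ : Γ) : Prop := ∃ v, Iso v ∧ m γ = tv v

/-- The module has vectors fixed by `U₄(2)`. -/
def RT {Γ : Type v} [Group Γ] (m : Γ → ℕ) (ρ : Γ →* Module.End (ZMod 2) V8) : Prop :=
  ∃ d, m d = d1 ∧ ∀ γ ∈ LL m, ∀ u, ρ d u = u → ρ γ u = u

/-- Splitting data for an involution `γ`. -/
def Sp {Γ : Type v} [Group Γ] (m : Γ → ℕ) (ρ : Γ →* Module.End (ZMod 2) V8) (γ δ : Γ) : Prop :=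
  δ ∈ LL m ∧ δ ^ 3 = 1 ∧ Commute δ (γ * δ * γ⁻¹) ∧ ∃ i ∈ LL m, i * i = γ ∧ ∀ u, ρ δ u = u → ρ i u = u

/-- `z` is isolated in the centraliser of `d`. -/
def Isl {G : Type u} [Group G] (z d : G) : Prop :=
  ∀ g, Commute g d → Commute z (g * z * g⁻¹) → g * z * g⁻¹ = z

/-- `C(z) = (2 × 2^{1+8}).Γ`. -/
structure FM (G : Type u) (Γ : Type v) [Group G] [Group Γ] extends GM G Γ where
  a : G
  hH : ∀ {c}, Commute c z → c ∈ H
  mem_Z : ∀ {e}, e ∈ Z ↔ e = 1 ∨ e = a ∨ e = z ∨ e = a * z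
  a1 : a ≠ 1
  az : a ≠ z

/-- `C(z) = (2² × 2^{1+8}).(3 × U₄(2)).2`; here `H = C(z) ∩ C(v)`. -/
structure TM (G : Type u) (Γ : Type v) [Group G] [Group Γ] extends GM G Γ where
  v : G
  c : G
  V : Subgroup G
  hH : ∀ {h}, h ∈ H ↔ Commute h z ∧ Commute h v
  mem_V : ∀ {e}, e ∈ V ↔ e = 1 ∨ e = v ∨ e = c * v * c⁻¹ ∨ e = v * (c * v * c⁻¹)
  v1 : v ≠ 1
  cv : c * v * c⁻¹ ≠ v
  cc : c * (c * v * c⁻¹) * c⁻¹ = v * (c * v * c⁻¹)
  zV : z ∉ V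
  mem_Z : ∀ {e}, e ∈ Z ↔ e ∈ V ∨ e * z ∈ V
  cz : Commute c z
  nJ : ∀ {h j}, Commute h z → j ∈ J → h * j * h⁻¹ ∈ J
  nV : ∀ {h e}, Commute h z → e ∈ V → h * e * h⁻¹ ∈ V
  sw : ∃ s ∈ H, ¬ Commute s (c * v * c⁻¹)
  cJ : ∀ {h}, Commute h z → (∀ e ∈ V, Commute h e) → h * c * h⁻¹ * c⁻¹ ∈ J
  cnt : ∃ j ∈ J, c * j * c⁻¹ * j⁻¹ ∉ Z

/-- Global properties of `J` and `Z`. -/
structure GM.Big {G : Type u} {Γ : Type v} [Group G] [Group Γ] (S : GM G Γ) : Prop where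
  nJ : ∀ {h j}, Commute h S.z → j ∈ S.J → h * j * h⁻¹ ∈ S.J
  cZ : ∀ {c}, (∀ e ∈ S.Z, Commute c e) → c ∈ S.H
  nz : ∀ g, g * S.z * g⁻¹ ∈ S.Z → g * S.z * g⁻¹ = S.z

/-- Facts about `X = U₆(2)` or `U₆(2).2`: `G₀` is the simple group, `F` is elementary abelian of order `2⁹`. -/
structure FSD {X : Type u} {Γ : Type v} [Group X] [Group Γ] (z : X) (m : Γ → ℕ) (r : X → Γ) (F G₀ : Subgroup X) :
    Prop where
  normal : G₀.Normal
  index : G₀.index * 25920 = Nat.card Γ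
  simple : IsSimpleGroup G₀
  perfect : ⁅G₀, G₀⁆ = G₀
  cent : 𝒞(G₀) = ⊥
  inner : ∀ {c}, Commute c z → (c ∈ G₀ ↔ sl (m (r c)) = false)
  zF : z ∈ F
  FG : F ≤ G₀
  sq : ∀ y ∈ F, y * y = 1
  card : Nat.card F = 512
  gen : F ≤ closure {x | x ∈ F ∧ IsConj z x}
  cnt : 21 ≤ {x | x ∈ F ∧ IsConj z x}.ncard
  fus : ∀ x ∈ F, IsConj z x → ∃ n ∈ 𝒩(F), n * z * n⁻¹ = x
  big : ∀ y ∈ F, y ≠ 1 → ¬ IsConj z y → 120 ≤ {x | x ∈ F ∧ IsConj y x}.ncard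
  wc : ∀ P : Subgroup X, IsPGroup 2 P → (∀ a ∈ P, Commute a z) → F ≤ P → ∀ E ≤ P, (∀ a ∈ E, a * a = 1) →
    512 ≤ Nat.card E → E ≤ F
  inv : ∀ y ∈ G₀, y * y = 1 → ∃ g, g * y * g⁻¹ ∈ F

/-- `C(y) / V` is `U₆(2)` or `U₆(2).2`, with `V` elementary abelian of order at most four. -/
structure VS {G X : Type u} {Γ : Type v} [Group G] [Group X] [Group Γ] (z y : G) (V : Subgroup G)
    (hz : z ∈ centralizer ({y} : Set G)) (φ : centralizer ({y} : Set G) →* X) (Q : Subgroup X) (m : Γ → ℕ)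
    (r : X → Γ) : Prop where
  zz : z * z = 1
  sq : ∀ e ∈ V, e * e = 1
  card : Nat.card V ≤ 4
  yV : y ∈ V
  y1 : y ≠ 1
  Vz : ∀ e ∈ V, Commute e z
  conjV : ∀ e ∈ V, e ≠ 1 → ∃ h, Commute h z ∧ h * y * h⁻¹ = e
  nV : ∀ {h e}, Commute h z → e ∈ V → h * e * h⁻¹ ∈ V
  surj : Function.Surjective φ
  ker : ∀ c, φ c = 1 ↔ (c : G) ∈ V
  ls : LS (φ ⟨z, hz⟩) Q m r
  nz : ∀ e ∈ V, IsConj z (z * e) → e = 1
  ny : ∀ e ∈ V, ¬ IsConj y (z * e)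
  odd : Odd (centralizer ({z} : Set G) ⊓ centralizer {y}).index
  root : ∃ j : centralizer ({y} : Set G), φ j ∈ Q ∧ (j : G) * j = z
  hu : ∃ u, (u = z ∨ u = z * y) ∧ ∀ g, Commute g u → Commute (g * z * g⁻¹) z → Commute g y
  hw : ∀ g, Commute g (z * y) → Commute (g * z * g⁻¹) z → g * z * g⁻¹ = z ∨
    ∃ h : g * z * g⁻¹ ∈ centralizer ({y} : Set G), sl (m (r (φ ⟨_, h⟩))) = false
  core : ∀ g ∈ oddCore G, Commute g z → g = 1

/-! ### statements about `Γ` and its modules -/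

/-- subgroups of `Γ` -/
def MD : Prop := ∀ (Γ : Type v) [Group Γ] (m : Γ → ℕ), Md m →
  (∀ (R : Subgroup Γ) (w : Γ), IsPGroup 2 R → (∀ a ∈ R, a * a = 1 ∨ a * a = w) → Nat.card R ≤ 32) ∧
  (∀ E : Subgroup Γ, E ≤ LL m → (∀ a ∈ E, a * a = 1) → 8 ≤ Nat.card E → ∃ a ∈ E, Tv m a) ∧
  (∀ R : Subgroup Γ, R ≤ LL m → IsPGroup 2 R → Nat.card R ≤ 64) ∧
  (∀ a b : Γ, (∀ x ∈ l0, ap (m a) x = x) → (∀ x ∈ l0, ap (m b) x = x) → a ≠ 1 → b ≠ 1 → a * b ≠ 1 → ¬ Tv m a →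
    ¬ Tv m b → ¬ Tv m (a * b) → ∃ γ ∈ LL m, γ ^ 3 = 1 ∧ Commute γ a ∧ ¬ Commute γ b)

/-- transvections on an arbitrary module -/
def RA1 : Prop := ∀ (Γ : Type v) [Group Γ] (m : Γ → ℕ) (ρ : Γ →* Module.End (ZMod 2) V8)
  (B : LinearMap.BilinForm (ZMod 2) V8) (q : V8 → ZMod 2), RM m ρ B q → ∀ t, Tv m t →
  Nat.card (Fx (ρ t)) = 64 ∧ ∃ δ, Sp m ρ t δ ∧ Commute δ t ∧ ∀ v, ρ δ (ρ t v + v) = ρ t v + v → ρ t v = v

/-- the other involutions -/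
def RA2 : Prop := ∀ (Γ : Type v) [Group Γ] (m : Γ → ℕ) (ρ : Γ →* Module.End (ZMod 2) V8)
  (B : LinearMap.BilinForm (ZMod 2) V8) (q : V8 → ZMod 2), RM m ρ B q →
  (∀ y, y * y = 1 → y ≠ 1 → (∀ v, q (ρ y v + v) = 0) → 32 ≤ Nat.card (Fx (ρ y)) → Tv m y) ∧
  (RT m ρ → ∀ y, Cj m y b0 → 64 ≤ Nat.card (Fx (ρ y)) ∧ ∃ δ, Sp m ρ y δ)

/-! ### statements about `GM` -/

/-- centralisers in `J` of transvections are large -/
def MF1 : Prop := ∀ (G : Type u) (Γ : Type v) [Group G] [Group Γ] [Finite G] (S : GM G Γ) (y : G), y ∈ S.H →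
  y * y = 1 → Tv S.m (S.r y) → 32 * Nat.card S.Z ≤ Nat.card (S.J ⊓ centralizer {y} : Subgroup G)

/-- recognition of transvections -/
def MF2 : Prop := ∀ (G : Type u) (Γ : Type v) [Group G] [Group Γ] [Finite G] (S : GM G Γ) (y : G), y ∈ S.H →
  y ∉ S.J → y * y = 1 → (∀ j ∈ S.J, j * y * j⁻¹ * y * (j * y * j⁻¹ * y) = 1) →
  32 * Nat.card S.Z ≤ Nat.card (S.J ⊓ centralizer {y} : Subgroup G) → Tv S.m (S.r y)

/-- four-groups without transvections -/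
def MF4 : Prop := ∀ (G : Type u) (Γ : Type v) [Group G] [Group Γ] [Finite G] (S : GM G Γ) (x y : G), x ∈ S.H →
  y ∈ S.H → x * x = 1 → y * y = 1 → Commute x y → (∀ e ∈ S.Z, Commute x e) → (∀ e ∈ S.Z, Commute y e) →
  x ∉ S.J → y ∉ S.J → x * y ∉ S.J → ¬ Tv S.m (S.r x) → ¬ Tv S.m (S.r y) → ¬ Tv S.m (S.r (x * y)) →
  (∀ j ∈ S.J, Commute j x ↔ Commute j y) → (∀ j ∈ S.J, Commute j (x * y) → Commute j x) →
  Nat.card (S.J ⊓ centralizer {x} : Subgroup G) ≤ 16 * Nat.card S.Z → ∃ c ∈ S.H, Commute c x ∧ ¬ Commute c y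

/-- the centre of the centraliser of a transvection -/
def MF5 : Prop := ∀ (G : Type u) (Γ : Type v) [Group G] [Group Γ] [Finite G] (S : GM G Γ) (t x : G), t ∈ S.H →
  t * t = 1 → Tv S.m (S.r t) → 64 * Nat.card S.Z ≤ Nat.card (S.J ⊓ centralizer {t} : Subgroup G) → x ∈ S.J →
  (∀ c ∈ S.H, Commute c t → Commute c x) → x ∈ S.Z

/-! ### global statements -/

/-- structure of `U₆(2)` -/
def FS : Prop := ∀ (X : Type u) (Γ : Type v) [Group X] [Group Γ] [Finite X] (z : X) (Q : Subgroup X) (m : Γ → ℕ)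
  (r : X → Γ), LS z Q m r → ∃ F G₀, FSD z m r F G₀

/-- `V` is normal -/
def VSN : Prop := ∀ (G X : Type u) (Γ : Type v) [Group G] [Group X] [Group Γ] [Finite G] (z y : G) (V : Subgroup G)
  (hz : z ∈ centralizer ({y} : Set G)) (φ : centralizer ({y} : Set G) →* X) (Q : Subgroup X) (m : Γ → ℕ) (r : X → Γ),
  VS z y V hz φ Q m r → V.Normal

/-- the case that `z` is isolated in `C(a)` and `C(a z)` -/
def FB : Prop := ∀ (G : Type u) (Γ : Type v) [Group G] [Group Γ] [Finite G] (S : FM G Γ), Isl S.z S.a →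
  Isl S.z (S.a * S.z) → IsIsolatedInvolution S.z

/-- the case of `Fi₂₂` -/
def FA1 : Prop := ∀ (G : Type u) (Γ : Type v) [Group G] [Group Γ] [Finite G] (S : FM G Γ),
  (∃ h ∈ S.H, ¬ Commute h S.a) → ¬ Isl S.z S.a → Spor.IsoFi22 G ∧ S.a ∈ ⁅𝒞(S.Z), 𝒞(S.Z)⁆

/-- the case of `2.U₆(2).2` -/
def FA2 : Prop := ∀ (G : Type u) (Γ : Type v) [Group G] [Group Γ] [Finite G] (S : FM G Γ),
  (∀ h ∈ S.H, Commute h S.a) → ¬ Isl S.z S.a → ∀ g, Commute g S.a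

/-- the case that `z` is isolated in the centralisers of all other involutions of `Z` -/
def TG : Prop := ∀ (G : Type u) (Γ : Type v) [Group G] [Group Γ] [Finite G] (S : TM G Γ), Isl S.z S.v →
  Isl S.z (S.z * S.v) → IsIsolatedInvolution S.z

namespace GM

variable {G : Type u} {Γ : Type v} [Group G] [Group Γ] (S : GM G Γ)

theorem md : Md S.m := S.rm.md

theorem zz : S.z * S.z = 1 := mul_self_of_orderOf_two S.ord

theorem z1 : S.z ≠ 1 := fun h1 => by simpa [h1] using S.ord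

theorem zJ : S.z ∈ S.J := S.ZJ S.zZ

theorem ZH : S.Z ≤ S.H := S.ZJ.trans S.JH

theorem Jz {j : G} (hj : j ∈ S.J) : Commute j S.z := S.Hz (S.JH hj)

theorem π_Z {e : G} (he : e ∈ S.Z) : S.π e = 0 := (S.π_zero (S.ZJ he)).mpr he

theorem π_one : S.π 1 = 0 := S.π_Z S.Z.one_mem

theorem Zsq {e : G} (he : e ∈ S.Z) : e * e = 1 :=
  (S.q_zero (S.ZJ he)).mp (by rw [S.π_Z he, quad2_zero S.rm.hq])

theorem Zinv {e : G} (he : e ∈ S.Z) : e⁻¹ = e := inv_eq_of_mul_eq_one_right (S.Zsq he)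

theorem Zc {e j : G} (he : e ∈ S.Z) (hj : j ∈ S.J) : Commute e j :=
  (S.B_zero (S.ZJ he) hj).mp (by rw [S.π_Z he, map_zero]; rfl)

theorem π_inv {a : G} (ha : a ∈ S.J) : S.π a⁻¹ = S.π a :=
  eq_of_add_eq_zero_zmod2 (by rw [← S.π_mul (inv_mem ha) ha, inv_mul_cancel, S.π_one])

theorem π_eq {a b : G} (ha : a ∈ S.J) (hb : b ∈ S.J) : S.π a = S.π b ↔ b⁻¹ * a ∈ S.Z := by
  rw [← S.π_zero (mul_mem (inv_mem hb) ha), S.π_mul (inv_mem hb) ha, S.π_inv hb]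
  exact ⟨fun e => by rw [e, add_self_zmod2], fun e => (eq_of_add_eq_zero_zmod2 e).symm⟩

theorem r_J {a : G} (ha : a ∈ S.J) : S.r a = 1 := (S.r_eq (S.JH ha)).mpr ha

theorem r_one : S.r 1 = 1 := S.r_J S.J.one_mem

theorem r_inv {a : G} (ha : a ∈ S.H) : S.r a⁻¹ = (S.r a)⁻¹ :=
  eq_inv_of_mul_eq_one_left (by rw [← S.r_mul (inv_mem ha) ha, inv_mul_cancel, S.r_one])

theorem r_conj {a b : G} (ha : a ∈ S.H) (hb : b ∈ S.H) : S.r (a * b * a⁻¹) = S.r a * S.r b * (S.r a)⁻¹ := by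
  rw [S.r_mul (mul_mem ha hb) (inv_mem ha), S.r_mul ha hb, S.r_inv ha]

theorem r_sq {a : G} (ha : a ∈ S.H) (h2 : a * a ∈ S.J) : S.r a * S.r a = 1 := by rw [← S.r_mul ha ha, S.r_J h2]

theorem r_comm {a b : G} (ha : a ∈ S.H) (hb : b ∈ S.H) (h : Commute a b) : Commute (S.r a) (S.r b) := by
  rw [Commute, SemiconjBy, ← S.r_mul ha hb, h.eq, S.r_mul hb ha]

theorem normZ {c e : G} (hc : c ∈ S.H) (he : e ∈ S.Z) : c * e * c⁻¹ ∈ S.Z :=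
  (S.π_zero (S.norm hc (S.ZJ he))).mp (by rw [← S.act hc (S.ZJ he), S.π_Z he, map_zero])

/-- `H / J` acts faithfully on `J / Z`. -/
theorem faith {c : G} (hc : c ∈ S.H) (h : ∀ j ∈ S.J, j⁻¹ * (c * j * c⁻¹) ∈ S.Z) : c ∈ S.J :=
  (S.r_eq hc).mp (S.rm.faith _ fun v => by
    obtain ⟨j, hj, rfl⟩ := S.π_surj v
    rw [S.act hc hj, S.π_eq (S.norm hc hj) hj]
    exact h j hj)

theorem mem_Z_of_comm {c : G} (hc : c ∈ S.J) (h : ∀ j ∈ S.J, Commute c j) : c ∈ S.Z :=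
  (S.π_zero hc).mp (S.rm.hN _ fun v => by
    obtain ⟨j, hj, rfl⟩ := S.π_surj v
    exact (S.B_zero hc hj).mpr (h j hj))

theorem cent {c : G} (hc : c ∈ S.H) (h : ∀ j ∈ S.J, Commute c j) : c ∈ S.Z :=
  S.mem_Z_of_comm (S.faith hc fun j hj => by rw [conj_eq_of_commute (h j hj), inv_mul_cancel]; exact one_mem _) h

/-- commutators in `J` -/
theorem conj_J {a b : G} (ha : a ∈ S.J) (hb : b ∈ S.J) : Commute a b ∨ a * b * a⁻¹ = b * S.z := by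
  have k : ∀ {j}, j ∈ S.J → j * j ∈ zpowers S.z := fun hj => (mem_zpowers_two S.ord).mpr (S.sq hj)
  have h1 : b⁻¹ * (a * b * a⁻¹) = b⁻¹ * b⁻¹ * (b * a * (b * a)) * (a⁻¹ * a⁻¹) := by group
  rcases (mem_zpowers_two S.ord).mp (h1 ▸ mul_mem (mul_mem (k (inv_mem hb)) (k (mul_mem hb ha))) (k (inv_mem ha)))
    with e | e
  · exact Or.inl (mul_inv_eq_iff_eq_mul.mp (inv_mul_eq_one.mp e).symm)
  · exact Or.inr (inv_mul_eq_iff_eq_mul.mp e)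

theorem isPGroup : IsPGroup 2 S.J := fun x => ⟨2, Subtype.ext (by
  have : ((x : G) * x) * (x * x) = 1 := by rcases S.sq x.2 with e | e <;> simp [e, S.zz]
  simpa [pow_succ, mul_assoc] using this)⟩

/-- `z` is a square in `J`. -/
theorem exists_root : ∃ j ∈ S.J, j * j = S.z := by
  by_contra! h
  have h1 : ∀ v, S.q v = 0 := fun v => by
    obtain ⟨j, hj, rfl⟩ := S.π_surj v
    exact (S.q_zero hj).mpr ((S.sq hj).resolve_right (h j hj))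
  have := S.rm.hN (fun _ => 1) fun y => by simpa [h1] using (S.rm.hq (fun _ => 1) y).symm
  exact one_ne_zero (congrFun this 0)

/-- the image of a subgroup of `J` in the module -/
theorem exists_img [Finite G] {Y : Subgroup G} (hY : Y ≤ S.J) : ∃ U : Submodule (ZMod 2) V8,
    (∀ v, v ∈ U ↔ ∃ a ∈ Y, S.π a = v) ∧ Nat.card Y = Nat.card (Y ⊓ S.Z : Subgroup G) * Nat.card U := by
  let f : Y →* Multiplicative V8 := MonoidHom.mk' (fun a => Multiplicative.ofAdd (S.π a)) fun a b =>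
    S.π_mul (hY a.2) (hY b.2)
  refine ⟨AddSubgroup.toZModSubmodule 2 (Subgroup.toAddSubgroup' f.range),
    fun v => ⟨fun ⟨a, e⟩ => ⟨a, a.2, e⟩, fun ⟨a, ha, e⟩ => ⟨⟨a, ha⟩, e⟩⟩, ?_⟩
  rw [← card_subgroupOf_of_le (inf_le_left : Y ⊓ S.Z ≤ Y), inf_subgroupOf_left,
    show S.Z.subgroupOf Y = f.ker from Subgroup.ext fun a => (S.π_zero (hY a.2)).symm, ← f.ker.card_mul_index,
    index_ker]
  rfl

theorem card_J [Finite G] : Nat.card S.J = 256 * Nat.card S.Z := by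
  obtain ⟨U, h1, h2⟩ := S.exists_img le_rfl
  rw [h2, inf_eq_right.mpr S.ZJ, show U = ⊤ from eq_top_iff.mpr fun v _ => (h1 v).mpr (S.π_surj v),
    Nat.card_congr Submodule.topEquiv.toEquiv, mul_comm]
  simp

/-- the image of a subgroup of `H` in `Γ` -/
theorem exists_im [Finite G] {E : Subgroup G} (hE : E ≤ S.H) : ∃ I : Subgroup Γ,
    (∀ γ, γ ∈ I ↔ ∃ a ∈ E, S.r a = γ) ∧ Nat.card E = Nat.card (E ⊓ S.J : Subgroup G) * Nat.card I := by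
  let f : E →* Γ := MonoidHom.mk' (fun a => S.r a) fun a b => S.r_mul (hE a.2) (hE b.2)
  refine ⟨f.range, fun γ => ⟨fun ⟨a, e⟩ => ⟨a, a.2, e⟩, fun ⟨a, ha, e⟩ => ⟨⟨a, ha⟩, e⟩⟩, ?_⟩
  rw [← index_ker, ← card_subgroupOf_of_le (inf_le_left : E ⊓ S.J ≤ E), inf_subgroupOf_left,
    show S.J.subgroupOf E = f.ker from Subgroup.ext fun a => (S.r_eq (hE a.2)).symm, card_mul_index]

/-- the conjugate structure -/
def conj (g : G) : GM G Γ where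
  z := g * S.z * g⁻¹
  H := cj g S.H
  Z := cj g S.Z
  J := cj g S.J
  m := S.m
  r c := S.r (g⁻¹ * c * g)
  π c := S.π (g⁻¹ * c * g)
  ρ := S.ρ
  B := S.B
  q := S.q
  rm := S.rm
  ord := by rw [← S.ord]; exact (MulAut.conj g).orderOf_eq S.z
  zZ := conj_mem_cj g S.zZ
  ZJ := map_mono S.ZJ
  JH := map_mono S.JH
  Hz := by rintro _ ⟨c, hc, rfl⟩; exact commute_conj (S.Hz hc)
  norm hc hj := mem_cj.mpr (by simpa [mul_assoc] using S.norm (mem_cj.mp hc) (mem_cj.mp hj))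
  sq := by
    rintro _ ⟨j, hj, rfl⟩
    rcases S.sq hj with e | e <;> simp [e]
  π_mul ha hb := by rw [← S.π_mul (mem_cj.mp ha) (mem_cj.mp hb)]; congr 1; group
  π_surj v := by
    obtain ⟨a, ha, rfl⟩ := S.π_surj v
    exact ⟨_, conj_mem_cj g ha, by congr 1; group⟩
  π_zero ha := by rw [S.π_zero (mem_cj.mp ha), mem_cj]
  q_zero := fun {a} ha => by
    rw [S.q_zero (mem_cj.mp ha), show g⁻¹ * a * g * (g⁻¹ * a * g) = g⁻¹ * (a * a) * g⁻¹⁻¹ by group,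
      conj_eq_one_iff]
  B_zero ha hb := by
    rw [S.B_zero (mem_cj.mp ha) (mem_cj.mp hb), ← CL.TT.commute_conj_iff g]
    simp [mul_assoc]
  act hc ha := by rw [S.act (mem_cj.mp hc) (mem_cj.mp ha)]; congr 1; group
  r_mul ha hb := by rw [← S.r_mul (mem_cj.mp ha) (mem_cj.mp hb)]; congr 1; group
  r_eq ha := by rw [S.r_eq (mem_cj.mp ha), mem_cj]
  r_surj γ := by
    obtain ⟨a, ha, rfl⟩ := S.r_surj γ
    exact ⟨_, conj_mem_cj g ha, by congr 1; group⟩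
  inner hc h e he := by
    simpa [mul_assoc] using commute_conj (g := g) (S.inner (mem_cj.mp hc) h _ (mem_cj.mp he))

end GM

end CL.Fc
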