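/-
Centralisers `(2^k × 2^{1+8}).U₄(2)`, part MD: subgroups of `U₄(2).2`.
-/
import Cfsg.Agent.Spor.FcD

set_option autoImplicit false

namespace CL.Fc

open Subgroup CL.Even CL.Grp CL.U6 CL.MT Cfsg

universe u v

theorem md_sq : (∀ A ∈ T2, mm A A ∈ T2) ∧
    ∀ W ∈ T2, (T2.filter fun A => Nat.beq (mm A A) I8 || Nat.beq (mm A A) W).length ≤ 56 := by decide +kernel

/-- the inner involutions of the Sylow subgroup which are not transvections -/
noncomputable def NT : List ℕ := IV.filter fun A => !sl A && !decide (A = I8) && !decide (A ∈ TV)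

theorem md_nt : ∀ A ∈ NT, ∀ B ∈ NT, mm A B ∈ NT → ∀ C ∈ NT, mm A C ∈ NT → mm B C ∈ NT → mm (mm A B) C ∉ NT := by
  decide +kernel

theorem md_ew : ∀ w1 ∈ EW, ∀ w2 ∈ EW, tw w1 ∉ I8 :: TV → tw w2 ∉ I8 :: TV → mm (tw w1) (tw w2) ∉ I8 :: TV →
    ∃ g ∈ [[102, 93, 17, 6], [107, 86, 18, 6], [109, 91, 19, 6], [106, 96, 86, 6], [111, 96, 91, 6], [101, 96, 93, 6],
      [72, 68, 18, 17], [110, 102, 66, 17], [123, 119, 67, 17], [111, 103, 67, 18]], (∀ v ∈ g, Iso v) ∧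
      sl (tw g) = false ∧ mm (tw g) (mm (tw g) (tw g)) = I8 ∧ mm (tw g) (tw w1) = mm (tw w1) (tw g) ∧
      mm (tw g) (tw w2) ≠ mm (tw w2) (tw g) := by decide +kernel

theorem tv_of_mem_TV {Γ : Type v} [Group Γ] {m : Γ → ℕ} {a : Γ} (h : m a ∈ TV) : Tv m a :=
  let ⟨v, _, hv, e⟩ := TV_spec.2.2.2 _ h
  ⟨v, hv, e.symm⟩

theorem Tv.conj {Γ : Type v} [Group Γ] {m : Γ → ℕ} (h : Md m) {a : Γ} (ha : Tv m a) (g : Γ) : Tv m (g * a * g⁻¹) :=
  let ⟨_, hv, e⟩ := ha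
  ⟨_, h.iso g hv, h.tv_conj g hv.1 e⟩

theorem md_all : MD.{v} := fun Γ _ m h => by
  have := h.finite
  refine ⟨fun R w hR h2 => ?_, fun E hE h2 h8 => ?_, fun R hR hp => ?_, fun a b ha hb a1 b1 ab1 ta tb tab => ?_⟩
  · obtain ⟨g, hg⟩ := h.syl hR
    obtain ⟨W, hW, h3⟩ : ∃ W ∈ T2, ∀ a ∈ R, m (g * (a * a) * g⁻¹) = I8 ∨ m (g * (a * a) * g⁻¹) = W := by
      by_cases h3 : m (g * w * g⁻¹) ∈ T2
      · exact ⟨_, h3, fun a ha => (h2 a ha).imp (fun e => by simp [e, h.one]) fun e => by rw [e]⟩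
      · exact ⟨I8, by decide +kernel, fun a ha => (h2 a ha).elim (fun e => by simp [e, h.one]) fun e =>
          (h3 (e ▸ h.mem_T2 (hg _ (mul_mem ha ha)))).elim⟩
    have h4 := (h.card_le (K := cj g R) (by
      rintro _ ⟨a, ha, rfl⟩
      refine List.mem_filter.mpr ⟨h.mem_T2 (hg a ha), ?_⟩
      have := h3 a ha
      rw [← conj_mul, h.mul] at this
      simpa using this)).trans (md_sq.2 W hW)
    obtain ⟨n, hn⟩ := hR.exists_card_eq
    rw [card_cj, hn] at h4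
    have : n < 6 := (Nat.pow_lt_pow_iff_right (by norm_num : 1 < 2)).mp (h4.trans_lt (by norm_num))
    exact hn ▸ Nat.pow_le_pow_right (n := 2) two_pos (by omega : n ≤ 5)
  · obtain ⟨g, hg⟩ := h.syl (P := E) fun a => ⟨1, Subtype.ext (by simpa [pow_two] using h2 a a.2)⟩
    by_contra! h3
    have k : ∀ a ∈ E, a ≠ 1 → m (g * a * g⁻¹) ∈ NT := fun a ha a1 => List.mem_filter.mpr
      ⟨h.mem_IV (hg a ha) (by rw [conj_mul, h2 a ha]; simp), by
        have h4 : m (g * a * g⁻¹) ∉ TV := fun e => h3 a ha (by simpa [mul_assoc] using (tv_of_mem_TV e).conj h g⁻¹)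
        have h5 : m (g * a * g⁻¹) ≠ I8 := fun e => a1 (by simpa using h.eq_one_iff.mp e)
        simp [h.sl_conj, h.mem_LL.mp (hE ha), h4, h5]⟩
    have k2 : ∀ l : Finset Γ, l.card < 8 → ∃ a ∈ E, a ∉ l := fun l hl => by
      by_contra! h4
      have := Set.ncard_le_ncard (s := (E : Set Γ)) (t := (l : Set Γ)) h4
      rw [Set.ncard_coe_finset] at this
      exact absurd (h8.trans this) (by omega)
    classical
    have k3 : ∀ a ∈ E, ∀ b ∈ E, a * b = 1 → b = a := fun a ha b _ e =>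
      (inv_eq_of_mul_eq_one_right e).symm.trans (inv_eq_of_mul_eq_one_right (h2 a ha))
    obtain ⟨a, ha, a1⟩ := k2 {1} (by simp)
    obtain ⟨b, hb, b1⟩ := k2 {1, a} (Finset.card_le_two.trans_lt (by norm_num))
    obtain ⟨c, hc, c1⟩ := k2 {1, a, b, a * b} (Finset.card_le_four.trans_lt (by norm_num))
    simp only [Finset.mem_insert, Finset.mem_singleton, not_or] at a1 b1 c1
    refine md_nt _ (k a ha a1) _ (k b hb b1.1) ?_ _ (k c hc c1.1) ?_ ?_ ?_ <;> simp only [← h.mul, conj_mul]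
    exacts [k _ (mul_mem ha hb) (mt (k3 a ha b hb) b1.2), k _ (mul_mem ha hc) (mt (k3 a ha c hc) c1.2.1),
      k _ (mul_mem hb hc) (mt (k3 b hb c hc) c1.2.2.1),
      k _ (mul_mem (mul_mem ha hb) hc) (mt (k3 _ (mul_mem ha hb) c hc) c1.2.2.2)]
  · obtain ⟨n, hn⟩ := hp.exists_card_eq
    have h1 := card_dvd_of_le hR
    rw [h.card, hn] at h1
    have : ¬ 7 ≤ n := fun h3 => absurd ((pow_dvd_pow 2 h3).trans h1) (by norm_num)
    exact hn ▸ Nat.pow_le_pow_right (n := 2) two_pos (by omega : n ≤ 6)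
  · obtain ⟨w1, h1, e1⟩ := h.mem_EW ha
    obtain ⟨w2, h2, e2⟩ := h.mem_EW hb
    have k : ∀ c, c ≠ 1 → ¬ Tv m c → m c ∉ I8 :: TV := fun c c1 tc e =>
      (List.mem_cons.mp e).elim (fun e => c1 (h.eq_one_iff.mp e)) fun e => tc (tv_of_mem_TV e)
    obtain ⟨g, -, g1, g2, g3, g4, g5⟩ := md_ew w1 h1 w2 h2 (e1 ▸ k a a1 ta) (e2 ▸ k b b1 tb)
      (by rw [e1, e2, ← h.mul]; exact k _ ab1 tab)
    obtain ⟨γ, hγ⟩ := h.exists_tw g1
    simp only [← hγ, e1, e2, ← h.mul] at g2 g3 g4 g5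
    exact ⟨γ, h.gen γ g2, by rw [pow_three, h.eq_one_iff.mp g3], h.inj g4, fun e => g5 (congrArg m e)⟩

end CL.Fc
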