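/-
Centralisers `(2^k × 2^{1+8}).U₄(2)` (helper9), part B: elementary properties of the setting `GM`.
-/
import Cfsg.Agent.Spor.FcD
import Cfsg.Agent.Even.Amb2

set_option autoImplicit false

namespace CL.Fc

open Subgroup CL.Even CL.Grp CL.U6 CL.MT Cfsg
open scoped commutatorElement

universe u v

variable {G : Type u} {Γ : Type v} [Group G] [Group Γ]

/-- A 2-subgroup normalised by `U₄(2)` is trivial. -/
theorem md_two_eq_bot {m : Γ → ℕ} (h : Md m) {R : Subgroup Γ} (hR : IsPGroup 2 R) (hn : LL m ≤ 𝒩(R)) : R = ⊥ := by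
  have := h.simple
  have := h.finite
  have hL := h.normal
  have h1 : R.subgroupOf (LL m) = ⊥ := (IsSimpleGroup.eq_bot_or_eq_top_of_normal (R.subgroupOf (LL m))
    ⟨fun a ha g => conj_mem (H := R) (hn g.2) ha⟩).resolve_right fun e => by
      obtain ⟨n, hn⟩ := (hR.to_le (subgroupOf_eq_top.mp e)).exists_card_eq
      rw [h.card] at hn
      exact absurd (Nat.prime_three.dvd_of_dvd_pow (hn ▸ (by norm_num : 3 ∣ 25920))) (by norm_num)
  refine eq_bot_iff.mpr fun x hx => h.cent_LL fun a ha => ?_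
  have h2 : (⟨x * a * x⁻¹ * a⁻¹, mul_mem (hL.conj_mem a ha x) (inv_mem ha)⟩ : LL m) ∈ R.subgroupOf (LL m) := by
    simpa [mem_subgroupOf, mul_assoc] using mul_mem hx (conj_mem (hn ha) (inv_mem hx))
  rw [h1] at h2
  exact commutatorElement_eq_one_iff_mul_comm.mp (congrArg Subtype.val (mem_bot.mp h2))

omit [Group Γ] in
theorem Tv.sl {m : Γ → ℕ} {γ : Γ} (h : Tv m γ) : sl (m γ) = false := by
  obtain ⟨v, hv, e⟩ := h
  rw [e, sl_tv v hv.1 hv.2.2]

theorem relIndex_cent_le [Finite G] {K : Subgroup G} {x : G} {l : List G} (h : ∀ k ∈ K, k * x * k⁻¹ ∈ l) :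
    (centralizer {x}).relIndex K ≤ l.length := by
  classical
  refine le_trans ?_ (List.toFinset_card_le l)
  rw [← Fintype.card_coe, ← Nat.card_eq_fintype_card]
  refine Nat.card_le_card_of_injective (fun k => (⟨k.out * x * (k.out : G)⁻¹, List.mem_toFinset.mpr (h _ k.out.2)⟩ :
    l.toFinset)) fun a b e => ?_
  rw [← a.out_eq, ← b.out_eq, QuotientGroup.eq, mem_subgroupOf, mem_cent_singleton, coe_mul, coe_inv]
  have := congrArg (fun y : l.toFinset => (a.out : G)⁻¹ * y * b.out) e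
  simpa [mul_assoc] using this.symm

namespace GM

variable (S : GM G Γ)

theorem conj_z (g : G) : (S.conj g).z = g * S.z * g⁻¹ := rfl

theorem conj_J' (g : G) : (S.conj g).J = cj g S.J := rfl

theorem conj_Z (g : G) : (S.conj g).Z = cj g S.Z := rfl

theorem conj_H (g : G) : (S.conj g).H = cj g S.H := rfl

theorem exists_lift {γ : Γ} (hγ : γ ∈ LL S.m) : ∃ c ∈ S.H, S.r c = γ ∧ ∀ e ∈ S.Z, Commute c e := by
  obtain ⟨c, hc, rfl⟩ := S.r_surj γ
  exact ⟨c, hc, rfl, S.inner hc (S.md.mem_LL.mp hγ)⟩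

/-- A 2-subgroup of `H` normalised by `C_H(Z)` lies in `J`. -/
theorem le_J [Finite G] {N : Subgroup G} (hN : N ≤ S.H) (h2 : IsPGroup 2 N)
    (hn : ∀ c ∈ S.H, (∀ e ∈ S.Z, Commute c e) → ∀ x ∈ N, c * x * c⁻¹ ∈ N) : N ≤ S.J := fun x hx => by
  have := S.md.finite
  let f : N →* Γ := MonoidHom.mk' (fun a => S.r a) fun a b => S.r_mul (hN a.2) (hN b.2)
  have h1 : f.range = ⊥ := md_two_eq_bot S.md (h2.of_surjective _ f.rangeRestrict_surjective) fun γ hγ =>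
    mem_normalizer_fintype (by
      rintro _ ⟨a, rfl⟩
      obtain ⟨c, hc, rfl, h3⟩ := S.exists_lift hγ
      exact ⟨⟨_, hn c hc h3 a a.2⟩, S.r_conj hc (hN a.2)⟩)
  exact (S.r_eq (hN hx)).mp (mem_bot.mp (h1 ▸ ⟨⟨x, hx⟩, rfl⟩))

/-- A subgroup of `H` normalised by `J` contains `z` or lies in `Z`. -/
theorem le_Z {N : Subgroup G} (hN : N ≤ S.H) (hn : ∀ j ∈ S.J, ∀ x ∈ N, j * x * j⁻¹ ∈ N) (hz : S.z ∉ N) : N ≤ S.Z := by
  have k : ∀ x ∈ N, x ∈ S.J → x ∈ S.Z := fun x hx hJ => S.mem_Z_of_comm hJ fun j hj =>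
    ((S.conj_J hj hJ).resolve_right fun e => hz ((mul_mem_cancel_left hx).mp (e ▸ hn j hj x hx))).symm
  refine fun x hx => k x hx (S.faith (hN hx) fun j hj => k _ ?_ (mul_mem (inv_mem hj) (S.norm (hN hx) hj)))
  simpa [mul_assoc] using mul_mem (hn _ (inv_mem hj) x hx) (inv_mem hx)

/-- Elements centralising the centraliser in `J` of an involution `e` of `J`. -/
theorem mf6 {e x : G} (he : e ∈ S.J) (h2 : e * e = 1) (hx : x ∈ S.H) (h : ∀ j ∈ S.J, Commute j e → Commute j x) :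
    x ∈ S.Z ∨ x * e ∈ S.Z := by
  have hJ : x ∈ S.J := (S.r_eq hx).mp (S.rm.faith _ (quad2_eq_of_fix_perp S.rm.hq S.rm.hN (S.rm.inv _)
    ((S.q_zero he).mpr h2) fun u hu => by
      obtain ⟨j, hj, rfl⟩ := S.π_surj u
      rw [S.act hx hj, conj_eq_of_commute (h j hj ((S.B_zero he hj).mp hu).symm).symm]))
  refine (forall_B_eq_zero_or (B := S.B) (t := S.π e) (w := S.π x) fun u hu => ?_).imp
    (fun e => (S.π_zero hJ).mp (S.rm.hN _ e)) fun e => (S.π_zero (mul_mem hJ he)).mp (S.π_mul hJ he ▸ S.rm.hN _ e)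
  obtain ⟨j, hj, rfl⟩ := S.π_surj u
  exact (S.B_zero hJ hj).mpr (h j hj ((S.B_zero he hj).mp hu).symm).symm

theorem card_orth (U : Submodule (ZMod 2) V8) : Nat.card U * Nat.card (S.B.orthogonal U) = 256 := by
  rw [card_eq_pow_finrank_zmod (p := 2), card_eq_pow_finrank_zmod (p := 2) (S.B.orthogonal U), ← pow_add,
    finrank_add_finrank_orthogonal_of_isAlt (quad2_isAlt S.rm.hq) S.rm.hN]
  simp

/-- A subgroup `Z ≤ Y ≤ J` with a large centre. -/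
theorem mf7 [Finite G] {Y A : Subgroup G} (hZ : S.Z ≤ Y) (hY : Y ≤ S.J) (hA : A ≤ Y) (hc : A ≤ 𝒞(Y))
    (h0 : A ⊓ S.Z = ⊥) : Nat.card A * Nat.card Y ≤ 256 * Nat.card S.Z ∧ (32 * Nat.card S.Z ≤ Nat.card Y →
      Nat.card Y ≤ 8 * Nat.card S.Z * Nat.card A → ∀ j ∈ S.J, j ∈ 𝒞(Y) → j ∈ Y) := by
  obtain ⟨U, hU, h1⟩ := S.exists_img hY
  obtain ⟨W, hW, h2⟩ := S.exists_img (hA.trans hY)
  rw [inf_eq_right.mpr hZ] at h1
  rw [h0, card_bot, one_mul] at h2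
  have k : ∀ j ∈ S.J, j ∈ 𝒞(Y) → S.π j ∈ S.B.orthogonal U := fun j hj hj' u hu => by
    obtain ⟨y, hy, rfl⟩ := (hU u).mp hu
    exact (S.B_zero (hY hy) hj).mpr (hj' y hy)
  have h3 : W ≤ S.B.orthogonal U := fun w hw => by
    obtain ⟨a, ha, rfl⟩ := (hW w).mp hw
    exact k a (hY (hA ha)) (hc ha)
  have h4 := Nat.card_le_card_of_injective _ (Submodule.inclusion_injective h3)
  have h5 := S.card_orth U
  have hp : 0 < Nat.card S.Z := Nat.card_pos
  refine ⟨by rw [h1, h2, ← h5]; nlinarith [Nat.mul_le_mul_left (Nat.card S.Z * Nat.card U) h4], fun h6 h7 j hj hj' => ?_⟩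
  rw [h1, mul_comm] at h6
  rw [h1, h2, mul_comm 8, mul_assoc] at h7
  replace h6 := Nat.le_of_mul_le_mul_left h6 hp
  replace h7 := Nat.le_of_mul_le_mul_left h7 hp
  have h8 : S.B.orthogonal U ≤ S.B.orthogonal (S.B.orthogonal U) := fun a ha b hb => by
    by_contra h9
    have hB := quad2_isAlt S.rm.hq
    have k2 : ∀ w ∈ W, ∀ x ∈ S.B.orthogonal U, S.B w x = 0 := fun w hw x hx => by
      obtain ⟨y, hy, rfl⟩ := (hW w).mp hw
      exact hx _ ((hU _).mpr ⟨y, hA hy, rfl⟩)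
    have h10 : S.B b a = 1 := zmod2_eq_one_of_ne_zero h9
    have h11 : S.B a b = 1 := by rw [quad2_symm S.rm.hq, h10]
    have := Nat.card_le_card_of_injective (fun p : W × ZMod 2 × ZMod 2 => (⟨p.1 + p.2.1 • a + p.2.2 • b, add_mem
      (add_mem (h3 p.1.2) (Submodule.smul_mem _ _ ha)) (Submodule.smul_mem _ _ hb)⟩ : S.B.orthogonal U))
      fun ⟨p, s, t⟩ ⟨p', s', t'⟩ e => by
        have e1 := congrArg (fun x : S.B.orthogonal U => S.B x a) e
        have e2 := congrArg (fun x : S.B.orthogonal U => S.B x b) e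
        simp only [map_add, map_smul, LinearMap.add_apply, LinearMap.smul_apply, k2 _ p.2 a ha, k2 _ p'.2 a ha,
          k2 _ p.2 b hb, k2 _ p'.2 b hb, hB a, hB b, h10, h11, smul_eq_mul, mul_zero, mul_one, zero_add,
          add_zero] at e1 e2
        subst e1 e2
        simpa using e
    simp only [Nat.card_prod, Nat.card_zmod] at this
    nlinarith
  have h9 := h8 (k j hj hj')
  rw [LinearMap.BilinForm.orthogonal_orthogonal (nondegenerate_of_isAlt (quad2_isAlt S.rm.hq) S.rm.hN)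
    (quad2_isAlt S.rm.hq).isRefl] at h9
  obtain ⟨y, hy, e⟩ := (hU _).mp h9
  simpa using mul_mem hy (hZ ((S.π_eq hj (hY hy)).mp e.symm))

/-- abelian subgroups of `J` -/
theorem ab_le [Finite G] {Y : Subgroup G} (hY : Y ≤ S.J) (hc : Y ≤ 𝒞(Y)) : Nat.card Y ≤ 16 * Nat.card S.Z := by
  obtain ⟨U, hU, h1⟩ := S.exists_img hY
  have h2 := Nat.card_le_card_of_injective _ (Submodule.inclusion_injective (show U ≤ S.B.orthogonal U from
    fun w hw u hu => by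
      obtain ⟨a, ha, rfl⟩ := (hU w).mp hw
      obtain ⟨b, hb, rfl⟩ := (hU u).mp hu
      exact (S.B_zero (hY hb) (hY ha)).mpr (hc ha b hb)))
  have h3 := S.card_orth U
  rw [h1, mul_comm]
  exact Nat.mul_le_mul (by nlinarith) (card_le_of_le inf_le_right)

theorem big_of [Finite G] (nJ : ∀ {h j}, Commute h S.z → j ∈ S.J → h * j * h⁻¹ ∈ S.J)
    (cZ : ∀ {c}, (∀ e ∈ S.Z, Commute c e) → c ∈ S.H) (hi : 𝒞(S.Z).relIndex (centralizer {S.z}) < 16) : S.Big := by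
  refine ⟨nJ, cZ, fun g hg => by_contra fun h1 => ?_⟩
  have k : ∀ {c j}, Commute c (g * S.z * g⁻¹) → j ∈ cj g S.J → c * j * c⁻¹ ∈ cj g S.J := fun {c j} hc hj =>
    mem_cj.mpr (by simpa [mul_assoc] using nJ (h := g⁻¹ * c * g) (commute_of_conj (g := g)
      (by simpa [mul_assoc] using hc)) (mem_cj.mp hj))
  have h2 : cj g S.J ⊓ 𝒞(S.Z) ≤ S.J := S.le_J (fun x hx => cZ fun e he => (hx.2 e he).symm)
    (S.conj g).isPGroup.to_inf_left fun c hc h3 x hx => ⟨k (h3 _ hg) hx.1, conj_mem (norm_le_norm_cent _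
      (mem_normalizer_fintype fun e => S.normZ hc)) hx.2⟩
  have h3 := S.ab_le h2 fun a ha b hb => Md.comm_of_sq (fun x hx => (S.sq (h2 hx)).resolve_right fun e =>
    ((S.conj g).sq hx.1).elim (fun e' => S.z1 (e.symm.trans e')) fun e' => h1 (e'.symm.trans e)) hb ha
  have h4 : 𝒞(S.Z).relIndex (centralizer {g * S.z * g⁻¹}) = 𝒞(S.Z).relIndex (centralizer {S.z}) := by
    have e1 := relIndex_mul_index (cent_le_cent_singleton hg)
    rw [← relIndex_mul_index (cent_le_cent_singleton S.zZ), ← cj_cent_singleton,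
      index_map_of_bijective (MulAut.conj g).bijective, cj_cent_singleton] at e1
    exact Nat.eq_of_mul_eq_mul_right (Nat.pos_of_ne_zero index_ne_zero_of_finite) e1
  have h5 := relIndex_le_of_le_right (H := 𝒞(S.Z)) (show cj g S.J ≤ centralizer {g * S.z * g⁻¹} from fun j hj =>
    mem_cent_singleton.mpr ((S.conj g).Jz hj)) index_ne_zero_of_finite
  have h6 := (𝒞(S.Z).subgroupOf (cj g S.J)).card_mul_index
  rw [← inf_subgroupOf_left, card_subgroupOf_of_le inf_le_left, inf_subgroupOf_left, card_cj, S.card_J] at h6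
  have h7 : 0 < Nat.card S.Z := Nat.card_pos
  rw [relIndex] at h5
  nlinarith [Nat.mul_le_mul h3 (h5.trans (h4.le.trans (Nat.le_of_lt_succ hi)))]

theorem tv_of (h2 : MF2.{u, v}) [Finite G] {y : G} {Y : Subgroup G} (hy : y ∈ S.H) (hJ : y ∉ S.J) (hs : y * y = 1)
    (hY : Y ≤ S.J) (h1 : ∀ j ∈ S.J, Commute j y ↔ j ∈ Y) (h3 : ∀ j ∈ S.J, j ∈ 𝒞(Y) → j ∈ Y)
    (h4 : 32 * Nat.card S.Z ≤ Nat.card Y) : Tv S.m (S.r y) := by
  refine h2 G Γ S y hy hJ hs (fun j hj => ?_) (h4.trans (card_le_of_le fun j hj =>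
    ⟨hY hj, mem_cent_singleton.mpr ((h1 j (hY hj)).mpr hj)⟩))
  have hi := inv_eq_of_mul_eq_one_right hs
  have h5 : j * y * j⁻¹ * y ∈ S.J := by simpa [mul_assoc, hi] using mul_mem hj (S.norm hy (inv_mem hj))
  have h6 := (h1 _ h5).mpr (h3 _ h5 fun w hw => by
    have h7 := (h1 w (hY hw)).mpr hw
    refine Commute.mul_right (mul_inv_eq_iff_eq_mul.mp ?_) h7
    calc _ = w * j * w⁻¹ * (w * y * w⁻¹) * (w * j * w⁻¹)⁻¹ := by group
      _ = _ := by
        rw [conj_eq_of_commute h7]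
        rcases S.conj_J (hY hw) hj with e | e
        · rw [conj_eq_of_commute e]
        · rw [e, mul_inv_rev, mul_assoc j, mul_assoc j, ← mul_assoc (S.z * y), conj_eq_of_commute (S.Hz hy).symm,
            mul_assoc])
  rw [mul_assoc _ y, ← h6.eq, show ∀ a : G, a * (a * y * y) = a * a * (y * y) from fun a => by group, conj_mul, hs]
  group

/-- The final contradiction: a four-group all of whose involutions have the same large centraliser in `J`. -/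
theorem fin (h2 : MF2.{u, v}) [Finite G] {x y : G} {Y A : Subgroup G} (hx : x ∈ S.H) (hy : y ∈ S.H) (x2 : x * x = 1)
    (y2 : y * y = 1) (hxy : Commute x y) (h0 : ∀ w ∈ [x, y, x * y], w ∉ S.J ∧ ∀ j ∈ S.J, Commute j w ↔ j ∈ Y)
    (hZ : S.Z ≤ Y) (hY : Y ≤ S.J) (hA : A ≤ Y) (hc : A ≤ 𝒞(Y)) (h1 : A ⊓ S.Z = ⊥)
    (h3 : 32 * Nat.card S.Z ≤ Nat.card Y) (h4 : Nat.card Y ≤ 8 * Nat.card S.Z * Nat.card A) : False := by
  have k := fun {w} hw hs h => S.tv_of h2 (y := w) hw (h0 w h).1 hs hY (h0 w h).2 ((S.mf7 hZ hY hA hc h1).2 h3 h4) h3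
  obtain ⟨a, ha, e1⟩ := k hx x2 (by simp)
  obtain ⟨b, hb, e2⟩ := k hy y2 (by simp)
  obtain ⟨c, hc, e3⟩ := k (mul_mem hx hy) (by rw [← pow_two, hxy.mul_pow, pow_two, pow_two, x2, y2, one_mul]) (by simp)
  exact S.md.tv_mul_ne hc ha hb e1 e2 (S.r_comm hx hy hxy) (S.r_mul hx hy ▸ e3)

namespace Big

variable {S} (h : S.Big)
include h

theorem cJ {c : G} (hc : ∀ j ∈ S.J, Commute c j) : c ∈ S.Z := S.cent (h.cZ fun e he => hc e (S.ZJ he)) hc

theorem nZ {c e : G} (hc : Commute c S.z) (he : e ∈ S.Z) : c * e * c⁻¹ ∈ S.Z := h.cJ fun j hj => by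
  simpa [mul_assoc] using commute_conj (g := c) (S.Zc he (h.nJ hc.inv_left hj))

theorem conj (g : G) : (S.conj g).Big := by
  refine ⟨fun {c j} hc hj => mem_cj.mpr ?_, fun {c} hc => mem_cj.mpr (h.cZ fun e he => ?_), fun k hk => ?_⟩
  · simpa [mul_assoc] using h.nJ (h := g⁻¹ * c * g) (commute_of_conj (g := g) (by simpa [mul_assoc, conj_z] using hc))
      (mem_cj.mp hj)
  · exact commute_of_conj (g := g) (by simpa [mul_assoc] using hc _ (conj_mem_cj g he))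
  · have := h.nz (g⁻¹ * k * g) (by simpa [mul_assoc, conj_z] using mem_cj.mp hk)
    exact Eq.trans (by simp [GM.conj, mul_assoc]) (congrArg (g * · * g⁻¹) this)

theorem eq_of_cJ {g : G} (hg : ∀ j ∈ S.J, Commute (g * S.z * g⁻¹) j) : g * S.z * g⁻¹ = S.z := h.nz g (h.cJ hg)

variable [Finite G]

/-- Sylow 2-subgroups of `C_D(z)` are Sylow in `D`. -/
theorem syl {D T : Subgroup G} (hT : IsSylowIn 2 T (D ⊓ centralizer {S.z})) (hJ : S.J ≤ T) : IsSylowIn 2 T D := by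
  refine isSylowIn_of_maximal (hT.le.trans inf_le_left) hT.isPGroup fun U hU h1 h2 => by_contra fun h3 => ?_
  refine (lt_inf_normalizer_of_isPGroup hU (lt_of_le_of_ne h1 (Ne.symm h3))).ne' (hT.eq_of_le hU.to_inf_left
    (le_inf h1 le_normalizer) fun n hn => ⟨h2 hn.1, mem_cent_singleton.mpr (mul_inv_eq_iff_eq_mul.mp
      (h.eq_of_cJ fun j hj => ?_))⟩)
  simpa [mul_assoc] using commute_conj (g := n) (show Commute _ _ from mem_cent_singleton.mp
    (hT.le (conj_mem' hn.2 (hJ hj))).2).symm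

theorem exists_syl {D U : Subgroup G} (hD : S.J ≤ D) (hU : IsPGroup 2 U) (h1 : U ≤ D ⊓ centralizer {S.z}) :
    ∃ T, IsSylowIn 2 T D ∧ T ≤ centralizer {S.z} ∧ S.J ≤ T ∧ U ≤ T := by
  obtain ⟨T, hT, h2⟩ := exists_isSylowIn_ge hU h1
  have h3 := hT.le_of_normalized S.isPGroup (le_inf hD fun j hj => mem_cent_singleton.mpr (S.Jz hj))
    fun c hc => mem_normalizer_fintype fun j hj => h.nJ (mem_cent_singleton.mp hc.2) hj
  exact ⟨T, h.syl hT h3, hT.le.trans inf_le_right, h3, h2⟩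

theorem odd_relIndex {D : Subgroup G} (hD : S.J ≤ D) : Odd ((centralizer {S.z}).relIndex D) := by
  obtain ⟨T, h1, h2, -⟩ := h.exists_syl hD IsPGroup.of_bot bot_le
  rw [← inf_relIndex_right, ← Nat.not_even_iff_odd, even_iff_two_dvd]
  exact h1.not_dvd_relIndex_of_le (le_inf h2 h1.le) inf_le_right

theorem odd_index : Odd (centralizer {S.z}).index := relIndex_top_right (centralizer {S.z}) ▸ h.odd_relIndex le_top

/-- Odd order subgroups normalised by `J` meet `C(z)` trivially. -/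
theorem inf_eq_bot {O : Subgroup G} (hO : Odd (Nat.card O)) (hn : S.J ≤ 𝒩(O)) : O ⊓ centralizer {S.z} = ⊥ := by
  have hd := disjoint_of_odd_of_isPGroup_two hO S.isPGroup
  refine eq_bot_iff.mpr fun x hx => hd.le_bot ⟨hx.1, S.ZJ (h.cJ fun j hj => ?_)⟩
  refine commutatorElement_eq_one_iff_mul_comm.mp (hd.le_bot ⟨?_, S.J.mul_mem (h.nJ (mem_cent_singleton.mp hx.2) hj)
    (inv_mem hj)⟩)
  simpa [commutatorElement_def, mul_assoc] using mul_mem hx.1 (conj_mem (hn hj) (inv_mem hx.1))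

theorem core {g : G} (hg : g ∈ oddCore G) (hc : Commute g S.z) : g = 1 :=
  mem_bot.mp (h.inf_eq_bot CL.Inv.odd_card_oddCore (by rw [normalizer_eq_top]; exact le_top) ▸
    ⟨hg, mem_cent_singleton.mpr hc⟩)

/-- If `z` is isolated in `C(y)` and some other conjugate of `z` centralises `z` and `y`, then `C(y) ≤ C(z)`. -/
theorem cent_le {y g : G} (hy : y ∈ S.Z) (hI : Isl S.z y) (hH : ∀ c, Commute c S.z → Commute c y → c ∈ S.H)
    (h1 : g * S.z * g⁻¹ ≠ S.z) (h2 : Commute (g * S.z * g⁻¹) S.z) (h3 : Commute (g * S.z * g⁻¹) y) {c : G}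
    (hc : Commute c y) : Commute c S.z := by
  set C := centralizer ({y} : Set G)
  have hJ : S.J ≤ C := fun j hj => mem_cent_singleton.mpr (S.Zc hy hj).symm
  have hx : g * S.z * g⁻¹ ∈ C := mem_cent_singleton.mpr h3
  obtain ⟨O, hO⟩ : ∃ O, O = (oddCore C).map C.subtype := ⟨_, rfl⟩
  have o1 : Odd (Nat.card O) := by rw [hO, card_map_of_injective C.subtype_injective]; exact CL.Inv.odd_card_oddCore
  have o2 : O ≤ C := hO ▸ map_subtype_le _
  have o3 : C ≤ 𝒩(O) := fun k hk => mem_normalizer_fintype (hO ▸ by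
    rintro _ ⟨a, ha, rfl⟩
    exact ⟨_, (inferInstance : (oddCore C).Normal).conj_mem a ha ⟨k, hk⟩, rfl⟩)
  have h4 := h.inf_eq_bot o1 (hJ.trans o3)
  have h5 : O ⊓ centralizer {g * S.z * g⁻¹} = ⊥ := eq_bot_iff.mpr fun p hp => by
    have S' := h.conj g
    have hd := disjoint_of_odd_of_isPGroup_two o1 (S.conj g).isPGroup
    have k : ∀ {c}, Commute c (g * S.z * g⁻¹) → c ∈ 𝒩((S.conj g).J) := fun hc =>
      mem_normalizer_fintype fun j hj => S'.nJ hc hj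
    refine hd.le_bot ⟨hp.1, (S.conj g).ZJ (S'.cJ fun j hj => (pxq_elt (p := 2) (P := zpowers y) (S.conj g).isPGroup
      (isPGroup_zpowers (k := 1) (by simpa [pow_two] using S.Zsq hy)) (zpowers_le.mpr (k h3.symm))
      (Nat.coprime_two_right.mpr (o1.of_dvd_nat (O.orderOf_dvd_natCard hp.1))) (k (mem_cent_singleton.mp hp.2))
      (fun a ha => ?_) (fun w hw => ?_) j hj).symm)⟩
    · rw [commutatorElement_eq_one_iff_mul_comm.mpr ((cent_zpowers y).ge (o2 hp.1) a ha)]; exact one_mem _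
    · refine (commutatorElement_eq_one_iff_mul_comm.mp (hd.le_bot ⟨?_, Subgroup.mul_mem _ (conj_mem (k (mem_cent_singleton.mp
        hp.2)) hw.1) (inv_mem hw.1)⟩)).symm
      simpa [commutatorElement_def, mul_assoc] using mul_mem hp.1 (conj_mem (o3 ((cent_zpowers y).le hw.2)) (inv_mem hp.1))
  have h6 := fun {p} => inverts_of_inf_cent_eq_bot (x := p) S.zz (o3 (hJ S.zJ)) h4
  have h7 := fun {p} => inverts_of_inf_cent_eq_bot (x := p) (S.conj g).zz (o3 hx) h5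
  have h8 : S.z ∈ 𝒞(O) := by
    by_contra h8
    refine h1 (h.nz g ((mul_mem_cancel_right S.zZ).mp (S.le_Z (N := 𝒞(O) ⊓ S.H) inf_le_right (fun j hj x hx =>
      ⟨conj_mem (norm_le_norm_cent O (o3 (hJ hj))) hx.1, S.H.mul_mem (mul_mem (S.JH hj) hx.2) (inv_mem (S.JH hj))⟩)
      (fun e => h8 e.1) ⟨fun p hp => (mul_inv_eq_iff_eq_mul.mp ?_).symm, mul_mem (hH _ h2 h3) (S.JH S.zJ)⟩)))
    rw [mul_inv_rev, mul_assoc _ S.z, mul_assoc, ← mul_assoc (S.z * p), h6 hp, ← mul_assoc]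
    exact (h7 (inv_mem hp)).trans (inv_inv p)
  have h9 := CL.Inv.zstar_mem_oddCore (z := (⟨S.z, hJ S.zJ⟩ : C)) ⟨(orderOf_coe _).symm.trans S.ord, fun k hk =>
    Subtype.ext (hI k (mem_cent_singleton.mp k.2) (congrArg Subtype.val hk))⟩ ⟨c, mem_cent_singleton.mpr hc⟩
  have h10 : S.z * c * S.z⁻¹ * c⁻¹ ∈ O := hO ▸ ⟨_, h9, rfl⟩
  exact (commutatorElement_eq_one_iff_mul_comm.mp (mem_bot.mp (h4 ▸ ⟨h10, mem_cent_singleton.mpr (h8 _ h10)⟩))).symm

variable (hB : ∀ y ∈ S.Z, y ≠ 1 → ∀ c, Commute c y → Commute c S.z)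
include hB

omit h [Finite G] in
theorem hB_conj (g : G) : ∀ y ∈ (S.conj g).Z, y ≠ 1 → ∀ c, Commute c y → Commute c (S.conj g).z := by
  rintro _ ⟨y, hy, rfl⟩ h1 c hc
  simpa [mul_assoc, conj_z] using commute_conj (g := g) (hB y hy (fun e => h1 (by simp [e])) (g⁻¹ * c * g)
    (commute_of_conj (g := g) (by simpa [mul_assoc] using hc)))

omit [Finite G] in
/-- `Z` is a TI-subgroup. -/
theorem ti {g y : G} (h1 : g * S.z * g⁻¹ ≠ S.z) (hy : y ∈ S.Z) (hy' : y ∈ cj g S.Z) : y = 1 := by_contra fun h2 =>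
  h1 (h.eq_of_cJ fun _ hj => (hB_conj hB g y hy' h2 _ (S.Zc hy hj).symm).symm)

omit [Finite G] in
/-- Conjugates in `J` of elements of `Z` other than `z` lie in `Z`. -/
theorem nc {k y : G} (hy : y ∈ S.Z) (h1 : y ≠ S.z) (h2 : k * y * k⁻¹ ∈ S.J) : k * y * k⁻¹ ∈ S.Z := by
  by_cases h0 : y = 1
  · simp [h0]
  have h3 := hB_conj hB k _ (conj_mem_cj k hy) (by simpa using h0)
  by_cases h4 : k * S.z * k⁻¹ = S.z
  · exact h.nZ (mul_inv_eq_iff_eq_mul.mp h4) hy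
  rcases S.mf6 h2 ((S.conj k).Zsq (conj_mem_cj k hy)) (h.cZ fun e he => (h3 e (S.Zc he h2)).symm)
    (fun j _ => h3 j) with e | e
  · exact absurd (h.nz k e) h4
  · have := h.ti hB h4 e (mul_mem (conj_mem_cj k S.zZ) (conj_mem_cj k hy))
    rw [show (S.conj k).z * (k * y * k⁻¹) = k * (S.z * y) * k⁻¹ by simp [GM.conj, mul_assoc], conj_eq_one_iff] at this
    exact absurd (by rw [eq_inv_of_mul_eq_one_right this, S.Zinv S.zZ]) h1

end Big

/-- The case `Z = ⟨z⟩`. -/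
theorem toBM [Finite G] (hH : ∀ c, Commute c S.z → c ∈ S.H) (hZ : ∀ e ∈ S.Z, e = 1 ∨ e = S.z) :
    BM S.z S.J S.m S.r := by
  have h1 : S.Z = zpowers S.z :=
    le_antisymm (fun e he => (mem_zpowers_two S.ord).mpr (hZ e he)) (zpowers_le.mpr S.zZ)
  have h2 : 𝒞(S.J) ≤ S.Z := fun c hc => S.cent (hH c (hc _ S.zJ).symm) fun j hj => (hc j hj).symm
  have h3 : S.Z ≤ 𝒞(S.J) := fun e he j hj => (S.Zc he hj).symm
  have h4 : Nat.card S.Z = 2 := by rw [h1, Nat.card_zpowers, S.ord]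
  refine ⟨xe_of (isExtraspecial_subgroup_of S.isPGroup
    (by rw [le_antisymm (inf_le_right.trans h2) (le_inf S.ZJ h3), h4]) (commutator_le.mpr fun a ha b hb => h3 ?_)
    fun h5 => ?_) S.ord (h3 S.zZ) (h2.trans S.ZJ) fun c hc => mem_normalizer_fintype fun j =>
      S.norm (hH c (mem_cent_singleton.mp hc)), S.md, by rw [S.card_J, h4], fun ha hb => S.r_mul (hH _ ha) (hH _ hb),
    fun ha => S.r_eq (hH _ ha), fun γ => (S.r_surj γ).imp fun a ha => ⟨S.Hz ha.1, ha.2⟩⟩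
  · rw [commutatorElement_def, ← S.π_zero (mul_mem (S.norm (S.JH ha) hb) (inv_mem hb)), S.π_mul (S.norm (S.JH ha) hb) (inv_mem hb),
      ← S.act (S.JH ha) hb, S.r_J ha, map_one, S.π_inv hb]
    exact add_self_zmod2 _
  · have := S.ab_le le_rfl fun a ha b hb => congrArg Subtype.val (h5.1.1 (⟨b, hb⟩ : S.J) ⟨a, ha⟩)
    rw [S.card_J, h4] at this
    omega

/-- Transport along a homomorphism from a subgroup. -/
theorem exists_push {X : Type u} [Group X] (D : Subgroup G) (φ : D →* X) (hz : S.z ∈ D)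
    (hk : ∀ d, φ d = 1 → (d : G) ∈ S.Z) (hz1 : φ ⟨S.z, hz⟩ ≠ 1) (hJ : ∀ j ∈ S.J, ∃ e ∈ S.Z, j * e ∈ D)
    (hL : ∀ γ ∈ LL S.m, ∃ c ∈ S.H, c ∈ D ∧ S.r c = γ) : ∃ (K : Subgroup Γ) (S' : GM X K),
      (∀ γ, γ ∈ K ↔ ∃ c ∈ S.H, c ∈ D ∧ S.r c = γ) ∧ S'.z = φ ⟨S.z, hz⟩ ∧ S'.H = (S.H.subgroupOf D).map φ ∧
      S'.J = (S.J.subgroupOf D).map φ ∧ S'.Z = (S.Z.subgroupOf D).map φ ∧ S'.m = S.m ∘ K.subtype ∧
      ∀ d : D, (d : G) ∈ S.H → (S'.r (φ d) : Γ) = S.r d := by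
  classical
  let K : Subgroup Γ :=
    { carrier := {γ | ∃ c ∈ S.H, c ∈ D ∧ S.r c = γ}
      one_mem' := ⟨1, one_mem _, one_mem _, S.r_one⟩
      mul_mem' := by
        rintro _ _ ⟨a, ha, ha', rfl⟩ ⟨b, hb, hb', rfl⟩
        exact ⟨_, mul_mem ha hb, mul_mem ha' hb', S.r_mul ha hb⟩
      inv_mem' := by
        rintro _ ⟨a, ha, ha', rfl⟩
        exact ⟨_, inv_mem ha, inv_mem ha', S.r_inv ha⟩ }
  obtain ⟨f, hf⟩ : ∃ f : X → D, ∀ d : D, ∃ e ∈ S.Z, (f (φ d) : G) = d * e := ⟨Function.invFun φ, fun d =>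
    ⟨_, hk (d⁻¹ * Function.invFun φ (φ d)) (by
      rw [map_mul, Function.invFun_eq (f := φ) ⟨d, rfl⟩, map_inv, inv_mul_cancel]), by simp⟩⟩
  obtain ⟨π, hπ⟩ : ∃ π : X → V8, ∀ d : D, (d : G) ∈ S.J → π (φ d) = S.π d :=
    ⟨fun x => S.π (f x), fun d hd => by
      obtain ⟨e, he, h1⟩ := hf d
      simp only [h1, S.π_mul hd (S.ZJ he), S.π_Z he, add_zero]⟩
  obtain ⟨r, hr⟩ : ∃ r : X → K, ∀ d : D, (d : G) ∈ S.H → (r (φ d) : Γ) = S.r d :=
    ⟨fun x => if h : (f x : G) ∈ S.H then ⟨_, _, h, Subtype.prop _, rfl⟩ else 1, fun d hd => by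
      obtain ⟨e, he, h1⟩ := hf d
      simp only [dif_pos (h1 ▸ mul_mem hd (S.ZH he) : (f (φ d) : G) ∈ S.H)]
      rw [h1, S.r_mul hd (S.ZH he), S.r_J (S.ZJ he), mul_one]⟩
  have hm : ∀ {Y : Subgroup G}, S.Z ≤ Y → ∀ d : D, φ d ∈ (Y.subgroupOf D).map φ ↔ (d : G) ∈ Y := fun hY d =>
    ⟨fun ⟨d', h1, h2⟩ => (mul_mem_cancel_left (inv_mem h1)).mp (hY (hk (d'⁻¹ * d) (by simp [h2]))),
      fun h => ⟨d, h, rfl⟩⟩
  have h1 : ∀ d : D, (d : G) = 1 ∨ (d : G) = S.z → (φ d = 1 ↔ (d : G) = 1) := fun d hd =>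
    ⟨fun e => hd.resolve_right fun e' => hz1 (by rw [← e]; congr 1; exact Subtype.ext e'.symm),
      fun e => by rw [show d = 1 from Subtype.ext e, map_one]⟩
  have hc : ∀ {a b : D}, Commute (a : G) b → Commute (φ a) (φ b) := fun {a b} h =>
    Commute.map (show Commute a b from Subtype.ext h) φ
  refine ⟨K, ⟨φ ⟨S.z, hz⟩, (S.H.subgroupOf D).map φ, (S.Z.subgroupOf D).map φ, (S.J.subgroupOf D).map φ,
    S.m ∘ K.subtype, r, π, S.ρ.comp K.subtype, S.B, S.q,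
    ⟨S.md.comap _ K.subtype_injective (fun γ hγ => ⟨⟨γ, hL γ hγ⟩, rfl⟩) ?_, S.rm.hq, S.rm.hN, fun γ => S.rm.inv _,
      fun γ hγ => Subtype.ext (S.rm.faith _ hγ)⟩,
    orderOf_eq_prime (by rw [pow_two, ← map_mul, (h1 _ (Or.inl S.zz)).mpr S.zz]) hz1, ⟨_, S.zZ, rfl⟩,
    map_mono (comap_mono S.ZJ), map_mono (comap_mono S.JH), ?_, ?_, ?_, ?_, fun v => ?_, ?_, ?_, ?_, ?_, ?_, ?_,
    fun ⟨_, c, h2, h3, rfl⟩ => ⟨_, ⟨⟨c, h3⟩, h2, rfl⟩, Subtype.ext (hr ⟨c, h3⟩ h2)⟩, ?_⟩,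
    fun _ => Iff.rfl, rfl, rfl, rfl, rfl, rfl, hr⟩
  · rcases S.md.out with h | ⟨σ, hσ⟩
    · exact Or.inl fun γ => h _
    refine or_iff_not_imp_left.mpr fun h => ?_
    obtain ⟨γ, hγ⟩ := not_forall.mp h
    refine ⟨⟨σ, (mul_mem_cancel_left γ.2).mp (hL _ (S.md.gen _ ?_))⟩, hσ⟩
    rw [S.md.sl_mul, hσ, show sl (S.m γ) = true by simpa using hγ]
    decide +kernel
  · rintro _ ⟨c, h, rfl⟩
    exact hc (S.Hz h)
  · rintro _ _ ⟨c, h, rfl⟩ ⟨j, h', rfl⟩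
    exact ⟨c * j * c⁻¹, S.norm h h', by simp⟩
  · rintro _ ⟨j, h, rfl⟩
    rw [← map_mul]
    exact (S.sq h).imp (fun e => (h1 _ (Or.inl e)).mpr e) fun e => congrArg φ (Subtype.ext e)
  · rintro _ _ ⟨a, h : (a : G) ∈ S.J, rfl⟩ ⟨b, h' : (b : G) ∈ S.J, rfl⟩
    rw [← map_mul, hπ (a * b) (mul_mem h h'), hπ _ h, hπ _ h', coe_mul, S.π_mul h h']
  · obtain ⟨j, h, rfl⟩ := S.π_surj v
    obtain ⟨e, he, h'⟩ := hJ j h
    exact ⟨_, ⟨⟨_, h'⟩, mul_mem h (S.ZJ he), rfl⟩, by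
      rw [hπ _ (mul_mem h (S.ZJ he)), S.π_mul h (S.ZJ he), S.π_Z he, add_zero]⟩
  · rintro _ ⟨a, h : (a : G) ∈ S.J, rfl⟩
    rw [hπ _ h, S.π_zero h, hm le_rfl]
  · rintro _ ⟨a, h : (a : G) ∈ S.J, rfl⟩
    rw [hπ _ h, S.q_zero h, ← map_mul, h1 (a * a) (S.sq h), coe_mul]
  · rintro _ _ ⟨a, h : (a : G) ∈ S.J, rfl⟩ ⟨b, h' : (b : G) ∈ S.J, rfl⟩
    rw [hπ _ h, hπ _ h', S.B_zero h h']
    refine ⟨hc, fun e => (S.conj_J h h').resolve_right fun e' => hz1 ?_⟩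
    have := congrArg φ (Subtype.ext e' : a * b * a⁻¹ = b * ⟨S.z, hz⟩)
    rwa [map_mul, map_mul, map_inv, conj_eq_of_commute e, map_mul, left_eq_mul] at this
  · rintro _ _ ⟨c, h : (c : G) ∈ S.H, rfl⟩ ⟨a, h' : (a : G) ∈ S.J, rfl⟩
    rw [← map_inv, ← map_mul, ← map_mul, hπ _ h', hπ (c * a * c⁻¹) (S.norm h h'), MonoidHom.comp_apply, subtype_apply,
      hr _ h, S.act h h']
    rfl
  · rintro _ _ ⟨a, h : (a : G) ∈ S.H, rfl⟩ ⟨b, h' : (b : G) ∈ S.H, rfl⟩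
    exact Subtype.ext (by rw [← map_mul, coe_mul, hr (a * b) (mul_mem h h'), hr _ h, hr _ h', coe_mul, S.r_mul h h'])
  · rintro _ ⟨a, h : (a : G) ∈ S.H, rfl⟩
    rw [hm S.ZJ, Subtype.ext_iff, hr _ h, ← S.r_eq h, coe_one]
  · rintro _ ⟨c, h, rfl⟩ h' _ ⟨e, he, rfl⟩
    exact hc (S.inner h (by rwa [Function.comp, subtype_apply, hr _ h] at h') e he)

/-- The section `D / ker φ` has an involution centraliser `2^{1+8}.K`. -/
theorem Big.exists_BM [Finite G] {S : GM G Γ} (h : S.Big) {X : Type u} [Group X] {D : Subgroup G} (φ : D →* X)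
    (hs : Function.Surjective φ) (hz : S.z ∈ D) (hk : ∀ d, φ d = 1 → (d : G) ∈ S.Z) (hz1 : φ ⟨S.z, hz⟩ ≠ 1)
    (hZ : ∀ e : D, (e : G) ∈ S.Z → φ e = 1 ∨ φ e = φ ⟨S.z, hz⟩) (hH : ∀ c ∈ D, Commute c S.z → c ∈ S.H)
    (hJ : ∀ j ∈ S.J, ∃ e ∈ S.Z, j * e ∈ D) (hL : ∀ γ ∈ LL S.m, ∃ c ∈ S.H, c ∈ D ∧ S.r c = γ) :
    ∃ (K : Subgroup Γ) (r : X → K), (∀ γ, γ ∈ K ↔ ∃ c ∈ S.H, c ∈ D ∧ S.r c = γ) ∧
      (∀ d : D, (d : G) ∈ S.H → (r (φ d) : Γ) = S.r d) ∧
      BM (φ ⟨S.z, hz⟩) ((S.J.subgroupOf D).map φ) (S.m ∘ K.subtype) r ∧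
      ((∃ g ∈ D, Commute S.z (g * S.z * g⁻¹) ∧ g * S.z * g⁻¹ ≠ S.z) →
        LS (φ ⟨S.z, hz⟩) ((S.J.subgroupOf D).map φ) (S.m ∘ K.subtype) r) := by
  have := Finite.of_surjective φ hs
  obtain ⟨K, S', h1, h2, h3, h4, h5, h6, h7⟩ := S.exists_push D φ hz hk hz1 hJ hL
  have k : ∀ g : D, φ g * φ ⟨S.z, hz⟩ * (φ g)⁻¹ = φ ⟨S.z, hz⟩ → g * S.z * (g : G)⁻¹ = S.z := fun g e =>
    h.nz g ((mul_mem_cancel_right (inv_mem S.zZ)).mp (hk (g * ⟨S.z, hz⟩ * g⁻¹ * ⟨S.z, hz⟩⁻¹) (by simp [e])))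
  have h8 := S'.toBM (fun c hc => by
    obtain ⟨c, rfl⟩ := hs c
    exact h3 ▸ ⟨c, hH c c.2 (mul_inv_eq_iff_eq_mul.mp (k c (conj_eq_of_commute (h2 ▸ hc)))), rfl⟩) (by
    rw [h5, h2]
    rintro _ ⟨e, he, rfl⟩
    exact hZ e he)
  rw [h2, h4, h6] at h8
  refine ⟨K, S'.r, h1, h7, h8, fun ⟨g, hg, h9, h10⟩ => h8.isolated_or_ls.resolve_left fun e => h10 (k ⟨g, hg⟩ (e.2 _ ?_))⟩
  simpa only [map_mul, map_inv] using Commute.map (show Commute (⟨S.z, hz⟩ : D) (⟨g, hg⟩ * ⟨S.z, hz⟩ * ⟨g, hg⟩⁻¹) from Subtype.ext h9) φ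

end GM

namespace FM

variable (S : FM G Γ)

theorem aZ : S.a ∈ S.Z := S.mem_Z.mpr (Or.inr (Or.inl rfl))

theorem azZ : S.a * S.z ∈ S.Z := mul_mem S.aZ S.zZ

theorem aa : S.a * S.a = 1 := S.Zsq S.aZ

theorem a_z : Commute S.a S.z := S.Zc S.aZ S.zJ

theorem az1 : S.a * S.z ≠ 1 := fun e => S.az (by rw [eq_inv_of_mul_eq_one_left e, S.Zinv S.zZ])

theorem azz : S.a * S.z ≠ S.z := fun e => S.a1 (mul_eq_right.mp e)

theorem card_Z : Nat.card S.Z = 4 := by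
  classical
  rw [show Nat.card S.Z = ({1, S.a, S.z, S.a * S.z} : Finset G).card from
    (Nat.card_congr (Equiv.subtypeEquivRight fun e => by simp [S.mem_Z])).trans (Nat.card_eq_finsetCard _)]
  simp [Finset.card_insert_of_notMem, S.a1, S.a1.symm, S.z1, S.z1.symm, S.az, S.az1.symm]

theorem conj_a {c : G} (hc : Commute c S.z) : Commute c S.a ∨ c * S.a * c⁻¹ = S.a * S.z := by
  rcases S.mem_Z.mp (S.normZ (S.hH hc) S.aZ) with e | e | e | e
  · exact absurd (conj_eq_one_iff.mp e) S.a1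
  · exact Or.inl (mul_inv_eq_iff_eq_mul.mp e)
  · exact absurd (by simpa using e.trans (conj_eq_of_commute hc).symm) S.az
  · exact Or.inr e

theorem comm_Z {c : G} (h1 : Commute c S.z) (h2 : Commute c S.a) : ∀ e ∈ S.Z, Commute c e := fun e he => by
  rcases S.mem_Z.mp he with rfl | rfl | rfl | rfl
  exacts [Commute.one_right c, h2, h1, h2.mul_right h1]

theorem big [Finite G] : S.Big := by
  refine S.big_of (fun hc => S.norm (S.hH hc)) (fun hc => S.hH (hc _ S.zZ)) (lt_of_le_of_lt ?_ (by norm_num : 2 < 16))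
  rw [← inf_relIndex_right, show 𝒞(S.Z) ⊓ centralizer {S.z} = centralizer {S.a} ⊓ centralizer {S.z} from
    le_antisymm (inf_le_inf_right _ (cent_le_cent_singleton S.aZ)) fun c hc => ⟨fun e he => (S.comm_Z
      (mem_cent_singleton.mp hc.2) (mem_cent_singleton.mp hc.1) e he).symm, hc.2⟩, inf_relIndex_right]
  exact relIndex_cent_le (l := [S.a, S.a * S.z]) fun k hk => by
    rcases S.conj_a (mem_cent_singleton.mp hk) with e | e <;> simp [conj_eq_of_commute, e]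

/-- interchange `a` and `a z` -/
def swap : FM G Γ :=
  { S with
    a := S.a * S.z
    mem_Z := by
      intro e
      rw [S.mem_Z, mul_assoc, S.zz, mul_one]
      tauto
    a1 := S.az1
    az := S.azz }

/-- the conjugate structure -/
def conj (g : G) : FM G Γ :=
  { S.toGM.conj g with
    a := g * S.a * g⁻¹
    hH := fun hc => mem_cj.mpr (S.hH (commute_of_conj (g := g) (by simpa [mul_assoc, GM.conj_z] using hc)))
    mem_Z := by
      intro e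
      obtain ⟨e, rfl⟩ : ∃ e', e = g * e' * g⁻¹ := ⟨g⁻¹ * e * g, by group⟩
      rw [GM.conj_Z, GM.conj_z, mem_cj, conj_mul, show g⁻¹ * (g * e * g⁻¹) * g = e by group, S.mem_Z]
      simp
    a1 := by simpa using S.a1
    az := by simpa [GM.conj_z] using S.az }

end FM

namespace TM

variable (S : TM G Γ)

theorem VZ : S.V ≤ S.Z := fun _ he => S.mem_Z.mpr (Or.inl he)

theorem vV : S.v ∈ S.V := S.mem_V.mpr (Or.inr (Or.inl rfl))

theorem wV : S.c * S.v * S.c⁻¹ ∈ S.V := S.nV S.cz S.vV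

theorem vZ : S.v ∈ S.Z := S.VZ S.vV

theorem zvZ : S.z * S.v ∈ S.Z := mul_mem S.zZ S.vZ

theorem w1 : S.c * S.v * S.c⁻¹ ≠ 1 := by simpa using S.v1

theorem vw1 : S.v * (S.c * S.v * S.c⁻¹) ≠ 1 := fun e => S.cv (by rw [eq_inv_of_mul_eq_one_right e, S.Zinv S.vZ])

theorem card_V : Nat.card S.V = 4 := by
  classical
  have h1 := S.w1
  have h2 := S.vw1
  have h3 := S.cv
  have h4 := @S.mem_V
  generalize S.c * S.v * S.c⁻¹ = w at *
  rw [show Nat.card S.V = ({1, S.v, w, S.v * w} : Finset G).card from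
    (Nat.card_congr (Equiv.subtypeEquivRight fun e => by simp [h4])).trans (Nat.card_eq_finsetCard _)]
  simp [Finset.card_insert_of_notMem, S.v1, S.v1.symm, h1, h1.symm, h2.symm, h3.symm]

theorem card_Z [Finite G] : Nat.card S.Z = 8 := by
  have h1 := (S.V.subgroupOf S.Z).card_mul_index
  rw [card_subgroupOf_of_le S.VZ, S.card_V, index_eq_two_iff.mpr ⟨⟨S.z, S.zZ⟩, fun b => ?_⟩] at h1
  · exact h1.symm
  · by_cases h : (b : G) ∈ S.V
    · exact Or.inr ⟨h, fun e => S.zV ((mul_mem_cancel_left h).mp e)⟩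
    · exact Or.inl ⟨(S.mem_Z.mp b.2).resolve_left h, h⟩

/-- `C(z)` is transitive on the involutions of `V`. -/
theorem conjV {e : G} (he : e ∈ S.V) (h1 : e ≠ 1) : ∃ h, Commute h S.z ∧ h * S.v * h⁻¹ = e := by
  rcases S.mem_V.mp he with rfl | rfl | rfl | rfl
  · exact absurd rfl h1
  · exact ⟨1, Commute.one_left _, by simp⟩
  · exact ⟨_, S.cz, rfl⟩
  · exact ⟨_, S.cz.mul_left S.cz, by rw [← S.cc]; group⟩

theorem comm_V {h : G} (h1 : Commute h S.v) (h2 : Commute h (S.c * S.v * S.c⁻¹)) : ∀ e ∈ S.V, Commute h e :=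
  fun e he => by
  rcases S.mem_V.mp he with rfl | rfl | rfl | rfl
  exacts [Commute.one_right h, h1, h2, h1.mul_right h2]

theorem comm_Z {h : G} (h1 : Commute h S.z) (h2 : ∀ e ∈ S.V, Commute h e) : ∀ e ∈ S.Z, Commute h e := fun e he =>
  (S.mem_Z.mp he).elim (h2 e) fun e' => by simpa using (h2 _ e').mul_right h1.inv_right

theorem big [Finite G] : S.Big := by
  refine S.big_of S.nJ (fun hc => S.hH.mpr ⟨hc _ S.zZ, hc _ S.vZ⟩) (lt_of_le_of_lt ?_ (by norm_num : 3 * 3 < 16))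
  have k : ∀ e ∈ S.V, e ≠ 1 → (centralizer {e}).relIndex (centralizer {S.z}) ≤ 3 := fun e he h1 =>
    relIndex_cent_le (l := [S.v, S.c * S.v * S.c⁻¹, S.v * (S.c * S.v * S.c⁻¹)]) fun k hk => by
      simpa [h1] using S.mem_V.mp (S.nV (mem_cent_singleton.mp hk) he)
  rw [← inf_relIndex_right, show 𝒞(S.Z) ⊓ centralizer {S.z} = centralizer {S.v} ⊓ centralizer {S.c * S.v * S.c⁻¹} ⊓
    centralizer {S.z} from le_antisymm (inf_le_inf_right _ (le_inf (cent_le_cent_singleton S.vZ)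
      (cent_le_cent_singleton (S.VZ S.wV)))) fun c hc => ⟨fun e he => (S.comm_Z (mem_cent_singleton.mp hc.2) (S.comm_V
      (mem_cent_singleton.mp hc.1.1) (mem_cent_singleton.mp hc.1.2)) e he).symm, hc.2⟩, inf_relIndex_right]
  exact relIndex_inf_le.trans (Nat.mul_le_mul (k _ S.vV S.v1) (k _ S.wV S.w1))

/-- The centraliser of `Z` consists of the inner elements of `H`. -/
theorem sl_of_comm {h : G} (hc : ∀ e ∈ S.Z, Commute h e) : h ∈ S.H ∧ sl (S.m (S.r h)) = false := by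
  have h1 := S.hH.mpr ⟨hc _ S.zZ, hc _ S.vZ⟩
  obtain ⟨s, hs, h2⟩ := S.sw
  refine ⟨h1, by_contra fun h3 => h2 ?_⟩
  have h4 : ¬ sl (S.m (S.r s)) = false := fun e => h2 (S.inner hs e _ (S.VZ S.wV))
  simpa using (hc _ (S.VZ S.wV)).inv_left.mul_left (S.inner (mul_mem h1 hs) (by
    rw [S.r_mul h1 hs, S.md.sl_mul, Bool.eq_true_of_not_eq_false h3, Bool.eq_true_of_not_eq_false h4]; rfl) _
    (S.VZ S.wV))

/-- the conjugate structure -/
def conj (g : G) : TM G Γ :=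
  { S.toGM.conj g with
    v := g * S.v * g⁻¹
    c := g * S.c * g⁻¹
    V := cj g S.V
    hH := by
      intro h
      obtain ⟨h, rfl⟩ : ∃ e', h = g * e' * g⁻¹ := ⟨g⁻¹ * h * g, by group⟩
      rw [GM.conj_H, GM.conj_z, mem_cj, show g⁻¹ * (g * h * g⁻¹) * g = h by group, S.hH, CL.TT.commute_conj_iff,
        CL.TT.commute_conj_iff]
    mem_V := by
      intro e
      obtain ⟨e, rfl⟩ : ∃ e', e = g * e' * g⁻¹ := ⟨g⁻¹ * e * g, by group⟩
      rw [mem_cj, show g⁻¹ * (g * e * g⁻¹) * g = e by group, S.mem_V, conj_inv, conj_mul, conj_mul, conj_mul]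
      simp
    v1 := by simpa using S.v1
    cv := by rw [conj_inv, conj_mul, conj_mul]; simpa using S.cv
    cc := by
      rw [conj_inv]
      simp only [conj_mul, S.cc]
    zV := fun h => S.zV (by simpa [GM.conj_z, mul_assoc] using mem_cj.mp h)
    mem_Z := by
      intro e
      rw [GM.conj_Z, GM.conj_z, mem_cj, mem_cj, mem_cj, S.mem_Z]
      simp [mul_assoc]
    cz := commute_conj S.cz
    nJ := fun {h j} hc hj => mem_cj.mpr (by
      simpa [mul_assoc] using S.nJ (h := g⁻¹ * h * g) (commute_of_conj (g := g)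
        (by simpa [mul_assoc, GM.conj_z] using hc)) (mem_cj.mp hj))
    nV := fun {h j} hc hj => mem_cj.mpr (by
      simpa [mul_assoc] using S.nV (h := g⁻¹ * h * g) (commute_of_conj (g := g)
        (by simpa [mul_assoc, GM.conj_z] using hc)) (mem_cj.mp hj))
    sw := by
      obtain ⟨s, hs, h⟩ := S.sw
      exact ⟨_, conj_mem_cj g hs, fun e => h (commute_of_conj (g := g) (by simpa [mul_assoc] using e))⟩
    cJ := fun {h} hc hV => mem_cj.mpr (by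
      simpa [mul_assoc] using S.cJ (h := g⁻¹ * h * g) (commute_of_conj (g := g)
        (by simpa [mul_assoc, GM.conj_z] using hc)) fun e he => commute_of_conj (g := g)
        (by simpa [mul_assoc] using hV _ (conj_mem_cj g he)))
    cnt := by
      obtain ⟨j, hj, h⟩ := S.cnt
      exact ⟨_, conj_mem_cj g hj, fun e => h (by simpa [mul_assoc] using mem_cj.mp e)⟩ }

end TM

end CL.Fc
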