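/-
Centralisers `(2^k × 2^{1+8}).U₄(2)` (helper9), part D2: the remaining intermediate statements.
-/
import Cfsg.Agent.Spor.FcB

set_option autoImplicit false

namespace CL.Fc

open Subgroup CL.Even CL.Grp CL.U6 CL.MT Cfsg
open scoped commutatorElement

universe u v w

/-- the trichotomy for `FM` -/
def FMn : Prop := ∀ (G : Type u) (Γ : Type v) [Group G] [Group Γ] [Finite G] (S : FM G Γ),
  IsIsolatedInvolution S.z ∨ ((∃ h ∈ S.H, ¬ Commute h S.a) ∧ Spor.IsoFi22 G ∧ S.a ∈ ⁅𝒞(S.Z), 𝒞(S.Z)⁆) ∨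
    ∃ b, (b = S.a ∨ b = S.a * S.z) ∧ ∀ g, Commute g b

/-- the case of `Fi₂₃` -/
def TA : Prop := ∀ (G : Type u) (Γ : Type v) [Group G] [Group Γ] [Finite G] (S : TM G Γ),
  ¬ Isl S.z (S.z * S.v) → Spor.IsoFi23 G

/-- the case of `2².U₆(2).S₃`: `V` is normal -/
def TB1 : Prop := ∀ (G : Type u) (Γ : Type v) [Group G] [Group Γ] [Finite G] (S : TM G Γ),
  Isl S.z (S.z * S.v) → ¬ Isl S.z S.v → S.V.Normal

/-- the case of `2².U₆(2).S₃`: the quotient -/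
def TB2 : Prop := ∀ (G : Type u) (Γ : Type v) (K : Type w) [Group G] [Group Γ] [Finite G] [Field K] [Fintype K]
  (S : TM G Γ) [S.V.Normal], Fintype.card K = 4 → ¬ Isl S.z S.v → Nonempty ((G ⧸ S.V) ≃* MulAut (PSU 6 K 2))

/-- construction of `GM` -/
def GMC : Prop := ∀ (G : Type u) (Γ : Type v) [Group G] [Group Γ] [Finite G] (z : G) (H J E : Subgroup G)
  (m : Γ → ℕ) (r : H →* Γ), Md m → orderOf z = 2 → IsExtraspecial 2 E → Nat.card E = 512 → z ∈ E → E ≤ J → J ≤ H →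
  (∀ c ∈ H, Commute c z) → (∀ c ∈ H, ∀ j ∈ J, c * j * c⁻¹ ∈ J) →
  (∀ j ∈ J, ∃ e ∈ E, ∃ a, j = e * a ∧ a * a = 1 ∧ ∀ k ∈ J, Commute a k) →
  (∀ c ∈ H, (∀ j ∈ J, Commute c j) → c ∈ J) → Function.Surjective r → (∀ c, r c = 1 ↔ (c : G) ∈ J) →
  (∀ c ∈ H, ∀ e ∈ J ⊓ 𝒞(J), Commute (c * c) e) →
  ∃ S : GM G Γ, S.z = z ∧ S.H = H ∧ S.J = J ∧ S.Z = J ⊓ 𝒞(J) ∧ S.m = m

variable {G : Type u} {Γ : Type v} [Group G] [Group Γ]

theorem Isl.conj {z d : G} (h : Isl z d) {k : G} (hk : Commute k z) : Isl z (k * d * k⁻¹) := fun g h1 h2 => by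
  have e : k⁻¹ * g * k * z * (k⁻¹ * g * k)⁻¹ = k⁻¹ * (g * z * g⁻¹) * k⁻¹⁻¹ := by
    rw [mul_assoc _ k, hk.eq]; group
  have e' := conj_eq_of_commute hk.inv_left
  have := h (k⁻¹ * g * k) (commute_of_conj (g := k) (by simpa [mul_assoc] using h1)) (by
    have := commute_conj (g := k⁻¹) h2
    rwa [e', ← e] at this)
  simpa using (e.symm.trans this).trans e'.symm

theorem fmn (hB : FB.{u, v}) (h1 : FA1.{u, v}) (h2 : FA2.{u, v}) : FMn.{u, v} := fun G Γ _ _ _ S => by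
  by_cases h : ∀ h ∈ S.H, Commute h S.a
  · by_cases ha : Isl S.z S.a
    · by_cases hb : Isl S.z (S.a * S.z)
      · exact Or.inl (hB G Γ S ha hb)
      · exact Or.inr (Or.inr ⟨_, Or.inr rfl, h2 G Γ S.swap (fun c hc => (h c hc).mul_right (S.Hz hc)) hb⟩)
    · exact Or.inr (Or.inr ⟨_, Or.inl rfl, h2 G Γ S h ha⟩)
  · push Not at h
    by_cases ha : Isl S.z S.a
    · obtain ⟨k, hk, h3⟩ := h
      exact Or.inl (hB G Γ S ha ((S.conj_a (S.Hz hk)).resolve_left h3 ▸ ha.conj (S.Hz hk)))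
    · exact Or.inr (Or.inl ⟨h, h1 G Γ S h ha⟩)

/-- The centraliser of `y ∈ {v, z v}` modulo `y`. -/
theorem TM.exists_FM [Finite G] (S : TM G Γ) {X : Type u} [Group X] {y : G} (hy : y = S.v ∨ y = S.z * S.v)
    (φ : centralizer ({y} : Set G) →* X) (hs : Function.Surjective φ) (hk : ∀ d, φ d = 1 ↔ (d : G) = 1 ∨ (d : G) = y) :
    ∃ (hz : S.z ∈ centralizer ({y} : Set G)) (hw : S.c * S.v * S.c⁻¹ ∈ centralizer ({y} : Set G)) (K : Subgroup Γ)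
      (S' : FM X K), S'.z = φ ⟨_, hz⟩ ∧ S'.a = φ ⟨_, hw⟩ ∧ S'.H = (S.H.subgroupOf _).map φ ∧
        S'.Z = (S.Z.subgroupOf _).map φ ∧ (¬ Isl S.z y → ¬ IsIsolatedInvolution S'.z) := by
  have yZ : y ∈ S.Z := by rcases hy with rfl | rfl; exacts [S.vZ, S.zvZ]
  have hJ : S.J ≤ centralizer {y} := fun j hj => mem_cent_singleton.mpr (S.Zc yZ hj).symm
  have hz := hJ S.zJ
  have hw := hJ (S.ZJ (S.VZ S.wV))
  have zy : S.z ≠ y := by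
    rcases hy with rfl | rfl
    exacts [fun e => S.zV (e ▸ S.vV), fun e => S.v1 (left_eq_mul.mp e)]
  have h0 : ∀ d, φ d = 1 → (d : G) ∈ S.Z := fun d hd => ((hk d).mp hd).elim (fun e => by simp [e]) fun e => by rwa [e]
  have hz1 : φ ⟨_, hz⟩ ≠ 1 := fun e => ((hk _).mp e).elim S.z1 zy
  obtain ⟨K, S', -, h2, h3, -, h5, -⟩ := S.exists_push _ φ hz h0 hz1 (fun j hj => ⟨1, one_mem _, by simpa using hJ hj⟩)
    fun γ hγ => by
      obtain ⟨c, h1, h2, h3⟩ := S.exists_lift hγ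
      exact ⟨c, h1, mem_cent_singleton.mpr (h3 y yZ), h2⟩
  have k : ∀ g, φ g * φ ⟨S.z, hz⟩ * (φ g)⁻¹ = φ ⟨S.z, hz⟩ → g * S.z * (g : G)⁻¹ = S.z := fun g e =>
    S.big.nz g ((mul_mem_cancel_right (inv_mem S.zZ)).mp (h0 (g * ⟨S.z, hz⟩ * g⁻¹ * ⟨S.z, hz⟩⁻¹) (by simp [e])))
  have hv : φ ⟨S.v, hJ (S.ZJ S.vZ)⟩ = 1 ∨ φ ⟨S.v, hJ (S.ZJ S.vZ)⟩ = φ ⟨S.z, hz⟩ := hy.imp (fun e => (hk _).mpr (Or.inr e.symm))
    fun e => by
      have := (hk (⟨S.z, hz⟩ * ⟨S.v, hJ (S.ZJ S.vZ)⟩)).mpr (Or.inr e.symm)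
      rw [map_mul] at this
      rw [eq_inv_of_mul_eq_one_right this, ← h2, S'.Zinv S'.zZ]
  have hV : ∀ e (he : e ∈ S.V), φ ⟨e, hJ (S.ZJ (S.VZ he))⟩ ∈
      [1, φ ⟨_, hw⟩, φ ⟨_, hz⟩, φ ⟨_, hw⟩ * φ ⟨_, hz⟩] := fun e he => by
    rcases S.mem_V.mp he with rfl | rfl | rfl | rfl
    · exact (map_one φ).symm ▸ List.mem_cons_self
    · rcases hv with e | e <;> simp [e]
    · simp
    · have : φ ⟨_, hJ (S.ZJ (S.VZ he))⟩ = φ ⟨_, hw⟩ * φ ⟨S.v, hJ (S.ZJ S.vZ)⟩ := by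
        rw [← map_mul]; exact congrArg φ (Subtype.ext (S.Zc S.vZ (S.ZJ (S.VZ S.wV))))
      rcases hv with e | e <;> simp [this, e]
  have zz : φ ⟨_, hz⟩ * φ ⟨_, hz⟩ = 1 := h2 ▸ S'.zz
  refine ⟨hz, hw, K, ⟨S', φ ⟨_, hw⟩, fun {c} hc => ?_, fun {e} => ⟨?_, fun h => ?_⟩, fun e => ?_, fun e => ?_⟩, h2, rfl, h3,
    h5, fun h6 h7 => h6 fun g h8 h9 => k ⟨g, mem_cent_singleton.mpr h8⟩ (h2 ▸ h7.2 _ ?_)⟩
  · obtain ⟨c, rfl⟩ := hs c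
    have h6 : Commute (c : G) S.z := mul_inv_eq_iff_eq_mul.mp (k c (conj_eq_of_commute (h2 ▸ hc)))
    have h7 := mem_cent_singleton.mp c.2
    refine h3 ▸ ⟨c, S.hH.mpr ⟨h6, ?_⟩, rfl⟩
    rcases hy with rfl | rfl
    exacts [h7, by simpa using h6.inv_right.mul_right h7]
  · rw [h5, h2]
    rintro ⟨e, he, rfl⟩
    rcases S.mem_Z.mp he with h | h
    · simpa using hV _ h
    · have h6 := hV _ h
      rw [show φ ⟨_, hJ (S.ZJ (S.VZ h))⟩ = φ e * φ ⟨_, hz⟩ from map_mul φ e ⟨_, hz⟩] at h6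
      rw [← mul_one (φ e), ← zz, ← mul_assoc]
      generalize φ e * φ ⟨_, hz⟩ = p at h6
      simp only [List.mem_cons, List.not_mem_nil, or_false] at h6
      rcases h6 with rfl | rfl | rfl | rfl <;> simp [mul_assoc, zz]
  · have h6 : φ ⟨_, hw⟩ ∈ S'.Z := h5 ▸ ⟨_, S.VZ S.wV, rfl⟩
    rcases h with rfl | rfl | rfl | rfl
    exacts [one_mem _, h6, S'.zZ, mul_mem h6 S'.zZ]
  · rcases (hk _).mp e with e | e
    · exact S.w1 e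
    · rcases hy with rfl | rfl
      exacts [S.cv e, S.zV ((mul_mem_cancel_right S.vV).mp (e ▸ S.wV))]
  · have h6 := (hk (⟨_, hw⟩ * ⟨_, hz⟩)).mp (by rw [map_mul, e, h2, zz])
    have h7 : ∀ p ∈ S.V, S.c * S.v * S.c⁻¹ * S.z ≠ p := fun p hp e => S.zV ((mul_mem_cancel_left S.wV).mp (e ▸ hp))
    rcases h6 with e | e
    · exact h7 _ (one_mem _) e
    · rcases hy with rfl | rfl
      exacts [h7 _ S.vV e, S.cv (mul_right_cancel (e.trans (S.Zc S.vZ S.zJ).eq.symm))]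
  · simpa only [map_mul, map_inv, h2] using Commute.map (show Commute (⟨S.z, hz⟩ : centralizer {y})
      (⟨g, mem_cent_singleton.mpr h8⟩ * ⟨S.z, hz⟩ * ⟨g, mem_cent_singleton.mpr h8⟩⁻¹) from Subtype.ext h9) φ

end CL.Fc
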