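/-
Project FC, job GMC: coordinates for `Z * 2^{1+8}`.
-/
import Cfsg.Agent.Spor.FcD2

set_option autoImplicit false

namespace CL.Fc

open Subgroup CL.Even CL.Grp CL.U6 CL.MT Cfsg

universe u v

variable {G : Type u} {Γ : Type v} [Group G] [Group Γ]

/-- coordinates on `J / Z(J)` -/
structure GmP (z : G) (J : Subgroup G) (π : G → V8) (B : LinearMap.BilinForm (ZMod 2) V8) (q : V8 → ZMod 2) :
    Prop where
  hq : ∀ v w, q (v + w) = q v + q w + B v w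
  hN : ∀ r, (∀ y, B r y = 0) → r = 0
  sq : ∀ {j}, j ∈ J → j * j = 1 ∨ j * j = z
  π_mul : ∀ {a b}, a ∈ J → b ∈ J → π (a * b) = π a + π b
  π_surj : ∀ v, ∃ a ∈ J, π a = v
  π_zero : ∀ {a}, a ∈ J → (π a = 0 ↔ a ∈ J ⊓ 𝒞(J))
  q_zero : ∀ {a}, a ∈ J → (q (π a) = 0 ↔ a * a = 1)
  B_zero : ∀ {a b}, a ∈ J → b ∈ J → (B (π a) (π b) = 0 ↔ Commute a b)

theorem gm_pi [Finite G] {z : G} {J E : Subgroup G} (hz : orderOf z = 2) (hE : IsExtraspecial 2 E)
    (hc : Nat.card E = 512) (zE : z ∈ E) (EJ : E ≤ J) (Jz : ∀ c ∈ J, Commute c z)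
    (hJ : ∀ j ∈ J, ∃ e ∈ E, ∃ a, j = e * a ∧ a * a = 1 ∧ ∀ k ∈ J, Commute a k) : ∃ π B q, GmP z J π B q := by
  classical
  have hzC : z ∈ 𝒞(E) := fun e he => Jz e (EJ he)
  have hZ := extra2_inf_cent_eq hE hz zE hzC
  have X : XE (⟨z, zE⟩ : E) ⊤ := xe_of (extra_of_mulEquiv hE topEquiv.symm) (by rw [← hz, orderOf_mk])
    (fun e _ => Subtype.ext (hzC e e.2)) le_top (by rw [normalizer_eq_top]; exact le_top)
  obtain ⟨H, p, A, -, -, M⟩ := exists_LM X (by rw [card_top, hc])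
  have pz : ∀ a : E, p a = 0 ↔ (a : G) ∈ zpowers z := fun a => by
    rw [M.π_zero (mem_top a), mem_zpowers_two hz, Subtype.ext_iff, Subtype.ext_iff]; rfl
  choose! e he a hea ha hk using hJ
  let π : G → V8 := fun j => if hj : j ∈ J then p ⟨e j, he j hj⟩ else 0
  have hπ : ∀ (x : E) (b : G), b ∈ J → (∀ k ∈ J, Commute b k) → π (x * b) = p x := fun x b hb hbk => by
    have hj : (x : G) * b ∈ J := mul_mem (EJ x.2) hb
    have h1 : (x : G)⁻¹ * e (x * b) = b * (a (x * b))⁻¹ := by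
      rw [eq_mul_inv_iff_mul_eq, mul_assoc, ← hea _ hj, inv_mul_cancel_left]
    have h2 : p (x⁻¹ * ⟨e (x * b), he _ hj⟩) = 0 := (pz _).2 (hZ ▸ ⟨E.mul_mem (E.inv_mem x.2) (he _ hj), fun k hk' => by
      change k * ((x : G)⁻¹ * e (x * b)) = (x : G)⁻¹ * e (x * b) * k
      rw [h1]
      exact ((hbk k (EJ hk')).mul_left (hk _ hj k (EJ hk')).inv_left).symm.eq⟩)
    have h3 := M.π_mul (mem_top x) (mem_top (x⁻¹ * ⟨e (x * b), he _ hj⟩))
    rw [mul_inv_cancel_left, h2, add_zero] at h3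
    exact (dif_pos hj).trans h3
  have aJ : ∀ j ∈ J, a j ∈ J := fun j hj => by
    have := mul_mem (inv_mem (EJ (he j hj))) hj
    rwa [show (e j)⁻¹ * j = a j from inv_mul_eq_iff_eq_mul.2 (hea j hj)] at this
  have hp : ∀ {j} (hj : j ∈ J), π j = p ⟨e j, he j hj⟩ := fun hj => dif_pos hj
  have mul : ∀ {i j}, i ∈ J → j ∈ J → i * j = e i * e j * (a i * a j) := fun {i j} hi hj => by
    conv_lhs => rw [hea i hi, hea j hj]
    rw [mul_assoc, ← mul_assoc (a i), (hk i hi _ (EJ (he j hj))).eq]; group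
  have sq : ∀ {j}, j ∈ J → j * j = e j * e j := fun hj => by rw [mul hj hj, ha _ hj, mul_one]
  refine ⟨π, H.B, H.q, M.hq, M.hN, fun {j} hj => ?_, fun {i j} hi hj => ?_, fun v => ?_, fun {j} hj => ?_,
    fun {j} hj => ?_, fun {i j} hi hj => ?_⟩
  · rw [sq hj, ← mem_zpowers_two hz, ← hZ, ← pow_two]
    exact extra_pow_mem_inf hE (he j hj)
  · rw [mul hi hj, hp hi, hp hj, ← M.π_mul (mem_top _) (mem_top _)]
    exact hπ (⟨e i, he i hi⟩ * ⟨e j, he j hj⟩) _ (mul_mem (aJ i hi) (aJ j hj))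
      fun k hk' => (hk i hi k hk').mul_left (hk j hj k hk')
  · obtain ⟨x, -, rfl⟩ := M.π_surj v
    exact ⟨x, EJ x.2, by simpa using hπ x 1 J.one_mem fun k _ => Commute.one_left k⟩
  · rw [hp hj, pz]
    constructor
    · refine fun h => ⟨hj, fun k hk' => ?_⟩
      have : Commute (e j) k := by
        rcases (mem_zpowers_two hz).1 h with h | h <;> rw [show e j = _ from h]
        exacts [Commute.one_left k, (Jz k hk').symm]
      rw [hea j hj]
      exact (this.mul_left (hk j hj k hk')).symm.eq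
    · refine fun h => hZ ▸ ⟨he j hj, fun k hk' => ?_⟩
      change k * e j = e j * k
      rw [show e j = j * (a j)⁻¹ from eq_mul_inv_iff_mul_eq.2 (hea j hj).symm]
      exact (Commute.mul_right (h.2 k (EJ hk')) (hk j hj k (EJ hk')).symm.inv_right).eq
  · rw [hp hj, M.q_zero (mem_top _), sq hj, Subtype.ext_iff]; rfl
  · rw [hp hi, hp hj, M.B_zero (mem_top _) (mem_top _), commute_iff_eq, commute_iff_eq, Subtype.ext_iff, mul hi hj,
      mul hj hi, (hk i hi _ (aJ j hj)).eq, mul_left_inj]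
    rfl

namespace GmP

variable {z : G} {J : Subgroup G} {π : G → V8} {B : LinearMap.BilinForm (ZMod 2) V8} {q : V8 → ZMod 2}
  (P : GmP z J π B q)
include P

theorem π_one : π 1 = 0 := (P.π_zero J.one_mem).2 (one_mem _)

theorem π_inv {a : G} (ha : a ∈ J) : π a⁻¹ = π a :=
  eq_of_add_eq_zero_zmod2 (by rw [← P.π_mul (inv_mem ha) ha, inv_mul_cancel, P.π_one])

theorem π_eq {a b : G} (ha : a ∈ J) (hb : b ∈ J) : π a = π b ↔ b⁻¹ * a ∈ J ⊓ 𝒞(J) := by
  rw [← P.π_zero (mul_mem (inv_mem hb) ha), P.π_mul (inv_mem hb) ha, P.π_inv hb]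
  exact ⟨fun e => by rw [e, add_self_zmod2], fun e => (eq_of_add_eq_zero_zmod2 e).symm⟩

theorem π_conj {a k : G} (ha : a ∈ J) (hk : k ∈ J) : π (k * a * k⁻¹) = π a := by
  rw [P.π_mul (mul_mem hk ha) (inv_mem hk), P.π_mul hk ha, P.π_inv hk, add_right_comm, add_self_zmod2, zero_add]

variable {H : Subgroup G} (hn : ∀ c ∈ H, ∀ j ∈ J, c * j * c⁻¹ ∈ J)
include hn

omit P in
theorem normZ {c e : G} (hc : c ∈ H) (he : e ∈ J ⊓ 𝒞(J)) : c * e * c⁻¹ ∈ J ⊓ 𝒞(J) :=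
  ⟨hn c hc e he.1, fun k hk => by
    simpa [mul_assoc] using congrArg (fun x => c * x * c⁻¹) (he.2 _ (hn _ (inv_mem hc) k hk))⟩

theorem π_cong {c a b : G} (hc : c ∈ H) (ha : a ∈ J) (hb : b ∈ J) (h : π a = π b) :
    π (c * a * c⁻¹) = π (c * b * c⁻¹) := by
  rw [P.π_eq (hn c hc a ha) (hn c hc b hb), show (c * b * c⁻¹)⁻¹ * (c * a * c⁻¹) = c * (b⁻¹ * a) * c⁻¹ by group]
  exact normZ hn hc ((P.π_eq ha hb).1 h)

theorem exists_rho (r : H →* Γ) (hs : Function.Surjective r) (hr : ∀ c, r c = 1 → (c : G) ∈ J) :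
    ∃ ρ : Γ →* Module.End (ZMod 2) V8, ∀ (c : H) (a : G), a ∈ J → ρ (r c) (π a) = π (c * a * (c : G)⁻¹) := by
  choose σ hσ hπ using P.π_surj
  choose f hf using hs
  let F : Γ → Module.End (ZMod 2) V8 := fun γ => (AddMonoidHom.mk' (fun v => π (f γ * σ v * (f γ : G)⁻¹))
    fun v w => by
      rw [← P.π_mul (hn _ (f γ).2 _ (hσ v)) (hn _ (f γ).2 _ (hσ w)), conj_mul]
      exact P.π_cong hn (f γ).2 (hσ _) (mul_mem (hσ v) (hσ w)) (by rw [P.π_mul (hσ v) (hσ w), hπ, hπ, hπ])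
    ).toZModLinearMap 2
  have k : ∀ (c : H) (a : G), a ∈ J → F (r c) (π a) = π (c * a * (c : G)⁻¹) := fun c a ha => by
    change π (f (r c) * σ (π a) * (f (r c) : G)⁻¹) = _
    have h1 : ((f (r c) * c⁻¹ : H) : G) ∈ J := hr _ (by rw [map_mul, hf, map_inv, mul_inv_cancel])
    rw [P.π_cong hn (f _).2 (hσ _) ha (hπ _), ← P.π_conj (hn _ c.2 a ha) h1]
    congr 1
    simp [mul_assoc]
  refine ⟨⟨⟨F, LinearMap.ext fun v => ?_⟩, fun a b => LinearMap.ext fun v => ?_⟩, k⟩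
  · rw [← hπ v, ← map_one r, k _ _ (hσ v)]; simp
  · change F (a * b) v = F a (F b v)
    rw [← hπ v, ← hf a, ← hf b, ← map_mul, k _ _ (hσ v), k _ _ (hσ v), k _ _ (hn _ (f b).2 _ (hσ v))]
    congr 1
    simp [mul_assoc]

end GmP

theorem gmc : GMC.{u, v} := by
  intro G Γ _ _ _ z H J E m r h hz hE hc zE EJ JH Hz hn hJ hC hs hr h2
  classical
  obtain ⟨π, B, q, P⟩ := gm_pi hz hE hc zE EJ (fun c hc => Hz c (JH hc)) hJ
  obtain ⟨ρ, hρ⟩ := P.exists_rho hn r hs fun c => (hr c).1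
  have Zsq : ∀ e ∈ J ⊓ 𝒞(J), e * e = 1 := fun e he =>
    (P.q_zero he.1).1 (by rw [(P.π_zero he.1).2 he, quad2_zero P.hq])
  have faith : ∀ γ, (∀ v, ρ γ v = v) → γ = 1 := fun γ hγ => by
    have hk : ρ.ker = ⊥ := md_two_eq_bot h (fun x => ⟨2, Subtype.ext ?_⟩) (by rw [normalizer_eq_top]; exact le_top)
    · exact mem_bot.1 (hk ▸ (LinearMap.ext hγ : ρ γ = 1))
    obtain ⟨c, hc⟩ := hs x
    have h1 : ρ (r (c * c)) = 1 := by rw [map_mul, hc, map_mul, show ρ x = 1 from x.2, mul_one]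
    change (x : Γ) ^ 2 ^ 2 = 1
    rw [← hc, show r c ^ 2 ^ 2 = r (c * c * (c * c)) by simp [pow_succ, mul_assoc], hr]
    refine hC _ (c * c * (c * c)).2 fun j hj => ?_
    have h3 := hρ (c * c) j hj
    rw [h1, Module.End.one_apply, eq_comm, P.π_eq (hn _ (c * c).2 j hj) hj] at h3
    have h4 := (h2 c c.2 _ h3).eq
    have h5 := Zsq _ h3
    simp only [coe_mul] at h4 h5 ⊢
    generalize (c : G) * c = d at h4 h5
    rw [commute_iff_eq, ← mul_inv_eq_iff_eq_mul, eq_comm, ← inv_mul_eq_one,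
      show j⁻¹ * (d * d * j * (d * d)⁻¹) = j⁻¹ * (d * j * d⁻¹) * (d * (j⁻¹ * (d * j * d⁻¹))) * d⁻¹ by group, h4,
      ← mul_assoc, h5]
    group
  have hP : LL m ≤ (𝒞(J ⊓ 𝒞(J)).subgroupOf H).map r := by
    have := h.simple
    have hN : (𝒞(J ⊓ 𝒞(J)).subgroupOf H).Normal := ⟨fun a ha g e he => by
      simpa [mul_assoc] using congrArg (fun x => (g : G) * x * (g : G)⁻¹) (ha _ (GmP.normZ hn (inv_mem g.2) he))⟩
    refine subgroupOf_eq_top.1 ((IsSimpleGroup.eq_bot_or_eq_top_of_normal _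
      ((hN.map r hs).subgroupOf _)).resolve_left fun e => ?_)
    obtain ⟨d, hd⟩ := h.exists_of_tw (l := [20, 24, 68, 72]) (A := d1) (by decide +kernel)
    obtain ⟨c, rfl⟩ := hs d
    have hL : r c ∈ LL m := h.mem_LL.2 (by rw [hd]; decide +kernel)
    have h1 : (⟨r c * r c, mul_mem hL hL⟩ : LL m) ∈ (⊥ : Subgroup (LL m)) :=
      e ▸ ⟨c * c, fun x hx => (h2 c c.2 x hx).symm.eq, map_mul r c c⟩
    have h3 := congrArg m (congrArg Subtype.val (mem_bot.1 h1))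
    rw [h.mul, hd, OneMemClass.coe_one, h.one] at h3
    exact absurd h3 (by decide +kernel)
  let r' : G → Γ := fun c => if hc : c ∈ H then r ⟨c, hc⟩ else 1
  have hr' : ∀ {c} (hc : c ∈ H), r' c = r ⟨c, hc⟩ := fun hc => dif_pos hc
  refine ⟨{ z := z, H := H, Z := J ⊓ 𝒞(J), J := J, m := m, r := r', π := π, ρ := ρ, B := B, q := q
            rm := ⟨h, P.hq, P.hN, fun γ v => ?_, faith⟩, ord := hz
            zZ := ⟨EJ zE, fun k hk => Hz k (JH hk)⟩, ZJ := inf_le_left, JH := JH, Hz := Hz _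
            norm := fun hc hj => hn _ hc _ hj
            sq := P.sq, π_mul := P.π_mul, π_surj := P.π_surj, π_zero := P.π_zero, q_zero := P.q_zero
            B_zero := P.B_zero, act := fun hc ha => by rw [hr' hc, hρ _ _ ha]
            r_mul := fun ha hb => by rw [hr' ha, hr' hb, hr' (mul_mem ha hb), ← map_mul]; rfl
            r_eq := fun ha => by rw [hr' ha, hr]
            r_surj := fun γ => (hs γ).elim fun c e => ⟨c, c.2, (hr' c.2).trans e⟩
            inner := fun {c} hc hl e he => ?_ }, rfl, rfl, rfl, rfl, rfl⟩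
  · obtain ⟨c, rfl⟩ := hs γ
    obtain ⟨a, ha, rfl⟩ := P.π_surj v
    have k : ∀ x y : ZMod 2, (x = 0 ↔ y = 0) → x = y := by decide
    refine k _ _ ?_
    rw [hρ c a ha, P.q_zero ha, P.q_zero (hn _ c.2 a ha), conj_mul, conj_eq_one_iff]
  · obtain ⟨c', h1, h3⟩ := hP (h.mem_LL.2 hl)
    have h4 : ((c'⁻¹ * ⟨c, hc⟩ : H) : G) ∈ J := (hr _).1 (by rw [map_mul, map_inv, h3, hr' hc, inv_mul_cancel])
    rw [← mul_inv_cancel_left (c' : G) c]
    exact Commute.mul_left (h1 e he).symm (he.2 _ h4)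

end CL.Fc
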