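/-
Centralisers `(2^k × 2^{1+8}).U₄(2)`, part FS: the structure of `U₆(2)` and `U₆(2).2`.
-/
import Cfsg.Agent.Spor.FcD

set_option autoImplicit false

namespace CL.Fc

open Subgroup CL.Even CL.Grp CL.U6 CL.MT Cfsg
open scoped commutatorElement

universe u v

variable {G Γ : Type*} [Group G] [Group Γ]

theorem fs_iso : ∀ a < 256, a = 0 ∨ Iso a ∨ ∃ b < 256, Iso b ∧ Iso (b ^^^ a) := by decide +kernel

theorem fs_gen : (∀ v ∈ [5, 80, 85, 165, 245], [v] ∈ EW ∧ Iso v ∧ tw [v] = tv v ∧ ∀ a ∈ FF v, a ∈ l0) ∧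
    (∀ a ∈ l0, ∃ v ∈ [5, 80, 85, 165, 245], a ∈ FF v) ∧ ∀ w ∈ EW, ∃ v ∈ [5, 80, 85, 165, 245],
      tw w = tv v ∨ ∃ v' ∈ [5, 80, 85, 165, 245], tw w = mm (tv v) (tv v') := by decide +kernel

theorem sim_fib {z y y' : G} (x : G) (hz : z * z = 1) (h : Sim z y y') : fib (IsConj x) z y = fib (IsConj x) z y' := by
  obtain ⟨c, hc, e, h⟩ := h
  have k : ∀ y, IsConj x y ↔ IsConj x (c * y * c⁻¹) := fun y =>
    ⟨fun h => h.trans (isConj_iff.mpr ⟨c, rfl⟩), fun h => h.trans (isConj_iff.mpr ⟨c, rfl⟩).symm⟩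
  have := zb_conj hc y true
  rw [zb_true] at this
  rw [U6.fib, k y, k (y * z), this, h]
  cases e
  · rw [zb_false, mul_one]; rfl
  · rw [zb_true, mul_assoc, hz, mul_one, add_comm]; rfl

theorem exists_of_fib {P : G → Prop} {z y : G} (h : fib P z y ≠ 0) : ∃ e, P (y * zb z e) := by
  by_contra! h1
  have h2 := h1 false
  rw [zb_false, mul_one] at h2
  exact h (by simp [fib, h2, show ¬ P (y * z) from h1 true])

section

variable [Finite G] {z : G} {Q : Subgroup G} {m : Γ → ℕ} {r : G → Γ} {s : ℕ → G} (h : HM z Q m r s)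
include h

omit [Finite G] in
theorem sim_85 {a : ℕ} (ha : Iso a) (e : Bool) : Sim z (s a * zb z e) (s 85) := by
  obtain ⟨γ, -, hγ⟩ := h.md.exists_85 ha
  obtain ⟨κ, hκ, rfl⟩ := h.kl γ
  exact ⟨κ, hκ.1, _, by rw [zb_conj hκ.1, hκ.2 a ha.1, hγ, zb_mul h.mul_self]⟩

theorem inner_le (S : LS z Q m r) {N : Subgroup G} [hN : N.Normal] (hz : z ∈ N) {c : G} (hc : Commute c z)
    (h1 : sl (m (r c)) = false) : c ∈ N := by
  have k0 : ∀ {x}, IsConj z x → x ∈ N := fun hx => by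
    obtain ⟨g, rfl⟩ := isConj_iff.mp hx; exact hN.conj_mem z hz g
  have k1 : ∀ e, zb z e ∈ N := fun e => by cases e; exacts [N.one_mem, hz]
  have k2 : ∀ v, Iso v → s v ∈ N := fun v hv => by
    obtain ⟨x, x1, x2, -, x4⟩ := S.lift hv
    obtain ⟨b, hb, b1, b2⟩ := (tv_mem v hv.1 hv).2.2.2
    obtain ⟨f, hf⟩ := h.comm_code x2 hb false
    rw [x4, ap_tv hv.1 hb, tvf_eq, b1, b2, cond_true, cond_false, Nat.xor_zero, Nat.xor_comm b,
      Nat.xor_xor_cancel_right, mul_assoc, mul_assoc, ← mul_assoc (s b * _)] at hf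
    exact (mul_mem_cancel_right (k1 f)).mp (hf ▸ mul_mem (k0 x1) (hN.conj_mem _ (inv_mem (k0 x1)) _))
  have k3 : Q ≤ N := fun y hy => by
    obtain ⟨a, ha, e, rfl⟩ := h.s_surj hy
    refine mul_mem ?_ (k1 e)
    rcases fs_iso a ha with rfl | h2 | ⟨b, hb, h2, h3⟩
    · exact h.s_zero ▸ N.one_mem
    · exact k2 a h2
    · exact (mul_mem_cancel_left (k2 b h2)).mp (h.s_mul hb ha ▸ mul_mem (k2 _ h3) (k1 _))
  have k4 : ∀ γ ∈ LL m, ∃ x ∈ N, Commute x z ∧ r x = γ := fun γ hγ => by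
    induction hγ using closure_induction with
    | mem x hx =>
      obtain ⟨v, hv, e⟩ := hx
      obtain ⟨y, y1, y2, -, y4⟩ := S.lift hv
      exact ⟨y, k0 y1, y2, h.md.inj (y4.trans e.symm)⟩
    | one => exact ⟨1, N.one_mem, Commute.one_left z, h.r_one⟩
    | mul a b _ _ ha hb =>
      obtain ⟨x, x1, x2, rfl⟩ := ha
      obtain ⟨y, y1, y2, rfl⟩ := hb
      exact ⟨x * y, mul_mem x1 y1, x2.mul_left y2, h.r_mul x2 y2⟩
    | inv a _ ha =>
      obtain ⟨x, x1, x2, rfl⟩ := ha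
      exact ⟨x⁻¹, inv_mem x1, x2.inv_left, h.r_inv x2⟩
  obtain ⟨x, x1, x2, x3⟩ := k4 _ (h.md.gen _ h1)
  exact (mul_mem_cancel_left (inv_mem x1)).mp (k3 ((h.r_eq (x2.inv_left.mul_left hc)).mp (by
    rw [h.r_mul x2.inv_left hc, h.r_inv x2, x3, inv_mul_cancel])))

theorem exists_G0 (S : LS z Q m r) : ∃ N : Subgroup G, N.Normal ∧ N.index * 25920 = Nat.card Γ ∧ IsSimpleGroup N ∧
    ⁅N, N⁆ = N ∧ 𝒞(N) = ⊥ ∧ ∀ {c}, Commute c z → (c ∈ N ↔ sl (m (r c)) = false) := by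
  obtain ⟨N, h1, ⟨e⟩, h2⟩ := S.main CL.Rec.K4.card
  have h3 : N.index = (LL m).index := by have := h.md.card_eq; omega
  have h4 : Nat.card N = 9196830720 := by
    rw [Nat.card_congr e.toEquiv, ← Nat.card_congr (CL.Std.U62.iso CL.Rec.K4.card).some.toEquiv, CL.Std.U62.card]
  have h5 : IsSimpleGroup N :=
    have := CL.Uni.isSimpleGroup_PSU (q := 2) (n := 6) CL.Rec.K4.card (by norm_num) (by norm_num)
    e.isSimpleGroup
  have h6 : N.Normal ∧ z ∈ N := by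
    rcases h.md.index_LL with h6 | ⟨h6, -⟩
    · rw [index_eq_one.mp (h3.trans h6)]
      exact ⟨inferInstance, mem_top z⟩
    · refine ⟨normal_of_index_eq_two (h3.trans h6), ?_⟩
      have := mul_self_mem_of_index_two (h3.trans h6) (s 1)
      rwa [h.s_sq (by norm_num)] at this
  have := h6.1
  refine ⟨N, h6.1, h1, h5, ?_, h2, fun {c} hc => ⟨fun h7 => ?_, inner_le h S h6.2 hc⟩⟩
  · rcases IsSimpleGroup.eq_bot_or_eq_top_of_normal (commutator N) inferInstance with h7 | h7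
    · have h8 : N ≤ 𝒞(N) := commutator_eq_bot_iff_le_centralizer.mp (by rw [← map_subtype_commutator, h7, Subgroup.map_bot])
      exact (h.ne_one (mem_bot.mp (h2 ▸ h8 h6.2))).elim
    · rw [← map_subtype_commutator, h7, ← MonoidHom.range_eq_map, range_subtype]
  · by_contra h8
    rcases h.md.index_LL with h9 | ⟨h9, -⟩
    · exact h8 (h.md.mem_LL.mp (index_eq_one.mp h9 ▸ mem_top _))
    have h10 := card_dvd_of_le (show centralizer {z} ≤ N from fun d hd => by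
      have hd := mem_centralizer_singleton_iff.mp hd
      cases h10 : sl (m (r d))
      · exact inner_le h S h6.2 hd h10
      · exact (mul_mem_cancel_right h7).mp (inner_le h S h6.2 (Commute.mul_left hd hc) (by
          rw [h.r_mul hd hc, h.md.sl_mul, h10, Bool.eq_true_of_not_eq_false h8]; rfl)))
    rw [h.card_cent, h.md.card_eq, h9, h4] at h10
    exact absurd h10 (by norm_num)

variable {W : Subgroup G} (hW : ∀ y, y ∈ W ↔ ∃ a ∈ l0, ∃ e, y = s a * zb z e) {k : List ℕ → G}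
  (hk : ∀ w ∈ EW, KL z m r s (k w) ∧ m (r (k w)) = tw w)
include hW

theorem le_J (hc : Nat.card W = 32) {E : Subgroup G} (h1 : ∀ a ∈ E, Commute a z) (h2 : ∀ a ∈ E, a * a = 1)
    (h3 : 512 ≤ Nat.card E) (hT : ∀ a ∈ E, r a ∈ TT m) : E ≤ 𝒞(W) := by
  obtain ⟨I, hI, h4⟩ := h.exists_im h1
  have h5 := ab_le h.toXE h.card (S := E ⊓ Q) inf_le_right fun a ha b hb => Md.comm_of_sq h2 ha.1 hb.1
  have h6 : ∀ γ ∈ I, γ * γ = 1 := fun γ hγ => by
    obtain ⟨a, ha, rfl⟩ := (hI γ).mp hγ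
    exact h.r_sq (h1 a ha) (h2 a ha ▸ Q.one_mem)
  have h7 := h.md.rank h6
  obtain ⟨_, h8, h9⟩ := h.md.exists_b0 (E := I) (fun γ hγ => by obtain ⟨a, ha, rfl⟩ := (hI γ).mp hγ; exact hT a ha) h6
    (by nlinarith)
  obtain ⟨y0, h10, rfl⟩ := (hI _).mp h8
  have h11 : E ⊓ Q = W := eq_of_le_of_card_ge (fun p hp => by
    obtain ⟨a, ha, e, he⟩ := h.s_surj hp.2
    have := h.fix (h1 y0 h10) ha (e := e) (he ▸ Md.comm_of_sq h2 h10 hp.1)
    exact (hW _).mpr ⟨a, l0_spec.2.2 a ha (Or.inl (h9 ▸ this)), e, he⟩) (by nlinarith)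
  exact fun y hy => h11 ▸ fun p hp => Md.comm_of_sq h2 hp.1 hy

include hk

theorem W_le : W ≤ 𝒞(W) := fun y hy => by
  obtain ⟨a, ha, e, rfl⟩ := (hW y).mp hy
  obtain ⟨f, hf⟩ := h.k_one (hk [] (by decide)).1 (h.md.eq_one_iff.mp (hk [] (by decide)).2)
  exact (h.mem_J hW hk).mpr ⟨[], by decide, a, ha, f ^^ e, by
    rw [hf, ← one_mul (zb z f), zb_swap (h.sz a), zb_mul h.mul_self, one_mul]; simp⟩

theorem count_cls (x : G) : {y | y ∈ 𝒞(W) ∧ IsConj x y}.ncard = fib (IsConj x) z 1 + 15 * fib (IsConj x) z (s 85) +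
    20 * fib (IsConj x) z (k [85]) + 60 * fib (IsConj x) z (k [85] * s 5) + 160 * fib (IsConj x) z (k [5, 80]) := by
  obtain ⟨ht, h0⟩ := hk [85] (by decide)
  obtain ⟨hb, h0'⟩ := hk [5, 80] (by decide)
  rw [show tw [85] = t0 by decide +kernel] at h0
  rw [show tw [5, 80] = b0 by decide +kernel] at h0'
  refine (h.count hW hk (IsConj x)).trans ((Finset.sum_congr rfl fun ⟨w, a⟩ hp => ?_).trans (sum_cls fun j =>
    [fib (IsConj x) z 1, fib (IsConj x) z (s 85), fib (IsConj x) z (k [85]), fib (IsConj x) z (k [85] * s 5),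
      fib (IsConj x) z (k [5, 80])].getD j 0))
  simp only [Finset.mem_product, List.mem_toFinset] at hp
  obtain ⟨h3, h4⟩ := hk w hp.1
  obtain ⟨h5, h6, h7, h8⟩ := EW_spec.2 w hp.1
  obtain ⟨h9, h10, -⟩ := l0_spec.2.1 a hp.2
  rcases (h8 a hp.2).2 with ⟨e, e1, e2⟩ | ⟨e, e1, e2⟩ | ⟨e, v, hv, e1, e2⟩ | ⟨e, v, hv, e1, e2, e3⟩ | ⟨e, e1, e2⟩ <;>
    simp only [e] <;> refine sim_fib x h.mul_self ?_
  · obtain ⟨f, hf⟩ := h.k_one h3 (h.md.eq_one_iff.mp (h4.trans e1))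
    exact ⟨1, Commute.one_left z, f, by simp [hf, e2, h.s_zero]⟩
  · obtain ⟨f, hf⟩ := h.k_one h3 (h.md.eq_one_iff.mp (h4.trans e1))
    rw [hf, ← (zb_comm (h.sz a) f).eq]
    exact sim_85 h ⟨h9, e2, h10⟩ f
  · exact h.simA0 h3 ht h0 (h5 v hv) (h4.trans e1) e2
  · exact h.simA1 h3 ht h0 (h5 v hv) (h4.trans e1) h9 e3 h10 e2
  · exact h.simB h3 hb h0' (h.md.cj_b0 h4 ⟨h7, h6, e1, e2⟩) h9 (h4 ▸ (h8 a hp.2).1)

omit hW in
/-- the five kinds of inner involutions -/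
theorem kinds {y : G} (hc : Commute y z) (h1 : y * y = 1) (h2 : sl (m (r y)) = false) :
    Sim z y 1 ∨ Sim z y (s 85) ∨ Sim z y (k [85]) ∨ Sim z y (k [85] * s 5) ∨ Sim z y (k [5, 80]) := by
  by_cases h3 : r y = 1
  · obtain ⟨a, ha, e, rfl⟩ := h.s_surj ((h.r_eq hc).mp h3)
    by_cases h4 : a = 0
    · exact Or.inl ⟨1, Commute.one_left z, e, by simp [h4, h.s_zero]⟩
    · exact Or.inr (Or.inl (sim_85 h ⟨ha, h4, zb_inj h.ne_one ((h.sz_sq ha e).symm.trans h1)⟩ e))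
  · exact Or.inr (Or.inr ((h.red (hk [85] (by decide)).1 ((hk [85] (by decide)).2.trans (by decide +kernel))
      (hk [5, 80] (by decide)).1 ((hk [5, 80] (by decide)).2.trans (by decide +kernel)) hc h1 h2 h3).imp_left And.left))

end

theorem fs : FS.{u, v} := fun X Γ _ _ _ z Q m r S => by
  obtain ⟨x, hx, hc, hne, h0⟩ := S.lift (v := 85) (by decide +kernel)
  have h1 : sl (m (r x)) = false := h0 ▸ by decide +kernel
  obtain ⟨s, h⟩ := S.toBM.isolated_or.resolve_left fun e => by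
    obtain ⟨g, rfl⟩ := isConj_iff.mp hx
    exact hne (e.2 g hc.symm)
  have hβ := @h.beta _ _ _ _ _ _ _ _ _ _ _ hx hc hne h1
  obtain ⟨W, hW, h2⟩ := h.exists_pre l0_spec.1 (fun a ha => (l0_spec.2.1 a ha).1) (by decide)
    fun a ha b hb => ((l0_spec.2.1 a ha).2.2 b hb).1
  obtain ⟨k, hk⟩ : ∃ k : List ℕ → X, ∀ w ∈ EW, KL z m r s (k w) ∧ m (r (k w)) = tw w := by
    refine ⟨fun w => Classical.epsilon _, fun w hw => Classical.epsilon_spec (p := fun κ => KL z m r s κ ∧ m (r κ) = tw w) ?_⟩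
    obtain ⟨γ, hγ⟩ := h.md.exists_tw (EW_spec.2 w hw).1
    obtain ⟨κ, hκ, rfl⟩ := h.kl γ
    exact ⟨κ, hκ, hγ⟩
  obtain ⟨f1, f2, f3⟩ := h.fibres hβ hW hk h2 hx hc hne h1
  obtain ⟨N, n1, n2, n3, n4, n5, n6⟩ := exists_G0 h S
  obtain ⟨ht, t1⟩ := hk [85] (by decide)
  obtain ⟨hb, b1⟩ := hk [5, 80] (by decide)
  rw [show tw [85] = t0 by decide +kernel] at t1
  rw [show tw [5, 80] = b0 by decide +kernel] at b1
  have zF := W_le h hW hk (h.z_mem_W hW)
  have zz := h.mul_self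
  have sq : ∀ y ∈ 𝒞(W), y * y = 1 := fun _ => h.J_sq hβ hW hk
  have hF : ∀ w ∈ EW, ∀ a ∈ l0, ∀ e, k w * s a * zb z e ∈ 𝒞(W) := fun w hw a ha e =>
    (h.mem_J hW hk).mpr ⟨w, hw, a, ha, e, rfl⟩
  have cd : Nat.card 𝒞(W) = 512 := h.card_J hW hk
  refine ⟨𝒞(W), N, n1, n2, n3, n4, n5, n6, zF, fun y hy => (n6 (h.J_in hW hk hy).1).mpr (h.J_in hW hk hy).2, sq, cd,
    fun y hy => ?_, ?_, h.fusion hβ hW hk h2, fun y hy y1 yz => ?_, fun P hP hPz hFP E hE hE2 hE3 => ?_, fun y hy y2 => ?_⟩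
  · generalize hK : closure {x | x ∈ 𝒞(W) ∧ IsConj z x} = K
    have k0 : ∀ x ∈ 𝒞(W), IsConj z x → x ∈ K := fun x h1 h2 => hK ▸ subset_closure ⟨h1, h2⟩
    have k1 : ∀ e, zb z e ∈ K := fun e => by cases e; exacts [K.one_mem, k0 z zF (IsConj.refl z)]
    have k2 : ∀ v ∈ [5, 80, 85, 165, 245], ∀ a ∈ FF v, k [v] * s a ∈ K := fun v hv a ha => by
      obtain ⟨g1, g2, g3, g4⟩ := fs_gen.1 v hv
      obtain ⟨e, he⟩ := exists_of_fib (ne_of_eq_of_ne
        (((h.simA0 (hk _ g1).1 ht t1 g2 ((hk _ g1).2.trans g3) ha).fib zz).trans f1) one_ne_zero)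
      exact (mul_mem_cancel_right (k1 e)).mp (k0 _ (hF _ g1 a (g4 a ha) e) he)
    have k3 : ∀ v ∈ [5, 80, 85, 165, 245], k [v] ∈ K := fun v hv => by simpa [h.s_zero] using k2 v hv 0 (by simp [FF])
    obtain ⟨w, hw, a, ha, e, rfl⟩ := (h.mem_J hW hk).mp hy
    obtain ⟨v, hv, h3⟩ := fs_gen.2.1 a ha
    refine mul_mem (mul_mem ?_ ((mul_mem_cancel_left (k3 v hv)).mp (k2 v hv a h3))) (k1 e)
    obtain ⟨v, hv, h4⟩ := fs_gen.2.2 w hw
    obtain ⟨g1, -, g3, -⟩ := fs_gen.1 v hv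
    rcases h4 with h4 | ⟨v', hv', h4⟩
    · obtain ⟨f, hf⟩ := h.k_eq (hk w hw).1 (hk _ g1).1 (h.md.inj (by rw [(hk w hw).2, (hk _ g1).2, h4, g3]))
      exact hf ▸ mul_mem (k3 v hv) (k1 f)
    · obtain ⟨g1', -, g3', -⟩ := fs_gen.1 v' hv'
      obtain ⟨f, hf⟩ := h.k_eq (hk w hw).1 (h.k_mul (hk _ g1).1 (hk _ g1').1) (h.md.inj (by
        rw [h.r_mul (hk _ g1).1.1 (hk _ g1').1.1, h.md.mul, (hk w hw).2, (hk _ g1).2, (hk _ g1').2, h4, g3, g3']))
      exact hf ▸ mul_mem (mul_mem (k3 v hv) (k3 v' hv')) (k1 f)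
  · have : fib (IsConj z) z 1 ≠ 0 := by simp [-isConj_iff, fib, IsConj.refl]
    rw [count_cls h hW hk, f1]
    omega
  · have k0 : ∀ {x x'}, IsConj z x → IsConj z x' → Commute x x' → x ≠ x' → ∃ e, IsConj z (k [85] * zb z e) ∧
        IsConj (x * x') (z * (k [85] * zb z e)) := fun {x x'} h3 h4 h5 h6 => by
      obtain ⟨g, hg⟩ := isConj_iff.mp h3.symm
      have h7 := isConj_conj h4 g
      have h8 : Commute (g * x' * g⁻¹) z := hg ▸ commute_conj h5.symm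
      have h9 : g * x' * g⁻¹ ≠ z := fun e => h6 (by simpa using hg.trans e.symm)
      obtain ⟨v, hv, h10⟩ := S.tr h7 h8 h9
      rcases h.red ht t1 hb b1 h8 (h.dsq h7) (h10 ▸ sl_tv v hv.1 hv.2.2) (h.r_ne h7 h8 h9) with
        ⟨⟨c, c1, e, c2⟩, -⟩ | e | e
      · exact ⟨e, c2 ▸ isConj_conj h7 c, isConj_iff.mpr ⟨c * g, by
          rw [← c2, ← conj_eq_of_commute c1, ← hg]; group⟩⟩
      · exact absurd ((e.fib zz).trans f2) (fib_ne_zero h7)
      · exact absurd ((e.fib zz).trans f3) (fib_ne_zero h7)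
    have k1 : ∀ {x x'}, IsConj z x → IsConj z x' → Commute x x' → x ≠ x' → IsConj y (x * x') →
        fib (IsConj y) z (k [5, 80]) ≠ 0 := fun h3 h4 h5 h6 h7 => by
      obtain ⟨p, p1, p2, p3, p4⟩ := S.lift (v := 5) (by decide +kernel)
      obtain ⟨q, q1, q2, q3, q4⟩ := S.lift (v := 80) (by decide +kernel)
      have h8 := S.cm p1 q1 p2 q2 p3 q3 (h.md.inj (by rw [h.md.mul, h.md.mul, p4, q4]; decide +kernel))
      have h9 : m (r (p * q)) = b0 := by rw [h.r_mul p2 q2, h.md.mul, p4, q4]; decide +kernel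
      obtain ⟨e, e1, e2⟩ := k0 h3 h4 h5 h6
      obtain ⟨f, e3, e4⟩ := k0 p1 q1 h8 fun e => absurd (p4.symm.trans (e ▸ q4)) (by decide +kernel)
      obtain rfl : e = f := by
        by_contra h10
        have h11 : ∀ e, IsConj z (k [85] * zb z e) := by revert e1 e3 h10; cases e <;> cases f <;> simp +contextual [-isConj_iff]
        have h12 := h11 false
        rw [zb_false, mul_one] at h12
        exact (fib_eq_one h12).mp f1 (h11 true)
      have h10 : p * q * (p * q) = 1 := by rw [← pow_two, h8.mul_pow, pow_two, pow_two, h.dsq p1, h.dsq q1, one_mul]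
      have h11 := (h7.trans e2).trans e4.symm
      obtain ⟨κ, hκ, h12, a, ha, h13⟩ := h.decomp (p2.mul_left q2)
      obtain ⟨f, hf⟩ := h.k_sq hκ (by rw [h12, h.r_sq (p2.mul_left q2) (h10 ▸ Q.one_mem)])
      rw [← sim_fib y zz (h.simB hκ hb b1 ⟨1, by simpa [h12] using h9⟩ ha (h.ks_one hκ hf ha (h13 ▸ h10)).1), ← h13]
      exact fib_ne_zero h11
    have k2 : ∀ {y'}, Sim z y y' → ∃ e, IsConj y (y' * zb z e) := fun ⟨c, _, e, he⟩ => ⟨e, isConj_iff.mpr ⟨c, he⟩⟩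
    have k3 : ∀ {y'}, IsConj y' (y' * z) → Sim z y y' → IsConj y y' ∧ IsConj y (y' * z) := fun h3 h4 => by
      obtain ⟨e, he⟩ := k2 h4
      cases e
      · rw [zb_false, mul_one] at he
        exact ⟨he, he.trans h3⟩
      · exact ⟨he.trans h3.symm, he⟩
    rw [count_cls h hW hk]
    rcases kinds h hk (h.J_in hW hk hy).1 (sq y hy) (h.J_in hW hk hy).2 with e | e | e | e | e
    · obtain ⟨f, hf⟩ := k2 e
      cases f
      · exact (y1 (by simpa [zb] using hf)).elim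
      · exact (yz (by simpa [-isConj_iff, zb] using hf.symm)).elim
    · obtain ⟨f, hf⟩ := h.comm_code hc (b := 1) (by norm_num) false
      rw [h0, show ap (tv 85) 1 ^^^ 1 = 85 by decide +kernel, zb_false, mul_one, mul_assoc, mul_assoc, ← mul_assoc (s 1),
        inv_eq_of_mul_eq_one_right (h.dsq hx)] at hf
      have h3 := k3 (isConj_iff.mpr ⟨s 2, h.s_conj (a := 85) (by norm_num) (by norm_num)⟩) e
      have h4 := isConj_conj hx (s 1)
      have := k1 hx h4 (by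
        rw [commute_iff_eq, ← inv_eq_of_mul_eq_one_right (a := x * _) (b := x * _) (by
          rw [hf, h.sz_sq (by norm_num)]; rfl), mul_inv_rev, inv_eq_of_mul_eq_one_right (h.dsq hx),
          inv_eq_of_mul_eq_one_right (h.dsq h4)]) (fun e => by
        rw [← e, h.dsq hx] at hf
        exact absurd (h.s_eq (a := 0) (b := 85) (e := false) (f := f) (by norm_num) (by norm_num)
          (by rw [← hf, h.s_zero, zb_false, one_mul])).1 (by norm_num)) (by rw [hf]; cases f; exacts [(mul_one (s 85)).symm ▸ h3.1, h3.2])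
      omega
    · obtain ⟨f, hf⟩ := k2 e
      have h3 := ht.1.mul_left (zb_comm (Commute.refl z) f).symm
      have h4 : IsConj z (k [85] * zb z f * z) := by
        obtain ⟨f', hf'⟩ := exists_of_fib (P := IsConj z) (y := k [85] * zb z f) (ne_of_eq_of_ne
          ((Sim.fib zz ⟨1, Commute.one_left z, f, by simp⟩).trans f1) one_ne_zero)
        cases f'
        · exact (yz ((mul_one (k [85] * _) ▸ hf').trans hf.symm)).elim
        · exact hf'
      have := k1 h4 (IsConj.refl z) (h3.mul_left (Commute.refl z)) (fun e => y1 (by simpa [mul_eq_right.mp e] using hf))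
        (by rwa [mul_assoc, zz, mul_one])
      omega
    · have e1 := ht.2 34 (by norm_num)
      rw [t1, show ap t0 34 = 34 by decide +kernel, show sl t0 = false by decide +kernel, Bool.false_and, zb_false,
        mul_one, mul_inv_eq_iff_eq_mul] at e1
      have h3 := k3 (isConj_iff.mpr ⟨s 34, by
        rw [← mul_assoc, ← e1, mul_assoc _ (s 34), mul_assoc _ (_ * _), h.s_conj (by norm_num) (by norm_num), mul_assoc]
        rfl⟩) e
      have : fib (IsConj y) z (k [85] * s 5) = 2 := by simp [-isConj_iff, fib, h3.1, h3.2]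
      omega
    · have := fib_ne_zero (z := z) (IsConj.refl y)
      rw [sim_fib y zz e] at this
      omega
  · obtain ⟨I, hI, h3⟩ := h.exists_im hPz
    obtain ⟨n, hn⟩ := hP.exists_card_eq
    obtain ⟨γ, hγ⟩ := h.md.syl (P := I) (IsPGroup.of_card_dvd_pow (n := n) (hn ▸ Dvd.intro_left _ h3.symm))
    obtain ⟨c, hc, rfl⟩ := h.r_surj γ
    have k0 : ∀ E ≤ P, (∀ a ∈ E, a * a = 1) → 512 ≤ Nat.card E → cj c E ≤ 𝒞(W) := fun E hE h4 h5 =>
      le_J h hW h2 (by rintro _ ⟨a, ha, rfl⟩; exact (hc.mul_left (hPz a (hE ha))).mul_left hc.inv_left)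
        (by rintro _ ⟨a, ha, rfl⟩; rw [← map_mul, h4 a ha, map_one]) (by rwa [card_cj]) (by
          rintro _ ⟨a, ha, rfl⟩
          exact h.r_conj hc (hPz a (hE ha)) ▸ hγ _ ((hI _).mpr ⟨a, hE ha, rfl⟩))
    have h4 := k0 E hE hE2 hE3
    rw [← eq_of_le_of_card_ge (k0 _ hFP sq cd.ge) (card_cj c _).ge] at h4
    exact (map_le_map_iff_of_injective (MulAut.conj c).injective).mp h4
  · obtain ⟨_, ⟨he, -⟩, h3⟩ := S.exists_fix (IsConj.refl z) y2 (S.near_z (isConj_iff.mpr ⟨y, rfl⟩))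
    obtain ⟨g, hg⟩ := isConj_iff.mp he.symm
    have h4 : Commute (g * y * g⁻¹) z := hg ▸ commute_conj h3
    have k0 : ∀ {y'}, y' ∈ 𝒞(W) → Sim z (g * y * g⁻¹) y' → ∃ g, g * y * g⁻¹ ∈ 𝒞(W) := fun h5 ⟨c, _, e, h6⟩ =>
      ⟨c * g, by
        rw [show c * g * y * (c * g)⁻¹ = c * (g * y * g⁻¹) * c⁻¹ by group, h6]
        exact mul_mem h5 (by cases e; exacts [one_mem _, zF])⟩
    rcases kinds h hk h4 (by rw [conj_mul, y2]; simp) ((n6 h4).mp (n1.conj_mem y hy g)) with e | e | e | e | e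
    · exact k0 (one_mem _) e
    · exact k0 (W_le h hW hk ((hW _).mpr ⟨85, by decide, false, (mul_one _).symm⟩)) e
    · exact k0 (by simpa [h.s_zero, zb] using hF [85] (by decide) 0 (by decide) false) e
    · exact k0 (by simpa [zb] using hF [85] (by decide) 5 (by decide) false) e
    · exact k0 (by simpa [h.s_zero, zb] using hF [5, 80] (by decide) 0 (by decide) false) e

end CL.Fc
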