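/-
Centralisers `(2^k × 2^{1+8}).U₄(2)`, part FA1: the case of `Fi₂₂`.
-/
import Cfsg.Agent.Spor.FcB
import Cfsg.Agent.Spor.FcFS
import Cfsg.Agent.S1713
import Cfsg.Agent.Transfer.Mackey

set_option autoImplicit false

namespace CL.Fc

open Subgroup CL.Even CL.Grp CL.U6 CL.MT Cfsg
open scoped commutatorElement

universe u v

namespace A1

section
variable {G Γ : Type*} [Group G] [Group Γ]

/-- The transfer of an involution with a large centraliser. -/
theorem ext_transfer [Finite G] {S R : Subgroup G} (hS : Odd S.index) {A : Type*} [CommGroup A] (ϕ : S →* A) {y : G}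
    (hy : y * y = 1) (hR : IsPGroup 2 R) (hyR : y ∈ R) (hc : R ≤ centralizer {y}) {b : A} (hb : b * b = 1)
    (h : ∀ (g : G) (h : ∀ r ∈ R, g⁻¹ * r * g ∈ S), ϕ ⟨_, h y hyR⟩ = b) : MonoidHom.transfer ϕ y = b := by
  classical
  have h1 : MonoidHom.transfer ϕ (⟨y, hyR⟩ : R) = b ^ S.index := by
    refine CL.Transfer.transfer_eq_pow_of_doubleCoset ϕ R ⟨y, hyR⟩ _ fun g => ?_
    by_cases ht : S.comap (CL.Transfer.conjInto R g) = ⊤
    · have h2 : ∀ r ∈ R, g⁻¹ * r * g ∈ S := fun r hr =>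
        CL.Transfer.mem_comap_conjInto.mp (ht.ge (mem_top (⟨r, hr⟩ : R)))
      rw [CL.Transfer.transfer_of_eq_top _ ht, CL.Transfer.extOne_pull, ht, index_top, pow_one,
        CL.Transfer.conjInto_apply, CL.Transfer.extOne_of_mem ϕ (h2 y hyR)]
      exact h g h2
    · obtain ⟨k, hk⟩ := hR.index (S.comap (CL.Transfer.conjInto R g))
      obtain ⟨m, hm⟩ : 2 ∣ (S.comap (CL.Transfer.conjInto R g)).index := by
        rw [hk]
        refine dvd_pow_self 2 fun h0 => ht ?_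
        rwa [h0, pow_zero, index_eq_one] at hk
      rw [MonoidHom.transfer_eq_pow _ _ fun k g₀ _ => ?_]
      · conv_rhs => rw [hm, pow_mul, pow_two, hb, one_pow]
        rw [← map_one (CL.Transfer.pull ϕ (CL.Transfer.conjInto R g))]
        congr 1
        ext
        simp [hm, pow_mul, _root_.sq, hy]
      · have h3 : Commute g₀ (⟨y, hyR⟩ : R) := Subtype.ext (mem_centralizer_singleton_iff.1 (hc g₀.2))
        rw [mul_assoc, ← (h3.pow_right k).eq, inv_mul_cancel_left]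
  obtain ⟨n, hn⟩ := hS
  rwa [hn, pow_succ, pow_mul, pow_two, hb, one_pow, one_mul] at h1

theorem LL_perfect {m : Γ → ℕ} (h : Md m) : ⁅LL m, LL m⁆ = LL m := by
  have := h.simple
  have := h.finite
  rcases IsSimpleGroup.eq_bot_or_eq_top_of_normal (commutator (LL m)) inferInstance with h7 | h7
  · let : CommGroup (LL m) := { (inferInstance : Group _) with
      mul_comm := fun a b => commutatorElement_eq_one_iff_mul_comm.1
        (mem_bot.1 (h7 ▸ commutator_mem_commutator (mem_top a) (mem_top b))) }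
    have := IsSimpleGroup.prime_card (α := LL m)
    rw [h.card] at this
    exact absurd this (by norm_num)
  · rw [← map_subtype_commutator, h7, ← MonoidHom.range_eq_map, range_subtype]

theorem exists_BB_true : ∃ a < 256, ∃ b < 256, BB a b = true := by decide +kernel

/-- The inner part of the centraliser lies in its commutator subgroup. -/
theorem inner_comm [Finite G] {z : G} {Q : Subgroup G} {m : Γ → ℕ} {r : G → Γ} {s : ℕ → G} (h : HM z Q m r s) {c : G}
    (hc : Commute c z) (h1 : sl (m (r c)) = false) : c ∈ ⁅centralizer ({z} : Set G), centralizer ({z} : Set G)⁆ := by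
  set N := ⁅centralizer ({z} : Set G), centralizer ({z} : Set G)⁆
  have k0 : ∀ {x y}, Commute x z → Commute y z → x * y * x⁻¹ * y⁻¹ ∈ N := fun hx hy =>
    commutator_mem_commutator (mem_cent_singleton.2 hx) (mem_cent_singleton.2 hy)
  have hz : z ∈ N := by
    obtain ⟨a, ha, b, hb, e⟩ := exists_BB_true
    have := k0 (h.sz b) (h.sz a)
    rwa [h.s_conj ha hb, e, zb_true, (h.sz a).eq, mul_inv_cancel_right] at this
  have k1 : ∀ e, zb z e ∈ N := fun e => by cases e; exacts [N.one_mem, hz]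
  have k2 : ∀ v, Iso v → s v ∈ N := fun v hv => by
    obtain ⟨γ, x4⟩ := h.md.tvx v hv
    obtain ⟨x, x2, rfl⟩ := h.r_surj γ
    obtain ⟨b, hb, b1, b2⟩ := (tv_mem v hv.1 hv).2.2.2
    obtain ⟨f, hf⟩ := h.comm_code x2 hb false
    rw [x4, ap_tv hv.1 hb, tvf_eq, b1, b2, cond_true, cond_false, Nat.xor_zero, Nat.xor_comm b,
      Nat.xor_xor_cancel_right] at hf
    exact (mul_mem_cancel_right (k1 f)).mp (hf ▸ k0 x2 ((h.sz b).mul_left (Commute.one_left z)))
  have k3 : Q ≤ N := fun y hy => by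
    obtain ⟨a, ha, e, rfl⟩ := h.s_surj hy
    refine mul_mem ?_ (k1 e)
    rcases fs_iso a ha with rfl | h2 | ⟨b, hb, h2, h3⟩
    · exact h.s_zero ▸ N.one_mem
    · exact k2 a h2
    · exact (mul_mem_cancel_left (k2 b h2)).mp (h.s_mul hb ha ▸ mul_mem (k2 _ h3) (k1 _))
  let R : Subgroup Γ :=
    { carrier := {γ | ∃ x ∈ N, Commute x z ∧ r x = γ}
      one_mem' := ⟨1, N.one_mem, Commute.one_left z, h.r_one⟩
      mul_mem' := by
        rintro _ _ ⟨x, x1, x2, rfl⟩ ⟨y, y1, y2, rfl⟩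
        exact ⟨x * y, mul_mem x1 y1, x2.mul_left y2, h.r_mul x2 y2⟩
      inv_mem' := by
        rintro _ ⟨x, x1, x2, rfl⟩
        exact ⟨x⁻¹, inv_mem x1, x2.inv_left, h.r_inv x2⟩ }
  have k4 : LL m ≤ R := (LL_perfect h.md).ge.trans (commutator_le.2 fun a _ b _ => by
    obtain ⟨x, x2, rfl⟩ := h.r_surj a
    obtain ⟨y, y2, rfl⟩ := h.r_surj b
    have h3 := (x2.mul_left y2).mul_left x2.inv_left
    exact ⟨_, k0 x2 y2, h3.mul_left y2.inv_left, by
      rw [h.r_mul h3 y2.inv_left, h.r_conj x2 y2, h.r_inv y2, commutatorElement_def]⟩)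
  obtain ⟨x, x1, x2, x3⟩ := k4 (h.md.gen _ h1)
  exact (mul_mem_cancel_left (inv_mem x1)).mp (k3 ((h.r_eq (x2.inv_left.mul_left hc)).mp (by
    rw [h.r_mul x2.inv_left hc, h.r_inv x2, x3, inv_mul_cancel])))

theorem exists_HM [Finite G] {z : G} {Q : Subgroup G} {m : Γ → ℕ} {r : G → Γ} (S : LS z Q m r) :
    ∃ s, HM z Q m r s := S.toBM.isolated_or.resolve_left fun h => by
  obtain ⟨x, x1, x2, x3, -⟩ := S.lift (v := 85) (by decide +kernel)
  obtain ⟨g, rfl⟩ := isConj_iff.1 x1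
  exact x3 (h.2 g x2.symm)

theorem comm_le_of_index {N : Subgroup G} (h : N.index = 1 ∨ N.index = 2) (x y : G) : ⁅x, y⁆ ∈ N := by
  rcases h with h | h
  · rw [index_eq_one.1 h]; exact mem_top _
  · simp only [commutatorElement_def, mul_mem_iff_of_index_two h, inv_mem_iff]; tauto

end

variable {G : Type u} {Γ : Type v} [Group G] [Group Γ] [Finite G] (S : FM G Γ)

/-- The data obtained from `C(a) / ⟨a⟩ = U₆(2)`. -/
structure Dt : Prop where
  dec : ∀ c, Commute c S.a → ∃ l ∈ ⁅centralizer ({S.a} : Set G), centralizer ({S.a} : Set G)⁆, c = l ∨ c = l * S.a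
  dec0 : ∀ c ∈ 𝒞(S.Z), ∃ l ∈ ⁅𝒞(S.Z), 𝒞(S.Z)⁆, c = l ∨ c = l * S.a
  card : Nat.card (PSU 6 CL.Rec.K4 2) ≤
    Nat.card (⁅centralizer ({S.a} : Set G), centralizer ({S.a} : Set G)⁆ : Subgroup G)
  iso : S.a ∈ ⁅centralizer ({S.a} : Set G), centralizer ({S.a} : Set G)⁆ → Spor.IsoFi22 G

omit [Finite G] in
theorem mem_cZ {c : G} : c ∈ 𝒞(S.Z) ↔ Commute c S.z ∧ Commute c S.a :=
  ⟨fun h => ⟨(h _ S.zZ).symm, (h _ S.aZ).symm⟩, fun h e he => (S.comm_Z h.1 h.2 e he).symm⟩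

omit [Finite G] in
theorem ord_a : orderOf S.a = 2 := orderOf_eq_prime (by rw [pow_two, S.aa]) S.a1

theorem dt {h0 : G} (h1 : h0 ∈ S.H) (h2 : ¬ Commute h0 S.a) (hI : ¬ Isl S.z S.a) : Dt S := by
  set C := centralizer ({S.a} : Set G) with hC
  have aC : S.a ∈ C := mem_cent_singleton.2 rfl
  have zC : S.z ∈ C := mem_cent_singleton.2 S.a_z.symm
  have cen : (zpowers S.a).subgroupOf C ≤ center C := fun x hx => mem_center_iff.2 fun y => Subtype.ext (by
    obtain ⟨i, e⟩ := mem_subgroupOf.1 hx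
    rw [coe_mul, coe_mul, ← e]
    exact ((show Commute (y : G) S.a from mem_cent_singleton.1 y.2).zpow_right i).eq)
  have : ((zpowers S.a).subgroupOf C).Normal := ⟨fun x hx g => by
    rwa [mem_center_iff.1 (cen hx) g, mul_inv_cancel_right]⟩
  let φ := QuotientGroup.mk' ((zpowers S.a).subgroupOf C)
  have hs : Function.Surjective φ := QuotientGroup.mk'_surjective _
  have ker : ∀ d : C, φ d = 1 ↔ (d : G) = 1 ∨ (d : G) = S.a := fun d =>
    (QuotientGroup.eq_one_iff _).trans (mem_subgroupOf.trans (mem_zpowers_two (ord_a S)))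
  have eqv : ∀ l c : C, φ l = φ c → (c : G) = l ∨ (c : G) = l * S.a := fun l c e =>
    ((ker (l⁻¹ * c)).1 (by rw [map_mul, map_inv, e, inv_mul_cancel])).imp (fun e => (inv_mul_eq_one.1 e).symm)
      inv_mul_eq_iff_eq_mul.1
  have hz1 : φ ⟨S.z, zC⟩ ≠ 1 := fun e => ((ker _).1 e).elim S.z1 S.az.symm
  obtain ⟨K, r, k1, k2, -, k4⟩ := S.big.exists_BM φ hs zC
    (fun d e => ((ker d).1 e).elim (· ▸ S.Z.one_mem) (· ▸ S.aZ)) hz1
    (fun e he => by
      rcases S.mem_Z.1 he with h | h | h | h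
      · exact Or.inl ((ker _).2 (Or.inl h))
      · exact Or.inl ((ker _).2 (Or.inr h))
      · exact Or.inr (congrArg φ (Subtype.ext h))
      · exact Or.inr (by
          rw [show e = ⟨S.a, aC⟩ * ⟨S.z, zC⟩ from Subtype.ext h, map_mul, (ker _).2 (Or.inr rfl), one_mul]))
    (fun c _ => S.hH) (fun j hj => ⟨1, S.Z.one_mem, by rw [mul_one]; exact mem_cent_singleton.2 (S.Zc S.aZ hj).symm⟩)
    (fun γ hγ => let ⟨c, c1, c2, c3⟩ := S.exists_lift hγ; ⟨c, c1, mem_cent_singleton.2 (c3 _ S.aZ), c2⟩)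
  have L : LS _ _ _ r := k4 (by
    by_contra! h
    exact hI fun g hg => h g (mem_cent_singleton.2 hg))
  have lin : ∀ γ : K, sl ((S.m ∘ K.subtype) γ) = false := fun γ => by
    obtain ⟨c, c1, c2, e⟩ := (k1 γ).1 γ.2
    change sl (S.m γ) = false
    rw [← e]
    by_contra h3
    have h4 : ¬ sl (S.m (S.r h0)) = false := fun e => h2 (S.inner h1 e _ S.aZ)
    have := S.inner (mul_mem c1 h1) (by
      rw [S.r_mul c1 h1, S.md.sl_mul, Bool.eq_true_of_not_eq_false h3, Bool.eq_true_of_not_eq_false h4]; rfl) _ S.aZ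
    exact h2 (by simpa using (show Commute c S.a from mem_cent_singleton.1 c2).inv_left.mul_left this)
  have cK := L.md.card_lin lin
  obtain ⟨s, hm⟩ := exists_HM L
  obtain ⟨N, -, n1, n2, n3, n4, -⟩ := exists_G0 hm L
  obtain rfl : N = ⊤ := index_eq_one.1 (by omega)
  obtain ⟨N, n5, ⟨e⟩, -⟩ := L.main CL.Rec.K4.card
  obtain rfl : N = ⊤ := index_eq_one.1 (by omega)
  have surjL : ∀ c : C, ∃ l ∈ commutator C, φ l = φ c := fun c => by
    have : φ c ∈ (commutator C).map φ := by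
      rw [_root_.commutator_def, map_commutator, map_top_of_surjective _ hs, n3]; exact mem_top _
    exact this
  refine ⟨fun c hc => ?_, fun c hc => ?_, ?_, fun ha => ?_⟩
  · obtain ⟨l, hl, e⟩ := surjL ⟨c, mem_cent_singleton.2 hc⟩
    exact ⟨l, map_subtype_commutator C ▸ mem_map_of_mem _ hl, eqv _ _ e⟩
  · obtain ⟨c1, c2⟩ := (mem_cZ S).1 hc
    have h3 := inner_comm hm (c := φ ⟨c, mem_cent_singleton.2 c2⟩)
      (Commute.map (show Commute (⟨c, _⟩ : C) ⟨S.z, zC⟩ from Subtype.ext c1) φ) (lin _)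
    have h4 : ∀ x ∈ centralizer {φ ⟨S.z, zC⟩}, ∃ y : C, (y : G) ∈ 𝒞(S.Z) ∧ φ y = x := fun x hx => by
      obtain ⟨y, rfl⟩ := hs x
      refine ⟨y, (mem_cZ S).2 ⟨mul_inv_eq_iff_eq_mul.1 (S.big.nz y ?_), mem_cent_singleton.1 y.2⟩, rfl⟩
      rcases eqv ⟨S.z, zC⟩ (y * ⟨S.z, zC⟩ * y⁻¹) (by
        rw [map_mul, map_mul, map_inv, mem_cent_singleton.1 hx, mul_inv_cancel_right]) with e | e
      · rw [show (y : G) * S.z * (y : G)⁻¹ = S.z from e]; exact S.zZ
      · rw [show (y : G) * S.z * (y : G)⁻¹ = S.z * S.a from e]; exact mul_mem S.zZ S.aZ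
    obtain ⟨l, hl, e⟩ : _ ∈ ((⁅𝒞(S.Z), 𝒞(S.Z)⁆ : Subgroup G).subgroupOf C).map φ := (commutator_le.2 fun x hx y hy => by
      obtain ⟨x, x1, rfl⟩ := h4 x hx
      obtain ⟨y, y1, rfl⟩ := h4 y hy
      exact ⟨⁅x, y⁆, commutator_mem_commutator x1 y1, map_commutatorElement φ x y⟩) h3
    exact ⟨l, hl, eqv _ _ e⟩
  · rw [← Nat.card_congr e.toEquiv, card_top, ← map_subtype_commutator, card_map_of_injective C.subtype_injective]
    exact Nat.card_le_card_of_surjective (φ.comp (commutator C).subtype) fun x => by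
      obtain ⟨c, rfl⟩ := hs x
      obtain ⟨l, hl, e⟩ := surjL c
      exact ⟨⟨l, hl⟩, e⟩
  · have ha' : (⟨S.a, aC⟩ : C) ∈ commutator C := by
      rw [← map_subtype_commutator] at ha
      obtain ⟨l, hl, e⟩ := ha
      exact (Subtype.ext e : l = ⟨S.a, aC⟩) ▸ hl
    have hc : center C = (zpowers S.a).subgroupOf C := le_antisymm (fun x hx => by
      refine (QuotientGroup.eq_one_iff x).1 (mem_bot.1 (n4.le fun y _ => ?_))
      obtain ⟨y, rfl⟩ := hs y
      exact (map_mul φ y x).symm.trans ((congrArg φ (mem_center_iff.1 hx y)).trans (map_mul φ x y))) cen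
    refine Cfsg.Agent.S1713.result S.a (ord_a S) ⟨⟨eq_top_iff.2 fun c _ => ?_⟩,
      ((QuotientGroup.quotientMulEquivOfEq hc).trans topEquiv.symm).isSimpleGroup⟩ CL.Rec.K4 CL.Rec.K4.card
      (topEquiv.symm.trans e) ⟨h0, ?_, fun e => h2 (mul_inv_eq_iff_eq_mul.1 e)⟩
    · obtain ⟨l, hl, e⟩ := surjL c
      rcases eqv _ _ e with e | e
      · exact (Subtype.ext e : c = l) ▸ hl
      · exact (Subtype.ext e : c = l * ⟨S.a, aC⟩) ▸ mul_mem hl ha'
    · rw [(S.conj_a (S.Hz h1)).resolve_left h2]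
      exact mul_mem aC zC

/-- The first transfer. -/
theorem mem_comm (D : Dt S) (ha : S.a ∈ ⁅centralizer ({S.a} : Set G), centralizer ({S.a} : Set G)⁆) :
    S.a ∈ ⁅𝒞(S.Z), 𝒞(S.Z)⁆ := by
  set C := centralizer ({S.a} : Set G) with hC
  have aC : S.a ∈ C := mem_cent_singleton.2 rfl
  have hle : 𝒞(S.Z) ≤ C := cent_le_cent_singleton S.aZ
  have ho : Odd (𝒞(S.Z).subgroupOf C).index := by
    have := S.big.odd_relIndex (D := C) fun j hj => mem_cent_singleton.2 (S.Zc S.aZ hj).symm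
    rwa [relIndex, show (centralizer {S.z}).subgroupOf C = 𝒞(S.Z).subgroupOf C from Subgroup.ext fun c =>
      ⟨fun h => (mem_cZ S).2 ⟨mem_cent_singleton.1 h, mem_cent_singleton.1 c.2⟩,
        fun h => mem_cent_singleton.2 ((mem_cZ S).1 h).1⟩] at this
  have h1 := MonoidHom.transfer_eq_pow (Abelianization.of (G := 𝒞(S.Z).subgroupOf C)) ⟨S.a, aC⟩ fun k g _ => by
    have : Commute g (⟨S.a, aC⟩ : C) := Subtype.ext (mem_cent_singleton.1 g.2)
    rw [mul_assoc, ← (this.pow_right k).eq, inv_mul_cancel_left]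
  rw [← map_subtype_commutator] at ha
  obtain ⟨l, hl, e⟩ := ha
  obtain rfl : l = ⟨S.a, aC⟩ := Subtype.ext e
  rw [Abelianization.commutator_subset_ker _ hl, eq_comm, ← MonoidHom.mem_ker, Abelianization.ker_of] at h1
  have h2 := mem_map_of_mem (C.subtype.comp (𝒞(S.Z).subgroupOf C).subtype) h1
  rw [_root_.commutator_def, map_commutator, ← map_map, ← MonoidHom.range_eq_map, range_subtype,
    map_subgroupOf_eq_of_le hle] at h2
  obtain ⟨n, hn⟩ := ho
  have h3 : S.a ^ (𝒞(S.Z).subgroupOf C).index = S.a := by rw [hn, pow_succ, pow_mul, pow_two, S.aa, one_pow, one_mul]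
  exact h3 ▸ h2

omit [Finite G] in
theorem J_le : S.J ≤ 𝒞(S.Z) := fun _ hj _ he => S.Zc he hj

theorem z_mem : S.z ∈ ⁅𝒞(S.Z), 𝒞(S.Z)⁆ := by
  obtain ⟨j, hj, e⟩ := S.exists_root
  obtain ⟨k, hk, h1⟩ : ∃ k ∈ S.J, ¬ Commute j k := by
    by_contra! h
    exact S.z1 (e.symm.trans (S.Zsq (S.mem_Z_of_comm hj h)))
  have := commutator_mem_commutator (J_le S hj) (J_le S hk)
  rwa [commutatorElement_def, (S.conj_J hj hk).resolve_left h1, (S.Jz hk).eq, mul_inv_cancel_right] at this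

/-- The second transfer. -/
theorem not_mem_comm {h0 : G} (h1 : h0 ∈ S.H) (h2 : ¬ Commute h0 S.a) (D : Dt S) (ha : S.a ∉ ⁅𝒞(S.Z), 𝒞(S.Z)⁆) :
    S.a ∉ commutator G := by
  set H := centralizer ({S.z} : Set G) with hH
  set H1 := ⁅𝒞(S.Z), 𝒞(S.Z)⁆ with hH1
  have nZ : H ≤ 𝒩(S.Z) := fun c hc => mem_normalizer_fintype fun e => S.big.nZ (mem_cent_singleton.1 hc)
  have n1 : H ≤ 𝒩(H1) := le_norm_commutator (le_norm_cent nZ) (le_norm_cent nZ)
  have : (H1.subgroupOf H).Normal := ⟨fun x hx g => conj_mem (H := H1) (n1 g.2) hx⟩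
  let ψ := QuotientGroup.mk' (H1.subgroupOf H)
  have ker : ∀ d : H, ψ d = 1 ↔ (d : G) ∈ H1 := fun d => QuotientGroup.eq_one_iff _
  have aH : S.a ∈ H := mem_cent_singleton.2 S.a_z
  have zH : S.z ∈ H := mem_cent_singleton.2 rfl
  have hle : H1 ≤ H := (commutator_le_self _).trans (cent_le_cent_singleton S.zZ)
  have cja : ∀ c : H, ψ c * ψ ⟨S.a, aH⟩ * (ψ c)⁻¹ = ψ ⟨S.a, aH⟩ := fun c => by
    rw [← map_inv, ← map_mul, ← map_mul]
    rcases S.conj_a (mem_cent_singleton.1 c.2) with e | e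
    · exact congrArg ψ (Subtype.ext (conj_eq_of_commute e))
    · rw [show c * ⟨S.a, aH⟩ * c⁻¹ = ⟨S.a, aH⟩ * ⟨S.z, zH⟩ from Subtype.ext e, map_mul, (ker ⟨S.z, zH⟩).2 (z_mem S),
        mul_one]
  have k0 : ∀ c : H, Commute (c : G) S.a → ∀ d, Commute (ψ c) (ψ d) := fun c hc d => by
    obtain ⟨l, hl, e | e⟩ := D.dec0 c ((mem_cZ S).2 ⟨mem_cent_singleton.1 c.2, hc⟩)
    · rw [(ker c).2 (e ▸ hl)]; exact Commute.one_left _
    · rw [show c = ⟨l, hle hl⟩ * ⟨S.a, aH⟩ from Subtype.ext e, map_mul, (ker ⟨l, hle hl⟩).2 hl, one_mul]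
      exact (mul_inv_eq_iff_eq_mul.1 (cja d)).symm
  have hc : ∀ c d : H, Commute (ψ c) (ψ d) := fun c d => by
    rcases S.conj_a (mem_cent_singleton.1 c.2) with e | e
    · exact k0 c e d
    rcases S.conj_a (mem_cent_singleton.1 d.2) with e' | e'
    · exact (k0 d e' c).symm
    have := k0 (c⁻¹ * d) (mul_inv_eq_iff_eq_mul.1 (by
      change (c : G)⁻¹ * d * S.a * ((c : G)⁻¹ * d)⁻¹ = S.a
      calc _ = (c : G)⁻¹ * (d * S.a * (d : G)⁻¹) * c := by group
        _ = _ := by rw [e', ← e]; group)) c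
    simpa using ((Commute.refl (ψ c)).mul_left this).symm
  let : CommGroup (H ⧸ H1.subgroupOf H) :=
    { (inferInstance : Group _) with
      mul_comm := fun x y => by
        obtain ⟨x, rfl⟩ := QuotientGroup.mk'_surjective _ x
        obtain ⟨y, rfl⟩ := QuotientGroup.mk'_surjective _ y
        exact hc x y }
  have h3 := ext_transfer S.big.odd_index ψ S.aa S.isPGroup (S.ZJ S.aZ)
    (fun j hj => mem_cent_singleton.2 (S.Zc S.aZ hj).symm) (b := ψ ⟨S.a, aH⟩)
    (by rw [← map_mul]; exact (congrArg ψ (Subtype.ext S.aa)).trans (map_one ψ)) fun g hg => by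
      have h4 : g⁻¹ ∈ H := inv_mem (mem_cent_singleton.2 (mul_inv_eq_iff_eq_mul.1 (S.big.eq_of_cJ fun j hj => by
        simpa [mul_assoc] using commute_conj (g := g) (show Commute _ S.z from mem_cent_singleton.1 (hg j hj)).symm)))
      rw [← cja ⟨_, h4⟩, ← map_inv, ← map_mul, ← map_mul]
      exact congrArg ψ (Subtype.ext (by simp))
  exact fun h => ha ((ker _).1 (h3.symm.trans (Abelianization.commutator_subset_ker _ h)))

theorem mem_L {h0 : G} (h1 : h0 ∈ S.H) (h2 : ¬ Commute h0 S.a) (hI : ¬ Isl S.z S.a) (D : Dt S) :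
    S.a ∈ ⁅centralizer ({S.a} : Set G), centralizer ({S.a} : Set G)⁆ := by
  by_contra ha
  set C := centralizer ({S.a} : Set G) with hC
  have hle : 𝒞(S.Z) ≤ C := cent_le_cent_singleton S.aZ
  have ha2 := not_mem_comm S h1 h2 D fun h => ha (commutator_mono hle hle h)
  have cD : ∀ K : Subgroup G, ⁅K, K⁆ ≤ commutator G := fun K => commutator_mono le_top le_top
  have zD := cD _ (z_mem S)
  have k0 : ∀ c ∈ 𝒞(S.Z), ∃ e ∈ S.Z, c * e ∈ commutator G := fun c hc => by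
    obtain ⟨l, hl, rfl | rfl⟩ := D.dec0 c hc
    · exact ⟨1, S.Z.one_mem, by rw [mul_one]; exact cD _ hl⟩
    · exact ⟨_, S.aZ, by rw [mul_assoc, S.aa, mul_one]; exact cD _ hl⟩
  obtain ⟨K, r, -, -, -, k4⟩ := S.big.exists_BM (MonoidHom.id (commutator G)) Function.surjective_id zD
    (fun d e => (congrArg Subtype.val e : (d : G) = 1) ▸ S.Z.one_mem) (fun e => S.z1 (congrArg Subtype.val e))
    (fun e he => by
      rcases S.mem_Z.1 he with h | h | h | h
      · exact Or.inl (Subtype.ext h)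
      · exact absurd (h ▸ e.2) ha2
      · exact Or.inr (Subtype.ext h)
      · exact absurd ((mul_mem_cancel_right zD).1 (h ▸ e.2)) ha2)
    (fun c _ => S.hH) (fun j hj => k0 j (J_le S hj)) fun γ hγ => by
      obtain ⟨c, c1, rfl, c3⟩ := S.exists_lift hγ
      obtain ⟨e, he, h3⟩ := k0 c fun e he => (c3 e he).symm
      exact ⟨_, mul_mem c1 (S.ZH he), h3, by rw [S.r_mul c1 (S.ZH he), S.r_J (S.ZJ he), mul_one]⟩
  have L : LS _ _ _ r := k4 (by
    by_contra! h
    refine hI fun g hg => ?_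
    obtain ⟨l, hl, rfl | rfl⟩ := D.dec g hg
    · exact h _ (cD _ hl)
    · rw [show l * S.a * S.z * (l * S.a)⁻¹ = l * (S.a * S.z * S.a⁻¹) * l⁻¹ by group, conj_eq_of_commute S.a_z]
      exact h _ (cD _ hl))
  obtain ⟨N, n1, ⟨e⟩, n2⟩ := L.main CL.Rec.K4.card
  have n3 : N.index = 1 ∨ N.index = 2 := by
    have := L.md.card_eq
    rcases L.md.index_LL with h | ⟨h, -⟩ <;> omega
  have p1 : ⁅C, C⁆ ≤ ⁅commutator G, commutator G⁆ := commutator_le.2 fun x hx y hy => by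
    have k : ∀ x ∈ C, ∃ l ∈ ⁅C, C⁆, ∀ y ∈ C, ⁅x, y⁆ = ⁅l, y⁆ ∧ ⁅y, x⁆ = ⁅y, l⁆ := fun x hx => by
      obtain ⟨l, hl, rfl | rfl⟩ := D.dec x (mem_cent_singleton.1 hx)
      · exact ⟨_, hl, fun _ _ => ⟨rfl, rfl⟩⟩
      · refine ⟨l, hl, fun y hy => ?_⟩
        have : ⁅l * S.a, y⁆ = ⁅l, y⁆ := by
          rw [commutatorElement_def, commutatorElement_def, mul_assoc l, ← mem_cent_singleton.1 hy]; group
        exact ⟨this, by rw [← commutatorElement_inv, this, commutatorElement_inv]⟩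
    obtain ⟨l, hl, e⟩ := k x hx
    obtain ⟨l', hl', e'⟩ := k y hy
    rw [(e y hy).1, (e' l (commutator_le_self _ hl)).2]
    exact commutator_mem_commutator (cD _ hl) (cD _ hl')
  have p2 : ⁅commutator G, commutator G⁆ ≤ N.map (commutator G).subtype := commutator_le.2 fun x hx y hy =>
    ⟨⁅⟨x, hx⟩, ⟨y, hy⟩⁆, comm_le_of_index n3 _ _, rfl⟩
  have p3 : ⁅C, C⁆ = N.map (commutator G).subtype := eq_of_le_of_card_ge (p1.trans p2) (by
    rw [card_map_of_injective (commutator G).subtype_injective, Nat.card_congr e.toEquiv]; exact D.card)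
  have p4 : (⁅C, C⁆ : Subgroup G).Normal := le_antisymm p1 (p2.trans p3.ge) ▸ inferInstance
  refine S.z1 (congrArg Subtype.val (mem_bot.1 (n2.le (show (⟨S.z, zD⟩ : commutator G) ∈ _ from fun y hy =>
    Subtype.ext ?_))))
  have y1 : (y : G) ∈ ⁅C, C⁆ := p3.ge ⟨y, hy, rfl⟩
  have y2 : Commute (y : G) S.a := mem_cent_singleton.1 (commutator_le_self _ y1)
  have y3 := commute_conj (g := h0)
    (show Commute _ S.a from mem_cent_singleton.1 (commutator_le_self _ (p4.conj_mem' _ y1 h0)))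
  rw [(S.conj_a (S.Hz h1)).resolve_left h2] at y3
  simpa [mul_assoc] using (y2.inv_right.mul_right (by simpa [mul_assoc] using y3 : Commute (y : G) (S.a * S.z))).eq

end A1

theorem fa1 : FA1.{u, v} := by
  rintro G Γ _ _ _ S ⟨h0, h1, h2⟩ hI
  have D := A1.dt S h1 h2 hI
  have ha := A1.mem_L S h1 h2 hI D
  exact ⟨D.iso ha, A1.mem_comm S D ha⟩

end CL.Fc
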