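/-
Centralisers `(2^k × 2^{1+8}).U₄(2)`: the case of `2.U₆(2).2` (job FC-FA2, helper23).
-/
import Cfsg.Agent.Spor.FcB

set_option autoImplicit false

namespace CL.Fc

open Subgroup CL.Even CL.Grp CL.U6 CL.MT Cfsg

universe u v

variable {G : Type u} {Γ : Type v} [Group G] [Group Γ]

/-- Burnside's fusion lemma in the centraliser of a Sylow subgroup containing `J`. -/
theorem GM.Big.burnside [Finite G] {S : GM G Γ} (h : S.Big) {T : Subgroup G} (hT : IsSylowIn 2 T ⊤)
    (hz : T ≤ centralizer {S.z}) (hJ : S.J ≤ T) {p q : G} (hp : p ∈ 𝒞(T)) (hq : q ∈ 𝒞(T)) (hc : IsConj p q) :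
    ∃ n, Commute n S.z ∧ n * p * n⁻¹ = q := by
  obtain ⟨g, rfl⟩ := isConj_iff.mp hc
  let P : Sylow 2 G := hT.isPGroup.toSylow (by simpa [relIndex_top_right] using hT.2.2)
  obtain ⟨n, hn, e⟩ := P.conj_eq_normalizer_conj_of_mem_centralizer p g⁻¹ hp (by rw [inv_inv]; exact hq)
  have hn' : n ∈ 𝒩(T) := hn
  refine ⟨n⁻¹, mul_inv_eq_iff_eq_mul.mp (h.eq_of_cJ fun j hj => ?_), by simpa using e.symm⟩
  have h1 : Commute S.z (n * j * n⁻¹) := (mem_cent_singleton.mp (hz (conj_mem hn' (hJ hj)))).symm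
  simpa [mul_assoc] using commute_conj (g := n⁻¹) h1

namespace FM

variable [Finite G] (S : FM G Γ)

omit [Finite G] in
theorem ord_a : orderOf S.a = 2 := orderOf_eq_prime (by rw [pow_two, S.aa]) S.a1

omit [Finite G] in
theorem normal_a : ((zpowers S.a).subgroupOf (centralizer {S.a})).Normal := ⟨fun x hx c => by
  have h : Commute (c : G) x := by
    obtain ⟨k, hk⟩ := mem_zpowers_iff.mp (mem_subgroupOf.mp hx)
    rw [← hk]; exact Commute.zpow_right (mem_cent_singleton.mp c.2) k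
  rw [mem_subgroupOf, coe_mul, coe_mul, coe_inv, conj_eq_of_commute h]
  exact hx⟩

/-- the section `C(a) / ⟨a⟩` -/
theorem exists_sec {X : Type u} [Group X] (φ : centralizer ({S.a} : Set G) →* X) (hs : Function.Surjective φ)
    (hk : ∀ c, φ c = 1 ↔ (c : G) ∈ zpowers S.a) (hz : S.z ∈ centralizer ({S.a} : Set G)) :
    φ ⟨S.z, hz⟩ ≠ 1 ∧ ∃ (K : Subgroup Γ) (r : X → K),
      (∀ d : centralizer ({S.a} : Set G), (d : G) ∈ S.H → (r (φ d) : Γ) = S.r d) ∧
      ((∃ g ∈ centralizer ({S.a} : Set G), Commute S.z (g * S.z * g⁻¹) ∧ g * S.z * g⁻¹ ≠ S.z) →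
        LS (φ ⟨S.z, hz⟩) ((S.J.subgroupOf _).map φ) (S.m ∘ K.subtype) r) := by
  have hz1 : φ ⟨S.z, hz⟩ ≠ 1 := fun e => by
    rcases (mem_zpowers_two S.ord_a).mp ((hk _).mp e) with e | e
    exacts [S.z1 e, S.az e.symm]
  obtain ⟨K, r, -, h2, -, h4⟩ := S.big.exists_BM φ hs hz (fun d hd => zpowers_le.mpr S.aZ ((hk d).mp hd)) hz1
    (fun e he => by
      rcases S.mem_Z.mp he with h | h | h | h
      · exact Or.inl ((hk _).mpr (h ▸ one_mem _))
      · exact Or.inl ((hk _).mpr (by rw [h]; exact mem_zpowers _))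
      · exact Or.inr (congrArg φ (Subtype.ext h))
      · have h1 : e = ⟨S.a, mem_cent_singleton.mpr (Commute.refl _)⟩ * ⟨S.z, hz⟩ := Subtype.ext h
        exact Or.inr (by rw [h1, map_mul, (hk _).mpr (mem_zpowers _), one_mul]))
    (fun c _ hc => S.hH hc)
    (fun j hj => ⟨1, one_mem _, by rw [mul_one]; exact mem_cent_singleton.mpr (S.Zc S.aZ hj).symm⟩)
    (fun γ hγ => by
      obtain ⟨c, hc, e, h⟩ := S.exists_lift hγ
      exact ⟨c, hc, mem_cent_singleton.mpr (h _ S.aZ), e⟩)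
  exact ⟨hz1, K, r, h2, h4⟩

/-- conjugates of `z` under `C(a)` that commute with `z` are inner -/
theorem sl_conj {g : G} (hg : Commute g S.a) (hc : Commute (g * S.z * g⁻¹) S.z) (hne : g * S.z * g⁻¹ ≠ S.z) :
    sl (S.m (S.r (g * S.z * g⁻¹))) = false := by
  have := S.normal_a
  have hz : S.z ∈ centralizer ({S.a} : Set G) := mem_cent_singleton.mpr S.a_z.symm
  have hg' : g ∈ centralizer ({S.a} : Set G) := mem_cent_singleton.mpr hg
  let φ := QuotientGroup.mk' ((zpowers S.a).subgroupOf (centralizer {S.a}))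
  have hk : ∀ c, φ c = 1 ↔ (c : G) ∈ zpowers S.a := fun c => QuotientGroup.eq_one_iff c
  obtain ⟨-, K, r, h2, h4⟩ := S.exists_sec φ (QuotientGroup.mk'_surjective _) hk hz
  have L := h4 ⟨g, hg', hc.symm, hne⟩
  let x : centralizer ({S.a} : Set G) := ⟨g, hg'⟩ * ⟨S.z, hz⟩ * ⟨g, hg'⟩⁻¹
  have hx : Tv (S.m ∘ K.subtype) (r (φ x)) := L.tr (x := φ x) (isConj_iff.mpr ⟨φ ⟨g, hg'⟩, by simp only [x, map_mul, map_inv]⟩)
    (Commute.map (show Commute x ⟨S.z, hz⟩ from Subtype.ext hc) φ) fun e => hne (S.big.nz g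
      ((mul_mem_cancel_right (inv_mem S.zZ)).mp (zpowers_le.mpr S.aZ ((hk (x * ⟨S.z, hz⟩⁻¹)).mp (by simp [e])))))
  have := hx.sl
  rwa [Function.comp, subtype_apply, h2 x (S.hH hc)] at this

end FM

theorem fa2 (h : VSN.{u, v}) : FA2.{u, v} := by
  intro G Γ _ _ _ S hc hI g
  have := S.normal_a
  have hz : S.z ∈ centralizer ({S.a} : Set G) := mem_cent_singleton.mpr S.a_z.symm
  let φ := QuotientGroup.mk' ((zpowers S.a).subgroupOf (centralizer {S.a}))
  have hk : ∀ c, φ c = 1 ↔ (c : G) ∈ zpowers S.a := fun c => QuotientGroup.eq_one_iff c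
  obtain ⟨-, K, r, h2, h4⟩ := S.exists_sec φ (QuotientGroup.mk'_surjective _) hk hz
  have L := h4 (by
    by_contra! h5
    exact hI fun g h6 h7 => h5 g (mem_cent_singleton.mpr h6) h7)
  have hV : ∀ {e}, e ∈ zpowers S.a ↔ e = 1 ∨ e = S.a := mem_zpowers_two S.ord_a
  have hca : ∀ {c}, Commute c S.z → Commute c S.a := fun h1 => hc _ (S.hH h1)
  have nz : ∀ e ∈ S.Z, IsConj S.z e → e = S.z := fun e he h1 => by
    obtain ⟨k, rfl⟩ := isConj_iff.mp h1
    exact S.big.nz k he
  have hN := h G _ K S.z S.a (zpowers S.a) hz φ _ _ r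
    { zz := S.zz
      sq := fun e he => S.Zsq (zpowers_le.mpr S.aZ he)
      card := by rw [Nat.card_zpowers, S.ord_a]; norm_num
      yV := mem_zpowers _
      y1 := S.a1
      Vz := fun e he => S.Zc (zpowers_le.mpr S.aZ he) S.zJ
      conjV := fun e he h1 => ⟨1, Commute.one_left _, by simpa using ((hV.mp he).resolve_left h1).symm⟩
      nV := fun {c e} h1 he => by
        rcases hV.mp he with rfl | rfl
        · simp
        · rw [conj_eq_of_commute (hca h1)]; exact he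
      surj := QuotientGroup.mk'_surjective _
      ker := hk
      ls := L
      nz := fun e he h1 => mul_eq_left.mp (nz _ (mul_mem S.zZ (zpowers_le.mpr S.aZ he)) h1)
      ny := fun e he h1 => by
        rcases hV.mp he with rfl | rfl
        · exact S.az (nz _ S.aZ (by simpa using h1.symm))
        · obtain ⟨T, t1, t2, t3, -⟩ := S.big.exists_syl (D := ⊤) (U := ⊥) le_top IsPGroup.of_bot bot_le
          obtain ⟨n, n1, n2⟩ := S.big.burnside t1 t2 t3 (p := S.a) (q := S.z * S.a)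
            (fun t ht => (hca (mem_cent_singleton.mp (t2 ht))).eq)
            (fun t ht => (Commute.mul_right (mem_cent_singleton.mp (t2 ht)) (hca (mem_cent_singleton.mp (t2 ht)))).eq) h1
          rw [conj_eq_of_commute (hca n1)] at n2
          exact S.z1 (mul_eq_right.mp n2.symm)
      odd := by
        rw [inf_eq_left.mpr fun c h1 => mem_cent_singleton.mpr (hca (mem_cent_singleton.mp h1))]
        exact S.big.odd_index
      root := by
        obtain ⟨j, hj, e⟩ := S.exists_root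
        exact ⟨⟨j, mem_cent_singleton.mpr (S.Zc S.aZ hj).symm⟩, ⟨_, hj, rfl⟩, e⟩
      hu := ⟨S.z, Or.inl rfl, fun g h1 _ => hca h1⟩
      hw := fun g h1 h3 => or_iff_not_imp_left.mpr fun h5 => ⟨mem_cent_singleton.mpr (hca h3), by
        have := S.swap.sl_conj (g := g) (by rw [← S.a_z.eq] at h1; exact h1) h3 h5
        rw [Function.comp, subtype_apply, h2 _ (S.hH h3)]
        exact this⟩
      core := fun g h1 h3 => S.big.core h1 h3 }
  rcases hV.mp (hN.conj_mem _ (mem_zpowers _) g) with e | e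
  · exact absurd (conj_eq_one_iff.mp e) S.a1
  · exact mul_inv_eq_iff_eq_mul.mp e

end CL.Fc
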