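/-
Centralisers `(2 × 2^{1+8}).U₄(2)` (project of helper9): the case that `z` is isolated in `C(a)` and `C(a z)`
(helper68).
-/
import Cfsg.Agent.Spor.FcB

set_option autoImplicit false

namespace CL.Fc

open Subgroup CL.Even CL.Grp CL.U6 CL.MT Cfsg

universe u v

variable {G : Type u} {Γ : Type v} [Group G] [Group Γ]

namespace FM

theorem fb_mul (S : FM G Γ) {c d : G} (hc : Commute c S.z) (hd : Commute d S.z) (h1 : ¬ Commute c S.a)
    (h2 : ¬ Commute d S.a) : Commute (c * d) S.a := by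
  have e1 := (S.conj_a hc).resolve_left h1
  have e2 := (S.conj_a hd).resolve_left h2
  refine mul_inv_eq_iff_eq_mul.mp ?_
  calc c * d * S.a * (c * d)⁻¹ = c * (d * S.a * d⁻¹) * c⁻¹ := by group
    _ = c * S.a * c⁻¹ * (c * S.z * c⁻¹) := by rw [e2]; group
    _ = S.a := by rw [e1, conj_eq_of_commute hc, mul_assoc, S.zz, mul_one]

theorem fb_sq (S : FM G Γ) {c : G} (hc : Commute c S.z) : Commute (c * c) S.a := by
  by_cases h : Commute c S.a
  · exact h.mul_left h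
  · exact S.fb_mul hc hc h h

/-- Step 1. -/
theorem fb_one (S : FM G Γ) {g : G} (h1 : g * S.z * g⁻¹ ≠ S.z) (h2 : Commute (g * S.z * g⁻¹) S.z) :
    ∃ g, g * S.z * g⁻¹ ≠ S.z ∧ Commute (g * S.z * g⁻¹) S.z ∧ Commute (g * S.z * g⁻¹) S.a := by
  by_contra! H
  have HT : ∀ k, k * S.z * k⁻¹ ≠ (S.conj g).z → Commute (k * S.z * k⁻¹) (S.conj g).z →
      ¬ Commute (k * S.z * k⁻¹) (S.conj g).a := fun k e1 e2 e3 => by
    have e4 : g⁻¹ * k * S.z * (g⁻¹ * k)⁻¹ = g⁻¹ * (k * S.z * k⁻¹) * g⁻¹⁻¹ := by group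
    refine H (g⁻¹ * k) (fun e => e1 ?_) ?_ ?_
    · change _ = g * S.z * g⁻¹
      conv_rhs => rw [← e]
      group
    · rw [e4]
      simpa [FM.conj, GM.conj, mul_assoc] using commute_conj (g := g⁻¹) e2
    · rw [e4]
      simpa [FM.conj, GM.conj, mul_assoc] using commute_conj (g := g⁻¹) e3
  have hz : ¬ Commute S.z (S.conj g).a := by
    have := HT 1
    rw [one_mul, inv_one, mul_one] at this
    exact this h1.symm h2.symm
  have hx : (S.conj g).z = g * S.z * g⁻¹ := rfl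
  have xx := (S.conj g).zz
  have xa := (S.conj_a h2).resolve_left (H g h1 h2)
  have hk : ∀ c, ∃ k, k * S.z * k⁻¹ = c * (S.conj g).z * c⁻¹ := fun c => ⟨c * g, by rw [hx]; group⟩
  rw [← hx] at h1 h2 xa
  generalize S.conj g = T at *
  have xi : T.z⁻¹ = T.z := inv_eq_of_mul_eq_one_right xx
  have xH := S.hH h2
  have xJ : T.z ∉ S.J := fun e => S.z1 (by
    rw [conj_eq_of_commute (S.Zc S.aZ e).symm] at xa
    exact left_eq_mul.mp xa)
  obtain ⟨j, hj, hu⟩ : ∃ j ∈ S.J, j⁻¹ * (T.z * j * T.z⁻¹) ∉ S.Z := by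
    by_contra! e
    exact xJ (S.faith xH e)
  have uJ : j⁻¹ * (T.z * j * T.z⁻¹) ∈ S.J := mul_mem (inv_mem hj) (S.norm xH hj)
  have e1 : T.z * (j⁻¹ * (T.z * j * T.z⁻¹)) * T.z⁻¹ = (j⁻¹ * (T.z * j * T.z⁻¹))⁻¹ := by
    calc _ = T.z * j⁻¹ * T.z * j * (T.z * T.z)⁻¹ := by group
      _ = T.z * j⁻¹ * T.z⁻¹ * j := by rw [xx, xi, inv_one, mul_one]
      _ = _ := by group
  have e2 : j⁻¹ * (T.z * j * T.z⁻¹) * T.z = j⁻¹ * T.z * j⁻¹⁻¹ := by group
  generalize j⁻¹ * (T.z * j * T.z⁻¹) = w at *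
  have wz := S.Jz uJ
  have wa := (S.Zc S.aZ uJ).symm
  rcases S.sq uJ with e | e
  · have wx : Commute T.z w := mul_inv_eq_iff_eq_mul.mp (e1.trans (inv_eq_of_mul_eq_one_right e))
    have e3 : S.a * (w * T.z) * S.a⁻¹ = w * T.z * S.z := by
      have : S.a * T.z = T.z * (S.a * S.z) := by
        rw [← xa, ← mul_assoc, ← mul_assoc, xx, one_mul, xi]
      rw [← mul_assoc, ← wa.eq, mul_assoc w, this, S.a_z.eq]
      group
    obtain ⟨k, hk1⟩ := hk j⁻¹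
    rw [← e2] at hk1
    have c1 : Commute (w * T.z) T.z := wx.symm.mul_left (Commute.refl _)
    have c2 : Commute (w * T.z * S.z) T.z := c1.mul_left h2.symm
    have n1 := HT k (by rw [hk1]; exact fun e => hu (by rw [mul_eq_right.mp e]; exact one_mem _)) (hk1 ▸ c1)
    have hk2 : S.a * k * S.z * (S.a * k)⁻¹ = w * T.z * S.z := by rw [← e3, ← hk1]; group
    have n2 := HT (S.a * k) (by
      rw [hk2, mul_assoc, h2.eq, ← mul_assoc]
      exact fun e => hu (by rw [eq_inv_of_mul_eq_one_left (mul_eq_right.mp e)]; exact inv_mem S.zZ)) (hk2 ▸ c2)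
    rw [hk1] at n1
    rw [hk2] at n2
    refine hz ?_
    have := T.fb_mul c1 c2 n1 n2
    rwa [← mul_assoc, ← pow_two, wx.symm.mul_pow, pow_two, pow_two, e, xx, one_mul, one_mul] at this
  · have c1 : Commute (w * S.a) T.z := by
      refine (mul_inv_eq_iff_eq_mul.mp ?_ : Commute T.z (w * S.a)).symm
      rw [← conj_mul, e1, xa, S.a_z.eq, ← e]
      group
    have := T.fb_sq c1
    rw [← pow_two, wa.mul_pow, pow_two, pow_two, e, S.aa, mul_one] at this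
    exact hz this

/-- The symmetric hypotheses on a pair of structures. -/
structure Pr (S T : FM G Γ) : Prop where
  hS : ∀ y ∈ S.Z, y ≠ 1 → ∀ c, Commute c y → Commute c S.z
  hT : ∀ y ∈ T.Z, y ≠ 1 → ∀ c, Commute c y → Commute c T.z
  hx : T.z ∉ S.Z
  hz : S.z ∉ T.Z

namespace Pr

variable [Finite G] {S T : FM G Γ} (h : Pr S T)
include h

omit [Finite G] in
theorem symm : Pr T S := ⟨h.hT, h.hS, h.hz, h.hx⟩

theorem ti {y : G} (h1 : y ∈ S.Z) (h2 : y ∈ T.Z) : y = 1 := by_contra fun e =>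
  h.hx (S.big.cJ fun _ hj => (h.hT y h2 e _ (S.Zc h1 hj).symm).symm)

theorem nc {y : G} (h1 : y ∈ T.Z) (h2 : y ∈ S.J) : y = 1 ∨ y = T.z := or_iff_not_imp_left.mpr fun e => by
  have h3 := h.hT y h1 e
  have h4 := h.ti ((S.mf6 h2 (T.Zsq h1) (S.big.cZ fun f hf => (h3 f (S.Zc hf h2)).symm) fun j _ =>
    h3 j).resolve_left h.hx) (mul_mem T.zZ h1)
  rw [eq_inv_of_mul_eq_one_right h4, T.Zinv T.zZ]

theorem aJ : T.a ∉ S.J := fun e => (h.nc T.aZ e).elim T.a1 T.az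

theorem azJ : T.a * T.z ∉ S.J := fun e => (h.nc T.azZ e).elim T.az1 T.azz

/-- Step 3. -/
theorem comm (h1 : Commute T.z S.z) (h2 : Commute T.z S.a) : ∀ e ∈ S.Z, ∀ f ∈ T.Z, Commute e f := by
  have h3 : Commute T.a S.z := by
    by_cases e1 : Commute S.a T.a
    · exact h.hS _ S.aZ S.a1 _ e1.symm
    by_cases e2 : Commute S.z T.a
    · exact e2.symm
    exact h.hS _ S.azZ S.az1 _ (T.fb_mul h2.symm h1.symm e1 e2).symm
  intro e he f hf
  have h4 := h.ti (y := f * e * f⁻¹ * e⁻¹)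
    (mul_mem (S.big.nZ (T.comm_Z h1.symm h3.symm f hf).symm he) (inv_mem he))
    (by simpa [mul_assoc] using mul_mem hf (T.big.nZ (S.comm_Z h1 h2 e he).symm (inv_mem hf)))
  exact (commutatorElement_eq_one_iff_mul_comm.mp h4).symm

omit [Finite G] in
theorem Y_le : S.J ⊓ centralizer {T.a} ≤ T.H := fun _ hy =>
  T.hH (h.hT _ T.aZ T.a1 _ (mem_cent_singleton.mp hy.2))

theorem card_Y (d : MD.{v}) : Nat.card (S.J ⊓ centralizer {T.a} : Subgroup G) ≤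
    32 * Nat.card (S.J ⊓ centralizer {T.a} ⊓ T.J : Subgroup G) := by
  obtain ⟨I, h1, h2⟩ := T.exists_im h.Y_le
  have k : ∀ γ ∈ I, γ * γ = 1 ∨ γ * γ = T.r S.z := fun γ hγ => by
    obtain ⟨y, hy, rfl⟩ := (h1 γ).mp hγ
    rw [← T.r_mul (h.Y_le hy) (h.Y_le hy)]
    exact (S.sq hy.1).imp (fun e => by rw [e, T.r_one]) fun e => by rw [e]
  have k2 : ∀ γ ∈ I, γ * γ * (γ * γ) = 1 := fun γ hγ => by
    obtain ⟨y, hy, rfl⟩ := (h1 γ).mp hγ
    have h3 := h.Y_le (mul_mem hy hy)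
    rw [← T.r_mul (h.Y_le hy) (h.Y_le hy), ← T.r_mul h3 h3]
    rcases S.sq hy.1 with e | e <;> simp [e, S.zz, T.r_one]
  have h3 := (d Γ T.m T.md).1 I (T.r S.z) (fun γ => ⟨2, Subtype.ext (by
    simpa [pow_succ, mul_assoc] using k2 γ γ.2)⟩) k
  rw [h2, mul_comm]
  exact Nat.mul_le_mul_right _ h3

omit [Finite G] in
theorem A_cent (h1 : S.z ∉ T.J) : S.J ⊓ centralizer {T.a} ⊓ T.J ≤ 𝒞(S.J ⊓ centralizer {T.a}) := fun _ hb _ hy =>
  ((S.conj_J hy.1 hb.1.1).resolve_right fun e =>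
    h1 ((T.J.mul_mem_cancel_left hb.2).mp (e ▸ T.norm (h.Y_le hy) hb.2))).eq

theorem A_inf (h1 : S.z ∉ T.J) : S.J ⊓ centralizer {T.a} ⊓ T.J ⊓ S.Z = ⊥ := eq_bot_iff.mpr fun _ he =>
  mem_bot.mpr ((h.symm.nc he.2 he.1.2).resolve_right fun e => h1 (e ▸ he.1.2))

/-- Step 5. -/
theorem xJ (d : MD.{v}) (m2 : MF2.{u, v}) (m5 : MF5.{u, v}) : T.z ∉ S.J := fun hx => by
  have h1 := h.comm (S.Jz hx) (S.Zc S.aZ hx).symm
  have tH : T.a ∈ S.H := S.hH (h1 _ S.zZ _ T.aZ).symm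
  have tx := h.hT _ T.aZ T.a1
  have ti : T.a⁻¹ = T.a := T.Zinv T.aZ
  have hZ : S.Z ≤ S.J ⊓ centralizer {T.a} := fun e he => ⟨S.ZJ he, mem_cent_singleton.mpr (h1 e he _ T.aZ)⟩
  have h2 : 256 ≤ Nat.card (S.J ⊓ centralizer {T.a} : Subgroup G) := by
    have e1 := card_inf_mul_relIndex (centralizer {T.z}) S.J
    have e2 := card_inf_mul_relIndex (centralizer {T.a}) (centralizer {T.z} ⊓ S.J)
    have e3 : (centralizer {T.z}).relIndex S.J ≤ 2 := relIndex_cent_le (l := [T.z, T.z * S.z]) fun k hk => by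
      rcases S.conj_J hk hx with e | e <;> simp [conj_eq_of_commute, e]
    have e4 : (centralizer {T.a}).relIndex (centralizer {T.z} ⊓ S.J) ≤ 2 :=
      relIndex_cent_le (l := [T.a, T.a * T.z]) fun k hk => by
        rcases T.conj_a (mem_cent_singleton.mp hk.1) with e | e <;> simp [conj_eq_of_commute, e]
    have e5 : Nat.card (centralizer {T.a} ⊓ (centralizer {T.z} ⊓ S.J) : Subgroup G) ≤
        Nat.card (S.J ⊓ centralizer {T.a} : Subgroup G) := card_le_of_le fun y hy => ⟨hy.2.2, hy.1⟩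
    rw [S.card_J, S.card_Z] at e1
    nlinarith [Nat.mul_le_mul e5 e4]
  have h3 : S.z ∈ T.J := by_contra fun e => by
    have e1 := (S.mf7 hZ inf_le_left inf_le_left (h.A_cent e) (h.A_inf e)).1
    have e2 := h.card_Y d
    rw [S.card_Z] at e1
    nlinarith
  refine h.hx (m5 G Γ S.toGM T.a T.z tH T.aa (m2 G Γ S.toGM T.a tH h.aJ T.aa (fun j hj => ?_)
    (by rw [S.card_Z]; omega)) (by rw [S.card_Z]; omega) hx fun c _ => tx c)
  have h4 : j * T.a * j⁻¹ * T.a ∈ S.J := by simpa [mul_assoc, ti] using mul_mem hj (S.norm tH (inv_mem hj))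
  refine (S.sq h4).resolve_right fun e => h.hz ?_
  have h5 : j * T.a * j⁻¹ * T.a * T.a * (j * T.a * j⁻¹ * T.a)⁻¹ = S.z * T.a := by
    rw [← e, mul_inv_rev, mul_inv_rev, mul_inv_rev, ti, inv_inv, mul_assoc _ T.a T.a, T.aa, mul_one,
      mul_assoc _ _ T.a, mul_assoc _ T.a T.a, T.aa]
    group
  have h6 := T.big.nc h.hT (k := j * T.a * j⁻¹ * T.a) T.aZ T.az (h5 ▸ mul_mem h3 (T.ZJ T.aZ))
  rw [h5] at h6
  exact (mul_mem_cancel_right T.aZ).mp h6

/-- Step 6. -/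
theorem false (d : MD.{v}) (m1 : MF1.{u, v}) (m2 : MF2.{u, v}) (m4 : MF4.{u, v}) (m5 : MF5.{u, v})
    (h1 : Commute T.z S.z) (h2 : Commute T.z S.a) : False := by
  have h3 := h.comm h1 h2
  have hx := h.xJ d m2 m5
  have hz := h.symm.xJ d m2 m5
  have tH : T.a ∈ S.H := S.hH (h3 _ S.zZ _ T.aZ).symm
  have xH : T.z ∈ S.H := S.hH h1
  have tx := h.hT _ T.aZ T.a1
  have hZ : S.Z ≤ S.J ⊓ centralizer {T.a} := fun e he => ⟨S.ZJ he, mem_cent_singleton.mpr (h3 e he _ T.aZ)⟩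
  have k1 : ∀ j ∈ S.J, Commute j T.z → Commute j T.a := fun j hj hc => (T.conj_a hc).resolve_right fun e => hx (by
    have := mul_mem (S.norm (inv_mem tH) hj) (inv_mem hj)
    rwa [show T.a⁻¹ * j * T.a⁻¹⁻¹ * j⁻¹ = T.a⁻¹ * (j * T.a * j⁻¹) by group, e, inv_mul_cancel_left] at this)
  have k2 : ∀ j ∈ S.J, Commute j (T.a * T.z) → Commute j T.a := fun j hj hc =>
    k1 j hj (h.hT _ T.azZ T.az1 _ hc)
  have k3 : ∀ w ∈ [T.a, T.z, T.a * T.z], w ∉ S.J ∧ ∀ j ∈ S.J, Commute j w ↔ j ∈ S.J ⊓ centralizer {T.a} := by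
    simp only [List.mem_cons, List.not_mem_nil, or_false, mem_inf, mem_cent_singleton]
    rintro w (rfl | rfl | rfl)
    · exact ⟨h.aJ, fun j hj => ⟨fun e => ⟨hj, e⟩, fun e => e.2⟩⟩
    · exact ⟨hx, fun j hj => ⟨fun e => ⟨hj, k1 j hj e⟩, fun e => tx j e.2⟩⟩
    · exact ⟨h.azJ, fun j hj => ⟨fun e => ⟨hj, k2 j hj e⟩, fun e => Commute.mul_right e.2 (tx j e.2)⟩⟩
  by_cases h4 : 128 ≤ Nat.card (S.J ⊓ centralizer {T.a} : Subgroup G)
  · exact S.fin m2 tH xH T.aa T.zz T.a_z k3 hZ inf_le_left inf_le_left (h.A_cent hz) (h.A_inf hz)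
      (by rw [S.card_Z]; omega) (by rw [S.card_Z]; exact h.card_Y d)
  have k4 : ∀ w ∈ [T.a, T.z, T.a * T.z], w ∈ S.H → w * w = 1 → ¬ Tv S.m (S.r w) := fun w hw e1 e2 e3 => by
    have e4 := m1 G Γ S.toGM w e1 e2 e3
    rw [S.card_Z] at e4
    exact h4 (e4.trans (card_le_of_le fun j hj => ((k3 w hw).2 j hj.1).mp (mem_cent_singleton.mp hj.2)))
  have h5 : Nat.card (S.J ⊓ centralizer {T.a} : Subgroup G) ≤ 64 := by
    obtain ⟨n, hn⟩ := (S.isPGroup.to_inf_left (K := centralizer {T.a})).exists_card_eq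
    rw [hn] at h4 ⊢
    exact Nat.pow_le_pow_right two_pos (show n ≤ 6 from Nat.le_of_lt_succ
      ((Nat.pow_lt_pow_iff_right (a := 2) (by norm_num)).mp (show 2 ^ n < 2 ^ 7 by omega)))
  obtain ⟨c, -, e1, e2⟩ := m4 G Γ S.toGM T.a T.z tH xH T.aa T.zz T.a_z (fun e he => (h3 e he _ T.aZ).symm)
    (fun e he => (h3 e he _ T.zZ).symm) h.aJ hx h.azJ (k4 _ (by simp) tH T.aa) (k4 _ (by simp) xH T.zz)
    (k4 _ (by simp) (mul_mem tH xH) (T.Zsq T.azZ)) (fun j hj => ⟨tx j, k1 j hj⟩) k2 (by rw [S.card_Z]; omega)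
  exact e2 (tx c e1)

end Pr

end FM

theorem fb (d : MD.{v}) (m1 : MF1.{u, v}) (m2 : MF2.{u, v}) (m4 : MF4.{u, v}) (m5 : MF5.{u, v}) : FB.{u, v} := by
  intro G Γ _ _ _ S i1 i2
  refine ⟨S.ord, fun g hg => by_contra fun h0 => ?_⟩
  obtain ⟨g, h1, h2, h3⟩ := S.fb_one h0 hg.symm
  have hB : ∀ y ∈ S.Z, y ≠ 1 → ∀ c, Commute c y → Commute c S.z := fun y hy e c hc => by
    rcases S.mem_Z.mp hy with rfl | rfl | rfl | rfl
    · exact absurd rfl e
    · exact S.big.cent_le hy i1 (fun _ e _ => S.hH e) h1 h2 h3 hc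
    · exact hc
    · exact S.big.cent_le hy i2 (fun _ e _ => S.hH e) h1 h2 (h3.mul_right h2) hc
  refine FM.Pr.false (S := S) (T := S.conj g) ⟨hB, GM.Big.hB_conj hB g, fun e => h1 (S.big.nz g e), fun e => h1 ?_⟩
    d m1 m2 m4 m5 h2 h3
  have := S.big.nz g⁻¹ (by simpa using mem_cj.mp e)
  conv_lhs => rw [← this]
  group

end CL.Fc
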