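/-
Centralisers `(2^k × 2^{1+8}).U₄(2)` (job FC-MF, helper41): the statements `MF1`, `MF2`, `MF4`, `MF5` about the action
of involutions on `J`.
-/
import Cfsg.Agent.Spor.FcMD

set_option autoImplicit false

namespace CL.Fc

open Subgroup CL.Even CL.Grp CL.U6 CL.MT Cfsg

universe u v

/-- The splitting argument in an elementary abelian group. -/
theorem mf_split {A : Type*} [CommGroup A] (h2 : ∀ x : A, x * x = 1) {d d' i y : A →* A} {Z : Set A}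
    (h3 : ∀ x, d (d (d x)) = x) (hy : ∀ x, y x = i (i x)) (hd : ∀ x, d' (y x) = y (d x))
    (hc : ∀ x, d (d' x) = d' (d x)) (hZ : ∀ e ∈ Z, d e = e ∧ i e = e) (hf : ∀ f, d f = f → ∃ e ∈ Z, i f = f * e)
    {x e : A} (he : e ∈ Z) (hx : y x = x * e) : e = 1 := by
  have y1 : ∀ f, d f = f → y f = f := fun f h => by
    obtain ⟨e, he, h1⟩ := hf f h
    rw [hy, h1, map_mul, h1, (hZ e he).2, mul_assoc, h2, mul_one]
  have d1 : ∀ f, d f = f → d' f = f := fun f h => by rw [← y1 f h, hd, h]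
  let σ : A →* A := MonoidHom.id A * d * d.comp d
  let σ' : A →* A := MonoidHom.id A * d' * d'.comp d'
  have e1 : ∀ x, σ x = x * d x * d (d x) := fun _ => rfl
  have e2 : ∀ x, σ' x = x * d' x * d' (d' x) := fun _ => rfl
  have s1 : ∀ x, d (σ x) = σ x := fun x => by rw [e1, map_mul, map_mul, h3, mul_comm, mul_assoc]
  have s2 : ∀ f, d f = f → σ f = f := fun f h => by rw [e1, h, h, h2, one_mul]
  have s3 : ∀ f, d f = f → σ' f = f := fun f h => by rw [e2, d1 f h, d1 f h, h2, one_mul]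
  have s4 : ∀ x, σ' (y x) = σ x := fun x => by rw [e2, hd, hd, ← map_mul, ← map_mul, ← e1, y1 _ (s1 x)]
  have s5 : ∀ x, σ (d' x) = d' (σ x) := fun x => by rw [e1, e1, hc, hc, map_mul, map_mul]
  have s6 : ∀ x, σ (σ' x) = σ' (σ x) := fun x => by rw [e2, e2, map_mul, map_mul, s5 (d' x), s5]
  have s7 := s6 (y x)
  rw [s3 _ (s1 _), s4, s2 _ (s1 _), hx, map_mul, s2 e (hZ e he).1] at s7
  exact left_eq_mul.mp s7

/-- Vectors orthogonal to the fixed space of an involution are commutators. -/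
theorem mf_range {Γ : Type v} [Group Γ] {m : Γ → ℕ} {ρ : Γ →* Module.End (ZMod 2) V8}
    {B : LinearMap.BilinForm (ZMod 2) V8} {q : V8 → ZMod 2} (R : RM m ρ B q) {γ : Γ} (h2 : γ * γ = 1) {w : V8}
    (h : ∀ u, ρ γ u = u → B w u = 0) : ∃ v, ρ γ v + v = w := by
  have hA := quad2_isAlt R.hq
  have h1 : w ∈ LinearMap.range (ρ γ + 1) := by
    rw [← LinearMap.BilinForm.orthogonal_orthogonal (nondegenerate_of_isAlt hA R.hN) hA.isRefl
      (LinearMap.range (ρ γ + 1))]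
    intro u hu
    refine (quad2_symm R.hq u w).trans (h u (eq_of_add_eq_zero_zmod2 (R.hN _ fun v => ?_)))
    have h3 : B (ρ γ v + v) u = 0 := hu _ ⟨v, rfl⟩
    have h4 : B (ρ γ u) v = B u (ρ γ v) := by
      rw [← R.Binv γ, ← RM.mul, h2, map_one]; rfl
    rw [LinearMap.BilinForm.add_left, h4, ← map_add, quad2_symm R.hq, h3]
  exact h1

theorem Tv.mf_sl {Γ : Type v} {m : Γ → ℕ} {t : Γ} (ht : Tv m t) : sl (m t) = false := by
  obtain ⟨v, hv, e⟩ := ht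
  rw [e, sl_tv v hv.1 hv.2.2]

theorem mf_l0 : ∀ a ∈ l0, a < 256 ∧ qq a = false ∧ ∃ c < 256, a = ap b0 c ^^^ c := by decide +kernel

theorem mf_EW : ∀ w ∈ EW, tw w = I8 ∨ tw w ∈ TV ∨ ∀ a < 256, ap (tw w) a = a → a ∈ l0 := by decide +kernel

namespace GM

variable {G : Type u} {Γ : Type v} [Group G] [Group Γ] (S : GM G Γ)

theorem mf_fix {c a : G} (hc : c ∈ S.H) (ha : a ∈ S.J) (h : Commute c a) : S.ρ (S.r c) (S.π a) = S.π a := by
  rw [S.act hc ha, conj_eq_of_commute h]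

theorem mf_fix_iff {c a : G} (hc : c ∈ S.H) (ha : a ∈ S.J) :
    S.ρ (S.r c) (S.π a) = S.π a ↔ a⁻¹ * (c * a * c⁻¹) ∈ S.Z := by
  rw [S.act hc ha, S.π_eq (S.norm hc ha) ha]

theorem mf_r_eq {a b : G} (ha : a ∈ S.H) (hb : b ∈ S.H) (e : S.r a = S.r b) : b⁻¹ * a ∈ S.J :=
  (S.r_eq (mul_mem (inv_mem hb) ha)).mp (by rw [S.r_mul (inv_mem hb) ha, S.r_inv hb, e, inv_mul_cancel])

/-- The elementary abelian group `J / ⟨z⟩` with the action of `H`. -/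
theorem mf_hat : ∃ (A : Type u) (_ : CommGroup A) (p : G → A) (τ : G → A →* A), (∀ x : A, x * x = 1) ∧
    (∀ {a b}, a ∈ S.J → b ∈ S.J → p (a * b) = p a * p b) ∧ (∀ {a}, a ∈ S.J → p a = 1 → a = 1 ∨ a = S.z) ∧
    (∀ x, ∃ a ∈ S.J, p a = x) ∧ (∀ {c a}, c ∈ S.H → a ∈ S.J → τ c (p a) = p (c * a * c⁻¹)) ∧
    ∀ {c a}, c ∈ S.J → a ∈ S.J → p (c * a * c⁻¹) = p a := by
  classical
  let K : Subgroup S.J := (zpowers S.z).subgroupOf S.J
  have mK : ∀ {a : S.J}, a ∈ K ↔ (a : G) = 1 ∨ (a : G) = S.z := fun {a} => mem_zpowers_two S.ord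
  have cK : ∀ {c : G}, c ∈ S.H → ∀ a : S.J, a ∈ K → c * a * c⁻¹ = a := fun hc a ha => by
    rcases mK.mp ha with e | e <;> rw [e]
    exacts [by simp, conj_eq_of_commute (S.Hz hc)]
  haveI hK : K.Normal := ⟨fun a ha g => by rwa [show g * a * g⁻¹ = a from Subtype.ext (cK (S.JH g.2) a ha)]⟩
  have h2 : ∀ x : S.J ⧸ K, x * x = 1 := fun x => by
    obtain ⟨a, rfl⟩ := QuotientGroup.mk_surjective x
    exact (QuotientGroup.eq_one_iff (a * a)).mpr (mK.mpr (S.sq a.2))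
  letI hA : CommGroup (S.J ⧸ K) :=
    { (inferInstance : Group (S.J ⧸ K)) with
      mul_comm := fun a b => by
        rw [← inv_eq_of_mul_eq_one_right (h2 (a * b)), mul_inv_rev, inv_eq_of_mul_eq_one_right (h2 a),
          inv_eq_of_mul_eq_one_right (h2 b)] }
  let f : S.H → S.J →* S.J := fun c => MonoidHom.mk' (fun j => ⟨c * j * (c : G)⁻¹, S.norm c.2 j.2⟩) fun a b =>
    Subtype.ext (by simp [mul_assoc])
  let τ : S.H → (S.J ⧸ K →* S.J ⧸ K) := fun c => QuotientGroup.map K K (f c) fun a ha => by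
    rwa [mem_comap, show f c a = a from Subtype.ext (cK c.2 a ha)]
  refine ⟨S.J ⧸ K, hA, fun a => if h : a ∈ S.J then ((⟨a, h⟩ : S.J) : S.J ⧸ K) else 1,
    fun c => if h : c ∈ S.H then τ ⟨c, h⟩ else 1, h2, fun ha hb => ?_, fun ha e => ?_, fun x => ?_,
    fun hc ha => ?_, fun {c a} hc ha => ?_⟩
  · simp only [dif_pos ha, dif_pos hb, dif_pos (mul_mem ha hb)]
    rfl
  · simp only [dif_pos ha] at e
    exact mK.mp ((QuotientGroup.eq_one_iff _).mp e)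
  · obtain ⟨a, rfl⟩ := QuotientGroup.mk_surjective x
    exact ⟨a, a.2, dif_pos a.2⟩
  · simp only [dif_pos ha, dif_pos hc, dif_pos (S.norm hc ha)]
    rfl
  · simp only [dif_pos ha, dif_pos (S.norm (S.JH hc) ha)]
    exact (show (((⟨c, hc⟩ : S.J) : S.J ⧸ K) * ((⟨a, ha⟩ : S.J) : S.J ⧸ K) * ((⟨c, hc⟩ : S.J) : S.J ⧸ K)⁻¹) = _ from
      mul_inv_cancel_comm _ _)

/-- The key lemma: fixed points on `J / Z` lift to fixed points on `J / ⟨z⟩`. -/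
theorem mf_lift {y : G} (hy : y ∈ S.H) {δ : Γ} (h : Sp S.m S.ρ (S.r y) δ) {j : G} (hj : j ∈ S.J)
    (h1 : j⁻¹ * (y * j * y⁻¹) ∈ S.Z) : y * j * y⁻¹ = j ∨ y * j * y⁻¹ = j * S.z := by
  obtain ⟨A, _, p, τ, h2, pm, p1, ps, pa, pj⟩ := S.mf_hat
  obtain ⟨hδ, h3, hc, ι, hι, e, hf⟩ := h
  obtain ⟨c, c1, rfl⟩ := S.r_surj δ
  obtain ⟨i, i1, rfl⟩ := S.r_surj ι
  have tm : ∀ {a b}, a ∈ S.H → b ∈ S.H → ∀ x, τ (a * b) x = τ a (τ b x) := fun ha hb x => by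
    obtain ⟨k, hk, rfl⟩ := ps x
    rw [pa (mul_mem ha hb) hk, pa hb hk, pa ha (S.norm hb hk)]
    congr 1; group
  have te : ∀ {a b}, a ∈ S.H → b ∈ S.H → S.r a = S.r b → ∀ x, τ a x = τ b x := fun {a b} ha hb e x => by
    obtain ⟨k, hk, rfl⟩ := ps x
    have h4 := S.mf_r_eq ha hb e
    rw [← mul_inv_cancel_left b a, tm hb (S.JH h4), pa (S.JH h4) hk, pj h4 hk]
  have c2 := mul_mem (mul_mem hy c1) (inv_mem hy)
  have k := mf_split h2 (d := τ c) (d' := τ (y * c * y⁻¹)) (i := τ i) (y := τ y) (Z := p '' S.Z)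
    (fun x => by
      obtain ⟨k, hk, rfl⟩ := ps x
      rw [← tm c1 c1, ← tm (mul_mem c1 c1) c1, te (mul_mem (mul_mem c1 c1) c1) (one_mem _)
        (by rw [S.r_mul (mul_mem c1 c1) c1, S.r_mul c1 c1, ← pow_three', h3, S.r_one]), pa (one_mem _) hk]
      simp)
    (fun x => by rw [← tm i1 i1, te hy (mul_mem i1 i1) (by rw [S.r_mul i1 i1, e])])
    (fun x => by rw [← tm c2 hy, inv_mul_cancel_right, tm hy c1])
    (fun x => by
      rw [← tm c1 c2, ← tm c2 c1, te (mul_mem c1 c2) (mul_mem c2 c1)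
        (by rw [S.r_mul c1 c2, S.r_mul c2 c1, S.r_conj hy c1, hc.eq])])
    (by
      rintro _ ⟨e, he, rfl⟩
      rw [pa c1 (S.ZJ he), pa i1 (S.ZJ he), conj_eq_of_commute (S.inner c1 (S.md.mem_LL.mp hδ) e he),
        conj_eq_of_commute (S.inner i1 (S.md.mem_LL.mp hι) e he)]
      exact ⟨rfl, rfl⟩)
    (fun f hf1 => by
      obtain ⟨k, hk, rfl⟩ := ps f
      have h5 : k⁻¹ * (c * k * c⁻¹) ∈ S.Z := by
        rcases p1 (mul_mem (inv_mem hk) (S.norm c1 hk)) (by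
          rw [pm (inv_mem hk) (S.norm c1 hk), ← pa c1 hk, hf1, ← pm (inv_mem hk) hk, inv_mul_cancel,
            ← mul_right_inj (p 1), ← pm (one_mem _) (one_mem _), mul_one, mul_one]) with e | e <;> rw [e]
        exacts [one_mem _, S.zZ]
      have h6 := (S.mf_fix_iff i1 hk).mp (hf _ ((S.mf_fix_iff c1 hk).mpr h5))
      exact ⟨_, ⟨_, h6, rfl⟩, by rw [pa i1 hk, ← pm hk (S.ZJ h6), mul_inv_cancel_left]⟩)
    (x := p j) ⟨_, h1, rfl⟩ (by rw [pa hy hj, ← pm hj (S.ZJ h1), mul_inv_cancel_left])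
  rcases p1 (S.ZJ h1) k with e | e
  exacts [Or.inl (inv_mul_eq_one.mp e).symm, Or.inr (inv_mul_eq_iff_eq_mul.mp e)]

/-- the preimage of a subspace -/
theorem mf_pre [Finite G] (W : Submodule (ZMod 2) V8) : ∃ X : Subgroup G, (∀ a, a ∈ X ↔ a ∈ S.J ∧ S.π a ∈ W) ∧
    Nat.card X = Nat.card S.Z * Nat.card W := by
  let X : Subgroup G :=
    { carrier := {a | a ∈ S.J ∧ S.π a ∈ W}
      mul_mem' := fun ha hb => ⟨mul_mem ha.1 hb.1, by rw [S.π_mul ha.1 hb.1]; exact add_mem ha.2 hb.2⟩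
      one_mem' := ⟨one_mem _, by rw [S.π_one]; exact zero_mem _⟩
      inv_mem' := fun ha => ⟨inv_mem ha.1, by rw [S.π_inv ha.1]; exact ha.2⟩ }
  obtain ⟨U, h1, h2⟩ := S.exists_img (Y := X) fun a ha => ha.1
  refine ⟨X, fun _ => Iff.rfl, ?_⟩
  rw [h2, inf_eq_right.mpr (show S.Z ≤ X from fun e he => ⟨S.ZJ he, by rw [S.π_Z he]; exact zero_mem _⟩),
    show U = W from Submodule.ext fun v => (h1 v).trans ⟨fun ⟨a, ha, e⟩ => e ▸ ha.2, fun hv => by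
      obtain ⟨a, ha, rfl⟩ := S.π_surj v
      exact ⟨a, ⟨ha, hv⟩, rfl⟩⟩]

theorem mf_card [Finite G] {y : G} (hy : y ∈ S.H) {δ : Γ} (h : Sp S.m S.ρ (S.r y) δ) :
    Nat.card S.Z * Nat.card (Fx (S.ρ (S.r y))) ≤ 2 * Nat.card (S.J ⊓ centralizer {y} : Subgroup G) := by
  obtain ⟨X, h1, h2⟩ := S.mf_pre (Fx (S.ρ (S.r y)))
  have k : ∀ a ∈ X, a ∉ centralizer ({y} : Set G) → y * a * y⁻¹ = a * S.z := fun a ha hn =>
    (S.mf_lift hy h ((h1 a).mp ha).1 ((S.mf_fix_iff hy ((h1 a).mp ha).1).mp (mem_Fx.mp ((h1 a).mp ha).2))).resolve_left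
      fun e => hn (mem_cent_singleton.mpr (mul_inv_eq_iff_eq_mul.mp e).symm)
  rw [← h2]
  exact (idx2 fun a ha b hb h3 h4 => mem_cent_singleton.mpr
    (mul_comm_of_conj S.zz (S.Jz ((h1 b).mp hb).1) (k a ha h3) (k b hb h4)).symm).trans
    (Nat.mul_le_mul_left 2 (card_le_of_le (inf_le_inf_right _ fun a ha => ((h1 a).mp ha).1)))

/-- the image of `C_J(y)` -/
theorem mf_cimg [Finite G] {y : G} (hy : y ∈ S.H) : ∃ U : Submodule (ZMod 2) V8, U ≤ Fx (S.ρ (S.r y)) ∧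
    (∀ v ∈ U, ∃ a ∈ S.J, Commute y a ∧ S.π a = v) ∧
    Nat.card (S.J ⊓ centralizer {y} : Subgroup G) ≤ Nat.card S.Z * Nat.card U := by
  obtain ⟨U, h1, h2⟩ := S.exists_img (Y := S.J ⊓ centralizer {y}) inf_le_left
  refine ⟨U, fun v hv => ?_, fun v hv => ?_, h2 ▸ Nat.mul_le_mul_right _ (card_le_of_le inf_le_right)⟩ <;>
    obtain ⟨a, ha, rfl⟩ := (h1 v).mp hv
  exacts [mem_Fx.mpr (S.mf_fix hy ha.1 (mem_cent_singleton.mp ha.2).symm),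
    ⟨a, ha.1, (mem_cent_singleton.mp ha.2).symm, rfl⟩]

theorem mf_cov {y : G} (hZ : ∀ e ∈ S.Z, Commute y e)
    (h : ∀ v, S.ρ (S.r y) v = v → ∃ a ∈ S.J, Commute y a ∧ S.π a = v) {j : G} (hj : j ∈ S.J)
    (h1 : S.ρ (S.r y) (S.π j) = S.π j) : Commute y j := by
  obtain ⟨a, ha, h2, e⟩ := h _ h1
  rw [← mul_inv_cancel_left a j]
  exact h2.mul_right (hZ _ ((S.π_eq hj ha).mp e.symm))

theorem mf_rng {y x : G} (hy : y ∈ S.H) (h2 : y * y = 1) (hx : x ∈ S.J)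
    (h : ∀ j ∈ S.J, S.ρ (S.r y) (S.π j) = S.π j → Commute x j) : ∃ j ∈ S.J, S.ρ (S.r y) (S.π j) + S.π j = S.π x := by
  obtain ⟨v, hv⟩ := mf_range S.rm (S.r_sq hy (h2 ▸ one_mem _)) (w := S.π x) fun u hu => by
    obtain ⟨j, hj, rfl⟩ := S.π_surj u
    exact (S.B_zero hx hj).mpr (h j hj hu)
  obtain ⟨j, hj, rfl⟩ := S.π_surj v
  exact ⟨j, hj, hv⟩

/-- Elements of order three centralising the image of `y` lift to the centraliser of `y`. -/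
theorem mf_tor {y : G} (hy : y ∈ S.H) (h2 : y * y = 1)
    (hc : ∀ j ∈ S.J, S.ρ (S.r y) (S.π j) = S.π j → Commute y j) {γ : Γ} (hγ : γ ∈ LL S.m) (h3 : γ ^ 3 = 1)
    (h4 : Commute γ (S.r y)) : ∃ c ∈ S.H, S.r c = γ ∧ Commute c y := by
  obtain ⟨c, c1, rfl⟩ := S.r_surj γ
  have c2 := mul_mem (mul_mem c1 hy) (inv_mem c1)
  have hk : y⁻¹ * (c * y * c⁻¹) ∈ S.J := S.mf_r_eq c2 hy (by rw [S.r_conj c1 hy, conj_eq_of_commute h4])
  obtain ⟨j, hj, e⟩ := S.mf_rng hy h2 hk fun j hj h => (hc j hj h).inv_left.mul_left (by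
    have h5 := S.norm (inv_mem c1) hj
    have h6 := hc _ h5 (by rw [← S.act (inv_mem c1) hj, ← RM.mul, S.r_inv c1, h4.inv_left.symm.eq, RM.mul, h])
    simpa [mul_assoc] using commute_conj (g := c) h6)
  have hu := mul_mem (S.norm (inv_mem hy) hj) (inv_mem hj)
  have he := (S.π_eq hk hu).mp (by
    rw [← e, S.π_mul (S.norm (inv_mem hy) hj) (inv_mem hj), S.π_inv hj, ← S.act (inv_mem hy) hj,
      inv_eq_of_mul_eq_one_right h2])
  generalize hE : (y⁻¹ * j * y⁻¹⁻¹ * j⁻¹)⁻¹ * (y⁻¹ * (c * y * c⁻¹)) = E at he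
  have d1 : j⁻¹ * c ∈ S.H := mul_mem (inv_mem (S.JH hj)) c1
  have d2 : S.r (j⁻¹ * c) = S.r c := by rw [S.r_mul (inv_mem (S.JH hj)) c1, S.r_J (inv_mem hj), one_mul]
  have d3 : j⁻¹ * c * y * (j⁻¹ * c)⁻¹ = y * E := by
    rw [← conj_eq_of_commute (S.Zc he (inv_mem hj)).symm, ← hE]; group
  have d4 := S.inner d1 (d2 ▸ S.md.mem_LL.mp hγ) E he
  generalize j⁻¹ * c = d at d1 d2 d3 d4
  have d5 : Commute (d * d) y := mul_inv_eq_iff_eq_mul.mp (by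
    calc d * d * y * (d * d)⁻¹ = d * (d * y * d⁻¹) * d⁻¹ := by group
      _ = d * (y * E) * d⁻¹ := by rw [d3]
      _ = d * y * d⁻¹ * (d * E * d⁻¹) := by group
      _ = y := by rw [d3, conj_eq_of_commute d4, mul_assoc, S.Zsq he, mul_one])
  refine ⟨d * d * (d * d), mul_mem (mul_mem d1 d1) (mul_mem d1 d1), ?_, d5.mul_left d5⟩
  rw [S.r_mul (mul_mem d1 d1) (mul_mem d1 d1), S.r_mul d1 d1, d2, ← mul_assoc, ← pow_three', h3, one_mul]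

end GM

theorem mf1 (h : RA1.{v}) : MF1.{u, v} := fun G Γ _ _ _ S y hy _ ht => by
  obtain ⟨h1, δ, h2, -⟩ := h Γ S.m S.ρ S.B S.q S.rm _ ht
  have := S.mf_card hy h2
  rw [h1] at this
  omega

theorem mf2 (h : RA2.{v}) : MF2.{u, v} := fun G Γ _ _ _ S y hy hJ h2 h3 h4 => by
  obtain ⟨U, h5, -, h6⟩ := S.mf_cimg hy
  refine (h Γ S.m S.ρ S.B S.q S.rm).1 _ (S.r_sq hy (h2 ▸ one_mem _)) (fun e => hJ ((S.r_eq hy).mp e)) (fun v => ?_) ?_
  · obtain ⟨j, hj, rfl⟩ := S.π_surj v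
    have h7 := S.norm hy (inv_mem hj)
    rw [← S.π_inv hj, S.act hy (inv_mem hj), S.π_inv hj, add_comm, ← S.π_mul hj h7, S.q_zero (mul_mem hj h7),
      inv_eq_of_mul_eq_one_right h2]
    simpa only [mul_assoc] using h3 j hj
  · exact (Nat.le_of_mul_le_mul_left ((mul_comm _ _).trans_le (h4.trans h6)) Nat.card_pos).trans
      (Set.ncard_le_ncard (s := (U : Set V8)) h5)

theorem mf5 (h : RA1.{v}) : MF5.{u, v} := fun G Γ _ _ _ S t x ht h2 h3 h4 hx h5 => by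
  obtain ⟨h1, δ, ⟨d1, d2, -⟩, d3, d4⟩ := h Γ S.m S.ρ S.B S.q S.rm _ h3
  obtain ⟨U, h6, h7, h8⟩ := S.mf_cimg ht
  have hU : U = Fx (S.ρ (S.r t)) := SetLike.coe_injective (Set.eq_of_subset_of_ncard_le h6
    (h1.le.trans (Nat.le_of_mul_le_mul_left ((mul_comm _ _).trans_le (h4.trans h8)) Nat.card_pos)))
  have hc := fun j => S.mf_cov (j := j) (S.inner ht h3.mf_sl) fun v hv => h7 v (hU ▸ mem_Fx.mpr hv)
  obtain ⟨j, hj, e⟩ := S.mf_rng ht h2 hx fun j hj h => (h5 j (S.JH hj) (hc j hj h).symm).symm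
  obtain ⟨c, c1, rfl, c2⟩ := S.mf_tor ht h2 hc d1 d2 d3
  rw [← S.π_zero hx, ← e, d4 _ (e ▸ S.mf_fix c1 hx (h5 c c1 c2)), add_self_zmod2]

theorem mf4 (h : RA2.{v}) (h' : MD.{v}) : MF4.{u, v} := by
  intro G Γ _ _ _ S x y hx hy x2 y2 hxy xZ _ xJ yJ xyJ xT yT xyT h1 h2 h3
  have M := S.md
  obtain ⟨w, hw, w2, wJ, wT, ws, wc⟩ : ∃ w ∈ S.H, w * w = 1 ∧ w ∉ S.J ∧ ¬ Tv S.m (S.r w) ∧ sl (S.m (S.r w)) = false ∧
      ∀ j ∈ S.J, Commute j w ↔ Commute j x := by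
    cases e1 : sl (S.m (S.r x))
    · exact ⟨x, hx, x2, xJ, xT, e1, fun _ _ => Iff.rfl⟩
    cases e2 : sl (S.m (S.r y))
    · exact ⟨y, hy, y2, yJ, yT, e2, fun j hj => (h1 j hj).symm⟩
    exact ⟨x * y, mul_mem hx hy, by rw [← pow_two, hxy.mul_pow, pow_two, pow_two, x2, y2, mul_one], xyJ, xyT,
      by rw [S.r_mul hx hy, M.sl_mul, e1, e2]; rfl, fun j hj => ⟨h2 j hj, fun e => e.mul_right ((h1 j hj).mp e)⟩⟩
  have hb : Cj S.m (S.r w) b0 := ((M.types_in (S.r_sq hw (w2 ▸ one_mem _)) ws).resolve_left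
    fun e => wJ ((S.r_eq hw).mp e)).resolve_left wT
  rcases S.rm.ident with hR | ⟨φ, P⟩
  · obtain ⟨h4, δ, h5⟩ := (h Γ S.m S.ρ S.B S.q S.rm).2 hR _ hb
    have h6 := S.mf_card hw h5
    rw [show S.J ⊓ centralizer {w} = S.J ⊓ centralizer {x} from Subgroup.ext fun j => and_congr_right fun hj =>
      mem_cent_singleton.trans ((wc j hj).trans mem_cent_singleton.symm)] at h6
    have h7 : 0 < Nat.card S.Z := Nat.card_pos
    have h8 := Nat.mul_le_mul_left (Nat.card S.Z) h4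
    omega
  obtain ⟨γ, hγ⟩ := hb
  have ca : ∀ (s : Γ) (v : V8), S.ρ (γ * s * γ⁻¹) v = S.ρ γ (S.ρ s (S.ρ γ⁻¹ v)) := fun s v => by rw [RM.mul, RM.mul]
  have k1 : ∀ a ∈ l0, ∃ u ∈ S.J, Commute x u ∧ S.π u = S.ρ γ⁻¹ (φ a) := fun a ha => by
    obtain ⟨a1, a2, c, c1, c2⟩ := mf_l0 a ha
    obtain ⟨j, hj, e⟩ := S.π_surj (S.ρ γ⁻¹ (φ c))
    have hu := mul_mem (S.norm hw hj) (inv_mem hj)
    have e1 : S.π (w * j * w⁻¹ * j⁻¹) = S.ρ γ⁻¹ (φ a) := by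
      rw [S.π_mul (S.norm hw hj) (inv_mem hj), S.π_inv hj, ← S.act hw hj, e, c2, P.xor, map_add, ← hγ, ← P.act _ c c1,
        ca, RM.inv_ap]
    have e2 := (S.q_zero hu).mp (by rw [e1, S.rm.inv, P.hq a a1, a2]; rfl)
    refine ⟨_, hu, ((wc _ hu).mp (mul_inv_eq_iff_eq_mul.mp ?_).symm).symm, e1⟩
    rw [← inv_eq_of_mul_eq_one_right e2]
    calc _ = w * w * (j * w⁻¹ * j⁻¹ * w⁻¹) := by rw [inv_eq_of_mul_eq_one_right e2]; group
      _ = _ := by rw [w2, one_mul, mul_inv_rev, mul_inv_rev, mul_inv_rev, inv_inv, inv_inv,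
        inv_eq_of_mul_eq_one_right w2]; group
  have k2 : ∀ {s}, s ∈ S.H → (∀ u ∈ S.J, Commute x u → Commute s u) → ∀ a ∈ l0, ap (S.m (γ * S.r s * γ⁻¹)) a = a :=
    fun hs h a ha => by
    obtain ⟨u, hu, u1, u2⟩ := k1 a ha
    have a1 := (mf_l0 a ha).1
    exact P.inj _ (ap_lt _ _) _ a1 (by rw [← P.act _ a a1, ca, ← u2, S.mf_fix hs hu (h u hu u1), u2, RM.ap_inv])
  have k3 : ∀ {s}, s ∈ S.H → s ∉ S.J → γ * S.r s * γ⁻¹ ≠ 1 := fun hs h e =>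
    h ((S.r_eq hs).mp (conj_eq_one_iff.mp e))
  have k4 : ∀ {s : Γ}, ¬ Tv S.m s → ¬ Tv S.m (γ * s * γ⁻¹) := fun h e => h (by simpa [mul_assoc] using e.conj M γ⁻¹)
  have k5 : γ * S.r x * γ⁻¹ * (γ * S.r y * γ⁻¹) = γ * S.r (x * y) * γ⁻¹ := by rw [S.r_mul hx hy]; group
  have fx := k2 hx fun _ _ e => e
  obtain ⟨g, g1, g2, g3, g4⟩ := (h' Γ S.m M).2.2.2 _ _ fx (k2 hy fun u hu e => ((h1 u hu).mp e.symm).symm) (k3 hx xJ)
    (k3 hy yJ) (k5 ▸ k3 (mul_mem hx hy) xyJ) (k4 xT) (k4 yT) (k5 ▸ k4 xyT)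
  obtain ⟨c, c1, c2, c3⟩ := S.mf_tor hx x2 (fun j => S.mf_cov xZ fun v hv => by
      obtain ⟨a, a1, a2⟩ := P.surj (S.ρ γ v)
      obtain ⟨l, hl, e⟩ := M.mem_EW fx
      obtain ⟨u, hu, u1, u2⟩ := k1 a (((mf_EW l hl).resolve_left fun e' => k3 hx xJ (M.eq_one_iff.mp (e ▸ e'))).elim
        (fun e' => (k4 xT (tv_of_mem_TV (e ▸ e'))).elim)
        fun e' => e' a a1 (P.inj _ (ap_lt _ _) _ a1 (by rw [e, ← P.act _ a a1, ca, a2, RM.inv_ap, hv])))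
      exact ⟨u, hu, u1, by rw [u2, a2, RM.inv_ap]⟩)
    (γ := γ⁻¹ * g * γ⁻¹⁻¹) (M.normal.conj_mem g g1 _) (by rw [conj_pow, g2]; simp)
    (by simpa [mul_assoc] using commute_conj (g := γ⁻¹) g3)
  exact ⟨c, c1, c3, fun e => g4 (by simpa [c2, mul_assoc] using commute_conj (g := γ) (S.r_comm c1 hy e))⟩

end CL.Fc
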