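/-
Project FC, job RA1: transvections of `U₄(2)` on an arbitrary eight-dimensional orthogonal module over `F₂`.
-/
import Cfsg.Agent.Spor.FcD

set_option autoImplicit false

namespace CL.Fc

open Subgroup CL.Even CL.Grp CL.U6 CL.MT Cfsg

universe v

theorem ra1_two : (2 : V8) = 0 := by decide

theorem ra1_card (f : Module.End (ZMod 2) V8) :
    Nat.card (LinearMap.ker f) * Nat.card (LinearMap.range f) = 256 := by
  have h := LinearMap.finrank_range_add_finrank_ker f
  rw [card_eq_pow_finrank_zmod (p := 2), card_eq_pow_finrank_zmod (p := 2) (LinearMap.range f), ← pow_add, add_comm, h]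
  simp

theorem ra1_le {W : Submodule (ZMod 2) V8} {l : List V8} (hl : l.Nodup) (h : ∀ x ∈ l, x ∈ W) :
    l.length ≤ Nat.card W := by
  classical
  rw [← List.toFinset_card_of_nodup hl, ← Set.ncard_coe_finset, ← SetLike.coe_sort_coe, Nat.card_coe_set_eq]
  exact Set.ncard_le_ncard (fun x hx => h x (by simpa using hx)) (Set.toFinite _)

section Lin

variable {D A Bm T : Module.End (ZMod 2) V8} (h3 : ∀ v, D (D (D v)) = v)
include h3

theorem ra1_W (h4 : Nat.card (Fx D) = 4) : Nat.card (LinearMap.ker (1 + D + D * D)) = 64 := by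
  have h := ra1_card (1 + D + D * D)
  have e : LinearMap.range (1 + D + D * D) = Fx D := by
    ext u
    rw [mem_Fx]
    constructor
    · rintro ⟨v, rfl⟩
      simp only [LinearMap.add_apply, Module.End.one_apply, Module.End.mul_apply, map_add, h3]
      ring
    · refine fun hu => ⟨u, ?_⟩
      simp only [LinearMap.add_apply, Module.End.one_apply, Module.End.mul_apply, hu]
      linear_combination u * ra1_two
  rw [e, h4] at h
  omega

/-- the eigenspaces -/
def ra1E (D A S : Module.End (ZMod 2) V8) : Submodule (ZMod 2) V8 :=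
  LinearMap.ker (1 + D + D * D) ⊓ LinearMap.ker (A - S)

omit h3 in
theorem mem_ra1E {S : Module.End (ZMod 2) V8} {w : V8} : w ∈ ra1E D A S ↔ w + D w + D (D w) = 0 ∧ A w = S w := by
  rw [ra1E, Submodule.mem_inf, LinearMap.mem_ker, LinearMap.mem_ker, LinearMap.sub_apply, sub_eq_zero]; rfl

theorem ra1_E0 (h4 : Nat.card (Fx D) = 4) (hB : Function.Injective Bm) (hBD : ∀ v, Bm (D v) = D (Bm v))
    (hAD : ∀ v, A (D v) = D (A v)) (hAB : ∀ v, A (Bm v) = D (Bm (A v))) : Nat.card (ra1E D A 1) ≤ 4 := by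
  have k : ∀ {w}, w + D w + D (D w) = 0 → Bm w + D (Bm w) + D (D (Bm w)) = 0 := fun h => by
    rw [← hBD, ← hBD, ← map_add, ← map_add, h, map_zero]
  let f : ra1E D A 1 × ra1E D A 1 × ra1E D A 1 →+ LinearMap.ker (1 + D + D * D) := AddMonoidHom.mk'
    (fun p => ⟨p.1 + Bm p.2.1 + Bm (Bm p.2.2), add_mem (add_mem p.1.2.1 (k (mem_ra1E.1 p.2.1.2).1))
      (k (k (mem_ra1E.1 p.2.2.2).1))⟩) fun p p' => Subtype.ext (by
        simp only [Prod.fst_add, Prod.snd_add, Submodule.coe_add, map_add]; ring)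
  have hf : Function.Injective f := (injective_iff_map_eq_zero f).2 fun ⟨x, y, z⟩ e => by
    have e0 : (x : V8) + Bm y + Bm (Bm z) = 0 := congrArg Subtype.val e
    have hx : A x = x := (mem_ra1E.1 x.2).2
    have hy : A (Bm y) = D (Bm y) := by rw [hAB, show A y = y from (mem_ra1E.1 y.2).2]
    have hz : A (Bm (Bm z)) = D (D (Bm (Bm z))) := by
      rw [hAB, hAB, show A z = z from (mem_ra1E.1 z.2).2, hBD]
    have sy := k (mem_ra1E.1 y.2).1
    have sz := k (k (mem_ra1E.1 z.2).1)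
    have e1 := congrArg A e0
    rw [map_add, map_add, hx, hy, hz, map_zero] at e1
    have e2 := congrArg A e1
    simp only [map_add, map_zero, hAD, hx, hy, hz, h3] at e2
    have x0 : (x : V8) = 0 := by linear_combination e0 + e1 + e2 - sy - sz - (x : V8) * ra1_two
    have e3 : Bm y = Bm (Bm z) := by linear_combination e0 - x0 - Bm (Bm z) * ra1_two
    rw [e3] at e1
    have z0 : Bm (Bm z) = 0 := by linear_combination sz - e1 + x0
    rw [z0] at e3
    exact Prod.ext (Subtype.ext x0) (Prod.ext (Subtype.ext (hB (e3.trans (map_zero _).symm)))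
      (Subtype.ext (hB (hB (by rw [z0]; simp)))))
  have h := Nat.card_le_card_of_injective f hf
  rw [ra1_W h3 h4, Nat.card_prod, Nat.card_prod] at h
  by_contra! h5
  have := Nat.mul_le_mul h5 (Nat.mul_le_mul h5 h5)
  omega

theorem ra1_range (h4 : Nat.card (Fx D) = 4) (hB : Function.Injective Bm) (hBD : ∀ v, Bm (D v) = D (Bm v))
    (hAD : ∀ v, A (D v) = D (A v)) (hAB : ∀ v, A (Bm v) = D (Bm (A v))) (hA : ∀ v, A (A (A v)) = v)
    (hT : ∀ v, T (T v) = v) (hTD : ∀ v, T (D v) = D (T v)) (hAT : ∀ v, A (T v) = T (A (A v)))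
    (hF : ∀ u, D u = u → T u = u) : Nat.card (LinearMap.range (T - 1)) ≤ 4 := by
  have c0 := ra1_E0 h3 h4 hB hBD hAD hAB
  have kT : ∀ {w}, w + D w + D (D w) = 0 → T w + D (T w) + D (D (T w)) = 0 := fun h => by
    rw [← hTD, ← hTD, ← map_add, ← map_add, h, map_zero]
  have k : ∀ {w}, w + D w + D (D w) = 0 → Bm w + D (Bm w) + D (D (Bm w)) = 0 := fun h => by
    rw [← hBD, ← hBD, ← map_add, ← map_add, h, map_zero]
  have c1 : Nat.card (ra1E D A D) ≤ 4 := le_trans (Nat.card_le_card_of_injective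
    (fun w : ra1E D A D => (⟨Bm (Bm w), mem_ra1E.2 ⟨k (k (mem_ra1E.1 w.2).1), by
      rw [hAB, hAB, (mem_ra1E.1 w.2).2, hBD, hBD, hBD, h3]; rfl⟩⟩ : ra1E D A 1))
    fun a b e => Subtype.ext (hB (hB (congrArg Subtype.val e)))) c0
  have f0 : ∀ w ∈ ra1E D A 1, T w = w := fun w hw => by
    by_contra hne
    obtain ⟨s, a⟩ := mem_ra1E.1 hw
    replace a : A w = w := a
    have w0 : w ≠ 0 := fun e => hne (by rw [e, map_zero])
    have d1 : D w ≠ w := fun e => w0 (by rw [e, e] at s; linear_combination s - w * ra1_two)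
    have d0 : D w ≠ 0 := fun e => w0 (by rw [← h3 w, e, map_zero, map_zero])
    have hD : D w ∈ ra1E D A 1 := mem_ra1E.2 ⟨by rw [h3]; linear_combination s, by rw [hAD, a]; rfl⟩
    have := ra1_le (W := ra1E D A 1) (l := [0, w, D w, w + D w, T w]) ?_ (by
      simp only [List.forall_mem_cons]
      exact ⟨zero_mem _, hw, hD, add_mem hw hD, mem_ra1E.2 ⟨kT s, by rw [hAT, a, a]; rfl⟩, by simp⟩)
    · simp at this; omega
    have t0 : T w ≠ 0 := fun e => w0 (by rw [← hT w, e, map_zero])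
    have t1 : T w ≠ D w := fun e => d1 (by
      have := hT w
      rw [e, hTD, e] at this
      rw [← this, h3, this])
    have t2 : T w ≠ w + D w := fun e => d1 (by
      have e' : T w = D (D w) := by linear_combination e - s + (w + D w) * ra1_two
      have := hT w
      rwa [e', hTD, hTD, e', h3] at this)
    have n1 : w + D w ≠ 0 := fun e => d1 (eq_of_add_eq_zero_zmod2 e).symm
    simp [w0.symm, d0.symm, n1.symm, t0.symm, d1.symm, d0, w0, Ne.symm hne, t1.symm, t2.symm]
  refine le_trans (Nat.card_le_card_of_injective (Submodule.inclusion (p' := (ra1E D A D).map (T - 1)) ?_)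
    (Submodule.inclusion_injective _)) (le_trans (Nat.card_le_card_of_surjective
      (fun w : ra1E D A D => (⟨(T - 1) w, w, w.2, rfl⟩ : (ra1E D A D).map (T - 1))) ?_) c1)
  swap
  · rintro ⟨_, w, hw, rfl⟩; exact ⟨⟨w, hw⟩, rfl⟩
  rintro _ ⟨v, rfl⟩
  obtain ⟨w, hw⟩ : ∃ w, w = D v + D (D v) := ⟨_, rfl⟩
  have s : w + D w + D (D w) = 0 := by
    rw [hw]; simp only [map_add, h3]; linear_combination (v + D v + D (D v)) * ra1_two
  have sA : A w + D (A w) + D (D (A w)) = 0 := by rw [← hAD, ← hAD, ← map_add, ← map_add, s, map_zero]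
  have sAA : A (A w) + D (A (A w)) + D (D (A (A w))) = 0 := by
    simpa only [map_add, map_zero, hAD] using congrArg A sA
  have p0 := f0 (w + A w + A (A w)) (mem_ra1E.2 ⟨by simp only [map_add]; linear_combination s + sA + sAA, by
    simp only [map_add, hA, Module.End.one_apply]; ring⟩)
  have q0 := hF (v + D v + D (D v)) (by simp only [map_add, h3]; ring)
  refine ⟨w + D (D (A w)) + D (A (A w)) + T (w + D (A w) + D (D (A (A w)))), add_mem (mem_ra1E.2 ⟨?_, ?_⟩)
    (mem_ra1E.2 ⟨kT ?_, ?_⟩), ?_⟩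
  · simp only [map_add, h3]; linear_combination s + sA + sAA
  · simp only [map_add, h3, hAD, hA]; ring
  · simp only [map_add, h3]; linear_combination s + sA + sAA
  · rw [hAT, ← hTD]; congr 1; simp only [map_add, h3, hAD, hA]; ring
  · have tA := kT sA
    have tAA := kT sAA
    have e : T w = T (D v) + T (D (D v)) := by rw [hw, map_add]
    simp only [LinearMap.sub_apply, Module.End.one_apply, map_add, hT, hTD] at p0 q0 e ⊢
    linear_combination p0 + q0 + tA + tAA + sA + sAA + e + hw + (-(T w) - D (D (A w)) - D (A (A w)) - D (T (A w)) -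
      D (D (T (A (A w)))) + v + D v + D (D v) - T v - T (A w) - T (A (A w))) * ra1_two

end Lin

variable {Γ : Type v} [Group Γ] {m : Γ → ℕ} {ρ : Γ →* Module.End (ZMod 2) V8} {B : LinearMap.BilinForm (ZMod 2) V8}
  {q : V8 → ZMod 2}

theorem ra1_perm {X : Type*} [Finite X] (cX : Nat.card X = 3) {σ τ : Equiv.Perm X}
    (h4 : (σ * τ * σ⁻¹ * τ⁻¹) ^ 4 = 1) : σ * τ * σ⁻¹ * τ⁻¹ = 1 := by
  classical
  have := Fintype.ofFinite X
  rw [Nat.card_eq_fintype_card] at cX
  have s1 : σ * τ * σ⁻¹ * τ⁻¹ ∈ alternatingGroup X := by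
    rw [Equiv.Perm.mem_alternatingGroup, map_mul, map_mul, map_mul, map_inv, map_inv,
      mul_right_comm (Equiv.Perm.sign σ), mul_inv_cancel, one_mul, mul_inv_cancel]
  have : Nontrivial X := Fintype.one_lt_card_iff_nontrivial.1 (by omega)
  have c := two_mul_card_alternatingGroup (α := X)
  rw [Fintype.card_perm, cX] at c
  have s3 := pow_card_eq_one (x := (⟨_, s1⟩ : alternatingGroup X))
  rw [show Fintype.card (alternatingGroup X) = 3 by change _ = 6 at c; omega] at s3
  rwa [pow_succ, show (σ * τ * σ⁻¹ * τ⁻¹) ^ 3 = 1 from congrArg Subtype.val s3, one_mul] at h4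

/-- commutators of order dividing four in the centraliser of `d` act trivially on the fixed space of `d` -/
theorem ra1_fix (R : RM m ρ B q) {d g j : Γ} (hd : m d = d1) (hg : Commute g d) (hj : Commute j d)
    (h4 : (g * j * g⁻¹ * j⁻¹) ^ 4 = 1) {u : V8} (hu : ρ d u = u) : ρ (g * j * g⁻¹ * j⁻¹) u = u := by
  let X := {w : V8 // ρ d w = w ∧ w ≠ 0}
  have cX : Nat.card X = 3 := by
    have h := R.card_Fx hd
    have e : Nat.card X + 1 = Nat.card (Fx (ρ d)) := by
      rw [← SetLike.coe_sort_coe, Nat.card_coe_set_eq,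
        ← Set.ncard_sdiff_singleton_add_one (zero_mem (Fx (ρ d))) (Set.toFinite _), ← Nat.card_coe_set_eq]
      exact congrArg (· + 1) (Nat.card_congr (Equiv.subtypeEquivRight fun w => by simp [mem_Fx]))
    omega
  let f : centralizer ({d} : Set Γ) → X → X := fun c w => ⟨ρ c w, by
    rw [← RM.mul, mem_centralizer_singleton_iff.1 c.2 |>.symm, RM.mul, w.2.1],
    fun e => w.2.2 (by rw [← RM.inv_ap (ρ := ρ) (c : Γ) w, e, map_zero])⟩
  let act : MulAction (centralizer ({d} : Set Γ)) X :=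
    { smul := f
      one_smul := fun w => Subtype.ext (by change ρ 1 w = w; rw [map_one]; rfl)
      mul_smul := fun a b w => Subtype.ext (RM.mul _ _ _) }
  let φ := MulAction.toPermHom (centralizer ({d} : Set Γ)) X
  let g' : centralizer ({d} : Set Γ) := ⟨g, mem_centralizer_singleton_iff.2 hg⟩
  let j' : centralizer ({d} : Set Γ) := ⟨j, mem_centralizer_singleton_iff.2 hj⟩
  have e : φ (g' * j' * g'⁻¹ * j'⁻¹) = φ g' * φ j' * (φ g')⁻¹ * (φ j')⁻¹ := by simp only [map_mul, map_inv]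
  have s0 : φ (g' * j' * g'⁻¹ * j'⁻¹) = 1 := e.trans (ra1_perm cX (by
    rw [← e, ← map_pow, show (g' * j' * g'⁻¹ * j'⁻¹) ^ 4 = 1 from Subtype.ext h4, map_one]))
  by_cases h0 : u = 0
  · rw [h0, map_zero]
  · exact congrArg Subtype.val (congrArg (fun σ : Equiv.Perm X => σ ⟨u, hu, h0⟩) s0)

theorem ra1_base (R : RM m ρ B q) {t : Γ} (ht : m t = tv 80) :
    Nat.card (Fx (ρ t)) = 64 ∧ ∃ δ, Sp m ρ t δ ∧ Commute δ t ∧ ∀ v, ρ δ (ρ t v + v) = ρ t v + v → ρ t v = v := by
  have h := R.md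
  obtain ⟨d, hd⟩ := h.exists_of_tw (l := [20, 24, 68, 72]) (A := d1) (by decide +kernel)
  obtain ⟨g, hg⟩ := h.exists_of_tw (l := [6, 5]) (A := 9241421688523719426) (by decide +kernel)
  obtain ⟨i, hi⟩ := h.exists_of_tw (l := [87, 85, 6, 5]) (A := 15329255792794927617) (by decide +kernel)
  obtain ⟨a, ha⟩ := h.exists_of_tw (l := [80, 112]) (A := 4665782128087400961) (by decide +kernel)
  obtain ⟨b, hb⟩ := h.exists_of_tw (l := [20, 80]) (A := 577727665114448385) (by decide +kernel)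
  have ii : i * i = t := h.inj (by rw [h.mul, hi, ht]; decide +kernel)
  have tt : t * t = 1 := h.tv_sq (v := 80) (by decide) ht
  have cg : Commute g d := h.inj (by rw [h.mul, h.mul, hg, hd]; decide +kernel)
  have ci : Commute i d := h.inj (by rw [h.mul, h.mul, hi, hd]; decide +kernel)
  have ca : Commute a d := h.inj (by rw [h.mul, h.mul, ha, hd]; decide +kernel)
  have cb : Commute b d := h.inj (by rw [h.mul, h.mul, hb, hd]; decide +kernel)
  have ct : Commute t d := ii ▸ ci.mul_left ci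
  have ab : a * b = d * (b * a) := h.inj (by rw [h.mul, h.mul, h.mul, ha, hb, hd]; decide +kernel)
  have a3 : a * (a * a) = 1 := h.inj (by rw [h.mul, h.mul, ha, h.one]; decide +kernel)
  have at' : a * t = t * (a * a) := h.inj (by rw [h.mul, h.mul, h.mul, ha, ht]; decide +kernel)
  obtain ⟨j, hj⟩ : ∃ j, j = g * i * g⁻¹ := ⟨_, rfl⟩
  have jd : Commute j d := hj ▸ (cg.mul_left ci).mul_left cg.inv_left
  have ij : i = g * j * g⁻¹ * j⁻¹ := by
    have e : i * g * (i * g) = g * g * i := h.inj (by simp only [h.mul, hi, hg]; decide +kernel)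
    rw [hj, show g * (g * i * g⁻¹) * g⁻¹ * (g * i * g⁻¹)⁻¹ = g * g * i * (g * (i * g))⁻¹ by group, ← e]
    group
  have fi : ∀ u, ρ d u = u → ρ i u = u := fun u hu => by
    rw [ij]
    exact ra1_fix R hd cg jd (by rw [← ij, show i ^ 4 = i * i * (i * i) by simp [pow_succ, mul_assoc], ii, tt]) hu
  have ft : ∀ u, ρ d u = u → ρ t u = u := fun u hu => by rw [← ii, RM.mul, fi u hu, fi u hu]
  have hT : ∀ v, ρ t (ρ t v) = v := fun v => by rw [← RM.mul, tt, map_one]; rfl
  have cm : ∀ {x : Γ}, Commute x d → ∀ v, ρ x (ρ d v) = ρ d (ρ x v) := fun e v => by rw [← RM.mul, e.eq, RM.mul]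
  have d3 := R.d_cube' hd
  have fpf : ∀ v, ρ d (ρ t v + v) = ρ t v + v → ρ t v = v := fun v hv => by
    have q0 := ft (v + ρ d v + ρ d (ρ d v)) (by simp only [map_add, d3]; ring)
    have h1 : ρ d (ρ d (ρ t v + v)) = ρ t v + v := by rw [hv, hv]
    simp only [map_add, cm ct] at q0 hv h1
    linear_combination q0 - hv - h1 + (ρ d v + ρ d (ρ d v) - ρ t v - v) * ra1_two
  refine ⟨?_, d, ⟨h.mem_LL.2 (by rw [hd]; decide +kernel), R.d_cube hd, ?_, i,
    h.mem_LL.2 (by rw [hi]; decide +kernel), ii, fi⟩, ct.symm, fpf⟩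
  · have c4 := ra1_range (A := ρ a) (Bm := ρ b) (T := ρ t) d3 (R.card_Fx hd)
      (fun x y e => by rw [← RM.inv_ap (ρ := ρ) b x, e, RM.inv_ap]) (cm cb) (cm ca)
      (fun v => by rw [← RM.mul, ab, RM.mul, RM.mul]) (fun v => by rw [← RM.mul, ← RM.mul, mul_assoc, a3, map_one]; rfl)
      hT (cm ct) (fun v => by rw [← RM.mul, at', RM.mul, RM.mul]) ft
    have c := ra1_card (ρ t - 1)
    obtain ⟨v, hv⟩ : ∃ v, ρ t v ≠ v := by
      by_contra! e
      exact h.tv_ne (v := 80) (by decide) ht (R.faith t e)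
    have w0 : ρ t v + v ≠ 0 := fun e => hv (eq_of_add_eq_zero_zmod2 e)
    have w1 : ρ d (ρ t v + v) ≠ ρ t v + v := fun e => hv (fpf v e)
    have w2 : ρ d (ρ t v + v) ≠ 0 := fun e => w0 (by rw [← d3 (ρ t v + v), e, map_zero, map_zero])
    have c3 := ra1_le (W := LinearMap.range (ρ t - 1)) (l := [0, ρ t v + v, ρ d (ρ t v + v)])
      (by simp [-map_add, w0.symm, w1.symm, w2.symm]) (by
        simp only [List.forall_mem_cons]
        refine ⟨zero_mem _, ⟨v, ?_⟩, ⟨ρ d v, ?_⟩, by simp⟩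
        · simp only [LinearMap.sub_apply, Module.End.one_apply]; linear_combination (-v) * ra1_two
        · simp only [LinearMap.sub_apply, Module.End.one_apply, map_add, cm ct]
          linear_combination (-ρ d v) * ra1_two)
    change Nat.card (LinearMap.ker (ρ t - 1)) = 64
    simp only [List.length_cons, List.length_nil] at c3
    obtain e | e : Nat.card (LinearMap.range (ρ t - 1)) = 3 ∨ Nat.card (LinearMap.range (ρ t - 1)) = 4 := by omega
    all_goals rw [e] at c; omega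
  · rw [conj_eq_of_commute ct]

theorem ra1 : RA1.{v} := by
  rintro Γ _ m ρ B q R t ⟨w, hw, ht⟩
  have h := R.md
  obtain ⟨x, -, hx⟩ := h.exists_85 hw
  obtain ⟨y, -, hy⟩ := h.exists_85 (v := 80) (by decide)
  obtain ⟨c, hc⟩ : ∃ c, m (c⁻¹ * t * c) = tv 80 := ⟨x⁻¹ * y, by
    rw [show (x⁻¹ * y)⁻¹ * t * (x⁻¹ * y) = y⁻¹ * (x * t * x⁻¹) * y⁻¹⁻¹ by group,
      h.tv_conj y⁻¹ (v := 85) (by decide) (by rw [h.tv_conj x hw.1 ht, hx]), ← hy, h.ap_inv y (by decide)]⟩
  have R' : RM m (ρ.comp (MulAut.conj c).toMonoidHom) B q :=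
    ⟨h, R.hq, R.hN, fun γ v => R.inv _ v, fun γ e => (MulAut.conj c).injective ((R.faith _ e).trans (map_one _).symm)⟩
  obtain ⟨h1, δ, ⟨s1, s2, s3, i, s4, s5, s6⟩, h2, h3⟩ := ra1_base R' hc
  have e : c * (c⁻¹ * t * c) * c⁻¹ = t := by group
  have e' : (ρ.comp (MulAut.conj c).toMonoidHom) (c⁻¹ * t * c) = ρ t := congrArg ρ e
  rw [e'] at h1 h3
  have h4 : Commute (c * δ * c⁻¹) t := e ▸ commute_conj h2
  refine ⟨h1, c * δ * c⁻¹, ⟨h.normal.conj_mem _ s1 c, by rw [conj_pow, s2]; group, ?_, c * i * c⁻¹,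
    h.normal.conj_mem _ s4 c, by rw [← e, ← s5]; group, s6⟩, h4, h3⟩
  rw [conj_eq_of_commute h4.symm]

end CL.Fc
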