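/-
Centralisers `(2^k × 2^{1+8}).U₄(2)`, part RA2: involutions that are not transvections on eight-dimensional modules.
-/
import Cfsg.Agent.Spor.FcD

set_option autoImplicit false

namespace CL.Fc

open Subgroup CL.Even CL.Grp CL.U6 CL.MT Cfsg

universe v

variable {Γ : Type v} [Group Γ] {m : Γ → ℕ} {ρ : Γ →* Module.End (ZMod 2) V8}
  {B : LinearMap.BilinForm (ZMod 2) V8} {q : V8 → ZMod 2} {d e g h y e1 e2 e3 : Γ} {w : V8}

variable (ρ) in
/-- the commutator space of an element of order three -/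
def ra2A (e : Γ) : Submodule (ZMod 2) V8 := Fx (ρ e + ρ e * ρ e)

theorem ra2_mem : w ∈ ra2A ρ e ↔ ρ e w + ρ e (ρ e w) = w := mem_Fx

variable (m ρ) in
/-- the fixed vectors of `h` are fixed by `U₄(2)` -/
def ra2F (h : Γ) : Prop := ∀ u, ρ h u = u → ∀ γ ∈ LL m, ρ γ u = u

variable (ρ) in
/-- `e1` and `e2` centralise the commutator space of `e3` -/
def ra2T (e1 e2 e3 : Γ) : Prop := ∀ w ∈ ra2A ρ e3, ρ e1 w = w ∧ ρ e2 w = w

theorem ra2_inj (g : Γ) {v w : V8} (h : ρ g v = ρ g w) : v = w := by rw [← RM.inv_ap (ρ := ρ) g v, h, RM.inv_ap]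

theorem ra2_rel {a b c : Γ} (h : g * a = b * c) (v : V8) : ρ g (ρ a v) = ρ b (ρ c v) := by rw [← RM.mul, h, RM.mul]

theorem ra2_cube (h : e * (e * e) = 1) (v : V8) : ρ e (ρ e (ρ e v)) = v := by
  rw [← RM.mul e e, ← RM.mul, mul_assoc, h, map_one]; rfl

theorem ra2F.conj (M : Md m) (H : ra2F m ρ d) (e : g * d = h * g) : ra2F m ρ h := fun u hu γ hγ => by
  have := H (ρ g⁻¹ u) (ra2_inj g (by rw [ra2_rel e, RM.ap_inv, hu])) _ (M.normal.conj_mem' γ hγ g)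
  rw [RM.mul, RM.mul, RM.ap_inv] at this
  exact ra2_inj _ this

theorem ra2F.inv (H : ra2F m ρ d) (e : d * h = 1) : ra2F m ρ h := fun u hu =>
  H u (by rw [← hu, ← RM.mul, e, map_one, hu]; rfl)

theorem ra2_conj (e : g * d = h * g) (hw : w ∈ ra2A ρ d) : ρ g w ∈ ra2A ρ h := by
  rw [ra2_mem] at hw ⊢
  rw [← ra2_rel e, ← ra2_rel e, ← map_add, hw]

theorem ra2_anti (h3 : e * (e * e) = 1) (h : y * e = e * e * y) (hw : w ∈ ra2A ρ e) : ρ y w ∈ ra2A ρ e := by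
  rw [ra2_mem] at hw ⊢
  conv_rhs => rw [← hw, map_add, ra2_rel h, ra2_rel h, ra2_rel h, RM.mul, RM.mul, ra2_cube h3, add_comm]

theorem ra2T.conj (H : ra2T ρ e1 e2 e3) {f1 f2 f3 : Γ} (h1 : g * e1 = f1 * g) (h2 : g * e2 = f2 * g)
    (h3 : g * e3 = f3 * g) : ra2T ρ f1 f2 f3 := fun w hw => by
  have := H _ (ra2_conj (g := g⁻¹) (by rw [inv_mul_eq_iff_eq_mul, ← mul_assoc, h3, mul_inv_cancel_right]) hw)
  rw [← RM.ap_inv (ρ := ρ) g w, ← ra2_rel h1, ← ra2_rel h2, this.1, this.2]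
  exact ⟨rfl, rfl⟩

theorem ra2_zero (he : e ∈ LL m) (H : ra2F m ρ d) (hc : d * e = e * d) (h3 : d * (d * d) = 1) (hw : w ∈ ra2A ρ e) :
    w + ρ d w + ρ d (ρ d w) = 0 := by
  have h1 := H (w + ρ d w + ρ d (ρ d w)) (by rw [map_add, map_add, ra2_cube h3]; abel) e he
  have h2 := ra2_mem.1 (add_mem (add_mem hw (ra2_conj hc hw)) (ra2_conj hc (ra2_conj hc hw)))
  rw [h1, h1, add_self_zmod2] at h2
  exact h2.symm

theorem ra2_fix (he : e ∈ LL m) (e3 : e * (e * e) = 1) (h3 : h * (h * h) = 1) (hc : h * e = e * h)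
    (H1 : ra2F m ρ (h * e)) (H2 : ra2F m ρ (h * (e * e))) (hw : w ∈ ra2A ρ e) : ρ h w = w := by
  have c : Commute h e := hc
  have k : ∀ a, Commute h a → a ^ 3 = 1 → h * a * (h * a * (h * a)) = 1 := fun a c e => by
    rw [← pow_three, c.mul_pow, e, pow_three, h3, mul_one]
  have h1 := ra2_zero he H1 (c.mul_left (Commute.refl e)) (k e c ((pow_three e).trans e3)) hw
  have h2 := ra2_zero he H2 (c.mul_left ((Commute.refl e).mul_left (Commute.refl e))) (k _ (c.mul_right c)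
    (by rw [(Commute.refl e).mul_pow, pow_three, e3, mul_one])) hw
  have h4 := congrArg (ρ h) (ra2_mem.1 hw)
  have h5 := congrArg (ρ h) h4
  simp only [RM.mul, ra2_rel hc.symm, ra2_cube e3, map_add] at h1 h2 h4 h5
  exact ra2_inj h (eq_of_add_eq_zero_zmod2 (by linear_combination h1 + h2 - h4 - h5 - add_self_zmod2 w))

theorem ra2_sep (T1 : ra2T ρ e2 e3 e1) (T2 : ra2T ρ e3 e1 e2) (T3 : ra2T ρ e1 e2 e3) {f w1 w2 w3 : V8}
    (f1 : ρ e1 f = f) (f2 : ρ e2 f = f) (f3 : ρ e3 f = f) (h1 : w1 ∈ ra2A ρ e1) (h2 : w2 ∈ ra2A ρ e2)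
    (h3 : w3 ∈ ra2A ρ e3) (h : f + w1 + w2 + w3 = 0) : f = 0 ∧ w1 = 0 ∧ w2 = 0 ∧ w3 = 0 := by
  have k : ∀ {e : Γ} {a b : V8}, ρ e a = a → b ∈ ra2A ρ e → a + b = 0 → b = 0 := fun ha hb e => by
    have := ra2_mem.1 hb
    rw [← eq_of_add_eq_zero_zmod2 e, ha, ha, add_self_zmod2] at this
    rw [← eq_of_add_eq_zero_zmod2 e, ← this]
  have a1 := k (a := f + w2 + w3) (by rw [map_add, map_add, f1, (T2 _ h2).2, (T3 _ h3).1]) h1
    (by linear_combination h)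
  have a2 := k (a := f + w1 + w3) (by rw [map_add, map_add, f2, (T1 _ h1).1, (T3 _ h3).2]) h2
    (by linear_combination h)
  have a3 := k (a := f + w1 + w2) (by rw [map_add, map_add, f3, (T1 _ h1).2, (T2 _ h2).1]) h3 h
  exact ⟨by simpa [a1, a2, a3] using h, a1, a2, a3⟩

theorem ra2_out (h3 : e * (e * e) = 1) (v : V8) : ρ e v + ρ e (ρ e v) ∈ ra2A ρ e := by
  simp only [ra2_mem, map_add, ra2_cube h3]
  linear_combination add_self_zmod2 v

theorem ra2_ne (hw : w ∈ ra2A ρ e) (h0 : w ≠ 0) : ρ e w ≠ w := fun e => by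
  rw [ra2_mem, e, e, add_self_zmod2] at hw
  exact h0 hw.symm

theorem ra2_ex (R : RM m ρ B q) (h3 : e * (e * e) = 1) (h1 : e ≠ 1) : ∃ w ∈ ra2A ρ e, w ≠ 0 := by
  by_contra! h
  exact h1 (R.faith e fun v => (ra2_inj e (eq_of_add_eq_zero_zmod2 (h _ (ra2_out h3 v)))).symm)

theorem ra2_exfix (R : RM m ρ B q) (h3 : e * (e * e) = 1) (h1 : e ≠ 1) (h2 : y * y = 1)
    (hy : ∀ w ∈ ra2A ρ e, ρ y w ∈ ra2A ρ e) : ∃ w ∈ ra2A ρ e, w ≠ 0 ∧ ρ y w = w := by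
  obtain ⟨w, hw, h0⟩ := ra2_ex R h3 h1
  by_cases e : ρ y w = w
  · exact ⟨w, hw, h0, e⟩
  · refine ⟨_, add_mem (hy w hw) hw, fun e' => e (eq_of_add_eq_zero_zmod2 e'), ?_⟩
    rw [map_add, ← RM.mul, h2, map_one, add_comm]; rfl

theorem ra2_q (R : RM m ρ B q) (h3 : e * (e * e) = 1) (h4 : Nat.card (ra2A ρ e) ≤ 4) (hw : w ∈ ra2A ρ e)
    (hq : q w = 0) : w = 0 := by
  by_contra h0
  have h1 : ρ e w ∈ ra2A ρ e := ra2_conj rfl hw
  have h2 : ρ e w ≠ 0 := fun e' => h0 (ra2_inj e (e'.trans (map_zero _).symm))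
  have h5 := (ra2_ne hw h0).symm
  have h6 : Nat.card (ra2A ρ e) = 4 := by
    obtain ⟨k, -, hk, -⟩ := card_sub (ra2A ρ e)
    have := Fintype.ofFinite (ra2A ρ e)
    have := List.Nodup.length_le_card (l := [(⟨w, hw⟩ : ra2A ρ e), 0, ⟨_, h1⟩]) (by
      simp [Subtype.ext_iff, h0, h2.symm, h5])
    rw [← Nat.card_eq_fintype_card, hk] at this
    rw [hk] at h4 ⊢
    have h7 : k ≤ 2 := (Nat.pow_le_pow_iff_right one_lt_two).1 (h4.trans_eq (by norm_num))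
    interval_cases k <;> simp_all
  have h7 : B w (ρ e w) = 0 := by
    have := R.hq w (ρ e w)
    rwa [show w + ρ e w = ρ e (ρ e w) by linear_combination add_self_zmod2 (ρ e w) - ra2_mem.1 hw, R.inv, R.inv, hq,
      zero_add, zero_add, eq_comm] at this
  refine h0 (R.hN w fun v => ?_)
  have h8 : ρ e (v + (ρ e v + ρ e (ρ e v))) = v + (ρ e v + ρ e (ρ e v)) := by
    rw [map_add, map_add, ra2_cube h3]; abel
  have h9 : B (v + (ρ e v + ρ e (ρ e v))) w = 0 := by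
    rw [← ra2_mem.1 hw, map_add, R.Bfix h8, R.Bfix h8, R.Bfix h8, zmod2_add_self]
  rw [quad2_symm R.hq, map_add] at h9
  rcases four h6 hw h1 (ra2_out h3 v) h0 h2 h5 with e | e | e | e <;>
    simpa only [e, map_zero, map_add, h7, quad2_isAlt R.hq w, add_zero] using h9

theorem ra2_card (e : g * y = h * g) : Nat.card (Fx (ρ y)) ≤ Nat.card (Fx (ρ h)) :=
  Nat.card_le_card_of_injective (fun v => (⟨ρ g v, mem_Fx.2 (by rw [← ra2_rel e, mem_Fx.1 v.2])⟩ : Fx (ρ h)))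
    fun _ _ e => Subtype.ext (ra2_inj g (congrArg Subtype.val e))

/-- the diagonal subgroup -/
theorem ra2_diag (R : RM m ρ B q) (hd : m d = d1) (H : ra2F m ρ d) : ∃ e1 e2 e3, m e1 = 4665747012502160130 ∧
    m e2 = 4665782128020816642 ∧ m e3 = 13871104650713498370 ∧ ra2T ρ e2 e3 e1 ∧ ra2T ρ e3 e1 e2 ∧ ra2T ρ e1 e2 e3 ∧
    Nat.card (ra2A ρ e3) ≤ 4 := by
  have M := R.md
  obtain ⟨e1, h1⟩ := M.exists_of_tw (l := [72, 68, 18, 17]) (A := 4665747012502160130) (by decide +kernel)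
  obtain ⟨e2, h2⟩ := M.exists_of_tw (l := [96, 80, 6, 5]) (A := 4665782128020816642) (by decide +kernel)
  obtain ⟨e3, h3⟩ := M.exists_of_tw (l := [112, 80, 6, 5]) (A := 13871104650713498370) (by decide +kernel)
  obtain ⟨p, hp⟩ := M.exists_of_tw (l := [68, 20]) (A := 577727665114448385) (by decide +kernel)
  obtain ⟨g1, a1⟩ := M.tvx 65 (by decide +kernel)
  obtain ⟨g2, a2⟩ := M.tvx 17 (by decide +kernel)
  obtain ⟨g3, a3⟩ := M.tvx 5 (by decide +kernel)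
  have r : e3 * (e3 * e3) = 1 ∧ e1 * e2 * (e1 * e2 * (e1 * e2)) = 1 ∧
      e1 * (e2 * e2) * (e1 * (e2 * e2) * (e1 * (e2 * e2))) = 1 ∧ e1 * e2 * e3 = e3 * (e1 * e2) ∧
      e1 * (e2 * e2) * e3 = e3 * (e1 * (e2 * e2)) ∧ d * (e1 * e2 * e3) = 1 ∧ g1 * d = e1 * e2 * (e3 * e3) * g1 ∧
      g2 * d = e1 * (e2 * e2) * e3 * g2 ∧ g3 * (d * d) = e1 * (e2 * e2) * (e3 * e3) * g3 ∧ d * (d * d) = 1 ∧
      p * e1 = e2 * p ∧ p * e2 = e3 * p ∧ p * e3 = e1 * p := by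
    simp only [← M.inj.eq_iff, M.mul, M.one, h1, h2, h3, hp, hd, a1, a2, a3]
    decide +kernel
  obtain ⟨r1, r2, r3, r4, r5, r6, r7, r8, r9, r10, p1, p2, p3⟩ := r
  have l : ∀ {e}, sl (m e) = false → e ∈ LL m := M.gen _
  have l1 : e1 ∈ LL m := l (by rw [h1]; decide +kernel)
  have l2 : e2 ∈ LL m := l (by rw [h2]; decide +kernel)
  have l3 : e3 ∈ LL m := l (by rw [h3]; decide +kernel)
  have T3 : ra2T ρ e1 e2 e3 := fun w hw => by
    have b1 := ra2_fix l3 r1 r2 r4 (H.inv r6) (H.conj M r7) hw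
    have b2 := ra2_fix l3 r1 r3 r5 (H.conj M r8) ((H.inv r10).conj M r9) hw
    rw [RM.mul] at b1
    rw [RM.mul, RM.mul] at b2
    have b3 := ra2_inj e2 (ra2_inj e1 (b2.trans b1.symm))
    exact ⟨by rwa [b3] at b1, b3⟩
  have T1 := T3.conj p1 p2 p3
  have T2 := T1.conj p2 p3 p1
  refine ⟨e1, e2, e3, h1, h2, h3, T1, T2, T3, ?_⟩
  have := Nat.card_le_card_of_injective (fun x : Fx (ρ d) × ra2A ρ e3 × ra2A ρ e3 × ra2A ρ e3 =>
    (x.1 : V8) + ρ p x.2.1 + ρ p (ρ p x.2.2.1) + x.2.2.2) fun x x' e => by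
      have f := H _ (mem_Fx.1 (sub_mem x.1.2 x'.1.2))
      obtain ⟨b1, b2, b3, b4⟩ := ra2_sep T1 T2 T3 (f _ l1) (f _ l2) (f _ l3) (ra2_conj p3 (sub_mem x.2.1.2 x'.2.1.2))
        (ra2_conj p1 (ra2_conj p3 (sub_mem x.2.2.1.2 x'.2.2.1.2))) (sub_mem x.2.2.2.2 x'.2.2.2.2)
        (by simp only [map_sub]; linear_combination e)
      simp only [map_sub, sub_eq_zero] at b1 b2 b3 b4
      exact Prod.ext (Subtype.ext b1) (Prod.ext (Subtype.ext (ra2_inj p b2))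
        (Prod.ext (Subtype.ext (ra2_inj p (ra2_inj p b3))) (Subtype.ext b4)))
  rw [Nat.card_prod, Nat.card_prod, Nat.card_prod, R.card_Fx hd, show Nat.card V8 = 256 by simp] at this
  by_contra! h
  have := Nat.mul_le_mul h (Nat.mul_le_mul h h)
  omega

theorem ra2_a (R : RM m ρ B q) (hy : m y ∈ [b0, c0, SG]) (hq : ∀ v, q (ρ y v + v) = 0)
    (hc : 32 ≤ Nat.card (Fx (ρ y))) : False := by
  have M := R.md
  rcases R.ident with ⟨d, hd, H⟩ | ⟨φ, P⟩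
  · obtain ⟨-, -, e, -, -, he, -, -, -, h4⟩ := ra2_diag R hd fun u hu γ hγ => H γ hγ u hu
    have r : e * (e * e) = 1 ∧ e ≠ 1 ∧ y * e = e * e * y := by
      simp only [Ne, ← M.inj.eq_iff, M.mul, M.one, he]
      exact (by decide +kernel : ∀ A ∈ [b0, c0, SG], _ ∧ _ ∧ mm A _ = mm _ A) _ hy
    have k : ∀ w ∈ ra2A ρ e, ρ y w = w := fun w hw =>
      eq_of_add_eq_zero_zmod2 (ra2_q R r.1 h4 (add_mem (ra2_anti r.1 r.2.2 hw) hw) (hq w))
    obtain ⟨w, hw, h0⟩ := ra2_ex R r.1 r.2.1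
    have := k _ (ra2_conj rfl hw)
    rw [ra2_rel r.2.2, RM.mul, k w hw] at this
    exact ra2_ne hw h0 (ra2_inj e this)
  · classical
    have h1 : (Fx (ρ y) : Set V8) ⊆ (((List.range 256).filter fun a => Nat.beq (ap (m y) a) a).toFinset.image φ :
        Finset V8) := fun v hv => by
      obtain ⟨a, ha, rfl⟩ := P.surj v
      have := P.inj _ (ap_lt _ _) a ha ((P.act y a ha).symm.trans (mem_Fx.1 hv))
      exact Finset.mem_coe.2 (Finset.mem_image_of_mem φ (by simp [ha, this]))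
    have h2 := (Set.ncard_le_ncard h1).trans ((Set.ncard_coe_finset _).le.trans (Finset.card_image_le.trans
      ((List.toFinset_card_le _).trans ((by decide +kernel : ∀ A ∈ [b0, c0, SG],
        ((List.range 256).filter fun a => Nat.beq (ap A a) a).length ≤ 16) _ hy))))
    rw [← Nat.card_coe_set_eq, SetLike.coe_sort_coe] at h2
    omega

theorem ra2_b (R : RM m ρ B q) (hd : m d = d1) (H : ra2F m ρ d) (hy : m y = b0) :
    64 ≤ Nat.card (Fx (ρ y)) ∧ Sp m ρ y d := by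
  have M := R.md
  obtain ⟨e1, e2, e3, h1, h2, h3, T1, T2, T3, -⟩ := ra2_diag R hd H
  obtain ⟨i, hi⟩ := M.exists_of_tw (l := [65, 20, 5]) (A := 144405478477144080) (by decide +kernel)
  have r : y * y = 1 ∧ (e1 * (e1 * e1) = 1 ∧ e1 ≠ 1 ∧ y * e1 = e1 * y) ∧
      (e2 * (e2 * e2) = 1 ∧ e2 ≠ 1 ∧ y * e2 = e2 * e2 * y) ∧ (e3 * (e3 * e3) = 1 ∧ e3 ≠ 1 ∧ y * e3 = e3 * e3 * y) ∧
      i * i = y ∧ d * (y * d * y) = y * d * y * d := by
    simp only [Ne, ← M.inj.eq_iff, M.mul, M.one, h1, h2, h3, hd, hy, hi]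
    decide +kernel
  obtain ⟨r0, r1, r2, r3, r4, r5⟩ := r
  have l : ∀ {e}, sl (m e) = false → e ∈ LL m := M.gen _
  have l1 : e1 ∈ LL m := l (by rw [h1]; decide +kernel)
  have l2 : e2 ∈ LL m := l (by rw [h2]; decide +kernel)
  have l3 : e3 ∈ LL m := l (by rw [h3]; decide +kernel)
  have l4 : i ∈ LL m := l (by rw [hi]; decide +kernel)
  refine ⟨?_, l (by rw [hd]; decide +kernel), R.d_cube hd, by rwa [inv_eq_of_mul_eq_one_right r0], i, l4, r4,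
    fun u hu => H u hu i l4⟩
  obtain ⟨u1, a1, a2, a3⟩ := ra2_exfix R r1.1 r1.2.1 r0 fun w => ra2_conj r1.2.2
  obtain ⟨u2, b1, b2, b3⟩ := ra2_exfix R r2.1 r2.2.1 r0 fun w => ra2_anti r2.1 r2.2.2
  obtain ⟨u3, c1, c2, c3⟩ := ra2_exfix R r3.1 r3.2.1 r0 fun w => ra2_anti r3.1 r3.2.2
  have a4 : ρ e1 u1 ≠ 0 := fun e => a2 (ra2_inj e1 (e.trans (map_zero _).symm))
  have a5 := ra2_ne a1 a2
  have := Nat.card_le_card_of_injective (fun x : Fx (ρ d) × ZMod 2 × ZMod 2 × ZMod 2 × ZMod 2 =>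
    (⟨(x.1 : V8) + (x.2.1 • u1 + x.2.2.1 • ρ e1 u1) + x.2.2.2.1 • u2 + x.2.2.2.2 • u3, mem_Fx.2 (by
      simp only [map_add, map_smul, ra2_rel r1.2.2, a3, b3, c3, H _ (mem_Fx.1 x.1.2) y (r4 ▸ mul_mem l4 l4)])⟩ :
      Fx (ρ y))) fun ⟨f, a, b, c, e⟩ ⟨f', a', b', c', e'⟩ h => by
      have k := H _ (mem_Fx.1 (sub_mem f.2 f'.2))
      obtain ⟨d1, d2, d3, d4⟩ := ra2_sep T1 T2 T3 (k _ l1) (k _ l2) (k _ l3)
        (add_mem (Submodule.smul_mem _ (a - a') a1) (Submodule.smul_mem _ (b - b') (ra2_conj rfl a1)))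
        (Submodule.smul_mem _ (c - c') b1) (Submodule.smul_mem _ (e - e') c1)
        (by simp only [sub_smul]; linear_combination congrArg Subtype.val h)
      have d5 : a - a' = 0 ∧ b - b' = 0 := by
        rcases zmod2_cases (a - a') with e | e <;> rcases zmod2_cases (b - b') with e' | e' <;>
          simp only [e, e', zero_smul, one_smul, add_zero, zero_add] at d2
        exacts [⟨e, e'⟩, (a4 d2).elim, (a2 d2).elim, (a5 (eq_of_add_eq_zero_zmod2 d2).symm).elim]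
      simp only [smul_eq_zero, b2, c2, or_false, sub_eq_zero] at d1 d3 d4 d5
      rw [Subtype.ext d1, d5.1, d5.2, d3, d4]
  simpa only [Nat.card_prod, R.card_Fx hd, Nat.card_zmod] using this

theorem ra2 : RA2.{v} := fun _ _ m ρ _ q R => by
  refine ⟨fun y h2 h1 hq hc => ?_, ?_⟩
  · have k : ∀ A ∈ [b0, c0, SG], ¬ Cj m y A := fun A hA ⟨g, e⟩ => ra2_a R (e ▸ hA) (fun v => by
      have := hq (ρ g⁻¹ v)
      rwa [← R.inv g, map_add, RM.ap_inv, ← RM.mul, ← RM.mul] at this)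
      (hc.trans (ra2_card (inv_mul_cancel_right _ g).symm))
    rcases R.md.types h2 with e | e | e | e | e
    exacts [(h1 e).elim, e, (k _ (by simp) e).elim, (k _ (by simp) e).elim, (k _ (by simp) e).elim]
  · rintro ⟨d, hd, H⟩ y ⟨g, e⟩
    obtain ⟨h1, h2, h3, h4, i, h5, h6, h7⟩ := ra2_b R hd (fun u hu γ hγ => H γ hγ u hu) e
    have N := R.md.normal
    refine ⟨h1.trans (ra2_card (g := g⁻¹) (by group)), g⁻¹ * d * g, N.conj_mem' d h2 g, ?_, ?_, g⁻¹ * i * g,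
      N.conj_mem' i h5 g, ?_, fun u hu => ?_⟩
    · simpa using conj_pow (a := g⁻¹) (b := d) (i := 3) |>.trans (by rw [h3]; group)
    · have := h4.map (MulAut.conj g⁻¹)
      simpa [mul_assoc] using this
    · calc _ = g⁻¹ * (i * i) * g := by group
        _ = y := by rw [h6]; group
    · rw [RM.mul, RM.mul] at hu ⊢
      rw [h7 _ (by rw [← RM.ap_inv (ρ := ρ) g (ρ d _), hu]), RM.inv_ap]

end CL.Fc
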