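/-
Centralisers `(2² × 2^{1+8}).(3 × U₄(2)).2`: the case that `z` is isolated in the centralisers of the other
involutions of `Z`.
-/
import Cfsg.Agent.Spor.FcB

set_option autoImplicit false

namespace CL.Fc

open Subgroup CL.Even CL.Grp CL.U6 CL.MT Cfsg

universe u v

variable {G : Type u} {Γ : Type v} [Group G] [Group Γ]

namespace TG

theorem exists_fix (S : TM G Γ) {p : G} (hp : Commute p S.z) (h2 : p * p = 1) : ∃ e ∈ S.V, e ≠ 1 ∧ Commute p e := by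
  have h1 := S.nV hp S.vV
  by_cases h : p * S.v * p⁻¹ = S.v
  · exact ⟨_, S.vV, S.v1, mul_inv_eq_iff_eq_mul.1 h⟩
  refine ⟨_, mul_mem S.vV h1, fun e => h (by rw [eq_inv_of_mul_eq_one_right e, S.Zinv S.vZ]),
    mul_inv_eq_iff_eq_mul.1 ?_⟩
  calc p * (S.v * (p * S.v * p⁻¹)) * p⁻¹ = p * S.v * p⁻¹ * (p * p * S.v * (p * p)⁻¹) := by group
    _ = _ := by rw [h2, one_mul, inv_one, mul_one, (S.Zc S.vZ (S.ZJ (S.VZ h1))).eq]

theorem V_cases (S : TM G Γ) {e f u : G} (he : e ∈ S.V) (hf : f ∈ S.V) (e1 : e ≠ 1) (f1 : f ≠ 1) (ef : e ≠ f)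
    (hu : u ∈ S.V) : u = 1 ∨ u = e ∨ u = f ∨ u = e * f := by
  classical
  have h1 : e * f ≠ 1 := fun h => ef (by rw [eq_inv_of_mul_eq_one_left h, S.Zinv (S.VZ hf)])
  have h2 : (({1, e, f, e * f} : Finset G) : Set G) = S.V := by
    refine Set.eq_of_subset_of_ncard_le (fun a ha => ?_) ?_ (Nat.finite_of_card_ne_zero (by
      rw [SetLike.coe_sort_coe, S.card_V]; norm_num))
    · simp only [Finset.coe_insert, Finset.coe_singleton, Set.mem_insert_iff, Set.mem_singleton_iff] at ha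
      rcases ha with rfl | rfl | rfl | rfl
      exacts [one_mem _, he, hf, mul_mem he hf]
    · rw [Set.ncard_coe_finset, ← Nat.card_coe_set_eq, SetLike.coe_sort_coe, S.card_V]
      simp [Finset.card_insert_of_notMem, e1, e1.symm, f1, f1.symm, h1.symm, ef]
  simpa using (h2 ▸ hu : u ∈ (({1, e, f, e * f} : Finset G) : Set G))

theorem exists_cent (S : TM G Γ) {a b : G} (ha : Commute a S.z) (hb : Commute b S.z) (a2 : a * a = 1)
    (hab : Commute a b) : ∃ y, (y = a ∨ y = b ∨ y = a * b) ∧ ∀ u ∈ S.V, Commute y u := by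
  obtain ⟨e, he, e1, ae⟩ := exists_fix S ha a2
  have key : ∀ {y f : G}, f ∈ S.V → f ≠ 1 → e ≠ f → Commute y e → Commute y f → ∀ u ∈ S.V, Commute y u :=
    fun {y f} hf f1 ef h1 h2 u hu => by
      rcases V_cases S he hf e1 f1 ef hu with rfl | rfl | rfl | rfl
      exacts [Commute.one_right _, h1, h2, h1.mul_right h2]
  by_cases be : b * e * b⁻¹ = e
  swap
  · exact ⟨a, .inl rfl, key (S.nV hb he) (by simpa using e1) (Ne.symm be)
      ae ((hab.mul_right ae).mul_right hab.inv_right)⟩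
  obtain ⟨f, hf, f1, ef⟩ : ∃ f ∈ S.V, f ≠ 1 ∧ e ≠ f := by
    by_cases h : e = S.v
    exacts [⟨_, S.wV, S.w1, h ▸ S.cv.symm⟩, ⟨_, S.vV, S.v1, h⟩]
  have two : ∀ {y : G}, Commute y S.z → Commute y e → Commute y f ∨ y * f * y⁻¹ = e * f := fun {y} hy ye => by
    rcases V_cases S he hf e1 f1 ef (S.nV hy hf) with h | h | h | h
    · exact absurd (by simpa using h) f1
    · exact absurd (by simpa using (conj_eq_of_commute ye).trans h.symm) ef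
    · exact .inl (mul_inv_eq_iff_eq_mul.1 h)
    · exact .inr h
  have be' : Commute b e := mul_inv_eq_iff_eq_mul.1 be
  rcases two ha ae with h1 | h1
  · exact ⟨a, .inl rfl, key hf f1 ef ae h1⟩
  rcases two hb be' with h2 | h2
  · exact ⟨b, .inr (.inl rfl), key hf f1 ef be' h2⟩
  refine ⟨a * b, .inr (.inr rfl), key hf f1 ef (ae.mul_left be') (mul_inv_eq_iff_eq_mul.1 ?_)⟩
  calc a * b * f * (a * b)⁻¹ = a * (b * f * b⁻¹) * a⁻¹ := by group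
    _ = a * e * a⁻¹ * (a * f * a⁻¹) := by rw [h2]; group
    _ = f := by rw [h1, conj_eq_of_commute ae, ← mul_assoc, S.Zsq (S.VZ he), one_mul]

theorem hB [Finite G] (S : TM G Γ) (h1 : Isl S.z S.v) (h2 : Isl S.z (S.z * S.v)) {g : G} (hx : g * S.z * g⁻¹ ≠ S.z)
    (hc : Commute (g * S.z * g⁻¹) S.z) : ∀ y ∈ S.Z, y ≠ 1 → ∀ c, Commute c y → Commute c S.z := by
  obtain ⟨e, he, e1, xe⟩ := exists_fix S hc (S.toGM.conj g).zz
  obtain ⟨h, hz, rfl⟩ := S.conjV he e1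
  have hz' := conj_eq_of_commute hz
  have e0 : h * (h⁻¹ * g * S.z * (h⁻¹ * g)⁻¹) * h⁻¹ = g * S.z * g⁻¹ := by group
  have x1 : h⁻¹ * g * S.z * (h⁻¹ * g)⁻¹ ≠ S.z := fun e => hx (by rw [← e0, e, hz'])
  have x2 : Commute (h⁻¹ * g * S.z * (h⁻¹ * g)⁻¹) S.z := commute_of_conj (g := h) (by rwa [e0, hz'])
  have x3 : Commute (h⁻¹ * g * S.z * (h⁻¹ * g)⁻¹) S.v := commute_of_conj (g := h) (by rwa [e0])
  have k1 : ∀ c, Commute c S.v → Commute c S.z := fun c =>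
    S.big.cent_le S.vZ h1 (fun c a b => S.hH.2 ⟨a, b⟩) x1 x2 x3
  have k2 : ∀ c, Commute c (S.z * S.v) → Commute c S.z := fun c =>
    S.big.cent_le S.zvZ h2 (fun c a b => S.hH.2 ⟨a, by simpa using a.inv_right.mul_right b⟩) x1 x2 (x2.mul_right x3)
  have k3 : ∀ {k y c : G}, Commute k S.z → (∀ c, Commute c y → Commute c S.z) → Commute c (k * y * k⁻¹) →
      Commute c S.z := fun {k y c} hk hy hc => by
    have := (hk.mul_left (hy (k⁻¹ * c * k) (commute_of_conj (g := k) (by simpa [mul_assoc] using hc)))).mul_left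
      hk.inv_left
    simpa [mul_assoc] using this
  intro y hy y1 c hcy
  rcases S.mem_Z.1 hy with hy | hy
  · obtain ⟨k, hk, rfl⟩ := S.conjV hy y1
    exact k3 hk k1 hcy
  · by_cases e : y * S.z = 1
    · rwa [eq_inv_of_mul_eq_one_left e, S.Zinv S.zZ] at hcy
    obtain ⟨k, hk, e⟩ := S.conjV hy e
    refine k3 hk k2 (y := S.z * S.v) ?_
    have : k * (S.z * S.v) * k⁻¹ = y := by
      calc k * (S.z * S.v) * k⁻¹ = k * S.z * k⁻¹ * (k * S.v * k⁻¹) := by group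
        _ = y := by rw [e, conj_eq_of_commute hk, (S.Zc ‹y ∈ S.Z› S.zJ).eq, ← mul_assoc, S.zz, one_mul]
    rwa [this]

/-- Two commuting conjugates. -/
structure Pr (S S' : TM G Γ) : Prop where
  c : Commute S'.z S.z
  hB : ∀ y ∈ S.Z, y ≠ 1 → ∀ c, Commute c y → Commute c S.z
  hB' : ∀ y ∈ S'.Z, y ≠ 1 → ∀ c, Commute c y → Commute c S'.z
  ti : ∀ {y}, y ∈ S.Z → y ∈ S'.Z → y = 1
  nc : ∀ {y}, y ∈ S'.Z → y ≠ S'.z → y ∈ S.J → y ∈ S.Z
  nc' : ∀ {y}, y ∈ S.Z → y ≠ S.z → y ∈ S'.J → y ∈ S'.Z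

namespace Pr

variable {S S' : TM G Γ} (h : Pr S S')
include h

theorem symm : Pr S' S := ⟨h.c.symm, h.hB', h.hB, fun a b => h.ti b a, h.nc', h.nc⟩

theorem cz {y : G} (hy : y ∈ S'.Z) : Commute y S.z := by
  obtain ⟨e, he, e1, xe⟩ := exists_fix S h.c S'.zz
  obtain ⟨w, hw, hc⟩ := exists_cent S' h.c.symm xe.symm S.zz (S.Zc S.zZ (S.ZJ (S.VZ he)))
  have h1 : w ∈ S.Z ∧ w ≠ 1 ∧ Commute w S'.z := by
    rcases hw with rfl | rfl | rfl
    · exact ⟨S.zZ, S.z1, h.c.symm⟩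
    · exact ⟨S.VZ he, e1, xe.symm⟩
    · exact ⟨mul_mem S.zZ (S.VZ he), fun e => S.zV (eq_inv_of_mul_eq_one_left e ▸ inv_mem he),
        h.c.symm.mul_left xe.symm⟩
  exact h.hB w h1.1 h1.2.1 y (S'.comm_Z h1.2.2 hc y hy).symm

variable [Finite G]

theorem cZ {y : G} (hy : y ∈ S'.Z) : ∀ e ∈ S.Z, Commute y e := fun e he => by
  have h1 : y * e * y⁻¹ * e⁻¹ = 1 := h.ti (mul_mem (S.big.nZ (h.cz hy) he) (inv_mem he)) (by
    have := mul_mem hy (S'.big.nZ (h.symm.cz he) (inv_mem hy))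
    simpa only [mul_assoc] using this)
  exact mul_inv_eq_iff_eq_mul.1 (mul_inv_eq_one.1 h1)

theorem ZH : S'.Z ≤ S.H := fun _ hy => (S.sl_of_comm (h.cZ hy)).1

theorem cJ {j : G} (hj : j ∈ S.J) (hc : Commute j S'.z) : ∀ e ∈ S'.Z, Commute j e := S'.comm_Z hc fun e he => by
  have h1 : j * e * j⁻¹ * e⁻¹ ∈ S'.V := mul_mem (S'.nV hc he) (inv_mem he)
  have h2 : j * e * j⁻¹ * e⁻¹ = 1 := h.ti (h.nc (S'.VZ h1) (fun e => S'.zV (e ▸ h1)) (by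
    have := mul_mem hj (S.norm (h.ZH (S'.VZ he)) (inv_mem hj))
    simpa only [mul_assoc] using this)) (S'.VZ h1)
  exact mul_inv_eq_iff_eq_mul.1 (mul_inv_eq_one.1 h2)

theorem eq_one {y : G} (hy : y ∈ S'.Z) (hJ : y ∈ S.J) : y = 1 := by
  by_cases e : y = S'.z
  swap
  · exact h.ti (h.nc hy e hJ) hy
  subst e
  rcases S.mf6 hJ S'.zz (h.ZH S'.vZ) fun j hj hc => h.cJ hj hc _ S'.vZ with e | e
  · exact absurd (h.ti e S'.vZ) S'.v1
  · exact absurd (eq_inv_of_mul_eq_one_right (h.ti e (mul_mem S'.vZ hy)) ▸ inv_mem S'.vV) S'.zV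

theorem false (d : MD.{v}) (m1 : MF1.{u, v}) (m2 : MF2.{u, v}) : False := by
  have hY : ∀ w ∈ S'.Z, w ≠ 1 → ∀ j ∈ S.J, Commute j w ↔ j ∈ S.J ⊓ 𝒞(S'.Z) := fun w hw w1 j hj =>
    ⟨fun hc => ⟨hj, fun e he => (h.cJ hj (h.hB' w hw w1 j hc) e he).symm⟩, fun hc => (hc.2 w hw).symm⟩
  obtain ⟨I, hI, cI⟩ := S.exists_im h.ZH
  rw [S'.card_Z, show S'.Z ⊓ S.J = ⊥ from eq_bot_iff.2 fun y hy => mem_bot.2 (h.eq_one hy.1 hy.2), card_bot,
    one_mul] at cI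
  obtain ⟨a, ha, tv⟩ := (d Γ S.m S.md).2.1 I (fun a ha => by
    obtain ⟨y, hy, rfl⟩ := (hI a).1 ha
    exact S.md.mem_LL.2 (S.sl_of_comm (h.cZ hy)).2) (fun a ha => by
    obtain ⟨y, hy, rfl⟩ := (hI a).1 ha
    exact S.r_sq (h.ZH hy) (S'.Zsq hy ▸ one_mem _)) cI.le
  obtain ⟨y, hy, rfl⟩ := (hI a).1 ha
  have y1 : y ≠ 1 := by
    rintro rfl
    obtain ⟨v, hv, e⟩ := tv
    exact S.md.tv_ne hv e S.r_one
  have c1 := m1 G Γ S.toGM y (h.ZH hy) (S'.Zsq hy) tv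
  rw [show S.J ⊓ centralizer {y} = S.J ⊓ 𝒞(S'.Z) from Subgroup.ext fun j =>
    ⟨fun hj => (hY y hy y1 j hj.1).1 (mem_cent_singleton.1 hj.2),
      fun hj => ⟨hj.1, mem_cent_singleton.2 ((hY y hy y1 j hj.1).2 hj)⟩⟩] at c1
  have hs : ∀ j ∈ S.J ⊓ 𝒞(S'.Z), j ∈ S'.H ∧ sl (S'.m (S'.r j)) = Bool.false := fun j hj =>
    S'.sl_of_comm fun e he => (hj.2 e he).symm
  obtain ⟨I', hI', cI'⟩ := S'.exists_im (E := S.J ⊓ 𝒞(S'.Z)) fun j hj => (hs j hj).1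
  have c2 := (d Γ S'.m S'.md).2.2.1 I' (fun a ha => by
    obtain ⟨j, hj, rfl⟩ := (hI' a).1 ha
    exact S'.md.mem_LL.2 (hs j hj).2) (by
    obtain ⟨k, hk⟩ := IsPGroup.iff_card.1 (S.isPGroup.to_inf_left (K := 𝒞(S'.Z)))
    obtain ⟨l, -, hl⟩ := (Nat.dvd_prime_pow Nat.prime_two).1 (hk ▸ Dvd.intro_left _ cI'.symm)
    exact IsPGroup.of_card hl)
  have xv : S'.z * S'.v ≠ 1 := fun e => S'.zV (eq_inv_of_mul_eq_one_left e ▸ inv_mem S'.vV)
  refine S.fin m2 (Y := S.J ⊓ 𝒞(S'.Z)) (A := S.J ⊓ 𝒞(S'.Z) ⊓ S'.J) (h.ZH S'.zZ) (h.ZH S'.vZ) S'.zz (S'.Zsq S'.vZ)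
    (S'.Zc S'.zZ (S'.ZJ S'.vZ)) (fun w hw => ?_) (fun e he => ⟨S.ZJ he, fun y hy => h.cZ hy e he⟩) inf_le_left
    inf_le_left (fun b hb j hj => ?_) (eq_bot_iff.2 fun y hy => mem_bot.2 (h.symm.eq_one hy.2 hy.1.2)) c1 ?_
  · have : w ∈ S'.Z ∧ w ≠ 1 := by
      simp only [List.mem_cons, List.not_mem_nil, or_false] at hw
      rcases hw with rfl | rfl | rfl
      exacts [⟨S'.zZ, S'.z1⟩, ⟨S'.vZ, S'.v1⟩, ⟨S'.zvZ, xv⟩]
    exact ⟨fun e => this.2 (h.eq_one this.1 e), hY w this.1 this.2⟩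
  · refine (S.conj_J hj.1 hb.1.1).resolve_right fun e => S.z1 (h.symm.eq_one S.zZ ?_)
    exact (mul_mem_cancel_left (show b ∈ S'.J from hb.2)).1 (e ▸ S'.nJ (hj.2 _ S'.zZ).symm hb.2)
  · rw [S.card_Z, cI', mul_comm]
    exact Nat.mul_le_mul_right _ c2

end Pr

end TG

theorem tg (d : MD.{v}) (m1 : MF1.{u, v}) (m2 : MF2.{u, v}) : TG.{u, v} := by
  intro G Γ _ _ _ S h1 h2
  refine ⟨S.ord, fun g hc => by_contra fun hx => ?_⟩
  have hB := TG.hB S h1 h2 hx hc.symm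
  have hB' := GM.Big.hB_conj hB g
  refine TG.Pr.false (S := S) (S' := S.conj g) ⟨hc.symm, hB, hB', fun a b => S.big.ti hB hx a b, ?_, ?_⟩ d m1 m2
  · rintro _ ⟨y, hy, rfl⟩ e hJ
    exact S.big.nc hB hy (fun e' => e (by rw [e']; rfl)) hJ
  · intro y hy e hJ
    have := (S.conj g).big.nc hB' (k := g⁻¹) (y := g * y * g⁻¹) (conj_mem_cj g hy)
      (fun e' => e (by simpa [TM.conj, GM.conj_z] using e')) (by simpa [mul_assoc] using hJ)
    simpa [mul_assoc] using this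

end CL.Fc
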