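/-
A standard permutation model (PSp, dimension 6, field with 2 elements): degree 63, order 1451520.
Generated by tools/pg.
-/
import Cfsg.Agent.Spor.PGCls
import Cfsg.Agent.Spor.PGCtx

set_option autoImplicit false
set_option maxRecDepth 200000
set_option Elab.async false
set_option linter.unusedVariables false

namespace CL.Std.PS62.M
open CL.PG

def P : Par := ⟨63, 64, 6, 3⟩
theorem hP : P.Ok := by decide
noncomputable def a0 : Net := (.cons 32 (nat_lit 0x78787858)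
 (.cons 16 (nat_lit 0x8020)
 (.cons 8 (nat_lit 0x8000a00080)
 (.cons 4 (nat_lit 0x50505050000)
 (.cons 2 (nat_lit 0x331333330020)
 (.cons 8 (nat_lit 0x8000000080)
 (.cons 32 (nat_lit 0x78787858)
 .nil)))))))
noncomputable def a1 : Net := (.cons 16 (nat_lit 0x800000008000)
 (.cons 8 (nat_lit 0x80008000800080)
 (.cons 4 (nat_lit 0xc0c00000c0c00)
 (.cons 1 (nat_lit 0x55550000555500)
 (.cons 8 (nat_lit 0x80008000800080)
 (.cons 16 (nat_lit 0x800000008000)
 .nil))))))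
noncomputable def a2 : Net := (.cons 32 (nat_lit 0x78787868)
 (.cons 16 (nat_lit 0x800000008000)
 (.cons 8 (nat_lit 0x80000000800090)
 (.cons 4 (nat_lit 0x6000606000600)
 (.cons 2 (nat_lit 0x33002333003320)
 (.cons 1 (nat_lit 0x55004555005510)
 (.cons 2 (nat_lit 0x2000000020)
 (.cons 8 (nat_lit 0x80000000800000)
 (.cons 16 (nat_lit 0x800000008000)
 (.cons 32 (nat_lit 0x78787868)
 .nil))))))))))
noncomputable def a3 : Net := (.cons 8 (nat_lit 0x54005400540054)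
 (.cons 4 (nat_lit 0x808080808080808)
 (.cons 2 (nat_lit 0x3202320232023202)
 (.cons 1 (nat_lit 0x5401540154015401)
 (.cons 2 (nat_lit 0x202020202020202)
 (.cons 4 (nat_lit 0x808080808080808)
 (.cons 8 (nat_lit 0x54005400540054)
 .nil)))))))
noncomputable def a4 : Net := (.cons 16 (nat_lit 0x666600006666)
 .nil)
noncomputable def a5 : Net := (.cons 8 (nat_lit 0x55005500550055)
 .nil)
noncomputable def a6 : Net := (.cons 32 (nat_lit 0x2d52d2ad)
 (.cons 16 (nat_lit 0x800000008000)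
 (.cons 8 (nat_lit 0x62006200620062)
 (.cons 4 (nat_lit 0xc00000c0c00000c)
 (.cons 1 (nat_lit 0x4510104545101045)
 (.cons 8 (nat_lit 0x62006200620062)
 (.cons 16 (nat_lit 0x800000008000)
 .nil)))))))
noncomputable def a7 : Net := (.cons 32 (nat_lit 0xcb4b4b4b)
 (.cons 16 (nat_lit 0xd87c00006878)
 (.cons 8 (nat_lit 0x2a002a00d500d5)
 (.cons 4 (nat_lit 0xd0d0d0d02020202)
 (.cons 2 (nat_lit 0x2102213212011231)
 (.cons 1 (nat_lit 0x1451410441041451)
 (.cons 2 (nat_lit 0x2202220222022202)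
 (.cons 4 (nat_lit 0x404040404040404)
 (.cons 8 (nat_lit 0xf800f800f800f8)
 (.cons 16 (nat_lit 0x6f8000006f80)
 (.cons 32 (nat_lit 0x80000000)
 .nil)))))))))))
noncomputable def a8 : Net := (.cons 32 (nat_lit 0x552aaaf5)
 (.cons 16 (nat_lit 0x9e1e00009e1e)
 (.cons 8 (nat_lit 0xd500d500d500d5)
 (.cons 4 (nat_lit 0x807080407080704)
 (.cons 2 (nat_lit 0x3333331300000020)
 (.cons 1 (nat_lit 0x505501405055014)
 (.cons 4 (nat_lit 0x808080408080804)
 (.cons 8 (nat_lit 0x80008000800080)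
 (.cons 16 (nat_lit 0x800000008000)
 (.cons 32 (nat_lit 0x78787868)
 .nil))))))))))
noncomputable def a9 : Net := (.cons 32 (nat_lit 0x9e61e19e)
 (.cons 16 (nat_lit 0x99e6000099e6)
 (.cons 8 (nat_lit 0x80008000800080)
 (.cons 4 (nat_lit 0x807080707080708)
 (.cons 2 (nat_lit 0x2112122112212112)
 (.cons 1 (nat_lit 0x1441411414414114)
 (.cons 2 (nat_lit 0x2222222222222222)
 (.cons 4 (nat_lit 0x808080808080808)
 (.cons 8 (nat_lit 0x80008000800080)
 (.cons 16 (nat_lit 0x800000008000)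
 (.cons 32 (nat_lit 0x80000000)
 .nil)))))))))))
noncomputable def a10 : Net := (.cons 32 (nat_lit 0xe19e619e)
 (.cons 16 (nat_lit 0x7feb00000020)
 (.cons 8 (nat_lit 0x840090000000a0)
 (.cons 4 (nat_lit 0xd010201020e0d0e)
 (.cons 2 (nat_lit 0x2113122012232110)
 (.cons 1 (nat_lit 0x4141414114141414)
 (.cons 2 (nat_lit 0x22002200220022)
 (.cons 4 (nat_lit 0x40e040e040e040e)
 (.cons 16 (nat_lit 0x783800007838)
 (.cons 32 (nat_lit 0x80000000)
 .nil))))))))))
noncomputable def a11 : Net := (.cons 32 (nat_lit 0x40)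
 (.cons 16 (nat_lit 0x800000008000)
 (.cons 8 (nat_lit 0x80008000800080)
 (.cons 4 (nat_lit 0x6090c030a050f00)
 (.cons 2 (nat_lit 0x3333000033330000)
 (.cons 1 (nat_lit 0x5555551500000040)
 (.cons 8 (nat_lit 0x80008000800080)
 (.cons 16 (nat_lit 0x800000008000)
 (.cons 32 (nat_lit 0x78787838)
 .nil)))))))))
noncomputable def a12 : Net := (.cons 32 (nat_lit 0x8)
 (.cons 16 (nat_lit 0x800000008000)
 (.cons 8 (nat_lit 0x80008000800080)
 (.cons 4 (nat_lit 0x6030507090c0a08)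
 (.cons 2 (nat_lit 0x3300330033003300)
 (.cons 1 (nat_lit 0x5555000055550000)
 (.cons 8 (nat_lit 0x80008000800080)
 (.cons 16 (nat_lit 0x800000008000)
 (.cons 32 (nat_lit 0x78787870)
 .nil)))))))))
noncomputable def a13 : Net := (.cons 32 (nat_lit 0x7f807f0)
 (.cons 16 (nat_lit 0x800000008000)
 (.cons 8 (nat_lit 0x80008000800080)
 (.cons 4 (nat_lit 0x807080f07080700)
 (.cons 2 (nat_lit 0x330033003300330)
 (.cons 1 (nat_lit 0x505505005055050)
 (.cons 4 (nat_lit 0x808080808080808)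
 (.cons 8 (nat_lit 0x80008000800080)
 (.cons 16 (nat_lit 0x800000008000)
 (.cons 32 (nat_lit 0x78787868)
 .nil))))))))))
noncomputable def a14 : Net := (.cons 32 (nat_lit 0x80000000)
 (.cons 16 (nat_lit 0x800000008000)
 (.cons 8 (nat_lit 0x80008000800080)
 (.cons 4 (nat_lit 0x900030503050900)
 (.cons 2 (nat_lit 0x3300003300333300)
 (.cons 1 (nat_lit 0x5500550055005500)
 (.cons 8 (nat_lit 0x80008000800080)
 (.cons 16 (nat_lit 0x800000008000)
 (.cons 32 (nat_lit 0x80000000)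
 .nil)))))))))
noncomputable def a15 : Net := (.cons 32 (nat_lit 0x80000000)
 (.cons 16 (nat_lit 0x800000008000)
 (.cons 8 (nat_lit 0x80008000800080)
 (.cons 4 (nat_lit 0x9050f0c0a060300)
 (.cons 2 (nat_lit 0x3333000033330000)
 (.cons 1 (nat_lit 0x5500005500555500)
 (.cons 8 (nat_lit 0x80008000800080)
 (.cons 16 (nat_lit 0x800000008000)
 (.cons 32 (nat_lit 0x80000000)
 .nil)))))))))
noncomputable def a16 : Net := (.cons 32 (nat_lit 0x80000000)
 (.cons 16 (nat_lit 0x801000000000)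
 (.cons 8 (nat_lit 0x80008000800080)
 (.cons 4 (nat_lit 0x90609060f000f00)
 (.cons 2 (nat_lit 0x3333333300000000)
 (.cons 1 (nat_lit 0x5555555500000000)
 (.cons 8 (nat_lit 0x80008000800080)
 (.cons 32 (nat_lit 0x80000000)
 .nil))))))))
noncomputable def a17 : Net := (.cons 16 (nat_lit 0x800000008000)
 (.cons 8 (nat_lit 0x80008000800080)
 (.cons 4 (nat_lit 0xa090c000a090c00)
 (.cons 2 (nat_lit 0x3333000033330000)
 (.cons 1 (nat_lit 0x55550000555500)
 (.cons 8 (nat_lit 0x80008000800080)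
 (.cons 16 (nat_lit 0x800000008000)
 .nil)))))))
noncomputable def a18 : Net := (.cons 32 (nat_lit 0x80000000)
 (.cons 16 (nat_lit 0x800000008000)
 (.cons 8 (nat_lit 0x80008000800080)
 (.cons 4 (nat_lit 0x60f0c0a03050900)
 (.cons 2 (nat_lit 0x3300003300333300)
 (.cons 1 (nat_lit 0x5500550055005500)
 (.cons 8 (nat_lit 0x80008000800080)
 (.cons 16 (nat_lit 0x800000008000)
 (.cons 32 (nat_lit 0x80000000)
 .nil)))))))))
noncomputable def a19 : Net := (.cons 32 (nat_lit 0x80000000)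
 (.cons 16 (nat_lit 0x800000008000)
 (.cons 8 (nat_lit 0x80008000800080)
 (.cons 4 (nat_lit 0x906030c0a050f00)
 (.cons 2 (nat_lit 0x3333000033330000)
 (.cons 1 (nat_lit 0x5555555500000000)
 (.cons 8 (nat_lit 0x80008000800080)
 (.cons 16 (nat_lit 0x800000008000)
 (.cons 32 (nat_lit 0x80000000)
 .nil)))))))))
noncomputable def a20 : Net := (.cons 32 (nat_lit 0x80000000)
 (.cons 16 (nat_lit 0x800000008000)
 (.cons 8 (nat_lit 0xa000a00000)
 (.cons 4 (nat_lit 0x50505050000)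
 (.cons 2 (nat_lit 0x333333330000)
 (.cons 16 (nat_lit 0x800000008000)
 (.cons 32 (nat_lit 0x80000000)
 .nil)))))))
noncomputable def a21 : Net := (.cons 16 (nat_lit 0x800000008000)
 (.cons 8 (nat_lit 0x82000000820000)
 (.cons 4 (nat_lit 0xa0a00000a0a0000)
 (.cons 2 (nat_lit 0x3333000033330000)
 (.cons 16 (nat_lit 0x800000008000)
 .nil)))))
noncomputable def a22 : Net := (.cons 32 (nat_lit 0x80000000)
 (.cons 16 (nat_lit 0x800000008000)
 (.cons 8 (nat_lit 0x88008200a00000)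
 (.cons 4 (nat_lit 0xf0f0a0a05050000)
 (.cons 2 (nat_lit 0x333333330000)
 (.cons 16 (nat_lit 0x800000008000)
 (.cons 32 (nat_lit 0x80000000)
 .nil)))))))
noncomputable def a23 : Net := (.cons 32 (nat_lit 0x80000000)
 (.cons 16 (nat_lit 0x800800000000)
 (.cons 8 (nat_lit 0x88008800000000)
 (.cons 4 (nat_lit 0xf0f0f0f00000000)
 (.cons 32 (nat_lit 0x80000000)
 .nil)))))
noncomputable def ns0 : List Net := [a0, a1, a2, a3, a4, a5, a6]
noncomputable def ws : List (List ℕ) :=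
  [W (nat_lit 0xd01c0a00405),
  W (nat_lit 0xa00c050280b03808),
  W (nat_lit 0x100401204010),
  W (nat_lit 0x11044100480f044110441004010),
  W (nat_lit 0x50140581405813),
  W (nat_lit 0x54140581405016),
  W (nat_lit 0x1604c1505016),
  W (nat_lit 0x5c1b06418),
  W (nat_lit 0x1b05c1b0601a),
  W (nat_lit 0x641b),
  W (nat_lit 0x1705c17),
  W (nat_lit 0x180701906c1a),
  W (nat_lit 0x180681a),
  W (nat_lit 0x982008c2508c250841d0981f08828090210901e),
  W (nat_lit 0x280802407c260881d09c200a025080200881e),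
  W (nat_lit 0x841e0901f088270842609c1d09c230941f0981e),
  W (nat_lit 0xb82a)]
noncomputable def ns : List Net := [a0, a1, a2, a3, a4, a5, a6, a7, a8, a9, a10, a11, a12, a13, a14, a15, a16, a17, a18, a19, a20, a21, a22, a23]
noncomputable def D : List (ℕ × List ℕ) := app [] (mkDefs ws 7)
noncomputable def chk : List (List ℕ × List ℕ) → Bool := P.relsB ns
noncomputable def V : List ℕ :=
  [(nat_lit 0x55555555555555552aaaaaaaaaaaaaaa),
  (nat_lit 0x66666666666666661999999999999999),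
  (nat_lit 0x78787878787878780787878787878787),
  (nat_lit 0x7f807f807f807f80007f807f807f807f),
  (nat_lit 0x7fff80007fff800000007fff80007fff),
  (nat_lit 0x7fffffff80000000000000007fffffff)]
noncomputable def ms : List (List (List ℕ) × List (List ℕ)) :=
  [([[1, 0, 0, 0, 0, 0], [0, 1, 1, 0, 1, 1], [0, 0, 0, 0, 1, 1], [0, 0, 0, 1, 0, 0], [0, 0, 0, 0, 1, 0], [0, 0, 1, 0, 1, 0]],
   [[1, 0, 0, 0, 0, 0], [0, 1, 1, 0, 1, 1], [0, 0, 0, 0, 1, 1], [0, 0, 0, 1, 0, 0], [0, 0, 0, 0, 1, 0], [0, 0, 1, 0, 1, 0]]),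
  ([[1, 0, 0, 1, 1, 0], [0, 1, 0, 1, 1, 0], [0, 0, 1, 0, 0, 0], [0, 0, 0, 1, 0, 0], [0, 0, 0, 0, 1, 0], [0, 0, 0, 0, 0, 1]],
   [[1, 0, 0, 1, 1, 0], [0, 1, 0, 1, 1, 0], [0, 0, 1, 0, 0, 0], [0, 0, 0, 1, 0, 0], [0, 0, 0, 0, 1, 0], [0, 0, 0, 0, 0, 1]]),
  ([[1, 0, 1, 1, 0, 1], [0, 1, 0, 0, 0, 0], [0, 0, 0, 1, 0, 1], [0, 0, 0, 1, 0, 0], [0, 0, 0, 0, 1, 0], [0, 0, 1, 1, 0, 0]],
   [[1, 0, 1, 1, 0, 1], [0, 1, 0, 0, 0, 0], [0, 0, 0, 1, 0, 1], [0, 0, 0, 1, 0, 0], [0, 0, 0, 0, 1, 0], [0, 0, 1, 1, 0, 0]]),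
  ([[0, 0, 0, 1, 0, 0], [0, 1, 0, 0, 0, 0], [0, 0, 1, 0, 0, 0], [1, 0, 0, 0, 0, 0], [0, 0, 0, 0, 1, 0], [0, 0, 0, 0, 0, 1]],
   [[0, 0, 0, 1, 0, 0], [0, 1, 0, 0, 0, 0], [0, 0, 1, 0, 0, 0], [1, 0, 0, 0, 0, 0], [0, 0, 0, 0, 1, 0], [0, 0, 0, 0, 0, 1]]),
  ([[1, 0, 0, 0, 0, 0], [0, 1, 0, 0, 0, 0], [0, 0, 1, 0, 0, 0], [0, 0, 0, 1, 0, 0], [0, 1, 0, 0, 1, 0], [0, 0, 0, 0, 0, 1]],
   [[1, 0, 0, 0, 0, 0], [0, 1, 0, 0, 0, 0], [0, 0, 1, 0, 0, 0], [0, 0, 0, 1, 0, 0], [0, 1, 0, 0, 1, 0], [0, 0, 0, 0, 0, 1]]),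
  ([[1, 0, 0, 0, 0, 0], [0, 1, 0, 0, 0, 0], [0, 0, 1, 0, 0, 0], [1, 0, 0, 1, 0, 0], [0, 0, 0, 0, 1, 0], [0, 0, 0, 0, 0, 1]],
   [[1, 0, 0, 0, 0, 0], [0, 1, 0, 0, 0, 0], [0, 0, 1, 0, 0, 0], [1, 0, 0, 1, 0, 0], [0, 0, 0, 0, 1, 0], [0, 0, 0, 0, 0, 1]]),
  ([[0, 0, 1, 1, 1, 0], [1, 1, 1, 1, 1, 0], [0, 0, 1, 0, 0, 0], [1, 0, 1, 0, 1, 0], [0, 0, 0, 0, 1, 0], [1, 0, 1, 1, 1, 1]],
   [[0, 0, 1, 1, 1, 0], [1, 1, 1, 1, 1, 0], [0, 0, 1, 0, 0, 0], [1, 0, 1, 0, 1, 0], [0, 0, 0, 0, 1, 0], [1, 0, 1, 1, 1, 1]])]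
noncomputable def G_v0 : Lev :=
  ⟨0, 63, sg (W (nat_lit 0xf03c0f0440f0440f0440f0440f)), [[18], [20]], 2, 2⟩
noncomputable def G_v1 : Lev :=
  ⟨1, 30, sg (W (nat_lit 0x1504c13054130541305413)), [[22], [24], [26]], 4, 3⟩
noncomputable def G_v2 : Lev :=
  ⟨3, 12, sg (W (nat_lit 0x170641706c17)), [[28], [30], [32], [34], [36], [38]], 7, 6⟩
noncomputable def G_v3 : Lev :=
  ⟨7, 8, sg (W (nat_lit 0x2107c1d)), [[40], [42], [44]], 13, 3⟩
noncomputable def G_v4 : Lev :=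
  ⟨15, 4, sg (W (nat_lit 0xac29)), [[46]], 16, 1⟩
noncomputable def G_v5 : Lev :=
  ⟨31, 2, sg [46], [], 17, 0⟩
noncomputable def G_vs6 : List Lev :=
  []
noncomputable def G_vs5 : List Lev :=
  G_v5 :: G_vs6
noncomputable def G_vs4 : List Lev :=
  G_v4 :: G_vs5
noncomputable def G_vs3 : List Lev :=
  G_v3 :: G_vs4
noncomputable def G_vs2 : List Lev :=
  G_v2 :: G_vs3
noncomputable def G_vs1 : List Lev :=
  G_v1 :: G_vs2
noncomputable def G_vs : List Lev :=
  G_v0 :: G_vs1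

theorem zv0 : vecB (tabP 2).q 1 6 P V = true := by decide +kernel
theorem zv1 : Nat.beq (lenL ms) (lenL ns0) = true := by decide +kernel
theorem zv2 : allL ((tabP 2).actB 1 6 P V) (zp Net.nil ms ns0) = true := by decide +kernel
theorem zv3 : (tabP 2).basB 6 P V [0, 1, 3, 7, 15, 31] [[1, 0, 0, 0, 0, 0], [0, 1, 0, 0, 0, 0], [0, 0, 1, 0, 0, 0], [0, 0, 0, 1, 0, 0], [0, 0, 0, 0, 1, 0], [0, 0, 0, 0, 0, 1]] = true := by decide +kernel
theorem zv4 : allL ((tabP 2).spB 3 1) ms = true := by decide +kernel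
theorem zc5 : P.chainB ns D G_vs [[14], [16]] = true := by decide +kernel
theorem zm6 : leB D [] [[14], [16]] = true := by decide +kernel
theorem zk7 : allL (keepB P.n P.N) ns0 = true := by decide +kernel
theorem ze8 : extB ns0 ns 7 ws [] = true := by decide +kernel
theorem zn9 : P.netsB ns (mkDefs ws 7) = true := by decide +kernel

section
variable {G X : Type*} [Group G] [MulAction G X] {e : ℕ → X} {gs : List G}

theorem keep0 : allL (keepB P.n P.N) ns0 = true := zk7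

theorem len {k} (c : Ctx P e gs ns0 [] k) : gs.length = 7 := c.len ze8

theorem ctx0 {k} (c : Ctx P e gs ns0 [] k) : Ctx P e (ext gs ws) ns D chk0 :=
  c.ext rfl ze8 zn9

theorem ctx {k} (c : Ctx P e gs ns0 [] k) {H : Subgroup G} (hF : Faithful e P.n H) (hH : ∀ g ∈ gs, g ∈ H) :
    Ctx P e (ext gs ws) ns D chk :=
  (ctx0 c).withB hF (mem_of_mem_ext hH _)

theorem hV : vecB (tabP 2).q 1 6 P V = true := zv0
theorem hact : allL ((tabP 2).actB 1 6 P V) (zp Net.nil ms ns0) = true := zv2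
theorem hinv : allL ((tabP 2).invB 6) ms = true := actB_invB hact
theorem base {F : Type*} [Field F] {el : ℕ → F} (h : FC (tabP 2) el) : Ctx P (vecOf el (sPlus 3) (tabP 2).q P.N V) (List.map (glF el (sPlus 3)) ms) ns0 [] chk0 :=
  ctx_mat h (ix_plus 3) hP hV zv1 hact
theorem faith {F : Type*} [Field F] {el : ℕ → F} (h : FC (tabP 2) el) : Faithful (vecOf el (sPlus 3) (tabP 2).q P.N V) P.n (⊤ : Subgroup (GL (Fin 3 ⊕ Fin 3) F)) :=
  faithful_vecOf h (ix_plus 3) hP hV zv3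
theorem c1 {F : Type*} [Field F] {el : ℕ → F} (h : FC (tabP 2) el) : Ctx P (vecOf el (sPlus 3) (tabP 2).q P.N V) (ext (List.map (glF el (sPlus 3)) ms) ws) ns D chk :=
  ctx (base h) (faith h) fun _ _ => trivial

theorem G_c : P.chainB ns D G_vs [[14], [16]] = true :=
  zc5

theorem G_o : prodL G_vs 1 = 1451520 := by decide +kernel

theorem G_lb (c : Ctx P e gs ns D chk) :
    LB (subW gs [[14], [16]]) 1451520 :=
  c.lb G_c G_o

theorem Z_lb (c : Ctx P e gs ns D chk) :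
    LB (subW gs []) 1 :=
  LB.one _

theorem hZ (c : Ctx P e gs ns D chk) :
    (subW gs []) ≤ (subW gs [[14], [16]]) ∧ Rels gs (comR [] [[14], [16]]) :=
  ⟨(c.le zm6), Rels.nil _⟩

end
end CL.Std.PS62.M

namespace CL.Std.PS62
open CL.PG

def P : Par := ⟨63, 64, 6, 3⟩
theorem hP : P.Ok := by decide
noncomputable def a0 : Net := (.cons 32 (nat_lit 0xcb4b4b4b)
 (.cons 16 (nat_lit 0xd87c00006878)
 (.cons 8 (nat_lit 0x2a002a00d500d5)
 (.cons 4 (nat_lit 0xd0d0d0d02020202)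
 (.cons 2 (nat_lit 0x2102213212011231)
 (.cons 1 (nat_lit 0x1451410441041451)
 (.cons 2 (nat_lit 0x2202220222022202)
 (.cons 4 (nat_lit 0x404040404040404)
 (.cons 8 (nat_lit 0xf800f800f800f8)
 (.cons 16 (nat_lit 0x6f8000006f80)
 (.cons 32 (nat_lit 0x80000000)
 .nil)))))))))))
noncomputable def a1 : Net := (.cons 32 (nat_lit 0x552aaaf5)
 (.cons 16 (nat_lit 0x9e1e00009e1e)
 (.cons 8 (nat_lit 0xd500d500d500d5)
 (.cons 4 (nat_lit 0x807080407080704)
 (.cons 2 (nat_lit 0x3333331300000020)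
 (.cons 1 (nat_lit 0x505501405055014)
 (.cons 4 (nat_lit 0x808080408080804)
 (.cons 8 (nat_lit 0x80008000800080)
 (.cons 16 (nat_lit 0x800000008000)
 (.cons 32 (nat_lit 0x78787868)
 .nil))))))))))
noncomputable def a2 : Net := (.cons 32 (nat_lit 0x66666664)
 (.cons 16 (nat_lit 0xf8780000f878)
 (.cons 8 (nat_lit 0xa0008000880080)
 (.cons 4 (nat_lit 0x5050a080f0f0008)
 (.cons 2 (nat_lit 0x3333333100000002)
 (.cons 4 (nat_lit 0x800000008)
 (.cons 8 (nat_lit 0x8000000080)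
 (.cons 16 (nat_lit 0xf8780000f878)
 (.cons 32 (nat_lit 0x66666664)
 .nil)))))))))
noncomputable def a3 : Net := (.cons 32 (nat_lit 0x7e807f8)
 (.cons 16 (nat_lit 0xffbf00008012)
 (.cons 8 (nat_lit 0x80008000800080)
 (.cons 4 (nat_lit 0x10101010e0e0e0e)
 (.cons 2 (nat_lit 0x2121121221211212)
 (.cons 1 (nat_lit 0x1144441144111144)
 (.cons 2 (nat_lit 0x2202220222022202)
 (.cons 4 (nat_lit 0x808080008080800)
 (.cons 8 (nat_lit 0x80008000800080)
 (.cons 16 (nat_lit 0x802800008028)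
 (.cons 32 (nat_lit 0x7ff78000)
 .nil)))))))))))
noncomputable def a4 : Net := (.cons 32 (nat_lit 0xf80787f8)
 (.cons 16 (nat_lit 0x800000008000)
 (.cons 8 (nat_lit 0x80008000800080)
 (.cons 4 (nat_lit 0x707070708080808)
 (.cons 2 (nat_lit 0x3300330033003300)
 (.cons 1 (nat_lit 0x5050050505055050)
 (.cons 4 (nat_lit 0x808080808080808)
 (.cons 8 (nat_lit 0x80008000800080)
 (.cons 16 (nat_lit 0x800000008000)
 (.cons 32 (nat_lit 0x80000000)
 .nil))))))))))
noncomputable def a5 : Net := (.cons 32 (nat_lit 0x787f858)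
 (.cons 16 (nat_lit 0x800000008000)
 (.cons 8 (nat_lit 0x80008000800080)
 (.cons 4 (nat_lit 0x707070708080808)
 (.cons 2 (nat_lit 0x3003300303300330)
 (.cons 1 (nat_lit 0x5500550055005500)
 (.cons 4 (nat_lit 0x808080008080800)
 (.cons 8 (nat_lit 0x80008000800080)
 (.cons 16 (nat_lit 0x800000008000)
 (.cons 32 (nat_lit 0x78787870)
 .nil))))))))))
noncomputable def a6 : Net := (.cons 32 (nat_lit 0x80000000)
 (.cons 16 (nat_lit 0x800000008000)
 (.cons 8 (nat_lit 0x80008000800080)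
 (.cons 4 (nat_lit 0xc03030c000f0f00)
 (.cons 1 (nat_lit 0x5555555500000000)
 (.cons 8 (nat_lit 0x80008000800080)
 (.cons 16 (nat_lit 0x800000008000)
 (.cons 32 (nat_lit 0x80000000)
 .nil))))))))
noncomputable def a7 : Net := (.cons 32 (nat_lit 0x80000000)
 (.cons 16 (nat_lit 0x800000008000)
 (.cons 8 (nat_lit 0x80008000800080)
 (.cons 4 (nat_lit 0x306000a06030a00)
 (.cons 2 (nat_lit 0x33003333003300)
 (.cons 1 (nat_lit 0x5555000055550000)
 (.cons 8 (nat_lit 0x80008000800080)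
 (.cons 16 (nat_lit 0x800000008000)
 (.cons 32 (nat_lit 0x80000000)
 .nil)))))))))
noncomputable def a8 : Net := (.cons 32 (nat_lit 0x80000000)
 (.cons 16 (nat_lit 0x800000008000)
 (.cons 8 (nat_lit 0x8200a000880000)
 (.cons 4 (nat_lit 0xa0a05050f0f0000)
 (.cons 2 (nat_lit 0x3333333300000000)
 (.cons 16 (nat_lit 0x800000008000)
 (.cons 32 (nat_lit 0x80000000)
 .nil)))))))
noncomputable def a9 : Net := (.cons 32 (nat_lit 0x80000000)
 (.cons 16 (nat_lit 0x800000008000)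
 (.cons 8 (nat_lit 0x80008000800080)
 (.cons 4 (nat_lit 0xa0f0c0603090500)
 (.cons 2 (nat_lit 0x3300003300333300)
 (.cons 1 (nat_lit 0x555555550000)
 (.cons 8 (nat_lit 0x80008000800080)
 (.cons 16 (nat_lit 0x800000008000)
 (.cons 32 (nat_lit 0x80000000)
 .nil)))))))))
noncomputable def a10 : Net := (.cons 32 (nat_lit 0x80000000)
 (.cons 16 (nat_lit 0x800000008000)
 (.cons 8 (nat_lit 0x80008000800080)
 (.cons 4 (nat_lit 0x60a05090f0c0300)
 (.cons 2 (nat_lit 0x3333333300000000)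
 (.cons 1 (nat_lit 0x5500005500555500)
 (.cons 8 (nat_lit 0x80008000800080)
 (.cons 16 (nat_lit 0x800000008000)
 (.cons 32 (nat_lit 0x80000000)
 .nil)))))))))
noncomputable def a11 : Net := (.cons 32 (nat_lit 0x80000000)
 (.cons 16 (nat_lit 0x800000008000)
 (.cons 8 (nat_lit 0x80008000800080)
 (.cons 4 (nat_lit 0xf03090a05060c00)
 (.cons 2 (nat_lit 0x333333330000)
 (.cons 1 (nat_lit 0x55550000555500)
 (.cons 8 (nat_lit 0x80008000800080)
 (.cons 16 (nat_lit 0x800000008000)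
 (.cons 32 (nat_lit 0x80000000)
 .nil)))))))))
noncomputable def a12 : Net := (.cons 32 (nat_lit 0x80000000)
 (.cons 16 (nat_lit 0x800000008000)
 (.cons 8 (nat_lit 0xa0008200880000)
 (.cons 4 (nat_lit 0x5050a0a0f0f0000)
 (.cons 2 (nat_lit 0x3333333300000000)
 (.cons 16 (nat_lit 0x800000008000)
 (.cons 32 (nat_lit 0x80000000)
 .nil)))))))
noncomputable def a13 : Net := (.cons 16 (nat_lit 0x800000008000)
 (.cons 8 (nat_lit 0x82000000820000)
 (.cons 4 (nat_lit 0xa0a00000a0a0000)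
 (.cons 2 (nat_lit 0x3333000033330000)
 (.cons 16 (nat_lit 0x800000008000)
 .nil)))))
noncomputable def a14 : Net := (.cons 32 (nat_lit 0x80000000)
 (.cons 16 (nat_lit 0x800000008000)
 (.cons 8 (nat_lit 0xa000a00000)
 (.cons 4 (nat_lit 0x50505050000)
 (.cons 2 (nat_lit 0x333333330000)
 (.cons 16 (nat_lit 0x800000008000)
 (.cons 32 (nat_lit 0x80000000)
 .nil)))))))
noncomputable def a15 : Net := (.cons 32 (nat_lit 0x80000000)
 (.cons 16 (nat_lit 0x800800000000)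
 (.cons 8 (nat_lit 0x88008800000000)
 (.cons 4 (nat_lit 0xf0f0f0f00000000)
 (.cons 32 (nat_lit 0x80000000)
 .nil)))))
noncomputable def a16 : Net := (.cons 32 (nat_lit 0x7fff80)
 (.cons 16 (nat_lit 0x7f0000007f00)
 (.cons 8 (nat_lit 0x7f0080007f0080)
 (.cons 4 (nat_lit 0x808080808080808)
 (.cons 1 (nat_lit 0x4141414141414141)
 (.cons 4 (nat_lit 0x808080808080808)
 (.cons 16 (nat_lit 0x7f0000007f00)
 .nil)))))))
noncomputable def a17 : Net := (.cons 32 (nat_lit 0x7878f878)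
 (.cons 16 (nat_lit 0xffff00000000)
 (.cons 8 (nat_lit 0xa0000000a00000)
 (.cons 4 (nat_lit 0xe0e0e0e0e0e0e0e)
 (.cons 2 (nat_lit 0x303303003033030)
 (.cons 4 (nat_lit 0x808080808080808)
 (.cons 16 (nat_lit 0x800000008000)
 (.cons 32 (nat_lit 0x7ffd8000)
 .nil))))))))
noncomputable def a18 : Net := (.cons 32 (nat_lit 0x6666e666)
 (.cons 16 (nat_lit 0x19b90000e646)
 (.cons 8 (nat_lit 0x80008000800080)
 (.cons 4 (nat_lit 0xe060e0c0e060e0c)
 (.cons 2 (nat_lit 0x301303203013032)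
 (.cons 4 (nat_lit 0x800080008000800)
 (.cons 8 (nat_lit 0x80008000800080)
 (.cons 16 (nat_lit 0x666400006664)
 (.cons 32 (nat_lit 0x66666664)
 .nil)))))))))
noncomputable def a19 : Net := (.cons 32 (nat_lit 0x8787f878)
 (.cons 16 (nat_lit 0x800000008000)
 (.cons 8 (nat_lit 0xa0008200880000)
 (.cons 4 (nat_lit 0x707080807070808)
 (.cons 2 (nat_lit 0x303030330303030)
 (.cons 4 (nat_lit 0x808080808080808)
 (.cons 16 (nat_lit 0x800000008000)
 (.cons 32 (nat_lit 0x80000000)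
 .nil))))))))
noncomputable def a20 : Net := (.cons 32 (nat_lit 0xf8787878)
 (.cons 16 (nat_lit 0x800000008000)
 (.cons 8 (nat_lit 0x8200a000880000)
 (.cons 4 (nat_lit 0xa0a05050f0f0000)
 (.cons 2 (nat_lit 0x3333333300000000)
 (.cons 16 (nat_lit 0x800000008000)
 (.cons 32 (nat_lit 0x80000000)
 .nil)))))))
noncomputable def a21 : Net := (.cons 32 (nat_lit 0x78787870)
 (.cons 16 (nat_lit 0x800000008000)
 (.cons 8 (nat_lit 0x88008000000080)
 (.cons 4 (nat_lit 0xf0f0f0700000008)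
 (.cons 8 (nat_lit 0x8000000080)
 (.cons 16 (nat_lit 0x800000008000)
 (.cons 32 (nat_lit 0x78787870)
 .nil)))))))
noncomputable def a22 : Net := (.cons 32 (nat_lit 0x78787878)
 .nil)
noncomputable def a23 : Net := (.cons 32 (nat_lit 0x80000000)
 (.cons 16 (nat_lit 0x800800000000)
 (.cons 8 (nat_lit 0x88008800000000)
 (.cons 4 (nat_lit 0xf0f0f0f00000000)
 (.cons 32 (nat_lit 0x80000000)
 .nil)))))
noncomputable def ns0 : List Net := [a0, a1]
noncomputable def ws : List (List ℕ) :=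
  [W (nat_lit 0x100401004),
  W (nat_lit 0x100100c0200c01),
  W (nat_lit 0x140701c0601c0701c0701c07),
  W (nat_lit 0x140501c06020050200801808),
  W (nat_lit 0x601c0602006),
  W (nat_lit 0x240c0300a),
  W (nat_lit 0x2c090380a03809),
  W (nat_lit 0xc0340c03009),
  W (nat_lit 0x280d0280c0240b),
  W (nat_lit 0xe030090340d03009),
  W (nat_lit 0x110600f058110581005c130401404016048130581705810),
  W (nat_lit 0x110541105014038130401503817040130381005810),
  W (nat_lit 0x3813034100441804c0e05015054180501504018),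
  W (nat_lit 0x1a0701d),
  W (nat_lit 0x101802),
  W (nat_lit 0x140501c070140701c0701808),
  W (nat_lit 0x50200802008),
  W (nat_lit 0x94250942409824),
  W (nat_lit 0x2308c2609024),
  W (nat_lit 0xa828),
  W (nat_lit 0xa4280a82a0a028),
  W (nat_lit 0x2b0b82c0b82e)]
noncomputable def ns : List Net := [a0, a1, a2, a3, a4, a5, a6, a7, a8, a9, a10, a11, a12, a13, a14, a15, a16, a17, a18, a19, a20, a21, a22, a23]
noncomputable def D : List (ℕ × List ℕ) := app [] (mkDefs ws 2)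
noncomputable def chk : List (List ℕ × List ℕ) → Bool := P.relsB ns
noncomputable def G_v0 : Lev :=
  ⟨0, 63, sg (W (nat_lit 0x10040100c0100c0100c0100c01)), [[4], [6]], 0, 2⟩
noncomputable def G_v1 : Lev :=
  ⟨1, 30, sg (W (nat_lit 0x1c0501c0501c070140701c05)), [[8], [10], [12]], 2, 3⟩
noncomputable def G_v2 : Lev :=
  ⟨3, 12, sg (W (nat_lit 0x902c0902c09)), [[14], [12], [16], [18], [20], [22]], 5, 5⟩
noncomputable def G_v3 : Lev :=
  ⟨7, 8, sg (W (nat_lit 0x150340f)), [[24], [26], [28]], 10, 3⟩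
noncomputable def G_v4 : Lev :=
  ⟨15, 4, sg (W (nat_lit 0x6c19)), [[30]], 13, 1⟩
noncomputable def G_v5 : Lev :=
  ⟨31, 2, sg [30], [], 14, 0⟩
noncomputable def G_vs6 : List Lev :=
  []
noncomputable def G_vs5 : List Lev :=
  G_v5 :: G_vs6
noncomputable def G_vs4 : List Lev :=
  G_v4 :: G_vs5
noncomputable def G_vs3 : List Lev :=
  G_v3 :: G_vs4
noncomputable def G_vs2 : List Lev :=
  G_v2 :: G_vs3
noncomputable def G_vs1 : List Lev :=
  G_v1 :: G_vs2
noncomputable def G_vs : List Lev :=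
  G_v0 :: G_vs1
noncomputable def zE1 : Net :=
  .nil
noncomputable def zK2 : Lk :=
  ⟨zE1, 1, 3, 1⟩
noncomputable def zt5 : List ℕ :=
  []
noncomputable def zcj6 : List (List ℕ) :=
  []
noncomputable def zus9 : List (List ℕ) :=
  [[24],
  [26],
  [28]]
noncomputable def zF10 : List (List (ℕ × List ℕ)) :=
  [[(1, []),
   (0, []),
   (3, [30]),
   (2, [30])],
  [(2, []),
   (3, [30]),
   (0, []),
   (1, [30])],
  [(3, []),
   (2, [30]),
   (1, [30]),
   (0, [])]]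
noncomputable def zus13 : List (List ℕ) :=
  [[14],
  [12],
  [18],
  [20],
  [22],
  W (nat_lit 0x3c15),
  W (nat_lit 0x3c17)]
noncomputable def zF14 : List (List (ℕ × List ℕ)) :=
  [[(1, []),
   (0, []),
   (3, W (nat_lit 0x7c1b)),
   (2, W (nat_lit 0x7c1b)),
   (6, []),
   (7, []),
   (4, []),
   (5, [])],
  [(2, []),
   (3, W (nat_lit 0x7c1b)),
   (0, []),
   (1, W (nat_lit 0x7c1b)),
   (5, [26]),
   (4, [26]),
   (7, [26]),
   (6, [26])],
  [(0, W (nat_lit 0x7c19)),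
   (1, W (nat_lit 0x7c19)),
   (2, W (nat_lit 0x7c19)),
   (3, W (nat_lit 0x7c19)),
   (4, W (nat_lit 0x7c19)),
   (5, W (nat_lit 0x7c19)),
   (6, W (nat_lit 0x7c19)),
   (7, W (nat_lit 0x7c19))],
  [(3, []),
   (2, W (nat_lit 0x7c1b)),
   (1, W (nat_lit 0x7c1b)),
   (0, []),
   (7, [30]),
   (6, [30]),
   (5, [30]),
   (4, [30])],
  [(4, []),
   (6, []),
   (5, [26]),
   (7, [30]),
   (0, []),
   (2, [26]),
   (1, []),
   (3, [30])],
  [(5, []),
   (7, []),
   (4, [26]),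
   (6, [30]),
   (2, [26]),
   (0, []),
   (3, [30]),
   (1, [])]]
noncomputable def zus17 : List (List ℕ) :=
  [[8],
  [9],
  [10],
  [11],
  W (nat_lit 0x240b),
  W (nat_lit 0x240d),
  W (nat_lit 0x280b),
  W (nat_lit 0x280c),
  W (nat_lit 0x2c0b),
  W (nat_lit 0x2415),
  W (nat_lit 0x2411)]
noncomputable def zF18 : List (List (ℕ × List ℕ)) :=
  [[(1, []),
   (2, W (nat_lit 0x1b03c17)),
   (0, []),
   (8, W (nat_lit 0x1b03c15)),
   (7, W (nat_lit 0x6c15)),
   (11, W (nat_lit 0x1b03c15)),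
   (3, W (nat_lit 0x7c0f)),
   (10, W (nat_lit 0x7c1b03c15)),
   (6, [18]),
   (5, W (nat_lit 0x6413)),
   (4, W (nat_lit 0x1f06c17)),
   (9, W (nat_lit 0x1f0640f))],
  [(3, []),
   (5, []),
   (7, []),
   (9, []),
   (0, []),
   (1, [14]),
   (10, W (nat_lit 0x1f06c0f)),
   (11, W (nat_lit 0x1f06c0f)),
   (2, []),
   (4, []),
   (6, W (nat_lit 0x1f0640f)),
   (8, W (nat_lit 0x1f06c0f))],
  [(0, [12]),
   (6, []),
   (3, W (nat_lit 0x1f0640d)),
   (2, W (nat_lit 0x1f0640d)),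
   (11, [12]),
   (10, W (nat_lit 0x7c15)),
   (1, []),
   (7, W (nat_lit 0x1f06413)),
   (8, [12]),
   (9, W (nat_lit 0x1f06413)),
   (5, W (nat_lit 0x7c15)),
   (4, [12])]]
noncomputable def zus21 : List (List ℕ) :=
  [[4],
  [6],
  [7],
  W (nat_lit 0x1407),
  W (nat_lit 0x1408),
  W (nat_lit 0x1c05),
  W (nat_lit 0x1c07),
  W (nat_lit 0x2005),
  W (nat_lit 0x2008),
  W (nat_lit 0x1415),
  W (nat_lit 0x501c0b),
  W (nat_lit 0x140d),
  W (nat_lit 0x1409),
  W (nat_lit 0x50200c),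
  W (nat_lit 0x140f),
  W (nat_lit 0x503c07),
  W (nat_lit 0x1413),
  W (nat_lit 0x501c0c),
  W (nat_lit 0x504408),
  W (nat_lit 0x50340b),
  W (nat_lit 0x140a),
  W (nat_lit 0x501c15),
  W (nat_lit 0x501c0f),
  W (nat_lit 0x1411),
  W (nat_lit 0x140b),
  W (nat_lit 0x502c05),
  W (nat_lit 0x501c1b),
  W (nat_lit 0x70140d),
  W (nat_lit 0x70140b)]
noncomputable def zF22 : List (List (ℕ × List ℕ)) :=
  [[(1, []),
   (0, []),
   (6, []),
   (8, []),
   (4, [12]),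
   (5, W (nat_lit 0x1b02c0b)),
   (2, []),
   (13, W (nat_lit 0x6c15)),
   (3, []),
   (17, W (nat_lit 0x1f0640f05409)),
   (19, W (nat_lit 0x7c1d0240d)),
   (20, W (nat_lit 0x7c1903c15)),
   (12, [12]),
   (7, W (nat_lit 0x6c15)),
   (14, W (nat_lit 0x1902c0b)),
   (15, W (nat_lit 0x640f02c0b)),
   (24, W (nat_lit 0x640f02415)),
   (9, W (nat_lit 0x1f0640f02415)),
   (18, W (nat_lit 0x1f06c170280c)),
   (10, W (nat_lit 0x1f06c0d02411)),
   (11, W (nat_lit 0x7c1903c15)),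
   (23, W (nat_lit 0x7c1d03c0c)),
   (28, W (nat_lit 0x740f)),
   (21, W (nat_lit 0x7c1d03c0b)),
   (16, W (nat_lit 0x640f0540a)),
   (26, []),
   (25, []),
   (29, W (nat_lit 0x1502415)),
   (22, W (nat_lit 0x740f)),
   (27, W (nat_lit 0x1f0640c))],
  [(2, []),
   (4, []),
   (7, []),
   (0, []),
   (10, W (nat_lit 0x1f06c0d02c0b)),
   (1, []),
   (11, W (nat_lit 0x7c1b03c1702c0b)),
   (14, W (nat_lit 0x7c1d03c150240b)),
   (15, W (nat_lit 0x740d0280b)),
   (3, []),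
   (5, W (nat_lit 0x540b)),
   (12, W (nat_lit 0x1f0640f05c0b)),
   (6, [12]),
   (21, W (nat_lit 0x7c1902415)),
   (23, W (nat_lit 0x6c150240d)),
   (16, []),
   (8, W (nat_lit 0x1f06417)),
   (22, W (nat_lit 0x640d)),
   (9, W (nat_lit 0x7c1d03c170280c)),
   (24, []),
   (19, W (nat_lit 0x1f0641502c0b)),
   (27, W (nat_lit 0x7c09)),
   (13, W (nat_lit 0x7c1903c15)),
   (20, W (nat_lit 0x7c1b03c1502c0b)),
   (26, W (nat_lit 0x7c0f0540b)),
   (17, W (nat_lit 0x740f05c09)),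
   (18, W (nat_lit 0x7c190340b)),
   (25, W (nat_lit 0x6c170240d)),
   (29, W (nat_lit 0x741502c0b)),
   (28, [11])]]
noncomputable def zrs25 : List (ℕ × List ℕ) :=
  [(1, [32]),
  (8, W (nat_lit 0x210140808409))]
noncomputable def zcj26 : List (List ℕ) :=
  [W (nat_lit 0x7c1904c09),
  W (nat_lit 0x1f0540a),
  [12]]
noncomputable def G_w0_2_v0 : Lev :=
  ⟨8, 32, sg (W (nat_lit 0x701c0701c0501c0501c0501c0501c07)), [[34], [36]], 15, 2⟩
noncomputable def G_w0_2_v1 : Lev :=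
  ⟨1, 15, sg (W (nat_lit 0x94230942309423)), [[38], [40]], 17, 2⟩
noncomputable def G_w0_2_v2 : Lev :=
  ⟨15, 8, sg (W (nat_lit 0x9c2709c2909c27)), [[42], [44]], 19, 2⟩
noncomputable def G_w0_2_v3 : Lev :=
  ⟨3, 3, sg (W (nat_lit 0xb42b)), [[46]], 21, 1⟩
noncomputable def G_w0_2_v4 : Lev :=
  ⟨31, 2, sg [46], [], 22, 0⟩
noncomputable def G_w0_2_vs5 : List Lev :=
  []
noncomputable def G_w0_2_vs4 : List Lev :=
  G_w0_2_v4 :: G_w0_2_vs5
noncomputable def G_w0_2_vs3 : List Lev :=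
  G_w0_2_v3 :: G_w0_2_vs4
noncomputable def G_w0_2_vs2 : List Lev :=
  G_w0_2_v2 :: G_w0_2_vs3
noncomputable def G_w0_2_vs1 : List Lev :=
  G_w0_2_v1 :: G_w0_2_vs2
noncomputable def G_w0_2_vs : List Lev :=
  G_w0_2_v0 :: G_w0_2_vs1
noncomputable def zcj30 : List (List ℕ) :=
  [W (nat_lit 0x740f0140f),
  W (nat_lit 0x1904c0b02c08)]
noncomputable def zB33 : List BG :=
  [⟨[32], [([8], W (nat_lit 0x7c1904c09)), ([10], W (nat_lit 0x1f0540a)), ([12], [12])],
  [([⟨[], [], 1, []⟩], []),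
   ([⟨[], [], 0, []⟩,
    ⟨[4], [4], 1, [4]⟩,
    ⟨W (nat_lit 0x1407), W (nat_lit 0x1c09), 2, W (nat_lit 0x1f06c17024110140a)⟩,
    ⟨W (nat_lit 0x504408), W (nat_lit 0x504408), 1, W (nat_lit 0x6c1702c0504408)⟩], W (nat_lit 0x80100c0200402)),
   ([⟨[], W (nat_lit 0x503c07), 1, W (nat_lit 0x1f074150240b)⟩,
    ⟨[7], W (nat_lit 0x2808), 2, W (nat_lit 0x1f0740f0540a02c08)⟩], W (nat_lit 0x4020040300801))]⟩]
noncomputable def zE34 : List (ℕ × List ℕ) :=
  [(0, W (nat_lit 0x1f0740a030080840501c15)),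
  (2, W (nat_lit 0x7c1904c090340501c210140808409))]
noncomputable def zm39 : ℕ :=
  (nat_lit 0x10000000)
noncomputable def zm40 : ℕ :=
  (nat_lit 0x81081010080100)
noncomputable def zm41 : ℕ :=
  (nat_lit 0x52805285002d002)
noncomputable def cent_F : List (List ℕ × ℕ × ℕ) :=
  [([0], zm39, zm39),
  (W (nat_lit 0x100401), zm40, zm40),
  (W (nat_lit 0x40100401), zm41, zm41)]
noncomputable def centG_v0 : Lev :=
  ⟨0, 63, sg (W (nat_lit 0x10040100c0100c0100c0100c01)), [[4], [6]], 0, 2⟩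
noncomputable def centG_v1 : Lev :=
  ⟨8, 32, sg (W (nat_lit 0x701c0701c0501c0501c0501c0501c07)), [[34], [36]], 15, 2⟩
noncomputable def centG_v2 : Lev :=
  ⟨1, 15, sg (W (nat_lit 0x94230942309423)), [[38], [40]], 17, 2⟩
noncomputable def centG_v3 : Lev :=
  ⟨15, 8, sg (W (nat_lit 0x9c2709c2909c27)), [[42], [44]], 19, 2⟩
noncomputable def centG_v4 : Lev :=
  ⟨3, 3, sg (W (nat_lit 0xb42b)), [[46]], 21, 1⟩
noncomputable def centG_v5 : Lev :=
  ⟨31, 2, sg [46], [], 22, 0⟩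
noncomputable def centG_vs6 : List Lev :=
  []
noncomputable def centG_vs5 : List Lev :=
  centG_v5 :: centG_vs6
noncomputable def centG_vs4 : List Lev :=
  centG_v4 :: centG_vs5
noncomputable def centG_vs3 : List Lev :=
  centG_v3 :: centG_vs4
noncomputable def centG_vs2 : List Lev :=
  centG_v2 :: centG_vs3
noncomputable def centG_vs1 : List Lev :=
  centG_v1 :: centG_vs2
noncomputable def centG_vs : List Lev :=
  centG_v0 :: centG_vs1
noncomputable def cent_x : List (ℕ × List ℕ) :=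
  [((nat_lit 0), []),
  ((nat_lit 0), []),
  ((nat_lit 0), []),
  ((nat_lit 0), [(nat_lit 0x400)]),
  ((nat_lit 0), []),
  ((nat_lit 0), [(nat_lit 0x10)])]
noncomputable def cent_G : Gl :=
  ⟨P, ns, (app D []), (diag [[0], [2]]), [], [], memM (app D []) [], true⟩
noncomputable def cent_s : St :=
  ⟨(mkS P.n centG_vs cent_x), [[0], [2]], [], mapL Prod.snd cent_F, memM (app D []) [], []⟩
noncomputable def zt45 : ST :=
  (.img (W (nat_lit 0x803)) 0 (.br 0 [] [] [(0, [])] (.cons (.img [3] 0 (.br 0 [] [] [(8, [])] (.cons (.img (W (nat_lit 0x803)) 5 (.and 7 0 (.br 0 [] [] [(1, [])] (.cons (.orb 0 (.img [2] 0 (.br 0 [] [] [(15, [])] (.cons (.img (W (nat_lit 0x1002)) 4 (.br 0 [] [] [(3, [])] (.cons (.orb 0 (.img [3] 0 (.br 0 [] [] [(31, [])] (.cons .fnd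
 .nil))))
 .nil)))
 .nil))))
 .nil))))
 .nil)))
 .nil)))

theorem zc0 : P.chainB ns D G_vs [[0], [2]] = true := by decide +kernel
theorem zl3 : zK2.relB CL.Std.PS62.M.P CL.Std.PS62.P CL.Std.PS62.M.ns [[14], [16]] [[0], [2]] = true := by decide +kernel
theorem zl4 : allL (zK2.pl CL.Std.PS62.M.P CL.Std.PS62.P CL.Std.PS62.M.ns CL.Std.PS62.ns 0) (zp [] [[14], [16]] [[0], [2]]) = true := by decide +kernel
theorem zb7 : bnd (pcB D [] 2 zt5 zcj6) (leB (app D []) [[30]] ([30] :: [])) = true := by decide +kernel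
theorem zr8 : chk (pcR [] [30] 2 zt5 zcj6) = true := by decide +kernel
theorem zb11 : schB D [[24], [26], [28]] [[30]] zus9 zF10 4 = true := by decide +kernel
theorem zr12 : chk (schR [[24], [26], [28]] zus9 zF10) = true := by decide +kernel
theorem zb15 : schB D [[14], [12], [16], [18], [20], [22]] [[24], [26], [28]] zus13 zF14 8 = true := by decide +kernel
theorem zr16 : chk (schR [[14], [12], [16], [18], [20], [22]] zus13 zF14) = true := by decide +kernel
theorem zb19 : schB D [[8], [10], [12]] [[14], [12], [16], [18], [20], [22]] zus17 zF18 12 = true := by decide +kernel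
theorem zr20 : chk (schR [[8], [10], [12]] zus17 zF18) = true := by decide +kernel
theorem zb23 : schB D [[4], [6]] [[8], [10], [12]] zus21 zF22 30 = true := by decide +kernel
theorem zr24 : chk (schR [[4], [6]] zus21 zF22) = true := by decide +kernel
theorem zb27 : wdB D [[4], [6]] G_v1.nx zcj26 = true := by decide +kernel
theorem zr28 : chk (wdR G_v1.nx [32] zcj26) = true := by decide +kernel
theorem zc29 : P.chainB ns D G_w0_2_vs [[4], [6]] = true := by decide +kernel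
theorem zb31 : wdB D [[4], [6]] G_w0_2_v0.nx zcj30 = true := by decide +kernel
theorem zr32 : chk (wdR G_w0_2_v0.nx (W (nat_lit 0x210140808409)) zcj30) = true := by decide +kernel
theorem zb35 : bB P.n P.N ns (app D zE34) [[0], [2]] [[4], [6]] 0 zrs25 zB33 = true := by decide +kernel
theorem zb36 : P.invSz ns [[0], [2]] 0 (orbM P.N ns G_v0) 63 = true := by decide +kernel
theorem zr37 : chk (bR 0 zrs25 zB33) = true := by decide +kernel
theorem zr38 : chk (defRels zE34) = true := by decide +kernel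
theorem zf42 : P.fixXB ns (diag [[0], [2]]) cent_F = true := by decide +kernel
theorem zc43 : P.chainB ns D centG_vs [[0], [2]] = true := by decide +kernel
theorem zs44 : ssB P.N ns D (mkS P.n centG_vs cent_x) [[0], [2]] = true := by decide +kernel
theorem zs46 : cent_G.chk zt45 cent_s none = true := by decide +kernel
theorem zr47 : chk (comR [] (mapL Prod.snd (diag [[0], [2]]))) = true := by decide +kernel
theorem zm48 : leB D [] [[0], [2]] = true := by decide +kernel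
theorem zk49 : allL (keepB P.n P.N) ns0 = true := by decide +kernel
theorem ze50 : extB ns0 ns 2 ws [] = true := by decide +kernel
theorem zn51 : P.netsB ns (mkDefs ws 2) = true := by decide +kernel

section
variable {G X : Type*} [Group G] [MulAction G X] {e : ℕ → X} {gs : List G}

theorem keep0 : allL (keepB P.n P.N) ns0 = true := zk49

theorem len {k} (c : Ctx P e gs ns0 [] k) : gs.length = 2 := c.len ze50

theorem ctx0 {k} (c : Ctx P e gs ns0 [] k) : Ctx P e (ext gs ws) ns D chk0 :=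
  c.ext rfl ze50 zn51

theorem ctx {k} (c : Ctx P e gs ns0 [] k) {H : Subgroup G} (hF : Faithful e P.n H) (hH : ∀ g ∈ gs, g ∈ H) :
    Ctx P e (ext gs ws) ns D chk :=
  (ctx0 c).withB hF (mem_of_mem_ext hH _)

instance instNe : NeZero P.n := ⟨by decide⟩
noncomputable def gs0 : List (Equiv.Perm (Fin P.n)) := permsOf P.n P.N ns0
noncomputable def gs1 : List (Equiv.Perm (Fin P.n)) := ext gs0 ws
theorem c1 : Ctx P (eF P.n) gs1 ns D chk :=
  ctx (ctx_permsOf hP keep0) (faithful_eF _) fun _ _ => trivial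

theorem G_c : P.chainB ns D G_vs [[0], [2]] = true :=
  zc0

theorem G_o : prodL G_vs 1 = 1451520 := by decide +kernel

theorem G_lb (c : Ctx P e gs ns D chk) :
    LB (subW gs [[0], [2]]) 1451520 :=
  c.lb G_c G_o

theorem rel {Γ Y : Type*} [Group Γ] [MulAction Γ Y] {e' : ℕ → Y} {cs : List Γ} {D₁ D₂ : List (ℕ × List ℕ)}
    {k₁ k₂ : List (List ℕ × List ℕ) → Bool} (c : Ctx CL.Std.PS62.M.P e gs CL.Std.PS62.M.ns D₁ k₁) (c' : Ctx CL.Std.PS62.P e' cs CL.Std.PS62.ns D₂ k₂)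
    (hF : Faithful e' CL.Std.PS62.P.n (subW cs [[0], [2]])) :
    RelLe gs [[14], [16]] cs [[0], [2]] :=
  c.relLe (K := zK2) c' hF zl3 (fun (t : ℕ) (ht : t < 1) => match t, ht with
    | 0, _ => zl4
    | t + 1, h => absurd h (by omega))

theorem G_u5 (c : Ctx P e gs ns D chk) :
    UB (subW gs [[30]]) 2 :=
  (c.pc_step (UB.nil gs) (Rels.nil _)
    (c.rels _ zr8) zb7).le (by decide)

theorem G_u4 (c : Ctx P e gs ns D chk) :
    UB (subW gs [[24], [26], [28]]) 8 :=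
  (c.sch_step (G_u5 c)
    (c.rels _ zr12) zb11).le (by decide)

theorem G_u3 (c : Ctx P e gs ns D chk) :
    UB (subW gs [[14], [12], [16], [18], [20], [22]]) 64 :=
  (c.sch_step (G_u4 c)
    (c.rels _ zr16) zb15).le (by decide)

theorem G_u2 (c : Ctx P e gs ns D chk) :
    UB (subW gs [[8], [10], [12]]) 768 :=
  (c.sch_step (G_u3 c)
    (c.rels _ zr20) zb19).le (by decide)

theorem G_u1 (c : Ctx P e gs ns D chk) :
    UB (subW gs [[4], [6]]) 23040 :=
  (c.sch_step (G_u2 c)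
    (c.rels _ zr24) zb23).le (by decide)

theorem G_w0_2_c : P.chainB ns D G_w0_2_vs [[4], [6]] = true :=
  zc29

theorem G_w0_2_o : prodL G_w0_2_vs 1 = 23040 := by decide +kernel

theorem G_u0w (c : Ctx P e gs ns D chk) :
    AllWd e gs [[4], [6]] zrs25 :=
  ⟨c.wd (v := G_v1) (vs := G_vs2) (G_u1 c) (Par.chainB_tail G_c) (by decide +kernel)
      (c.rels _ zr28) zb27,
    ⟨c.wd (v := G_w0_2_v0) (vs := G_w0_2_vs1) (G_u1 c) G_w0_2_c G_w0_2_o
      (c.rels _ zr32) zb31,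
    trivial⟩⟩

theorem G_u0 (c : Ctx P e gs ns D chk) :
    UB (subW gs [[0], [2]]) 1451520 :=
  (c.b_step (G_u1 c) (G_u0w c) (c.rels _ zr38)
    (c.rels _ zr37) zb35 zb36).le (by decide)

theorem G_ub (c : Ctx P e gs ns D chk) :
    UB (subW gs [[0], [2]]) 1451520 :=
  (G_u0 c)

theorem centG_c : P.chainB ns D centG_vs [[0], [2]] = true :=
  zc43

theorem centG_o : prodL centG_vs 1 = 1451520 := by decide +kernel

theorem cent (c : Ctx P e gs ns D chk) :
    (subW gs [[0], [2]]) ⊓ Subgroup.centralizer (subW gs [[0], [2]] : Set G) = (subW gs []) :=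
  c.cent (lx := [[0], [2]]) (Rels.nil _) (c.sOk (c.exact centG_c centG_o (G_ub c)) zs44) (fun _ h => by cases h)
    (c.fixX zf42) (c.rels _ zr47) zm48 zs46

theorem hom {F : Type*} [Field F] [Fintype F] (hF : Fintype.card F = 2) :
    ∃ f : Matrix.symplecticGroup (Fin 3) F →* Equiv.Perm (Fin P.n), f.range = (subW gs1 [[0], [2]]) ∧ f.ker = Subgroup.center _ ∧ Nat.card (subW gs1 [[0], [2]]) = 1451520 := by
  obtain ⟨el, h⟩ := Tab.exists_fc (tabP 2) (by decide +kernel) F hF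
  have hc : Nat.card (Matrix.symplecticGroup (Fin 3) F) = 1451520 := card_sp hF 3 (by decide +kernel)
  have hK := subW_eq_range (l := [[14], [16]]) (spHom 3 F) (spHom_inj _) hc (by norm_num)
    (subW_le_of_forall (mem_of_mem_ext (forall_mem_Sp h (by decide +kernel) M.hinv M.zv4) _) _) (M.G_lb (M.c1 h))
  exact cquot_of_cent (RelLe.cquot0 (l := [[14], [16]]) (lZ := []) (a := 1) (b := 1451520) (rel (M.c1 h) c1 ((faithful_eF _).mono le_top)) (by decide)
    (spHom 3 F) (spHom_inj _) hc (by norm_num) hK (M.hZ (M.c1 h)).1 (M.hZ (M.c1 h)).2 (M.Z_lb (M.c1 h)) (G_lb c1)) (cent c1)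
theorem iso {F : Type*} [Field F] [Fintype F] (hF : Fintype.card F = 2) :
    Nonempty ((subW gs1 [[0], [2]]) ≃* Matrix.symplecticGroup (Fin 3) F ⧸ Subgroup.center (Matrix.symplecticGroup (Fin 3) F)) := cquot_equiv (hom hF)
theorem card : Nat.card (subW gs1 [[0], [2]]) = 1451520 := by
  obtain ⟨F, _, _, hF⟩ := exists_field 2 1 (by norm_num)
  replace hF : Fintype.card F = 2 := hF
  exact (hom hF).choose_spec.2.2
theorem ub : UB (subW gs1 [[0], [2]]) 1451520 := UB.of_card card (by norm_num)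

theorem simple : IsSimpleGroup (subW gs1 [[0], [2]]) := by
  obtain ⟨F, _, _, hF⟩ := exists_field 2 1 (by norm_num)
  replace hF : Fintype.card F = 2 := hF
  obtain ⟨el, h⟩ := Tab.exists_fc (tabP 2) (by decide +kernel) F hF
  have : IsSimpleGroup (Matrix.symplecticGroup (Fin 3) F ⧸ Subgroup.center (Matrix.symplecticGroup (Fin 3) F)) := Sp.isSimpleGroup_PSp (F := F) 3 (by norm_num) (by rw [Nat.card_eq_fintype_card, hF]; norm_num)
  exact (iso hF).some.isSimpleGroup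

end
end CL.Std.PS62

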