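/-
A standard permutation model (Sp, dimension 6, field with 2 elements): degree 63, order 1451520.
Generated by tools/pg.
-/
import Cfsg.Agent.Spor.PGCls
import Cfsg.Agent.Spor.PGCtx

set_option autoImplicit false
set_option maxRecDepth 200000
set_option Elab.async false
set_option linter.unusedVariables false

namespace CL.Std.S62.M
open CL.PG

def P : Par := ⟨63, 64, 6, 3⟩
theorem hP : P.Ok := by decide
noncomputable def a0 : Net := (.cons 32 (nat_lit 0x78787858)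
 (.cons 16 (nat_lit 0x8020)
 (.cons 8 (nat_lit 0x8000a00080)
 (.cons 4 (nat_lit 0x50505050000)
 (.cons 2 (nat_lit 0x331333330020)
 (.cons 8 (nat_lit 0x8000000080)
 (.cons 32 (nat_lit 0x78787858)
 .nil)))))))
noncomputable def a1 : Net := (.cons 16 (nat_lit 0x800000008000)
 (.cons 8 (nat_lit 0x80008000800080)
 (.cons 4 (nat_lit 0xc0c00000c0c00)
 (.cons 1 (nat_lit 0x55550000555500)
 (.cons 8 (nat_lit 0x80008000800080)
 (.cons 16 (nat_lit 0x800000008000)
 .nil))))))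
noncomputable def a2 : Net := (.cons 32 (nat_lit 0x78787868)
 (.cons 16 (nat_lit 0x800000008000)
 (.cons 8 (nat_lit 0x80000000800090)
 (.cons 4 (nat_lit 0x6000606000600)
 (.cons 2 (nat_lit 0x33002333003320)
 (.cons 1 (nat_lit 0x55004555005510)
 (.cons 2 (nat_lit 0x2000000020)
 (.cons 8 (nat_lit 0x80000000800000)
 (.cons 16 (nat_lit 0x800000008000)
 (.cons 32 (nat_lit 0x78787868)
 .nil))))))))))
noncomputable def a3 : Net := (.cons 8 (nat_lit 0x54005400540054)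
 (.cons 4 (nat_lit 0x808080808080808)
 (.cons 2 (nat_lit 0x3202320232023202)
 (.cons 1 (nat_lit 0x5401540154015401)
 (.cons 2 (nat_lit 0x202020202020202)
 (.cons 4 (nat_lit 0x808080808080808)
 (.cons 8 (nat_lit 0x54005400540054)
 .nil)))))))
noncomputable def a4 : Net := (.cons 16 (nat_lit 0x666600006666)
 .nil)
noncomputable def a5 : Net := (.cons 8 (nat_lit 0x55005500550055)
 .nil)
noncomputable def a6 : Net := (.cons 32 (nat_lit 0x2d52d2ad)
 (.cons 16 (nat_lit 0x800000008000)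
 (.cons 8 (nat_lit 0x62006200620062)
 (.cons 4 (nat_lit 0xc00000c0c00000c)
 (.cons 1 (nat_lit 0x4510104545101045)
 (.cons 8 (nat_lit 0x62006200620062)
 (.cons 16 (nat_lit 0x800000008000)
 .nil)))))))
noncomputable def a7 : Net := (.cons 32 (nat_lit 0xcb4b4b4b)
 (.cons 16 (nat_lit 0xd87c00006878)
 (.cons 8 (nat_lit 0x2a002a00d500d5)
 (.cons 4 (nat_lit 0xd0d0d0d02020202)
 (.cons 2 (nat_lit 0x2102213212011231)
 (.cons 1 (nat_lit 0x1451410441041451)
 (.cons 2 (nat_lit 0x2202220222022202)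
 (.cons 4 (nat_lit 0x404040404040404)
 (.cons 8 (nat_lit 0xf800f800f800f8)
 (.cons 16 (nat_lit 0x6f8000006f80)
 (.cons 32 (nat_lit 0x80000000)
 .nil)))))))))))
noncomputable def a8 : Net := (.cons 32 (nat_lit 0x552aaaf5)
 (.cons 16 (nat_lit 0x9e1e00009e1e)
 (.cons 8 (nat_lit 0xd500d500d500d5)
 (.cons 4 (nat_lit 0x807080407080704)
 (.cons 2 (nat_lit 0x3333331300000020)
 (.cons 1 (nat_lit 0x505501405055014)
 (.cons 4 (nat_lit 0x808080408080804)
 (.cons 8 (nat_lit 0x80008000800080)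
 (.cons 16 (nat_lit 0x800000008000)
 (.cons 32 (nat_lit 0x78787868)
 .nil))))))))))
noncomputable def a9 : Net := (.cons 32 (nat_lit 0x9e61e19e)
 (.cons 16 (nat_lit 0x99e6000099e6)
 (.cons 8 (nat_lit 0x80008000800080)
 (.cons 4 (nat_lit 0x807080707080708)
 (.cons 2 (nat_lit 0x2112122112212112)
 (.cons 1 (nat_lit 0x1441411414414114)
 (.cons 2 (nat_lit 0x2222222222222222)
 (.cons 4 (nat_lit 0x808080808080808)
 (.cons 8 (nat_lit 0x80008000800080)
 (.cons 16 (nat_lit 0x800000008000)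
 (.cons 32 (nat_lit 0x80000000)
 .nil)))))))))))
noncomputable def a10 : Net := (.cons 32 (nat_lit 0xe19e619e)
 (.cons 16 (nat_lit 0x7feb00000020)
 (.cons 8 (nat_lit 0x840090000000a0)
 (.cons 4 (nat_lit 0xd010201020e0d0e)
 (.cons 2 (nat_lit 0x2113122012232110)
 (.cons 1 (nat_lit 0x4141414114141414)
 (.cons 2 (nat_lit 0x22002200220022)
 (.cons 4 (nat_lit 0x40e040e040e040e)
 (.cons 16 (nat_lit 0x783800007838)
 (.cons 32 (nat_lit 0x80000000)
 .nil))))))))))
noncomputable def a11 : Net := (.cons 32 (nat_lit 0x40)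
 (.cons 16 (nat_lit 0x800000008000)
 (.cons 8 (nat_lit 0x80008000800080)
 (.cons 4 (nat_lit 0x6090c030a050f00)
 (.cons 2 (nat_lit 0x3333000033330000)
 (.cons 1 (nat_lit 0x5555551500000040)
 (.cons 8 (nat_lit 0x80008000800080)
 (.cons 16 (nat_lit 0x800000008000)
 (.cons 32 (nat_lit 0x78787838)
 .nil)))))))))
noncomputable def a12 : Net := (.cons 32 (nat_lit 0x8)
 (.cons 16 (nat_lit 0x800000008000)
 (.cons 8 (nat_lit 0x80008000800080)
 (.cons 4 (nat_lit 0x6030507090c0a08)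
 (.cons 2 (nat_lit 0x3300330033003300)
 (.cons 1 (nat_lit 0x5555000055550000)
 (.cons 8 (nat_lit 0x80008000800080)
 (.cons 16 (nat_lit 0x800000008000)
 (.cons 32 (nat_lit 0x78787870)
 .nil)))))))))
noncomputable def a13 : Net := (.cons 32 (nat_lit 0x7f807f0)
 (.cons 16 (nat_lit 0x800000008000)
 (.cons 8 (nat_lit 0x80008000800080)
 (.cons 4 (nat_lit 0x807080f07080700)
 (.cons 2 (nat_lit 0x330033003300330)
 (.cons 1 (nat_lit 0x505505005055050)
 (.cons 4 (nat_lit 0x808080808080808)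
 (.cons 8 (nat_lit 0x80008000800080)
 (.cons 16 (nat_lit 0x800000008000)
 (.cons 32 (nat_lit 0x78787868)
 .nil))))))))))
noncomputable def a14 : Net := (.cons 32 (nat_lit 0x80000000)
 (.cons 16 (nat_lit 0x800000008000)
 (.cons 8 (nat_lit 0x80008000800080)
 (.cons 4 (nat_lit 0x900030503050900)
 (.cons 2 (nat_lit 0x3300003300333300)
 (.cons 1 (nat_lit 0x5500550055005500)
 (.cons 8 (nat_lit 0x80008000800080)
 (.cons 16 (nat_lit 0x800000008000)
 (.cons 32 (nat_lit 0x80000000)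
 .nil)))))))))
noncomputable def a15 : Net := (.cons 32 (nat_lit 0x80000000)
 (.cons 16 (nat_lit 0x800000008000)
 (.cons 8 (nat_lit 0x80008000800080)
 (.cons 4 (nat_lit 0x9050f0c0a060300)
 (.cons 2 (nat_lit 0x3333000033330000)
 (.cons 1 (nat_lit 0x5500005500555500)
 (.cons 8 (nat_lit 0x80008000800080)
 (.cons 16 (nat_lit 0x800000008000)
 (.cons 32 (nat_lit 0x80000000)
 .nil)))))))))
noncomputable def a16 : Net := (.cons 32 (nat_lit 0x80000000)
 (.cons 16 (nat_lit 0x801000000000)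
 (.cons 8 (nat_lit 0x80008000800080)
 (.cons 4 (nat_lit 0x90609060f000f00)
 (.cons 2 (nat_lit 0x3333333300000000)
 (.cons 1 (nat_lit 0x5555555500000000)
 (.cons 8 (nat_lit 0x80008000800080)
 (.cons 32 (nat_lit 0x80000000)
 .nil))))))))
noncomputable def a17 : Net := (.cons 16 (nat_lit 0x800000008000)
 (.cons 8 (nat_lit 0x80008000800080)
 (.cons 4 (nat_lit 0xa090c000a090c00)
 (.cons 2 (nat_lit 0x3333000033330000)
 (.cons 1 (nat_lit 0x55550000555500)
 (.cons 8 (nat_lit 0x80008000800080)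
 (.cons 16 (nat_lit 0x800000008000)
 .nil)))))))
noncomputable def a18 : Net := (.cons 32 (nat_lit 0x80000000)
 (.cons 16 (nat_lit 0x800000008000)
 (.cons 8 (nat_lit 0x80008000800080)
 (.cons 4 (nat_lit 0x60f0c0a03050900)
 (.cons 2 (nat_lit 0x3300003300333300)
 (.cons 1 (nat_lit 0x5500550055005500)
 (.cons 8 (nat_lit 0x80008000800080)
 (.cons 16 (nat_lit 0x800000008000)
 (.cons 32 (nat_lit 0x80000000)
 .nil)))))))))
noncomputable def a19 : Net := (.cons 32 (nat_lit 0x80000000)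
 (.cons 16 (nat_lit 0x800000008000)
 (.cons 8 (nat_lit 0x80008000800080)
 (.cons 4 (nat_lit 0x906030c0a050f00)
 (.cons 2 (nat_lit 0x3333000033330000)
 (.cons 1 (nat_lit 0x5555555500000000)
 (.cons 8 (nat_lit 0x80008000800080)
 (.cons 16 (nat_lit 0x800000008000)
 (.cons 32 (nat_lit 0x80000000)
 .nil)))))))))
noncomputable def a20 : Net := (.cons 32 (nat_lit 0x80000000)
 (.cons 16 (nat_lit 0x800000008000)
 (.cons 8 (nat_lit 0xa000a00000)
 (.cons 4 (nat_lit 0x50505050000)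
 (.cons 2 (nat_lit 0x333333330000)
 (.cons 16 (nat_lit 0x800000008000)
 (.cons 32 (nat_lit 0x80000000)
 .nil)))))))
noncomputable def a21 : Net := (.cons 16 (nat_lit 0x800000008000)
 (.cons 8 (nat_lit 0x82000000820000)
 (.cons 4 (nat_lit 0xa0a00000a0a0000)
 (.cons 2 (nat_lit 0x3333000033330000)
 (.cons 16 (nat_lit 0x800000008000)
 .nil)))))
noncomputable def a22 : Net := (.cons 32 (nat_lit 0x80000000)
 (.cons 16 (nat_lit 0x800000008000)
 (.cons 8 (nat_lit 0x88008200a00000)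
 (.cons 4 (nat_lit 0xf0f0a0a05050000)
 (.cons 2 (nat_lit 0x333333330000)
 (.cons 16 (nat_lit 0x800000008000)
 (.cons 32 (nat_lit 0x80000000)
 .nil)))))))
noncomputable def a23 : Net := (.cons 32 (nat_lit 0x80000000)
 (.cons 16 (nat_lit 0x800800000000)
 (.cons 8 (nat_lit 0x88008800000000)
 (.cons 4 (nat_lit 0xf0f0f0f00000000)
 (.cons 32 (nat_lit 0x80000000)
 .nil)))))
noncomputable def ns0 : List Net := [a0, a1, a2, a3, a4, a5, a6]
noncomputable def ws : List (List ℕ) :=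
  [W (nat_lit 0xd01c0a00405),
  W (nat_lit 0xa00c050280b03808),
  W (nat_lit 0x100401204010),
  W (nat_lit 0x11044100480f044110441004010),
  W (nat_lit 0x50140581405813),
  W (nat_lit 0x54140581405016),
  W (nat_lit 0x1604c1505016),
  W (nat_lit 0x5c1b06418),
  W (nat_lit 0x1b05c1b0601a),
  W (nat_lit 0x641b),
  W (nat_lit 0x1705c17),
  W (nat_lit 0x180701906c1a),
  W (nat_lit 0x180681a),
  W (nat_lit 0x982008c2508c250841d0981f08828090210901e),
  W (nat_lit 0x280802407c260881d09c200a025080200881e),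
  W (nat_lit 0x841e0901f088270842609c1d09c230941f0981e),
  W (nat_lit 0xb82a)]
noncomputable def ns : List Net := [a0, a1, a2, a3, a4, a5, a6, a7, a8, a9, a10, a11, a12, a13, a14, a15, a16, a17, a18, a19, a20, a21, a22, a23]
noncomputable def D : List (ℕ × List ℕ) := app [] (mkDefs ws 7)
noncomputable def chk : List (List ℕ × List ℕ) → Bool := P.relsB ns
noncomputable def V : List ℕ :=
  [(nat_lit 0x55555555555555552aaaaaaaaaaaaaaa),
  (nat_lit 0x66666666666666661999999999999999),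
  (nat_lit 0x78787878787878780787878787878787),
  (nat_lit 0x7f807f807f807f80007f807f807f807f),
  (nat_lit 0x7fff80007fff800000007fff80007fff),
  (nat_lit 0x7fffffff80000000000000007fffffff)]
noncomputable def ms : List (List (List ℕ) × List (List ℕ)) :=
  [([[1, 0, 0, 0, 0, 0], [0, 1, 1, 0, 1, 1], [0, 0, 0, 0, 1, 1], [0, 0, 0, 1, 0, 0], [0, 0, 0, 0, 1, 0], [0, 0, 1, 0, 1, 0]],
   [[1, 0, 0, 0, 0, 0], [0, 1, 1, 0, 1, 1], [0, 0, 0, 0, 1, 1], [0, 0, 0, 1, 0, 0], [0, 0, 0, 0, 1, 0], [0, 0, 1, 0, 1, 0]]),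
  ([[1, 0, 0, 1, 1, 0], [0, 1, 0, 1, 1, 0], [0, 0, 1, 0, 0, 0], [0, 0, 0, 1, 0, 0], [0, 0, 0, 0, 1, 0], [0, 0, 0, 0, 0, 1]],
   [[1, 0, 0, 1, 1, 0], [0, 1, 0, 1, 1, 0], [0, 0, 1, 0, 0, 0], [0, 0, 0, 1, 0, 0], [0, 0, 0, 0, 1, 0], [0, 0, 0, 0, 0, 1]]),
  ([[1, 0, 1, 1, 0, 1], [0, 1, 0, 0, 0, 0], [0, 0, 0, 1, 0, 1], [0, 0, 0, 1, 0, 0], [0, 0, 0, 0, 1, 0], [0, 0, 1, 1, 0, 0]],
   [[1, 0, 1, 1, 0, 1], [0, 1, 0, 0, 0, 0], [0, 0, 0, 1, 0, 1], [0, 0, 0, 1, 0, 0], [0, 0, 0, 0, 1, 0], [0, 0, 1, 1, 0, 0]]),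
  ([[0, 0, 0, 1, 0, 0], [0, 1, 0, 0, 0, 0], [0, 0, 1, 0, 0, 0], [1, 0, 0, 0, 0, 0], [0, 0, 0, 0, 1, 0], [0, 0, 0, 0, 0, 1]],
   [[0, 0, 0, 1, 0, 0], [0, 1, 0, 0, 0, 0], [0, 0, 1, 0, 0, 0], [1, 0, 0, 0, 0, 0], [0, 0, 0, 0, 1, 0], [0, 0, 0, 0, 0, 1]]),
  ([[1, 0, 0, 0, 0, 0], [0, 1, 0, 0, 0, 0], [0, 0, 1, 0, 0, 0], [0, 0, 0, 1, 0, 0], [0, 1, 0, 0, 1, 0], [0, 0, 0, 0, 0, 1]],
   [[1, 0, 0, 0, 0, 0], [0, 1, 0, 0, 0, 0], [0, 0, 1, 0, 0, 0], [0, 0, 0, 1, 0, 0], [0, 1, 0, 0, 1, 0], [0, 0, 0, 0, 0, 1]]),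
  ([[1, 0, 0, 0, 0, 0], [0, 1, 0, 0, 0, 0], [0, 0, 1, 0, 0, 0], [1, 0, 0, 1, 0, 0], [0, 0, 0, 0, 1, 0], [0, 0, 0, 0, 0, 1]],
   [[1, 0, 0, 0, 0, 0], [0, 1, 0, 0, 0, 0], [0, 0, 1, 0, 0, 0], [1, 0, 0, 1, 0, 0], [0, 0, 0, 0, 1, 0], [0, 0, 0, 0, 0, 1]]),
  ([[0, 0, 1, 1, 1, 0], [1, 1, 1, 1, 1, 0], [0, 0, 1, 0, 0, 0], [1, 0, 1, 0, 1, 0], [0, 0, 0, 0, 1, 0], [1, 0, 1, 1, 1, 1]],
   [[0, 0, 1, 1, 1, 0], [1, 1, 1, 1, 1, 0], [0, 0, 1, 0, 0, 0], [1, 0, 1, 0, 1, 0], [0, 0, 0, 0, 1, 0], [1, 0, 1, 1, 1, 1]])]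
noncomputable def G_v0 : Lev :=
  ⟨0, 63, sg (W (nat_lit 0xf03c0f0440f0440f0440f0440f)), [[18], [20]], 2, 2⟩
noncomputable def G_v1 : Lev :=
  ⟨1, 30, sg (W (nat_lit 0x1504c13054130541305413)), [[22], [24], [26]], 4, 3⟩
noncomputable def G_v2 : Lev :=
  ⟨3, 12, sg (W (nat_lit 0x170641706c17)), [[28], [30], [32], [34], [36], [38]], 7, 6⟩
noncomputable def G_v3 : Lev :=
  ⟨7, 8, sg (W (nat_lit 0x2107c1d)), [[40], [42], [44]], 13, 3⟩
noncomputable def G_v4 : Lev :=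
  ⟨15, 4, sg (W (nat_lit 0xac29)), [[46]], 16, 1⟩
noncomputable def G_v5 : Lev :=
  ⟨31, 2, sg [46], [], 17, 0⟩
noncomputable def G_vs6 : List Lev :=
  []
noncomputable def G_vs5 : List Lev :=
  G_v5 :: G_vs6
noncomputable def G_vs4 : List Lev :=
  G_v4 :: G_vs5
noncomputable def G_vs3 : List Lev :=
  G_v3 :: G_vs4
noncomputable def G_vs2 : List Lev :=
  G_v2 :: G_vs3
noncomputable def G_vs1 : List Lev :=
  G_v1 :: G_vs2
noncomputable def G_vs : List Lev :=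
  G_v0 :: G_vs1

theorem zv0 : vecB (tabP 2).q 1 6 P V = true := by decide +kernel
theorem zv1 : Nat.beq (lenL ms) (lenL ns0) = true := by decide +kernel
theorem zv2 : allL ((tabP 2).actB 1 6 P V) (zp Net.nil ms ns0) = true := by decide +kernel
theorem zv3 : (tabP 2).basB 6 P V [0, 1, 3, 7, 15, 31] [[1, 0, 0, 0, 0, 0], [0, 1, 0, 0, 0, 0], [0, 0, 1, 0, 0, 0], [0, 0, 0, 1, 0, 0], [0, 0, 0, 0, 1, 0], [0, 0, 0, 0, 0, 1]] = true := by decide +kernel
theorem zv4 : allL ((tabP 2).spB 3 1) ms = true := by decide +kernel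
theorem zc5 : P.chainB ns D G_vs [[14], [16]] = true := by decide +kernel
theorem zk6 : allL (keepB P.n P.N) ns0 = true := by decide +kernel
theorem ze7 : extB ns0 ns 7 ws [] = true := by decide +kernel
theorem zn8 : P.netsB ns (mkDefs ws 7) = true := by decide +kernel

section
variable {G X : Type*} [Group G] [MulAction G X] {e : ℕ → X} {gs : List G}

theorem keep0 : allL (keepB P.n P.N) ns0 = true := zk6

theorem len {k} (c : Ctx P e gs ns0 [] k) : gs.length = 7 := c.len ze7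

theorem ctx0 {k} (c : Ctx P e gs ns0 [] k) : Ctx P e (ext gs ws) ns D chk0 :=
  c.ext rfl ze7 zn8

theorem ctx {k} (c : Ctx P e gs ns0 [] k) {H : Subgroup G} (hF : Faithful e P.n H) (hH : ∀ g ∈ gs, g ∈ H) :
    Ctx P e (ext gs ws) ns D chk :=
  (ctx0 c).withB hF (mem_of_mem_ext hH _)

theorem hV : vecB (tabP 2).q 1 6 P V = true := zv0
theorem hact : allL ((tabP 2).actB 1 6 P V) (zp Net.nil ms ns0) = true := zv2
theorem hinv : allL ((tabP 2).invB 6) ms = true := actB_invB hact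
theorem base {F : Type*} [Field F] {el : ℕ → F} (h : FC (tabP 2) el) : Ctx P (vecOf el (sPlus 3) (tabP 2).q P.N V) (List.map (glF el (sPlus 3)) ms) ns0 [] chk0 :=
  ctx_mat h (ix_plus 3) hP hV zv1 hact
theorem faith {F : Type*} [Field F] {el : ℕ → F} (h : FC (tabP 2) el) : Faithful (vecOf el (sPlus 3) (tabP 2).q P.N V) P.n (⊤ : Subgroup (GL (Fin 3 ⊕ Fin 3) F)) :=
  faithful_vecOf h (ix_plus 3) hP hV zv3
theorem c1 {F : Type*} [Field F] {el : ℕ → F} (h : FC (tabP 2) el) : Ctx P (vecOf el (sPlus 3) (tabP 2).q P.N V) (ext (List.map (glF el (sPlus 3)) ms) ws) ns D chk :=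
  ctx (base h) (faith h) fun _ _ => trivial

theorem G_c : P.chainB ns D G_vs [[14], [16]] = true :=
  zc5

theorem G_o : prodL G_vs 1 = 1451520 := by decide +kernel

theorem G_lb (c : Ctx P e gs ns D chk) :
    LB (subW gs [[14], [16]]) 1451520 :=
  c.lb G_c G_o

end
end CL.Std.S62.M

namespace CL.Std.S62
open CL.PG

def P : Par := ⟨63, 64, 6, 3⟩
theorem hP : P.Ok := by decide
noncomputable def a0 : Net := (.cons 32 (nat_lit 0xcb4b4b4b)
 (.cons 16 (nat_lit 0xd87c00006878)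
 (.cons 8 (nat_lit 0x2a002a00d500d5)
 (.cons 4 (nat_lit 0xd0d0d0d02020202)
 (.cons 2 (nat_lit 0x2102213212011231)
 (.cons 1 (nat_lit 0x1451410441041451)
 (.cons 2 (nat_lit 0x2202220222022202)
 (.cons 4 (nat_lit 0x404040404040404)
 (.cons 8 (nat_lit 0xf800f800f800f8)
 (.cons 16 (nat_lit 0x6f8000006f80)
 (.cons 32 (nat_lit 0x80000000)
 .nil)))))))))))
noncomputable def a1 : Net := (.cons 32 (nat_lit 0x552aaaf5)
 (.cons 16 (nat_lit 0x9e1e00009e1e)
 (.cons 8 (nat_lit 0xd500d500d500d5)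
 (.cons 4 (nat_lit 0x807080407080704)
 (.cons 2 (nat_lit 0x3333331300000020)
 (.cons 1 (nat_lit 0x505501405055014)
 (.cons 4 (nat_lit 0x808080408080804)
 (.cons 8 (nat_lit 0x80008000800080)
 (.cons 16 (nat_lit 0x800000008000)
 (.cons 32 (nat_lit 0x78787868)
 .nil))))))))))
noncomputable def a2 : Net := (.cons 32 (nat_lit 0x66666664)
 (.cons 16 (nat_lit 0xf8780000f878)
 (.cons 8 (nat_lit 0xa0008000880080)
 (.cons 4 (nat_lit 0x5050a080f0f0008)
 (.cons 2 (nat_lit 0x3333333100000002)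
 (.cons 4 (nat_lit 0x800000008)
 (.cons 8 (nat_lit 0x8000000080)
 (.cons 16 (nat_lit 0xf8780000f878)
 (.cons 32 (nat_lit 0x66666664)
 .nil)))))))))
noncomputable def a3 : Net := (.cons 32 (nat_lit 0x7e807f8)
 (.cons 16 (nat_lit 0xffbf00008012)
 (.cons 8 (nat_lit 0x80008000800080)
 (.cons 4 (nat_lit 0x10101010e0e0e0e)
 (.cons 2 (nat_lit 0x2121121221211212)
 (.cons 1 (nat_lit 0x1144441144111144)
 (.cons 2 (nat_lit 0x2202220222022202)
 (.cons 4 (nat_lit 0x808080008080800)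
 (.cons 8 (nat_lit 0x80008000800080)
 (.cons 16 (nat_lit 0x802800008028)
 (.cons 32 (nat_lit 0x7ff78000)
 .nil)))))))))))
noncomputable def a4 : Net := (.cons 32 (nat_lit 0xf80787f8)
 (.cons 16 (nat_lit 0x800000008000)
 (.cons 8 (nat_lit 0x80008000800080)
 (.cons 4 (nat_lit 0x707070708080808)
 (.cons 2 (nat_lit 0x3300330033003300)
 (.cons 1 (nat_lit 0x5050050505055050)
 (.cons 4 (nat_lit 0x808080808080808)
 (.cons 8 (nat_lit 0x80008000800080)
 (.cons 16 (nat_lit 0x800000008000)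
 (.cons 32 (nat_lit 0x80000000)
 .nil))))))))))
noncomputable def a5 : Net := (.cons 32 (nat_lit 0x787f858)
 (.cons 16 (nat_lit 0x800000008000)
 (.cons 8 (nat_lit 0x80008000800080)
 (.cons 4 (nat_lit 0x707070708080808)
 (.cons 2 (nat_lit 0x3003300303300330)
 (.cons 1 (nat_lit 0x5500550055005500)
 (.cons 4 (nat_lit 0x808080008080800)
 (.cons 8 (nat_lit 0x80008000800080)
 (.cons 16 (nat_lit 0x800000008000)
 (.cons 32 (nat_lit 0x78787870)
 .nil))))))))))
noncomputable def a6 : Net := (.cons 32 (nat_lit 0x80000000)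
 (.cons 16 (nat_lit 0x800000008000)
 (.cons 8 (nat_lit 0x80008000800080)
 (.cons 4 (nat_lit 0xc03030c000f0f00)
 (.cons 1 (nat_lit 0x5555555500000000)
 (.cons 8 (nat_lit 0x80008000800080)
 (.cons 16 (nat_lit 0x800000008000)
 (.cons 32 (nat_lit 0x80000000)
 .nil))))))))
noncomputable def a7 : Net := (.cons 32 (nat_lit 0x80000000)
 (.cons 16 (nat_lit 0x800000008000)
 (.cons 8 (nat_lit 0x80008000800080)
 (.cons 4 (nat_lit 0x306000a06030a00)
 (.cons 2 (nat_lit 0x33003333003300)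
 (.cons 1 (nat_lit 0x5555000055550000)
 (.cons 8 (nat_lit 0x80008000800080)
 (.cons 16 (nat_lit 0x800000008000)
 (.cons 32 (nat_lit 0x80000000)
 .nil)))))))))
noncomputable def a8 : Net := (.cons 32 (nat_lit 0x80000000)
 (.cons 16 (nat_lit 0x800000008000)
 (.cons 8 (nat_lit 0x8200a000880000)
 (.cons 4 (nat_lit 0xa0a05050f0f0000)
 (.cons 2 (nat_lit 0x3333333300000000)
 (.cons 16 (nat_lit 0x800000008000)
 (.cons 32 (nat_lit 0x80000000)
 .nil)))))))
noncomputable def a9 : Net := (.cons 32 (nat_lit 0x80000000)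
 (.cons 16 (nat_lit 0x800000008000)
 (.cons 8 (nat_lit 0x80008000800080)
 (.cons 4 (nat_lit 0xa0f0c0603090500)
 (.cons 2 (nat_lit 0x3300003300333300)
 (.cons 1 (nat_lit 0x555555550000)
 (.cons 8 (nat_lit 0x80008000800080)
 (.cons 16 (nat_lit 0x800000008000)
 (.cons 32 (nat_lit 0x80000000)
 .nil)))))))))
noncomputable def a10 : Net := (.cons 32 (nat_lit 0x80000000)
 (.cons 16 (nat_lit 0x800000008000)
 (.cons 8 (nat_lit 0x80008000800080)
 (.cons 4 (nat_lit 0x60a05090f0c0300)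
 (.cons 2 (nat_lit 0x3333333300000000)
 (.cons 1 (nat_lit 0x5500005500555500)
 (.cons 8 (nat_lit 0x80008000800080)
 (.cons 16 (nat_lit 0x800000008000)
 (.cons 32 (nat_lit 0x80000000)
 .nil)))))))))
noncomputable def a11 : Net := (.cons 32 (nat_lit 0x80000000)
 (.cons 16 (nat_lit 0x800000008000)
 (.cons 8 (nat_lit 0x80008000800080)
 (.cons 4 (nat_lit 0xf03090a05060c00)
 (.cons 2 (nat_lit 0x333333330000)
 (.cons 1 (nat_lit 0x55550000555500)
 (.cons 8 (nat_lit 0x80008000800080)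
 (.cons 16 (nat_lit 0x800000008000)
 (.cons 32 (nat_lit 0x80000000)
 .nil)))))))))
noncomputable def a12 : Net := (.cons 32 (nat_lit 0x80000000)
 (.cons 16 (nat_lit 0x800000008000)
 (.cons 8 (nat_lit 0xa0008200880000)
 (.cons 4 (nat_lit 0x5050a0a0f0f0000)
 (.cons 2 (nat_lit 0x3333333300000000)
 (.cons 16 (nat_lit 0x800000008000)
 (.cons 32 (nat_lit 0x80000000)
 .nil)))))))
noncomputable def a13 : Net := (.cons 16 (nat_lit 0x800000008000)
 (.cons 8 (nat_lit 0x82000000820000)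
 (.cons 4 (nat_lit 0xa0a00000a0a0000)
 (.cons 2 (nat_lit 0x3333000033330000)
 (.cons 16 (nat_lit 0x800000008000)
 .nil)))))
noncomputable def a14 : Net := (.cons 32 (nat_lit 0x80000000)
 (.cons 16 (nat_lit 0x800000008000)
 (.cons 8 (nat_lit 0xa000a00000)
 (.cons 4 (nat_lit 0x50505050000)
 (.cons 2 (nat_lit 0x333333330000)
 (.cons 16 (nat_lit 0x800000008000)
 (.cons 32 (nat_lit 0x80000000)
 .nil)))))))
noncomputable def a15 : Net := (.cons 32 (nat_lit 0x80000000)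
 (.cons 16 (nat_lit 0x800800000000)
 (.cons 8 (nat_lit 0x88008800000000)
 (.cons 4 (nat_lit 0xf0f0f0f00000000)
 (.cons 32 (nat_lit 0x80000000)
 .nil)))))
noncomputable def ns0 : List Net := [a0, a1]
noncomputable def ws : List (List ℕ) :=
  [W (nat_lit 0x100401004),
  W (nat_lit 0x100100c0200c01),
  W (nat_lit 0x140701c0601c0701c0701c07),
  W (nat_lit 0x140501c06020050200801808),
  W (nat_lit 0x601c0602006),
  W (nat_lit 0x240c0300a),
  W (nat_lit 0x2c090380a03809),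
  W (nat_lit 0xc0340c03009),
  W (nat_lit 0x280d0280c0240b),
  W (nat_lit 0xe030090340d03009),
  W (nat_lit 0x110600f058110581005c130401404016048130581705810),
  W (nat_lit 0x110541105014038130401503817040130381005810),
  W (nat_lit 0x3813034100441804c0e05015054180501504018),
  W (nat_lit 0x1a0701d)]
noncomputable def ns : List Net := [a0, a1, a2, a3, a4, a5, a6, a7, a8, a9, a10, a11, a12, a13, a14, a15]
noncomputable def D : List (ℕ × List ℕ) := app [] (mkDefs ws 2)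
noncomputable def chk : List (List ℕ × List ℕ) → Bool := P.relsB ns
noncomputable def G_v0 : Lev :=
  ⟨0, 63, sg (W (nat_lit 0x10040100c0100c0100c0100c01)), [[4], [6]], 0, 2⟩
noncomputable def G_v1 : Lev :=
  ⟨1, 30, sg (W (nat_lit 0x1c0501c0501c070140701c05)), [[8], [10], [12]], 2, 3⟩
noncomputable def G_v2 : Lev :=
  ⟨3, 12, sg (W (nat_lit 0x902c0902c09)), [[14], [12], [16], [18], [20], [22]], 5, 5⟩
noncomputable def G_v3 : Lev :=
  ⟨7, 8, sg (W (nat_lit 0x150340f)), [[24], [26], [28]], 10, 3⟩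
noncomputable def G_v4 : Lev :=
  ⟨15, 4, sg (W (nat_lit 0x6c19)), [[30]], 13, 1⟩
noncomputable def G_v5 : Lev :=
  ⟨31, 2, sg [30], [], 14, 0⟩
noncomputable def G_vs6 : List Lev :=
  []
noncomputable def G_vs5 : List Lev :=
  G_v5 :: G_vs6
noncomputable def G_vs4 : List Lev :=
  G_v4 :: G_vs5
noncomputable def G_vs3 : List Lev :=
  G_v3 :: G_vs4
noncomputable def G_vs2 : List Lev :=
  G_v2 :: G_vs3
noncomputable def G_vs1 : List Lev :=
  G_v1 :: G_vs2
noncomputable def G_vs : List Lev :=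
  G_v0 :: G_vs1
noncomputable def zE1 : Net :=
  .nil
noncomputable def zK2 : Lk :=
  ⟨zE1, 1, 3, 1⟩

theorem zc0 : P.chainB ns D G_vs [[0], [2]] = true := by decide +kernel
theorem zl3 : zK2.relB CL.Std.S62.M.P CL.Std.S62.P CL.Std.S62.M.ns [[14], [16]] [[0], [2]] = true := by decide +kernel
theorem zl4 : allL (zK2.pl CL.Std.S62.M.P CL.Std.S62.P CL.Std.S62.M.ns CL.Std.S62.ns 0) (zp [] [[14], [16]] [[0], [2]]) = true := by decide +kernel
theorem zk5 : allL (keepB P.n P.N) ns0 = true := by decide +kernel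
theorem ze6 : extB ns0 ns 2 ws [] = true := by decide +kernel
theorem zn7 : P.netsB ns (mkDefs ws 2) = true := by decide +kernel

section
variable {G X : Type*} [Group G] [MulAction G X] {e : ℕ → X} {gs : List G}

theorem keep0 : allL (keepB P.n P.N) ns0 = true := zk5

theorem len {k} (c : Ctx P e gs ns0 [] k) : gs.length = 2 := c.len ze6

theorem ctx0 {k} (c : Ctx P e gs ns0 [] k) : Ctx P e (ext gs ws) ns D chk0 :=
  c.ext rfl ze6 zn7

theorem ctx {k} (c : Ctx P e gs ns0 [] k) {H : Subgroup G} (hF : Faithful e P.n H) (hH : ∀ g ∈ gs, g ∈ H) :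
    Ctx P e (ext gs ws) ns D chk :=
  (ctx0 c).withB hF (mem_of_mem_ext hH _)

instance instNe : NeZero P.n := ⟨by decide⟩
noncomputable def gs0 : List (Equiv.Perm (Fin P.n)) := permsOf P.n P.N ns0
noncomputable def gs1 : List (Equiv.Perm (Fin P.n)) := ext gs0 ws
theorem c1 : Ctx P (eF P.n) gs1 ns D chk :=
  ctx (ctx_permsOf hP keep0) (faithful_eF _) fun _ _ => trivial

theorem G_c : P.chainB ns D G_vs [[0], [2]] = true :=
  zc0

theorem G_o : prodL G_vs 1 = 1451520 := by decide +kernel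

theorem G_lb (c : Ctx P e gs ns D chk) :
    LB (subW gs [[0], [2]]) 1451520 :=
  c.lb G_c G_o

theorem rel {Γ Y : Type*} [Group Γ] [MulAction Γ Y] {e' : ℕ → Y} {cs : List Γ} {D₁ D₂ : List (ℕ × List ℕ)}
    {k₁ k₂ : List (List ℕ × List ℕ) → Bool} (c : Ctx CL.Std.S62.M.P e gs CL.Std.S62.M.ns D₁ k₁) (c' : Ctx CL.Std.S62.P e' cs CL.Std.S62.ns D₂ k₂)
    (hF : Faithful e' CL.Std.S62.P.n (subW cs [[0], [2]])) :
    RelLe gs [[14], [16]] cs [[0], [2]] :=
  c.relLe (K := zK2) c' hF zl3 (fun (t : ℕ) (ht : t < 1) => match t, ht with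
    | 0, _ => zl4
    | t + 1, h => absurd h (by omega))

theorem iso {F : Type*} [Field F] [Fintype F] (hF : Fintype.card F = 2) :
    Nonempty ((subW gs1 [[0], [2]]) ≃* Matrix.symplecticGroup (Fin 3) F) := by
  obtain ⟨el, h⟩ := Tab.exists_fc (tabP 2) (by decide +kernel) F hF
  have hc : Nat.card (Matrix.symplecticGroup (Fin 3) F) = 1451520 := card_sp hF 3 (by decide +kernel)
  have hK := subW_eq_range (l := [[14], [16]]) (spHom 3 F) (spHom_inj _) hc (by norm_num)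
    (subW_le_of_forall (mem_of_mem_ext (forall_mem_Sp h (by decide +kernel) M.hinv M.zv4) _) _) (M.G_lb (M.c1 h))
  exact (rel (M.c1 h) c1 ((faithful_eF _).mono le_top)).iso_of_range (spHom 3 F) (spHom_inj _) hc (by norm_num) hK (G_lb c1)
theorem card : Nat.card (subW gs1 [[0], [2]]) = 1451520 := by
  obtain ⟨F, _, _, hF⟩ := exists_field 2 1 (by norm_num)
  replace hF : Fintype.card F = 2 := hF
  obtain ⟨el, h⟩ := Tab.exists_fc (tabP 2) (by decide +kernel) F hF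
  exact (Nat.card_congr (iso hF).some.toEquiv).trans (card_sp hF 3 (by decide +kernel))
theorem ub : UB (subW gs1 [[0], [2]]) 1451520 := UB.of_card card (by norm_num)

end
end CL.Std.S62

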