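/-
A standard permutation model (PSL, dimension 4, field with 3 elements): degree 40, order 6065280.
Generated by tools/pg.
-/
import Cfsg.Agent.Spor.PGCls
import Cfsg.Agent.Spor.PGCtx

set_option autoImplicit false
set_option maxRecDepth 200000
set_option Elab.async false
set_option linter.unusedVariables false

namespace CL.Std.L43.M
open CL.PG

def P : Par := ⟨80, 80, 7, 3⟩
theorem hP : P.Ok := by decide
noncomputable def a0 : Net := (.cons 40 (nat_lit 0x150007ada3)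
 (.cons 20 (nat_lit 0x40c7e0000064ccc)
 (.cons 10 (nat_lit 0x1930008d00006001b9)
 (.cons 5 (nat_lit 0x3817034060080605806)
 (.cons 1 (nat_lit 0x400000000000000001)
 (.cons 1 (nat_lit 0x900000000000040002)
 (.cons 1 (nat_lit 0x10a0000000002020004)
 (.cons 1 (nat_lit 0x1284210000008421000a)
 (.cons 1 (nat_lit 0x200008100000014a4)
 (.cons 5 (nat_lit 0x814010000100004000)
 (.cons 10 (nat_lit 0x820018c0008400020)
 (.cons 20 (nat_lit 0x71c3800000444cc)
 (.cons 40 (nat_lit 0x34088735e0)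
 .nil)))))))))))))
noncomputable def a1 : Net := (.cons 40 (nat_lit 0x75651b2cbc)
 (.cons 20 (nat_lit 0xf8a0200000a72ab)
 (.cons 10 (nat_lit 0x19d002a800256000a1)
 (.cons 5 (nat_lit 0x4160081e0401b05c08)
 (.cons 1 (nat_lit 0x401000000000000000)
 (.cons 1 (nat_lit 0x80a000404204000142)
 (.cons 1 (nat_lit 0x29024200a42908101085)
 (.cons 1 (nat_lit 0x5284a100485094212142)
 (.cons 1 (nat_lit 0x20420280040908101404)
 (.cons 5 (nat_lit 0x40020080c000180400e)
 (.cons 10 (nat_lit 0x3cc002a80026c00260)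
 (.cons 20 (nat_lit 0xf8a020000087a8a)
 (.cons 40 (nat_lit 0x7d651b2cb8)
 .nil)))))))))))))
noncomputable def a2 : Net := (.cons 40 (nat_lit 0x7656493537)
 (.cons 20 (nat_lit 0x5072200000a2705)
 (.cons 10 (nat_lit 0x1d0000b000020000e8)
 (.cons 5 (nat_lit 0x200e050140200201808)
 (.cons 1 (nat_lit 0x20004012000000000)
 (.cons 1 (nat_lit 0x14050802501080000a)
 (.cons 1 (nat_lit 0x20084290842808408005)
 (.cons 1 (nat_lit 0x1014a529085204a1010a)
 (.cons 1 (nat_lit 0x21000084852808008481)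
 (.cons 5 (nat_lit 0x200c01000000100180c)
 (.cons 10 (nat_lit 0x190000a400320000ec)
 (.cons 20 (nat_lit 0x144300000086114)
 (.cons 40 (nat_lit 0x506b0500)
 .nil)))))))))))))
noncomputable def a3 : Net := (.cons 40 (nat_lit 0x3c20757a53)
 (.cons 20 (nat_lit 0x954070000005b43)
 (.cons 10 (nat_lit 0x87003030024f0011e)
 (.cons 5 (nat_lit 0x4000000000000000000)
 (.cons 1 (nat_lit 0x8000000000000000000)
 (.cons 1 (nat_lit 0x50000000000000000000)
 (.cons 1 (nat_lit 0x28000000000000000000)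
 (.cons 1 (nat_lit 0x50000008000280002000)
 (.cons 1 (nat_lit 0x80050000000020000a4)
 (.cons 5 (nat_lit 0x4000000000000000000)
 (.cons 10 (nat_lit 0x22000000000400048)
 (.cons 20 (nat_lit 0xd50040000081d48)
 (.cons 40 (nat_lit 0xbc60557050)
 .nil)))))))))))))
noncomputable def a4 : Net := (.cons 40 (nat_lit 0x5df8098374)
 (.cons 20 (nat_lit 0xbdf4a00000cb251)
 (.cons 10 (nat_lit 0x6f0001c0016d002ca)
 (.cons 5 (nat_lit 0x14110781600c190601b)
 (.cons 1 (nat_lit 0x5200010000000000)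
 (.cons 1 (nat_lit 0x4a501420000800102)
 (.cons 1 (nat_lit 0x214a52848401405000a5)
 (.cons 1 (nat_lit 0x5294a129484284a0284a)
 (.cons 1 (nat_lit 0x28000204a0204a0290a1)
 (.cons 5 (nat_lit 0x2018070180600e04006)
 (.cons 10 (nat_lit 0x1f2002180034c0020c)
 (.cons 20 (nat_lit 0x1ca0c0000063172)
 (.cons 40 (nat_lit 0x3ca068615c)
 .nil)))))))))))))
noncomputable def a5 : Net := (.cons 40 (nat_lit 0x19fb1a9158)
 (.cons 20 (nat_lit 0xf6e7c0000097e97)
 (.cons 10 (nat_lit 0x2260008c002410039c)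
 (.cons 5 (nat_lit 0x340e040100501204c19)
 (.cons 1 (nat_lit 0x80a00040000000000a0)
 (.cons 1 (nat_lit 0x1094000840409025014a)
 (.cons 1 (nat_lit 0x290a001085214a5210a4)
 (.cons 1 (nat_lit 0x52942529425284a5214a)
 (.cons 1 (nat_lit 0x204250942400405084a4)
 (.cons 5 (nat_lit 0x400c048000101c02016)
 (.cons 10 (nat_lit 0x23c000fa000a800100)
 (.cons 20 (nat_lit 0x7409800000be84a)
 (.cons 40 (nat_lit 0x867562a6c8)
 .nil)))))))))))))
noncomputable def a6 : Net := (.cons 40 (nat_lit 0x6838a68e56)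
 (.cons 20 (nat_lit 0xdce60000008431e)
 (.cons 10 (nat_lit 0x2f3000300016900210)
 (.cons 5 (nat_lit 0x400604c10018070640e)
 (.cons 1 (nat_lit 0x420000212000000000)
 (.cons 1 (nat_lit 0x508425084a5000050800)
 (.cons 1 (nat_lit 0x29484290a42802529080)
 (.cons 1 (nat_lit 0x129485294a5284a12148)
 (.cons 1 (nat_lit 0x21004280850808421024)
 (.cons 5 (nat_lit 0x6000030040381004808)
 (.cons 10 (nat_lit 0x1a40021800186000ae)
 (.cons 20 (nat_lit 0x5208000003eb7c)
 (.cons 40 (nat_lit 0x35e9534596)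
 .nil)))))))))))))
noncomputable def a7 : Net := (.cons 40 (nat_lit 0x72379c7ace)
 (.cons 20 (nat_lit 0xdda8100000da3c4)
 (.cons 10 (nat_lit 0x1d0000210014b0000e)
 (.cons 5 (nat_lit 0x40010400e0700b02c0e)
 (.cons 1 (nat_lit 0x10000028020)
 (.cons 1 (nat_lit 0x2521025080252840)
 (.cons 1 (nat_lit 0x28404214a42940429480)
 (.cons 1 (nat_lit 0x1294a5094a1284a52908)
 (.cons 1 (nat_lit 0x9024294a02942409080)
 (.cons 5 (nat_lit 0x10040600a040180000c)
 (.cons 10 (nat_lit 0x88003980020c003e8)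
 (.cons 20 (nat_lit 0xa029400000e0afe)
 (.cons 40 (nat_lit 0x5ae3425932)
 .nil)))))))))))))
noncomputable def a8 : Net := (.cons 40 (nat_lit 0xe0c50fee38)
 (.cons 20 (nat_lit 0xb841f00000b9eb2)
 (.cons 10 (nat_lit 0x3d10017600325003ba)
 (.cons 5 (nat_lit 0x580d078050401907404)
 (.cons 1 (nat_lit 0x24004000000000400)
 (.cons 1 (nat_lit 0x4a408024080010900)
 (.cons 1 (nat_lit 0x204852140429080214a4)
 (.cons 1 (nat_lit 0x1290a5294a1204852842)
 (.cons 1 (nat_lit 0x10a101025014a0004a0)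
 (.cons 5 (nat_lit 0x5008020040200800014)
 (.cons 10 (nat_lit 0x32000680034000290)
 (.cons 20 (nat_lit 0xce99e000004acaa)
 (.cons 40 (nat_lit 0xb5407cfc38)
 .nil)))))))))))))
noncomputable def a9 : Net := (.cons 40 (nat_lit 0x3b1bedcfc)
 (.cons 20 (nat_lit 0x2dc46000001df2c)
 (.cons 10 (nat_lit 0x1d900003003c300260)
 (.cons 5 (nat_lit 0x101803c0007c0405c0c)
 (.cons 1 (nat_lit 0x8000000000800028000)
 (.cons 1 (nat_lit 0x12840520001090050100)
 (.cons 1 (nat_lit 0x21080290002148428480)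
 (.cons 1 (nat_lit 0x42908108025294a50940)
 (.cons 1 (nat_lit 0x28000084002100108480)
 (.cons 5 (nat_lit 0x100000000060000480c)
 (.cons 10 (nat_lit 0x17000340003f6001b8)
 (.cons 20 (nat_lit 0xd2c4400000f41b8)
 (.cons 40 (nat_lit 0x3fe31dedfc)
 .nil)))))))))))))
noncomputable def a10 : Net := (.cons 40 (nat_lit 0x4000000000)
 (.cons 20 (nat_lit 0xdb0000000000000)
 (.cons 10 (nat_lit 0x292003800036000000)
 (.cons 5 (nat_lit 0x4c10050190100000000)
 (.cons 1 (nat_lit 0x210040000000)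
 (.cons 1 (nat_lit 0x12908501424080000000)
 (.cons 1 (nat_lit 0x29484214852102000000)
 (.cons 1 (nat_lit 0x508425294a5214000000)
 (.cons 1 (nat_lit 0x21421280852000000000)
 (.cons 5 (nat_lit 0x1000060040480000000)
 (.cons 10 (nat_lit 0x12400380003a000000)
 (.cons 20 (nat_lit 0xb68000000000000)
 (.cons 40 (nat_lit 0x8000000000)
 .nil)))))))))))))
noncomputable def a11 : Net := (.cons 40 (nat_lit 0xb7fff6e000)
 (.cons 20 (nat_lit 0xde8b8000001d0f0)
 (.cons 10 (nat_lit 0x8000ac00226001b0)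
 (.cons 5 (nat_lit 0x40180380d0301b00010)
 (.cons 1 (nat_lit 0x400000200000000000)
 (.cons 1 (nat_lit 0x2900428400080800040)
 (.cons 1 (nat_lit 0x14a021484014a5000a0)
 (.cons 1 (nat_lit 0x12948509024284212140)
 (.cons 1 (nat_lit 0x1400004052148509000)
 (.cons 5 (nat_lit 0x4008068060601200010)
 (.cons 10 (nat_lit 0x2c8001ec0022600110)
 (.cons 20 (nat_lit 0x4eb38000001d0f0)
 (.cons 40 (nat_lit 0xffb7f6e000)
 .nil)))))))))))))
noncomputable def a12 : Net := (.cons 40 (nat_lit 0x7fffffc000)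
 (.cons 20 (nat_lit 0x9c89800000e22e0)
 (.cons 10 (nat_lit 0x3d8001830037000260)
 (.cons 5 (nat_lit 0x500805c120100f04800)
 (.cons 1 (nat_lit 0x1400004000002000000)
 (.cons 1 (nat_lit 0x2800008080004a00940)
 (.cons 1 (nat_lit 0x2140029404000a429080)
 (.cons 1 (nat_lit 0x528005280a0094a52940)
 (.cons 1 (nat_lit 0x1080080202040128000)
 (.cons 5 (nat_lit 0x3808008120101c04800)
 (.cons 10 (nat_lit 0x258001c00026000080)
 (.cons 20 (nat_lit 0x9dad800000e22e0)
 (.cons 40 (nat_lit 0xfffbffc000)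
 .nil)))))))))))))
noncomputable def a13 : Net := (.cons 40 (nat_lit 0x8459a2d61d)
 (.cons 20 (nat_lit 0xdc3fe000003769d)
 (.cons 10 (nat_lit 0x35f001710005f0024c)
 (.cons 5 (nat_lit 0x340705c090600103815)
 (.cons 1 (nat_lit 0x1005000000000001020)
 (.cons 1 (nat_lit 0x280a000400000012940)
 (.cons 1 (nat_lit 0x1405010a520401294a1)
 (.cons 1 (nat_lit 0x1280a5084a5080a12942)
 (.cons 1 (nat_lit 0x280210808529080010a0)
 (.cons 5 (nat_lit 0x280a068060780a02018)
 (.cons 10 (nat_lit 0xec001e200004001da)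
 (.cons 20 (nat_lit 0x800e00000003088)
 (.cons 40 (nat_lit 0x7ba65d29e2)
 .nil)))))))))))))
noncomputable def ns0 : List Net := [a0, a1, a2, a3]
noncomputable def ws : List (List ℕ) :=
  [W (nat_lit 0x8018020200600803),
  W (nat_lit 0xc010040501008),
  W (nat_lit 0x280c0280a0300c03009),
  W (nat_lit 0xc0280b0240c024090240b02c0a),
  W (nat_lit 0xf038100340f03c0e0380e),
  W (nat_lit 0x400e0380f03810),
  W (nat_lit 0x120501104c12048140481304c1205011),
  W (nat_lit 0x48120501104c1304812048130441405012),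
  W (nat_lit 0x140481204c1104c1104c11),
  W (nat_lit 0x150601a044190440d0580904c0b)]
noncomputable def ns : List Net := [a0, a1, a2, a3, a4, a5, a6, a7, a8, a9, a10, a11, a12, a13]
noncomputable def D : List (ℕ × List ℕ) := app [] (mkDefs ws 4)
noncomputable def chk : List (List ℕ × List ℕ) → Bool := P.relsB ns
noncomputable def V : List ℕ :=
  [(nat_lit 0x924924924924924924924924924924924924924924924924924924924924),
  (nat_lit 0xe070381c0e070381c0e01c0e070381c0e070381c0381c0e070381c0e0703),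
  (nat_lit 0xff80001ff00003fe0000007fc0000ff80001ff0000003fe00007fc0000ff),
  (nat_lit 0xffffffe00000000000000000001ffffffc00000000000000000003ffffff)]
noncomputable def ms : List (List (List ℕ) × List (List ℕ)) :=
  [([[0, 1, 1, 2], [0, 1, 0, 0], [0, 0, 1, 0], [1, 2, 2, 2]],
   [[2, 2, 2, 1], [0, 1, 0, 0], [0, 0, 1, 0], [2, 1, 1, 0]]),
  ([[1, 0, 0, 0], [2, 2, 2, 2], [1, 2, 2, 1], [1, 2, 1, 2]],
   [[1, 0, 0, 0], [1, 0, 1, 1], [2, 1, 0, 2], [2, 1, 2, 0]]),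
  ([[0, 1, 2, 1], [0, 1, 0, 0], [2, 1, 0, 1], [1, 2, 1, 0]],
   [[2, 2, 1, 2], [0, 1, 0, 0], [1, 2, 2, 2], [2, 1, 2, 2]]),
  ([[1, 0, 0, 0], [2, 0, 0, 1], [0, 0, 1, 0], [2, 2, 0, 2]],
   [[1, 0, 0, 0], [1, 2, 0, 2], [0, 0, 1, 0], [1, 1, 0, 0]])]
noncomputable def G_v0 : Lev :=
  ⟨0, 80, sg (W (nat_lit 0x2c0902c0902c0902c0902c0902c09)), [[12], [14]], 2, 2⟩
noncomputable def G_v1 : Lev :=
  ⟨2, 78, sg (W (nat_lit 0x3c0d03c0d03c0d03c0d03c0d)), [[16], [18]], 4, 2⟩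
noncomputable def G_v2 : Lev :=
  ⟨8, 72, sg (W (nat_lit 0x4c1104c1104c1104c1104c11)), [[20], [22], [24]], 6, 3⟩
noncomputable def G_v3 : Lev :=
  ⟨26, 27, sg (W (nat_lit 0x64170541905c15)), [], 9, 0⟩
noncomputable def G_vs4 : List Lev :=
  []
noncomputable def G_vs3 : List Lev :=
  G_v3 :: G_vs4
noncomputable def G_vs2 : List Lev :=
  G_v2 :: G_vs3
noncomputable def G_vs1 : List Lev :=
  G_v1 :: G_vs2
noncomputable def G_vs : List Lev :=
  G_v0 :: G_vs1
noncomputable def Z_v0 : Lev :=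
  ⟨0, 2, sg [26], [], 10, 0⟩
noncomputable def Z_vs1 : List Lev :=
  []
noncomputable def Z_vs : List Lev :=
  Z_v0 :: Z_vs1

theorem zv0 : vecB (tabP 3).q 2 4 P V = true := by decide +kernel
theorem zv1 : Nat.beq (lenL ms) (lenL ns0) = true := by decide +kernel
theorem zv2 : allL ((tabP 3).actB 2 4 P V) (zp Net.nil ms ns0) = true := by decide +kernel
theorem zv3 : (tabP 3).basB 4 P V [0, 2, 8, 26] [[1, 0, 0, 0], [0, 1, 0, 0], [0, 0, 1, 0], [0, 0, 0, 1]] = true := by decide +kernel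
theorem zv4 : allL ((tabP 3).detB 4 2) ms = true := by decide +kernel
theorem zc5 : P.chainB ns D G_vs [[8], [10]] = true := by decide +kernel
theorem zc6 : P.chainB ns D Z_vs [[26]] = true := by decide +kernel
theorem zr7 : chk (comR [[26]] [[8], [10]]) = true := by decide +kernel
theorem zm8 : leB D [[26]] [[8], [10]] = true := by decide +kernel
theorem zk9 : allL (keepB P.n P.N) ns0 = true := by decide +kernel
theorem ze10 : extB ns0 ns 4 ws [] = true := by decide +kernel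
theorem zn11 : P.netsB ns (mkDefs ws 4) = true := by decide +kernel

section
variable {G X : Type*} [Group G] [MulAction G X] {e : ℕ → X} {gs : List G}

theorem keep0 : allL (keepB P.n P.N) ns0 = true := zk9

theorem len {k} (c : Ctx P e gs ns0 [] k) : gs.length = 4 := c.len ze10

theorem ctx0 {k} (c : Ctx P e gs ns0 [] k) : Ctx P e (ext gs ws) ns D chk0 :=
  c.ext rfl ze10 zn11

theorem ctx {k} (c : Ctx P e gs ns0 [] k) {H : Subgroup G} (hF : Faithful e P.n H) (hH : ∀ g ∈ gs, g ∈ H) :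
    Ctx P e (ext gs ws) ns D chk :=
  (ctx0 c).withB hF (mem_of_mem_ext hH _)

theorem hV : vecB (tabP 3).q 2 4 P V = true := zv0
theorem hact : allL ((tabP 3).actB 2 4 P V) (zp Net.nil ms ns0) = true := zv2
theorem hinv : allL ((tabP 3).invB 4) ms = true := actB_invB hact
theorem base {F : Type*} [Field F] {el : ℕ → F} (h : FC (tabP 3) el) : Ctx P (vecOf el (Fin.val : Fin 4 → ℕ) (tabP 3).q P.N V) (List.map (glF el (Fin.val : Fin 4 → ℕ)) ms) ns0 [] chk0 :=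
  ctx_mat h (ix_fin 4) hP hV zv1 hact
theorem faith {F : Type*} [Field F] {el : ℕ → F} (h : FC (tabP 3) el) : Faithful (vecOf el (Fin.val : Fin 4 → ℕ) (tabP 3).q P.N V) P.n (⊤ : Subgroup (GL (Fin 4) F)) :=
  faithful_vecOf h (ix_fin 4) hP hV zv3
theorem c1 {F : Type*} [Field F] {el : ℕ → F} (h : FC (tabP 3) el) : Ctx P (vecOf el (Fin.val : Fin 4 → ℕ) (tabP 3).q P.N V) (ext (List.map (glF el (Fin.val : Fin 4 → ℕ)) ms) ws) ns D chk :=
  ctx (base h) (faith h) fun _ _ => trivial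

theorem G_c : P.chainB ns D G_vs [[8], [10]] = true :=
  zc5

theorem G_o : prodL G_vs 1 = 12130560 := by decide +kernel

theorem G_lb (c : Ctx P e gs ns D chk) :
    LB (subW gs [[8], [10]]) 12130560 :=
  c.lb G_c G_o

theorem Z_c : P.chainB ns D Z_vs [[26]] = true :=
  zc6

theorem Z_o : prodL Z_vs 1 = 2 := by decide +kernel

theorem Z_lb (c : Ctx P e gs ns D chk) :
    LB (subW gs [[26]]) 2 :=
  c.lb Z_c Z_o

theorem hZ (c : Ctx P e gs ns D chk) :
    (subW gs [[26]]) ≤ (subW gs [[8], [10]]) ∧ Rels gs (comR [[26]] [[8], [10]]) :=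
  ⟨(c.le zm8), (c.rels _ zr7)⟩

end
end CL.Std.L43.M

namespace CL.Std.L43
open CL.PG

def P : Par := ⟨40, 40, 6, 3⟩
theorem hP : P.Ok := by decide
noncomputable def a0 : Net := (.cons 20 (nat_lit 0xf95ac)
 (.cons 10 (nat_lit 0x23000373)
 (.cons 5 (nat_lit 0x240f0001b)
 (.cons 1 (nat_lit 0x100000)
 (.cons 1 (nat_lit 0x1000200002)
 (.cons 1 (nat_lit 0x2040429024)
 (.cons 1 (nat_lit 0x4284a5084a)
 (.cons 1 (nat_lit 0x142009024)
 (.cons 5 (nat_lit 0x780c04014)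
 (.cons 10 (nat_lit 0xd60015c)
 (.cons 20 (nat_lit 0x3a690)
 .nil)))))))))))
noncomputable def a1 : Net := (.cons 20 (nat_lit 0xcb3c0)
 (.cons 10 (nat_lit 0x2d20027c)
 (.cons 5 (nat_lit 0x101c07400)
 (.cons 1 (nat_lit 0x20001)
 (.cons 1 (nat_lit 0x5004a50102)
 (.cons 1 (nat_lit 0x28485280a4)
 (.cons 1 (nat_lit 0x529025294a)
 (.cons 1 (nat_lit 0x9481010a0)
 (.cons 5 (nat_lit 0x70140380a)
 (.cons 10 (nat_lit 0x18e00110)
 (.cons 20 (nat_lit 0xa059e)
 .nil)))))))))))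
noncomputable def a2 : Net := (.cons 20 (nat_lit 0x46006)
 (.cons 10 (nat_lit 0x2ac00326)
 (.cons 5 (nat_lit 0x54030640e)
 (.cons 1 (nat_lit 0x2040100000)
 (.cons 1 (nat_lit 0x5080a52040)
 (.cons 1 (nat_lit 0x2940529080)
 (.cons 1 (nat_lit 0x1290a52948)
 (.cons 1 (nat_lit 0x2509084)
 (.cons 5 (nat_lit 0x600c06000)
 (.cons 10 (nat_lit 0x25200086)
 (.cons 20 (nat_lit 0x16030)
 .nil)))))))))))
noncomputable def a3 : Net := (.cons 20 (nat_lit 0x53c6a)
 (.cons 10 (nat_lit 0x3960034a)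
 (.cons 5 (nat_lit 0x501807000)
 (.cons 1 (nat_lit 0x2040100020)
 (.cons 1 (nat_lit 0x5094200048)
 (.cons 1 (nat_lit 0x2908420084)
 (.cons 1 (nat_lit 0x121484094a)
 (.cons 1 (nat_lit 0x900029080)
 (.cons 5 (nat_lit 0x481407812)
 (.cons 10 (nat_lit 0x8000110)
 (.cons 20 (nat_lit 0xeda3c)
 .nil)))))))))))
noncomputable def a4 : Net := (.cons 20 (nat_lit 0xf1808)
 (.cons 10 (nat_lit 0x380003de)
 (.cons 5 (nat_lit 0x60140601e)
 (.cons 1 (nat_lit 0x100100000)
 (.cons 1 (nat_lit 0x294a40102)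
 (.cons 1 (nat_lit 0x294a4294a4)
 (.cons 1 (nat_lit 0x5284a1094a)
 (.cons 1 (nat_lit 0x48408400)
 (.cons 5 (nat_lit 0x1004010)
 (.cons 10 (nat_lit 0x2180037e)
 (.cons 20 (nat_lit 0x8ffe4)
 .nil)))))))))))
noncomputable def a5 : Net := (.cons 20 (nat_lit 0x8b12c)
 (.cons 10 (nat_lit 0x358002dc)
 (.cons 5 (nat_lit 0x240b05c14)
 (.cons 1 (nat_lit 0x100400)
 (.cons 1 (nat_lit 0x210a02800)
 (.cons 1 (nat_lit 0x908401400)
 (.cons 1 (nat_lit 0x1294a42840)
 (.cons 1 (nat_lit 0x902000404)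
 (.cons 5 (nat_lit 0x201005004)
 (.cons 10 (nat_lit 0x18001f0)
 (.cons 20 (nat_lit 0x4b21c)
 .nil)))))))))))
noncomputable def a6 : Net := (.cons 20 (nat_lit 0x87bd4)
 (.cons 10 (nat_lit 0x3f000020)
 (.cons 5 (nat_lit 0x441f07814)
 (.cons 1 (nat_lit 0xa128000)
 (.cons 1 (nat_lit 0x4014250100)
 (.cons 1 (nat_lit 0x280a529484)
 (.cons 1 (nat_lit 0x5214a50848)
 (.cons 1 (nat_lit 0x2008529084)
 (.cons 5 (nat_lit 0x200404010)
 (.cons 10 (nat_lit 0x1800000)
 (.cons 20 (nat_lit 0x63d4)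
 .nil)))))))))))
noncomputable def a7 : Net := (.cons 20 (nat_lit 0x8fffc)
 (.cons 10 (nat_lit 0x29c002f4)
 (.cons 5 (nat_lit 0x540b05808)
 (.cons 1 (nat_lit 0x2002100400)
 (.cons 1 (nat_lit 0x5004250800)
 (.cons 1 (nat_lit 0x280a529024)
 (.cons 1 (nat_lit 0x5094a12948)
 (.cons 1 (nat_lit 0x2800501484)
 (.cons 5 (nat_lit 0x500205018)
 (.cons 10 (nat_lit 0x5e00110)
 (.cons 20 (nat_lit 0xfff8c)
 .nil)))))))))))
noncomputable def a8 : Net := (.cons 20 (nat_lit 0xf20a0)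
 (.cons 10 (nat_lit 0x37800020)
 (.cons 5 (nat_lit 0x780f04800)
 (.cons 1 (nat_lit 0x2000000)
 (.cons 1 (nat_lit 0x84a00800)
 (.cons 1 (nat_lit 0x210a429000)
 (.cons 1 (nat_lit 0x1214a52800)
 (.cons 1 (nat_lit 0x40128000)
 (.cons 5 (nat_lit 0x401c04800)
 (.cons 10 (nat_lit 0x2000080)
 (.cons 20 (nat_lit 0x600a0)
 .nil)))))))))))
noncomputable def a9 : Net := (.cons 20 (nat_lit 0xe14e0)
 (.cons 10 (nat_lit 0xc0000a0)
 (.cons 5 (nat_lit 0x201800800)
 (.cons 1 (nat_lit 0x800008000)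
 (.cons 1 (nat_lit 0x5080250000)
 (.cons 1 (nat_lit 0x2108420020)
 (.cons 1 (nat_lit 0x5284850840)
 (.cons 1 (nat_lit 0x800128400)
 (.cons 5 (nat_lit 0x400e06800)
 (.cons 10 (nat_lit 0x3d8000a0)
 (.cons 20 (nat_lit 0xe14e0)
 .nil)))))))))))
noncomputable def a10 : Net := (.cons 10 (nat_lit 0x300003f8)
 (.cons 5 (nat_lit 0x680d05008)
 (.cons 1 (nat_lit 0x2040000000)
 (.cons 1 (nat_lit 0x5284802840)
 (.cons 1 (nat_lit 0x29485014a0)
 (.cons 1 (nat_lit 0x5290202848)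
 (.cons 1 (nat_lit 0x2042028000)
 (.cons 5 (nat_lit 0x681205008)
 (.cons 10 (nat_lit 0x300003f8)
 .nil)))))))))
noncomputable def a11 : Net := (.cons 20 (nat_lit 0xdb800)
 (.cons 10 (nat_lit 0x3b400000)
 (.cons 5 (nat_lit 0x4c1604800)
 (.cons 1 (nat_lit 0x8000000)
 (.cons 1 (nat_lit 0x214840800)
 (.cons 1 (nat_lit 0x90a421000)
 (.cons 1 (nat_lit 0x5094212800)
 (.cons 1 (nat_lit 0x284a109000)
 (.cons 5 (nat_lit 0x180c01000)
 (.cons 10 (nat_lit 0x36c00000)
 (.cons 20 (nat_lit 0xb7800)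
 .nil)))))))))))
noncomputable def a12 : Net := (.cons 20 (nat_lit 0x39588)
 (.cons 10 (nat_lit 0x3c800180)
 (.cons 5 (nat_lit 0x80b02c00)
 (.cons 1 (nat_lit 0x800000000)
 (.cons 1 (nat_lit 0x5000802000)
 (.cons 1 (nat_lit 0x200a429000)
 (.cons 1 (nat_lit 0x5014250800)
 (.cons 1 (nat_lit 0x80a429080)
 (.cons 5 (nat_lit 0x400e03808)
 (.cons 10 (nat_lit 0x3ca00180)
 (.cons 20 (nat_lit 0x39588)
 .nil)))))))))))
noncomputable def a13 : Net := (.cons 20 (nat_lit 0x61800)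
 (.cons 10 (nat_lit 0x18500000)
 (.cons 5 (nat_lit 0x700f07000)
 (.cons 1 (nat_lit 0x42000000)
 (.cons 1 (nat_lit 0x1084210800)
 (.cons 1 (nat_lit 0x2908529000)
 (.cons 1 (nat_lit 0x5214a52000)
 (.cons 1 (nat_lit 0x2040420000)
 (.cons 5 (nat_lit 0x1c00000)
 (.cons 10 (nat_lit 0x2400000)
 (.cons 20 (nat_lit 0xd800)
 .nil)))))))))))
noncomputable def ns0 : List Net := [a0, a1]
noncomputable def ws : List (List ℕ) :=
  [W (nat_lit 0x400403),
  W (nat_lit 0x10100200c03),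
  W (nat_lit 0x602005),
  W (nat_lit 0x180601c07),
  W (nat_lit 0x902c0a),
  W (nat_lit 0xa0300902c0b),
  W (nat_lit 0x100400d0400e0380f),
  W (nat_lit 0x3c0d0400e0400d),
  W (nat_lit 0x380f03c0d),
  W (nat_lit 0x1105011),
  W (nat_lit 0x1604815),
  W (nat_lit 0x4c1504416)]
noncomputable def ns : List Net := [a0, a1, a2, a3, a4, a5, a6, a7, a8, a9, a10, a11, a12, a13]
noncomputable def D : List (ℕ × List ℕ) := app [] (mkDefs ws 2)
noncomputable def chk : List (List ℕ × List ℕ) → Bool := P.relsB ns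
noncomputable def G_v0 : Lev :=
  ⟨0, 40, sg (W (nat_lit 0x40100c0100c0100c0100c01)), [[4], [6]], 0, 2⟩
noncomputable def G_v1 : Lev :=
  ⟨1, 39, sg (W (nat_lit 0x140501c0501c050140701405)), [[8], [10]], 2, 2⟩
noncomputable def G_v2 : Lev :=
  ⟨2, 2, sg [8], [[12], [14]], 4, 2⟩
noncomputable def G_v3 : Lev :=
  ⟨4, 36, sg (W (nat_lit 0xd0340f0340d03c0d03c0d03c0d)), [[16], [18], [20]], 6, 3⟩
noncomputable def G_v4 : Lev :=
  ⟨5, 2, sg [20], [[22], [24], [26]], 9, 3⟩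
noncomputable def G_v5 : Lev :=
  ⟨13, 27, sg (W (nat_lit 0x6c1905c1b06417)), [], 12, 0⟩
noncomputable def G_vs6 : List Lev :=
  []
noncomputable def G_vs5 : List Lev :=
  G_v5 :: G_vs6
noncomputable def G_vs4 : List Lev :=
  G_v4 :: G_vs5
noncomputable def G_vs3 : List Lev :=
  G_v3 :: G_vs4
noncomputable def G_vs2 : List Lev :=
  G_v2 :: G_vs3
noncomputable def G_vs1 : List Lev :=
  G_v1 :: G_vs2
noncomputable def G_vs : List Lev :=
  G_v0 :: G_vs1
noncomputable def zE1 : Net :=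
  (.cons 40 (nat_lit 0x7ba65d29e2)
 (.cons 20 (nat_lit 0x11a7400000501e2)
 (.cons 10 (nat_lit 0x22b00058003dd002c2)
 (.cons 5 (nat_lit 0x580301c1d00c0901402)
 (.cons 1 (nat_lit 0x4204002000400080)
 (.cons 1 (nat_lit 0x210a509485014a52142)
 (.cons 1 (nat_lit 0x21085294a5280a5210a4)
 (.cons 1 (nat_lit 0x52842128421094252848)
 (.cons 1 (nat_lit 0x8000094242100028400)
 (.cons 5 (nat_lit 0x8100000a0500800010)
 (.cons 10 (nat_lit 0x1320006200284001e0)
 (.cons 20 (nat_lit 0x2148a00000e0280)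
 (.cons 40 (nat_lit 0xb0ebdd3290)
 .nil)))))))))))))
noncomputable def zK2 : Lk :=
  ⟨zE1, 2, 3, 1⟩

theorem zc0 : P.chainB ns D G_vs [[0], [2]] = true := by decide +kernel
theorem zl3 : zK2.relB CL.Std.L43.M.P CL.Std.L43.P CL.Std.L43.M.ns [[8], [10], [26]] [[0], [2]] = true := by decide +kernel
theorem zl4 : allL (zK2.pl CL.Std.L43.M.P CL.Std.L43.P CL.Std.L43.M.ns CL.Std.L43.ns 0) (zp [] [[8], [10], [26]] [[0], [2]]) = true := by decide +kernel
theorem zk5 : allL (keepB P.n P.N) ns0 = true := by decide +kernel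
theorem ze6 : extB ns0 ns 2 ws [] = true := by decide +kernel
theorem zn7 : P.netsB ns (mkDefs ws 2) = true := by decide +kernel

section
variable {G X : Type*} [Group G] [MulAction G X] {e : ℕ → X} {gs : List G}

theorem keep0 : allL (keepB P.n P.N) ns0 = true := zk5

theorem len {k} (c : Ctx P e gs ns0 [] k) : gs.length = 2 := c.len ze6

theorem ctx0 {k} (c : Ctx P e gs ns0 [] k) : Ctx P e (ext gs ws) ns D chk0 :=
  c.ext rfl ze6 zn7

theorem ctx {k} (c : Ctx P e gs ns0 [] k) {H : Subgroup G} (hF : Faithful e P.n H) (hH : ∀ g ∈ gs, g ∈ H) :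
    Ctx P e (ext gs ws) ns D chk :=
  (ctx0 c).withB hF (mem_of_mem_ext hH _)

instance instNe : NeZero P.n := ⟨by decide⟩
noncomputable def gs0 : List (Equiv.Perm (Fin P.n)) := permsOf P.n P.N ns0
noncomputable def gs1 : List (Equiv.Perm (Fin P.n)) := ext gs0 ws
theorem c1 : Ctx P (eF P.n) gs1 ns D chk :=
  ctx (ctx_permsOf hP keep0) (faithful_eF _) fun _ _ => trivial

theorem G_c : P.chainB ns D G_vs [[0], [2]] = true :=
  zc0

theorem G_o : prodL G_vs 1 = 6065280 := by decide +kernel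

theorem G_lb (c : Ctx P e gs ns D chk) :
    LB (subW gs [[0], [2]]) 6065280 :=
  c.lb G_c G_o

theorem rel {Γ Y : Type*} [Group Γ] [MulAction Γ Y] {e' : ℕ → Y} {cs : List Γ} {D₁ D₂ : List (ℕ × List ℕ)}
    {k₁ k₂ : List (List ℕ × List ℕ) → Bool} (c : Ctx CL.Std.L43.M.P e gs CL.Std.L43.M.ns D₁ k₁) (c' : Ctx CL.Std.L43.P e' cs CL.Std.L43.ns D₂ k₂)
    (hF : Faithful e' CL.Std.L43.P.n (subW cs [[0], [2]])) :
    RelLe gs [[8], [10], [26]] cs [[0], [2]] :=
  c.relLe (K := zK2) c' hF zl3 (fun (t : ℕ) (ht : t < 1) => match t, ht with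
    | 0, _ => zl4
    | t + 1, h => absurd h (by omega))

theorem hom {F : Type*} [Field F] [Fintype F] (hF : Fintype.card F = 3) :
    ∃ f : Matrix.SpecialLinearGroup (Fin 4) F →* Equiv.Perm (Fin P.n), f.range = (subW gs1 [[0], [2]]) ∧ f.ker = Subgroup.center _ ∧ Nat.card (subW gs1 [[0], [2]]) = 6065280 := by
  obtain ⟨el, h⟩ := Tab.exists_fc (tabP 3) (by decide +kernel) F hF
  have hc : Nat.card (Matrix.SpecialLinearGroup (Fin 4) F) = 12130560 := card_sl hF 4 (by decide +kernel)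
  have hK := subW_eq_range (l := [[8], [10]]) Matrix.SpecialLinearGroup.toGL Matrix.SpecialLinearGroup.toGL_injective hc (by norm_num)
    (subW_le_of_forall (mem_of_mem_ext (forall_mem_SL h (ix_fin 4) M.hinv M.zv4) _) _) (M.G_lb (M.c1 h))
  have : Finite (Matrix.SpecialLinearGroup (Fin 4) F) := Nat.finite_of_card_ne_zero (by rw [hc]; norm_num)
  exact cquot_of_card (RelLe.cquot0 (l := [[8], [10]]) (lZ := [[26]]) (a := 2) (b := 6065280) (rel (M.c1 h) c1 ((faithful_eF _).mono le_top)) (by decide)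
    Matrix.SpecialLinearGroup.toGL Matrix.SpecialLinearGroup.toGL_injective hc (by norm_num) hK (M.hZ (M.c1 h)).1 (M.hZ (M.c1 h)).2 (M.Z_lb (M.c1 h)) (G_lb c1)) (card_psl hF 3 (by decide +kernel))
theorem iso {F : Type*} [Field F] [Fintype F] (hF : Fintype.card F = 3) :
    Nonempty ((subW gs1 [[0], [2]]) ≃* Matrix.SpecialLinearGroup (Fin 4) F ⧸ Subgroup.center (Matrix.SpecialLinearGroup (Fin 4) F)) := cquot_equiv (hom hF)
theorem card : Nat.card (subW gs1 [[0], [2]]) = 6065280 := by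
  obtain ⟨F, _, _, hF⟩ := exists_field 3 1 (by norm_num)
  replace hF : Fintype.card F = 3 := hF
  exact (hom hF).choose_spec.2.2
theorem ub : UB (subW gs1 [[0], [2]]) 6065280 := UB.of_card card (by norm_num)

theorem simple : IsSimpleGroup (subW gs1 [[0], [2]]) := by
  obtain ⟨F, _, _, hF⟩ := exists_field 3 1 (by norm_num)
  replace hF : Fintype.card F = 3 := hF
  obtain ⟨el, h⟩ := Tab.exists_fc (tabP 3) (by decide +kernel) F hF
  have : IsSimpleGroup (Matrix.SpecialLinearGroup (Fin 4) F ⧸ Subgroup.center (Matrix.SpecialLinearGroup (Fin 4) F)) := SLn.isSimpleGroup_PSL_fin (F := F) 4 (by norm_num) (by rw [hF]; norm_num)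
  exact (iso hF).some.isSimpleGroup

end
end CL.Std.L43

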