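/-
3-transpositions: primitivity of the orthogonal models, the isomorphism of the unitary space of dimension four with
the orthogonal space of dimension five, unitary charts.
-/
import Cfsg.Agent.Spor.TT13
import Cfsg.Agent.Spor.TTCsu
import Cfsg.Agent.Spor.TTCo3
import Cfsg.Agent.Spor.RecM22

set_option autoImplicit false
open Cfsg Module QuadraticMap

namespace CL.TT
open CL.Rec CL.Cls CL.TTC CL.Uni

variable {G : Type*} [Group G] {S E : Set G}

theorem ps_RS {F V : Type*} [Field F] [Fintype F] [AddCommGroup V] [Module F V] [FiniteDimensional F V]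
    {Q : QuadraticForm F V} (hQ : (polarBilin Q).Nondegenerate) (h5 : 5 ≤ finrank F V)
    (hF : ∀ t : F, t = 0 ∨ t ^ 2 = 1) : PS (subE (RS Q 1)) := by
  have : Finite V := Module.finite_of_finite F
  have : Finite (OG Q) := Finite.of_injective (fun (g : OG Q) (v : V) => g.1 v) fun g h hgh => OG.ext' (congrFun hgh)
  have hr : (Subgroup.closure (RS Q 1)).subtype.range = _ := Subgroup.range_subtype _
  have h1 := isClass_RS hQ h5 one_ne_zero hF _ (Subgroup.subtype_injective _) hr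
  obtain ⟨h2, -, -, h3⟩ := structure_RS hQ h5 one_ne_zero hF _ (Subgroup.subtype_injective _) hr
  obtain ⟨d, hd, -⟩ := h1.2.1
  exact ps_of_prim (IsClass.isGroup h1) h3
    (exists_commute_of_not_isSolvable (IsClass.isGroup h1) ⟨d, hd⟩ (CL.Loc.IsQuasisimple.not_isSolvable h2))

theorem Model.ps_orth {F V : Type*} [Field F] [Fintype F] [AddCommGroup V] [Module F V] [FiniteDimensional F V]
    {Q : QuadraticForm F V} {τ : V → G} (h : Model (polarBilin Q) {v | Q v = 1} S τ) (hS : CS S)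
    (hQ : (polarBilin Q).Nondegenerate) (h5 : 5 ≤ finrank F V) (hF : ∀ t : F, t = 0 ∨ t ^ 2 = 1) : PS S := by
  obtain ⟨τ', h', -⟩ := (model_RS hQ).pull (qi_sub _) (cs_sub (cs_RS hQ one_ne_zero hF))
  obtain ⟨f, hf, -⟩ := h.exists_qi h'
  exact qi_ps hf hS (ps_RS hQ h5 hF)

/-- (a) -/
theorem MO3.ps {n : ℕ} {Q : QuadraticForm (ZMod 3) (Fin n → ZMod 3)} (hS : CS S) (hQ : (polarBilin Q).Nondegenerate)
    (h5 : 5 ≤ n) (h : MO3 S Q) : PS S :=
  let ⟨_, h⟩ := h; h.ps_orth hS hQ (by simpa using h5) zmod_three_sq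

theorem IsO3.ps {n : ℕ} (hS : CS S) (h : IsO3 S n) (h5 : 5 ≤ n) : PS S :=
  let ⟨_, τ, h1, h2⟩ := h; MO3.ps hS h1 h5 ⟨τ, h2⟩

theorem IsO3S.ps {n : ℕ} (hS : CS S) (h : IsO3S S n) (h5 : 5 ≤ n) : PS S := IsO3.ps hS h.isO3 h5

theorem IsO2.ps {n : ℕ} (hS : CS S) (h : IsO2 S n) (h5 : 5 ≤ n) : PS S :=
  let ⟨_, _, h1, h2⟩ := h; h2.ps_orth hS h1 (by simpa using h5) (by decide)

/-- Change of the model along a map of the sets of vectors. -/
theorem Model.transfer {K K' : Type*} [Field K] [Field K'] {σ : K →+* K} {σ' : K' →+* K'} {V V' : Type*}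
    [AddCommGroup V] [Module K V] [AddCommGroup V'] [Module K' V'] {B : V →ₛₗ[σ] V →ₗ[K] K}
    {B' : V' →ₛₗ[σ'] V' →ₗ[K'] K'} {P : Set V} {P' : Set V'} {τ : V → G} (h : Model B P E τ) (t : V' → V)
    (h1 : ∀ v ∈ P', t v ∈ P) (h2 : ∀ u ∈ P, ∃ v ∈ P', ∃ c : K, u = c • t v)
    (h3 : ∀ v ∈ P', ∀ w ∈ P', ∀ c : K, t w = c • t v → ∃ c' : K', w = c' • v)
    (h4 : ∀ v ∈ P', ∀ c : K', c • v ∈ P' → t (c • v) = t v) (h5 : ∀ v ∈ P', ∀ w ∈ P', v - B' w v • w ∈ P')
    (h6 : ∀ v ∈ P', ∀ w ∈ P', ∃ c : K, t (v - B' w v • w) = c • (t v - B (t w) (t v) • t w)) :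
    Model B' P' E fun v => τ (t v) where
  mem v hv := h.mem _ (h1 v hv)
  surj d hd := by
    obtain ⟨u, hu, rfl⟩ := h.surj d hd
    obtain ⟨v, hv, c, rfl⟩ := h2 u hu
    exact ⟨v, hv, (h.smul _ (h1 v hv) c hu).symm⟩
  inj v hv w hw e := let ⟨c, hc⟩ := h.inj _ (h1 v hv) _ (h1 w hw) e; h3 v hv w hw c hc
  smul v hv c hc := by rw [h4 v hv c hc]
  closed := h5
  conj v hv w hw := by
    obtain ⟨c, hc⟩ := h6 v hv w hw
    rw [← h.conj _ (h1 v hv) _ (h1 w hw), hc]
    exact h.smul _ (h.closed _ (h1 v hv) _ (h1 w hw)) c (hc ▸ h1 _ (h5 v hv w hw))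

/-- the table of the 45 points -/
def t45 (v : Fin 5 → ZMod 3) : Fin 4 → K4 := fun j => kd (Nat.shiftRight
  0xc40000ed219d000000d9000031b98400691100447d000000000000c100007924e9000000bd0000346d8100dd1400419900000000e5d500659000000000d0950075b5000000000000000000000000500000340000bd816d000000790000c1e9240099410014dd000000000000310000d984b9000000ed0000c49d21007d4400116900000000b5750095d000000000906500d5e500000000000000000000000050ad5900a90d00000000095d00fdf900000000000000000000000005f9fd005d09000000000da90059ad000000000000000000000000050000000000000000550000000000000000550000a50000a5f5f500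
  (8 * ((v 0).val + 3 * (v 1).val + 9 * (v 2).val + 27 * (v 3).val + 81 * (v 4).val) + 2 * j.1))

/-- code of an element -/
def kc : K4 → ℕ
  | .o => 0 | .i => 1 | .w => 2 | .v => 3

/-- the inverse table -/
def s45 (u : Fin 4 → K4) : Fin 5 → ZMod 3 := fun j => (Nat.land 3 (Nat.shiftRight
  0x40591a40026404254002a4550040000000001004a645a9000a161998400992a145400000000022546561614006861559000515a48a400000000012500000001490000000291000000015462651650008a545690006151958400591a1854000000000125004a9154001a410164002549901000000000010045664a8400a91299140098685864000000000225000000015400000001490000000291651899440086661a1400a851599000916a44a400000000022585564684006922951400585854640000000001250109526400154012a400164690400000000001000000000291000000015400000001499459462400000000024900000001910000000254a2551a5000000000025400000002490000000191a52895440000000001910000000254000000024954694a240010065294002944019400194a5100000000000000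
  (10 * (kc (u 0) + 4 * kc (u 1) + 16 * kc (u 2) + 64 * kc (u 3)) + 2 * j.1)) : ℕ)

/-- sum of five products -/
def ip5 (u v : Fin 5 → ZMod 3) : ZMod 3 := u 0 * v 0 + u 1 * v 1 + u 2 * v 2 + u 3 * v 3 + u 4 * v 4

/-- the hermitian form -/
def ip4 (u v : Fin 4 → K4) : K4 := K4.cj (u 0) * v 0 + K4.cj (u 1) * v 1 + K4.cj (u 2) * v 2 + K4.cj (u 3) * v 3

theorem ip4_eq (u v : Fin 4 → K4) : stdB K4.bar (Fin 4) u v = ip4 u v := by rw [stdB_apply, Fin.sum_univ_four]; rfl

theorem vec5 {p : (Fin 5 → ZMod 3) → Prop} (h : ∀ a b c d e, p ![a, b, c, d, e]) (v : Fin 5 → ZMod 3) : p v := by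
  have : v = ![v 0, v 1, v 2, v 3, v 4] := by funext i; fin_cases i <;> rfl
  exact this ▸ h _ _ _ _ _

theorem vec4 {p : (Fin 4 → K4) → Prop} (h : ∀ a b c d, p ![a, b, c, d]) (v : Fin 4 → K4) : p v := by
  have : v = ![v 0, v 1, v 2, v 3] := by funext i; fin_cases i <;> rfl
  exact this ▸ h _ _ _ _

theorem t45_1 : ∀ v, ip5 v v = 1 → (t45 v ≠ 0 ∧ ip4 (t45 v) (t45 v) = 0) ∧ t45 (-v) = t45 v ∧
    ∀ c : K4, c ≠ 0 → s45 (c • t45 v) = v ∨ s45 (c • t45 v) = -v := vec5 (by decide +kernel)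

theorem t45_2 : ∀ u, u ≠ 0 → ip4 u u = 0 → ip5 (s45 u) (s45 u) = 1 ∧ ∃ c : K4, u = c • t45 (s45 u) :=
  vec4 (by decide +kernel)

/-- compatibility of the table with the reflections -/
def p45 (v w : Fin 5 → ZMod 3) : Prop :=
  ∃ c : K4, ∀ j, t45 (fun i => v i + ip5 w v * w i) j = c * (t45 v j + ip4 (t45 w) (t45 v) * t45 w j)

instance instDecP45 (v w : Fin 5 → ZMod 3) : Decidable (p45 v w) := by unfold p45; infer_instance

theorem t45_3' : ∀ a b c d e, ip5 ![a, b, c, d, e] ![a, b, c, d, e] = 1 → ∀ a' b' c' d' e',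
    ip5 ![a', b', c', d', e'] ![a', b', c', d', e'] = 1 → p45 ![a, b, c, d, e] ![a', b', c', d', e'] := by
  decide +kernel

theorem t45_3 : ∀ v, ip5 v v = 1 → ∀ w, ip5 w w = 1 → p45 v w :=
  vec5 fun a b c d e h => vec5 (p := fun w => ip5 w w = 1 → p45 ![a, b, c, d, e] w) (t45_3' a b c d e h)

/-- (b) -/
theorem IsU.isO3S (h : IsU S 4) : IsO3S S 5 := by
  obtain ⟨B, τ, hB, h⟩ := h
  obtain ⟨τ', h'⟩ := h.u_std hB (n := 4) (by simp)
  let Q : QuadraticForm (ZMod 3) (Fin 5 → ZMod 3) := weightedSumSquares (ZMod 3) fun _ => (1 : ZMod 3)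
  have hQ : ∀ v, Q v = ∑ i, v i ^ 2 := fun v => by simp [Q, weightedSumSquares_apply, pow_two]
  have h1 : ∀ v, Q v = ip5 v v := fun v => by rw [hQ, Fin.sum_univ_five]; simp only [ip5, pow_two]
  have h2 : ∀ u v, polarBilin Q u v = -ip5 u v := fun u v => by
    rw [polarBilin_apply_apply, sumSq_orth hQ, Fin.sum_univ_five, show (2 : ZMod 3) = -1 from rfl, neg_one_mul, ip5]
  refine ⟨Q, hQ, _, h'.transfer t45 (fun v hv => ?_) (fun u hu => ?_) (fun v hv w hw c e => ?_) (fun v hv c hc => ?_)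
    (model_RS (nondeg_of_std hQ)).closed fun v hv w hw => ?_⟩
  · rw [Set.mem_ofPred_eq, ip4_eq]; exact (t45_1 v ((h1 v).symm.trans hv)).1
  · have := t45_2 u hu.1 ((ip4_eq u u).symm.trans hu.2)
    exact ⟨_, (h1 _).trans this.1, this.2⟩
  · obtain ⟨⟨k1, -⟩, -, k2⟩ := t45_1 w ((h1 w).symm.trans hw)
    have k3 := (t45_1 v ((h1 v).symm.trans hv)).2.2 c fun h0 => k1 (by rw [e, h0, zero_smul])
    have k4 := k2 1 one_ne_zero
    rw [one_smul, e] at k4
    rcases k3 with k3 | k3 <;> rcases k4 with k4 | k4 <;> rw [k3] at k4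
    exacts [⟨1, by rw [one_smul, k4]⟩, ⟨-1, by rw [k4]; simp⟩, ⟨-1, by rw [← k4]; simp⟩,
      ⟨1, by rw [one_smul, neg_inj.1 k4]⟩]
  · have h3 : ∀ c : ZMod 3, c = 0 ∨ c = 1 ∨ c = -1 := by decide
    rcases h3 c with rfl | rfl | rfl
    · simp at hc
    · rw [one_smul]
    · rw [neg_one_smul]; exact (t45_1 v ((h1 v).symm.trans hv)).2.1
  · obtain ⟨c, hc⟩ := t45_3 v ((h1 v).symm.trans hv) w ((h1 w).symm.trans hw)
    refine ⟨c, funext fun j => ?_⟩
    rw [h2, neg_smul, sub_neg_eq_add, ip4_eq]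
    exact hc j

/-- (c) -/
theorem IsU.uChart (h : IsU S 6) : ∃ φ, UChart S φ := by
  obtain ⟨B, τ, hB, h⟩ := h
  obtain ⟨φ, h'⟩ := h.u_std hB (n := 6) (by simp)
  exact ⟨φ, h'.mem, fun y hy => let ⟨v, hv, e⟩ := h'.surj y hy; ⟨v, hv, e⟩,
    fun w v hw hv => by rw [← u_tv_eq herm6]; exact h'.conj v hv w hw,
    fun v c hv hc => h'.smul v hv c (Iso.smul hv hc), fun v w hv hw e => h'.inj w hw v hv e.symm⟩

theorem isU_of_uChart {φ : V6 → G} (h : UChart S φ) : IsU S 6 :=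
  ⟨B6, φ, herm6, h.mem, fun y hy => let ⟨v, hv, e⟩ := h.surj y hy; ⟨v, hv, e⟩,
    fun v hv w hw e => h.inj w v hw hv e.symm,
    fun v hv c hc => h.smul v c hv fun h0 => hc.1 (by rw [h0, zero_smul]),
    fun v hv w hw => by rw [u_tv_eq herm6]; exact iso_tv herm6 w v hw hv,
    fun v hv w hw => by rw [u_tv_eq herm6]; exact h.conj w v hw hv⟩

theorem m22_of {d : G} (h : PS E) (hd : d ∈ E) (hU : IsU (Dd E d) 6) : M22Set E :=
  let ⟨_, h'⟩ := hU.uChart; m22Set_of h.cs h.nc hd h'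

theorem m22_isU (h : M22Set E) {d : G} (hd : d ∈ E) : IsU (Dd E d) 6 :=
  let ⟨_, h'⟩ := h.chart d hd; isU_of_uChart h'

end CL.TT
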