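/-
Fi24: the centraliser of a product of four commuting transpositions on the 126 fibres.
Generated by tools/pg.
-/
import Cfsg.Agent.Spor.Z24
import Cfsg.Agent.Spor.StdU43
import Cfsg.Agent.Spor.Z24TA
import Cfsg.Agent.Spor.PGCtx

set_option autoImplicit false
set_option maxRecDepth 200000
set_option Elab.async false
set_option linter.unusedVariables false

namespace CL.Z24.T
open CL.PG

def P : Par := ⟨126, 128, 7, 3⟩
theorem hP : P.Ok := by decide
noncomputable def a0 : Net := .nil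
noncomputable def a1 : Net := .nil
noncomputable def a2 : Net := .nil
noncomputable def a3 : Net := .nil
noncomputable def a4 : Net := .nil
noncomputable def a5 : Net := .nil
noncomputable def a6 : Net := .nil
noncomputable def a7 : Net := .nil
noncomputable def a8 : Net := .nil
noncomputable def a9 : Net := .nil
noncomputable def a10 : Net := .nil
noncomputable def a11 : Net := .nil
noncomputable def a12 : Net := (.cons 64 (nat_lit 0x6fc0000000000004)
 (.cons 32 (nat_lit 0xeb6274c800000000fff9faf0)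
 (.cons 16 (nat_lit 0xb3e000000f9200007d4600006554)
 (.cons 8 (nat_lit 0x32005b0020000300f90027005200a4)
 (.cons 4 (nat_lit 0xf0b05000a080e00060f090004090800)
 (.cons 2 (nat_lit 0x1232000110032200002222113210220)
 (.cons 1 (nat_lit 0x40041041404111104151154414501410)
 (.cons 2 (nat_lit 0x2002002202002202202002020)
 (.cons 4 (nat_lit 0x808000a080c0c0800060c08060c0800)
 (.cons 8 (nat_lit 0x4c00fc006e0038000000ee005200a4)
 (.cons 16 (nat_lit 0xd94800001988000025000000e554)
 (.cons 32 (nat_lit 0xaf4a47c800000000fffddf30)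
 (.cons 64 (nat_lit 0x6fc0000000000004)
 .nil)))))))))))))
noncomputable def a13 : Net := (.cons 64 (nat_lit 0xffffc3c000000000)
 (.cons 32 (nat_lit 0x6eb9d2ef00000000e74deef4)
 (.cons 16 (nat_lit 0x77ff0000edf20000cf410000db10)
 (.cons 8 (nat_lit 0x90001700ec00fe008e008a00ac00f8)
 (.cons 4 (nat_lit 0x90e010e0c000c0e0a08010d0c020408)
 (.cons 2 (nat_lit 0x32321121111100023200331003321302)
 (.cons 1 (nat_lit 0x11411145451414411401550101145414)
 (.cons 2 (nat_lit 0x22002000202002222002000002200222)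
 (.cons 4 (nat_lit 0x80c000e08020e06020800040c06040a)
 (.cons 8 (nat_lit 0x480014001e007600860044001c00c8)
 (.cons 16 (nat_lit 0xe440000081200000c5440000c720)
 (.cons 32 (nat_lit 0x6bb790a000000000dfcdb672)
 (.cons 64 (nat_lit 0xffffc3c000000000)
 .nil)))))))))))))
noncomputable def a14 : Net := (.cons 64 (nat_lit 0x72ac08241620d010)
 (.cons 32 (nat_lit 0x62cb2fae00000000c24a5840)
 (.cons 16 (nat_lit 0x5566000089a30000824200009550)
 (.cons 8 (nat_lit 0xb7001800db00b700800089004c0088)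
 (.cons 4 (nat_lit 0x50f0a0c06060002090c080a0808060e)
 (.cons 2 (nat_lit 0x11313321032020031312303220021012)
 (.cons 1 (nat_lit 0x44110010104404401401000440110504)
 (.cons 2 (nat_lit 0x20200020000000000202000220020002)
 (.cons 4 (nat_lit 0x8000c02000406060c080a00080606)
 (.cons 8 (nat_lit 0xca0018009a00200080000800480088)
 (.cons 16 (nat_lit 0x5564000044c60000824200009550)
 (.cons 32 (nat_lit 0x604b0f4600000000c04a5840)
 (.cons 64 (nat_lit 0x728c08241620d010)
 .nil)))))))))))))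
noncomputable def a15 : Net := (.cons 64 (nat_lit 0xd85f00a6b7f8a289)
 (.cons 32 (nat_lit 0xcd39129400000000e8f53301)
 (.cons 16 (nat_lit 0x57ea0000c052000012f60000e1c8)
 (.cons 8 (nat_lit 0xaa005c00af006c00fe001d00880049)
 (.cons 4 (nat_lit 0x10501020803000906080f070405060a)
 (.cons 2 (nat_lit 0x3213012331112120221122102300300)
 (.cons 1 (nat_lit 0x40111540011110544015411044000101)
 (.cons 2 (nat_lit 0x2000022200022020202002000002)
 (.cons 4 (nat_lit 0x4060a0800060c04040404080c060a)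
 (.cons 8 (nat_lit 0x2200ac000a0022007a00ce00000040)
 (.cons 16 (nat_lit 0xd16a00004354000013780000e1c8)
 (.cons 32 (nat_lit 0x2c380cc400000000e21d3380)
 (.cons 64 (nat_lit 0xe43740a7004410a8)
 .nil)))))))))))))
noncomputable def a16 : Net := (.cons 64 (nat_lit 0xe2180900a0000000)
 (.cons 32 (nat_lit 0x1f52f91000000000010ea800)
 (.cons 16 (nat_lit 0xcfd20000c6180000de420000a588)
 (.cons 8 (nat_lit 0x2c008800e1000900740062002a00bc)
 (.cons 4 (nat_lit 0x20206070d090f01040d070a0a030a04)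
 (.cons 2 (nat_lit 0x12023213122123020233022202001030)
 (.cons 1 (nat_lit 0x510414111405145114000114040500)
 (.cons 2 (nat_lit 0x20202202200220200000202000000)
 (.cons 4 (nat_lit 0x600060000060402000802000a04)
 (.cons 8 (nat_lit 0xa0080003400fe00740048002a00b4)
 (.cons 16 (nat_lit 0x4ec00000d6300000de420000a588)
 (.cons 32 (nat_lit 0x1f78f90000000000010ea800)
 (.cons 64 (nat_lit 0xe2180900a0000000)
 .nil)))))))))))))
noncomputable def a17 : Net := (.cons 64 (nat_lit 0xf0060fc000000000)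
 (.cons 32 (nat_lit 0x6c04cde00000000000000000)
 (.cons 16 (nat_lit 0xfc020000f04000000fc000000000)
 (.cons 8 (nat_lit 0x4200fe00b800f000c000f000000080)
 (.cons 4 (nat_lit 0xc050e040c0f0c0200080c0008040800)
 (.cons 2 (nat_lit 0x1022330020002303322030230303200)
 (.cons 1 (nat_lit 0x10111054010041515514004400540100)
 (.cons 2 (nat_lit 0x202000020002000022000200000200)
 (.cons 4 (nat_lit 0x40a0e0408000c0200080c0008040800)
 (.cons 8 (nat_lit 0x4200fc00b800f000c000c000000080)
 (.cons 16 (nat_lit 0xfc020000f04000000fc000000000)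
 (.cons 32 (nat_lit 0x6c04cde00000000000000000)
 (.cons 64 (nat_lit 0xf0060fc000000000)
 .nil)))))))))))))
noncomputable def a18 : Net := .nil
noncomputable def a19 : Net := (.cons 64 (nat_lit 0xb7e0398500c39142)
 (.cons 32 (nat_lit 0x48965b0100000000a429d700)
 (.cons 16 (nat_lit 0xce350000a08d000001c800004a3c)
 (.cons 8 (nat_lit 0xfc0050006a00330085004800ca0032)
 (.cons 4 (nat_lit 0x3050c010707080109000905050e0600)
 (.cons 2 (nat_lit 0x21121223221211033123230110313030)
 (.cons 1 (nat_lit 0x14545111100141410501414140105144)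
 (.cons 2 (nat_lit 0x200222000002200020000002)
 (.cons 4 (nat_lit 0x40a0804020404040a06040a040a0e0e)
 (.cons 8 (nat_lit 0xf8007000e8002a003c0008009800f2)
 (.cons 16 (nat_lit 0xcac00000982e0000ad620000296c)
 (.cons 32 (nat_lit 0x7b790b960000000081bb0844)
 (.cons 64 (nat_lit 0xa5fc919447105450)
 .nil)))))))))))))
noncomputable def a20 : Net := (.cons 64 (nat_lit 0x3150eb1062695f52)
 (.cons 32 (nat_lit 0x825b69fd000000005773dba8)
 (.cons 16 (nat_lit 0x2170000eff3000041b20000c8a6)
 (.cons 8 (nat_lit 0xc800f2006700ed008700100045004a)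
 (.cons 4 (nat_lit 0xc020a04010f040a0f00000a0d090b08)
 (.cons 2 (nat_lit 0x12223201002101233331222012003030)
 (.cons 1 (nat_lit 0x4014001144405141410104514055400)
 (.cons 2 (nat_lit 0x2022002222200220020202000000000)
 (.cons 4 (nat_lit 0x4020e0204080a0a0a00000e0c0a0400)
 (.cons 8 (nat_lit 0x500090006200980082000400b40026)
 (.cons 16 (nat_lit 0x16cc0000aed20000033400001cf0)
 (.cons 32 (nat_lit 0x808e2fe4000000006ba39bfa)
 (.cons 64 (nat_lit 0x2700bad5c25c0b50)
 .nil)))))))))))))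
noncomputable def a21 : Net := (.cons 64 (nat_lit 0xb1333f1370c61260)
 (.cons 32 (nat_lit 0x1153145300000000380a9154)
 (.cons 16 (nat_lit 0x160f0000452b00004e9700006200)
 (.cons 8 (nat_lit 0x800d1005800dc009e002300820082)
 (.cons 4 (nat_lit 0x3030c050a0d04010e000c080006)
 (.cons 2 (nat_lit 0x20203100120311331201131221301220)
 (.cons 1 (nat_lit 0x14410105100111114115015141140450)
 (.cons 2 (nat_lit 0x20200000000200022000020222200000)
 (.cons 4 (nat_lit 0x80408000e040000040008060c000002)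
 (.cons 8 (nat_lit 0x3a00cc005a00e800920008002200d0)
 (.cons 16 (nat_lit 0x80c0000972400007d380000e310)
 (.cons 32 (nat_lit 0x236700540000000039880d62)
 (.cons 64 (nat_lit 0xb71711ee30921a32)
 .nil)))))))))))))
noncomputable def a22 : Net := (.cons 64 (nat_lit 0x7e0d044040c40542)
 (.cons 32 (nat_lit 0x4d7d866700000000facb5862)
 (.cons 16 (nat_lit 0x376000006bd10000db89000025f4)
 (.cons 8 (nat_lit 0xc900e4004d00a60025007a00670080)
 (.cons 4 (nat_lit 0x40501030b01060d0500010201060504)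
 (.cons 2 (nat_lit 0x12022300100210010301022330303210)
 (.cons 1 (nat_lit 0x1011414410044014410051044415100)
 (.cons 2 (nat_lit 0x2022200000000020220002020200000)
 (.cons 4 (nat_lit 0x80000020608080c000a080800040404)
 (.cons 8 (nat_lit 0x90009600d4001200b8002400460092)
 (.cons 16 (nat_lit 0x641000002a540000744c00001ce2)
 (.cons 32 (nat_lit 0x6364838600000000f75e5d64)
 (.cons 64 (nat_lit 0x658d941050444050)
 .nil)))))))))))))
noncomputable def a23 : Net := (.cons 64 (nat_lit 0xbb65a38ea3ace6ea)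
 (.cons 32 (nat_lit 0x1b11823f00000000bed91da0)
 (.cons 16 (nat_lit 0x7304000028c20000ded900002416)
 (.cons 8 (nat_lit 0xfa00d9001f00260043005e005f0072)
 (.cons 4 (nat_lit 0x7070303070f05060c080b0b050d08)
 (.cons 2 (nat_lit 0x20132320131011000010033021230000)
 (.cons 1 (nat_lit 0x45415414414451101011101451144104)
 (.cons 2 (nat_lit 0x20200000202202020202000220200)
 (.cons 4 (nat_lit 0x204000204000c0a02000404080e0600)
 (.cons 8 (nat_lit 0x40004a00540010003200b40004002e)
 (.cons 16 (nat_lit 0x675400000b880000147800001ec8)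
 (.cons 32 (nat_lit 0x8673007a00000000bd2c6be8)
 (.cons 64 (nat_lit 0xb6b338ea62f6bb28)
 .nil)))))))))))))
noncomputable def a24 : Net := (.cons 64 (nat_lit 0x4000b053e1fffb7c)
 (.cons 32 (nat_lit 0x238fef800000000069430768)
 (.cons 16 (nat_lit 0x93f70000740300006bfd00007952)
 (.cons 8 (nat_lit 0x3d0000004d00bd007c009f009f0070)
 (.cons 4 (nat_lit 0x70f0b02050f0b02090a0c020f0904)
 (.cons 2 (nat_lit 0x2300023312103102122121211331010)
 (.cons 1 (nat_lit 0x41451141540111441114015405044140)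
 (.cons 2 (nat_lit 0x2002000000202000000020000022220)
 (.cons 4 (nat_lit 0x40a080e06040a080400040202040804)
 (.cons 8 (nat_lit 0x16002000cc006800f40074003200f2)
 (.cons 16 (nat_lit 0xbdba00003a020000980800004088)
 (.cons 32 (nat_lit 0x3f7769040000000043f54f36)
 (.cons 64 (nat_lit 0x4001a0bbedf59f7c)
 .nil)))))))))))))
noncomputable def a25 : Net := (.cons 64 (nat_lit 0x16718b3db0865b3e)
 (.cons 32 (nat_lit 0xb9233c93000000008946a6ce)
 (.cons 16 (nat_lit 0x20810000714f0000318f00006454)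
 (.cons 8 (nat_lit 0x9f00e3007800b500c30043006d000c)
 (.cons 4 (nat_lit 0xe0101020506010707040a0b050b000c)
 (.cons 2 (nat_lit 0x10222303213102333032102032223130)
 (.cons 1 (nat_lit 0x1114454410401414104441441400514)
 (.cons 2 (nat_lit 0x2200002200000222000200002000020)
 (.cons 4 (nat_lit 0x400000804040004040c020802080800)
 (.cons 8 (nat_lit 0xac00e8004a0064008e006000180002)
 (.cons 16 (nat_lit 0x92a600006c5a000084a00000c5c8)
 (.cons 32 (nat_lit 0xa61ec31400000000c72c20b8)
 (.cons 64 (nat_lit 0x1949277f9a370838)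
 .nil)))))))))))))
noncomputable def a26 : Net := (.cons 64 (nat_lit 0x1899f020489b048)
 (.cons 32 (nat_lit 0x20ff295b00000000f8e79e04)
 (.cons 16 (nat_lit 0xe5ff0000d06600001d5300009954)
 (.cons 8 (nat_lit 0xa2008d007a003e009600a60073002e)
 (.cons 4 (nat_lit 0x1080e05000302010b030a0f0b0d060c)
 (.cons 2 (nat_lit 0x12011201000102301221002331011220)
 (.cons 1 (nat_lit 0x4041101114115414411140445041150)
 (.cons 2 (nat_lit 0x2002002020020222020020020020200)
 (.cons 4 (nat_lit 0x40c0606000a0400020e0a0c020a0e0e)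
 (.cons 8 (nat_lit 0xc6009400da002600ee00be00d00026)
 (.cons 16 (nat_lit 0xd58c0000b1560000bd0800002f58)
 (.cons 32 (nat_lit 0x3171ea5c000000002cfd1e04)
 (.cons 64 (nat_lit 0x21ae860405a22318)
 .nil)))))))))))))
noncomputable def a27 : Net := (.cons 64 (nat_lit 0x8000000000000000)
 (.cons 32 (nat_lit 0xe37fa7800000000040000000)
 (.cons 16 (nat_lit 0xee04000080800000c00000004000)
 (.cons 8 (nat_lit 0x8000fc00c00080008000c000e00000)
 (.cons 4 (nat_lit 0x80f0c0f020c040600080c0c0a040000)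
 (.cons 2 (nat_lit 0x31000112203020020303300120212000)
 (.cons 1 (nat_lit 0x14001141415141510015055045000100)
 (.cons 2 (nat_lit 0x22000202200020020000000020000000)
 (.cons 4 (nat_lit 0xc000800020c040600080c0c0a040000)
 (.cons 8 (nat_lit 0xc000f800400080008000c000e00000)
 (.cons 16 (nat_lit 0xb1c0000080800000c00000004000)
 (.cons 32 (nat_lit 0xe37fa7800000000040000000)
 (.cons 64 (nat_lit 0x8000000000000000)
 .nil)))))))))))))
noncomputable def a28 : Net := (.cons 64 (nat_lit 0x43c4d42947cd83a2)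
 (.cons 32 (nat_lit 0xe7571c3500000000c4c51210)
 (.cons 16 (nat_lit 0x4b32000083b90000961b00008f54)
 (.cons 8 (nat_lit 0x4800f000e400fc0025001000310068)
 (.cons 4 (nat_lit 0xc060a0504090807000b090300090408)
 (.cons 2 (nat_lit 0x33212233131202133331032003122330)
 (.cons 1 (nat_lit 0x51110440100441051411440504104154)
 (.cons 2 (nat_lit 0x220200000000000020220000000000)
 (.cons 4 (nat_lit 0x80c0802080e06080202000a080404)
 (.cons 8 (nat_lit 0x980034001000e0001000a6003c0012)
 (.cons 16 (nat_lit 0x944400008e640000cd680000ae96)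
 (.cons 32 (nat_lit 0xe32c13d800000000ea585562)
 (.cons 64 (nat_lit 0x51d0cb5f26128d42)
 .nil)))))))))))))
noncomputable def a29 : Net := (.cons 64 (nat_lit 0x1899f020489b048)
 (.cons 32 (nat_lit 0x20ff295b00000000f8e79e04)
 (.cons 16 (nat_lit 0xe5ff0000d06600001d5300009954)
 (.cons 8 (nat_lit 0xa2008d007a003e009600a60073002e)
 (.cons 4 (nat_lit 0x1080e05000302010b030a0f0b0d060c)
 (.cons 2 (nat_lit 0x12011201000102301221002331011220)
 (.cons 1 (nat_lit 0x4041101114115414411140445041150)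
 (.cons 2 (nat_lit 0x2002002020020222020020020020200)
 (.cons 4 (nat_lit 0x40c0606000a0400020e0a0c020a0e0e)
 (.cons 8 (nat_lit 0xc6009400da002600ee00be00d00026)
 (.cons 16 (nat_lit 0xd58c0000b1560000bd0800002f58)
 (.cons 32 (nat_lit 0x3171ea5c000000002cfd1e04)
 (.cons 64 (nat_lit 0x21ae860405a22318)
 .nil)))))))))))))
noncomputable def a30 : Net := (.cons 64 (nat_lit 0xb71711ee30921a32)
 (.cons 32 (nat_lit 0xdc18ffab0000000039880d62)
 (.cons 16 (nat_lit 0x68db0000b7f3000090c70000e310)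
 (.cons 8 (nat_lit 0xe8005a009c003a003500820022000e)
 (.cons 4 (nat_lit 0x9050e09070f08040101010e06000200)
 (.cons 2 (nat_lit 0x33313210320120201223013003101010)
 (.cons 1 (nat_lit 0x44444040405014414514111144445004)
 (.cons 2 (nat_lit 0x22002000200020200022222022000002)
 (.cons 4 (nat_lit 0x40c080c0c00000a06080c00080600)
 (.cons 8 (nat_lit 0xdc0058009000080088009a0082005c)
 (.cons 16 (nat_lit 0xbad40000a9f00000b54800006200)
 (.cons 32 (nat_lit 0xee2cebac00000000380a9154)
 (.cons 64 (nat_lit 0xb1333f1370c61260)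
 .nil)))))))))))))
noncomputable def a31 : Net := (.cons 64 (nat_lit 0xbfffffc000000000)
 (.cons 32 (nat_lit 0x9f913ff200000000448d43d0)
 (.cons 16 (nat_lit 0x77400000a7c00000b1380000f882)
 (.cons 8 (nat_lit 0x1000240061006400c900d2006500e4)
 (.cons 4 (nat_lit 0x80e080f08060f0c060d08050a0a0c00)
 (.cons 2 (nat_lit 0x3300012010321300323131320020320)
 (.cons 1 (nat_lit 0x40511555414455055110401441410000)
 (.cons 2 (nat_lit 0x200000220000222000000)
 (.cons 4 (nat_lit 0x80e08000608000c060c08020a0a0c00)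
 (.cons 8 (nat_lit 0x100024008e0064008000d200c000e0)
 (.cons 16 (nat_lit 0x77400000a7c00000996800004080)
 (.cons 32 (nat_lit 0x9f813ff200000000448d43d0)
 (.cons 64 (nat_lit 0xbfffffc000000000)
 .nil)))))))))))))
noncomputable def a32 : Net := (.cons 64 (nat_lit 0x2d4ca84884da06e4)
 (.cons 32 (nat_lit 0x49720e00000000326f2f36)
 (.cons 16 (nat_lit 0xc34400008acc0000880f00007c22)
 (.cons 8 (nat_lit 0xfa00010047005100fa000800db0092)
 (.cons 4 (nat_lit 0x7020d0c040e08040c0c0a0006010102)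
 (.cons 2 (nat_lit 0x13201033210132110000212002030302)
 (.cons 1 (nat_lit 0x15104014111450411441051105454444)
 (.cons 2 (nat_lit 0x20002022200000022002002000000202)
 (.cons 4 (nat_lit 0xa000c0c04080e0004000c0002060804)
 (.cons 8 (nat_lit 0x88000c00c600d000280038007400d2)
 (.cons 16 (nat_lit 0xf64800004b0c00008a040000d9c2)
 (.cons 32 (nat_lit 0x95b814c00000000b0756d34)
 (.cons 64 (nat_lit 0x2d0729494520e424)
 .nil)))))))))))))
noncomputable def a33 : Net := (.cons 64 (nat_lit 0x25e260846e0ca882)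
 (.cons 32 (nat_lit 0x4b6c1a8b0000000016ca9c1a)
 (.cons 16 (nat_lit 0x7e8a000089f20000063100001a44)
 (.cons 8 (nat_lit 0x60008a007a0088006b003f00740092)
 (.cons 4 (nat_lit 0x20a0200090a00050a0d0e0109060d0c)
 (.cons 2 (nat_lit 0x10201202320022012113132102121102)
 (.cons 1 (nat_lit 0x1044441400101114044144441110140)
 (.cons 2 (nat_lit 0x2002000200202222022002022020000)
 (.cons 4 (nat_lit 0x40a0a00020a0800080e080a040000)
 (.cons 8 (nat_lit 0x4800000078008a00ce001e0076001e)
 (.cons 16 (nat_lit 0x268a0000a1000000a75000002ec0)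
 (.cons 32 (nat_lit 0x69e6b20a000000001687a08a)
 (.cons 64 (nat_lit 0x1d60688d6e811202)
 .nil)))))))))))))
noncomputable def a34 : Net := (.cons 64 (nat_lit 0xfd8b59b6bfc2d454)
 (.cons 32 (nat_lit 0xcf8778d900000000d5bcaa00)
 (.cons 16 (nat_lit 0xbb2e000006080000563800000f14)
 (.cons 8 (nat_lit 0xc800b8003e00b1006200c4009700b6)
 (.cons 4 (nat_lit 0xc060a0402070002040c0c0205080806)
 (.cons 2 (nat_lit 0x3200003001023132022223330133330)
 (.cons 1 (nat_lit 0x41404111410015050414101440541510)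
 (.cons 2 (nat_lit 0x20002002000020000002002000022020)
 (.cons 4 (nat_lit 0x40c02060204040a0408020a0c080800)
 (.cons 8 (nat_lit 0x40009a003600bc00ec00c000920022)
 (.cons 16 (nat_lit 0x93c000001e0000007820000039c4)
 (.cons 32 (nat_lit 0xb48cf1c000000000dcb8e6c0)
 (.cons 64 (nat_lit 0xe2cbb9f3a8cf3350)
 .nil)))))))))))))
noncomputable def a35 : Net := (.cons 64 (nat_lit 0xfffbc1c000000000)
 (.cons 32 (nat_lit 0x1fc0c46600000000f6b6d5c0)
 (.cons 16 (nat_lit 0x7bc50000053f000030c400001700)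
 (.cons 8 (nat_lit 0x950076001800c100a8002100c000d0)
 (.cons 4 (nat_lit 0xe060607020406070a040d0802000e00)
 (.cons 2 (nat_lit 0x30222102022301223212030112022110)
 (.cons 1 (nat_lit 0x410415111140114144114140014440)
 (.cons 2 (nat_lit 0x200020020200200002222200000200)
 (.cons 4 (nat_lit 0x8080400020404080008000808020a00)
 (.cons 8 (nat_lit 0x9000ce00800018003400e000e000d0)
 (.cons 16 (nat_lit 0xfec40000740000006c8c00001d00)
 (.cons 32 (nat_lit 0x5360050000000000dddecd40)
 (.cons 64 (nat_lit 0xfffbc1c000000000)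
 .nil)))))))))))))
noncomputable def a36 : Net := (.cons 64 (nat_lit 0xbbb0ed3809001c62)
 (.cons 32 (nat_lit 0xf5fa8c67000000002d09ccb0)
 (.cons 16 (nat_lit 0x745a000015a4000069ef0000055c)
 (.cons 8 (nat_lit 0xe60023007100d300bc00f400e700fc)
 (.cons 4 (nat_lit 0xe01080a0408090107020e030a09060c)
 (.cons 2 (nat_lit 0x33311230232222000101110030030032)
 (.cons 1 (nat_lit 0x10414551411411414111511141011414)
 (.cons 2 (nat_lit 0x20200000222022000002020022020000)
 (.cons 4 (nat_lit 0x200040e060200000e04000008080a04)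
 (.cons 8 (nat_lit 0xbc006a007600d000c400e000f400c0)
 (.cons 16 (nat_lit 0x4f4c00009c24000044080000a35a)
 (.cons 32 (nat_lit 0xc4299c6000000000299ee842)
 (.cons 64 (nat_lit 0x9b7ba30405820c74)
 .nil)))))))))))))
noncomputable def a37 : Net := (.cons 64 (nat_lit 0x35c751912857d31c)
 (.cons 32 (nat_lit 0x303bceee000000003cbd8cf6)
 (.cons 16 (nat_lit 0xb2710000a9d00000bf7100004a02)
 (.cons 8 (nat_lit 0xf4003300fb008e00e9007600e70098)
 (.cons 4 (nat_lit 0x10209040f0e0b060a0e0a080a020102)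
 (.cons 2 (nat_lit 0x21010221303222300121300211221210)
 (.cons 1 (nat_lit 0x51014440111401441440504141010104)
 (.cons 2 (nat_lit 0x20200202202002000002020020200)
 (.cons 4 (nat_lit 0x602080004020204020404040600000c)
 (.cons 8 (nat_lit 0x600076004400520064001600460088)
 (.cons 16 (nat_lit 0xb27000007bc40000df7c00004b04)
 (.cons 32 (nat_lit 0x15bc7b5a000000003c520ab0)
 (.cons 64 (nat_lit 0x2562eea8499549d8)
 .nil)))))))))))))
noncomputable def a38 : Net := (.cons 64 (nat_lit 0x6fc0000000000004)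
 (.cons 32 (nat_lit 0xeb6274c800000000fff9faf0)
 (.cons 16 (nat_lit 0xb3e000000f9200007d4600006554)
 (.cons 8 (nat_lit 0x32005b0020000300f90027005200a4)
 (.cons 4 (nat_lit 0xf0b05000a080e00060f090004090800)
 (.cons 2 (nat_lit 0x1232000110032200002222113210220)
 (.cons 1 (nat_lit 0x40041041404111104151154414501410)
 (.cons 2 (nat_lit 0x2002002202002202202002020)
 (.cons 4 (nat_lit 0x808000a080c0c0800060c08060c0800)
 (.cons 8 (nat_lit 0x4c00fc006e0038000000ee005200a4)
 (.cons 16 (nat_lit 0xd94800001988000025000000e554)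
 (.cons 32 (nat_lit 0xaf4a47c800000000fffddf30)
 (.cons 64 (nat_lit 0x6fc0000000000004)
 .nil)))))))))))))
noncomputable def a39 : Net := (.cons 64 (nat_lit 0x9da368d9a2c4b414)
 (.cons 32 (nat_lit 0xf7390310000000001bb86b60)
 (.cons 16 (nat_lit 0x9cd0000003fe000060dc0000e614)
 (.cons 8 (nat_lit 0x3d00d400a0000800dd000000de0073)
 (.cons 4 (nat_lit 0xe04060e090e07070e0e08000403080e)
 (.cons 2 (nat_lit 0x13313332030230203220203213201123)
 (.cons 1 (nat_lit 0x41145500101001440010015040441441)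
 (.cons 2 (nat_lit 0x2200000000000020020000020022022)
 (.cons 4 (nat_lit 0x40c0004080a06080408080000040c0e)
 (.cons 8 (nat_lit 0xe000d4000000a800dc0000003a00b6)
 (.cons 16 (nat_lit 0x9c400000b456000060dc0000e960)
 (.cons 32 (nat_lit 0xf7390310000000001bb86b60)
 (.cons 64 (nat_lit 0x9da368d882c4b414)
 .nil)))))))))))))
noncomputable def a40 : Net := (.cons 64 (nat_lit 0x2f6f4fffef33aaac)
 (.cons 32 (nat_lit 0x734030bb00000000fd3a270a)
 (.cons 16 (nat_lit 0x4d640000736c0000d6600000de86)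
 (.cons 8 (nat_lit 0x2f0026000a00a70034001a003900ba)
 (.cons 4 (nat_lit 0x50f0e0f0d0a090c000c000f0f000b02)
 (.cons 2 (nat_lit 0x2231031313101002032100031200132)
 (.cons 1 (nat_lit 0x14050451544104014150404554141454)
 (.cons 2 (nat_lit 0x20002020200202000000000)
 (.cons 4 (nat_lit 0x4000c0c02020204080408000a0002)
 (.cons 8 (nat_lit 0x6a002000980000003400c0008000d0)
 (.cons 16 (nat_lit 0x16500000efc00000bc540000a000)
 (.cons 32 (nat_lit 0x71ca00b0000000000019c358)
 (.cons 64 (nat_lit 0x3c478ff5feb5f0d0)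
 .nil)))))))))))))
noncomputable def a41 : Net := (.cons 64 (nat_lit 0x6ff0930f3db3e44c)
 (.cons 32 (nat_lit 0x7bcdb4fc0000000010e8833e)
 (.cons 16 (nat_lit 0x1acc00008b750000a2590000dc86)
 (.cons 8 (nat_lit 0x92006100e900a600f40003001b0098)
 (.cons 4 (nat_lit 0x10804030c090d0b060a090c0e000d0c)
 (.cons 2 (nat_lit 0x11301332113212330302013302130012)
 (.cons 1 (nat_lit 0x40110004001101400410105054044444)
 (.cons 2 (nat_lit 0x200002000000200220200000002002)
 (.cons 4 (nat_lit 0x808080800040c00060804020004080a)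
 (.cons 8 (nat_lit 0xd6005a0018005000f200520040009a)
 (.cons 16 (nat_lit 0x2c0000008d7600003e2c000000c4)
 (.cons 32 (nat_lit 0x1e1be4d200000000b5704300)
 (.cons 64 (nat_lit 0x751928fc0e4d6e72)
 .nil)))))))))))))
noncomputable def a42 : Net := (.cons 64 (nat_lit 0xd4e96aa270068934)
 (.cons 32 (nat_lit 0x26ce69f6000000001f08ca0c)
 (.cons 16 (nat_lit 0x68ee0000b3660000d50800003d5e)
 (.cons 8 (nat_lit 0x4000730076002e00b0004a00920080)
 (.cons 4 (nat_lit 0x10e0b020e04030204020a00000f0d0a)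
 (.cons 2 (nat_lit 0x3013003223302222210322203311010)
 (.cons 1 (nat_lit 0x10404104145111144510140144155000)
 (.cons 2 (nat_lit 0x202202020220002020220002200000)
 (.cons 4 (nat_lit 0xe0608000a0400080a020e00080c0e00)
 (.cons 8 (nat_lit 0x4600f000e200a400360062008c00d8)
 (.cons 16 (nat_lit 0x82280000b54e0000d7ea00006900)
 (.cons 32 (nat_lit 0xb46cc1380000000033ae835e)
 (.cons 64 (nat_lit 0xe9c1e2df28820624)
 .nil)))))))))))))
noncomputable def a43 : Net := (.cons 64 (nat_lit 0x7e0d044040c40542)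
 (.cons 32 (nat_lit 0x4d7d866700000000facb5862)
 (.cons 16 (nat_lit 0x376000006bd10000db89000025f4)
 (.cons 8 (nat_lit 0xc900e4004d00a60025007a00670080)
 (.cons 4 (nat_lit 0x40501030b01060d0500010201060504)
 (.cons 2 (nat_lit 0x12022300100210010301022330303210)
 (.cons 1 (nat_lit 0x1011414410044014410051044415100)
 (.cons 2 (nat_lit 0x2022200000000020220002020200000)
 (.cons 4 (nat_lit 0x80000020608080c000a080800040404)
 (.cons 8 (nat_lit 0x90009600d4001200b8002400460092)
 (.cons 16 (nat_lit 0x641000002a540000744c00001ce2)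
 (.cons 32 (nat_lit 0x6364838600000000f75e5d64)
 (.cons 64 (nat_lit 0x658d941050444050)
 .nil)))))))))))))
noncomputable def a44 : Net := (.cons 64 (nat_lit 0xf3e167dbbaa453d)
 (.cons 32 (nat_lit 0x55c09e70000000002af4b129)
 (.cons 16 (nat_lit 0xa1fb0000b8890000a8de00004b03)
 (.cons 8 (nat_lit 0xe2003e009b0058000c004b00750025)
 (.cons 4 (nat_lit 0x7070401060c0a050c08080c0c04040b)
 (.cons 2 (nat_lit 0x33313300000213113100202330003001)
 (.cons 1 (nat_lit 0x15454141404114144144514415115404)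
 (.cons 2 (nat_lit 0x20202020202200002220002220200002)
 (.cons 4 (nat_lit 0xc0204040c040e000a00040002080e0c)
 (.cons 8 (nat_lit 0x120060008e0020003a00700038004a)
 (.cons 16 (nat_lit 0xe9a0000024b0000005d8000058bc)
 (.cons 32 (nat_lit 0x4eec920400000000fe5d896c)
 (.cons 64 (nat_lit 0x3a7b1c9d9a8f6988)
 .nil)))))))))))))
noncomputable def a45 : Net := (.cons 64 (nat_lit 0xaf79fc3eeabde40c)
 (.cons 32 (nat_lit 0xa0577af40000000004c63315)
 (.cons 16 (nat_lit 0xb6cf0000ab5b0000f33d00004788)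
 (.cons 8 (nat_lit 0xca00ff00a2003b008300c8003c0035)
 (.cons 4 (nat_lit 0x70f0b0107060805000f030c0d040c0b)
 (.cons 2 (nat_lit 0x32121220022113322330302201221233)
 (.cons 1 (nat_lit 0x40414051144444504151111440141005)
 (.cons 2 (nat_lit 0x20220002222002000200020220202000)
 (.cons 4 (nat_lit 0xa0c0a0e0c0608000600060e060c0c0a)
 (.cons 8 (nat_lit 0x6c009200d000f400ec00a600140036)
 (.cons 16 (nat_lit 0xb4b60000009000009656000019b8)
 (.cons 32 (nat_lit 0x1980d496000000000e57c470)
 (.cons 64 (nat_lit 0xaab1b4a3c66ae4d8)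
 .nil)))))))))))))
noncomputable def a46 : Net := (.cons 64 (nat_lit 0xcddd7557219a1154)
 (.cons 32 (nat_lit 0x6c56cb200000000041312707)
 (.cons 16 (nat_lit 0xafb1000008230000808c00000abc)
 (.cons 8 (nat_lit 0x58006a00e3004600f400a500500066)
 (.cons 4 (nat_lit 0x6040c030d0f0808000e0600080b0204)
 (.cons 2 (nat_lit 0x20313032102332210030231020212003)
 (.cons 1 (nat_lit 0x15551541144501140144410541111544)
 (.cons 2 (nat_lit 0x20002000220002220002220022002002)
 (.cons 4 (nat_lit 0xe000202040a080800000e0000000808)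
 (.cons 8 (nat_lit 0xea009a0058004400f0008400d60068)
 (.cons 16 (nat_lit 0x844800000ca20000838800001a24)
 (.cons 32 (nat_lit 0x8a81c1800000000056b5ec00)
 (.cons 64 (nat_lit 0xcdfd7555219a1054)
 .nil)))))))))))))
noncomputable def a47 : Net := (.cons 64 (nat_lit 0xbb430edb545b62c9)
 (.cons 32 (nat_lit 0x4b82fca200000000aba4511e)
 (.cons 16 (nat_lit 0xc9cf0000b5a80000a08000003d8e)
 (.cons 8 (nat_lit 0xeb00a0001600240047004100830074)
 (.cons 4 (nat_lit 0xf0f07090902050d0a0900050b0f020b)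
 (.cons 2 (nat_lit 0x20201303230212232230123203211022)
 (.cons 1 (nat_lit 0x41144405114045540515014511105544)
 (.cons 2 (nat_lit 0x200220000000000000002200002)
 (.cons 4 (nat_lit 0x4040c08000000080a0204000e080008)
 (.cons 8 (nat_lit 0xa00010001000f0007800c000e8002a)
 (.cons 16 (nat_lit 0x605e0000bc240000d1d8000048e4)
 (.cons 32 (nat_lit 0x634af224000000008c954e6a)
 (.cons 64 (nat_lit 0xba81803d7d57b450)
 .nil)))))))))))))
noncomputable def a48 : Net := (.cons 64 (nat_lit 0x524bbbf953c3a95b)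
 (.cons 32 (nat_lit 0x7a13691a000000003499e986)
 (.cons 16 (nat_lit 0xdd9000009db000000b4d00000d1e)
 (.cons 8 (nat_lit 0x72001e005900b600d3003c00690099)
 (.cons 4 (nat_lit 0x3050f0407080e0e010a090608010f06)
 (.cons 2 (nat_lit 0x10012301130013131223332121001212)
 (.cons 1 (nat_lit 0x51041441111451545414140141404511)
 (.cons 2 (nat_lit 0x2022200002002000000020000202020)
 (.cons 4 (nat_lit 0x4000e0c080006000e0a04060804000c)
 (.cons 8 (nat_lit 0x200ba006000da005800400094)
 (.cons 16 (nat_lit 0xdec00000b96200002d700000d918)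
 (.cons 32 (nat_lit 0x27d3463a000000009c6d4a08)
 (.cons 64 (nat_lit 0x4a4a94e84b825ed0)
 .nil)))))))))))))
noncomputable def a49 : Net := (.cons 64 (nat_lit 0x7294523db36aaaae)
 (.cons 32 (nat_lit 0x7a119c98000000006c6a764e)
 (.cons 16 (nat_lit 0x6f260000048000003af60000ff2c)
 (.cons 8 (nat_lit 0x84005c007a004100e40034001200c3)
 (.cons 4 (nat_lit 0xd0106000308030e01030c050d04000c)
 (.cons 2 (nat_lit 0x13021003230121331312031100231222)
 (.cons 1 (nat_lit 0x15041444015014555004114111500041)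
 (.cons 2 (nat_lit 0x20020202000002000002200202000022)
 (.cons 4 (nat_lit 0x2040c0c02000000040208020808080c)
 (.cons 8 (nat_lit 0xf00012002200ac0058004000c000e0)
 (.cons 16 (nat_lit 0x18e000095660000cf860000c494)
 (.cons 32 (nat_lit 0xb3b602800000000f8c1e990)
 (.cons 64 (nat_lit 0x64c4d1edf42f1c82)
 .nil)))))))))))))
noncomputable def a50 : Net := (.cons 64 (nat_lit 0xe61d24bf2b40c19d)
 (.cons 32 (nat_lit 0xdfb24cf000000000a641e36f)
 (.cons 16 (nat_lit 0xe4df0000de680000d1040000e6db)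
 (.cons 8 (nat_lit 0x6a0029001000080091006e00e60075)
 (.cons 4 (nat_lit 0xb06020100010b0d05040f060906020c)
 (.cons 2 (nat_lit 0x32123120213312003100232313213)
 (.cons 1 (nat_lit 0x50014110010541445104144141054010)
 (.cons 2 (nat_lit 0x20020000220000000222002000)
 (.cons 4 (nat_lit 0xa0a0c08040004000c0e0e04040a0002)
 (.cons 8 (nat_lit 0x2000400050004a00c000f8000a0044)
 (.cons 16 (nat_lit 0x25d00000f0180000ecf000008c84)
 (.cons 32 (nat_lit 0x21e4a0e6000000009cc2ce84)
 (.cons 64 (nat_lit 0xf3816afec7c62e06)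
 .nil)))))))))))))
noncomputable def a51 : Net := (.cons 64 (nat_lit 0x44d51350146b1ac2)
 (.cons 32 (nat_lit 0xb882ff28000000005b05e021)
 (.cons 16 (nat_lit 0xfb2c0000b1400000a06900003a38)
 (.cons 8 (nat_lit 0x3800a3002400f000d7009800120042)
 (.cons 4 (nat_lit 0x20f050d0e0a0404080a0d0c0b0c0008)
 (.cons 2 (nat_lit 0x1310312230030232030310020302020)
 (.cons 1 (nat_lit 0x54144510000101401505140111011411)
 (.cons 2 (nat_lit 0x220020000000202000200002002020)
 (.cons 4 (nat_lit 0x202040c0402040408080000000e0008)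
 (.cons 8 (nat_lit 0x3400b6002000f00050009a00120000)
 (.cons 16 (nat_lit 0xc6800000a1000000806800003838)
 (.cons 32 (nat_lit 0xb880ff28000000005904e20a)
 (.cons 64 (nat_lit 0x44d51310146b1ac2)
 .nil)))))))))))))
noncomputable def a52 : Net := (.cons 64 (nat_lit 0x50597eb033247c7e)
 (.cons 32 (nat_lit 0xdb2cc20a00000000d810d3df)
 (.cons 16 (nat_lit 0xd0ea00005cfa000078ac0000c1dc)
 (.cons 8 (nat_lit 0x82002d0097002d00b5001a00f80050)
 (.cons 4 (nat_lit 0xe000d04030d030a080f0d0001040b0a)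
 (.cons 2 (nat_lit 0x13123002233020033210330111123221)
 (.cons 1 (nat_lit 0x14014415415110414111401441114101)
 (.cons 2 (nat_lit 0x2020020200000000220200202200200)
 (.cons 4 (nat_lit 0x20c0408080e0a000204000404020600)
 (.cons 8 (nat_lit 0x7400b000ac002400fc0022002600f2)
 (.cons 16 (nat_lit 0x9364000016100000c3100000ecdc)
 (.cons 32 (nat_lit 0xd781000800000000d1d331c0)
 (.cons 64 (nat_lit 0x75b9be3916684c94)
 .nil)))))))))))))
noncomputable def a53 : Net := (.cons 64 (nat_lit 0xcddd7557219a1154)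
 (.cons 32 (nat_lit 0x6c56cb200000000041312707)
 (.cons 16 (nat_lit 0xafb1000008230000808c00000abc)
 (.cons 8 (nat_lit 0x58006a00e3004600f400a500500066)
 (.cons 4 (nat_lit 0x6040c030d0f0808000e0600080b0204)
 (.cons 2 (nat_lit 0x20313032102332210030231020212003)
 (.cons 1 (nat_lit 0x15551541144501140144410541111544)
 (.cons 2 (nat_lit 0x20002000220002220002220022002002)
 (.cons 4 (nat_lit 0xe000202040a080800000e0000000808)
 (.cons 8 (nat_lit 0xea009a0058004400f0008400d60068)
 (.cons 16 (nat_lit 0x844800000ca20000838800001a24)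
 (.cons 32 (nat_lit 0x8a81c1800000000056b5ec00)
 (.cons 64 (nat_lit 0xcdfd7555219a1054)
 .nil)))))))))))))
noncomputable def a54 : Net := (.cons 64 (nat_lit 0xf2397f844b2005a0)
 (.cons 32 (nat_lit 0x2079d2fa0000000082f08f20)
 (.cons 16 (nat_lit 0xf95600002cb80000cad00000ff82)
 (.cons 8 (nat_lit 0xd500b000e100260060009b009a0020)
 (.cons 4 (nat_lit 0x50908000c020f0b01040008080c0b04)
 (.cons 2 (nat_lit 0x22322232303003311303202031100023)
 (.cons 1 (nat_lit 0x1444154501411454155154140144000)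
 (.cons 2 (nat_lit 0x22202002020200200202020220000)
 (.cons 4 (nat_lit 0x400000006040c04000000020804)
 (.cons 8 (nat_lit 0xc600d0007000fc0060009800ea0020)
 (.cons 16 (nat_lit 0xf256000066280000cad00000ff82)
 (.cons 32 (nat_lit 0x2e1115480000000082f08f20)
 (.cons 64 (nat_lit 0xf2397f844b2005a0)
 .nil)))))))))))))
noncomputable def a55 : Net := (.cons 64 (nat_lit 0xcddd7557219a1154)
 (.cons 32 (nat_lit 0x6c56cb200000000041312707)
 (.cons 16 (nat_lit 0xafb1000008230000808c00000abc)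
 (.cons 8 (nat_lit 0x58006a00e3004600f400a500500066)
 (.cons 4 (nat_lit 0x6040c030d0f0808000e0600080b0204)
 (.cons 2 (nat_lit 0x20313032102332210030231020212003)
 (.cons 1 (nat_lit 0x15551541144501140144410541111544)
 (.cons 2 (nat_lit 0x20002000220002220002220022002002)
 (.cons 4 (nat_lit 0xe000202040a080800000e0000000808)
 (.cons 8 (nat_lit 0xea009a0058004400f0008400d60068)
 (.cons 16 (nat_lit 0x844800000ca20000838800001a24)
 (.cons 32 (nat_lit 0x8a81c1800000000056b5ec00)
 (.cons 64 (nat_lit 0xcdfd7555219a1054)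
 .nil)))))))))))))
noncomputable def a56 : Net := (.cons 64 (nat_lit 0x8785b55de1ead120)
 (.cons 32 (nat_lit 0x6b86af900000000038462822)
 (.cons 16 (nat_lit 0x568c000078bc0000bf180000f938)
 (.cons 8 (nat_lit 0x32002400d000720080009300f60002)
 (.cons 4 (nat_lit 0x8040c0207000c0d0c080609050e0004)
 (.cons 2 (nat_lit 0x1220203213022200020112133303001)
 (.cons 1 (nat_lit 0x10014010550501400115411041040500)
 (.cons 2 (nat_lit 0x20000000002200020020000000000)
 (.cons 4 (nat_lit 0xc020800080402080a0a0a0e0004)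
 (.cons 8 (nat_lit 0x30002400d00070008000ac00e20000)
 (.cons 16 (nat_lit 0x68c000078bc00009c000000f938)
 (.cons 32 (nat_lit 0x6b86af900000000039462a20)
 (.cons 64 (nat_lit 0x8785b51de1ead120)
 .nil)))))))))))))
noncomputable def a57 : Net := (.cons 64 (nat_lit 0xd3f8ba252b42a82)
 (.cons 32 (nat_lit 0x859a1b3e0000000002b34024)
 (.cons 16 (nat_lit 0x1bc10000c0b40000baf0000074b7)
 (.cons 8 (nat_lit 0xc6005000e20006004000e000ad0042)
 (.cons 4 (nat_lit 0x2080a02030400080a06020c0e010102)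
 (.cons 2 (nat_lit 0x13032212002023333332002300231011)
 (.cons 1 (nat_lit 0x45154111441545500550540501044411)
 (.cons 2 (nat_lit 0x20000202002020000000000000022222)
 (.cons 4 (nat_lit 0xa00020a000400080a06020c02000000)
 (.cons 8 (nat_lit 0x44008200e20006004000e000bc00bc)
 (.cons 16 (nat_lit 0x820a0000c0b40000baf000006196)
 (.cons 32 (nat_lit 0x859a1b3a0000000002b34024)
 (.cons 64 (nat_lit 0xd3f8ba256b43890)
 .nil)))))))))))))
noncomputable def a58 : Net := (.cons 64 (nat_lit 0xf481649d2fe2a928)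
 (.cons 32 (nat_lit 0xe3ad0948000000004ba08e02)
 (.cons 16 (nat_lit 0x42ce0000a7a60000e54000002380)
 (.cons 8 (nat_lit 0x700ea005000d6005400f1000800f8)
 (.cons 4 (nat_lit 0xa04040d060b0a000e0808080e000901)
 (.cons 2 (nat_lit 0x12322231222202023023232102322300)
 (.cons 1 (nat_lit 0x11410100410014110410440150001500)
 (.cons 2 (nat_lit 0x2220200220002020020220000002000)
 (.cons 4 (nat_lit 0x40a0008040000020e0800080e000000)
 (.cons 8 (nat_lit 0xf800e8001400a0005400e600080098)
 (.cons 16 (nat_lit 0x42ce000001a20000a54000002380)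
 (.cons 32 (nat_lit 0xe3ad0948000000004ba08e02)
 (.cons 64 (nat_lit 0xf481649d2fe2a928)
 .nil)))))))))))))
noncomputable def a59 : Net := (.cons 64 (nat_lit 0xe2b9c0a00af2200c)
 (.cons 32 (nat_lit 0x6ef3e900000000001586a030)
 (.cons 16 (nat_lit 0xd59000008dca0000617000008050)
 (.cons 8 (nat_lit 0x5a0078003c00f8006400cc00e000ee)
 (.cons 4 (nat_lit 0x40a000007000a0a0907070a090c0e08)
 (.cons 2 (nat_lit 0x30031231130321023311032223320320)
 (.cons 1 (nat_lit 0x54404410001000510441110115044504)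
 (.cons 2 (nat_lit 0x220000000020222200220020000)
 (.cons 4 (nat_lit 0x40a00000000080a0c080c0a000c0e08)
 (.cons 8 (nat_lit 0x100080003c00f8006400c800e000ec)
 (.cons 16 (nat_lit 0xd49000008f220000733000008050)
 (.cons 32 (nat_lit 0x6ef3e900000000001586a030)
 (.cons 64 (nat_lit 0xe2b940a00af2200c)
 .nil)))))))))))))
noncomputable def a60 : Net := (.cons 64 (nat_lit 0xe61d24bf2b40c19d)
 (.cons 32 (nat_lit 0xdfb24cf000000000a641e36f)
 (.cons 16 (nat_lit 0xe4df0000de680000d1040000e6db)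
 (.cons 8 (nat_lit 0x6a0029001000080091006e00e60075)
 (.cons 4 (nat_lit 0xb06020100010b0d05040f060906020c)
 (.cons 2 (nat_lit 0x32123120213312003100232313213)
 (.cons 1 (nat_lit 0x50014110010541445104144141054010)
 (.cons 2 (nat_lit 0x20020000220000000222002000)
 (.cons 4 (nat_lit 0xa0a0c08040004000c0e0e04040a0002)
 (.cons 8 (nat_lit 0x2000400050004a00c000f8000a0044)
 (.cons 16 (nat_lit 0x25d00000f0180000ecf000008c84)
 (.cons 32 (nat_lit 0x21e4a0e6000000009cc2ce84)
 (.cons 64 (nat_lit 0xf3816afec7c62e06)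
 .nil)))))))))))))
noncomputable def a61 : Net := (.cons 64 (nat_lit 0x13af33c0531ded50)
 (.cons 32 (nat_lit 0x765e5332000000005e92f4bb)
 (.cons 16 (nat_lit 0x9b2a000031a000005bdb000048e4)
 (.cons 8 (nat_lit 0x1100f10027008e00e000f4005b00be)
 (.cons 4 (nat_lit 0x708060d01060707030d0b08080b0b0e)
 (.cons 2 (nat_lit 0x2111132201210011122023213231003)
 (.cons 1 (nat_lit 0x54145114015111540110115050144404)
 (.cons 2 (nat_lit 0x2220022000202000220200000220200)
 (.cons 4 (nat_lit 0xc00000e08060802000a02040c0c0802)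
 (.cons 8 (nat_lit 0xa000e20090008000420056007400d0)
 (.cons 16 (nat_lit 0xecea000039e20000dcd800008d48)
 (.cons 32 (nat_lit 0x440e4f0000000000c9d256c0)
 (.cons 64 (nat_lit 0x228638322a8af69a)
 .nil)))))))))))))
noncomputable def a62 : Net := (.cons 64 (nat_lit 0x4521e614cb50ad79)
 (.cons 32 (nat_lit 0xb245285b000000004c3026d4)
 (.cons 16 (nat_lit 0xc17400004e3a0000197100006365)
 (.cons 8 (nat_lit 0x4300d100d100dd00df008d00e80055)
 (.cons 4 (nat_lit 0x40505000f00000d080f090c0d0f0403)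
 (.cons 2 (nat_lit 0x31232303130112032211122110300003)
 (.cons 1 (nat_lit 0x14011100110411441415404150414514)
 (.cons 2 (nat_lit 0x22020000020222020200002200220022)
 (.cons 4 (nat_lit 0x4080800020000000a000e040200)
 (.cons 8 (nat_lit 0x68001600aa004c00e000a60080004e)
 (.cons 16 (nat_lit 0xe508000030f600001f32000052a8)
 (.cons 32 (nat_lit 0xa2820ad80000000052962674)
 (.cons 64 (nat_lit 0x71c4ecc45f9a4d7a)
 .nil)))))))))))))
noncomputable def a63 : Net := (.cons 64 (nat_lit 0xf6b5760f21a68344)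
 (.cons 32 (nat_lit 0x6fe919840000000005b50f86)
 (.cons 16 (nat_lit 0x6e880000ec890000543800001e40)
 (.cons 8 (nat_lit 0x80083000d00ef001c0006007c0040)
 (.cons 4 (nat_lit 0x60e0e0800080a0d0c02080100000205)
 (.cons 2 (nat_lit 0x22120230132131033200223122002211)
 (.cons 1 (nat_lit 0x11044501444001510444141440411441)
 (.cons 2 (nat_lit 0x22022002202002000200222000202020)
 (.cons 4 (nat_lit 0x600080c0000040c00000c000c0e02)
 (.cons 8 (nat_lit 0x8000000080092001c000600ac0080)
 (.cons 16 (nat_lit 0x6e8800001a80000054380000f2a0)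
 (.cons 32 (nat_lit 0x6f8911040000000014b58686)
 (.cons 64 (nat_lit 0xf6b5760f21a68344)
 .nil)))))))))))))
noncomputable def a64 : Net := (.cons 64 (nat_lit 0x289a71b6ad2cdba0)
 (.cons 32 (nat_lit 0xdbeb89d0000000008e0e9772)
 (.cons 16 (nat_lit 0xd6590000d39200002ce400000a68)
 (.cons 8 (nat_lit 0xf000f40098004e008a005200740050)
 (.cons 4 (nat_lit 0xa00060c0908020a0009010a0b000008)
 (.cons 2 (nat_lit 0x2210221302011232213200300323000)
 (.cons 1 (nat_lit 0x44141101154504001141111011505411)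
 (.cons 2 (nat_lit 0x20222202000002002202020000000000)
 (.cons 4 (nat_lit 0x40c00000c00000000040a0a00000000)
 (.cons 8 (nat_lit 0x600012006400640088001200300010)
 (.cons 16 (nat_lit 0x14460000d09e000028e400006a28)
 (.cons 32 (nat_lit 0xd96199e0000000008e0e1762)
 (.cons 64 (nat_lit 0x289a71b6ad2cdba0)
 .nil)))))))))))))
noncomputable def a65 : Net := (.cons 64 (nat_lit 0xcaa8880ca6463042)
 (.cons 32 (nat_lit 0x5503305000000000878a2730)
 (.cons 16 (nat_lit 0x69000005a8400003c0500003828)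
 (.cons 8 (nat_lit 0xa000e00016002e009800a8007c0090)
 (.cons 4 (nat_lit 0xe000008000c00000e0a0c0a0c0a0000)
 (.cons 2 (nat_lit 0x20203002210233110223300121322022)
 (.cons 1 (nat_lit 0x5000501005155005001511410501110)
 (.cons 2 (nat_lit 0x2000200000002000020002020)
 (.cons 4 (nat_lit 0xe000008000c00000e0a0c0a0c0a0000)
 (.cons 8 (nat_lit 0xa000c00014002e009800a800400000)
 (.cons 16 (nat_lit 0x680000052840000bc0000003828)
 (.cons 32 (nat_lit 0x5503305000000000870a0430)
 (.cons 64 (nat_lit 0xca28882ca6461042)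
 .nil)))))))))))))
noncomputable def a66 : Net := (.cons 64 (nat_lit 0xa73a761f959aa1c0)
 (.cons 32 (nat_lit 0xaa80171800000000c20c6ca2)
 (.cons 16 (nat_lit 0x913000001a0a000059fc00002b84)
 (.cons 8 (nat_lit 0xa000d8005a00d000e1005b000e0037)
 (.cons 4 (nat_lit 0x20e0c060605000c0e0f0a0004010008)
 (.cons 2 (nat_lit 0x23020320320220022102333120020103)
 (.cons 1 (nat_lit 0x5511501504045444551144141041411)
 (.cons 2 (nat_lit 0x20000000020020000020020020002)
 (.cons 4 (nat_lit 0x20e0c020604000c0804000a04000800)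
 (.cons 8 (nat_lit 0xa000d0001a0040004c00a400060088)
 (.cons 16 (nat_lit 0x813000001a0a000059fc00002b84)
 (.cons 32 (nat_lit 0xaa80171800000000c20c2ca2)
 (.cons 64 (nat_lit 0xa73a761f959aa1c0)
 .nil)))))))))))))
noncomputable def ns0 : List Net := [a0, a1, a2, a3, a4, a5, a6, a7, a8, a9, a10, a11, a12, a13, a14, a15, a16, a17, a18]
noncomputable def ws : List (List ℕ) :=
  [W (nat_lit 0x2206c190701d0881c0741b068210681b078210781c06822),
  W (nat_lit 0x1c0881e06c1d0841d0841b078190702206c1e),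
  W (nat_lit 0xa82a0a8280a4270a427),
  W (nat_lit 0x270a4280a02a),
  W (nat_lit 0x1c0701d06c1908c2306822064220701e),
  W (nat_lit 0x841a0841a06c190881c074230681e0681d0841b0681e),
  W (nat_lit 0x2f0c82f),
  W (nat_lit 0x300c82f0c4310c032),
  W (nat_lit 0xd434),
  W (nat_lit 0x220681e),
  W (nat_lit 0xa4270a42709c2909c27),
  W (nat_lit 0x280a8280a827),
  W (nat_lit 0xa0280a0280a428),
  W (nat_lit 0x2a0a02a09c29),
  W (nat_lit 0x280a0290a029),
  W (nat_lit 0x2a0a8280a428),
  W (nat_lit 0x461104511044),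
  W (nat_lit 0xa029),
  W (nat_lit 0x270a828),
  W (nat_lit 0x1284b12c4a),
  W (nat_lit 0x1f07820),
  W (nat_lit 0x702106c1d0881a06822068220702207819),
  W (nat_lit 0x701d0881c0741b06c1e088190781b),
  W (nat_lit 0x144511445314c5214852),
  W (nat_lit 0x1445414853),
  W (nat_lit 0xac2d0ac2709c2a0841a0801d0642a),
  W (nat_lit 0xb82c0a02908419084200741c),
  W (nat_lit 0xd0360c42f0c81d0643107c2107020),
  W (nat_lit 0xcc370bc2f0741c0741f08434),
  W (nat_lit 0x340d02f0cc1d068210bc1f0741907020),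
  W (nat_lit 0x370cc370bc2f0d81d064310841f07430),
  W (nat_lit 0x370cc330cc300dc2f0843207c1d08030),
  W (nat_lit 0x198621806217c5d1985e18065),
  W (nat_lit 0x1985d1885f1985f17861194601746517865),
  W (nat_lit 0x601785f194651845f18460),
  W (nat_lit 0x5f198601805e178621886019866),
  W (nat_lit 0x6c1a86d1b0681b06d19c6b1ac691ac691b069),
  W (nat_lit 0x691b8681ac6a1b06d1a8671a86d1a468),
  W (nat_lit 0x1a86a1a0681b86a19c6e1a0681b06a1b069),
  W (nat_lit 0x1a46b1a46e1ac681a46c1a468),
  W (nat_lit 0x751bc731bc711c0711c0731d86f1cc721d8711cc72),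
  W (nat_lit 0x6f19c5f),
  W (nat_lit 0x6f1cc61),
  W (nat_lit 0x1dc731d467),
  W (nat_lit 0x771bc73),
  W (nat_lit 0x18c621806319860198661746317c5f),
  W (nat_lit 0x1886017863178661746517c5e198611845e),
  W (nat_lit 0x18864178661746517c5f18c5d180631985e198661985f17c63)]
noncomputable def ns : List Net := [a0, a1, a2, a3, a4, a5, a6, a7, a8, a9, a10, a11, a12, a13, a14, a15, a16, a17, a18, a19, a20, a21, a22, a23, a24, a25, a26, a27, a28, a29, a30, a31, a32, a33, a34, a35, a36, a37, a38, a39, a40, a41, a42, a43, a44, a45, a46, a47, a48, a49, a50, a51, a52, a53, a54, a55, a56, a57, a58, a59, a60, a61, a62, a63, a64, a65, a66]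
noncomputable def D : List (ℕ × List ℕ) := app [] (mkDefs ws 19)
noncomputable def chk : List (List ℕ × List ℕ) → Bool := P.relsB ns
noncomputable def zE0 : Net :=
  (.cons 256 (nat_lit 0x2b5bb19421c0c1dc7eea5ed571982065cfca251f690ab05d3fa70eb4d3908852)
 (.cons 128 (nat_lit 0x9e9bc4dd2982b5d24467911e62b764d00000000000000000000000000000000159bef408d97fc60fe8192c48b664a18)
 (.cons 64 (nat_lit 0xdb8054e4dd8db49c0000000000000000ed58c4fecb4962c200000000000000000d24166d8245adb90000000000000000af83a5ba1f570b80)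
 (.cons 32 (nat_lit 0x7d93cdcb000000003dd230f700000000ea3976c0000000003e51472100000000b409e0e700000000f9144dd500000000d976dd150000000031d3e69e)
 (.cons 16 (nat_lit 0x2ff00005ffc0000782c0000cc84000022360000ac4b0000ae770000270a0000859c0000e368000083dd0000ecfd000007e1000068eb000092e90000e7d4)
 (.cons 8 (nat_lit 0x5005b0029003700af00d000e200c70001005a0018006a00e3006b003600f5004a00bb009a00ba000500af005600e6004100d500db0063008500980036007a)
 (.cons 4 (nat_lit 0x10d06000d040c090909020202000e0502020b0c00020c0d0f0d0b0f0a070f08060e010b01080103040108040d0c07080d0e0d030b0f0f00090e040d0a050c0e)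
 (.cons 2 (nat_lit 0x12203002323200202110300121130201130103230332133301323333313333023102302331130221303123231331010102330130132130033110011231013032)
 (.cons 1 (nat_lit 0x40411145101115414410100404010401044441404041401410454015050114155445004144415140015011045404501154404001144444111405114544411044)
 (.cons 2 (nat_lit 0x2220222220000002000202000200000020002000002020000202200200000002020200020020020200002000202002020020020000222002020000)
 (.cons 4 (nat_lit 0xc0a080206080802080e0808060804020c0204080e08080202000c0c0a0008020602080800040a06040e04020e08040804080e00000c0c040a00000c0c040608)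
 (.cons 8 (nat_lit 0xec00ac0050003400b200c0000800ca00b000540070005000f80080006200460092008c002200f400c000de002400060080008400b00030000200ba00e40044)
 (.cons 16 (nat_lit 0x7a600000e4c400006848000002a400007f220000a2640000fe48000094400000ec040000e2ce0000dfc200002ae000005b860000e5420000de680000cb02)
 (.cons 32 (nat_lit 0xb6089154000000001740a516000000007a8b6404000000003232b69400000000e44c3452000000007e073324000000006a26ca8c00000000abf57d94)
 (.cons 64 (nat_lit 0xf37a2ce40418b3460000000000000000bb1cd732bd29f140000000000000000048bd67f39435b0880000000000000000f557c309095e9124)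
 (.cons 128 (nat_lit 0x1f972214b36067416b855e1b2443b8000000000000000000000000000000000556e9d0601862b9ae2359971263c3640)
 (.cons 256 (nat_lit 0x2b0c7e0378e5112e194c9a04952df9b04f58ebbf832a11a55000e899c3ad34c2)
 .nil)))))))))))))))))
noncomputable def zK1 : Lk :=
  ⟨zE0, 4, 3, 1⟩
noncomputable def K0 : Lk :=
  zK1
noncomputable def M_v0 : Lev :=
  ⟨0, 126, sg (W (nat_lit 0x1b064210741f06c1906c190841f0741f)), [[24], [26], [28], [32]], 0, 0⟩
noncomputable def M_v1 : Lev :=
  ⟨3, 80, sg (W (nat_lit 0x1d06c190841d06c190841d)), [[38], [40]], 0, 2⟩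
noncomputable def M_v2 : Lev :=
  ⟨7, 27, sg (W (nat_lit 0x2709c2709c2909c270a427)), [[42], [44]], 2, 2⟩
noncomputable def M_v3 : Lev :=
  ⟨2, 12, sg (W (nat_lit 0x2b0b42b0b42b)), [], 4, 0⟩
noncomputable def M_vs4 : List Lev :=
  []
noncomputable def M_vs3 : List Lev :=
  M_v3 :: M_vs4
noncomputable def M_vs2 : List Lev :=
  M_v2 :: M_vs3
noncomputable def M_vs1 : List Lev :=
  M_v1 :: M_vs2
noncomputable def M_vs : List Lev :=
  M_v0 :: M_vs1
noncomputable def C_v0 : Lev :=
  ⟨0, 126, sg (W (nat_lit 0x1b064210741f06c1906c190841f0741f)), [[24], [26], [28], [32], [34]], 4, 0⟩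
noncomputable def C_v1 : Lev :=
  ⟨3, 80, sg (W (nat_lit 0x1d06c190841d06c190841d)), [[46], [48]], 4, 2⟩
noncomputable def C_v2 : Lev :=
  ⟨7, 27, sg (W (nat_lit 0xc42f0c42f0c42f0c42f)), [[50], [52]], 6, 2⟩
noncomputable def C_v3 : Lev :=
  ⟨2, 12, sg (W (nat_lit 0x330d4330d433)), [[54]], 8, 1⟩
noncomputable def C_v4 : Lev :=
  ⟨8, 2, sg [54], [], 9, 0⟩
noncomputable def C_vs5 : List Lev :=
  []
noncomputable def C_vs4 : List Lev :=
  C_v4 :: C_vs5
noncomputable def C_vs3 : List Lev :=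
  C_v3 :: C_vs4
noncomputable def C_vs2 : List Lev :=
  C_v2 :: C_vs3
noncomputable def C_vs1 : List Lev :=
  C_v1 :: C_vs2
noncomputable def C_vs : List Lev :=
  C_v0 :: C_vs1
noncomputable def zus6 : List (List ℕ) :=
  [[42],
  [43],
  [44],
  [45],
  W (nat_lit 0xac2d),
  W (nat_lit 0xac2e),
  W (nat_lit 0xb02d),
  W (nat_lit 0xb02e),
  W (nat_lit 0xb42b),
  W (nat_lit 0xb82c),
  W (nat_lit 0x2b0b42b)]
noncomputable def zF7 : List (List (ℕ × List ℕ)) :=
  [[(1, []),
   (2, []),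
   (0, []),
   (9, []),
   (7, []),
   (11, []),
   (3, []),
   (10, []),
   (5, []),
   (6, []),
   (4, []),
   (8, [])],
  [(3, []),
   (5, []),
   (7, []),
   (4, []),
   (0, []),
   (6, []),
   (1, []),
   (8, []),
   (2, []),
   (11, []),
   (9, []),
   (10, [])]]
noncomputable def zus10 : List (List ℕ) :=
  [[38],
  [39],
  [40],
  [41],
  W (nat_lit 0x9c27),
  W (nat_lit 0x9c29),
  W (nat_lit 0x9c2a),
  W (nat_lit 0xa028),
  W (nat_lit 0xa029),
  W (nat_lit 0xa02a),
  W (nat_lit 0xa427),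
  W (nat_lit 0xa428),
  W (nat_lit 0xa42b),
  W (nat_lit 0x9c2c),
  W (nat_lit 0x2709c27),
  W (nat_lit 0xa82e),
  W (nat_lit 0x2709c2a),
  W (nat_lit 0xa42c),
  W (nat_lit 0x270a82e),
  W (nat_lit 0xa02c),
  W (nat_lit 0x270a82c),
  W (nat_lit 0xa82d),
  W (nat_lit 0x270a82b),
  W (nat_lit 0x270b029),
  W (nat_lit 0x280a02d),
  W (nat_lit 0x9c2b)]
noncomputable def zF11 : List (List (ℕ × List ℕ)) :=
  [[(1, []),
   (5, []),
   (0, []),
   (11, []),
   (13, [43]),
   (15, []),
   (18, [43]),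
   (12, [42]),
   (2, []),
   (10, [42]),
   (16, W (nat_lit 0xb82c)),
   (6, [45]),
   (3, []),
   (7, W (nat_lit 0xb02d)),
   (4, [44]),
   (23, W (nat_lit 0x2b0b42b)),
   (17, []),
   (22, W (nat_lit 0xb42b)),
   (14, [44]),
   (8, W (nat_lit 0xb02d)),
   (25, W (nat_lit 0xac2d)),
   (9, []),
   (26, [43]),
   (24, [45]),
   (19, W (nat_lit 0xb82c)),
   (21, W (nat_lit 0xac2d)),
   (20, [43])],
  [(3, []),
   (6, []),
   (9, []),
   (4, []),
   (0, []),
   (16, [42]),
   (7, []),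
   (1, []),
   (15, W (nat_lit 0xb02d)),
   (10, []),
   (2, []),
   (22, [42]),
   (12, [42]),
   (19, W (nat_lit 0xac2e)),
   (24, []),
   (20, [44]),
   (17, [43]),
   (5, []),
   (14, []),
   (21, [44]),
   (8, W (nat_lit 0xb42b)),
   (13, [43]),
   (23, [43]),
   (11, []),
   (18, []),
   (25, W (nat_lit 0xb82c)),
   (26, [44])]]
noncomputable def zrs14 : List (ℕ × List ℕ) :=
  [(46, W (nat_lit 0x3a0a03a)),
  (75, W (nat_lit 0x3a0ac39)),
  (104, [57]),
  (122, W (nat_lit 0x390a02b)),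
  (5, W (nat_lit 0x390e439))]
noncomputable def M_w1_1_v0 : Lev :=
  ⟨46, 27, sg (W (nat_lit 0x2709c2709c2909c270a427)), [[58], [60]], 10, 2⟩
noncomputable def M_w1_1_v1 : Lev :=
  ⟨2, 12, sg (W (nat_lit 0x3d0ec3b0f43b)), [], 12, 0⟩
noncomputable def M_w1_1_vs2 : List Lev :=
  []
noncomputable def M_w1_1_vs1 : List Lev :=
  M_w1_1_v1 :: M_w1_1_vs2
noncomputable def M_w1_1_vs : List Lev :=
  M_w1_1_v0 :: M_w1_1_vs1
noncomputable def zcj16 : List (List ℕ) :=
  [W (nat_lit 0xb82c),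
  W (nat_lit 0x2e0a42c)]
noncomputable def M_w1_2_v0 : Lev :=
  ⟨75, 27, sg (W (nat_lit 0x9c2909c2909c270a427)), [[62], [64]], 12, 2⟩
noncomputable def M_w1_2_v1 : Lev :=
  ⟨2, 12, sg (W (nat_lit 0x411043f1043f)), [], 14, 0⟩
noncomputable def M_w1_2_vs2 : List Lev :=
  []
noncomputable def M_w1_2_vs1 : List Lev :=
  M_w1_2_v1 :: M_w1_2_vs2
noncomputable def M_w1_2_vs : List Lev :=
  M_w1_2_v0 :: M_w1_2_vs1
noncomputable def zcj20 : List (List ℕ) :=
  [W (nat_lit 0xb02d0a02c),
  W (nat_lit 0xb02e0a42c)]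
noncomputable def M_w1_3_v0 : Lev :=
  ⟨104, 12, sg (W (nat_lit 0x2709c2909c2909c27)), [[66], [68]], 14, 2⟩
noncomputable def M_w1_3_v1 : Lev :=
  ⟨1, 9, sg (W (nat_lit 0x1144311443)), [[70]], 16, 1⟩
noncomputable def M_w1_3_v2 : Lev :=
  ⟨6, 3, sg (W (nat_lit 0x11c47)), [], 17, 0⟩
noncomputable def M_w1_3_vs3 : List Lev :=
  []
noncomputable def M_w1_3_vs2 : List Lev :=
  M_w1_3_v2 :: M_w1_3_vs3
noncomputable def M_w1_3_vs1 : List Lev :=
  M_w1_3_v1 :: M_w1_3_vs2
noncomputable def M_w1_3_vs : List Lev :=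
  M_w1_3_v0 :: M_w1_3_vs1
noncomputable def zcj24 : List (List ℕ) :=
  [W (nat_lit 0x2b0b42b09c27),
  W (nat_lit 0xac2e0a02a)]
noncomputable def M_w1_4_v0 : Lev :=
  ⟨122, 12, sg (W (nat_lit 0x9c2709c270a42709c27)), [[72], [74]], 17, 2⟩
noncomputable def M_w1_4_v1 : Lev :=
  ⟨1, 9, sg (W (nat_lit 0x491244b12c49)), [[76]], 19, 1⟩
noncomputable def M_w1_4_v2 : Lev :=
  ⟨6, 3, sg (W (nat_lit 0x1344d)), [], 20, 0⟩
noncomputable def M_w1_4_vs3 : List Lev :=
  []
noncomputable def M_w1_4_vs2 : List Lev :=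
  M_w1_4_v2 :: M_w1_4_vs3
noncomputable def M_w1_4_vs1 : List Lev :=
  M_w1_4_v1 :: M_w1_4_vs2
noncomputable def M_w1_4_vs : List Lev :=
  M_w1_4_v0 :: M_w1_4_vs1
noncomputable def zcj28 : List (List ℕ) :=
  [W (nat_lit 0x2b0b42b09c27),
  W (nat_lit 0x2d09c27)]
noncomputable def M_w1_5_v0 : Lev :=
  ⟨5, 1, sg [], [[38], [40]], 20, 0⟩
noncomputable def M_w1_5_v1 : Lev :=
  ⟨7, 27, sg (W (nat_lit 0x2709c2709c2909c270a427)), [[42], [44]], 2, 2⟩
noncomputable def M_w1_5_v2 : Lev :=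
  ⟨2, 12, sg (W (nat_lit 0x2b0b42b0b42b)), [], 4, 0⟩
noncomputable def M_w1_5_vs3 : List Lev :=
  []
noncomputable def M_w1_5_vs2 : List Lev :=
  M_w1_5_v2 :: M_w1_5_vs3
noncomputable def M_w1_5_vs1 : List Lev :=
  M_w1_5_v1 :: M_w1_5_vs2
noncomputable def M_w1_5_vs : List Lev :=
  M_w1_5_v0 :: M_w1_5_vs1
noncomputable def zcj32 : List (List ℕ) :=
  [W (nat_lit 0xb02e09c29),
  [41]]
noncomputable def zB35 : List BG :=
  [⟨[56], [([66], W (nat_lit 0x2b0b42b09c27)), ([68], W (nat_lit 0xac2e0a02a))],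
  [([⟨[], W (nat_lit 0xb027), 4, []⟩], []),
   ([⟨[], [39], 3, []⟩,
    ⟨[38], W (nat_lit 0xa82e), 1, W (nat_lit 0xb0270a82e)⟩,
    ⟨[39], W (nat_lit 0xa828), 2, W (nat_lit 0xb827)⟩], W (nat_lit 0x4010080100801)),
   ([⟨[], W (nat_lit 0x9c27), 2, W (nat_lit 0xb02e09c29)⟩,
    ⟨[38], W (nat_lit 0xa028), 4, W (nat_lit 0x2d0a427)⟩,
    ⟨[39], [40], 1, W (nat_lit 0xa028)⟩], W (nat_lit 0x4010080100801)),
   ([⟨[], [], 0, []⟩,
    ⟨[38], W (nat_lit 0xa02d), 2, [43]⟩,
    ⟨W (nat_lit 0x9c2b), [], 3, W (nat_lit 0x2e0b0270a82b)⟩,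
    ⟨W (nat_lit 0xa02c), [39], 4, W (nat_lit 0x2b0a02a)⟩], W (nat_lit 0x10040200401)),
   ([⟨[], [38], 1, W (nat_lit 0x270b029)⟩,
    ⟨[39], W (nat_lit 0xa02c), 3, W (nat_lit 0x2e0b029)⟩,
    ⟨[42], [], 5, W (nat_lit 0xb42b0a42b)⟩,
    ⟨W (nat_lit 0xb027), [42], 4, W (nat_lit 0x2e0b029)⟩], W (nat_lit 0x10040200401)),
   ([⟨[], W (nat_lit 0x9c2b), 3, W (nat_lit 0x2b0b82709c2a)⟩], [])]⟩]
noncomputable def zE36 : List (ℕ × List ℕ) :=
  [(24, W (nat_lit 0xb02e0a42b)),
  (26, W (nat_lit 0x2c09c27)),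
  (28, W (nat_lit 0xb82c09c2c0a43a0a03a)),
  (32, W (nat_lit 0xac2d0ac280e4270b039))]
noncomputable def zrs41 : List (ℕ × List ℕ) :=
  [(3, W (nat_lit 0x13c190744f0681d)),
  (7, [78])]
noncomputable def zcj42 : List (List ℕ) :=
  [W (nat_lit 0x9c29074190742a),
  [40]]
noncomputable def M_w0_2_v0 : Lev :=
  ⟨7, 45, sg (W (nat_lit 0x641d06c190741b0642106c19)), [[80], [82]], 21, 2⟩
noncomputable def M_w0_2_v1 : Lev :=
  ⟨3, 48, sg (W (nat_lit 0x5114451144531445114c5114c51)), [[84], [86]], 23, 2⟩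
noncomputable def M_w0_2_v2 : Lev :=
  ⟨2, 12, sg (W (nat_lit 0x571545515c55)), [], 25, 0⟩
noncomputable def M_w0_2_vs3 : List Lev :=
  []
noncomputable def M_w0_2_vs2 : List Lev :=
  M_w0_2_v2 :: M_w0_2_vs3
noncomputable def M_w0_2_vs1 : List Lev :=
  M_w0_2_v1 :: M_w0_2_vs2
noncomputable def M_w0_2_vs : List Lev :=
  M_w0_2_v0 :: M_w0_2_vs1
noncomputable def zcj46 : List (List ℕ) :=
  [W (nat_lit 0x9c2a0b82107021),
  W (nat_lit 0x9c2c0741906c21)]
noncomputable def zB49 : List BG :=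
  [⟨[78], [([80], W (nat_lit 0x9c2a0b82107021)), ([82], W (nat_lit 0x9c2c0741906c21))],
  [([⟨[], [], 2, []⟩], []),
   ([⟨[], [], 1, W (nat_lit 0x1d0641d0681d)⟩,
    ⟨W (nat_lit 0x7419), W (nat_lit 0x641d), 2, []⟩], W (nat_lit 0x10040100401008010080100801)),
   ([⟨[], [], 0, []⟩,
    ⟨[24], W (nat_lit 0x1d0641d), 1, []⟩,
    ⟨[38], W (nat_lit 0x681b), 2, W (nat_lit 0xb42b0a02c)⟩], W (nat_lit 0x200401008010080100801))]⟩]
noncomputable def zE50 : List (ℕ × List ℕ) :=
  [(30, W (nat_lit 0xb02e0a42b0741a0744f0644f0681d))]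
noncomputable def zts55 : List (List ℕ) :=
  [[],
  [],
  [],
  [],
  [],
  [],
  [],
  [],
  [],
  [],
  [],
  [],
  W (nat_lit 0xb02e0a42b),
  W (nat_lit 0x2c09c27),
  [28],
  [30],
  [32]]
noncomputable def zts58 : List (List ℕ) :=
  [[],
  [],
  [],
  [],
  [],
  [],
  [],
  [],
  [],
  [],
  [],
  [],
  W (nat_lit 0xdc340c833),
  W (nat_lit 0x370cc2f),
  [28],
  [30],
  [32],
  W (nat_lit 0x320dc31)]
noncomputable def zE61 : Net :=
  (.cons 64 (nat_lit 0xaa47f7d364abec88)
 (.cons 32 (nat_lit 0x12b58f550000000066268ca8)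
 (.cons 16 (nat_lit 0x448100007c1f000024a900000f36)
 (.cons 8 (nat_lit 0x6700a10019005c003d002500c900c4)
 (.cons 4 (nat_lit 0xd0c020c0a0d0804090c0e00030c0208)
 (.cons 2 (nat_lit 0x21330232310312313311331312021032)
 (.cons 1 (nat_lit 0x44451445410054111410155444151414)
 (.cons 2 (nat_lit 0x20200000000000022200200002202200)
 (.cons 4 (nat_lit 0xc00000804080a020c0200060c080a04)
 (.cons 8 (nat_lit 0xf2000600e000440008008000740010)
 (.cons 16 (nat_lit 0xc6c400003c4c0000668a00008efa)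
 (.cons 32 (nat_lit 0xb5c9fc0000000006bf09086)
 (.cons 64 (nat_lit 0xbf1c4305f4cc5de8)
 .nil)))))))))))))
noncomputable def zK62 : Lk :=
  ⟨zE61, 1, 3, 1⟩
noncomputable def core_P_ps : List PcG :=
  [⟨[120], 2, W (nat_lit 0x1bc7f), [W (nat_lit 0x6f1fc5f1f4611ec63), W (nat_lit 0x1bc61), [122], W (nat_lit 0x1fc7d), W (nat_lit 0x1bc5f), [126], [110]]⟩,
  ⟨[98], 2, W (nat_lit 0x1bc7f1847b), [[96], W (nat_lit 0x1fc7b), W (nat_lit 0x6f1fc5f), [124], W (nat_lit 0x1bc7f), [110]]⟩,
  ⟨[122], 2, W (nat_lit 0x1bc7f17c7d), [W (nat_lit 0x6f1fc61), W (nat_lit 0x1fc5f), W (nat_lit 0x1fc7d), W (nat_lit 0x1bc7f), [110]]⟩,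
  ⟨[96], 2, W (nat_lit 0x17c7d), [[94], W (nat_lit 0x1bc7d), W (nat_lit 0x1bc7f), [110]]⟩,
  ⟨[124], 2, W (nat_lit 0x1bc7f), [W (nat_lit 0x1bc5f), [126], [110]]⟩,
  ⟨[94], 2, [126], [[126], [110]]⟩,
  ⟨[126], 2, [], [[110]]⟩,
  ⟨[110], 2, [], []⟩]
noncomputable def zE66 : List (ℕ × List ℕ) :=
  [(92, [110]),
  (100, [120])]
noncomputable def core_P_v0 : Lev :=
  ⟨85, 2, sg [98], [[92], [94], [96], [100]], 32, 0⟩
noncomputable def core_P_v1 : Lev :=
  ⟨2, 4, sg (W (nat_lit 0x1845f)), [[102], [104], [106], [108]], 32, 4⟩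
noncomputable def core_P_v2 : Lev :=
  ⟨16, 2, sg [102], [[110], [112], [114], [116]], 36, 4⟩
noncomputable def core_P_v3 : Lev :=
  ⟨0, 8, sg (W (nat_lit 0x731c46f)), [[118]], 40, 1⟩
noncomputable def core_P_v4 : Lev :=
  ⟨1, 2, sg [118], [], 41, 0⟩
noncomputable def core_P_vs5 : List Lev :=
  []
noncomputable def core_P_vs4 : List Lev :=
  core_P_v4 :: core_P_vs5
noncomputable def core_P_vs3 : List Lev :=
  core_P_v3 :: core_P_vs4
noncomputable def core_P_vs2 : List Lev :=
  core_P_v2 :: core_P_vs3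
noncomputable def core_P_vs1 : List Lev :=
  core_P_v1 :: core_P_vs2
noncomputable def core_P_vs : List Lev :=
  core_P_v0 :: core_P_vs1
noncomputable def core_s_ms : List ℕ :=
  [(nat_lit 0x800020000101000000)]
noncomputable def core_sG_v0 : Lev :=
  ⟨24, 32, sg (W (nat_lit 0x1945f18c6117c5d)), [[128], [130], [132]], 45, 3⟩
noncomputable def core_sG_v1 : Lev :=
  ⟨71, 8, sg (W (nat_lit 0x8520c81)), [], 48, 0⟩
noncomputable def core_sG_vs2 : List Lev :=
  []
noncomputable def core_sG_vs1 : List Lev :=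
  core_sG_v1 :: core_sG_vs2
noncomputable def core_sG_vs : List Lev :=
  core_sG_v0 :: core_sG_vs1
noncomputable def core_s_x : List (ℕ × List ℕ) :=
  [((nat_lit 0), [(nat_lit 0x2304502b08004316243002849407041)]),
  ((nat_lit 0), [(nat_lit 0x98004000000820000080004000000)])]
noncomputable def core_s_G : Gl :=
  ⟨P, ns, (app D []), [], [], [], memM (app D []) [], true⟩
noncomputable def core_s_s : St :=
  ⟨(mkS P.n core_sG_vs core_s_x), [[92], [94], [96], [98], [100]], [], diag core_s_ms, memM (app D []) [], []⟩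
noncomputable def zt73 : ST :=
  (.orb 0 (.and 1 0 (.br 0 [] [] [(24, [])] (.cons (.orb 0 (.and 4 0 (.br 0 [] [] [(71, [])] (.cons .fnd
 .nil))))
 .nil))))
noncomputable def zus76 : List (List ℕ × ℕ) :=
  [(W (nat_lit 0x1906c2107820), (nat_lit 0x2000001000000000000000010004))]
noncomputable def zts78 : List (List ℕ) :=
  [W (nat_lit 0xd0360c42f0c81d0643107c2107020),
  W (nat_lit 0xcc370bc2f0741c0741f08434),
  W (nat_lit 0x340d02f0cc1d068210bc1f0741907020),
  W (nat_lit 0x370cc370bc2f0d81d064310841f07430),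
  W (nat_lit 0x370cc330cc300dc2f0843207c1d08030)]

theorem zl2 : K0.newB CL.Z24.P P CL.Z24.ns [[0], [2], [4], [6], [8], [10], [12], [14], [16], [18], [20], [22], [24], [26], [28], [30], [32], [34], [90]] ns0 = true := by decide +kernel
theorem zl3 : allL (K0.plN CL.Z24.P P CL.Z24.ns 0) (zp Net.nil [[0], [2], [4], [6], [8], [10], [12], [14], [16], [18], [20], [22], [24], [26], [28], [30], [32], [34], [90]] ns0) = true := by decide +kernel
theorem zc4 : P.chainB ns D M_vs [[24], [26], [28], [30], [32]] = true := by decide +kernel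
theorem zc5 : P.chainB ns D C_vs [[24], [26], [28], [30], [32], [34]] = true := by decide +kernel
theorem zb8 : schB D [[42], [44]] [] zus6 zF7 12 = true := by decide +kernel
theorem zr9 : chk (schR [[42], [44]] zus6 zF7) = true := by decide +kernel
theorem zb12 : schB D [[38], [40]] [[42], [44]] zus10 zF11 27 = true := by decide +kernel
theorem zr13 : chk (schR [[38], [40]] zus10 zF11) = true := by decide +kernel
theorem zc15 : P.chainB ns D M_w1_1_vs [[38], [40]] = true := by decide +kernel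
theorem zb17 : wdB D [[38], [40]] M_w1_1_v0.nx zcj16 = true := by decide +kernel
theorem zr18 : chk (wdR M_w1_1_v0.nx (W (nat_lit 0x3a0a03a)) zcj16) = true := by decide +kernel
theorem zc19 : P.chainB ns D M_w1_2_vs [[38], [40]] = true := by decide +kernel
theorem zb21 : wdB D [[38], [40]] M_w1_2_v0.nx zcj20 = true := by decide +kernel
theorem zr22 : chk (wdR M_w1_2_v0.nx (W (nat_lit 0x3a0ac39)) zcj20) = true := by decide +kernel
theorem zc23 : P.chainB ns D M_w1_3_vs [[38], [40]] = true := by decide +kernel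
theorem zb25 : wdB D [[38], [40]] M_w1_3_v0.nx zcj24 = true := by decide +kernel
theorem zr26 : chk (wdR M_w1_3_v0.nx [57] zcj24) = true := by decide +kernel
theorem zc27 : P.chainB ns D M_w1_4_vs [[38], [40]] = true := by decide +kernel
theorem zb29 : wdB D [[38], [40]] M_w1_4_v0.nx zcj28 = true := by decide +kernel
theorem zr30 : chk (wdR M_w1_4_v0.nx (W (nat_lit 0x390a02b)) zcj28) = true := by decide +kernel
theorem zc31 : P.chainB ns D M_w1_5_vs [[38], [40]] = true := by decide +kernel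
theorem zb33 : wdB D [[38], [40]] M_w1_5_v0.nx zcj32 = true := by decide +kernel
theorem zr34 : chk (wdR M_w1_5_v0.nx (W (nat_lit 0x390e439)) zcj32) = true := by decide +kernel
theorem zb37 : bB P.n P.N ns (app D zE36) [[24], [26], [28], [32]] [[38], [40]] 3 zrs14 zB35 = true := by decide +kernel
theorem zb38 : P.invSz ns [[24], [26], [28], [32]] 3 (orbM P.N ns M_v1) 80 = true := by decide +kernel
theorem zr39 : chk (bR 3 zrs14 zB35) = true := by decide +kernel
theorem zr40 : chk (defRels zE36) = true := by decide +kernel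
theorem zb43 : wdB D [[24], [26], [28], [32]] M_v1.nx zcj42 = true := by decide +kernel
theorem zr44 : chk (wdR M_v1.nx (W (nat_lit 0x13c190744f0681d)) zcj42) = true := by decide +kernel
theorem zc45 : P.chainB ns D M_w0_2_vs [[24], [26], [28], [32]] = true := by decide +kernel
theorem zb47 : wdB D [[24], [26], [28], [32]] M_w0_2_v0.nx zcj46 = true := by decide +kernel
theorem zr48 : chk (wdR M_w0_2_v0.nx [78] zcj46) = true := by decide +kernel
theorem zb51 : bB P.n P.N ns (app D zE50) [[24], [26], [28], [30], [32]] [[24], [26], [28], [32]] 0 zrs41 zB49 = true := by decide +kernel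
theorem zb52 : P.invSz ns [[24], [26], [28], [30], [32]] 0 (orbM P.N ns M_v0) 126 = true := by decide +kernel
theorem zr53 : chk (bR 0 zrs41 zB49) = true := by decide +kernel
theorem zr54 : chk (defRels zE50) = true := by decide +kernel
theorem zm56 : leB D zts55 [[24], [26], [28], [30], [32]] = true := by decide +kernel
theorem zr57 : chk (zp [] [[0], [2], [4], [6], [8], [10], [12], [14], [16], [18], [20], [22], [24], [26], [28], [30], [32]] zts55) = true := by decide +kernel
theorem zm59 : leB D zts58 [[24], [26], [28], [30], [32], [34]] = true := by decide +kernel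
theorem zr60 : chk (zp [] [[0], [2], [4], [6], [8], [10], [12], [14], [16], [18], [20], [22], [24], [26], [28], [30], [32], [34]] zts58) = true := by decide +kernel
theorem zl63 : zK62.relB CL.Z24.T.P CL.Z24.Ta.T.P CL.Z24.T.ns [[88], [90]] [[0], [2]] = true := by decide +kernel
theorem zl64 : allL (zK62.pl CL.Z24.T.P CL.Z24.Ta.T.P CL.Z24.T.ns CL.Z24.Ta.T.ns 0) (zp [] [[88], [90]] [[0], [2]]) = true := by decide +kernel
theorem zm65 : leB D [[88], [90]] [[24], [26], [28], [30], [32]] = true := by decide +kernel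
theorem zr67 : chk (pcsR core_P_ps []) = true := by decide +kernel
theorem zr68 : chk (defRels zE66) = true := by decide +kernel
theorem zb69 : bnd (pcsB D core_P_ps []) (leB (app D zE66) [[92], [94], [96], [98], [100]] (pcGens core_P_ps [])) = true := by decide +kernel
theorem zc70 : P.chainB ns D core_P_vs [[92], [94], [96], [98], [100]] = true := by decide +kernel
theorem zc71 : P.chainB ns D core_sG_vs [[92], [94], [96], [98], [100]] = true := by decide +kernel
theorem zs72 : ssB P.N ns D (mkS P.n core_sG_vs core_s_x) [[92], [94], [96], [98], [100]] = true := by decide +kernel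
theorem zs74 : core_s_G.chk zt73 core_s_s none = true := by decide +kernel
theorem zm75 : bnd (allL (invB P.N ns []) core_s_ms) (leB D [] [[92], [94], [96], [98], [100]]) = true := by decide +kernel
theorem zm77 : P.coreB ns D [[24], [26], [28], [30], [32], [34]] [[92], [94], [96], [98], [100]] zus76 core_s_ms = true := by decide +kernel
theorem zm79 : leB D zts78 [[24], [26], [28], [30], [32], [34]] = true := by decide +kernel
theorem zr80 : chk (zp [] [[92], [94], [96], [98], [100]] zts78) = true := by decide +kernel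
theorem zf81 : Nat.beq (P.fixL ns [[0], [2], [4], [6], [8], [10], [12], [14], [16], [18], [20], [22], [36]]) (ones P.n) = true := by decide +kernel
theorem zm82 : bnd (Nat.beq (lenL ns) 67) (leB D (gensW 67) [[0], [2], [4], [6], [8], [10], [12], [14], [16], [18], [20], [22], [24], [26], [28], [30], [32], [34], [36]]) = true := by decide +kernel
theorem zk83 : allL (keepB P.n P.N) ns0 = true := by decide +kernel
theorem ze84 : extB ns0 ns 19 ws [] = true := by decide +kernel
theorem zn85 : P.netsB ns (mkDefs ws 19) = true := by decide +kernel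

variable {G X : Type*} [Group G] [MulAction G X] {e : ℕ → X} {gs : List G}

theorem keep0 : allL (keepB P.n P.N) ns0 = true := zk83

theorem len {k} (c : Ctx P e gs ns0 [] k) : gs.length = 19 := c.len ze84

theorem ctx0 {k} (c : Ctx P e gs ns0 [] k) : Ctx P e (ext gs ws) ns D chk0 :=
  c.ext rfl ze84 zn85

theorem ctx {k} (c : Ctx P e gs ns0 [] k) {H : Subgroup G} (hF : Faithful e P.n H) (hH : ∀ g ∈ gs, g ∈ H) :
    Ctx P e (ext gs ws) ns D chk :=
  (ctx0 c).withB hF (mem_of_mem_ext hH _)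

instance instNe : NeZero P.n := ⟨by decide⟩
noncomputable def gs0 : List (Equiv.Perm (Fin P.n)) := permsOf P.n P.N ns0
noncomputable def gs1 : List (Equiv.Perm (Fin P.n)) := ext gs0 ws
theorem c1 : Ctx P (eF P.n) gs1 ns D chk :=
  ctx (ctx_permsOf hP keep0) (faithful_eF _) fun _ _ => trivial

theorem base {D₁ : List (ℕ × List ℕ)} {k₁ : List (List ℕ × List ℕ) → Bool} (c : Ctx CL.Z24.P e gs CL.Z24.ns D₁ k₁) :
    Ctx P (K0.blk P.n e) (List.map (wordG gs) [[0], [2], [4], [6], [8], [10], [12], [14], [16], [18], [20], [22], [24], [26], [28], [30], [32], [34], [90]]) ns0 [] chk0 :=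
  c.blk hP zl2 keep0 (fun (t : ℕ) (ht : t < 1) => match t, ht with
    | 0, _ => zl3
    | t + 1, h => absurd h (by omega))

theorem M_c : P.chainB ns D M_vs [[24], [26], [28], [30], [32]] = true :=
  zc4

theorem M_o : prodL M_vs 1 = 3265920 := by decide +kernel

theorem M_lb (c : Ctx P e gs ns D chk) :
    LB (subW gs [[24], [26], [28], [30], [32]]) 3265920 :=
  c.lb M_c M_o

theorem C_c : P.chainB ns D C_vs [[24], [26], [28], [30], [32], [34]] = true :=
  zc5

theorem C_o : prodL C_vs 1 = 6531840 := by decide +kernel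

theorem C_lb (c : Ctx P e gs ns D chk) :
    LB (subW gs [[24], [26], [28], [30], [32], [34]]) 6531840 :=
  c.lb C_c C_o

theorem M_u3 (c : Ctx P e gs ns D chk) :
    UB (subW gs [[42], [44]]) 12 :=
  (c.sch_step (UB.nil gs)
    (c.rels _ zr9) zb8).le (by decide)

theorem M_u2 (c : Ctx P e gs ns D chk) :
    UB (subW gs [[38], [40]]) 324 :=
  (c.sch_step (M_u3 c)
    (c.rels _ zr13) zb12).le (by decide)

theorem M_w1_1_c : P.chainB ns D M_w1_1_vs [[38], [40]] = true :=
  zc15

theorem M_w1_1_o : prodL M_w1_1_vs 1 = 324 := by decide +kernel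

theorem M_w1_2_c : P.chainB ns D M_w1_2_vs [[38], [40]] = true :=
  zc19

theorem M_w1_2_o : prodL M_w1_2_vs 1 = 324 := by decide +kernel

theorem M_w1_3_c : P.chainB ns D M_w1_3_vs [[38], [40]] = true :=
  zc23

theorem M_w1_3_o : prodL M_w1_3_vs 1 = 324 := by decide +kernel

theorem M_w1_4_c : P.chainB ns D M_w1_4_vs [[38], [40]] = true :=
  zc27

theorem M_w1_4_o : prodL M_w1_4_vs 1 = 324 := by decide +kernel

theorem M_w1_5_c : P.chainB ns D M_w1_5_vs [[38], [40]] = true :=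
  zc31

theorem M_w1_5_o : prodL M_w1_5_vs 1 = 324 := by decide +kernel

theorem M_u1w (c : Ctx P e gs ns D chk) :
    AllWd e gs [[38], [40]] zrs14 :=
  ⟨c.wd (v := M_w1_1_v0) (vs := M_w1_1_vs1) (M_u2 c) M_w1_1_c M_w1_1_o
      (c.rels _ zr18) zb17,
    ⟨c.wd (v := M_w1_2_v0) (vs := M_w1_2_vs1) (M_u2 c) M_w1_2_c M_w1_2_o
      (c.rels _ zr22) zb21,
    ⟨c.wd (v := M_w1_3_v0) (vs := M_w1_3_vs1) (M_u2 c) M_w1_3_c M_w1_3_o
      (c.rels _ zr26) zb25,
    ⟨c.wd (v := M_w1_4_v0) (vs := M_w1_4_vs1) (M_u2 c) M_w1_4_c M_w1_4_o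
      (c.rels _ zr30) zb29,
    ⟨c.wd (v := M_w1_5_v0) (vs := M_w1_5_vs1) (M_u2 c) M_w1_5_c M_w1_5_o
      (c.rels _ zr34) zb33,
    trivial⟩⟩⟩⟩⟩

theorem M_u1 (c : Ctx P e gs ns D chk) :
    UB (subW gs [[24], [26], [28], [32]]) 25920 :=
  (c.b_step (M_u2 c) (M_u1w c) (c.rels _ zr40)
    (c.rels _ zr39) zb37 zb38).le (by decide)

theorem M_w0_2_c : P.chainB ns D M_w0_2_vs [[24], [26], [28], [32]] = true :=
  zc45

theorem M_w0_2_o : prodL M_w0_2_vs 1 = 25920 := by decide +kernel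

theorem M_u0w (c : Ctx P e gs ns D chk) :
    AllWd e gs [[24], [26], [28], [32]] zrs41 :=
  ⟨c.wd (v := M_v1) (vs := M_vs2) (M_u1 c) (Par.chainB_tail M_c) (by decide +kernel)
      (c.rels _ zr44) zb43,
    ⟨c.wd (v := M_w0_2_v0) (vs := M_w0_2_vs1) (M_u1 c) M_w0_2_c M_w0_2_o
      (c.rels _ zr48) zb47,
    trivial⟩⟩

theorem M_u0 (c : Ctx P e gs ns D chk) :
    UB (subW gs [[24], [26], [28], [30], [32]]) 3265920 :=
  (c.b_step (M_u1 c) (M_u0w c) (c.rels _ zr54)
    (c.rels _ zr53) zb51 zb52).le (by decide)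

theorem M_ub (c : Ctx P e gs ns D chk) :
    UB (subW gs [[24], [26], [28], [30], [32]]) 3265920 :=
  (M_u0 c)

theorem eM (c : Ctx P e gs ns D chk) :
    (subW gs [[0], [2], [4], [6], [8], [10], [12], [14], [16], [18], [20], [22], [24], [26], [28], [30], [32]]) ≤ (subW gs [[24], [26], [28], [30], [32]]) :=
  (c.le_of_rels (ws := [[0], [2], [4], [6], [8], [10], [12], [14], [16], [18], [20], [22], [24], [26], [28], [30], [32]]) (l := [[24], [26], [28], [30], [32]]) (c.rels _ zr57) zm56)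

theorem eC (c : Ctx P e gs ns D chk) :
    (subW gs [[0], [2], [4], [6], [8], [10], [12], [14], [16], [18], [20], [22], [24], [26], [28], [30], [32], [34]]) ≤ (subW gs [[24], [26], [28], [30], [32], [34]]) :=
  (c.le_of_rels (ws := [[0], [2], [4], [6], [8], [10], [12], [14], [16], [18], [20], [22], [24], [26], [28], [30], [32], [34]]) (l := [[24], [26], [28], [30], [32], [34]]) (c.rels _ zr60) zm59)

theorem iso_h_T {Γ Y : Type*} [Group Γ] [MulAction Γ Y] {e' : ℕ → Y} {cs : List Γ} {D₁ D₂ : List (ℕ × List ℕ)}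
    {k₁ k₂ : List (List ℕ × List ℕ) → Bool} (c : Ctx CL.Z24.T.P e gs CL.Z24.T.ns D₁ k₁) (c' : Ctx CL.Z24.Ta.T.P e' cs CL.Z24.Ta.T.ns D₂ k₂)
    (hF : Faithful e' CL.Z24.Ta.T.P.n (subW cs [[0], [2]])) :
    RelLe gs [[88], [90]] cs [[0], [2]] :=
  c.relLe (K := zK62) c' hF zl63 (fun (t : ℕ) (ht : t < 1) => match t, ht with
    | 0, _ => zl64
    | t + 1, h => absurd h (by omega))

theorem iso_h {Γ Y : Type*} [Group Γ] [MulAction Γ Y] {e' : ℕ → Y} {cs : List Γ} {D₁ D₂ : List (ℕ × List ℕ)}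
    {k₁ k₂ : List (List ℕ × List ℕ) → Bool} (c : Ctx CL.Z24.T.P e gs CL.Z24.T.ns D₁ k₁) (c' : Ctx CL.Std.U43.P e' cs CL.Std.U43.ns D₂ k₂)
    (hF : Faithful e' CL.Std.U43.P.n (subW cs [[0], [2]])) :
    RelLe gs [[88], [90]] cs [[0], [2]] :=
  (iso_h_T c CL.Z24.Ta.T.c1 ((faithful_eF _).mono le_top)).trans (CL.Z24.Ta.S.rel c' hF)

theorem iso (c : Ctx P e gs ns D chk) :
    Nonempty ((subW gs [[24], [26], [28], [30], [32]]) ≃* subW CL.Std.U43.gs1 [[0], [2]]) :=
  (iso_h c CL.Std.U43.c1 ((faithful_eF _).mono le_top)).equiv_sub (c.le zm65) (M_ub c) (CL.Std.U43.G_lb CL.Std.U43.c1)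

theorem core_P_pr (c : Ctx P e gs ns D chk) :
    Rels gs (pcsR core_P_ps []) :=
  (c.rels _ zr67)

theorem core_P_pe (c : Ctx P e gs ns D chk) :
    Rels gs (defRels zE66) :=
  (c.rels _ zr68)

theorem core_P_pb : bnd (pcsB D core_P_ps []) (leB (app D zE66) [[92], [94], [96], [98], [100]] (pcGens core_P_ps [])) = true := zb69

theorem core_P_ub (c : Ctx P e gs ns D chk) :
    UB (subW gs [[92], [94], [96], [98], [100]]) 256 :=
  c.pcs (UB.nil gs) (core_P_pe c) (core_P_pr c) core_P_pb (by decide +kernel)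

theorem core_P_c : P.chainB ns D core_P_vs [[92], [94], [96], [98], [100]] = true :=
  zc70

theorem core_P_o : prodL core_P_vs 1 = 256 := by decide +kernel

theorem core_P_lb (c : Ctx P e gs ns D chk) :
    LB (subW gs [[92], [94], [96], [98], [100]]) 256 :=
  c.lb core_P_c core_P_o

theorem core_P_card (c : Ctx P e gs ns D chk) :
    Nat.card (subW gs [[92], [94], [96], [98], [100]]) = 256 :=
  (core_P_ub c).card_eq (core_P_lb c)

theorem core_sG_c : P.chainB ns D core_sG_vs [[92], [94], [96], [98], [100]] = true :=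
  zc71

theorem core_sG_o : prodL core_sG_vs 1 = 256 := by decide +kernel

theorem core_s (c : Ctx P e gs ns D chk) :
    ∀ g, g ∈ (subW gs []) ↔ g ∈ (subW gs [[92], [94], [96], [98], [100]]) ∧ ∀ m ∈ core_s_ms, g ∈ sstab G (mset e P.n m) :=
  c.setStab (Rels.nil _) (c.sOk (c.exact core_sG_c core_sG_o (core_P_ub c)) zs72) (fun _ h => by cases h) zm75 zs74

theorem core (c : Ctx P e gs ns D chk) (hU : Nat.card (subW gs [[24], [26], [28], [30], [32], [34]]) = 6531840) :
    Cfsg.pCore 2 (subW gs [[24], [26], [28], [30], [32], [34]]) = ⊥ :=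
  pCore_eq_bot_of_le (c.pCoreOf_le (p := 2) (by norm_num) (b := 25515) hU (core_P_card c) (by norm_num) (c.le_of_rels (ws := [[92], [94], [96], [98], [100]]) (l := [[24], [26], [28], [30], [32], [34]]) (c.rels _ zr80) zm79) zm77 (core_s c))

theorem fk (c : Ctx P e gs ns D chk0) :
    IsFix e P.n (subW gs [[0], [2], [4], [6], [8], [10], [12], [14], [16], [18], [20], [22], [36]]) (ones P.n) :=
  c.isFix zf81

theorem mall (c : Ctx P e gs ns D chk0) :
    ∀ g ∈ gs, g ∈ (subW gs [[0], [2], [4], [6], [8], [10], [12], [14], [16], [18], [20], [22], [24], [26], [28], [30], [32], [34], [36]]) :=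
  c.mem_all (m := 67) zm82

abbrev lb : List (List ℕ) := [[0], [2], [4], [6], [8], [10], [12], [14], [16], [18], [20], [22], [24], [26], [28], [30], [32], [34], [90]]
abbrev lK : List (List ℕ) := [[0], [2], [4], [6], [8], [10], [12], [14], [16], [18], [20], [22], [36]]
abbrev l5 : List (List ℕ) := [[24], [26], [28], [30], [32]]
abbrev l6 : List (List ℕ) := [[24], [26], [28], [30], [32], [34]]


end CL.Z24.T
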