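/-
A standard permutation model of a group of exceptional Lie type: degree 63, order 12096.
Generated by tools/pg.
-/
import Cfsg.Agent.S1059
import Cfsg.Agent.Spor.PGChev
import Cfsg.Agent.Spor.PGCtx
import Cfsg.Prelude.Def_LieTwisted

set_option autoImplicit false
set_option maxRecDepth 200000
set_option Elab.async false
set_option linter.unusedVariables false

namespace CL.Std.G22.M
open CL.PG

def P : Par := ⟨63, 64, 6, 3⟩
theorem hP : P.Ok := by decide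
noncomputable def a0 : Net := (.cons 32 (nat_lit 0x80000000)
 (.cons 16 (nat_lit 0x9e6100007f80)
 (.cons 8 (nat_lit 0x66006600800080)
 (.cons 4 (nat_lit 0x60e060e010d0206)
 (.cons 2 (nat_lit 0x2222003033201322)
 (.cons 1 (nat_lit 0x4414005044001144)
 (.cons 2 (nat_lit 0x2222000002000022)
 (.cons 4 (nat_lit 0x8000808080800)
 (.cons 8 (nat_lit 0x800080)
 (.cons 32 (nat_lit 0x80000000)
 .nil))))))))))
noncomputable def a1 : Net := (.cons 32 (nat_lit 0x80000000)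
 (.cons 16 (nat_lit 0x7fff00008000)
 (.cons 8 (nat_lit 0x80007f007f0080)
 (.cons 4 (nat_lit 0x708080708080708)
 (.cons 2 (nat_lit 0x1221211222220131)
 (.cons 1 (nat_lit 0x5500111141140101)
 (.cons 2 (nat_lit 0x22220200)
 (.cons 4 (nat_lit 0x808080808080808)
 (.cons 8 (nat_lit 0x800080008000f8)
 (.cons 16 (nat_lit 0x800000008000)
 (.cons 32 (nat_lit 0xffff8000)
 .nil)))))))))))
noncomputable def ns0 : List Net := [a0, a1]
noncomputable def ws : List (List ℕ) :=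
  []
noncomputable def ns : List Net := [a0, a1]
noncomputable def D : List (ℕ × List ℕ) := app [] (mkDefs ws 2)
noncomputable def chk : List (List ℕ × List ℕ) → Bool := P.relsB ns
noncomputable def zV0 : ℕ :=
  (nat_lit 0x4cb3555555550000334caaaaaaaaffff)
noncomputable def zV1 : ℕ :=
  (nat_lit 0x1e6678002d557800619987ffd2aa87ff)
noncomputable def zV2 : ℕ :=
  (nat_lit 0x46e91b555c3c36553916e4aaa3c3c9aa)
noncomputable def zV3 : ℕ :=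
  (nat_lit 0x5c5a5c3c1b55556623a5a3c3e4aaaa99)
noncomputable def zV4 : ℕ :=
  (nat_lit 0x56304e504e50666029cfb1afb1af999f)
noncomputable def zV5 : ℕ :=
  (nat_lit 0x52f855001e7860602d07aaffe1879f9f)
noncomputable def zV6 : ℕ :=
  (nat_lit 0x1e781e78550066006187e187aaff99ff)
noncomputable def zV7 : ℕ :=
  (nat_lit 0x55557f80666678782aaa807f99998787)
noncomputable def zV8 : ℕ :=
  (nat_lit 0x666666667f807f8019999999807f807f)
noncomputable def zV9 : ℕ :=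
  (nat_lit 0x7f87f80787800007807807f8787ffff)
noncomputable def zV10 : ℕ :=
  (nat_lit 0x787878787f80000007878787807fffff)
noncomputable def zV11 : ℕ :=
  (nat_lit 0x7f807f807f800000007f807f807fffff)
noncomputable def zV12 : ℕ :=
  (nat_lit 0x7fff80007fff800000007fff80007fff)
noncomputable def zV13 : ℕ :=
  (nat_lit 0x7fffffff80000000000000007fffffff)
noncomputable def V : List ℕ :=
  [zV0, zV1, zV2, zV3, zV4, zV5, zV6, zV7, zV8, zV9, zV10, zV11, zV12, zV13]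
noncomputable def XL : List (ℕ × ℕ × List (List ℕ)) :=
  [(7, 1, [[1, 0, 0, 0, 0, 0, 1, 0, 0, 0, 0, 0, 0, 0], [0, 1, 0, 0, 0, 0, 0, 0, 0, 0, 0, 0, 0, 0], [0, 0, 1, 0, 0, 0, 0, 0, 0, 0, 0, 0, 0, 0], [0, 0, 0, 1, 0, 0, 0, 0, 0, 0, 0, 0, 0, 0], [0, 0, 0, 1, 1, 0, 0, 0, 0, 0, 0, 0, 0, 0], [0, 0, 0, 1, 0, 1, 0, 0, 0, 0, 0, 0, 0, 0], [0, 0, 0, 0, 0, 0, 1, 0, 0, 0, 0, 0, 0, 0], [0, 0, 0, 1, 1, 1, 0, 1, 0, 0, 0, 0, 0, 0], [0, 0, 0, 0, 0, 0, 0, 0, 1, 0, 0, 0, 0, 0], [0, 1, 0, 0, 0, 0, 1, 0, 0, 1, 0, 0, 0, 0], [0, 0, 0, 0, 0, 0, 0, 0, 1, 0, 1, 0, 0, 0], [0, 0, 0, 0, 0, 0, 0, 0, 1, 0, 0, 1, 0, 0], [0, 0, 0, 0, 0, 0, 0, 0, 1, 0, 1, 1, 1, 0], [0, 0, 0, 0, 0, 0, 0, 0, 0, 0, 0, 0, 0, 1]]),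
  (6, 1, [[1, 0, 0, 0, 0, 0, 0, 0, 0, 0, 0, 0, 0, 0], [0, 1, 0, 0, 0, 0, 0, 1, 0, 0, 0, 0, 0, 0], [0, 0, 1, 0, 0, 0, 0, 0, 0, 0, 0, 0, 0, 0], [0, 0, 1, 1, 0, 0, 0, 0, 0, 0, 0, 0, 0, 0], [0, 0, 0, 0, 1, 0, 0, 0, 0, 0, 0, 0, 0, 0], [0, 0, 0, 0, 0, 1, 0, 0, 0, 0, 0, 0, 0, 0], [0, 0, 0, 0, 0, 1, 1, 0, 0, 0, 0, 0, 0, 0], [0, 0, 0, 0, 0, 0, 0, 1, 0, 0, 0, 0, 0, 0], [1, 0, 0, 0, 0, 0, 0, 1, 1, 0, 0, 0, 0, 0], [0, 0, 0, 0, 0, 0, 0, 0, 0, 1, 0, 0, 0, 0], [0, 0, 0, 0, 0, 0, 0, 0, 0, 1, 1, 0, 0, 0], [0, 0, 0, 0, 0, 0, 0, 0, 0, 0, 0, 1, 0, 0], [0, 0, 0, 0, 0, 0, 0, 0, 0, 0, 0, 0, 1, 0], [0, 0, 0, 0, 0, 0, 0, 0, 0, 0, 0, 0, 1, 1]]),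
  (4, 1, [[1, 0, 0, 0, 0, 0, 0, 0, 0, 1, 0, 0, 0, 0], [0, 1, 0, 0, 0, 0, 0, 0, 0, 0, 0, 0, 0, 0], [0, 0, 1, 0, 0, 0, 0, 0, 0, 0, 0, 0, 0, 0], [0, 0, 0, 1, 1, 1, 0, 1, 0, 0, 0, 0, 0, 0], [0, 0, 0, 0, 1, 0, 0, 1, 0, 0, 0, 0, 0, 0], [0, 0, 0, 0, 0, 1, 0, 1, 0, 0, 0, 0, 0, 0], [0, 1, 0, 0, 0, 0, 1, 0, 0, 1, 0, 0, 0, 0], [0, 0, 0, 0, 0, 0, 0, 1, 0, 0, 0, 0, 0, 0], [0, 0, 0, 0, 0, 0, 0, 0, 1, 0, 1, 1, 1, 0], [0, 0, 0, 0, 0, 0, 0, 0, 0, 1, 0, 0, 0, 0], [0, 0, 0, 0, 0, 0, 0, 0, 0, 0, 1, 0, 1, 0], [0, 0, 0, 0, 0, 0, 0, 0, 0, 0, 0, 1, 1, 0], [0, 0, 0, 0, 0, 0, 0, 0, 0, 0, 0, 0, 1, 0], [0, 0, 0, 0, 0, 0, 0, 0, 0, 0, 0, 0, 0, 1]]),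
  (5, 1, [[1, 0, 0, 0, 0, 0, 0, 0, 0, 0, 0, 0, 0, 0], [0, 1, 0, 0, 0, 0, 0, 0, 1, 0, 0, 0, 0, 0], [0, 0, 1, 1, 0, 0, 0, 0, 0, 0, 0, 0, 0, 0], [0, 0, 0, 1, 0, 0, 0, 0, 0, 0, 0, 0, 0, 0], [0, 0, 0, 0, 1, 0, 0, 0, 0, 0, 0, 0, 0, 0], [0, 0, 0, 0, 0, 1, 1, 0, 0, 0, 0, 0, 0, 0], [0, 0, 0, 0, 0, 0, 1, 0, 0, 0, 0, 0, 0, 0], [1, 0, 0, 0, 0, 0, 0, 1, 1, 0, 0, 0, 0, 0], [0, 0, 0, 0, 0, 0, 0, 0, 1, 0, 0, 0, 0, 0], [0, 0, 0, 0, 0, 0, 0, 0, 0, 1, 1, 0, 0, 0], [0, 0, 0, 0, 0, 0, 0, 0, 0, 0, 1, 0, 0, 0], [0, 0, 0, 0, 0, 0, 0, 0, 0, 0, 0, 1, 0, 0], [0, 0, 0, 0, 0, 0, 0, 0, 0, 0, 0, 0, 1, 1], [0, 0, 0, 0, 0, 0, 0, 0, 0, 0, 0, 0, 0, 1]])]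
noncomputable def cw : List (List ℕ) :=
  [[3, 0], [2, 3, 1]]

theorem zv14 : vecB (tabP 2).q 1 14 P V = true := by decide +kernel
theorem zv15 : allL (fun p => (tabP 2).actW 1 14 P V (mapL (fun c => (nth (0, 0, []) XL c).2.2) p.1, p.2)) (zp Net.nil cw ns0) = true := by decide +kernel
theorem zx16 : matF (fun a : ℕ => (a : ZMod 2)) (ixD Cfsg.Lie.chevG2) (look (XL.getD 0 (0, 0, [])).2.2) = Cfsg.Lie.chevG2.x (ZMod 2) 7 ((fun a : ℕ => (a : ZMod 2)) 1) := by decide +kernel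
theorem zx17 : matF (fun a : ℕ => (a : ZMod 2)) (ixD Cfsg.Lie.chevG2) (look (XL.getD 1 (0, 0, [])).2.2) = Cfsg.Lie.chevG2.x (ZMod 2) 6 ((fun a : ℕ => (a : ZMod 2)) 1) := by decide +kernel
theorem zx18 : matF (fun a : ℕ => (a : ZMod 2)) (ixD Cfsg.Lie.chevG2) (look (XL.getD 2 (0, 0, [])).2.2) = Cfsg.Lie.chevG2.x (ZMod 2) 4 ((fun a : ℕ => (a : ZMod 2)) 1) := by decide +kernel
theorem zx19 : matF (fun a : ℕ => (a : ZMod 2)) (ixD Cfsg.Lie.chevG2) (look (XL.getD 3 (0, 0, [])).2.2) = Cfsg.Lie.chevG2.x (ZMod 2) 5 ((fun a : ℕ => (a : ZMod 2)) 1) := by decide +kernel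
theorem zk20 : allL (keepB P.n P.N) ns0 = true := by decide +kernel
theorem ze21 : extB ns0 ns 2 ws [] = true := by decide +kernel
theorem zn22 : P.netsB ns (mkDefs ws 2) = true := by decide +kernel

section
variable {G X : Type*} [Group G] [MulAction G X] {e : ℕ → X} {gs : List G}

theorem keep0 : allL (keepB P.n P.N) ns0 = true := zk20

theorem len {k} (c : Ctx P e gs ns0 [] k) : gs.length = 2 := c.len ze21

theorem ctx0 {k} (c : Ctx P e gs ns0 [] k) : Ctx P e (ext gs ws) ns D chk0 :=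
  c.ext rfl ze21 zn22

theorem ctx {k} (c : Ctx P e gs ns0 [] k) {H : Subgroup G} (hF : Faithful e P.n H) (hH : ∀ g ∈ gs, g ∈ H) :
    Ctx P e (ext gs ws) ns D chk :=
  (ctx0 c).withB hF (mem_of_mem_ext hH _)

theorem hX : ∀ x ∈ XL, matF (fun a : ℕ => (a : ZMod 2)) (ixD Cfsg.Lie.chevG2) (look x.2.2) = Cfsg.Lie.chevG2.x (ZMod 2) x.1 ((fun a : ℕ => (a : ZMod 2)) x.2.1) := by
  simp only [XL, List.forall_mem_cons]
  exact ⟨zx16, zx17, zx18, zx19, fun _ h => by cases h⟩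
noncomputable def gsM : List (GL Cfsg.Lie.chevG2.Idx (ZMod 2)) := cw.map (chW Cfsg.Lie.chevG2 (fun a : ℕ => (a : ZMod 2)) XL)
theorem base : Ctx P (vecOf (fun a : ℕ => (a : ZMod 2)) (ixD Cfsg.Lie.chevG2) (tabP 2).q P.N V) gsM ns0 [] chk0 :=
  ctx_chev (d := 14) (k := 1) (ws := cw) (by simp) (fc_zmod 2) hP rfl zv14 hX rfl (by decide) zv15

theorem hle (l : List (List ℕ)) : subW gsM l ≤ (Cfsg.Lie.chevG2.group (ZMod 2)) :=
  subW_le_of_forall (chW_mem_group (by simp) XL cw) l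
theorem hc : Nat.card (Cfsg.Lie.chevG2.group (ZMod 2)) = 12096 := (Cfsg.Agent.S1059.result (F := (ZMod 2)) (q := 2) (ZMod.card _)).trans (by norm_num)

end
end CL.Std.G22.M

namespace CL.Std.G22
open CL.PG

def P : Par := ⟨63, 64, 6, 3⟩
theorem hP : P.Ok := by decide
noncomputable def a0 : Net := (.cons 32 (nat_lit 0x80000000)
 (.cons 16 (nat_lit 0x9e6100007f80)
 (.cons 8 (nat_lit 0x66006600800080)
 (.cons 4 (nat_lit 0x60e060e010d0206)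
 (.cons 2 (nat_lit 0x2222003033201322)
 (.cons 1 (nat_lit 0x4414005044001144)
 (.cons 2 (nat_lit 0x2222000002000022)
 (.cons 4 (nat_lit 0x8000808080800)
 (.cons 8 (nat_lit 0x800080)
 (.cons 32 (nat_lit 0x80000000)
 .nil))))))))))
noncomputable def a1 : Net := (.cons 32 (nat_lit 0x80000000)
 (.cons 16 (nat_lit 0x7fff00008000)
 (.cons 8 (nat_lit 0x80007f007f0080)
 (.cons 4 (nat_lit 0x708080708080708)
 (.cons 2 (nat_lit 0x1221211222220131)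
 (.cons 1 (nat_lit 0x5500111141140101)
 (.cons 2 (nat_lit 0x22220200)
 (.cons 4 (nat_lit 0x808080808080808)
 (.cons 8 (nat_lit 0x800080008000f8)
 (.cons 16 (nat_lit 0x800000008000)
 (.cons 32 (nat_lit 0xffff8000)
 .nil)))))))))))
noncomputable def a2 : Net := (.cons 32 (nat_lit 0x80000000)
 (.cons 16 (nat_lit 0x85f000008000)
 (.cons 8 (nat_lit 0x70007007f0080)
 (.cons 4 (nat_lit 0xc010e0107070b08)
 (.cons 2 (nat_lit 0x1131223210321232)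
 (.cons 1 (nat_lit 0x4400415041050504)
 (.cons 2 (nat_lit 0x2200220000000002)
 (.cons 4 (nat_lit 0x808080e02040e)
 (.cons 8 (nat_lit 0xf800f800800080)
 (.cons 16 (nat_lit 0x66640000ff80)
 (.cons 32 (nat_lit 0x80000000)
 .nil)))))))))))
noncomputable def a3 : Net := (.cons 32 (nat_lit 0x80000000)
 (.cons 16 (nat_lit 0x9e6100007f80)
 (.cons 8 (nat_lit 0x66006600800080)
 (.cons 4 (nat_lit 0x60e060e010d0206)
 (.cons 2 (nat_lit 0x2222003033201322)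
 (.cons 1 (nat_lit 0x4414005044001144)
 (.cons 2 (nat_lit 0x2222000002000022)
 (.cons 4 (nat_lit 0x8000808080800)
 (.cons 8 (nat_lit 0x800080)
 (.cons 32 (nat_lit 0x80000000)
 .nil))))))))))
noncomputable def a4 : Net := (.cons 32 (nat_lit 0x80000000)
 (.cons 16 (nat_lit 0x800000008000)
 (.cons 8 (nat_lit 0x80007f007f0080)
 (.cons 4 (nat_lit 0x707080808080808)
 (.cons 2 (nat_lit 0x3300333333330110)
 (.cons 1 (nat_lit 0x505500550050110)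
 (.cons 2 (nat_lit 0x220)
 (.cons 4 (nat_lit 0x808080808080808)
 (.cons 8 (nat_lit 0x80008000800080)
 (.cons 16 (nat_lit 0x800000008000)
 (.cons 32 (nat_lit 0x80000000)
 .nil)))))))))))
noncomputable def a5 : Net := (.cons 32 (nat_lit 0x80000000)
 (.cons 16 (nat_lit 0x800000008000)
 (.cons 8 (nat_lit 0x7f0080007d0080)
 (.cons 4 (nat_lit 0x707080808080808)
 (.cons 2 (nat_lit 0x330030303033230)
 (.cons 1 (nat_lit 0x5555005550500100)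
 (.cons 2 (nat_lit 0x200)
 (.cons 4 (nat_lit 0x808080808080808)
 (.cons 8 (nat_lit 0x80008000000080)
 (.cons 16 (nat_lit 0x800000008000)
 (.cons 32 (nat_lit 0x80000000)
 .nil)))))))))))
noncomputable def a6 : Net := (.cons 32 (nat_lit 0x80000000)
 (.cons 16 (nat_lit 0x800800008000)
 (.cons 8 (nat_lit 0x88008800880000)
 (.cons 4 (nat_lit 0xf0f0f0f0f0f0000)
 (.cons 2 (nat_lit 0x2220)
 (.cons 1 (nat_lit 0x4440)
 (.cons 2 (nat_lit 0x2220)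
 (.cons 16 (nat_lit 0x8000)
 (.cons 32 (nat_lit 0x80000000)
 .nil)))))))))
noncomputable def a7 : Net := (.cons 32 (nat_lit 0x80000000)
 (.cons 16 (nat_lit 0x800000008000)
 (.cons 8 (nat_lit 0x77006f00800080)
 (.cons 4 (nat_lit 0x707070707070a00)
 (.cons 2 (nat_lit 0x3030030303031100)
 (.cons 1 (nat_lit 0x5050050555004400)
 (.cons 2 (nat_lit 0x2200)
 (.cons 4 (nat_lit 0x808080808080000)
 (.cons 8 (nat_lit 0x800080)
 (.cons 16 (nat_lit 0x800000008000)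
 (.cons 32 (nat_lit 0x80000000)
 .nil)))))))))))
noncomputable def ns0 : List Net := [a0, a1]
noncomputable def ws : List (List ℕ) :=
  [W (nat_lit 0x10100200804004040100400804),
  W (nat_lit 0x200c02010020080300804),
  W (nat_lit 0x1807),
  W (nat_lit 0x502006),
  W (nat_lit 0x70180801405),
  W (nat_lit 0xd0280c)]
noncomputable def ns : List Net := [a0, a1, a2, a3, a4, a5, a6, a7]
noncomputable def D : List (ℕ × List ℕ) := app [] (mkDefs ws 2)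
noncomputable def chk : List (List ℕ × List ℕ) → Bool := P.relsB ns
noncomputable def G_v0 : Lev :=
  ⟨0, 63, sg (W (nat_lit 0x300c030040300c0100c03004030040300403)), [[4], [6]], 0, 2⟩
noncomputable def G_v1 : Lev :=
  ⟨1, 6, sg (W (nat_lit 0x50140501405)), [[8], [10], [12]], 2, 3⟩
noncomputable def G_v2 : Lev :=
  ⟨3, 4, sg (W (nat_lit 0x902409)), [[14], [13]], 5, 1⟩
noncomputable def G_v3 : Lev :=
  ⟨5, 2, sg [13], [[14]], 6, 0⟩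
noncomputable def G_v4 : Lev :=
  ⟨7, 4, sg (W (nat_lit 0xf03c0f)), [], 6, 0⟩
noncomputable def G_vs5 : List Lev :=
  []
noncomputable def G_vs4 : List Lev :=
  G_v4 :: G_vs5
noncomputable def G_vs3 : List Lev :=
  G_v3 :: G_vs4
noncomputable def G_vs2 : List Lev :=
  G_v2 :: G_vs3
noncomputable def G_vs1 : List Lev :=
  G_v1 :: G_vs2
noncomputable def G_vs : List Lev :=
  G_v0 :: G_vs1
noncomputable def zE1 : Net :=
  .nil
noncomputable def zK2 : Lk :=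
  ⟨zE1, 1, 3, 1⟩

theorem zc0 : P.chainB ns D G_vs [[0], [2]] = true := by decide +kernel
theorem zl3 : zK2.relB CL.Std.G22.M.P CL.Std.G22.P CL.Std.G22.M.ns0 [[0], [2]] [[0], [2]] = true := by decide +kernel
theorem zl4 : allL (zK2.pl CL.Std.G22.M.P CL.Std.G22.P CL.Std.G22.M.ns0 CL.Std.G22.ns 0) (zp [] [[0], [2]] [[0], [2]]) = true := by decide +kernel
theorem zk5 : allL (keepB P.n P.N) ns0 = true := by decide +kernel
theorem ze6 : extB ns0 ns 2 ws [] = true := by decide +kernel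
theorem zn7 : P.netsB ns (mkDefs ws 2) = true := by decide +kernel

section
variable {G X : Type*} [Group G] [MulAction G X] {e : ℕ → X} {gs : List G}

theorem keep0 : allL (keepB P.n P.N) ns0 = true := zk5

theorem len {k} (c : Ctx P e gs ns0 [] k) : gs.length = 2 := c.len ze6

theorem ctx0 {k} (c : Ctx P e gs ns0 [] k) : Ctx P e (ext gs ws) ns D chk0 :=
  c.ext rfl ze6 zn7

theorem ctx {k} (c : Ctx P e gs ns0 [] k) {H : Subgroup G} (hF : Faithful e P.n H) (hH : ∀ g ∈ gs, g ∈ H) :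
    Ctx P e (ext gs ws) ns D chk :=
  (ctx0 c).withB hF (mem_of_mem_ext hH _)

instance instNe : NeZero P.n := ⟨by decide⟩
noncomputable def gs0 : List (Equiv.Perm (Fin P.n)) := permsOf P.n P.N ns0
noncomputable def gs1 : List (Equiv.Perm (Fin P.n)) := ext gs0 ws
theorem c1 : Ctx P (eF P.n) gs1 ns D chk :=
  ctx (ctx_permsOf hP keep0) (faithful_eF _) fun _ _ => trivial

theorem G_c : P.chainB ns D G_vs [[0], [2]] = true :=
  zc0

theorem G_o : prodL G_vs 1 = 12096 := by decide +kernel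

theorem G_lb (c : Ctx P e gs ns D chk) :
    LB (subW gs [[0], [2]]) 12096 :=
  c.lb G_c G_o

theorem rel {Γ Y : Type*} [Group Γ] [MulAction Γ Y] {e' : ℕ → Y} {cs : List Γ} {D₁ D₂ : List (ℕ × List ℕ)}
    {k₁ k₂ : List (List ℕ × List ℕ) → Bool} (c : Ctx CL.Std.G22.M.P e gs CL.Std.G22.M.ns0 D₁ k₁) (c' : Ctx CL.Std.G22.P e' cs CL.Std.G22.ns D₂ k₂)
    (hF : Faithful e' CL.Std.G22.P.n (subW cs [[0], [2]])) :
    RelLe gs [[0], [2]] cs [[0], [2]] :=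
  c.relLe (K := zK2) c' hF zl3 (fun (t : ℕ) (ht : t < 1) => match t, ht with
    | 0, _ => zl4
    | t + 1, h => absurd h (by omega))

theorem iso0 : subW M.gsM [[0], [2]] = (Cfsg.Lie.chevG2.group (ZMod 2)) ∧ RelLe gs1 [[0], [2]] M.gsM [[0], [2]] ∧ Nat.card (subW gs1 [[0], [2]]) = 12096 ∧ Nonempty ((subW gs1 [[0], [2]]) ≃* (Cfsg.Lie.chevG2.group (ZMod 2))) :=
  (rel M.base c1 ((faithful_eF _).mono le_top)).iso_of_le (M.hle _) M.hc (by norm_num) (G_lb c1)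
theorem card : Nat.card (subW gs1 [[0], [2]]) = 12096 := iso0.2.2.1
theorem ub : UB (subW gs1 [[0], [2]]) 12096 := UB.of_card card (by norm_num)

theorem iso {F : Type*} [Field F] [Fintype F] (hF : Fintype.card F = 2) : Nonempty ((subW gs1 [[0], [2]]) ≃* Cfsg.Lie.chevG2.group F) :=
  ⟨iso0.2.2.2.some.trans (chev_congr _ ((ZMod.card _).trans hF.symm)).some⟩

end
end CL.Std.G22

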