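/-
The derived subgroup of a small group of Lie type.
Generated by tools/pg.
-/
import Cfsg.Agent.Spor.PGCtx
import Cfsg.Agent.Spor.PGPrim
import Cfsg.Agent.Spor.PGSub
import Cfsg.Agent.Spor.StdG22
import Cfsg.Agent.Spor.StdU33

set_option autoImplicit false
set_option maxRecDepth 200000
set_option Elab.async false
set_option linter.unusedVariables false

namespace CL.Std.G22.Aux.T
open CL.PG

def P : Par := ⟨63, 64, 6, 3⟩
theorem hP : P.Ok := by decide
noncomputable def a0 : Net := (.cons 32 (nat_lit 0x200b4f39)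
 (.cons 16 (nat_lit 0x4dc000045d4)
 (.cons 8 (nat_lit 0xe100b5006600c9)
 (.cons 4 (nat_lit 0x10d0f02020f0108)
 (.cons 2 (nat_lit 0x3220131031312301)
 (.cons 1 (nat_lit 0x1401144514005011)
 (.cons 2 (nat_lit 0x202022000020)
 (.cons 4 (nat_lit 0x20a08080200000c)
 (.cons 8 (nat_lit 0xa4007c00920066)
 (.cons 16 (nat_lit 0x30820000ad2e)
 (.cons 32 (nat_lit 0x624b2536)
 .nil)))))))))))
noncomputable def a1 : Net := (.cons 32 (nat_lit 0xea323020)
 (.cons 16 (nat_lit 0x67730000c1bb)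
 (.cons 8 (nat_lit 0x3b00e200f70030)
 (.cons 4 (nat_lit 0x30608060f090609)
 (.cons 2 (nat_lit 0x301201020033021)
 (.cons 1 (nat_lit 0x411511445114410)
 (.cons 2 (nat_lit 0x2020020222020)
 (.cons 4 (nat_lit 0x8000006000a0404)
 (.cons 8 (nat_lit 0xbc00a400920030)
 (.cons 16 (nat_lit 0x924c0000ee4a)
 (.cons 32 (nat_lit 0xdeeb0520)
 .nil)))))))))))
noncomputable def a2 : Net := (.cons 32 (nat_lit 0x9b44942e)
 (.cons 16 (nat_lit 0xdd310000ba04)
 (.cons 8 (nat_lit 0x1c009500ad00ce)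
 (.cons 4 (nat_lit 0x907020c0e0a0a02)
 (.cons 2 (nat_lit 0x1310120102303202)
 (.cons 1 (nat_lit 0x5404541544104004)
 (.cons 2 (nat_lit 0x2202002)
 (.cons 4 (nat_lit 0x60c040c08040604)
 (.cons 8 (nat_lit 0x9c00da000800d4)
 (.cons 16 (nat_lit 0xcc000000a3e8)
 (.cons 32 (nat_lit 0xb0edfa24)
 .nil)))))))))))
noncomputable def a3 : Net := (.cons 32 (nat_lit 0x967257a2)
 (.cons 16 (nat_lit 0x99a4000027cc)
 (.cons 8 (nat_lit 0xe00035001c0070)
 (.cons 4 (nat_lit 0x30b0a04000b0d08)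
 (.cons 2 (nat_lit 0x3212233112123002)
 (.cons 1 (nat_lit 0x145144114015444)
 (.cons 2 (nat_lit 0x200220000000200)
 (.cons 4 (nat_lit 0xa0c020800020c04)
 (.cons 8 (nat_lit 0xe00084001e003c)
 (.cons 16 (nat_lit 0x90a400000c02)
 (.cons 32 (nat_lit 0xad06573a)
 .nil)))))))))))
noncomputable def a4 : Net := (.cons 32 (nat_lit 0xfe6d83a4)
 (.cons 16 (nat_lit 0xfc0600009672)
 (.cons 8 (nat_lit 0xec00c7004d0036)
 (.cons 4 (nat_lit 0xb060b0c0b000d00)
 (.cons 2 (nat_lit 0x3323113023023300)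
 (.cons 1 (nat_lit 0x5401141104414414)
 (.cons 2 (nat_lit 0x2020200220202)
 (.cons 4 (nat_lit 0x20a0e060c04080a)
 (.cons 8 (nat_lit 0x30002800b00040)
 (.cons 16 (nat_lit 0xf0c000009dde)
 (.cons 32 (nat_lit 0xc58352ac)
 .nil)))))))))))
noncomputable def a5 : Net := (.cons 32 (nat_lit 0xaf19e040)
 (.cons 16 (nat_lit 0xb3420000ead2)
 (.cons 8 (nat_lit 0x600ae00d90040)
 (.cons 4 (nat_lit 0xa0d0808000a0f00)
 (.cons 2 (nat_lit 0x233330322101102)
 (.cons 1 (nat_lit 0x1441054414414044)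
 (.cons 2 (nat_lit 0x20000222002002)
 (.cons 4 (nat_lit 0xe0c0008040a0804)
 (.cons 8 (nat_lit 0x6000c200400006)
 (.cons 16 (nat_lit 0x51980000b462)
 (.cons 32 (nat_lit 0xbb19aed0)
 .nil)))))))))))
noncomputable def ns0 : List Net := [a0, a1]
noncomputable def ws : List (List ℕ) :=
  [W (nat_lit 0x804010020100200802),
  W (nat_lit 0xc03008030040100403),
  W (nat_lit 0x1c0701c05),
  W (nat_lit 0x70180701408)]
noncomputable def ns : List Net := [a0, a1, a2, a3, a4, a5]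
noncomputable def D : List (ℕ × List ℕ) := app [] (mkDefs ws 2)
noncomputable def chk : List (List ℕ × List ℕ) → Bool := P.relsB ns
noncomputable def G_v0 : Lev :=
  ⟨0, 63, sg (W (nat_lit 0x40300c0100c0100c0100c01)), [[4], [6]], 0, 2⟩
noncomputable def G_v1 : Lev :=
  ⟨1, 6, sg (W (nat_lit 0x50140701405)), [[8], [10]], 2, 2⟩
noncomputable def G_v2 : Lev :=
  ⟨3, 4, sg (W (nat_lit 0x902409)), [[10]], 4, 0⟩
noncomputable def G_v3 : Lev :=
  ⟨2, 4, sg (W (nat_lit 0xb02c0b)), [], 4, 0⟩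
noncomputable def G_vs4 : List Lev :=
  []
noncomputable def G_vs3 : List Lev :=
  G_v3 :: G_vs4
noncomputable def G_vs2 : List Lev :=
  G_v2 :: G_vs3
noncomputable def G_vs1 : List Lev :=
  G_v1 :: G_vs2
noncomputable def G_vs : List Lev :=
  G_v0 :: G_vs1

theorem zc0 : P.chainB ns D G_vs [[0], [2]] = true := by decide +kernel
theorem zk1 : allL (keepB P.n P.N) ns0 = true := by decide +kernel
theorem ze2 : extB ns0 ns 2 ws [] = true := by decide +kernel
theorem zn3 : P.netsB ns (mkDefs ws 2) = true := by decide +kernel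

section
variable {G X : Type*} [Group G] [MulAction G X] {e : ℕ → X} {gs : List G}

theorem keep0 : allL (keepB P.n P.N) ns0 = true := zk1

theorem len {k} (c : Ctx P e gs ns0 [] k) : gs.length = 2 := c.len ze2

theorem ctx0 {k} (c : Ctx P e gs ns0 [] k) : Ctx P e (ext gs ws) ns D chk0 :=
  c.ext rfl ze2 zn3

theorem ctx {k} (c : Ctx P e gs ns0 [] k) {H : Subgroup G} (hF : Faithful e P.n H) (hH : ∀ g ∈ gs, g ∈ H) :
    Ctx P e (ext gs ws) ns D chk :=
  (ctx0 c).withB hF (mem_of_mem_ext hH _)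

instance instNe : NeZero P.n := ⟨by decide⟩
noncomputable def gs0 : List (Equiv.Perm (Fin P.n)) := permsOf P.n P.N ns0
noncomputable def gs1 : List (Equiv.Perm (Fin P.n)) := ext gs0 ws
theorem c1 : Ctx P (eF P.n) gs1 ns D chk :=
  ctx (ctx_permsOf hP keep0) (faithful_eF _) fun _ _ => trivial

theorem G_c : P.chainB ns D G_vs [[0], [2]] = true :=
  zc0

theorem G_o : prodL G_vs 1 = 6048 := by decide +kernel

theorem G_lb (c : Ctx P e gs ns D chk) :
    LB (subW gs [[0], [2]]) 6048 :=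
  c.lb G_c G_o

end
end CL.Std.G22.Aux.T

namespace CL.Std.G22.Aux.S
open CL.PG

def P : Par := ⟨91, 96, 7, 3⟩
theorem hP : P.Ok := by decide
noncomputable def a0 : Net := (.cons 48 (nat_lit 0xdcdbc9f10360)
 (.cons 24 (nat_lit 0x6a50eb0000007a6bd9)
 (.cons 12 (nat_lit 0x64e00050700016b000ee0)
 (.cons 6 (nat_lit 0x302703403902303a02901c)
 (.cons 3 (nat_lit 0xc5187186142180143004141)
 (.cons 1 (nat_lit 0x208201001001240041001009)
 (.cons 1 (nat_lit 0x410412002482480082402412)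
 (.cons 1 (nat_lit 0x41008041208008009200008)
 (.cons 3 (nat_lit 0x100000080000002082086100)
 (.cons 6 (nat_lit 0x2000c01200803c012018034)
 (.cons 12 (nat_lit 0x3200009c0000512000c94)
 (.cons 24 (nat_lit 0xa58d4600000059b57e)
 (.cons 48 (nat_lit 0xde2ef6b25814)
 .nil)))))))))))))
noncomputable def a1 : Net := (.cons 48 (nat_lit 0x6cf9efe5daa8)
 (.cons 24 (nat_lit 0x2e1829000000791048)
 (.cons 12 (nat_lit 0x72f0003bd00024f000048)
 (.cons 6 (nat_lit 0x9004020006002018020009)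
 (.cons 3 (nat_lit 0x5181000043181081006143)
 (.cons 1 (nat_lit 0x41008048048041001040201)
 (.cons 1 (nat_lit 0x92410490490482402082492)
 (.cons 1 (nat_lit 0x8241209048000249040209)
 (.cons 3 (nat_lit 0x82000002100006106100104)
 (.cons 6 (nat_lit 0x1000c00002e00402c020018)
 (.cons 12 (nat_lit 0x794000d08000cd6000944)
 (.cons 24 (nat_lit 0x2de230000000ecb404)
 (.cons 48 (nat_lit 0x6dfd7bcaaae0)
 .nil)))))))))))))
noncomputable def a2 : Net := (.cons 48 (nat_lit 0x2c92d4379f8e)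
 (.cons 24 (nat_lit 0x4865cf000000f4605e)
 (.cons 12 (nat_lit 0x441000465000999000144)
 (.cons 6 (nat_lit 0x3303602201700d00b022034)
 (.cons 3 (nat_lit 0x51460050c0085004184084)
 (.cons 1 (nat_lit 0x40040008040201001200)
 (.cons 1 (nat_lit 0x410080490090082492012410)
 (.cons 1 (nat_lit 0x8001049248240201041008)
 (.cons 3 (nat_lit 0x6102084100084000004000)
 (.cons 6 (nat_lit 0x20012024036026022000014)
 (.cons 12 (nat_lit 0x2c400044c00099e0000f4)
 (.cons 24 (nat_lit 0x498f48000000254c96)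
 (.cons 48 (nat_lit 0x2cb0fc38b3c2)
 .nil)))))))))))))
noncomputable def a3 : Net := (.cons 48 (nat_lit 0x73d20b008802)
 (.cons 24 (nat_lit 0x7e57fb000000dde520)
 (.cons 12 (nat_lit 0xe0200033b0008d0000cfe)
 (.cons 6 (nat_lit 0x3201e00801f035012019024)
 (.cons 3 (nat_lit 0x1431040440830871c4007046)
 (.cons 1 (nat_lit 0x201041249000048200008)
 (.cons 1 (nat_lit 0x490412092492402492402090)
 (.cons 1 (nat_lit 0x209248049201041048240000)
 (.cons 3 (nat_lit 0x4182000002102186000006)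
 (.cons 6 (nat_lit 0x2010008022004030008004)
 (.cons 12 (nat_lit 0xd76000d460001c40004dc)
 (.cons 24 (nat_lit 0x6dd85800000055215c)
 (.cons 48 (nat_lit 0x7141a1597098)
 .nil)))))))))))))
noncomputable def a4 : Net := (.cons 48 (nat_lit 0x9577b7adeb18)
 (.cons 24 (nat_lit 0x80169700000074ed84)
 (.cons 12 (nat_lit 0x828000ee100020600070e)
 (.cons 6 (nat_lit 0x401c00d00901f026024012)
 (.cons 3 (nat_lit 0x1051800430811c0041006)
 (.cons 1 (nat_lit 0x40009208001041200049000)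
 (.cons 1 (nat_lit 0x82012490482092400492412)
 (.cons 1 (nat_lit 0x48009200208249001049008)
 (.cons 3 (nat_lit 0x2000106084084082180002)
 (.cons 6 (nat_lit 0x28000020000000024020)
 (.cons 12 (nat_lit 0x93c000970000050000f2a)
 (.cons 24 (nat_lit 0x8312260000007e56a8)
 (.cons 48 (nat_lit 0x95579affc380)
 .nil)))))))))))))
noncomputable def a5 : Net := (.cons 48 (nat_lit 0x4a8d10b07c60)
 (.cons 24 (nat_lit 0x9b0c040000000107a4)
 (.cons 12 (nat_lit 0xc4d000abe0001e0000068)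
 (.cons 6 (nat_lit 0x1803402203b00701c02500c)
 (.cons 3 (nat_lit 0x146105006101005105184186)
 (.cons 1 (nat_lit 0x40008009040040049000208)
 (.cons 1 (nat_lit 0x490090412082090092482412)
 (.cons 1 (nat_lit 0x41248208008041041001008)
 (.cons 3 (nat_lit 0x2000080002002002004006)
 (.cons 6 (nat_lit 0xa00802002800003800203c)
 (.cons 12 (nat_lit 0x8e0000c040000a4000d4c)
 (.cons 24 (nat_lit 0x9a1218000000913a84)
 (.cons 48 (nat_lit 0x4812d52126a4)
 .nil)))))))))))))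
noncomputable def a6 : Net := (.cons 48 (nat_lit 0xd8268095ec1c)
 (.cons 24 (nat_lit 0x42b12000000adc1aa)
 (.cons 12 (nat_lit 0x124000fa200014e0008a4)
 (.cons 6 (nat_lit 0x2f01901900001f00201e00e)
 (.cons 3 (nat_lit 0x42046001001100081184004)
 (.cons 1 (nat_lit 0x41001040000040208040048)
 (.cons 1 (nat_lit 0x92012090480082412092090)
 (.cons 1 (nat_lit 0x1201041008001049240008)
 (.cons 3 (nat_lit 0x86002004000084000080004)
 (.cons 6 (nat_lit 0x2c00803802801000802e00e)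
 (.cons 12 (nat_lit 0x4420000220009b8000ee0)
 (.cons 24 (nat_lit 0x5a9b28000000a85d24)
 (.cons 48 (nat_lit 0xd880d2996c3c)
 .nil)))))))))))))
noncomputable def a7 : Net := (.cons 48 (nat_lit 0x4812d52126a4)
 (.cons 24 (nat_lit 0x9a1218000000817ac4)
 (.cons 12 (nat_lit 0x15b000c040001de000c8c)
 (.cons 6 (nat_lit 0x1002d03001700303c01601c)
 (.cons 3 (nat_lit 0x7147083140004046100102)
 (.cons 1 (nat_lit 0x40009201000000201001048)
 (.cons 1 (nat_lit 0x82092412402080412092492)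
 (.cons 1 (nat_lit 0x1208009041040009001208)
 (.cons 3 (nat_lit 0x102002000184000104106186)
 (.cons 6 (nat_lit 0x400602000400001c030014)
 (.cons 12 (nat_lit 0x892000abe0000bc000428)
 (.cons 24 (nat_lit 0x9b0c04000000011da4)
 (.cons 48 (nat_lit 0x4a8d10b07c60)
 .nil)))))))))))))
noncomputable def ns0 : List Net := [a0, a1]
noncomputable def ws : List (List ℕ) :=
  [W (nat_lit 0xc02008040100100404),
  W (nat_lit 0xc0201004010040040100404),
  W (nat_lit 0x701408),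
  W (nat_lit 0x50140502006),
  W (nat_lit 0x2006018070180602006),
  W (nat_lit 0x501c05)]
noncomputable def ns : List Net := [a0, a1, a2, a3, a4, a5, a6, a7]
noncomputable def D : List (ℕ × List ℕ) := app [] (mkDefs ws 2)
noncomputable def chk : List (List ℕ × List ℕ) → Bool := P.relsB ns
noncomputable def zt0 : List ℕ :=
  []
noncomputable def zcj1 : List (List ℕ) :=
  []
noncomputable def zt4 : List ℕ :=
  []
noncomputable def zcj5 : List (List ℕ) :=
  [[10]]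
noncomputable def zus8 : List (List ℕ) :=
  [[4],
  [5],
  [6],
  W (nat_lit 0x1405),
  W (nat_lit 0x140a)]
noncomputable def zF9 : List (List (ℕ × List ℕ)) :=
  [[(1, []),
   (4, []),
   (0, []),
   (3, [8]),
   (2, []),
   (5, [11])],
  [(3, []),
   (2, [11]),
   (1, [8]),
   (0, W (nat_lit 0x3009)),
   (5, [8]),
   (4, [11])]]
noncomputable def zrs12 : List (ℕ × List ℕ) :=
  [(1, [0]),
  (2, W (nat_lit 0x80700401)),
  (3, W (nat_lit 0x401))]
noncomputable def G_v0 : Lev :=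
  ⟨0, 63, sg (W (nat_lit 0x40300c0100c0100c0100c01)), [[4], [6]], 0, 2⟩
noncomputable def G_v1 : Lev :=
  ⟨1, 6, sg (W (nat_lit 0x1c0501c05)), [[8], [10]], 2, 2⟩
noncomputable def G_v2 : Lev :=
  ⟨3, 4, sg (W (nat_lit 0x902409)), [[10]], 4, 0⟩
noncomputable def G_v3 : Lev :=
  ⟨2, 4, sg (W (nat_lit 0xb02c0b)), [], 4, 0⟩
noncomputable def G_vs4 : List Lev :=
  []
noncomputable def G_vs3 : List Lev :=
  G_v3 :: G_vs4
noncomputable def G_vs2 : List Lev :=
  G_v2 :: G_vs3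
noncomputable def G_vs1 : List Lev :=
  G_v1 :: G_vs2
noncomputable def G_vs : List Lev :=
  G_v0 :: G_vs1
noncomputable def zcj14 : List (List ℕ) :=
  [W (nat_lit 0xc02406),
  W (nat_lit 0x3009)]
noncomputable def G_w0_2_v0 : Lev :=
  ⟨2, 32, sg (W (nat_lit 0x501c0501c0501c05)), [[12]], 4, 1⟩
noncomputable def G_w0_2_v1 : Lev :=
  ⟨1, 3, sg (W (nat_lit 0x340d)), [], 5, 0⟩
noncomputable def G_w0_2_vs2 : List Lev :=
  []
noncomputable def G_w0_2_vs1 : List Lev :=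
  G_w0_2_v1 :: G_w0_2_vs2
noncomputable def G_w0_2_vs : List Lev :=
  G_w0_2_v0 :: G_w0_2_vs1
noncomputable def zcj18 : List (List ℕ) :=
  [W (nat_lit 0x2c0b02807)]
noncomputable def G_w0_3_v0 : Lev :=
  ⟨3, 24, sg (W (nat_lit 0x1c0501c0501c0501c0501c05)), [[14]], 5, 1⟩
noncomputable def G_w0_3_v1 : Lev :=
  ⟨2, 4, sg (W (nat_lit 0xf03c0f)), [], 6, 0⟩
noncomputable def G_w0_3_vs2 : List Lev :=
  []
noncomputable def G_w0_3_vs1 : List Lev :=
  G_w0_3_v1 :: G_w0_3_vs2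
noncomputable def G_w0_3_vs : List Lev :=
  G_w0_3_v0 :: G_w0_3_vs1
noncomputable def zcj22 : List (List ℕ) :=
  [[4]]
noncomputable def zB25 : List BG :=
  [⟨[1], [([8], W (nat_lit 0xc02406)), ([10], W (nat_lit 0x3009))],
  [([⟨[], W (nat_lit 0x140a), 1, W (nat_lit 0x140a)⟩], []),
   ([⟨[], [], 0, []⟩,
    ⟨[4], W (nat_lit 0x601c0c), 3, W (nat_lit 0xc02405)⟩,
    ⟨W (nat_lit 0x1405), [6], 1, W (nat_lit 0x240901405)⟩], W (nat_lit 0x100401)),
   ([⟨[], W (nat_lit 0x2409), 3, W (nat_lit 0x300a0140a)⟩,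
    ⟨[5], [7], 2, W (nat_lit 0x24090140a)⟩], W (nat_lit 0x8010080100801)),
   ([⟨[], [], 1, []⟩,
    ⟨[4], W (nat_lit 0x1405), 2, W (nat_lit 0xb02c06)⟩,
    ⟨W (nat_lit 0x1405), W (nat_lit 0x140b), 3, W (nat_lit 0xb02c0902405)⟩], W (nat_lit 0x8010080100801))]⟩]
noncomputable def zE26 : List (ℕ × List ℕ) :=
  [(2, W (nat_lit 0x2c070080700401))]
noncomputable def zE31 : Net :=
  .nil
noncomputable def zK32 : Lk :=
  ⟨zE31, 1, 3, 1⟩
noncomputable def zE35 : Net :=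
  (.cons 48 (nat_lit 0xffffffff8000)
 (.cons 24 (nat_lit 0xfffff000000007fff)
 (.cons 12 (nat_lit 0xf00000f00000ff8000ff8)
 (.cons 6 (nat_lit 0x3c03c03c03c03c037007007)
 (.cons 3 (nat_lit 0xc30c30c30c30c30011c71c7)
 (.cons 1 (nat_lit 0x492492492492492080000000)
 (.cons 1 (nat_lit 0x249249249249249040000000)
 (.cons 3 (nat_lit 0x180000000)
 (.cons 6 (nat_lit 0x36000000)
 (.cons 12 (nat_lit 0xf80000000)
 (.cons 48 (nat_lit 0xf80000000000)
 .nil)))))))))))
noncomputable def zK36 : Lk :=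
  ⟨zE35, 1, 3, 1⟩

theorem zb2 : bnd (pcB D [] 4 zt0 zcj1) (leB (app D []) [[10]] ([10] :: [])) = true := by decide +kernel
theorem zr3 : chk (pcR [] [10] 4 zt0 zcj1) = true := by decide +kernel
theorem zb6 : bnd (pcB D [[10]] 4 zt4 zcj5) (leB (app D []) [[8], [10]] ([8] :: [[10]])) = true := by decide +kernel
theorem zr7 : chk (pcR [[10]] [8] 4 zt4 zcj5) = true := by decide +kernel
theorem zb10 : schB D [[4], [6]] [[8], [10]] zus8 zF9 6 = true := by decide +kernel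
theorem zr11 : chk (schR [[4], [6]] zus8 zF9) = true := by decide +kernel
theorem zc13 : P.chainB ns D G_vs [[0], [2]] = true := by decide +kernel
theorem zb15 : wdB D [[4], [6]] G_v1.nx zcj14 = true := by decide +kernel
theorem zr16 : chk (wdR G_v1.nx [0] zcj14) = true := by decide +kernel
theorem zc17 : P.chainB ns D G_w0_2_vs [[4], [6]] = true := by decide +kernel
theorem zb19 : wdB D [[4], [6]] G_w0_2_v0.nx zcj18 = true := by decide +kernel
theorem zr20 : chk (wdR G_w0_2_v0.nx (W (nat_lit 0x80700401)) zcj18) = true := by decide +kernel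
theorem zc21 : P.chainB ns D G_w0_3_vs [[4], [6]] = true := by decide +kernel
theorem zb23 : wdB D [[4], [6]] G_w0_3_v0.nx zcj22 = true := by decide +kernel
theorem zr24 : chk (wdR G_w0_3_v0.nx (W (nat_lit 0x401)) zcj22) = true := by decide +kernel
theorem zb27 : bB P.n P.N ns (app D zE26) [[0], [2]] [[4], [6]] 0 zrs12 zB25 = true := by decide +kernel
theorem zb28 : P.invSz ns [[0], [2]] 0 (orbM P.N ns G_v0) 63 = true := by decide +kernel
theorem zr29 : chk (bR 0 zrs12 zB25) = true := by decide +kernel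
theorem zr30 : chk (defRels zE26) = true := by decide +kernel
theorem zl33 : zK32.relB CL.Std.G22.Aux.S.P CL.Std.G22.Aux.T.P CL.Std.G22.Aux.S.ns [[0], [2]] [[0], [2]] = true := by decide +kernel
theorem zl34 : allL (zK32.pl CL.Std.G22.Aux.S.P CL.Std.G22.Aux.T.P CL.Std.G22.Aux.S.ns CL.Std.G22.Aux.T.ns 0) (zp [] [[0], [2]] [[0], [2]]) = true := by decide +kernel
theorem zl37 : zK36.relB CL.Std.G22.Aux.S.P CL.Std.U33.P CL.Std.G22.Aux.S.ns [[0], [2]] [[0], [2]] = true := by decide +kernel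
theorem zl38 : allL (zK36.pl CL.Std.G22.Aux.S.P CL.Std.U33.P CL.Std.G22.Aux.S.ns CL.Std.U33.ns 0) (zp [] [[0], [2]] [[0], [2]]) = true := by decide +kernel
theorem zk39 : allL (keepB P.n P.N) ns0 = true := by decide +kernel
theorem ze40 : extB ns0 ns 2 ws [] = true := by decide +kernel
theorem zn41 : P.netsB ns (mkDefs ws 2) = true := by decide +kernel

section
variable {G X : Type*} [Group G] [MulAction G X] {e : ℕ → X} {gs : List G}

theorem keep0 : allL (keepB P.n P.N) ns0 = true := zk39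

theorem len {k} (c : Ctx P e gs ns0 [] k) : gs.length = 2 := c.len ze40

theorem ctx0 {k} (c : Ctx P e gs ns0 [] k) : Ctx P e (ext gs ws) ns D chk0 :=
  c.ext rfl ze40 zn41

theorem ctx {k} (c : Ctx P e gs ns0 [] k) {H : Subgroup G} (hF : Faithful e P.n H) (hH : ∀ g ∈ gs, g ∈ H) :
    Ctx P e (ext gs ws) ns D chk :=
  (ctx0 c).withB hF (mem_of_mem_ext hH _)

instance instNe : NeZero P.n := ⟨by decide⟩
noncomputable def gs0 : List (Equiv.Perm (Fin P.n)) := permsOf P.n P.N ns0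
noncomputable def gs1 : List (Equiv.Perm (Fin P.n)) := ext gs0 ws
theorem c1 : Ctx P (eF P.n) gs1 ns D chk :=
  ctx (ctx_permsOf hP keep0) (faithful_eF _) fun _ _ => trivial

theorem G_u3 (c : Ctx P e gs ns D chk) :
    UB (subW gs [[10]]) 4 :=
  (c.pc_step (UB.nil gs) (Rels.nil _)
    (c.rels _ zr3) zb2).le (by decide)

theorem G_u2 (c : Ctx P e gs ns D chk) :
    UB (subW gs [[8], [10]]) 16 :=
  (c.pc_step (G_u3 c) (Rels.nil _)
    (c.rels _ zr7) zb6).le (by decide)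

theorem G_u1 (c : Ctx P e gs ns D chk) :
    UB (subW gs [[4], [6]]) 96 :=
  (c.sch_step (G_u2 c)
    (c.rels _ zr11) zb10).le (by decide)

theorem G_c : P.chainB ns D G_vs [[0], [2]] = true :=
  zc13

theorem G_o : prodL G_vs 1 = 6048 := by decide +kernel

theorem G_w0_2_c : P.chainB ns D G_w0_2_vs [[4], [6]] = true :=
  zc17

theorem G_w0_2_o : prodL G_w0_2_vs 1 = 96 := by decide +kernel

theorem G_w0_3_c : P.chainB ns D G_w0_3_vs [[4], [6]] = true :=
  zc21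

theorem G_w0_3_o : prodL G_w0_3_vs 1 = 96 := by decide +kernel

theorem G_u0w (c : Ctx P e gs ns D chk) :
    AllWd e gs [[4], [6]] zrs12 :=
  ⟨c.wd (v := G_v1) (vs := G_vs2) (G_u1 c) (Par.chainB_tail G_c) (by decide +kernel)
      (c.rels _ zr16) zb15,
    ⟨c.wd (v := G_w0_2_v0) (vs := G_w0_2_vs1) (G_u1 c) G_w0_2_c G_w0_2_o
      (c.rels _ zr20) zb19,
    ⟨c.wd (v := G_w0_3_v0) (vs := G_w0_3_vs1) (G_u1 c) G_w0_3_c G_w0_3_o
      (c.rels _ zr24) zb23,
    trivial⟩⟩⟩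

theorem G_u0 (c : Ctx P e gs ns D chk) :
    UB (subW gs [[0], [2]]) 6048 :=
  (c.b_step (G_u1 c) (G_u0w c) (c.rels _ zr30)
    (c.rels _ zr29) zb27 zb28).le (by decide)

theorem G_ub (c : Ctx P e gs ns D chk) :
    UB (subW gs [[0], [2]]) 6048 :=
  (G_u0 c)

theorem toT {Γ Y : Type*} [Group Γ] [MulAction Γ Y] {e' : ℕ → Y} {cs : List Γ} {D₁ D₂ : List (ℕ × List ℕ)}
    {k₁ k₂ : List (List ℕ × List ℕ) → Bool} (c : Ctx CL.Std.G22.Aux.S.P e gs CL.Std.G22.Aux.S.ns D₁ k₁) (c' : Ctx CL.Std.G22.Aux.T.P e' cs CL.Std.G22.Aux.T.ns D₂ k₂)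
    (hF : Faithful e' CL.Std.G22.Aux.T.P.n (subW cs [[0], [2]])) :
    RelLe gs [[0], [2]] cs [[0], [2]] :=
  c.relLe (K := zK32) c' hF zl33 (fun (t : ℕ) (ht : t < 1) => match t, ht with
    | 0, _ => zl34
    | t + 1, h => absurd h (by omega))

theorem toB {Γ Y : Type*} [Group Γ] [MulAction Γ Y] {e' : ℕ → Y} {cs : List Γ} {D₁ D₂ : List (ℕ × List ℕ)}
    {k₁ k₂ : List (List ℕ × List ℕ) → Bool} (c : Ctx CL.Std.G22.Aux.S.P e gs CL.Std.G22.Aux.S.ns D₁ k₁) (c' : Ctx CL.Std.U33.P e' cs CL.Std.U33.ns D₂ k₂)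
    (hF : Faithful e' CL.Std.U33.P.n (subW cs [[0], [2]])) :
    RelLe gs [[0], [2]] cs [[0], [2]] :=
  c.relLe (K := zK36) c' hF zl37 (fun (t : ℕ) (ht : t < 1) => match t, ht with
    | 0, _ => zl38
    | t + 1, h => absurd h (by omega))

theorem rel {Γ Y : Type*} [Group Γ] [MulAction Γ Y] {e' : ℕ → Y} {cs : List Γ} {D₂ : List (ℕ × List ℕ)}
    {k₂ : List (List ℕ × List ℕ) → Bool} (c' : Ctx CL.Std.U33.P e' cs CL.Std.U33.ns D₂ k₂) (hF : Faithful e' CL.Std.U33.P.n (subW cs [[0], [2]])) :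
    RelLe CL.Std.G22.Aux.T.gs1 [[0], [2]] cs [[0], [2]] :=
  ((toT c1 CL.Std.G22.Aux.T.c1 ((faithful_eF _).mono le_top)).symm_of_card (G_ub c1) (CL.Std.G22.Aux.T.G_lb CL.Std.G22.Aux.T.c1)).trans (toB c1 c' hF)

end
end CL.Std.G22.Aux.S

namespace CL.Std.G22.Der
open CL.PG

noncomputable def da8 : Net := (.cons 32 (nat_lit 0x7f54a0eb)
 (.cons 16 (nat_lit 0x255e0000929e)
 (.cons 8 (nat_lit 0x2f005700b20096)
 (.cons 4 (nat_lit 0x208010105040109)
 (.cons 2 (nat_lit 0x1013021232303133)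
 (.cons 1 (nat_lit 0x1414545441055115)
 (.cons 2 (nat_lit 0x2020022000020)
 (.cons 4 (nat_lit 0x400060c0c0800)
 (.cons 8 (nat_lit 0x8006000c600b4)
 (.cons 16 (nat_lit 0x3132000057ee)
 (.cons 32 (nat_lit 0x145394c4)
 .nil)))))))))))
noncomputable def da9 : Net := (.cons 32 (nat_lit 0xb368ddee)
 (.cons 16 (nat_lit 0x371c000083a0)
 (.cons 8 (nat_lit 0x36003500c70083)
 (.cons 4 (nat_lit 0x8080105060d0d06)
 (.cons 2 (nat_lit 0x2023300123123330)
 (.cons 1 (nat_lit 0x1410114145111444)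
 (.cons 2 (nat_lit 0x2220220220022022)
 (.cons 4 (nat_lit 0xe000608000800)
 (.cons 8 (nat_lit 0xa400d8005800a4)
 (.cons 16 (nat_lit 0x8da00000ce8c)
 (.cons 32 (nat_lit 0xd294ed90)
 .nil)))))))))))
noncomputable def da10 : Net := (.cons 16 (nat_lit 0x27f800000080)
 (.cons 8 (nat_lit 0xf800f8007f0080)
 (.cons 4 (nat_lit 0x10e000e08070202)
 (.cons 2 (nat_lit 0x1101220201101212)
 (.cons 1 (nat_lit 0x1450110041051100)
 (.cons 2 (nat_lit 0x2200220000000000)
 (.cons 4 (nat_lit 0x80800080e020404)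
 (.cons 8 (nat_lit 0xf800f800000000)
 (.cons 16 (nat_lit 0x666400007f00)
 .nil)))))))))
noncomputable def da11 : Net := (.cons 32 (nat_lit 0x80000000)
 (.cons 16 (nat_lit 0xe19e0000ff80)
 (.cons 8 (nat_lit 0xe400e200840000)
 (.cons 4 (nat_lit 0x30105010506050e)
 (.cons 2 (nat_lit 0x1111003030201020)
 (.cons 1 (nat_lit 0x4414550514551110)
 (.cons 2 (nat_lit 0x2222000020000020)
 (.cons 4 (nat_lit 0x8000800000008)
 (.cons 16 (nat_lit 0x800000008000)
 (.cons 32 (nat_lit 0x80000000)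
 .nil))))))))))
noncomputable def da12 : Net := (.cons 32 (nat_lit 0x80000000)
 (.cons 16 (nat_lit 0x800000008000)
 (.cons 8 (nat_lit 0x77006f00800080)
 (.cons 4 (nat_lit 0x707070707070a00)
 (.cons 2 (nat_lit 0x3030030303031100)
 (.cons 1 (nat_lit 0x5050050555004400)
 (.cons 2 (nat_lit 0x2200)
 (.cons 4 (nat_lit 0x808080808080000)
 (.cons 8 (nat_lit 0x800080)
 (.cons 16 (nat_lit 0x800000008000)
 (.cons 32 (nat_lit 0x80000000)
 .nil)))))))))))
noncomputable def da13 : Net := (.cons 32 (nat_lit 0x80000000)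
 (.cons 16 (nat_lit 0x800000008000)
 (.cons 8 (nat_lit 0x7f008000770000)
 (.cons 4 (nat_lit 0x808070707070808)
 (.cons 2 (nat_lit 0x3003303030301010)
 (.cons 1 (nat_lit 0x550050504010)
 (.cons 2 (nat_lit 0x2020)
 (.cons 4 (nat_lit 0x808080808080808)
 (.cons 8 (nat_lit 0x80008000000000)
 (.cons 16 (nat_lit 0x800000008000)
 (.cons 32 (nat_lit 0x80000000)
 .nil)))))))))))
noncomputable def da14 : Net := (.cons 32 (nat_lit 0xfa8e63c4)
 (.cons 16 (nat_lit 0xa70b000063e5)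
 (.cons 8 (nat_lit 0xae007e00fe00c3)
 (.cons 4 (nat_lit 0x40e0606040e0503)
 (.cons 2 (nat_lit 0x12010123102313)
 (.cons 1 (nat_lit 0x1550140101411111)
 (.cons 2 (nat_lit 0x2200202)
 (.cons 4 (nat_lit 0x406020408000a)
 (.cons 8 (nat_lit 0x38007800e80010)
 (.cons 16 (nat_lit 0x5a2c00001092)
 (.cons 32 (nat_lit 0x9e8fc550)
 .nil)))))))))))
noncomputable def da15 : Net := (.cons 32 (nat_lit 0x80000000)
 (.cons 16 (nat_lit 0x1e710000ff80)
 (.cons 8 (nat_lit 0xe600e600800080)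
 (.cons 4 (nat_lit 0x90109010e020206)
 (.cons 2 (nat_lit 0x2222000333020202)
 (.cons 1 (nat_lit 0x4441000544001104)
 (.cons 2 (nat_lit 0x2222000020000002)
 (.cons 4 (nat_lit 0x8000808080800)
 (.cons 8 (nat_lit 0x80008000800080)
 (.cons 16 (nat_lit 0x8000)
 (.cons 32 (nat_lit 0x80000000)
 .nil)))))))))))
noncomputable def da16 : Net := (.cons 32 (nat_lit 0x80000000)
 (.cons 16 (nat_lit 0x1e710000ff80)
 (.cons 8 (nat_lit 0xe600e600800080)
 (.cons 4 (nat_lit 0x90109010e020206)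
 (.cons 2 (nat_lit 0x2222000333020202)
 (.cons 1 (nat_lit 0x4441000544001104)
 (.cons 2 (nat_lit 0x2222000020000002)
 (.cons 4 (nat_lit 0x8000808080800)
 (.cons 8 (nat_lit 0x80008000800080)
 (.cons 16 (nat_lit 0x8000)
 (.cons 32 (nat_lit 0x80000000)
 .nil)))))))))))
noncomputable def da17 : Net := (.cons 32 (nat_lit 0xad5094df)
 (.cons 16 (nat_lit 0x18620000ca87)
 (.cons 8 (nat_lit 0x7d00be008c0053)
 (.cons 4 (nat_lit 0xc0104010a070804)
 (.cons 2 (nat_lit 0x2230030132123331)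
 (.cons 1 (nat_lit 0x1415400414115445)
 (.cons 2 (nat_lit 0x2000200222220200)
 (.cons 4 (nat_lit 0x40c02060a0a0a06)
 (.cons 8 (nat_lit 0xd0003600120028)
 (.cons 16 (nat_lit 0x8a720000dee0)
 (.cons 32 (nat_lit 0x83801a38)
 .nil)))))))))))
noncomputable def da18 : Net := (.cons 32 (nat_lit 0x833f1506)
 (.cons 16 (nat_lit 0x124500007876)
 (.cons 8 (nat_lit 0xb50051001000ab)
 (.cons 4 (nat_lit 0x9070c0b070a0e09)
 (.cons 2 (nat_lit 0x3101103133133321)
 (.cons 1 (nat_lit 0x41504441505015)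
 (.cons 2 (nat_lit 0x220000020)
 (.cons 4 (nat_lit 0x8040808000c0204)
 (.cons 8 (nat_lit 0x2e00a800060040)
 (.cons 16 (nat_lit 0x58820000379e)
 (.cons 32 (nat_lit 0xd92903f6)
 .nil)))))))))))
noncomputable def da19 : Net := (.cons 32 (nat_lit 0x80000000)
 (.cons 16 (nat_lit 0x800000008000)
 (.cons 8 (nat_lit 0x80007f007f0080)
 (.cons 4 (nat_lit 0x707080808080808)
 (.cons 2 (nat_lit 0x3300333333330110)
 (.cons 1 (nat_lit 0x5050055005500440)
 (.cons 2 (nat_lit 0x220)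
 (.cons 4 (nat_lit 0x808080808080808)
 (.cons 8 (nat_lit 0x80008000800080)
 (.cons 16 (nat_lit 0x800000008000)
 (.cons 32 (nat_lit 0x80000000)
 .nil)))))))))))
noncomputable def da20 : Net := (.cons 32 (nat_lit 0x80000000)
 (.cons 16 (nat_lit 0x680300008000)
 (.cons 8 (nat_lit 0xf800f8007f0080)
 (.cons 4 (nat_lit 0xf010e0108080802)
 (.cons 2 (nat_lit 0x2232113120310030)
 (.cons 1 (nat_lit 0x1155140514501444)
 (.cons 2 (nat_lit 0x2200220000000022)
 (.cons 4 (nat_lit 0x808080e020202)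
 (.cons 8 (nat_lit 0xf800f800800080)
 (.cons 16 (nat_lit 0x66640000ff80)
 (.cons 32 (nat_lit 0x80000000)
 .nil)))))))))))
noncomputable def da21 : Net := (.cons 32 (nat_lit 0x80000000)
 (.cons 16 (nat_lit 0x800000008000)
 (.cons 8 (nat_lit 0x5f003f00800080)
 (.cons 4 (nat_lit 0x707070707070808)
 (.cons 2 (nat_lit 0x303303030301130)
 (.cons 1 (nat_lit 0x5050050500551450)
 (.cons 2 (nat_lit 0x2200)
 (.cons 4 (nat_lit 0x808080808080808)
 (.cons 8 (nat_lit 0x800080)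
 (.cons 16 (nat_lit 0x800000008000)
 (.cons 32 (nat_lit 0x80000000)
 .nil)))))))))))
noncomputable def da22 : Net := (.cons 32 (nat_lit 0x80000000)
 (.cons 16 (nat_lit 0x800000008000)
 (.cons 8 (nat_lit 0x77006f00800080)
 (.cons 4 (nat_lit 0x707070707070a00)
 (.cons 2 (nat_lit 0x3030030303031100)
 (.cons 1 (nat_lit 0x5050050555004400)
 (.cons 2 (nat_lit 0x2200)
 (.cons 4 (nat_lit 0x808080808080000)
 (.cons 8 (nat_lit 0x800080)
 (.cons 16 (nat_lit 0x800000008000)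
 (.cons 32 (nat_lit 0x80000000)
 .nil)))))))))))
noncomputable def da23 : Net := (.cons 32 (nat_lit 0x7ec30e8f)
 (.cons 16 (nat_lit 0x8c290000d519)
 (.cons 8 (nat_lit 0x7200b80078002b)
 (.cons 4 (nat_lit 0x607070c0d000006)
 (.cons 2 (nat_lit 0x1310230022231131)
 (.cons 1 (nat_lit 0x4450145001445144)
 (.cons 2 (nat_lit 0x2200000000020002)
 (.cons 4 (nat_lit 0xa0e0a000a0800)
 (.cons 8 (nat_lit 0x80009400120070)
 (.cons 16 (nat_lit 0x99a800004684)
 (.cons 32 (nat_lit 0x51fdc26c)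
 .nil)))))))))))
noncomputable def da24 : Net := (.cons 32 (nat_lit 0x92dbee09)
 (.cons 16 (nat_lit 0x54ed0000aa95)
 (.cons 8 (nat_lit 0x9f00c100bb0043)
 (.cons 4 (nat_lit 0x80e0707030901)
 (.cons 2 (nat_lit 0x3302112132300222)
 (.cons 1 (nat_lit 0x4141414414015401)
 (.cons 2 (nat_lit 0x2022020220000202)
 (.cons 4 (nat_lit 0x60c080e02060c08)
 (.cons 8 (nat_lit 0x52009800380044)
 (.cons 16 (nat_lit 0x60bc00008178)
 (.cons 32 (nat_lit 0xc30f81c8)
 .nil)))))))))))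
noncomputable def da25 : Net := (.cons 32 (nat_lit 0x80000000)
 (.cons 16 (nat_lit 0x19990000ff80)
 (.cons 8 (nat_lit 0x70007007b0000)
 (.cons 4 (nat_lit 0x608070c040e020e)
 (.cons 2 (nat_lit 0x3322110022300210)
 (.cons 1 (nat_lit 0x5541145550110540)
 (.cons 2 (nat_lit 0x22220000220020)
 (.cons 4 (nat_lit 0x808000202020e)
 (.cons 8 (nat_lit 0xf800f800000000)
 (.cons 16 (nat_lit 0xe6660000ff80)
 (.cons 32 (nat_lit 0x80000000)
 .nil)))))))))))
noncomputable def da26 : Net := (.cons 32 (nat_lit 0x80000000)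
 (.cons 16 (nat_lit 0x1e610000ff80)
 (.cons 8 (nat_lit 0x1900e6007f0080)
 (.cons 4 (nat_lit 0x1010e0e0d01020e)
 (.cons 2 (nat_lit 0x1221033323302112)
 (.cons 1 (nat_lit 0x4414000550114114)
 (.cons 2 (nat_lit 0x2222000000020022)
 (.cons 4 (nat_lit 0x808080808080808)
 (.cons 8 (nat_lit 0x80008000800080)
 (.cons 16 (nat_lit 0x800000008000)
 (.cons 32 (nat_lit 0x80000000)
 .nil)))))))))))
noncomputable def da27 : Net := (.cons 32 (nat_lit 0x80000000)
 (.cons 16 (nat_lit 0x800000008000)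
 (.cons 8 (nat_lit 0x7f008000770000)
 (.cons 4 (nat_lit 0x808070707070808)
 (.cons 2 (nat_lit 0x3003303030301010)
 (.cons 1 (nat_lit 0x550050504010)
 (.cons 2 (nat_lit 0x2020)
 (.cons 4 (nat_lit 0x808080808080808)
 (.cons 8 (nat_lit 0x80008000000000)
 (.cons 16 (nat_lit 0x800000008000)
 (.cons 32 (nat_lit 0x80000000)
 .nil)))))))))))
noncomputable def da28 : Net := (.cons 32 (nat_lit 0x80000000)
 (.cons 16 (nat_lit 0x800000008000)
 (.cons 8 (nat_lit 0x80007f007f0080)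
 (.cons 4 (nat_lit 0x707080808080808)
 (.cons 2 (nat_lit 0x3300333333330110)
 (.cons 1 (nat_lit 0x505500550050110)
 (.cons 2 (nat_lit 0x220)
 (.cons 4 (nat_lit 0x808080808080808)
 (.cons 8 (nat_lit 0x80008000800080)
 (.cons 16 (nat_lit 0x800000008000)
 (.cons 32 (nat_lit 0x80000000)
 .nil)))))))))))
noncomputable def da29 : Net := (.cons 32 (nat_lit 0x80000000)
 (.cons 16 (nat_lit 0x800000008000)
 (.cons 8 (nat_lit 0x77006f00800080)
 (.cons 4 (nat_lit 0x707070707070a00)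
 (.cons 2 (nat_lit 0x3030030303031100)
 (.cons 1 (nat_lit 0x5050050555004400)
 (.cons 2 (nat_lit 0x2200)
 (.cons 4 (nat_lit 0x808080808080000)
 (.cons 8 (nat_lit 0x800080)
 (.cons 16 (nat_lit 0x800000008000)
 (.cons 32 (nat_lit 0x80000000)
 .nil)))))))))))
noncomputable def dws : List (List ℕ) :=
  [W (nat_lit 0x3c0f03809024030040301403),
  W (nat_lit 0xf03c0a018030040301404),
  W (nat_lit 0x4c11044140501204814),
  W (nat_lit 0x1104c1104411),
  W (nat_lit 0x160581806016),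
  W (nat_lit 0x5c15),
  W (nat_lit 0x1304413),
  W (nat_lit 0x54180581806016),
  W (nat_lit 0x150601506018),
  W (nat_lit 0xc020100400c01),
  W (nat_lit 0x40400c0300c0201004),
  W (nat_lit 0x2509424),
  W (nat_lit 0x23094230982309423),
  W (nat_lit 0xa02909c29),
  W (nat_lit 0x280b028),
  W (nat_lit 0x1a0701505c1106011),
  W (nat_lit 0x19064160441b),
  W (nat_lit 0x2f0c4310bc2f0c82f0bc32),
  W (nat_lit 0xc0320bc2f0bc320c82f),
  W (nat_lit 0x340d8330d433),
  W (nat_lit 0x330cc350d433),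
  W (nat_lit 0xdc3a)]
noncomputable def dns : List Net := [CL.Std.G22.a0, CL.Std.G22.a1, CL.Std.G22.a2, CL.Std.G22.a3, CL.Std.G22.a4, CL.Std.G22.a5, CL.Std.G22.a6, CL.Std.G22.a7, da8, da9, da10, da11, da12, da13, da14, da15, da16, da17, da18, da19, da20, da21, da22, da23, da24, da25, da26, da27, da28, da29]
noncomputable def dD : List (ℕ × List ℕ) := app CL.Std.G22.D (mkDefs dws 8)
noncomputable def dchk : List (List ℕ × List ℕ) → Bool := CL.Std.G22.P.relsB dns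
noncomputable def dzt0 : List ℕ :=
  []
noncomputable def dzcj1 : List (List ℕ) :=
  []
noncomputable def dzt4 : List ℕ :=
  []
noncomputable def dzcj5 : List (List ℕ) :=
  [[24]]
noncomputable def dzus8 : List (List ℕ) :=
  [[20],
  [21],
  W (nat_lit 0x5417),
  W (nat_lit 0x541b),
  W (nat_lit 0x1505c16)]
noncomputable def dzF9 : List (List (ℕ × List ℕ)) :=
  [[(1, []),
   (2, []),
   (0, []),
   (4, []),
   (5, []),
   (3, [])],
  [(2, [26]),
   (3, []),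
   (0, W (nat_lit 0x681c)),
   (1, [25]),
   (5, W (nat_lit 0x190641b)),
   (4, W (nat_lit 0x641c))]]
noncomputable def dzrs12 : List (ℕ × List ℕ) :=
  [(31, W (nat_lit 0x1d0741d)),
  (18, W (nat_lit 0x1d07417)),
  (1, [29])]
noncomputable def dZ_w0_1_v0 : Lev :=
  ⟨31, 32, sg (W (nat_lit 0x541705c17054170541705417)), [[20]], 13, 0⟩
noncomputable def dZ_w0_1_v1 : Lev :=
  ⟨1, 3, sg (W (nat_lit 0x5415)), [], 13, 0⟩
noncomputable def dZ_w0_1_vs2 : List Lev :=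
  []
noncomputable def dZ_w0_1_vs1 : List Lev :=
  dZ_w0_1_v1 :: dZ_w0_1_vs2
noncomputable def dZ_w0_1_vs : List Lev :=
  dZ_w0_1_v0 :: dZ_w0_1_vs1
noncomputable def dzcj14 : List (List ℕ) :=
  [[20]]
noncomputable def dZ_w0_2_v0 : Lev :=
  ⟨18, 24, sg (W (nat_lit 0x54170541505c1505c15)), [[30], [32]], 13, 2⟩
noncomputable def dZ_w0_2_v1 : Lev :=
  ⟨1, 4, sg (W (nat_lit 0x1f07c1f)), [], 15, 0⟩
noncomputable def dZ_w0_2_vs2 : List Lev :=
  []
noncomputable def dZ_w0_2_vs1 : List Lev :=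
  dZ_w0_2_v1 :: dZ_w0_2_vs2
noncomputable def dZ_w0_2_vs : List Lev :=
  dZ_w0_2_v0 :: dZ_w0_2_vs1
noncomputable def dzcj18 : List (List ℕ) :=
  [[26],
  [26]]
noncomputable def dZ_v0 : Lev :=
  ⟨0, 63, sg (W (nat_lit 0x130441104c1104c1104c1104c11)), [[20], [22]], 8, 2⟩
noncomputable def dZ_v1 : Lev :=
  ⟨1, 6, sg (W (nat_lit 0x150541705415)), [[24], [26]], 10, 2⟩
noncomputable def dZ_v2 : Lev :=
  ⟨3, 4, sg (W (nat_lit 0x1b06c1b)), [[24]], 12, 0⟩
noncomputable def dZ_v3 : Lev :=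
  ⟨7, 4, sg (W (nat_lit 0x1906419)), [], 12, 0⟩
noncomputable def dZ_vs4 : List Lev :=
  []
noncomputable def dZ_vs3 : List Lev :=
  dZ_v3 :: dZ_vs4
noncomputable def dZ_vs2 : List Lev :=
  dZ_v2 :: dZ_vs3
noncomputable def dZ_vs1 : List Lev :=
  dZ_v1 :: dZ_vs2
noncomputable def dZ_vs : List Lev :=
  dZ_v0 :: dZ_vs1
noncomputable def dzcj22 : List (List ℕ) :=
  [W (nat_lit 0x190541b),
  [25]]
noncomputable def dzB25 : List BG :=
  [⟨[28], [([24], W (nat_lit 0x190541b)), ([26], [25])],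
  [([⟨[], [20], 3, [20]⟩], []),
   ([⟨[], W (nat_lit 0x5c1c), 2, W (nat_lit 0x1906c16)⟩,
    ⟨W (nat_lit 0x5c16), W (nat_lit 0x601c), 1, W (nat_lit 0x1b06c16)⟩], W (nat_lit 0x8010080100801)),
   ([⟨[], W (nat_lit 0x170581b), 1, W (nat_lit 0x7015)⟩,
    ⟨[21], W (nat_lit 0x541b), 2, W (nat_lit 0x6419)⟩,
    ⟨W (nat_lit 0x5c16), W (nat_lit 0x1505c16), 3, [20]⟩], W (nat_lit 0x8020040200401)),
   ([⟨[], [], 0, []⟩,
    ⟨[20], [23], 2, [21]⟩,
    ⟨W (nat_lit 0x1505c16), W (nat_lit 0x5417), 3, W (nat_lit 0x641906c1b)⟩], W (nat_lit 0x200802))]⟩]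
noncomputable def dzE26 : List (ℕ × List ℕ) :=
  [(16, W (nat_lit 0x681b06c1506c1d0741d)),
  (18, W (nat_lit 0x641b0541b0741b0741d))]
noncomputable def dzps31 : List (List ℕ × List ℕ) :=
  [(W (nat_lit 0xc01), [3]), (W (nat_lit 0x1004), W (nat_lit 0xc02))]
noncomputable def dzts34 : List (List ℕ) :=
  [W (nat_lit 0x2d0b42b0a42b09423),
  W (nat_lit 0x2e09c290a0230b426)]
noncomputable def dzts37 : List (List ℕ) :=
  [[],
  W (nat_lit 0x1906c1106c11),
  W (nat_lit 0x641c054170581104414),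
  []]
noncomputable def dzcj40 : List (List (List ℕ)) :=
  [[W (nat_lit 0x1a06c1604817), W (nat_lit 0x6813)],
  [W (nat_lit 0x641906c1b0581204c1a), W (nat_lit 0x1a0701505c110501a)]]
noncomputable def dzcj43 : List (List (List ℕ)) :=
  [[W (nat_lit 0x1a06c1604817), W (nat_lit 0x6813)],
  [W (nat_lit 0x641906c1b0581204c1a), W (nat_lit 0x1a0701505c110501a)]]
noncomputable def dzE46 : Net :=
  (.cons 32 (nat_lit 0x828d755e)
 (.cons 16 (nat_lit 0x3e60000096ee)
 (.cons 8 (nat_lit 0xb5008700450046)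
 (.cons 4 (nat_lit 0x60c0901070e0d00)
 (.cons 2 (nat_lit 0x3331123020020112)
 (.cons 1 (nat_lit 0x1515440401514010)
 (.cons 2 (nat_lit 0x2020220000022000)
 (.cons 4 (nat_lit 0xc000402060a0a)
 (.cons 8 (nat_lit 0xc400200028003a)
 (.cons 16 (nat_lit 0x81320000b17e)
 (.cons 32 (nat_lit 0x85d1ab32)
 .nil)))))))))))
noncomputable def dzK47 : Lk :=
  ⟨dzE46, 1, 3, 1⟩
noncomputable def dzts50 : List (List ℕ) :=
  [W (nat_lit 0x3b0e0340c438),
  W (nat_lit 0x3b0e0300c030)]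
noncomputable def dzts53 : List (List ℕ) :=
  [W (nat_lit 0x1a0701505c1106011),
  W (nat_lit 0x19064160441b)]

theorem dzb2 : bnd (pcB dD [] 4 dzt0 dzcj1) (leB (app dD []) [[24]] ([24] :: [])) = true := by decide +kernel
theorem dzr3 : dchk (pcR [] [24] 4 dzt0 dzcj1) = true := by decide +kernel
theorem dzb6 : bnd (pcB dD [[24]] 4 dzt4 dzcj5) (leB (app dD []) [[24], [26]] ([26] :: [[24]])) = true := by decide +kernel
theorem dzr7 : dchk (pcR [[24]] [26] 4 dzt4 dzcj5) = true := by decide +kernel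
theorem dzb10 : schB dD [[20], [22]] [[24], [26]] dzus8 dzF9 6 = true := by decide +kernel
theorem dzr11 : dchk (schR [[20], [22]] dzus8 dzF9) = true := by decide +kernel
theorem dzc13 : CL.Std.G22.P.chainB dns dD dZ_w0_1_vs [[20], [22]] = true := by decide +kernel
theorem dzb15 : wdB dD [[20], [22]] dZ_w0_1_v0.nx dzcj14 = true := by decide +kernel
theorem dzr16 : dchk (wdR dZ_w0_1_v0.nx (W (nat_lit 0x1d0741d)) dzcj14) = true := by decide +kernel
theorem dzc17 : CL.Std.G22.P.chainB dns dD dZ_w0_2_vs [[20], [22]] = true := by decide +kernel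
theorem dzb19 : wdB dD [[20], [22]] dZ_w0_2_v0.nx dzcj18 = true := by decide +kernel
theorem dzr20 : dchk (wdR dZ_w0_2_v0.nx (W (nat_lit 0x1d07417)) dzcj18) = true := by decide +kernel
theorem dzc21 : CL.Std.G22.P.chainB dns dD dZ_vs [[16], [18]] = true := by decide +kernel
theorem dzb23 : wdB dD [[20], [22]] dZ_v1.nx dzcj22 = true := by decide +kernel
theorem dzr24 : dchk (wdR dZ_v1.nx [29] dzcj22) = true := by decide +kernel
theorem dzb27 : bB CL.Std.G22.P.n CL.Std.G22.P.N dns (app dD dzE26) [[16], [18]] [[20], [22]] 0 dzrs12 dzB25 = true := by decide +kernel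
theorem dzb28 : CL.Std.G22.P.invSz dns [[16], [18]] 0 (orbM CL.Std.G22.P.N dns dZ_v0) 63 = true := by decide +kernel
theorem dzr29 : dchk (bR 0 dzrs12 dzB25) = true := by decide +kernel
theorem dzr30 : dchk (defRels dzE26) = true := by decide +kernel
theorem dzm32 : bnd (leB dD (mapL Prod.fst dzps31) [[0], [2]]) (leB dD (mapL Prod.snd dzps31) [[0], [2]]) = true := by decide +kernel
theorem dzr33 : dchk (zp [] [[34], [36]] (mapL comW dzps31)) = true := by decide +kernel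
theorem dzm35 : leB dD dzts34 [[34], [36]] = true := by decide +kernel
theorem dzr36 : dchk (zp [] [[16], [18]] dzts34) = true := by decide +kernel
theorem dzm38 : leB dD dzts37 [[16], [18]] = true := by decide +kernel
theorem dzr39 : dchk (zp [] (comWs [[0], [2]] [[0], [2]]) dzts37) = true := by decide +kernel
theorem dzm41 : nrmB dD [[0], [2]] [[16], [18]] dzcj40 = true := by decide +kernel
theorem dzr42 : dchk (nrmR [[0], [2]] [[16], [18]] dzcj40) = true := by decide +kernel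
theorem dzm44 : nrmB dD [[0], [2]] [[16], [18]] dzcj43 = true := by decide +kernel
theorem dzr45 : dchk (nrmR [[0], [2]] [[16], [18]] dzcj43) = true := by decide +kernel
theorem dzl48 : dzK47.relB CL.Std.G22.P CL.Std.G22.Aux.T.P CL.Std.G22.Der.dns [[46], [48]] [[0], [2]] = true := by decide +kernel
theorem dzl49 : allL (dzK47.pl CL.Std.G22.P CL.Std.G22.Aux.T.P CL.Std.G22.Der.dns CL.Std.G22.Aux.T.ns 0) (zp [] [[46], [48]] [[0], [2]]) = true := by decide +kernel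
theorem dzm51 : leB dD dzts50 [[46], [48]] = true := by decide +kernel
theorem dzr52 : dchk (zp [] [[16], [18]] dzts50) = true := by decide +kernel
theorem dzm54 : leB dD dzts53 [[16], [18]] = true := by decide +kernel
theorem dzr55 : dchk (zp [] [[46], [48]] dzts53) = true := by decide +kernel
theorem dze56 : extB CL.Std.G22.ns dns 8 dws CL.Std.G22.D = true := by decide +kernel
theorem dzn57 : CL.Std.G22.P.netsB dns (mkDefs dws 8) = true := by decide +kernel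

section
variable {G X : Type*} [Group G] [MulAction G X] {e : ℕ → X} {gs : List G}

theorem dlen {k} (c : Ctx CL.Std.G22.P e gs CL.Std.G22.ns CL.Std.G22.D k) : gs.length = 8 := c.len dze56

theorem dctx0 {k} (c : Ctx CL.Std.G22.P e gs CL.Std.G22.ns CL.Std.G22.D k) : Ctx CL.Std.G22.P e (ext gs dws) dns dD chk0 :=
  c.ext rfl dze56 dzn57

theorem dctx {k} (c : Ctx CL.Std.G22.P e gs CL.Std.G22.ns CL.Std.G22.D k) {H : Subgroup G} (hF : Faithful e CL.Std.G22.P.n H) (hH : ∀ g ∈ gs, g ∈ H) :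
    Ctx CL.Std.G22.P e (ext gs dws) dns dD dchk :=
  (dctx0 c).withB hF (mem_of_mem_ext hH _)

theorem dZ_u3 (c : Ctx CL.Std.G22.P e gs dns dD dchk) :
    UB (subW gs [[24]]) 4 :=
  (c.pc_step (UB.nil gs) (Rels.nil _)
    (c.rels _ dzr3) dzb2).le (by decide)

theorem dZ_u2 (c : Ctx CL.Std.G22.P e gs dns dD dchk) :
    UB (subW gs [[24], [26]]) 16 :=
  (c.pc_step (dZ_u3 c) (Rels.nil _)
    (c.rels _ dzr7) dzb6).le (by decide)

theorem dZ_u1 (c : Ctx CL.Std.G22.P e gs dns dD dchk) :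
    UB (subW gs [[20], [22]]) 96 :=
  (c.sch_step (dZ_u2 c)
    (c.rels _ dzr11) dzb10).le (by decide)

theorem dZ_w0_1_c : CL.Std.G22.P.chainB dns dD dZ_w0_1_vs [[20], [22]] = true :=
  dzc13

theorem dZ_w0_1_o : prodL dZ_w0_1_vs 1 = 96 := by decide +kernel

theorem dZ_w0_2_c : CL.Std.G22.P.chainB dns dD dZ_w0_2_vs [[20], [22]] = true :=
  dzc17

theorem dZ_w0_2_o : prodL dZ_w0_2_vs 1 = 96 := by decide +kernel

theorem dZ_c : CL.Std.G22.P.chainB dns dD dZ_vs [[16], [18]] = true :=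
  dzc21

theorem dZ_o : prodL dZ_vs 1 = 6048 := by decide +kernel

theorem dZ_u0w (c : Ctx CL.Std.G22.P e gs dns dD dchk) :
    AllWd e gs [[20], [22]] dzrs12 :=
  ⟨c.wd (v := dZ_w0_1_v0) (vs := dZ_w0_1_vs1) (dZ_u1 c) dZ_w0_1_c dZ_w0_1_o
      (c.rels _ dzr16) dzb15,
    ⟨c.wd (v := dZ_w0_2_v0) (vs := dZ_w0_2_vs1) (dZ_u1 c) dZ_w0_2_c dZ_w0_2_o
      (c.rels _ dzr20) dzb19,
    ⟨c.wd (v := dZ_v1) (vs := dZ_vs2) (dZ_u1 c) (Par.chainB_tail dZ_c) (by decide +kernel)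
      (c.rels _ dzr24) dzb23,
    trivial⟩⟩⟩

theorem dZ_u0 (c : Ctx CL.Std.G22.P e gs dns dD dchk) :
    UB (subW gs [[16], [18]]) 6048 :=
  (c.b_step (dZ_u1 c) (dZ_u0w c) (c.rels _ dzr30)
    (c.rels _ dzr29) dzb27 dzb28).le (by decide)

theorem dZ_ub (c : Ctx CL.Std.G22.P e gs dns dD dchk) :
    UB (subW gs [[16], [18]]) 6048 :=
  (dZ_u0 c)

theorem dcom_c_le (c : Ctx CL.Std.G22.P e gs dns dD dchk) :
    (subW gs [[34], [36]]) ≤ ⁅(subW gs [[0], [2]]), (subW gs [[0], [2]])⁆ :=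
  c.le_commutator (ps := dzps31) (c.rels _ dzr33) dzm32

theorem dcom (c : Ctx CL.Std.G22.P e gs dns dD dchk) :
    ⁅(subW gs [[0], [2]]), (subW gs [[0], [2]])⁆ = (subW gs [[16], [18]]) :=
  have hfin : Finite (subW gs [[16], [18]]) := (dZ_ub c).1
  le_antisymm (commutator_subW_le (c.le_normalizer (cj := dzcj43) hfin (c.rels _ dzr45) dzm44) (c.le_normalizer (cj := dzcj40) hfin (c.rels _ dzr42) dzm41)
    (c.le_of_rels (ws := (comWs [[0], [2]] [[0], [2]])) (l := [[16], [18]]) (c.rels _ dzr39) dzm38)) ((c.le_of_rels (ws := [[16], [18]]) (l := [[34], [36]]) (c.rels _ dzr36) dzm35).trans (dcom_c_le c))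

theorem dquo_r_T {Γ Y : Type*} [Group Γ] [MulAction Γ Y] {e' : ℕ → Y} {cs : List Γ} {D₁ D₂ : List (ℕ × List ℕ)}
    {k₁ k₂ : List (List ℕ × List ℕ) → Bool} (c : Ctx CL.Std.G22.P e gs CL.Std.G22.Der.dns D₁ k₁) (c' : Ctx CL.Std.G22.Aux.T.P e' cs CL.Std.G22.Aux.T.ns D₂ k₂)
    (hF : Faithful e' CL.Std.G22.Aux.T.P.n (subW cs [[0], [2]])) :
    RelLe gs [[46], [48]] cs [[0], [2]] :=
  c.relLe (K := dzK47) c' hF dzl48 (fun (t : ℕ) (ht : t < 1) => match t, ht with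
    | 0, _ => dzl49
    | t + 1, h => absurd h (by omega))

theorem dquo_r {Γ Y : Type*} [Group Γ] [MulAction Γ Y] {e' : ℕ → Y} {cs : List Γ} {D₁ D₂ : List (ℕ × List ℕ)}
    {k₁ k₂ : List (List ℕ × List ℕ) → Bool} (c : Ctx CL.Std.G22.P e gs CL.Std.G22.Der.dns D₁ k₁) (c' : Ctx CL.Std.U33.P e' cs CL.Std.U33.ns D₂ k₂)
    (hF : Faithful e' CL.Std.U33.P.n (subW cs [[0], [2]])) :
    RelLe gs [[46], [48]] cs [[0], [2]] :=
  (dquo_r_T c CL.Std.G22.Aux.T.c1 ((faithful_eF _).mono le_top)).trans (CL.Std.G22.Aux.S.rel c' hF)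

theorem dquo_e (c : Ctx CL.Std.G22.P e gs dns dD dchk) :
    subW gs (app [[46], [48]] []) = (subW gs [[16], [18]]) :=
  le_antisymm (c.le_of_rels (ws := [[46], [48]]) (l := [[16], [18]]) (c.rels _ dzr55) dzm54) (c.le_of_rels (ws := [[16], [18]]) (l := [[46], [48]]) (c.rels _ dzr52) dzm51)

theorem dquo (c : Ctx CL.Std.G22.P e gs dns dD dchk) :
    Nonempty ((subW gs [[16], [18]]) ≃* (subW CL.Std.U33.gs1 [[0], [2]])) :=
  (RelLe.quo' (l := [[46], [48]]) (lQ := []) (dquo_r c CL.Std.U33.c1 ((faithful_eF _).mono le_top)) (by decide) (dquo_e c) (a := 1) (b := 6048) (dZ_ub c)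
    (LB.one _) (LB.of_card CL.Std.U33.card)).equiv_nil

noncomputable def gsD : List (Equiv.Perm (Fin CL.Std.G22.P.n)) := ext CL.Std.G22.gs1 dws
theorem cD : Ctx CL.Std.G22.P (eF CL.Std.G22.P.n) gsD dns dD dchk := dctx CL.Std.G22.c1 (faithful_eF _) fun _ _ => trivial
theorem eD : subW gsD [[0], [2]] = subW CL.Std.G22.gs1 [[0], [2]] := subW_ext (dlen CL.Std.G22.c1) dws (by decide)
theorem der {Δ : Type*} [Group Δ] {Γ : Subgroup Δ} (e : Nonempty (subW CL.Std.G22.gs1 [[0], [2]] ≃* Γ)) : Nonempty (subW gsD [[16], [18]] ≃* commutator Γ) :=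
  commutator_equiv (dcom cD) (eD ▸ e)

theorem iso {Δ : Type*} [Group Δ] {Γ : Subgroup Δ} (e : Nonempty (subW CL.Std.G22.gs1 [[0], [2]] ≃* Γ)) : Nonempty (commutator Γ ≃* subW CL.Std.U33.gs1 [[0], [2]]) :=
  ⟨(der e).some.symm.trans (dquo cD).some⟩

end
end CL.Std.G22.Der

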