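import Cfsg.Agent.Spor.TCSound

/-! coset enumeration certificate generated by tools/tc -/

set_option maxRecDepth 100000
set_option autoImplicit false
set_option linter.all false

namespace CL.TC.HeD

noncomputable def rows0 : Tr ℕ := (.node (nat_lit 4) (.node (nat_lit 2) (.node (nat_lit 1) (.leaf (nat_lit 0xfc63df8c77f883fb40b35fc41bf18e7d408f6c1503f18dff106fc635ed4256fc318fe20bf8c67d1892dfe209f8c63e18bfa31181f8c5ff18b7f104f46206bf881fe315fa80be8c3e07e314fe207f8c4fd1872dfe205f8c4be187fd60581f8c47f8817e310faa08b7f187fe30efe205f500cd7f101fc61bf0c2be18440fc619fc407f185fc3075bf8c2bf184ff101f860c6bf1847e307fc60dfc4043fe305fc609f8c0ff18100)) (.leaf (nat_lit 0xf4663f8ccbf8897941935f504bf888fe331f2a30b7f8887e330fa823e585e07e32ffe221f8cbbca8b2df8659fc43ff196f95155bfc43bf1967c32bf2c2903f195fe32afe21de504cd7a328fc653fc437c1901afa81bfc433f1947831f5bfc42ff193fd40cf063d03f1937f10bfc64be0c756fc323fe215f8c93c18e2dfe213f8c8fe1917831b81f8c8bf190ff109f06346be18fff108fc641ed4356ff107fc63ff0c7bdb0640)))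 (.node (nat_lit 1) (.leaf (nat_lit 0xf8689fc47bf1a2f75275bfc477f1a27c343eec4d03f1a1f7333fe23bdd094d7a341fc685fc473ba121afa839fc46ff1a0f75235bfc46bf1a07d41beec4503f19fff11aeaa71dd4856fe33efe233f8cf7b1992df6a33f8cf3f88c7633135f0cebf88bfe33bec660b7f88b7e33af8673d8cbe07e339fc671fc45bb1971af466df8cdff88af632d35f5057f88a7e336ec658b7f889fe335fa829d8cae07e334fe227f8ccfb1952d)) (.leaf (nat_lit 0xf86affc4aff1ac755355bfc4abf1abf334feac6903f894f8354f86add0d2207e356fc6abfc4a7a1a39afc6a9fc4a3f1a9f43465be8d47f1a97f127e868a6bea13ff126fc6a3d0d116ff125fc6a1f509ba1a1c0fc69ffc497a195765335bf8d3bf8927e34de8684b7da927e34cfe247d0d04d7c34afe245f8d2fa1a02dfe243f8d2be1a4f433f81f8d27c2177f121ea6706bf1a47f120fc68fdd4a56fb520fc68dfc47fba141a)))) (.node (nat_lit 2) (.node (nat_lit 1) (.leaf (nat_lit 0xf86cffc4e7f1b47235b5bfc4e3f1b3f443fe8c9303f89bf8365f86cdc8d6a07e366ec88ffc4df99aa9afc6cbfc4dbf1b2723595be8d8bf1b1ff135e46b06bea1aff134fc6c5c8d5d6ff133fc6c3f50d399a7c0fe265e0d7fe1b07563e81f8d83a9a6ff132ea87a6bf1afff131fc6bdd54f16fa35cfc6bbfc4c3aa1d9afa861fc4bff1ae7553a5bfc4bbf1adfd42feac7303f1ad7f12de6aabd54dd6fb52dfc6b3fc4b3aa1b1a))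 (.leaf (nat_lit 0xfe28ff8de3ea247365681fc51bcaa47c377e6ca903f1bbf336afe28dcd14cd7e376fe28bc55b39aa92df6a8bf8dd7f8a27345135d4d87f8a1fe374e6aa0b7f8a178373e26ddcd93a07e373fe283f8dcb9aa62df46e1f8dc7f8a07344b35f5103f89ffe370e6a94b7f89efe36ffa87dc8d8207e36efe27bc8d0ba2a6adfe279e54fbe1b6f235f81f8db7f1b67f13ce46bc6bf1b5ff13bfc6d5c8d756fb53bfc6d3fc4eb91ae1a))) (.node (nat_lit 1) (.leaf (nat_lit 0xf6ab1acddff8abf146235c11a3f8ab6e367e06f0b7f8aaf2668e48b5c999a07f153dcac5f515381bbc0e0ec7fc54f81aef256a5bfc54bc2b26c371e06ed037438f445efe2a5c4db0d7a664fe2a3e599781baadde6dfc4dbbf8a87037435f5143f8a7ef46fe4ac2b7f8a6f0774fa89dc4dba07f14cf2a9de0da781b9c0f26d3dcdaff8a67037235bcdb3f8a5ed376e06e2b7daa5ed36dfe295c0dc0d7645bfe293b55e389b3ad)) (.leaf (nat_lit 0xdc8e9fc58361b0f156f5bfc57b62b87d45fe2cdb03f8aeee572dc8c7c59ae06e372fe2b9b8dcf8ab4adda6f1bcd9bf8adf146835fc567caad6f575e2ccb037c3aed376fe2b3c5190d6d36afe2b1b51af8ab1ad)))))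
noncomputable def recs0 : Tr ℕ := (.leaf (nat_lit 0x0))
noncomputable def rows : Tr ℕ := rows0
noncomputable def recs : Tr ℕ := recs0
noncomputable def ci0 : CI := ⟨[], (nat_lit 0), false, (.node (nat_lit 1) (.leaf Rule.defn) (.leaf Rule.copy)), (.leaf (XRule.rot (nat_lit 0) [] 16 0))⟩
noncomputable def ci7 : CI := ⟨[0], (nat_lit 7), false, (.node (nat_lit 4) (.node (nat_lit 2) (.node (nat_lit 1) (.leaf Rule.defn) (.leaf Rule.copy)) (.node (nat_lit 1) (.leaf (Rule.fwd [nat_lit 7] 16 0)) (.leaf (Rule.fwd [nat_lit 26, nat_lit 7, nat_lit 26] 0 0)))) (.node (nat_lit 1) (.leaf (Rule.fwd [nat_lit 45, nat_lit 7, nat_lit 45] 2 0)) (.leaf (Rule.fwd [nat_lit 64, nat_lit 7, nat_lit 64] 4 0)))), (.node (nat_lit 1) (.leaf XRule.defn) (.leaf XRule.defn))⟩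
noncomputable def ci26 : CI := ⟨[1], (nat_lit 26), false, (.node (nat_lit 4) (.node (nat_lit 2) (.node (nat_lit 1) (.leaf Rule.defn) (.leaf Rule.copy)) (.node (nat_lit 1) (.leaf (Rule.fwd [nat_lit 26] 16 0)) (.leaf (Rule.fwd [nat_lit 64, nat_lit 26, nat_lit 64] 8 0)))) (.node (nat_lit 1) (.leaf (Rule.fwd [nat_lit 7, nat_lit 26, nat_lit 7] 0 1)) (.leaf (Rule.fwd [nat_lit 64, nat_lit 45, nat_lit 26, nat_lit 64, nat_lit 45, nat_lit 26, nat_lit 64, nat_lit 45, nat_lit 26, nat_lit 64, nat_lit 45, nat_lit 26, nat_lit 64, nat_lit 45] 15 1)))), (.node (nat_lit 1) (.leaf XRule.defn) (.leaf XRule.defn))⟩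
noncomputable def ci45 : CI := ⟨[2], (nat_lit 45), false, (.node (nat_lit 4) (.node (nat_lit 2) (.node (nat_lit 1) (.leaf Rule.defn) (.leaf Rule.copy)) (.node (nat_lit 1) (.leaf (Rule.fwd [nat_lit 45] 16 0)) (.leaf (Rule.fwd [nat_lit 26, nat_lit 45, nat_lit 26, nat_lit 45, nat_lit 26, nat_lit 45, nat_lit 26, nat_lit 7, nat_lit 45, nat_lit 26] 12 3)))) (.node (nat_lit 2) (.node (nat_lit 1) (.leaf (Rule.fwd [nat_lit 64, nat_lit 45, nat_lit 64, nat_lit 45, nat_lit 64] 10 0)) (.leaf (Rule.fwd [nat_lit 26, nat_lit 64, nat_lit 45, nat_lit 26, nat_lit 64, nat_lit 45, nat_lit 26, nat_lit 64, nat_lit 45, nat_lit 26, nat_lit 64, nat_lit 45, nat_lit 26, nat_lit 64] 15 2))) (.leaf (Rule.fwd [nat_lit 7, nat_lit 45, nat_lit 7] 2 1)))), (.node (nat_lit 1) (.leaf XRule.defn) (.leaf XRule.defn))⟩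
noncomputable def ci64 : CI := ⟨[3], (nat_lit 64), false, (.node (nat_lit 4) (.node (nat_lit 2) (.node (nat_lit 1) (.leaf Rule.defn) (.leaf Rule.copy)) (.node (nat_lit 1) (.leaf (Rule.fwd [nat_lit 64] 16 0)) (.leaf (Rule.fwd [nat_lit 45, nat_lit 64, nat_lit 45, nat_lit 64, nat_lit 45] 10 1)))) (.node (nat_lit 2) (.node (nat_lit 1) (.leaf (Rule.fwd [nat_lit 26, nat_lit 64, nat_lit 26] 8 1)) (.leaf (Rule.fwd [nat_lit 26, nat_lit 45, nat_lit 64, nat_lit 26, nat_lit 45, nat_lit 64, nat_lit 26, nat_lit 45, nat_lit 64, nat_lit 26, nat_lit 45, nat_lit 64, nat_lit 26, nat_lit 45] 14 2))) (.node (nat_lit 1) (.leaf (Rule.fwd [nat_lit 45, nat_lit 26, nat_lit 64, nat_lit 45, nat_lit 26, nat_lit 64, nat_lit 45, nat_lit 26, nat_lit 64, nat_lit 45, nat_lit 26, nat_lit 64, nat_lit 45, nat_lit 26] 15 0)) (.leaf (Rule.fwd [nat_lit 7, nat_lit 64, nat_lit 7] 4 1))))), (.node (nat_lit 1) (.leaf XRule.defn)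 (.leaf XRule.defn))⟩
noncomputable def outer : Tr CI := (.node (nat_lit 1) (.node (nat_lit 2) (.node (nat_lit 64) (.leaf ci0) (.leaf ci64)) (.leaf ci26)) (.node (nat_lit 2) (.leaf ci45) (.leaf ci7)))
def cols : List ℕ := [nat_lit 7, nat_lit 26, nat_lit 45, nat_lit 64]
def invL : List ℕ := [0, 1, 2, 3]
def rels : List (List ℕ) := [[0, 1, 0, 1], [0, 2, 0, 2], [0, 3, 0, 3], [1, 2, 1, 2, 1, 2, 1, 2, 1, 2, 1, 2, 1, 2, 1, 2, 1, 2, 1, 2], [1, 3, 1, 3], [2, 3, 2, 3, 2, 3], [0, 2, 1, 2, 1, 2, 1, 2, 1, 2, 1], [1, 2, 3, 1, 2, 3, 1, 2, 3, 1, 2, 3, 1, 2, 3]]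
def subs : List (List ℕ) := []
noncomputable def row (n : ℕ) : ℕ := rowOf (fun h => rows.get h) (nat_lit 4) (nat_lit 15) (nat_lit 83) (nat_lit 0x7ffffffffffffffffffff) n
noncomputable def xleaf (h : ℕ) : ℕ := recs.get h
noncomputable def mF : ℕ → ℕ := mainRow row (rowChk row xleaf outer (nat_lit 8) (nat_lit 255) (nat_lit 15) (nat_lit 12) (nat_lit 4095) (nat_lit 524287) (nat_lit 128) (nat_lit 120) (nat_lit 256) (nat_lit 7) (nat_lit 127) (nat_lit 15) (nat_lit 32767) (nat_lit 8) (nat_lit 255) cols)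
noncomputable def xF : ℕ → ℕ → ℕ := xLeaf row xleaf outer (nat_lit 255) (nat_lit 12) (nat_lit 524287) (nat_lit 128) (nat_lit 120) (nat_lit 7) (nat_lit 127) (nat_lit 15) (nat_lit 32767) (nat_lit 32640) (nat_lit 8) (nat_lit 255) (nat_lit 10) (nat_lit 1023) (nat_lit 2) (nat_lit 3) (nat_lit 64) (nat_lit 15360) (nat_lit 128)
noncomputable def cert : Cert := ⟨row, xleaf, outer, cols, nat_lit 8, nat_lit 255, nat_lit 15, nat_lit 12, nat_lit 4095, nat_lit 524287, nat_lit 128, nat_lit 120, nat_lit 256, nat_lit 7, nat_lit 127, nat_lit 15, nat_lit 32767, nat_lit 32640, nat_lit 8, nat_lit 255, nat_lit 10, nat_lit 1023, nat_lit 2, nat_lit 3, nat_lit 64, nat_lit 15360, nat_lit 128, nat_lit 19, nat_lit 128, nat_lit 1⟩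
theorem tabok : tabOK (fun i => invL.getD i i) rels subs outer cols (nat_lit 7) (nat_lit 64) = true := by decide +kernel
theorem m0 : rng mF (nat_lit 1) (nat_lit 120) = 0 := by decide +kernel
noncomputable def s0 : List ℕ := [nat_lit 0x0]
theorem x0 : xs xF s0 (nat_lit 1) = 0 := by decide +kernel
theorem mz0 : AllZ mF 1 (nat_lit 121) := (AllZ.step (AllZ.nil mF 1) (nat_lit 120) (nat_lit 121) rfl m0)
theorem xz0 : XZ xF (nat_lit 1) := (XZ.step (XZ.nil xF) s0 (nat_lit 1) (nat_lit 1) (by decide +kernel) x0)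
/-- the certificate (120 points) is valid -/
theorem valid : cert.Valid (fun i => invL.getD i i) rels subs 4 :=
  ⟨by decide +kernel, tabok, by decide +kernel, mz0, xz0⟩
theorem cert_N : cert.N = 120 := rfl

end CL.TC.HeD
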