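/-
Generators of `Co1` as matrices over the field of two elements.
-/
import Cfsg.Agent.Spor.LeechMod2

set_option autoImplicit false

namespace CL.Spor.Leech
open Cfsg Cfsg.Spor

def gXi : ℕ := 0xc72000209e00409e001000002c538020538030425028222032c2505fedf05f8df05fbdf05fa5f0000400324050768ed0000080609e400000205fade0633c7603c27a1b00724a2e5f
def gA : ℕ := 0x80000049f00009f00069f00059f00041f0004df0004bf00048f00049700049b00049d00009000348580349940000120000810001408308204309f02348401049700b400006000002
def gB : ℕ := 0x8000007170000240007b000013a0003de0002040002bd0005c200000400024b00047100029132c5fbae470eb906972b002c9a8090e1c18229c42a1a426aa285a399442a826da16c1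
def gC : ℕ := 0x80000035a0007450004c90003fa0003d80004b20003de0003d200039a0002370003db00026af002da800332c207ffa60125424009820750a086a5630701aa00a26000dd222029401
def gE : ℕ := 0x80000040000020000010000008000004000002000001000000800000400000200080100028a8001064006fe2001281002a40802520406d00205840100d8008720004900ffea90ffd

theorem rep_gXi : rho.Rep gXi (mk1 xi) := rep_xi (T := 0x9bdef7bdef7bdef7bdef7bdef7bdef7be2f7bdf17c5f17bdaf7bdef7c6318421084210741d083a10739ce7421083a10842108420e739d073a0e84210841d08421084210739ce839d0742107c5ef7c5ef8c5ef7bdef6bdef7c6317be317c5ef7be2f7bdef7bdef6c6317b5f18be2f7bdf17bdef7bdef7c631842108420e83a107420e739ce84210842108420e84210739ce8420e842528bdef8bdef8c5f17bdef7bded7c5f18421084210841d07420e841ce74a507420e8421074210849d08421084a527420e842107421083a508421084a527421083a108420e742128421084a52741d074210842108421093a1084a52741d074210842108421074a1084a5274210841d083a10842108425074a5273a108420e841d0842108421284a5274210841d083a1084210841d094a52842108421084210842108421084294842108421084210842108421085214842108421084210842108421085290642108421084210842108421084214)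
  (by decide +kernel) (by decide +kernel)
theorem rep_gA : rho.Rep gA (mk1 (monoE 0 pA rfl)) := rep_mono _ (by decide +kernel) (by decide +kernel)
theorem rep_gB : rho.Rep gB (mk1 (monoE 0 pB rfl)) := rep_mono _ (by decide +kernel) (by decide +kernel)
theorem rep_gC : rho.Rep gC (mk1 (monoE 0 pC rfl)) := rep_mono _ (by decide +kernel) (by decide +kernel)
theorem rep_gE : rho.Rep gE (mk1 (monoE 13062145 pone rfl)) := rep_mono _ (by decide +kernel) (by decide +kernel)

/-- Five generators of `Co1`. -/
def gens1 : List ℕ := [gXi, gA, gB, gC, gE]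

theorem gens1_ok : rho.model.AllIn ⊤ gens1 :=
  .cons (rep_gXi.in trivial) (.cons (rep_gA.in trivial) (.cons (rep_gB.in trivial) (.cons (rep_gC.in trivial)
    (.cons (rep_gE.in trivial) (Mx.Model.allIn_nil _)))))

theorem V_eq : (leechV : GolayPt → ℤ) = vecOf (vz 0x5bdef7bdef7bdef7bdef7bdef7bdef) := by decide +kernel
theorem V'_eq : (lV' : GolayPt → ℤ) = vecOf (vz 0x8c6318c6318c6318c6318c6318c635) := by decide +kernel
theorem U_eq : (leechU : GolayPt → ℤ) = vecOf (vz 0xa42108421084210842108421084214) := by decide +kernel
theorem U'_eq : (leechU' : GolayPt → ℤ) = vecOf (vz 0xa4210842108421084210842108420c) := by decide +kernel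
theorem W'_eq : (lW' : GolayPt → ℤ) = vecOf (vz 0x8c6318c6318c6318c6318c6318c62d) := by decide +kernel
theorem X_eq : (lX : GolayPt → ℤ) = vecOf (vz 0x642108421084210842108421084290) := by decide +kernel

end CL.Spor.Leech
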