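import Cfsg.Agent.Spor.PGPres2

/-! permutation model generated by tools/tc/pm -/

set_option maxRecDepth 100000
set_option autoImplicit false
set_option linter.all false
set_option Elab.async false

namespace CL.PM.M11p
open CL.PG CL.PP

noncomputable def n0 : Net := (.cons (nat_lit 1) (nat_lit 0x145) (.cons (nat_lit 2) (nat_lit 0x120) (.cons (nat_lit 1) (nat_lit 0x140) .nil)))
noncomputable def n1 : Net := (.cons (nat_lit 1) (nat_lit 0x50) (.cons (nat_lit 2) (nat_lit 0x11) (.cons (nat_lit 4) (nat_lit 0x5) (.cons (nat_lit 8) (nat_lit 0x1) (.cons (nat_lit 4) (nat_lit 0x1) (.cons (nat_lit 2) (nat_lit 0x10) (.cons (nat_lit 1) (nat_lit 0x100) .nil)))))))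
noncomputable def n2 : Net := (.cons (nat_lit 1) (nat_lit 0x40) (.cons (nat_lit 2) (nat_lit 0x12) (.cons (nat_lit 4) (nat_lit 0x9) (.cons (nat_lit 8) (nat_lit 0x1) (.cons (nat_lit 4) (nat_lit 0x1) (.cons (nat_lit 2) (nat_lit 0x120) (.cons (nat_lit 1) (nat_lit 0x10) .nil)))))))
noncomputable def n3 : Net := (.cons (nat_lit 1) (nat_lit 0x100) (.cons (nat_lit 2) (nat_lit 0x2) (.cons (nat_lit 4) (nat_lit 0x8) (.cons (nat_lit 8) (nat_lit 0x4) (.cons (nat_lit 4) (nat_lit 0x4) (.cons (nat_lit 2) (nat_lit 0x120) (.cons (nat_lit 1) (nat_lit 0x100) .nil)))))))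
noncomputable def n4 : Net := (.cons (nat_lit 1) (nat_lit 0x140) (.cons (nat_lit 2) (nat_lit 0x102) (.cons (nat_lit 4) (nat_lit 0x6) (.cons (nat_lit 8) (nat_lit 0x6) (.cons (nat_lit 2) (nat_lit 0x132) (.cons (nat_lit 1) (nat_lit 0x140) .nil))))))
noncomputable def n5 : Net := (.cons (nat_lit 1) (nat_lit 0x40) (.cons (nat_lit 2) (nat_lit 0x110) (.cons (nat_lit 4) (nat_lit 0xe) (.cons (nat_lit 8) (nat_lit 0x6) (.cons (nat_lit 4) (nat_lit 0x2) (.cons (nat_lit 2) (nat_lit 0x30) (.cons (nat_lit 1) (nat_lit 0x40) .nil)))))))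
noncomputable def n6 : Net := (.cons (nat_lit 1) (nat_lit 0x154) (.cons (nat_lit 2) (nat_lit 0x110) (.cons (nat_lit 4) (nat_lit 0x7) (.cons (nat_lit 8) (nat_lit 0x3) (.cons (nat_lit 4) (nat_lit 0x3) (.cons (nat_lit 2) (nat_lit 0x10) (.cons (nat_lit 1) (nat_lit 0x104) .nil)))))))
noncomputable def n7 : Net := (.cons (nat_lit 1) (nat_lit 0x14) (.cons (nat_lit 2) (nat_lit 0x120) (.cons (nat_lit 4) (nat_lit 0x1) (.cons (nat_lit 8) (nat_lit 0x5) (.cons (nat_lit 4) (nat_lit 0x5) (.cons (nat_lit 2) (nat_lit 0x100) (.cons (nat_lit 1) (nat_lit 0x104) .nil)))))))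
noncomputable def ns : List Net := [n0, n1, n2, n3, n4, n5, n6, n7]
def ws : List (List ℕ) := [[0, 2, 0], [3, 0, 2, 0, 2], [4, 7, 5], [5, 7, 5, 7], [9, 9, 10, 8, 8], [8, 11]]
noncomputable def D : List (ℕ × List ℕ) := mkDefs ws 2
def P : Par := ⟨11, 11, 4, 2⟩
def v0 : Lev := ⟨0, 11, [[0], [2], [2], [4], [2], [0], [2]], [[4], [6]], 0, 6⟩
def v1 : Lev := ⟨1, 10, [[4], [4], [6], [4], [4], [4], [6]], [[8], [10]], 0, 6⟩
def v2 : Lev := ⟨2, 9, [[8], [8], [8], [10], [10], [8]], [[12], [14]], 0, 6⟩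
def v3 : Lev := ⟨3, 8, [[12], [14], [12], [12]], [], 0, 6⟩
def levs : List Lev := [v0, v1, v2, v3]
def o0 : SubO := ⟨1, [[4], [4], [6], [4], [4], [4], [6]], 10⟩
def subs : List SubO := [o0]
def us : List (List ℕ) := [[], [0], [2], [0, 2]]
def R0 : List (List ℕ × List ℕ) := [([0, 0], []), ([2, 2, 2, 2], []), ([0, 2, 0, 2, 0, 2, 0, 2, 0, 2, 0, 2, 0, 2, 0, 2, 0, 2, 0, 2, 0, 2], []), ([0, 2, 2, 0, 2, 2, 0, 2, 2, 0, 2, 2, 0, 2, 2, 0, 2, 2], []), ([0, 2, 0, 2, 0, 3, 0, 2, 0, 2, 2, 0, 3, 0, 2, 0, 3, 0, 3], []), ([4], [0, 2, 0]), ([6], [3, 0, 2, 0, 2]), ([8], [4, 7, 5]), ([10], [5, 7, 5, 7]), ([12], [9, 9, 10, 8, 8]), ([14], [8, 11])]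
def R : List (List ℕ × List ℕ) := R0
theorem ok : allL (Net.okB 11) ns = true := by decide +kernel
theorem r0_0 : relPl 2 11 4 0 ns R0 = true := by decide +kernel
theorem lev0 : P.levB ns D (gensW 2) v0 = true := by decide +kernel
theorem lev1 : P.levB ns D v0.nx v1 = true := by decide +kernel
theorem lev2 : P.levB ns D v1.nx v2 = true := by decide +kernel
theorem lev3 : P.levB ns D v2.nx v3 = true := by decide +kernel
theorem sub0 : o0.ok 11 4 ns D v0.nx = true := by decide +kernel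
theorem cov : covO 11 ns 0 subs = true := by decide +kernel
theorem base : allL (fun v => us.any fun u => ptW 11 ns u 0 v.pt) levs = true := by decide +kernel
theorem rel0 : Rels (ns.map (netPerm 11)) R0 := PlOK.rels (PlOK.succ (PlOK.zero 2 11 4 ns R0) 0 1 rfl r0_0) ok rfl
theorem rel : Rels (ns.map (netPerm 11)) R := rel0
theorem chain : P.chainB ns D levs (gensW 2) = true := (Par.chainB_cons lev0 (Par.chainB_cons lev1 (Par.chainB_cons lev2 (Par.chainB_cons lev3 (Par.chainB_nil _ _ _ _)))))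
theorem subsok : ∀ o ∈ subs, o.ok 11 4 ns D v0.nx = true := by
  simp only [subs, List.forall_mem_cons, List.not_mem_nil, false_imp_iff, implies_true, and_true]
  exact sub0
theorem Pok : P.Ok := by decide
theorem defs : defsB (mkDefs ws 2) = true := by decide +kernel
theorem relD : Rels (ns.map (netPerm 11)) (defRels (mkDefs ws 2)) := rels_sub rel (by decide +kernel)

end CL.PM.M11p
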