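/-
The Mathieu group M11 as a standard model.
Generated by tools/pg.
-/
import Cfsg.Agent.Spor.PGStruct
import Cfsg.Agent.Spor.M11pModel
import Cfsg.Agent.Spor.M11Unique
import Cfsg.Agent.Known.MathieuIso
import Cfsg.Agent.Spor.PGCtx

set_option autoImplicit false
set_option maxRecDepth 200000
set_option Elab.async false
set_option linter.unusedVariables false

namespace CL.Std.M11
open CL.PG

def P : Par := ⟨11, 12, 4, 2⟩
theorem hP : P.Ok := by decide
noncomputable def a0 : Net := (.cons 6 (nat_lit 0x20)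
 (.cons 3 (nat_lit 0x104)
 (.cons 1 (nat_lit 0x48)
 (.cons 1 (nat_lit 0x90)
 (.cons 1 (nat_lit 0x249)
 (.cons 3 (nat_lit 0x104)
 (.cons 6 (nat_lit 0x20)
 .nil)))))))
noncomputable def a1 : Net := (.cons 3 (nat_lit 0xc2)
 (.cons 1 (nat_lit 0x40)
 (.cons 1 (nat_lit 0x82)
 (.cons 1 (nat_lit 0x241)
 (.cons 3 (nat_lit 0x86)
 .nil)))))
noncomputable def a2 : Net := (.cons 6 (nat_lit 0x24)
 (.cons 3 (nat_lit 0x2)
 (.cons 1 (nat_lit 0x200)
 (.cons 1 (nat_lit 0x480)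
 (.cons 1 (nat_lit 0x48)
 (.cons 3 (nat_lit 0x182)
 (.cons 6 (nat_lit 0x26)
 .nil)))))))
noncomputable def a3 : Net := (.cons 6 (nat_lit 0xe)
 (.cons 3 (nat_lit 0xc6)
 (.cons 1 (nat_lit 0x10)
 (.cons 1 (nat_lit 0x200)
 (.cons 6 (nat_lit 0x1c)
 .nil)))))
noncomputable def a4 : Net := (.cons 6 (nat_lit 0xc)
 (.cons 3 (nat_lit 0xc4)
 (.cons 1 (nat_lit 0x8)
 (.cons 1 (nat_lit 0x10)
 (.cons 1 (nat_lit 0x40)
 (.cons 3 (nat_lit 0x4)
 (.cons 6 (nat_lit 0x8)
 .nil)))))))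
noncomputable def a5 : Net := (.cons 6 (nat_lit 0x14)
 (.cons 3 (nat_lit 0x44)
 (.cons 1 (nat_lit 0x40)
 (.cons 1 (nat_lit 0x90)
 (.cons 1 (nat_lit 0x248)
 .nil)))))
noncomputable def a6 : Net := (.cons 6 (nat_lit 0x20)
 (.cons 3 (nat_lit 0x180)
 (.cons 1 (nat_lit 0x200)
 (.cons 1 (nat_lit 0x480)
 (.cons 1 (nat_lit 0x48)
 (.cons 3 (nat_lit 0x80)
 (.cons 6 (nat_lit 0x38)
 .nil)))))))
noncomputable def a7 : Net := (.cons 6 (nat_lit 0x4)
 (.cons 3 (nat_lit 0x80)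
 (.cons 1 (nat_lit 0x10)
 (.cons 1 (nat_lit 0x248)
 (.cons 3 (nat_lit 0x4)
 (.cons 6 (nat_lit 0x4)
 .nil))))))
noncomputable def ns0 : List Net := [a0, a1]
noncomputable def ws : List (List ℕ) :=
  [W (nat_lit 0x30080400404),
  W (nat_lit 0x101002),
  W (nat_lit 0x1c07014080200601c05),
  W (nat_lit 0x140502006),
  W (nat_lit 0x902c0b02c09),
  W (nat_lit 0x280a0300a)]
noncomputable def ns : List Net := [a0, a1, a2, a3, a4, a5, a6, a7]
noncomputable def D : List (ℕ × List ℕ) := app [] (mkDefs ws 2)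
noncomputable def chk : List (List ℕ × List ℕ) → Bool := P.relsB ns
noncomputable def G_v0 : Lev :=
  ⟨0, 11, sg (W (nat_lit 0x300403004030040300c01)), [[4], [6]], 0, 2⟩
noncomputable def G_v1 : Lev :=
  ⟨1, 10, sg (W (nat_lit 0x50140501c0701405)), [[8], [10]], 2, 2⟩
noncomputable def G_v2 : Lev :=
  ⟨2, 9, sg (W (nat_lit 0xb0240902c09)), [[12], [14]], 4, 2⟩
noncomputable def G_v3 : Lev :=
  ⟨3, 8, sg (W (nat_lit 0x340d03c0d)), [], 6, 0⟩
noncomputable def G_vs4 : List Lev :=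
  []
noncomputable def G_vs3 : List Lev :=
  G_v3 :: G_vs4
noncomputable def G_vs2 : List Lev :=
  G_v2 :: G_vs3
noncomputable def G_vs1 : List Lev :=
  G_v1 :: G_vs2
noncomputable def G_vs : List Lev :=
  G_v0 :: G_vs1
noncomputable def zE1 : Net :=
  .nil
noncomputable def zK2 : Lk :=
  ⟨zE1, 1, 2, 1⟩

theorem zc0 : P.chainB ns D G_vs [[0], [2]] = true := by decide +kernel
theorem zl3 : zK2.relB CL.Std.M11.P CL.Std.M11.P CL.Std.M11.ns [[0], [2]] [[0], [2]] = true := by decide +kernel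
theorem zl4 : allL (zK2.pl CL.Std.M11.P CL.Std.M11.P CL.Std.M11.ns CL.Std.M11.ns 0) (zp [] [[0], [2]] [[0], [2]]) = true := by decide +kernel
theorem zk5 : allL (keepB P.n P.N) ns0 = true := by decide +kernel
theorem ze6 : extB ns0 ns 2 ws [] = true := by decide +kernel
theorem zn7 : P.netsB ns (mkDefs ws 2) = true := by decide +kernel

variable {G X : Type*} [Group G] [MulAction G X] {e : ℕ → X} {gs : List G}

theorem keep0 : allL (keepB P.n P.N) ns0 = true := zk5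

theorem len {k} (c : Ctx P e gs ns0 [] k) : gs.length = 2 := c.len ze6

theorem ctx0 {k} (c : Ctx P e gs ns0 [] k) : Ctx P e (ext gs ws) ns D chk0 :=
  c.ext rfl ze6 zn7

theorem ctx {k} (c : Ctx P e gs ns0 [] k) {H : Subgroup G} (hF : Faithful e P.n H) (hH : ∀ g ∈ gs, g ∈ H) :
    Ctx P e (ext gs ws) ns D chk :=
  (ctx0 c).withB hF (mem_of_mem_ext hH _)

instance instNe : NeZero P.n := ⟨by decide⟩
noncomputable def gs0 : List (Equiv.Perm (Fin P.n)) := permsOf P.n P.N ns0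
noncomputable def gs1 : List (Equiv.Perm (Fin P.n)) := ext gs0 ws
theorem c1 : Ctx P (eF P.n) gs1 ns D chk :=
  ctx (ctx_permsOf hP keep0) (faithful_eF _) fun _ _ => trivial

theorem G_c : P.chainB ns D G_vs [[0], [2]] = true :=
  zc0

theorem G_o : prodL G_vs 1 = 7920 := by decide +kernel

theorem G_lb (c : Ctx P e gs ns D chk) :
    LB (subW gs [[0], [2]]) 7920 :=
  c.lb G_c G_o

theorem rel {Γ Y : Type*} [Group Γ] [MulAction Γ Y] {e' : ℕ → Y} {cs : List Γ} {D₁ D₂ : List (ℕ × List ℕ)}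
    {k₁ k₂ : List (List ℕ × List ℕ) → Bool} (c : Ctx CL.Std.M11.P e gs CL.Std.M11.ns D₁ k₁) (c' : Ctx CL.Std.M11.P e' cs CL.Std.M11.ns D₂ k₂)
    (hF : Faithful e' CL.Std.M11.P.n (subW cs [[0], [2]])) :
    RelLe gs [[0], [2]] cs [[0], [2]] :=
  c.relLe (K := zK2) c' hF zl3 (fun (t : ℕ) (ht : t < 1) => match t, ht with
    | 0, _ => zl4
    | t + 1, h => absurd h (by omega))

theorem ren : P.renB PM.M11p.ns [[0], [2]] ns0 = true := by decide +kernel

theorem isoP : Nonempty (CL.Pr.M11p ≃* (subW gs1 [[0], [2]])) := by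
  have c := Ctx.mk0 hP (PP.injLt_eF 11) ((M11pP.good.wider (by decide : 11 ≤ P.N)).renet hP ren)
  have h : subW (ext _ ws) [[0], [2]] = ⊤ :=
    (subW_ext (len c) ws (by decide)).trans ((subW_map_gensW _ [[0], [2]]).trans M11pP.model.top)
  obtain ⟨f⟩ := (rel (ctx0 c) c1 ((faithful_eF _).mono le_top)).equiv_of_card
    (UB.of_card (by rw [h, Subgroup.card_top, M11pP.card]) (by norm_num)) (G_lb c1)
  exact ⟨(Subgroup.topEquiv.symm.trans (MulEquiv.subgroupCongr h.symm)).trans f⟩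

theorem card : Nat.card (subW gs1 [[0], [2]]) = 7920 := (Nat.card_congr isoP.some.toEquiv).symm.trans M11pP.card

theorem ub : UB (subW gs1 [[0], [2]]) 7920 := UB.of_card card (by norm_num)

theorem simple : IsSimpleGroup (subW gs1 [[0], [2]]) :=
  have := M11pP.simple
  isoP.some.symm.isSimpleGroup

theorem iso : Nonempty ((subW gs1 [[0], [2]]) ≃* Cfsg.Spor.M11) :=
  Spor.nonempty_mulEquiv_of_isM11 ⟨simple, card⟩ ⟨Spor.M11_simple, Spor.card_M11⟩


end CL.Std.M11
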