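/-
A model of `2 × M12` on 26 points.
Generated by tools/pg.
-/
import Cfsg.Agent.Spor.PGCov
import Cfsg.Agent.Spor.PGStruct
import Cfsg.Agent.Fus.SimpleM12
import Cfsg.Agent.Spor.PGCtx

set_option autoImplicit false
set_option maxRecDepth 200000
set_option Elab.async false
set_option linter.unusedVariables false

namespace CL.Co3M.T
open CL.PG

def P : Par := ⟨26, 32, 5, 3⟩
theorem hP : P.Ok := by decide
noncomputable def a0 : Net := (.cons 1 (nat_lit 0x1000000)
 .nil)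
noncomputable def a1 : Net := (.cons 16 (nat_lit 0xa8)
 (.cons 8 (nat_lit 0x94)
 (.cons 4 (nat_lit 0x20606)
 (.cons 2 (nat_lit 0x1022)
 (.cons 1 (nat_lit 0x440044)
 (.cons 2 (nat_lit 0x22)
 (.cons 4 (nat_lit 0x400)
 (.cons 8 (nat_lit 0x14)
 (.cons 16 (nat_lit 0xa8)
 .nil)))))))))
noncomputable def a2 : Net := (.cons 16 (nat_lit 0x2d)
 (.cons 8 (nat_lit 0x20)
 (.cons 4 (nat_lit 0xe050c)
 (.cons 2 (nat_lit 0x102030)
 (.cons 1 (nat_lit 0x404410)
 (.cons 2 (nat_lit 0x2020)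
 (.cons 4 (nat_lit 0xc040c)
 (.cons 8 (nat_lit 0x20)
 (.cons 16 (nat_lit 0x30)
 .nil)))))))))
noncomputable def a3 : Net := (.cons 16 (nat_lit 0x58a0)
 (.cons 8 (nat_lit 0x180001)
 (.cons 4 (nat_lit 0x30004)
 (.cons 2 (nat_lit 0x10000012)
 (.cons 1 (nat_lit 0x400004)
 (.cons 2 (nat_lit 0x2)
 (.cons 4 (nat_lit 0x4)
 (.cons 8 (nat_lit 0x100000)
 (.cons 16 (nat_lit 0x58a0)
 .nil)))))))))
noncomputable def a4 : Net := (.cons 16 (nat_lit 0x8425)
 (.cons 8 (nat_lit 0x840000)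
 (.cons 4 (nat_lit 0x80c)
 (.cons 2 (nat_lit 0x20022)
 (.cons 1 (nat_lit 0x44014)
 (.cons 2 (nat_lit 0x20022)
 (.cons 4 (nat_lit 0x80c)
 (.cons 8 (nat_lit 0x40000)
 (.cons 16 (nat_lit 0x8400)
 .nil)))))))))
noncomputable def a5 : Net := (.cons 16 (nat_lit 0xd4b0)
 (.cons 8 (nat_lit 0x540071)
 (.cons 4 (nat_lit 0xc090c02)
 (.cons 2 (nat_lit 0x10022200)
 (.cons 1 (nat_lit 0x4441404)
 (.cons 2 (nat_lit 0x22200)
 (.cons 4 (nat_lit 0xc080c00)
 (.cons 8 (nat_lit 0x540070)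
 (.cons 16 (nat_lit 0xd410)
 .nil)))))))))
noncomputable def a6 : Net := (.cons 16 (nat_lit 0x849d)
 (.cons 8 (nat_lit 0x9c0022)
 (.cons 4 (nat_lit 0xc0e0102)
 (.cons 2 (nat_lit 0x30200020)
 (.cons 1 (nat_lit 0x10440040)
 (.cons 2 (nat_lit 0x20200020)
 (.cons 4 (nat_lit 0xc0c0000)
 (.cons 8 (nat_lit 0x1c0020)
 (.cons 16 (nat_lit 0x8438)
 .nil)))))))))
noncomputable def a7 : Net := (.cons 16 (nat_lit 0x3288)
 (.cons 8 (nat_lit 0x560081)
 (.cons 4 (nat_lit 0x209080e)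
 (.cons 2 (nat_lit 0x22220012)
 (.cons 1 (nat_lit 0x44000410)
 (.cons 2 (nat_lit 0x22000000)
 (.cons 4 (nat_lit 0x80a)
 (.cons 8 (nat_lit 0x740000)
 (.cons 16 (nat_lit 0x3228)
 .nil)))))))))
noncomputable def a8 : Net := (.cons 16 (nat_lit 0x14ed)
 (.cons 8 (nat_lit 0x5c0068)
 (.cons 4 (nat_lit 0xc090006)
 (.cons 2 (nat_lit 0x22010)
 (.cons 1 (nat_lit 0x40044014)
 (.cons 2 (nat_lit 0x2000)
 (.cons 4 (nat_lit 0x8080006)
 (.cons 8 (nat_lit 0x5c0060)
 (.cons 16 (nat_lit 0x14cc)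
 .nil)))))))))
noncomputable def a9 : Net := (.cons 16 (nat_lit 0xc403)
 (.cons 8 (nat_lit 0x4800b0)
 (.cons 4 (nat_lit 0x40904)
 (.cons 2 (nat_lit 0x212013)
 (.cons 1 (nat_lit 0x4110114)
 (.cons 4 (nat_lit 0x8000004)
 (.cons 8 (nat_lit 0x800b0)
 (.cons 16 (nat_lit 0xc440)
 .nil))))))))
noncomputable def a10 : Net := (.cons 16 (nat_lit 0x1c35)
 (.cons 8 (nat_lit 0x140019)
 (.cons 4 (nat_lit 0xc030a04)
 (.cons 2 (nat_lit 0x30023002)
 (.cons 1 (nat_lit 0x10041004)
 (.cons 2 (nat_lit 0x20022002)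
 (.cons 4 (nat_lit 0xc000804)
 (.cons 8 (nat_lit 0x1c0018)
 (.cons 16 (nat_lit 0x1c08)
 .nil)))))))))
noncomputable def a11 : Net := (.cons 16 (nat_lit 0xe914)
 (.cons 8 (nat_lit 0xa90004)
 (.cons 4 (nat_lit 0x4030604)
 (.cons 2 (nat_lit 0x20201030)
 (.cons 1 (nat_lit 0x4011050)
 (.cons 4 (nat_lit 0x4020604)
 (.cons 8 (nat_lit 0xe00004)
 (.cons 16 (nat_lit 0xe930)
 .nil))))))))
noncomputable def a12 : Net := (.cons 16 (nat_lit 0xcd84)
 (.cons 8 (nat_lit 0x65005e)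
 (.cons 4 (nat_lit 0xc0800)
 (.cons 2 (nat_lit 0x323200)
 (.cons 1 (nat_lit 0x40144400)
 (.cons 2 (nat_lit 0x20200200)
 (.cons 4 (nat_lit 0xa00)
 (.cons 8 (nat_lit 0xec005c)
 (.cons 16 (nat_lit 0xcd20)
 .nil)))))))))
noncomputable def a13 : Net := (.cons 16 (nat_lit 0x1c8)
 (.cons 8 (nat_lit 0xd002c)
 (.cons 4 (nat_lit 0xc0204)
 (.cons 2 (nat_lit 0x3031200)
 (.cons 1 (nat_lit 0x1001450)
 (.cons 2 (nat_lit 0x2002200)
 (.cons 4 (nat_lit 0xc0c00)
 (.cons 8 (nat_lit 0xc003c)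
 (.cons 16 (nat_lit 0x168)
 .nil)))))))))
noncomputable def a14 : Net := (.cons 16 (nat_lit 0xfae8)
 (.cons 8 (nat_lit 0x140040)
 (.cons 4 (nat_lit 0x4050408)
 (.cons 2 (nat_lit 0x12010020)
 (.cons 1 (nat_lit 0x54040010)
 (.cons 2 (nat_lit 0x20020)
 (.cons 4 (nat_lit 0xc0008)
 (.cons 8 (nat_lit 0xe0040)
 (.cons 16 (nat_lit 0xfa50)
 .nil)))))))))
noncomputable def a15 : Net := (.cons 16 (nat_lit 0x8932)
 (.cons 8 (nat_lit 0x75000a)
 (.cons 4 (nat_lit 0x1080e0a)
 (.cons 2 (nat_lit 0x1003002)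
 (.cons 1 (nat_lit 0x40004010)
 (.cons 2 (nat_lit 0x20000000)
 (.cons 4 (nat_lit 0x800080a)
 (.cons 8 (nat_lit 0x740018)
 (.cons 16 (nat_lit 0x8932)
 .nil)))))))))
noncomputable def a16 : Net := (.cons 16 (nat_lit 0x7378)
 (.cons 8 (nat_lit 0x2500c0)
 (.cons 4 (nat_lit 0x302040a)
 (.cons 2 (nat_lit 0x13300022)
 (.cons 1 (nat_lit 0x14014010)
 (.cons 2 (nat_lit 0x2000020)
 (.cons 4 (nat_lit 0x4020802)
 (.cons 8 (nat_lit 0x3400c0)
 (.cons 16 (nat_lit 0x7378)
 .nil)))))))))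
noncomputable def a17 : Net := (.cons 16 (nat_lit 0xb7f0)
 (.cons 8 (nat_lit 0x8b0070)
 (.cons 4 (nat_lit 0x3030800)
 (.cons 2 (nat_lit 0x203000)
 (.cons 1 (nat_lit 0x4401040)
 (.cons 2 (nat_lit 0x200000)
 (.cons 4 (nat_lit 0x8040800)
 (.cons 8 (nat_lit 0x280070)
 (.cons 16 (nat_lit 0xb7f0)
 .nil)))))))))
noncomputable def a18 : Net := (.cons 16 (nat_lit 0xa900)
 (.cons 8 (nat_lit 0xf100d0)
 (.cons 4 (nat_lit 0x80c0400)
 (.cons 2 (nat_lit 0x200200)
 (.cons 1 (nat_lit 0x50404400)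
 (.cons 2 (nat_lit 0x200200)
 (.cons 4 (nat_lit 0x8040400)
 (.cons 8 (nat_lit 0xf000c0)
 (.cons 16 (nat_lit 0xa900)
 .nil)))))))))
noncomputable def a19 : Net := (.cons 16 (nat_lit 0x8c41)
 (.cons 8 (nat_lit 0xf00085)
 (.cons 4 (nat_lit 0xe080300)
 (.cons 2 (nat_lit 0x12011322)
 (.cons 1 (nat_lit 0x40041441)
 (.cons 2 (nat_lit 0x22220)
 (.cons 4 (nat_lit 0x2000002)
 (.cons 8 (nat_lit 0x7c00f4)
 (.cons 16 (nat_lit 0x8c02)
 .nil)))))))))
noncomputable def a20 : Net := (.cons 16 (nat_lit 0x8c41)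
 (.cons 8 (nat_lit 0xf00085)
 (.cons 4 (nat_lit 0xe080300)
 (.cons 2 (nat_lit 0x12011322)
 (.cons 1 (nat_lit 0x40041441)
 (.cons 2 (nat_lit 0x22220)
 (.cons 4 (nat_lit 0x2000002)
 (.cons 8 (nat_lit 0x7c00f4)
 (.cons 16 (nat_lit 0x8c02)
 .nil)))))))))
noncomputable def a21 : Net := (.cons 16 (nat_lit 0xdcac)
 (.cons 8 (nat_lit 0x4c0036)
 (.cons 4 (nat_lit 0x8080102)
 (.cons 2 (nat_lit 0x30220100)
 (.cons 1 (nat_lit 0x15040000)
 (.cons 2 (nat_lit 0x20020000)
 (.cons 4 (nat_lit 0x40c0000)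
 (.cons 8 (nat_lit 0xcc0034)
 (.cons 16 (nat_lit 0xdc8c)
 .nil)))))))))
noncomputable def a22 : Net := (.cons 16 (nat_lit 0x7c60)
 (.cons 8 (nat_lit 0x7c0082)
 (.cons 4 (nat_lit 0x80f0002)
 (.cons 2 (nat_lit 0x30020012)
 (.cons 1 (nat_lit 0x51440014)
 (.cons 2 (nat_lit 0x20)
 (.cons 4 (nat_lit 0xc000004)
 (.cons 8 (nat_lit 0x500080)
 (.cons 16 (nat_lit 0x7cc4)
 .nil)))))))))
noncomputable def a23 : Net := (.cons 16 (nat_lit 0xc222)
 (.cons 8 (nat_lit 0x8400e0)
 (.cons 4 (nat_lit 0x80104)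
 (.cons 2 (nat_lit 0x3303012)
 (.cons 1 (nat_lit 0x44510110)
 (.cons 2 (nat_lit 0x2000200)
 (.cons 4 (nat_lit 0x6)
 (.cons 8 (nat_lit 0x8400fa)
 (.cons 16 (nat_lit 0xc182)
 .nil)))))))))
noncomputable def a24 : Net := (.cons 16 (nat_lit 0x1acc)
 (.cons 8 (nat_lit 0x90001e)
 (.cons 4 (nat_lit 0x2050900)
 (.cons 2 (nat_lit 0x32320)
 (.cons 1 (nat_lit 0x10011440)
 (.cons 2 (nat_lit 0x20002200)
 (.cons 4 (nat_lit 0xa000800)
 (.cons 8 (nat_lit 0x9200de)
 (.cons 16 (nat_lit 0x1ad0)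
 .nil)))))))))
noncomputable def a25 : Net := (.cons 16 (nat_lit 0x88e4)
 (.cons 8 (nat_lit 0x900008)
 (.cons 4 (nat_lit 0x80c0000)
 (.cons 2 (nat_lit 0x20210222)
 (.cons 1 (nat_lit 0x11001104)
 (.cons 2 (nat_lit 0x20000202)
 (.cons 4 (nat_lit 0x80c0000)
 (.cons 8 (nat_lit 0x100008)
 (.cons 16 (nat_lit 0x88e4)
 .nil)))))))))
noncomputable def a26 : Net := (.cons 16 (nat_lit 0xab60)
 (.cons 8 (nat_lit 0xf50040)
 (.cons 4 (nat_lit 0xe02000e)
 (.cons 2 (nat_lit 0x31200002)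
 (.cons 1 (nat_lit 0x50010014)
 (.cons 2 (nat_lit 0x22)
 (.cons 4 (nat_lit 0xe)
 (.cons 8 (nat_lit 0xd60000)
 (.cons 16 (nat_lit 0xab60)
 .nil)))))))))
noncomputable def a27 : Net := (.cons 16 (nat_lit 0xc0e8)
 (.cons 8 (nat_lit 0x3800d0)
 (.cons 4 (nat_lit 0x8040a08)
 (.cons 2 (nat_lit 0x30010000)
 (.cons 1 (nat_lit 0x11004110)
 (.cons 2 (nat_lit 0x20)
 (.cons 4 (nat_lit 0x8)
 (.cons 8 (nat_lit 0x3800c0)
 (.cons 16 (nat_lit 0xc0d0)
 .nil)))))))))
noncomputable def a28 : Net := (.cons 16 (nat_lit 0x5088)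
 (.cons 8 (nat_lit 0x100088)
 (.cons 4 (nat_lit 0x60a08)
 (.cons 2 (nat_lit 0x10320010)
 (.cons 1 (nat_lit 0x1010000)
 (.cons 2 (nat_lit 0x20000)
 (.cons 4 (nat_lit 0x60000)
 (.cons 8 (nat_lit 0x100000)
 (.cons 16 (nat_lit 0x5088)
 .nil)))))))))
noncomputable def a29 : Net := (.cons 1 (nat_lit 0x1000000)
 .nil)
noncomputable def a30 : Net := (.cons 16 (nat_lit 0x84a0)
 (.cons 8 (nat_lit 0x3a0022)
 (.cons 4 (nat_lit 0x2000901)
 (.cons 2 (nat_lit 0x10023)
 (.cons 1 (nat_lit 0x14404041)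
 (.cons 2 (nat_lit 0x2000022)
 (.cons 4 (nat_lit 0x802)
 (.cons 8 (nat_lit 0xba0022)
 (.cons 16 (nat_lit 0x8484)
 .nil)))))))))
noncomputable def a31 : Net := (.cons 16 (nat_lit 0xed6)
 (.cons 8 (nat_lit 0x3300e1)
 (.cons 4 (nat_lit 0xd080107)
 (.cons 2 (nat_lit 0x10012013)
 (.cons 1 (nat_lit 0x10044145)
 (.cons 2 (nat_lit 0x20022020)
 (.cons 4 (nat_lit 0xc000008)
 (.cons 8 (nat_lit 0x3600b0)
 (.cons 16 (nat_lit 0xd6e)
 .nil)))))))))
noncomputable def a32 : Net := (.cons 16 (nat_lit 0xc62)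
 (.cons 8 (nat_lit 0xc0003)
 (.cons 4 (nat_lit 0x50200)
 (.cons 2 (nat_lit 0x13020)
 (.cons 1 (nat_lit 0x1400041)
 (.cons 2 (nat_lit 0x200000)
 (.cons 4 (nat_lit 0x2)
 (.cons 8 (nat_lit 0x400f0)
 (.cons 16 (nat_lit 0xc12)
 .nil)))))))))
noncomputable def a33 : Net := (.cons 16 (nat_lit 0xba58)
 (.cons 8 (nat_lit 0xc500c0)
 (.cons 4 (nat_lit 0x9000408)
 (.cons 2 (nat_lit 0x23220010)
 (.cons 1 (nat_lit 0x4014150)
 (.cons 2 (nat_lit 0x2000000)
 (.cons 4 (nat_lit 0xe000008)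
 (.cons 8 (nat_lit 0xce00c0)
 (.cons 16 (nat_lit 0xb9d8)
 .nil)))))))))
noncomputable def a34 : Net := (.cons 16 (nat_lit 0x8045)
 (.cons 8 (nat_lit 0x9000fc)
 (.cons 4 (nat_lit 0xc0c01)
 (.cons 2 (nat_lit 0x20233020)
 (.cons 1 (nat_lit 0x11004444)
 (.cons 2 (nat_lit 0x20002020)
 (.cons 4 (nat_lit 0x40e04)
 (.cons 8 (nat_lit 0x9000d8)
 (.cons 16 (nat_lit 0x8044)
 .nil)))))))))
noncomputable def a35 : Net := (.cons 16 (nat_lit 0x77c9)
 (.cons 8 (nat_lit 0x750000)
 (.cons 4 (nat_lit 0x2030804)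
 (.cons 2 (nat_lit 0x13320020)
 (.cons 1 (nat_lit 0x14140004)
 (.cons 2 (nat_lit 0x2020000)
 (.cons 4 (nat_lit 0x4000004)
 (.cons 8 (nat_lit 0x80)
 (.cons 16 (nat_lit 0x77c8)
 .nil)))))))))
noncomputable def a36 : Net := (.cons 16 (nat_lit 0xc201)
 (.cons 8 (nat_lit 0x4300f1)
 (.cons 4 (nat_lit 0x8010c03)
 (.cons 2 (nat_lit 0x2230100)
 (.cons 1 (nat_lit 0x144101)
 (.cons 2 (nat_lit 0x2000)
 (.cons 4 (nat_lit 0x80a0402)
 (.cons 8 (nat_lit 0x8200f0)
 (.cons 16 (nat_lit 0xc100)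
 .nil)))))))))
noncomputable def a37 : Net := (.cons 16 (nat_lit 0x8240)
 (.cons 8 (nat_lit 0x200f1)
 (.cons 4 (nat_lit 0x8010c03)
 (.cons 2 (nat_lit 0x2330000)
 (.cons 1 (nat_lit 0x144001)
 (.cons 2 (nat_lit 0x2000)
 (.cons 4 (nat_lit 0x80a0402)
 (.cons 8 (nat_lit 0x8200b0)
 (.cons 16 (nat_lit 0x8240)
 .nil)))))))))
noncomputable def a38 : Net := (.cons 1 (nat_lit 0x1000000)
 .nil)
noncomputable def a39 : Net := (.cons 16 (nat_lit 0xcd20)
 (.cons 8 (nat_lit 0xed0022)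
 (.cons 4 (nat_lit 0x8000a)
 (.cons 2 (nat_lit 0x20100032)
 (.cons 1 (nat_lit 0x40440014)
 (.cons 2 (nat_lit 0x20002)
 (.cons 4 (nat_lit 0x80008)
 (.cons 8 (nat_lit 0x640020)
 (.cons 16 (nat_lit 0xcd84)
 .nil)))))))))
noncomputable def a40 : Net := (.cons 16 (nat_lit 0xcc06)
 (.cons 8 (nat_lit 0x6c00ea)
 (.cons 4 (nat_lit 0x40c0302)
 (.cons 2 (nat_lit 0x20322202)
 (.cons 1 (nat_lit 0x144014)
 (.cons 2 (nat_lit 0x200002)
 (.cons 4 (nat_lit 0x802)
 (.cons 8 (nat_lit 0xe000e8)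
 (.cons 16 (nat_lit 0xcc60)
 .nil)))))))))
noncomputable def a41 : Net := (.cons 16 (nat_lit 0x4822)
 (.cons 8 (nat_lit 0x80096)
 (.cons 4 (nat_lit 0x80a0804)
 (.cons 2 (nat_lit 0x320022)
 (.cons 1 (nat_lit 0x40501404)
 (.cons 2 (nat_lit 0x200)
 (.cons 4 (nat_lit 0x80c0a00)
 (.cons 8 (nat_lit 0x80010)
 (.cons 16 (nat_lit 0x4840)
 .nil)))))))))
noncomputable def a42 : Net := (.cons 16 (nat_lit 0x70a0)
 (.cons 8 (nat_lit 0x140008)
 (.cons 4 (nat_lit 0x2030404)
 (.cons 2 (nat_lit 0x12000222)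
 (.cons 1 (nat_lit 0x4004004)
 (.cons 2 (nat_lit 0x2000002)
 (.cons 4 (nat_lit 0x2000404)
 (.cons 8 (nat_lit 0x140008)
 (.cons 16 (nat_lit 0x70a0)
 .nil)))))))))
noncomputable def a43 : Net := (.cons 16 (nat_lit 0x4822)
 (.cons 8 (nat_lit 0x80096)
 (.cons 4 (nat_lit 0x80a0804)
 (.cons 2 (nat_lit 0x320022)
 (.cons 1 (nat_lit 0x40501404)
 (.cons 2 (nat_lit 0x200)
 (.cons 4 (nat_lit 0x80c0a00)
 (.cons 8 (nat_lit 0x80010)
 (.cons 16 (nat_lit 0x4840)
 .nil)))))))))
noncomputable def a44 : Net := (.cons 16 (nat_lit 0xe628)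
 (.cons 8 (nat_lit 0x160008)
 (.cons 4 (nat_lit 0x20c000a)
 (.cons 2 (nat_lit 0x32200032)
 (.cons 1 (nat_lit 0x4440040)
 (.cons 2 (nat_lit 0x2020020)
 (.cons 4 (nat_lit 0xe)
 (.cons 8 (nat_lit 0xb40000)
 (.cons 16 (nat_lit 0xe688)
 .nil)))))))))
noncomputable def a45 : Net := (.cons 16 (nat_lit 0xa8)
 (.cons 8 (nat_lit 0x94)
 (.cons 4 (nat_lit 0x20606)
 (.cons 2 (nat_lit 0x1022)
 (.cons 1 (nat_lit 0x440044)
 (.cons 2 (nat_lit 0x22)
 (.cons 4 (nat_lit 0x400)
 (.cons 8 (nat_lit 0x14)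
 (.cons 16 (nat_lit 0xa8)
 .nil)))))))))
noncomputable def a46 : Net := (.cons 16 (nat_lit 0xbb8e)
 (.cons 8 (nat_lit 0x830040)
 (.cons 4 (nat_lit 0x50000)
 (.cons 2 (nat_lit 0x10)
 (.cons 1 (nat_lit 0x1450104)
 (.cons 2 (nat_lit 0x2200002)
 (.cons 4 (nat_lit 0x200000c)
 (.cons 8 (nat_lit 0x380040)
 (.cons 16 (nat_lit 0xbb9c)
 .nil)))))))))
noncomputable def a47 : Net := (.cons 16 (nat_lit 0xa8ac)
 (.cons 8 (nat_lit 0xf00040)
 (.cons 4 (nat_lit 0x80a010a)
 (.cons 2 (nat_lit 0x30201010)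
 (.cons 1 (nat_lit 0x10010014)
 (.cons 2 (nat_lit 0x20020002)
 (.cons 4 (nat_lit 0x800000c)
 (.cons 8 (nat_lit 0x700040)
 (.cons 16 (nat_lit 0xa8ac)
 .nil)))))))))
noncomputable def a48 : Net := (.cons 16 (nat_lit 0x4)
 (.cons 8 (nat_lit 0x8)
 (.cons 4 (nat_lit 0x2010c)
 (.cons 2 (nat_lit 0x30200)
 (.cons 1 (nat_lit 0x1404000)
 (.cons 4 (nat_lit 0x20000)
 (.cons 8 (nat_lit 0x8)
 (.cons 16 (nat_lit 0x4)
 .nil))))))))
noncomputable def a49 : Net := (.cons 16 (nat_lit 0x4a14)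
 (.cons 8 (nat_lit 0xd80018)
 (.cons 4 (nat_lit 0x3080104)
 (.cons 2 (nat_lit 0x10200002)
 (.cons 1 (nat_lit 0x40400104)
 (.cons 2 (nat_lit 0x20000202)
 (.cons 4 (nat_lit 0xa080a00)
 (.cons 8 (nat_lit 0xd80088)
 (.cons 16 (nat_lit 0x498c)
 .nil)))))))))
noncomputable def a50 : Net := (.cons 1 (nat_lit 0x1000000)
 .nil)
noncomputable def a51 : Net := (.cons 16 (nat_lit 0x4822)
 (.cons 8 (nat_lit 0x80096)
 (.cons 4 (nat_lit 0x80a0804)
 (.cons 2 (nat_lit 0x320022)
 (.cons 1 (nat_lit 0x40501404)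
 (.cons 2 (nat_lit 0x200)
 (.cons 4 (nat_lit 0x80c0a00)
 (.cons 8 (nat_lit 0x80010)
 (.cons 16 (nat_lit 0x4840)
 .nil)))))))))
noncomputable def a52 : Net := (.cons 16 (nat_lit 0x8014)
 (.cons 8 (nat_lit 0x800020)
 (.cons 4 (nat_lit 0xe050c)
 (.cons 2 (nat_lit 0x302012)
 (.cons 1 (nat_lit 0x104044)
 (.cons 2 (nat_lit 0x202002)
 (.cons 4 (nat_lit 0xc040c)
 (.cons 8 (nat_lit 0x20)
 (.cons 16 (nat_lit 0x8008)
 .nil)))))))))
noncomputable def a53 : Net := (.cons 16 (nat_lit 0xe688)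
 (.cons 8 (nat_lit 0x4a0008)
 (.cons 4 (nat_lit 0xe)
 (.cons 2 (nat_lit 0x2320012)
 (.cons 1 (nat_lit 0x44040010)
 (.cons 2 (nat_lit 0x20020000)
 (.cons 4 (nat_lit 0xc02000a)
 (.cons 8 (nat_lit 0xe80000)
 (.cons 16 (nat_lit 0xe628)
 .nil)))))))))
noncomputable def a54 : Net := (.cons 16 (nat_lit 0xa8)
 (.cons 8 (nat_lit 0x94)
 (.cons 4 (nat_lit 0x20606)
 (.cons 2 (nat_lit 0x1022)
 (.cons 1 (nat_lit 0x440044)
 (.cons 2 (nat_lit 0x22)
 (.cons 4 (nat_lit 0x400)
 (.cons 8 (nat_lit 0x14)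
 (.cons 16 (nat_lit 0xa8)
 .nil)))))))))
noncomputable def a55 : Net := (.cons 16 (nat_lit 0x3288)
 (.cons 8 (nat_lit 0x560081)
 (.cons 4 (nat_lit 0x209080e)
 (.cons 2 (nat_lit 0x22220012)
 (.cons 1 (nat_lit 0x44000410)
 (.cons 2 (nat_lit 0x22000000)
 (.cons 4 (nat_lit 0x80a)
 (.cons 8 (nat_lit 0x740000)
 (.cons 16 (nat_lit 0x3228)
 .nil)))))))))
noncomputable def a56 : Net := (.cons 16 (nat_lit 0x8480)
 (.cons 8 (nat_lit 0xa00022)
 (.cons 4 (nat_lit 0x4000906)
 (.cons 2 (nat_lit 0x20000012)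
 (.cons 1 (nat_lit 0x40404004)
 (.cons 2 (nat_lit 0x20000002)
 (.cons 4 (nat_lit 0x4000806)
 (.cons 8 (nat_lit 0xa00020)
 (.cons 16 (nat_lit 0x8400)
 .nil)))))))))
noncomputable def a57 : Net := (.cons 16 (nat_lit 0x8425)
 (.cons 8 (nat_lit 0x840000)
 (.cons 4 (nat_lit 0x80c)
 (.cons 2 (nat_lit 0x20022)
 (.cons 1 (nat_lit 0x44014)
 (.cons 2 (nat_lit 0x20022)
 (.cons 4 (nat_lit 0x80c)
 (.cons 8 (nat_lit 0x40000)
 (.cons 16 (nat_lit 0x8400)
 .nil)))))))))
noncomputable def a58 : Net := (.cons 16 (nat_lit 0x28)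
 (.cons 8 (nat_lit 0xe8)
 (.cons 4 (nat_lit 0x2050a)
 (.cons 2 (nat_lit 0x200)
 (.cons 1 (nat_lit 0x440440)
 (.cons 2 (nat_lit 0x200)
 (.cons 4 (nat_lit 0x408)
 (.cons 8 (nat_lit 0x68)
 (.cons 16 (nat_lit 0x28)
 .nil)))))))))
noncomputable def a59 : Net := (.cons 16 (nat_lit 0x8014)
 (.cons 8 (nat_lit 0x800020)
 (.cons 4 (nat_lit 0xe050c)
 (.cons 2 (nat_lit 0x302012)
 (.cons 1 (nat_lit 0x104044)
 (.cons 2 (nat_lit 0x202002)
 (.cons 4 (nat_lit 0xc040c)
 (.cons 8 (nat_lit 0x20)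
 (.cons 16 (nat_lit 0x8008)
 .nil)))))))))
noncomputable def a60 : Net := (.cons 16 (nat_lit 0x8414)
 (.cons 8 (nat_lit 0x1c005a)
 (.cons 4 (nat_lit 0xc0e0e08)
 (.cons 2 (nat_lit 0x30202200)
 (.cons 1 (nat_lit 0x10441440)
 (.cons 2 (nat_lit 0x20202200)
 (.cons 4 (nat_lit 0xc0c0c08)
 (.cons 8 (nat_lit 0x9c0058)
 (.cons 16 (nat_lit 0x84a8)
 .nil)))))))))
noncomputable def a61 : Net := (.cons 16 (nat_lit 0xa8)
 (.cons 8 (nat_lit 0x94)
 (.cons 4 (nat_lit 0x20606)
 (.cons 2 (nat_lit 0x1022)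
 (.cons 1 (nat_lit 0x440044)
 (.cons 2 (nat_lit 0x22)
 (.cons 4 (nat_lit 0x400)
 (.cons 8 (nat_lit 0x14)
 (.cons 16 (nat_lit 0xa8)
 .nil)))))))))
noncomputable def a62 : Net := (.cons 16 (nat_lit 0x849d)
 (.cons 8 (nat_lit 0x9c0022)
 (.cons 4 (nat_lit 0xc0e0102)
 (.cons 2 (nat_lit 0x30200020)
 (.cons 1 (nat_lit 0x10440040)
 (.cons 2 (nat_lit 0x20200020)
 (.cons 4 (nat_lit 0xc0c0000)
 (.cons 8 (nat_lit 0x1c0020)
 (.cons 16 (nat_lit 0x8438)
 .nil)))))))))
noncomputable def a63 : Net := (.cons 16 (nat_lit 0x8014)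
 (.cons 8 (nat_lit 0x800020)
 (.cons 4 (nat_lit 0xe050c)
 (.cons 2 (nat_lit 0x302012)
 (.cons 1 (nat_lit 0x104044)
 (.cons 2 (nat_lit 0x202002)
 (.cons 4 (nat_lit 0xc040c)
 (.cons 8 (nat_lit 0x20)
 (.cons 16 (nat_lit 0x8008)
 .nil)))))))))
noncomputable def a64 : Net := (.cons 16 (nat_lit 0x91)
 (.cons 8 (nat_lit 0x4c)
 (.cons 4 (nat_lit 0xe0204)
 (.cons 2 (nat_lit 0x100020)
 (.cons 1 (nat_lit 0x40444)
 (.cons 2 (nat_lit 0x20)
 (.cons 4 (nat_lit 0xc0004)
 (.cons 8 (nat_lit 0x4c)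
 (.cons 16 (nat_lit 0x90)
 .nil)))))))))
noncomputable def a65 : Net := (.cons 16 (nat_lit 0x8425)
 (.cons 8 (nat_lit 0x840000)
 (.cons 4 (nat_lit 0x80c)
 (.cons 2 (nat_lit 0x20022)
 (.cons 1 (nat_lit 0x44014)
 (.cons 2 (nat_lit 0x20022)
 (.cons 4 (nat_lit 0x80c)
 (.cons 8 (nat_lit 0x40000)
 (.cons 16 (nat_lit 0x8400)
 .nil)))))))))
noncomputable def a66 : Net := (.cons 16 (nat_lit 0xd408)
 (.cons 8 (nat_lit 0xb00009)
 (.cons 4 (nat_lit 0x1010200)
 (.cons 2 (nat_lit 0x31000000)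
 (.cons 1 (nat_lit 0x41040000)
 (.cons 2 (nat_lit 0x20000000)
 (.cons 4 (nat_lit 0x6000000)
 (.cons 8 (nat_lit 0x300000)
 (.cons 16 (nat_lit 0xd408)
 .nil)))))))))
noncomputable def a67 : Net := (.cons 16 (nat_lit 0xeb20)
 (.cons 8 (nat_lit 0xd10014)
 (.cons 4 (nat_lit 0xa0a0401)
 (.cons 2 (nat_lit 0x20001000)
 (.cons 1 (nat_lit 0x10400100)
 (.cons 2 (nat_lit 0x20000000)
 (.cons 4 (nat_lit 0x8080400)
 (.cons 8 (nat_lit 0x500014)
 (.cons 16 (nat_lit 0xeb20)
 .nil)))))))))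
noncomputable def a68 : Net := (.cons 16 (nat_lit 0x2d)
 (.cons 8 (nat_lit 0x20)
 (.cons 4 (nat_lit 0xe050c)
 (.cons 2 (nat_lit 0x102030)
 (.cons 1 (nat_lit 0x1404410)
 (.cons 2 (nat_lit 0x2020)
 (.cons 4 (nat_lit 0xc040c)
 (.cons 8 (nat_lit 0x20)
 (.cons 16 (nat_lit 0x30)
 .nil)))))))))
noncomputable def a69 : Net := (.cons 1 (nat_lit 0x1000000)
 .nil)
noncomputable def a70 : Net := (.cons 16 (nat_lit 0x9842)
 (.cons 8 (nat_lit 0x78003c)
 (.cons 4 (nat_lit 0x8090006)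
 (.cons 2 (nat_lit 0x30020222)
 (.cons 1 (nat_lit 0x41404)
 (.cons 2 (nat_lit 0x20002)
 (.cons 4 (nat_lit 0x8000004)
 (.cons 8 (nat_lit 0xe0001c)
 (.cons 16 (nat_lit 0x9816)
 .nil)))))))))
noncomputable def a71 : Net := (.cons 16 (nat_lit 0xd8a0)
 (.cons 8 (nat_lit 0xb00034)
 (.cons 4 (nat_lit 0xb0602)
 (.cons 2 (nat_lit 0x20213020)
 (.cons 1 (nat_lit 0x11404040)
 (.cons 2 (nat_lit 0x202020)
 (.cons 4 (nat_lit 0x20600)
 (.cons 8 (nat_lit 0xf80034)
 (.cons 16 (nat_lit 0xd8a0)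
 .nil)))))))))
noncomputable def a72 : Net := (.cons 16 (nat_lit 0x6c)
 (.cons 8 (nat_lit 0xac)
 (.cons 4 (nat_lit 0xa0a0a)
 (.cons 2 (nat_lit 0x12000)
 (.cons 1 (nat_lit 0x404400)
 (.cons 2 (nat_lit 0x200)
 (.cons 4 (nat_lit 0x80400)
 (.cons 8 (nat_lit 0xac)
 (.cons 16 (nat_lit 0x6c)
 .nil)))))))))
noncomputable def a73 : Net := (.cons 16 (nat_lit 0x8340)
 (.cons 8 (nat_lit 0x920040)
 (.cons 4 (nat_lit 0x20c0002)
 (.cons 2 (nat_lit 0x200000)
 (.cons 1 (nat_lit 0x10010114)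
 (.cons 4 (nat_lit 0x2080002)
 (.cons 8 (nat_lit 0x120000)
 (.cons 16 (nat_lit 0x8340)
 .nil))))))))
noncomputable def a74 : Net := (.cons 1 (nat_lit 0x1000000)
 .nil)
noncomputable def a75 : Net := (.cons 16 (nat_lit 0x5c8e)
 (.cons 8 (nat_lit 0x49001c)
 (.cons 4 (nat_lit 0xd0a0d04)
 (.cons 2 (nat_lit 0x1032022)
 (.cons 1 (nat_lit 0x41145004)
 (.cons 2 (nat_lit 0x220002)
 (.cons 4 (nat_lit 0xc0c0e04)
 (.cons 8 (nat_lit 0x4e001e)
 (.cons 16 (nat_lit 0x5c50)
 .nil)))))))))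
noncomputable def a76 : Net := (.cons 16 (nat_lit 0x1e0a)
 (.cons 8 (nat_lit 0xd50064)
 (.cons 4 (nat_lit 0x9030008)
 (.cons 2 (nat_lit 0x3032132)
 (.cons 1 (nat_lit 0x44154110)
 (.cons 2 (nat_lit 0x2020)
 (.cons 4 (nat_lit 0x20002)
 (.cons 8 (nat_lit 0xc60006)
 (.cons 16 (nat_lit 0x1d1c)
 .nil)))))))))
noncomputable def a77 : Net := (.cons 16 (nat_lit 0x2f46)
 (.cons 8 (nat_lit 0xaa0004)
 (.cons 4 (nat_lit 0x8040402)
 (.cons 2 (nat_lit 0x20011012)
 (.cons 1 (nat_lit 0x4100140)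
 (.cons 4 (nat_lit 0x20408)
 (.cons 8 (nat_lit 0xa00004)
 (.cons 16 (nat_lit 0x2f50)
 .nil))))))))
noncomputable def a78 : Net := (.cons 16 (nat_lit 0x6444)
 (.cons 8 (nat_lit 0xe80002)
 (.cons 4 (nat_lit 0x802000a)
 (.cons 2 (nat_lit 0x130030)
 (.cons 1 (nat_lit 0x4140054)
 (.cons 2 (nat_lit 0x20002)
 (.cons 4 (nat_lit 0x2000c)
 (.cons 8 (nat_lit 0xe80010)
 (.cons 16 (nat_lit 0x6444)
 .nil)))))))))
noncomputable def a79 : Net := (.cons 16 (nat_lit 0xc08)
 (.cons 8 (nat_lit 0xa00050)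
 (.cons 4 (nat_lit 0xc020600)
 (.cons 2 (nat_lit 0x20020202)
 (.cons 1 (nat_lit 0x41111444)
 (.cons 2 (nat_lit 0x20020202)
 (.cons 4 (nat_lit 0x4020600)
 (.cons 8 (nat_lit 0xa00050)
 (.cons 16 (nat_lit 0xc08)
 .nil)))))))))
noncomputable def a80 : Net := (.cons 16 (nat_lit 0x2748)
 (.cons 8 (nat_lit 0x7800c0)
 (.cons 4 (nat_lit 0x20008)
 (.cons 2 (nat_lit 0x30000002)
 (.cons 1 (nat_lit 0x44014114)
 (.cons 2 (nat_lit 0x20000022)
 (.cons 4 (nat_lit 0x6000008)
 (.cons 8 (nat_lit 0x5a0080)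
 (.cons 16 (nat_lit 0x2774)
 .nil)))))))))
noncomputable def a81 : Net := (.cons 1 (nat_lit 0x1000000)
 .nil)
noncomputable def a82 : Net := (.cons 16 (nat_lit 0x84a4)
 (.cons 8 (nat_lit 0x840022)
 (.cons 4 (nat_lit 0xc080c)
 (.cons 2 (nat_lit 0x300012)
 (.cons 1 (nat_lit 0x544044)
 (.cons 2 (nat_lit 0x2)
 (.cons 4 (nat_lit 0xe080e)
 (.cons 8 (nat_lit 0x40020)
 (.cons 16 (nat_lit 0x8400)
 .nil)))))))))
noncomputable def a83 : Net := (.cons 16 (nat_lit 0xa8)
 (.cons 8 (nat_lit 0x94)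
 (.cons 4 (nat_lit 0x20606)
 (.cons 2 (nat_lit 0x1022)
 (.cons 1 (nat_lit 0x440044)
 (.cons 2 (nat_lit 0x22)
 (.cons 4 (nat_lit 0x400)
 (.cons 8 (nat_lit 0x14)
 (.cons 16 (nat_lit 0xa8)
 .nil)))))))))
noncomputable def a84 : Net := (.cons 16 (nat_lit 0x8725)
 (.cons 8 (nat_lit 0x87005e)
 (.cons 4 (nat_lit 0x80a0201)
 (.cons 2 (nat_lit 0x320020)
 (.cons 1 (nat_lit 0x4501400)
 (.cons 2 (nat_lit 0x2000200)
 (.cons 4 (nat_lit 0x80e0400)
 (.cons 8 (nat_lit 0x5e)
 (.cons 16 (nat_lit 0x8700)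
 .nil)))))))))
noncomputable def a85 : Net := (.cons 16 (nat_lit 0xa6be)
 (.cons 8 (nat_lit 0xee0008)
 (.cons 4 (nat_lit 0xa080c)
 (.cons 2 (nat_lit 0x20020032)
 (.cons 1 (nat_lit 0x4144050)
 (.cons 2 (nat_lit 0x2000000)
 (.cons 4 (nat_lit 0x408080a)
 (.cons 8 (nat_lit 0x680008)
 (.cons 16 (nat_lit 0xa6dc)
 .nil)))))))))
noncomputable def a86 : Net := (.cons 16 (nat_lit 0xec01)
 (.cons 8 (nat_lit 0xac0008)
 (.cons 4 (nat_lit 0xc0a0100)
 (.cons 2 (nat_lit 0x320232)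
 (.cons 1 (nat_lit 0x45540004)
 (.cons 2 (nat_lit 0x20000002)
 (.cons 4 (nat_lit 0xa0000)
 (.cons 8 (nat_lit 0x80008)
 (.cons 16 (nat_lit 0xec00)
 .nil)))))))))
noncomputable def a87 : Net := (.cons 16 (nat_lit 0x8414)
 (.cons 8 (nat_lit 0x1c005a)
 (.cons 4 (nat_lit 0xc0e0e08)
 (.cons 2 (nat_lit 0x30202200)
 (.cons 1 (nat_lit 0x10441440)
 (.cons 2 (nat_lit 0x20202200)
 (.cons 4 (nat_lit 0xc0c0c08)
 (.cons 8 (nat_lit 0x9c0058)
 (.cons 16 (nat_lit 0x84a8)
 .nil)))))))))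
noncomputable def a88 : Net := (.cons 16 (nat_lit 0xa8)
 (.cons 8 (nat_lit 0x94)
 (.cons 4 (nat_lit 0x20606)
 (.cons 2 (nat_lit 0x1022)
 (.cons 1 (nat_lit 0x440044)
 (.cons 2 (nat_lit 0x22)
 (.cons 4 (nat_lit 0x400)
 (.cons 8 (nat_lit 0x14)
 (.cons 16 (nat_lit 0xa8)
 .nil)))))))))
noncomputable def a89 : Net := (.cons 16 (nat_lit 0xa6be)
 (.cons 8 (nat_lit 0xee0008)
 (.cons 4 (nat_lit 0xa080c)
 (.cons 2 (nat_lit 0x20020032)
 (.cons 1 (nat_lit 0x4144050)
 (.cons 2 (nat_lit 0x2000000)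
 (.cons 4 (nat_lit 0x408080a)
 (.cons 8 (nat_lit 0x680008)
 (.cons 16 (nat_lit 0xa6dc)
 .nil)))))))))
noncomputable def a90 : Net := (.cons 16 (nat_lit 0x212f)
 (.cons 8 (nat_lit 0x450090)
 (.cons 4 (nat_lit 0x80e01)
 (.cons 2 (nat_lit 0x20220022)
 (.cons 1 (nat_lit 0x40005404)
 (.cons 2 (nat_lit 0x20000002)
 (.cons 4 (nat_lit 0x4000204)
 (.cons 8 (nat_lit 0x640092)
 (.cons 16 (nat_lit 0x21cc)
 .nil)))))))))
noncomputable def a91 : Net := (.cons 16 (nat_lit 0x8425)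
 (.cons 8 (nat_lit 0x40042)
 (.cons 4 (nat_lit 0x2070c)
 (.cons 2 (nat_lit 0x20210)
 (.cons 1 (nat_lit 0x440440)
 (.cons 2 (nat_lit 0x20200)
 (.cons 4 (nat_lit 0x40c)
 (.cons 8 (nat_lit 0x840040)
 (.cons 16 (nat_lit 0x8480)
 .nil)))))))))
noncomputable def a92 : Net := (.cons 16 (nat_lit 0x7604)
 (.cons 8 (nat_lit 0x96003e)
 (.cons 4 (nat_lit 0x40d0d08)
 (.cons 2 (nat_lit 0x10301200)
 (.cons 1 (nat_lit 0x50114000)
 (.cons 2 (nat_lit 0x202000)
 (.cons 4 (nat_lit 0xc0600)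
 (.cons 8 (nat_lit 0x8200be)
 (.cons 16 (nat_lit 0x7624)
 .nil)))))))))
noncomputable def a93 : Net := (.cons 16 (nat_lit 0xd8e3)
 (.cons 8 (nat_lit 0x800010)
 (.cons 4 (nat_lit 0x80d0602)
 (.cons 2 (nat_lit 0x1003)
 (.cons 1 (nat_lit 0x40010144)
 (.cons 2 (nat_lit 0x20020)
 (.cons 4 (nat_lit 0x8080604)
 (.cons 8 (nat_lit 0x180014)
 (.cons 16 (nat_lit 0xd8f4)
 .nil)))))))))
noncomputable def a94 : Net := (.cons 16 (nat_lit 0x58e0)
 (.cons 8 (nat_lit 0x5600a4)
 (.cons 4 (nat_lit 0x409000c)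
 (.cons 2 (nat_lit 0x12002130)
 (.cons 1 (nat_lit 0x400104)
 (.cons 4 (nat_lit 0xa)
 (.cons 8 (nat_lit 0x160024)
 (.cons 16 (nat_lit 0x5834)
 .nil))))))))
noncomputable def a95 : Net := (.cons 16 (nat_lit 0x7e24)
 (.cons 8 (nat_lit 0x14009e)
 (.cons 4 (nat_lit 0x4050900)
 (.cons 2 (nat_lit 0x12102320)
 (.cons 1 (nat_lit 0x4401400)
 (.cons 2 (nat_lit 0x202200)
 (.cons 4 (nat_lit 0x20c0800)
 (.cons 8 (nat_lit 0x2c001e)
 (.cons 16 (nat_lit 0x7e04)
 .nil)))))))))
noncomputable def a96 : Net := (.cons 16 (nat_lit 0x5590)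
 (.cons 8 (nat_lit 0x8d005c)
 (.cons 4 (nat_lit 0x9070600)
 (.cons 2 (nat_lit 0x1101220)
 (.cons 1 (nat_lit 0x40005400)
 (.cons 4 (nat_lit 0x4040208)
 (.cons 8 (nat_lit 0xc800dc)
 (.cons 16 (nat_lit 0x5560)
 .nil))))))))
noncomputable def a97 : Net := (.cons 16 (nat_lit 0x2f3c)
 (.cons 8 (nat_lit 0xf70038)
 (.cons 4 (nat_lit 0x1060000)
 (.cons 2 (nat_lit 0x200010)
 (.cons 1 (nat_lit 0x4414000)
 (.cons 2 (nat_lit 0x2222000)
 (.cons 4 (nat_lit 0xc060804)
 (.cons 8 (nat_lit 0xf00038)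
 (.cons 16 (nat_lit 0x2f18)
 .nil)))))))))
noncomputable def a98 : Net := (.cons 16 (nat_lit 0x7378)
 (.cons 8 (nat_lit 0x2500c0)
 (.cons 4 (nat_lit 0x302040a)
 (.cons 2 (nat_lit 0x13300022)
 (.cons 1 (nat_lit 0x14014010)
 (.cons 2 (nat_lit 0x2000020)
 (.cons 4 (nat_lit 0x4020802)
 (.cons 8 (nat_lit 0x3400c0)
 (.cons 16 (nat_lit 0x7378)
 .nil)))))))))
noncomputable def a99 : Net := (.cons 16 (nat_lit 0x64c8)
 (.cons 8 (nat_lit 0xb200a8)
 (.cons 4 (nat_lit 0xe060100)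
 (.cons 2 (nat_lit 0x10022000)
 (.cons 1 (nat_lit 0x14050140)
 (.cons 4 (nat_lit 0xc060800)
 (.cons 8 (nat_lit 0xb200b0)
 (.cons 16 (nat_lit 0x64c8)
 .nil))))))))
noncomputable def a100 : Net := (.cons 16 (nat_lit 0x73f8)
 (.cons 8 (nat_lit 0x5200b0)
 (.cons 4 (nat_lit 0x4050408)
 (.cons 2 (nat_lit 0x3313000)
 (.cons 1 (nat_lit 0x14014040)
 (.cons 2 (nat_lit 0x2000000)
 (.cons 4 (nat_lit 0x4000400)
 (.cons 8 (nat_lit 0xb8)
 (.cons 16 (nat_lit 0x7358)
 .nil)))))))))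
noncomputable def a101 : Net := (.cons 16 (nat_lit 0xb7f0)
 (.cons 8 (nat_lit 0xd40070)
 (.cons 4 (nat_lit 0x30b0800)
 (.cons 2 (nat_lit 0x2003000)
 (.cons 1 (nat_lit 0x4044040)
 (.cons 2 (nat_lit 0x2000000)
 (.cons 4 (nat_lit 0x4000800)
 (.cons 8 (nat_lit 0x440070)
 (.cons 16 (nat_lit 0xb7f0)
 .nil)))))))))
noncomputable def a102 : Net := (.cons 16 (nat_lit 0xa900)
 (.cons 8 (nat_lit 0xf100d0)
 (.cons 4 (nat_lit 0x80c0400)
 (.cons 2 (nat_lit 0x200200)
 (.cons 1 (nat_lit 0x50404400)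
 (.cons 2 (nat_lit 0x200200)
 (.cons 4 (nat_lit 0x8040400)
 (.cons 8 (nat_lit 0xf000c0)
 (.cons 16 (nat_lit 0xa900)
 .nil)))))))))
noncomputable def a103 : Net := (.cons 16 (nat_lit 0x48a2)
 (.cons 8 (nat_lit 0x180008)
 (.cons 4 (nat_lit 0x80a0108)
 (.cons 2 (nat_lit 0x10222230)
 (.cons 1 (nat_lit 0x40400444)
 (.cons 2 (nat_lit 0x200022)
 (.cons 4 (nat_lit 0x80c0808)
 (.cons 8 (nat_lit 0x1000ae)
 (.cons 16 (nat_lit 0x4864)
 .nil)))))))))
noncomputable def a104 : Net := (.cons 16 (nat_lit 0x28)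
 (.cons 8 (nat_lit 0xe8)
 (.cons 4 (nat_lit 0x2050a)
 (.cons 2 (nat_lit 0x200)
 (.cons 1 (nat_lit 0x440440)
 (.cons 2 (nat_lit 0x200)
 (.cons 4 (nat_lit 0x408)
 (.cons 8 (nat_lit 0x68)
 (.cons 16 (nat_lit 0x28)
 .nil)))))))))
noncomputable def a105 : Net := (.cons 16 (nat_lit 0xe688)
 (.cons 8 (nat_lit 0x4a0008)
 (.cons 4 (nat_lit 0xe)
 (.cons 2 (nat_lit 0x2320012)
 (.cons 1 (nat_lit 0x44040010)
 (.cons 2 (nat_lit 0x20020000)
 (.cons 4 (nat_lit 0xc02000a)
 (.cons 8 (nat_lit 0xe80000)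
 (.cons 16 (nat_lit 0xe628)
 .nil)))))))))
noncomputable def a106 : Net := (.cons 16 (nat_lit 0x4822)
 (.cons 8 (nat_lit 0x80096)
 (.cons 4 (nat_lit 0x80a0804)
 (.cons 2 (nat_lit 0x320022)
 (.cons 1 (nat_lit 0x40501404)
 (.cons 2 (nat_lit 0x200)
 (.cons 4 (nat_lit 0x80c0a00)
 (.cons 8 (nat_lit 0x80010)
 (.cons 16 (nat_lit 0x4840)
 .nil)))))))))
noncomputable def a107 : Net := (.cons 16 (nat_lit 0xa8)
 (.cons 8 (nat_lit 0x94)
 (.cons 4 (nat_lit 0x20606)
 (.cons 2 (nat_lit 0x1022)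
 (.cons 1 (nat_lit 0x440044)
 (.cons 2 (nat_lit 0x22)
 (.cons 4 (nat_lit 0x400)
 (.cons 8 (nat_lit 0x14)
 (.cons 16 (nat_lit 0xa8)
 .nil)))))))))
noncomputable def ns0 : List Net := [a0, a1, a2, a3, a4, a5, a6, a7, a8, a9, a10]
noncomputable def ws : List (List ℕ) :=
  [W (nat_lit 0x803411028030540d0440700c0d020140280d03c1602c070100a00c110580305008),
  W (nat_lit 0xf0280c03010030110200500c100301603813054100440e01c1504406028060180605006),
  W (nat_lit 0x681705c1a),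
  W (nat_lit 0x601b05c1b06c1b),
  W (nat_lit 0x1b05c1b),
  W (nat_lit 0x2007820),
  W (nat_lit 0x741f0741d),
  W (nat_lit 0x842308c22),
  W (nat_lit 0x5006),
  W (nat_lit 0x5006),
  W (nat_lit 0x541103c0e0481504c04030110500e03016028020580b028150141401c06),
  W (nat_lit 0x1408028150240f058100300d0580a0540c034050240d0440304c09024020140403c080301403c030500d0180a05006),
  W (nat_lit 0x2d0ac2e0b02d),
  W (nat_lit 0xb82e0b82b),
  W (nat_lit 0x2f0c832),
  W (nat_lit 0xc42f0bc32),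
  W (nat_lit 0xd4340d4340d834),
  W (nat_lit 0xd8330d8340d036),
  W (nat_lit 0x380e0380e4380e838),
  W (nat_lit 0x80100a01c1300c0c0040f0280b024140280c03c0f030010280a04c04018140540704804038130280c),
  W (nat_lit 0x10034040500d02410054040300a014140180a02c12034080080a0300a04c0b008050240204c04),
  W (nat_lit 0xf83e0fc3d),
  W (nat_lit 0xfc3e),
  W (nat_lit 0x441084410443),
  W (nat_lit 0x110441044410443),
  W (nat_lit 0x481084611c42),
  W (nat_lit 0x4211c4611846),
  W (nat_lit 0x11c4b12049),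
  W (nat_lit 0x90480704805044060280703c0d02810028100180d0440a),
  W (nat_lit 0xe0141000c0704409014110380700c0d03c030480d024080480a),
  W (nat_lit 0x1484f13c52),
  W (nat_lit 0x5214052),
  W (nat_lit 0x541585314c55),
  W (nat_lit 0x1505515056),
  W (nat_lit 0x16058),
  W (nat_lit 0xc8300c4300c430),
  W (nat_lit 0x320c8320bc320c830),
  W (nat_lit 0x17c5f17860),
  W (nat_lit 0x178601805d1805e),
  W (nat_lit 0x641906218c62),
  W (nat_lit 0xc090140701c030140e02005038030380602404038030340d03410),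
  W (nat_lit 0xe0180703810014040380803c090140504007010040140703410),
  W (nat_lit 0x691a069),
  W (nat_lit 0x1a068),
  W (nat_lit 0x6d1ac07),
  W (nat_lit 0x1b4671ac69),
  W (nat_lit 0x1a405),
  W (nat_lit 0x3804024030240503409010080140301c0d0340703808),
  W (nat_lit 0x801408038050240d0280502803),
  W (nat_lit 0x1e075),
  W (nat_lit 0x1e87a),
  W (nat_lit 0x7b1e405),
  W (nat_lit 0x1e475),
  W (nat_lit 0x1ec791d405),
  W (nat_lit 0x791d405),
  W (nat_lit 0x4008050140101c030080201c0201008),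
  W (nat_lit 0x200501c030200100c070180601c0401004),
  W (nat_lit 0x4030040101402014070140101008),
  W (nat_lit 0x8822485),
  W (nat_lit 0x320c0310bc31),
  W (nat_lit 0xc0320c030),
  W (nat_lit 0x902388f2388e),
  W (nat_lit 0x23890),
  W (nat_lit 0x248942449424894),
  W (nat_lit 0x2e0b82c0b02c0b82c),
  W (nat_lit 0x2d0b02c),
  W (nat_lit 0x9726497),
  W (nat_lit 0x25c9926098),
  W (nat_lit 0x9e2709e),
  W (nat_lit 0x2709e2709c),
  W (nat_lit 0xa2288a2),
  W (nat_lit 0xd0180d00c05054040540d014150140500c15),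
  W (nat_lit 0x294a5),
  W (nat_lit 0x841d08c180781907012),
  W (nat_lit 0x8c1f0602006417),
  W (nat_lit 0x23074200641c01401),
  W (nat_lit 0x2aca92acaa),
  W (nat_lit 0x2bcaf2b0b02acb0),
  W (nat_lit 0x2c4ac),
  W (nat_lit 0xb12bca9),
  W (nat_lit 0x2a4a9),
  W (nat_lit 0x2108c1d084180701905c20),
  W (nat_lit 0x94230601b0641804814),
  W (nat_lit 0xbb2e4bc2e4bc2e8bc),
  W (nat_lit 0x2e4b9),
  W (nat_lit 0xc02f8c0),
  W (nat_lit 0xbe300c0300be300bd),
  W (nat_lit 0xc4308c330cc2),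
  W (nat_lit 0x30cc3304c130cc2),
  W (nat_lit 0xc7318c7318c8),
  W (nat_lit 0x320c5320c8),
  W (nat_lit 0x330cc),
  W (nat_lit 0x1c0b01c030180803c0e038130540f0300f0340900c0301c0e0500904c0c00c1403408),
  W (nat_lit 0x60300a00c0b0580500c050200f05003034040240403005038100100705006),
  W (nat_lit 0x340d1),
  W (nat_lit 0x348d0),
  W (nat_lit 0x34cd6350d5)]
noncomputable def ns : List Net := [a0, a1, a2, a3, a4, a5, a6, a7, a8, a9, a10, a11, a12, a13, a14, a15, a16, a17, a18, a19, a20, a21, a22, a23, a24, a25, a26, a27, a28, a29, a30, a31, a32, a33, a34, a35, a36, a37, a38, a39, a40, a41, a42, a43, a44, a45, a46, a47, a48, a49, a50, a51, a52, a53, a54, a55, a56, a57, a58, a59, a60, a61, a62, a63, a64, a65, a66, a67, a68, a69, a70, a71, a72, a73, a74, a75, a76, a77, a78, a79, a80, a81, a82, a83, a84, a85, a86, a87, a88, a89, a90, a91, a92, a93, a94, a95, a96, a97, a98, a99, a100, a101, a102, a103, a104, a105, a106, a107]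
noncomputable def D : List (ℕ × List ℕ) := app [] (mkDefs ws 11)
noncomputable def chk : List (List ℕ × List ℕ) → Bool := P.relsB ns
noncomputable def zt0 : List ℕ :=
  []
noncomputable def zcj1 : List (List ℕ) :=
  []
noncomputable def zus4 : List (List ℕ) :=
  [[32],
  [34],
  W (nat_lit 0x8423)]
noncomputable def zF5 : List (List (ℕ × List ℕ)) :=
  [[(1, []),
   (0, [36]),
   (3, [36]),
   (2, [])],
  [(2, []),
   (3, []),
   (0, [36]),
   (1, [36])]]
noncomputable def zus8 : List (List ℕ) :=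
  [[28],
  [29],
  [30],
  [31],
  W (nat_lit 0x741d),
  W (nat_lit 0x7420),
  W (nat_lit 0x7421),
  W (nat_lit 0x7423)]
noncomputable def zF9 : List (List (ℕ × List ℕ)) :=
  [[(1, []),
   (5, []),
   (0, []),
   (4, W (nat_lit 0x9421)),
   (6, [36]),
   (2, []),
   (7, W (nat_lit 0x8423)),
   (3, [34]),
   (8, [32])],
  [(3, []),
   (5, [34]),
   (2, W (nat_lit 0x8423)),
   (7, [36]),
   (0, []),
   (8, [36]),
   (1, []),
   (4, [36]),
   (6, [34])]]
noncomputable def zus12 : List (List ℕ) :=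
  [[23],
  [22],
  [27],
  W (nat_lit 0x601b),
  W (nat_lit 0x601c),
  W (nat_lit 0x601e),
  W (nat_lit 0x601f),
  W (nat_lit 0x6020),
  W (nat_lit 0x6024)]
noncomputable def zF13 : List (List (ℕ × List ℕ)) :=
  [[(1, []),
   (3, W (nat_lit 0x942307420)),
   (0, []),
   (2, W (nat_lit 0x942108c20)),
   (8, W (nat_lit 0x250841d)),
   (5, W (nat_lit 0x2507420)),
   (4, [31]),
   (6, W (nat_lit 0x2508c1f)),
   (7, W (nat_lit 0x942107423)),
   (9, W (nat_lit 0x8423))],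
  [(2, W (nat_lit 0x250842307421)),
   (4, []),
   (6, W (nat_lit 0x842307420)),
   (0, []),
   (9, W (nat_lit 0x7423)),
   (1, []),
   (7, [31]),
   (3, [28]),
   (5, W (nat_lit 0x2507420)),
   (8, W (nat_lit 0x2307423))]]
noncomputable def zus16 : List (List ℕ) :=
  [[24],
  [25],
  W (nat_lit 0x6417),
  W (nat_lit 0x6418),
  W (nat_lit 0x6419),
  W (nat_lit 0x641f),
  W (nat_lit 0x641c),
  W (nat_lit 0x1905c1b),
  W (nat_lit 0x6425),
  W (nat_lit 0x1905c20)]
noncomputable def zF17 : List (List (ℕ × List ℕ)) :=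
  [[(0, [22]),
   (3, []),
   (4, W (nat_lit 0x942108c1d08417)),
   (2, [27]),
   (1, []),
   (5, W (nat_lit 0x6024)),
   (7, W (nat_lit 0x9423)),
   (10, W (nat_lit 0x84230741d)),
   (6, [29]),
   (9, W (nat_lit 0x2508c1d)),
   (8, W (nat_lit 0x2307420))],
  [(1, []),
   (5, []),
   (0, []),
   (2, W (nat_lit 0x84230601c)),
   (4, W (nat_lit 0x8423074200601e)),
   (7, W (nat_lit 0x21074230601e)),
   (3, [22]),
   (9, W (nat_lit 0x942108c1e0601f)),
   (10, W (nat_lit 0x84230741d06020)),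
   (6, W (nat_lit 0x942107c17)),
   (8, W (nat_lit 0x250741d06024))]]
noncomputable def zrs20 : List (ℕ × List ℕ) :=
  [(1, [39])]
noncomputable def C_v0 : Lev :=
  ⟨24, 2, sg [0], [[2], [4], [6], [8], [10], [12], [14], [16], [18], [20]], 0, 0⟩
noncomputable def C_v1 : Lev :=
  ⟨0, 12, sg (W (nat_lit 0x3c1301c05)), [[22], [24]], 0, 2⟩
noncomputable def C_v2 : Lev :=
  ⟨1, 11, sg (W (nat_lit 0x1905c1905c1905c1705c19)), [[23], [26]], 2, 1⟩
noncomputable def C_v3 : Lev :=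
  ⟨2, 10, sg (W (nat_lit 0x1b0601b06c1806018)), [[28], [30]], 3, 2⟩
noncomputable def C_v4 : Lev :=
  ⟨3, 9, sg (W (nat_lit 0x1f07c1f0741d)), [[32], [34]], 5, 2⟩
noncomputable def C_v5 : Lev :=
  ⟨5, 4, sg (W (nat_lit 0x8c21)), [[36]], 7, 1⟩
noncomputable def C_v6 : Lev :=
  ⟨4, 2, sg [36], [], 8, 0⟩
noncomputable def C_vs7 : List Lev :=
  []
noncomputable def C_vs6 : List Lev :=
  C_v6 :: C_vs7
noncomputable def C_vs5 : List Lev :=
  C_v5 :: C_vs6
noncomputable def C_vs4 : List Lev :=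
  C_v4 :: C_vs5
noncomputable def C_vs3 : List Lev :=
  C_v3 :: C_vs4
noncomputable def C_vs2 : List Lev :=
  C_v2 :: C_vs3
noncomputable def C_vs1 : List Lev :=
  C_v1 :: C_vs2
noncomputable def C_vs : List Lev :=
  C_v0 :: C_vs1
noncomputable def zcj22 : List (List ℕ) :=
  [W (nat_lit 0x1d0801c),
  W (nat_lit 0x250742106425)]
noncomputable def zB25 : List BG :=
  [⟨[38], [([23], W (nat_lit 0x1d0801c)), ([26], W (nat_lit 0x250742106425))],
  [([⟨[], W (nat_lit 0x6419), 1, W (nat_lit 0x6419)⟩], []),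
   ([⟨[], [], 0, []⟩,
    ⟨[24], W (nat_lit 0x6418), 1, W (nat_lit 0x250841807c1905c20)⟩], W (nat_lit 0x20040100801))]⟩]
noncomputable def zE26 : List (ℕ × List ℕ) :=
  [(2, W (nat_lit 0x250781706425)),
  (4, W (nat_lit 0x8c200601b06417080270641d)),
  (6, W (nat_lit 0x74230601e0641f09c1c)),
  (8, W (nat_lit 0x941d0841806c1907c270641d)),
  (10, W (nat_lit 0x250841e060240641809c1c)),
  (12, W (nat_lit 0x94210741d0601e064270641d)),
  (14, W (nat_lit 0x1d08c180901909c1c)),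
  (16, W (nat_lit 0x2108c1d074180801905c270641d)),
  (18, W (nat_lit 0x250841d084170641809c1e)),
  (20, W (nat_lit 0x601f0641f09c1c))]
noncomputable def zt31 : List ℕ :=
  []
noncomputable def zcj32 : List (List ℕ) :=
  [W (nat_lit 0x250781706425),
  [4],
  [6],
  W (nat_lit 0x230741d0701909405),
  W (nat_lit 0x23078180901907c07),
  W (nat_lit 0x23078180901907c05),
  W (nat_lit 0x8c1d0801907007),
  W (nat_lit 0x2107c180701906405),
  [18],
  W (nat_lit 0x94210742306007)]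
noncomputable def zt35 : List ℕ :=
  []
noncomputable def zcj36 : List (List ℕ) :=
  []
noncomputable def zus39 : List (List ℕ) :=
  [[32],
  [34],
  W (nat_lit 0x8423)]
noncomputable def zF40 : List (List (ℕ × List ℕ)) :=
  [[(1, []),
   (0, [36]),
   (3, [36]),
   (2, [])],
  [(2, []),
   (3, []),
   (0, [36]),
   (1, [36])]]
noncomputable def zus43 : List (List ℕ) :=
  [[28],
  [29],
  [30],
  [31],
  W (nat_lit 0x741d),
  W (nat_lit 0x7420),
  W (nat_lit 0x7421),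
  W (nat_lit 0x7423)]
noncomputable def zF44 : List (List (ℕ × List ℕ)) :=
  [[(1, []),
   (5, []),
   (0, []),
   (4, W (nat_lit 0x9421)),
   (6, [36]),
   (2, []),
   (7, W (nat_lit 0x8423)),
   (3, [34]),
   (8, [32])],
  [(3, []),
   (5, [34]),
   (2, W (nat_lit 0x8423)),
   (7, [36]),
   (0, []),
   (8, [36]),
   (1, []),
   (4, [36]),
   (6, [34])]]
noncomputable def zus47 : List (List ℕ) :=
  [[23],
  [22],
  [27],
  W (nat_lit 0x601b),
  W (nat_lit 0x601c),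
  W (nat_lit 0x601e),
  W (nat_lit 0x601f),
  W (nat_lit 0x6020),
  W (nat_lit 0x6024)]
noncomputable def zF48 : List (List (ℕ × List ℕ)) :=
  [[(1, []),
   (3, W (nat_lit 0x942307420)),
   (0, []),
   (2, W (nat_lit 0x942108c20)),
   (8, W (nat_lit 0x250841d)),
   (5, W (nat_lit 0x2507420)),
   (4, [31]),
   (6, W (nat_lit 0x2508c1f)),
   (7, W (nat_lit 0x942107423)),
   (9, W (nat_lit 0x8423))],
  [(2, W (nat_lit 0x250842307421)),
   (4, []),
   (6, W (nat_lit 0x842307420)),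
   (0, []),
   (9, W (nat_lit 0x7423)),
   (1, []),
   (7, [31]),
   (3, [28]),
   (5, W (nat_lit 0x2507420)),
   (8, W (nat_lit 0x2307423))]]
noncomputable def zus51 : List (List ℕ) :=
  [[24],
  [25],
  W (nat_lit 0x6417),
  W (nat_lit 0x6418),
  W (nat_lit 0x6419),
  W (nat_lit 0x641f),
  W (nat_lit 0x641c),
  W (nat_lit 0x1905c1b),
  W (nat_lit 0x6425),
  W (nat_lit 0x1905c20)]
noncomputable def zF52 : List (List (ℕ × List ℕ)) :=
  [[(0, [22]),
   (3, []),
   (4, W (nat_lit 0x942108c1d08417)),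
   (2, [27]),
   (1, []),
   (5, W (nat_lit 0x6024)),
   (7, W (nat_lit 0x9423)),
   (10, W (nat_lit 0x84230741d)),
   (6, [29]),
   (9, W (nat_lit 0x2508c1d)),
   (8, W (nat_lit 0x2307420))],
  [(1, []),
   (5, []),
   (0, []),
   (2, W (nat_lit 0x84230601c)),
   (4, W (nat_lit 0x8423074200601e)),
   (7, W (nat_lit 0x21074230601e)),
   (3, [22]),
   (9, W (nat_lit 0x942108c1e0601f)),
   (10, W (nat_lit 0x84230741d06020)),
   (6, W (nat_lit 0x942107c17)),
   (8, W (nat_lit 0x250741d06024))]]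
noncomputable def zrs55 : List (ℕ × List ℕ) :=
  [(1, [41])]
noncomputable def M_v0 : Lev :=
  ⟨0, 12, sg (W (nat_lit 0x3c1301c05)), [[22], [24]], 0, 2⟩
noncomputable def M_v1 : Lev :=
  ⟨1, 11, sg (W (nat_lit 0x1905c1905c1905c1705c19)), [[23], [26]], 2, 1⟩
noncomputable def M_v2 : Lev :=
  ⟨2, 10, sg (W (nat_lit 0x1b0601b06c1806018)), [[28], [30]], 3, 2⟩
noncomputable def M_v3 : Lev :=
  ⟨3, 9, sg (W (nat_lit 0x1f07c1f0741d)), [[32], [34]], 5, 2⟩
noncomputable def M_v4 : Lev :=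
  ⟨5, 4, sg (W (nat_lit 0x8c21)), [[36]], 7, 1⟩
noncomputable def M_v5 : Lev :=
  ⟨4, 2, sg [36], [], 8, 0⟩
noncomputable def M_vs6 : List Lev :=
  []
noncomputable def M_vs5 : List Lev :=
  M_v5 :: M_vs6
noncomputable def M_vs4 : List Lev :=
  M_v4 :: M_vs5
noncomputable def M_vs3 : List Lev :=
  M_v3 :: M_vs4
noncomputable def M_vs2 : List Lev :=
  M_v2 :: M_vs3
noncomputable def M_vs1 : List Lev :=
  M_v1 :: M_vs2
noncomputable def M_vs : List Lev :=
  M_v0 :: M_vs1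
noncomputable def zcj57 : List (List ℕ) :=
  [W (nat_lit 0x1d0801c),
  W (nat_lit 0x250742106425)]
noncomputable def zB60 : List BG :=
  [⟨[40], [([23], W (nat_lit 0x1d0801c)), ([26], W (nat_lit 0x250742106425))],
  [([⟨[], W (nat_lit 0x6419), 1, W (nat_lit 0x6419)⟩], []),
   ([⟨[], [], 0, []⟩,
    ⟨[24], W (nat_lit 0x6418), 1, W (nat_lit 0x250841807c1905c20)⟩], W (nat_lit 0x20040100801))]⟩]
noncomputable def zE61 : List (ℕ × List ℕ) :=
  [(2, W (nat_lit 0x250781706425)),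
  (4, W (nat_lit 0x8c200601b06417080290641d)),
  (6, W (nat_lit 0x74230601e0641f0a41c)),
  (8, W (nat_lit 0x941d0841806c1907c290641d)),
  (10, W (nat_lit 0x250841e06024064180a41c)),
  (12, W (nat_lit 0x94210741d0601e064290641d)),
  (14, W (nat_lit 0x1d08c18090190a41c)),
  (16, W (nat_lit 0x2108c1d074180801905c290641d)),
  (18, W (nat_lit 0x250841d08417064180a41e)),
  (20, W (nat_lit 0x601f0641f0a41c))]
noncomputable def zm66 : ℕ :=
  (nat_lit 0x3195901)
noncomputable def zm67 : ℕ :=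
  (nat_lit 0x3c0a2c2)
noncomputable def zm68 : ℕ :=
  (nat_lit 0x3a4a608)
noncomputable def zm69 : ℕ :=
  (nat_lit 0x3583380)
noncomputable def zm70 : ℕ :=
  (nat_lit 0x390a300)
noncomputable def cZ_F : List (List ℕ × ℕ × ℕ) :=
  [([2], zm66, zm66),
  ([4], zm67, zm67),
  ([6], zm68, zm68),
  ([8], zm69, zm69),
  ([16], zm70, zm70)]
noncomputable def cZG_v0 : Lev :=
  ⟨0, 12, sg (W (nat_lit 0x3c1301c05)), [[42], [44]], 10, 2⟩
noncomputable def cZG_v1 : Lev :=
  ⟨10, 12, sg (W (nat_lit 0xb42b0b42b0b42b)), [[46], [48]], 12, 2⟩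
noncomputable def cZG_v2 : Lev :=
  ⟨2, 11, sg (W (nat_lit 0x2f0c42f0c42f0c42f)), [[50], [52]], 14, 2⟩
noncomputable def cZG_v3 : Lev :=
  ⟨1, 10, sg (W (nat_lit 0x350cc350d433)), [[54], [56]], 16, 2⟩
noncomputable def cZG_v4 : Lev :=
  ⟨3, 6, sg (W (nat_lit 0x370e437)), [[58]], 18, 1⟩
noncomputable def cZG_v5 : Lev :=
  ⟨24, 2, sg [58], [], 19, 0⟩
noncomputable def cZG_vs6 : List Lev :=
  []
noncomputable def cZG_vs5 : List Lev :=
  cZG_v5 :: cZG_vs6
noncomputable def cZG_vs4 : List Lev :=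
  cZG_v4 :: cZG_vs5
noncomputable def cZG_vs3 : List Lev :=
  cZG_v3 :: cZG_vs4
noncomputable def cZG_vs2 : List Lev :=
  cZG_v2 :: cZG_vs3
noncomputable def cZG_vs1 : List Lev :=
  cZG_v1 :: cZG_vs2
noncomputable def cZG_vs : List Lev :=
  cZG_v0 :: cZG_vs1
noncomputable def cZ_x : List (ℕ × List ℕ) :=
  [((nat_lit 0), []),
  ((nat_lit 0), [(nat_lit 0xfacca0)]),
  ((nat_lit 0), [(nat_lit 0x5335e)]),
  ((nat_lit 0), []),
  ((nat_lit 0), [])]
noncomputable def zE74 : List (ℕ × List ℕ) :=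
  [(58, [0])]
noncomputable def cZ_G : Gl :=
  ⟨P, ns, (app D zE74), (diag [[0], [2], [4], [6], [8], [10], [12], [14], [16], [18], [20]]), [], [], memM (app D zE74) [[0]], true⟩
noncomputable def cZ_s : St :=
  ⟨(mkS P.n cZG_vs cZ_x), [[0], [2], [4], [6], [8], [10], [12], [14], [16], [18], [20]], [], mapL Prod.snd cZ_F, memM (app D zE74) [[0]], []⟩
noncomputable def zt76 : ST :=
  (.dif 0 3 (.img [14] 5 (.and 1 0 (.br 0 [] [] [(0, [])] (.cons (.dif 6 5 (.orb 0 (.and 1 0 (.img [18] 11 (.dif 1 0 (.br 0 [] [] [(10, [])] (.cons (.orb 0 (.img [8] 13 (.and 1 0 (.dif 0 14 (.img [18] 18 (.dif 1 0 (.br 0 [] [] [(2, [])] (.cons (.img [14] 1 (.br 0 [] [] [(1, [])] (.cons (.img [10] 3 (.br 0 [] [] [(3, [])] (.cons .fnd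
 .nil)))
 .nil)))
 .nil))))))))
 .nil)))))))
 .nil)))))
noncomputable def zm80 : ℕ :=
  (nat_lit 0x3c0a2c2)
noncomputable def zm81 : ℕ :=
  (nat_lit 0x3a4a608)
noncomputable def cQ_F : List (List ℕ × ℕ × ℕ) :=
  [([4], zm80, zm80),
  ([6], zm81, zm81)]
noncomputable def cQG_v0 : Lev :=
  ⟨1, 12, sg (W (nat_lit 0x4c0f02c03)), [[60], [62]], 19, 2⟩
noncomputable def cQG_v1 : Lev :=
  ⟨2, 11, sg (W (nat_lit 0x3d0fc3f0f43d0fc3d)), [[64], [66]], 21, 2⟩
noncomputable def cQG_v2 : Lev :=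
  ⟨3, 10, sg (W (nat_lit 0x10441104431044110443)), [[64], [68], [70]], 23, 2⟩
noncomputable def cQG_v3 : Lev :=
  ⟨4, 9, sg (W (nat_lit 0x451044111441)), [[71], [72], [74]], 25, 2⟩
noncomputable def cQG_v4 : Lev :=
  ⟨5, 8, sg (W (nat_lit 0x1204812448)), [[76]], 27, 1⟩
noncomputable def cQG_v5 : Lev :=
  ⟨24, 2, sg [76], [], 28, 0⟩
noncomputable def cQG_vs6 : List Lev :=
  []
noncomputable def cQG_vs5 : List Lev :=
  cQG_v5 :: cQG_vs6
noncomputable def cQG_vs4 : List Lev :=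
  cQG_v4 :: cQG_vs5
noncomputable def cQG_vs3 : List Lev :=
  cQG_v3 :: cQG_vs4
noncomputable def cQG_vs2 : List Lev :=
  cQG_v2 :: cQG_vs3
noncomputable def cQG_vs1 : List Lev :=
  cQG_v1 :: cQG_vs2
noncomputable def cQG_vs : List Lev :=
  cQG_v0 :: cQG_vs1
noncomputable def cQ_x : List (ℕ × List ℕ) :=
  [((nat_lit 0), [(nat_lit 0x5335f)]),
  ((nat_lit 0), []),
  ((nat_lit 0), []),
  ((nat_lit 0), []),
  ((nat_lit 0), [(nat_lit 0x928ca0),
   (nat_lit 0x684000)])]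
noncomputable def zE85 : List (ℕ × List ℕ) :=
  [(76, [0])]
noncomputable def cQ_G : Gl :=
  ⟨P, ns, (app D zE85), (diag [[12], [14], [4], [6]]), [], [], memM (app D zE85) [[2], [0]], true⟩
noncomputable def cQ_s : St :=
  ⟨(mkS P.n cQG_vs cQ_x), [[0], [2], [4], [6], [8], [10], [12], [14], [16], [18], [20]], [], mapL Prod.snd cQ_F, memM (app D zE85) [[2], [0]], []⟩
noncomputable def zt87 : ST :=
  (.dif 0 1 (.orb 0 (.and 1 0 (.br 0 [[2]] [0] [(1, [])] (.cons (.img [3] 0 (.br 0 [] [] [(2, [])] (.cons (.img [0] 0 (.br 0 [] [] [(3, [])] (.cons (.img [0] 0 (.br 0 [] [] [(4, [])] (.cons (.orb 0 (.orb 1 (.img [1] 0 (.and 2 0 (.dif 0 14 (.br 0 [] [] [(5, [])] (.cons .fnd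
 .nil)))))))
 .nil)))
 .nil)))
 .nil)))
 .nil)))))
noncomputable def K_v0 : Lev :=
  ⟨24, 2, sg [0], [[8], [16], [14], [12], [6], [4], [2]], 28, 0⟩
noncomputable def K_v1 : Lev :=
  ⟨0, 4, sg (W (nat_lit 0x3c09)), [[78], [80]], 28, 2⟩
noncomputable def K_v2 : Lev :=
  ⟨8, 3, sg (W (nat_lit 0x1444f)), [[82], [84]], 30, 2⟩
noncomputable def K_v3 : Lev :=
  ⟨12, 2, sg [84], [[86], [88]], 32, 2⟩
noncomputable def K_v4 : Lev :=
  ⟨11, 4, sg (W (nat_lit 0x16457)), [[90]], 34, 1⟩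
noncomputable def K_v5 : Lev :=
  ⟨1, 2, sg [90], [], 35, 0⟩
noncomputable def K_vs6 : List Lev :=
  []
noncomputable def K_vs5 : List Lev :=
  K_v5 :: K_vs6
noncomputable def K_vs4 : List Lev :=
  K_v4 :: K_vs5
noncomputable def K_vs3 : List Lev :=
  K_v3 :: K_vs4
noncomputable def K_vs2 : List Lev :=
  K_v2 :: K_vs3
noncomputable def K_vs1 : List Lev :=
  K_v1 :: K_vs2
noncomputable def K_vs : List Lev :=
  K_v0 :: K_vs1
noncomputable def K_ps : List PcG :=
  [⟨[8], 2, [], [W (nat_lit 0x4411), W (nat_lit 0x340f), W (nat_lit 0xc0d), W (nat_lit 0x1407), [4], [2], [0]]⟩,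
  ⟨[16], 3, [], [[12], W (nat_lit 0x30340f), [4], W (nat_lit 0x1407), [2], [0]]⟩,
  ⟨[14], 2, [2], [W (nat_lit 0xc0d), [6], W (nat_lit 0xc05), [2], [0]]⟩,
  ⟨[12], 2, [2], [W (nat_lit 0xc07), [4], [2], [0]]⟩,
  ⟨[6], 2, [], [[4], [2], [0]]⟩,
  ⟨[4], 2, [], [[2], [0]]⟩,
  ⟨[2], 2, [], [[0]]⟩,
  ⟨[0], 2, [], []⟩]
noncomputable def eK0_E : List (ℕ × List CE) :=
  [(3, [])]
noncomputable def eK0_R : List (List ℕ) :=
  [[],
  [8]]
noncomputable def zcj98 : List (List (List ℕ)) :=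
  []
noncomputable def eK1_E : List (ℕ × List CE) :=
  [(7, []),
  (7, [])]
noncomputable def eK1_R : List (List ℕ) :=
  [[],
  [16],
  W (nat_lit 0x4411),
  [8],
  W (nat_lit 0x4409),
  W (nat_lit 0x1104409)]
noncomputable def zcj106 : List (List (List ℕ)) :=
  []
noncomputable def eK2_E : List (ℕ × List CE) :=
  [(3, []),
  (3, []),
  (3, []),
  (3, []),
  (3, []),
  (3, [])]
noncomputable def eK2_R : List (List ℕ) :=
  [[],
  [14],
  [16],
  W (nat_lit 0x3c11),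
  W (nat_lit 0x4411),
  W (nat_lit 0xf04411),
  [8],
  W (nat_lit 0x3c09),
  W (nat_lit 0x4409),
  W (nat_lit 0xf04409),
  W (nat_lit 0x1104409),
  W (nat_lit 0x3c1104409)]
noncomputable def zcj114 : List (List (List ℕ)) :=
  []
noncomputable def eK3_E : List (ℕ × List CE) :=
  [(3, []),
  (3, []),
  (3, []),
  (3, []),
  (3, []),
  (3, []),
  (3, []),
  (3, []),
  (3, []),
  (3, []),
  (3, []),
  (3, [])]
noncomputable def eK3_R : List (List ℕ) :=
  [[],
  [12],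
  [14],
  W (nat_lit 0x340f),
  [16],
  W (nat_lit 0x3411),
  W (nat_lit 0x3c11),
  W (nat_lit 0xd03c11),
  W (nat_lit 0x4411),
  W (nat_lit 0xd04411),
  W (nat_lit 0xf04411),
  W (nat_lit 0x340f04411),
  [8],
  W (nat_lit 0x3409),
  W (nat_lit 0x3c09),
  W (nat_lit 0xd03c09),
  W (nat_lit 0x4409),
  W (nat_lit 0xd04409),
  W (nat_lit 0xf04409),
  W (nat_lit 0x340f04409),
  W (nat_lit 0x1104409),
  W (nat_lit 0x341104409),
  W (nat_lit 0x3c1104409),
  W (nat_lit 0xd03c1104409)]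
noncomputable def zcj122 : List (List (List ℕ)) :=
  []
noncomputable def eK4_E : List (ℕ × List CE) :=
  [(3, []),
  (3, []),
  (3, []),
  (3, []),
  (3, []),
  (3, []),
  (3, []),
  (3, []),
  (3, []),
  (3, []),
  (3, []),
  (3, []),
  (3, []),
  (3, []),
  (3, []),
  (3, []),
  (3, []),
  (3, []),
  (3, []),
  (3, []),
  (3, []),
  (3, []),
  (3, []),
  (3, [])]
noncomputable def eK4_R : List (List ℕ) :=
  [[],
  [6],
  [12],
  W (nat_lit 0x1c0d),
  [14],
  W (nat_lit 0x1c0f),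
  W (nat_lit 0x340f),
  W (nat_lit 0x70340f),
  [16],
  W (nat_lit 0x1c11),
  W (nat_lit 0x3411),
  W (nat_lit 0x703411),
  W (nat_lit 0x3c11),
  W (nat_lit 0x703c11),
  W (nat_lit 0xd03c11),
  W (nat_lit 0x1c0d03c11),
  W (nat_lit 0x4411),
  W (nat_lit 0x704411),
  W (nat_lit 0xd04411),
  W (nat_lit 0x1c0d04411),
  W (nat_lit 0xf04411),
  W (nat_lit 0x1c0f04411),
  W (nat_lit 0x340f04411),
  W (nat_lit 0x70340f04411),
  [8],
  W (nat_lit 0x1c09),
  W (nat_lit 0x3409),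
  W (nat_lit 0x703409),
  W (nat_lit 0x3c09),
  W (nat_lit 0x703c09),
  W (nat_lit 0xd03c09),
  W (nat_lit 0x1c0d03c09),
  W (nat_lit 0x4409),
  W (nat_lit 0x704409),
  W (nat_lit 0xd04409),
  W (nat_lit 0x1c0d04409),
  W (nat_lit 0xf04409),
  W (nat_lit 0x1c0f04409),
  W (nat_lit 0x340f04409),
  W (nat_lit 0x70340f04409),
  W (nat_lit 0x1104409),
  W (nat_lit 0x1c1104409),
  W (nat_lit 0x341104409),
  W (nat_lit 0x70341104409),
  W (nat_lit 0x3c1104409),
  W (nat_lit 0x703c1104409),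
  W (nat_lit 0xd03c1104409),
  W (nat_lit 0x1c0d03c1104409)]
noncomputable def zcj130 : List (List (List ℕ)) :=
  []
noncomputable def eK5_E : List (ℕ × List CE) :=
  [(3, []),
  (3, []),
  (3, []),
  (3, []),
  (3, []),
  (3, []),
  (3, []),
  (3, []),
  (3, []),
  (3, []),
  (3, []),
  (3, []),
  (3, []),
  (3, []),
  (3, []),
  (3, []),
  (3, []),
  (3, []),
  (3, []),
  (3, []),
  (3, []),
  (3, []),
  (3, []),
  (3, []),
  (3, []),
  (3, []),
  (3, []),
  (3, []),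
  (3, []),
  (3, []),
  (3, []),
  (3, []),
  (3, []),
  (3, []),
  (3, []),
  (3, []),
  (3, []),
  (3, []),
  (3, []),
  (3, []),
  (3, []),
  (3, []),
  (3, []),
  (3, []),
  (3, []),
  (3, []),
  (3, []),
  (3, [])]
noncomputable def eK5_R : List (List ℕ) :=
  [[],
  [4],
  [6],
  W (nat_lit 0x1407),
  [12],
  W (nat_lit 0x140d),
  W (nat_lit 0x1c0d),
  W (nat_lit 0x501c0d),
  [14],
  W (nat_lit 0x140f),
  W (nat_lit 0x1c0f),
  W (nat_lit 0x501c0f),
  W (nat_lit 0x340f),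
  W (nat_lit 0x50340f),
  W (nat_lit 0x70340f),
  W (nat_lit 0x14070340f),
  [16],
  W (nat_lit 0x1411),
  W (nat_lit 0x1c11),
  W (nat_lit 0x501c11),
  W (nat_lit 0x3411),
  W (nat_lit 0x503411),
  W (nat_lit 0x703411),
  W (nat_lit 0x140703411),
  W (nat_lit 0x3c11),
  W (nat_lit 0x503c11),
  W (nat_lit 0x703c11),
  W (nat_lit 0x140703c11),
  W (nat_lit 0xd03c11),
  W (nat_lit 0x140d03c11),
  W (nat_lit 0x1c0d03c11),
  W (nat_lit 0x501c0d03c11),
  W (nat_lit 0x4411),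
  W (nat_lit 0x504411),
  W (nat_lit 0x704411),
  W (nat_lit 0x140704411),
  W (nat_lit 0xd04411),
  W (nat_lit 0x140d04411),
  W (nat_lit 0x1c0d04411),
  W (nat_lit 0x501c0d04411),
  W (nat_lit 0xf04411),
  W (nat_lit 0x140f04411),
  W (nat_lit 0x1c0f04411),
  W (nat_lit 0x501c0f04411),
  W (nat_lit 0x340f04411),
  W (nat_lit 0x50340f04411),
  W (nat_lit 0x70340f04411),
  W (nat_lit 0x14070340f04411),
  [8],
  W (nat_lit 0x1409),
  W (nat_lit 0x1c09),
  W (nat_lit 0x501c09),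
  W (nat_lit 0x3409),
  W (nat_lit 0x503409),
  W (nat_lit 0x703409),
  W (nat_lit 0x140703409),
  W (nat_lit 0x3c09),
  W (nat_lit 0x503c09),
  W (nat_lit 0x703c09),
  W (nat_lit 0x140703c09),
  W (nat_lit 0xd03c09),
  W (nat_lit 0x140d03c09),
  W (nat_lit 0x1c0d03c09),
  W (nat_lit 0x501c0d03c09),
  W (nat_lit 0x4409),
  W (nat_lit 0x504409),
  W (nat_lit 0x704409),
  W (nat_lit 0x140704409),
  W (nat_lit 0xd04409),
  W (nat_lit 0x140d04409),
  W (nat_lit 0x1c0d04409),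
  W (nat_lit 0x501c0d04409),
  W (nat_lit 0xf04409),
  W (nat_lit 0x140f04409),
  W (nat_lit 0x1c0f04409),
  W (nat_lit 0x501c0f04409),
  W (nat_lit 0x340f04409),
  W (nat_lit 0x50340f04409),
  W (nat_lit 0x70340f04409),
  W (nat_lit 0x14070340f04409),
  W (nat_lit 0x1104409),
  W (nat_lit 0x141104409),
  W (nat_lit 0x1c1104409),
  W (nat_lit 0x501c1104409),
  W (nat_lit 0x341104409),
  W (nat_lit 0x50341104409),
  W (nat_lit 0x70341104409),
  W (nat_lit 0x14070341104409),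
  W (nat_lit 0x3c1104409),
  W (nat_lit 0x503c1104409),
  W (nat_lit 0x703c1104409),
  W (nat_lit 0x140703c1104409),
  W (nat_lit 0xd03c1104409),
  W (nat_lit 0x140d03c1104409),
  W (nat_lit 0x1c0d03c1104409),
  W (nat_lit 0x501c0d03c1104409)]
noncomputable def zcj138 : List (List (List ℕ)) :=
  []
noncomputable def eK6_E : List (ℕ × List CE) :=
  [(3, []),
  (3, []),
  (3, []),
  (3, []),
  (3, []),
  (3, []),
  (3, []),
  (3, []),
  (3, []),
  (3, []),
  (3, []),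
  (3, []),
  (3, []),
  (3, []),
  (3, []),
  (3, []),
  (3, []),
  (3, []),
  (3, []),
  (3, []),
  (3, []),
  (3, []),
  (3, []),
  (3, []),
  (3, []),
  (3, []),
  (3, []),
  (3, []),
  (3, []),
  (3, []),
  (3, []),
  (3, []),
  (3, []),
  (3, []),
  (3, []),
  (3, []),
  (3, []),
  (3, []),
  (3, []),
  (3, []),
  (3, []),
  (3, []),
  (3, []),
  (3, []),
  (3, []),
  (3, []),
  (3, []),
  (3, []),
  (3, []),
  (3, []),
  (3, []),
  (3, []),
  (3, []),
  (3, []),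
  (3, []),
  (3, []),
  (3, []),
  (3, []),
  (3, []),
  (3, []),
  (3, []),
  (3, []),
  (3, []),
  (3, []),
  (3, []),
  (3, []),
  (3, []),
  (3, []),
  (3, []),
  (3, []),
  (3, []),
  (3, []),
  (3, []),
  (3, []),
  (3, []),
  (3, []),
  (3, []),
  (3, []),
  (3, []),
  (3, []),
  (3, []),
  (3, []),
  (3, []),
  (3, []),
  (3, []),
  (3, []),
  (3, []),
  (3, []),
  (3, []),
  (3, []),
  (3, []),
  (3, []),
  (3, []),
  (3, []),
  (3, []),
  (3, [])]
noncomputable def eK6_R : List (List ℕ) :=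
  [[],
  [2],
  [4],
  W (nat_lit 0xc05),
  [6],
  W (nat_lit 0xc07),
  W (nat_lit 0x1407),
  W (nat_lit 0x301407),
  [12],
  W (nat_lit 0xc0d),
  W (nat_lit 0x140d),
  W (nat_lit 0x30140d),
  W (nat_lit 0x1c0d),
  W (nat_lit 0x301c0d),
  W (nat_lit 0x501c0d),
  W (nat_lit 0xc0501c0d),
  [14],
  W (nat_lit 0xc0f),
  W (nat_lit 0x140f),
  W (nat_lit 0x30140f),
  W (nat_lit 0x1c0f),
  W (nat_lit 0x301c0f),
  W (nat_lit 0x501c0f),
  W (nat_lit 0xc0501c0f),
  W (nat_lit 0x340f),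
  W (nat_lit 0x30340f),
  W (nat_lit 0x50340f),
  W (nat_lit 0xc050340f),
  W (nat_lit 0x70340f),
  W (nat_lit 0xc070340f),
  W (nat_lit 0x14070340f),
  W (nat_lit 0x3014070340f),
  [16],
  W (nat_lit 0xc11),
  W (nat_lit 0x1411),
  W (nat_lit 0x301411),
  W (nat_lit 0x1c11),
  W (nat_lit 0x301c11),
  W (nat_lit 0x501c11),
  W (nat_lit 0xc0501c11),
  W (nat_lit 0x3411),
  W (nat_lit 0x303411),
  W (nat_lit 0x503411),
  W (nat_lit 0xc0503411),
  W (nat_lit 0x703411),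
  W (nat_lit 0xc0703411),
  W (nat_lit 0x140703411),
  W (nat_lit 0x30140703411),
  W (nat_lit 0x3c11),
  W (nat_lit 0x303c11),
  W (nat_lit 0x503c11),
  W (nat_lit 0xc0503c11),
  W (nat_lit 0x703c11),
  W (nat_lit 0xc0703c11),
  W (nat_lit 0x140703c11),
  W (nat_lit 0x30140703c11),
  W (nat_lit 0xd03c11),
  W (nat_lit 0xc0d03c11),
  W (nat_lit 0x140d03c11),
  W (nat_lit 0x30140d03c11),
  W (nat_lit 0x1c0d03c11),
  W (nat_lit 0x301c0d03c11),
  W (nat_lit 0x501c0d03c11),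
  W (nat_lit 0xc0501c0d03c11),
  W (nat_lit 0x4411),
  W (nat_lit 0x304411),
  W (nat_lit 0x504411),
  W (nat_lit 0xc0504411),
  W (nat_lit 0x704411),
  W (nat_lit 0xc0704411),
  W (nat_lit 0x140704411),
  W (nat_lit 0x30140704411),
  W (nat_lit 0xd04411),
  W (nat_lit 0xc0d04411),
  W (nat_lit 0x140d04411),
  W (nat_lit 0x30140d04411),
  W (nat_lit 0x1c0d04411),
  W (nat_lit 0x301c0d04411),
  W (nat_lit 0x501c0d04411),
  W (nat_lit 0xc0501c0d04411),
  W (nat_lit 0xf04411),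
  W (nat_lit 0xc0f04411),
  W (nat_lit 0x140f04411),
  W (nat_lit 0x30140f04411),
  W (nat_lit 0x1c0f04411),
  W (nat_lit 0x301c0f04411),
  W (nat_lit 0x501c0f04411),
  W (nat_lit 0xc0501c0f04411),
  W (nat_lit 0x340f04411),
  W (nat_lit 0x30340f04411),
  W (nat_lit 0x50340f04411),
  W (nat_lit 0xc050340f04411),
  W (nat_lit 0x70340f04411),
  W (nat_lit 0xc070340f04411),
  W (nat_lit 0x14070340f04411),
  W (nat_lit 0x3014070340f04411),
  [8],
  W (nat_lit 0xc09),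
  W (nat_lit 0x1409),
  W (nat_lit 0x301409),
  W (nat_lit 0x1c09),
  W (nat_lit 0x301c09),
  W (nat_lit 0x501c09),
  W (nat_lit 0xc0501c09),
  W (nat_lit 0x3409),
  W (nat_lit 0x303409),
  W (nat_lit 0x503409),
  W (nat_lit 0xc0503409),
  W (nat_lit 0x703409),
  W (nat_lit 0xc0703409),
  W (nat_lit 0x140703409),
  W (nat_lit 0x30140703409),
  W (nat_lit 0x3c09),
  W (nat_lit 0x303c09),
  W (nat_lit 0x503c09),
  W (nat_lit 0xc0503c09),
  W (nat_lit 0x703c09),
  W (nat_lit 0xc0703c09),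
  W (nat_lit 0x140703c09),
  W (nat_lit 0x30140703c09),
  W (nat_lit 0xd03c09),
  W (nat_lit 0xc0d03c09),
  W (nat_lit 0x140d03c09),
  W (nat_lit 0x30140d03c09),
  W (nat_lit 0x1c0d03c09),
  W (nat_lit 0x301c0d03c09),
  W (nat_lit 0x501c0d03c09),
  W (nat_lit 0xc0501c0d03c09),
  W (nat_lit 0x4409),
  W (nat_lit 0x304409),
  W (nat_lit 0x504409),
  W (nat_lit 0xc0504409),
  W (nat_lit 0x704409),
  W (nat_lit 0xc0704409),
  W (nat_lit 0x140704409),
  W (nat_lit 0x30140704409),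
  W (nat_lit 0xd04409),
  W (nat_lit 0xc0d04409),
  W (nat_lit 0x140d04409),
  W (nat_lit 0x30140d04409),
  W (nat_lit 0x1c0d04409),
  W (nat_lit 0x301c0d04409),
  W (nat_lit 0x501c0d04409),
  W (nat_lit 0xc0501c0d04409),
  W (nat_lit 0xf04409),
  W (nat_lit 0xc0f04409),
  W (nat_lit 0x140f04409),
  W (nat_lit 0x30140f04409),
  W (nat_lit 0x1c0f04409),
  W (nat_lit 0x301c0f04409),
  W (nat_lit 0x501c0f04409),
  W (nat_lit 0xc0501c0f04409),
  W (nat_lit 0x340f04409),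
  W (nat_lit 0x30340f04409),
  W (nat_lit 0x50340f04409),
  W (nat_lit 0xc050340f04409),
  W (nat_lit 0x70340f04409),
  W (nat_lit 0xc070340f04409),
  W (nat_lit 0x14070340f04409),
  W (nat_lit 0x3014070340f04409),
  W (nat_lit 0x1104409),
  W (nat_lit 0xc1104409),
  W (nat_lit 0x141104409),
  W (nat_lit 0x30141104409),
  W (nat_lit 0x1c1104409),
  W (nat_lit 0x301c1104409),
  W (nat_lit 0x501c1104409),
  W (nat_lit 0xc0501c1104409),
  W (nat_lit 0x341104409),
  W (nat_lit 0x30341104409),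
  W (nat_lit 0x50341104409),
  W (nat_lit 0xc050341104409),
  W (nat_lit 0x70341104409),
  W (nat_lit 0xc070341104409),
  W (nat_lit 0x14070341104409),
  W (nat_lit 0x3014070341104409),
  W (nat_lit 0x3c1104409),
  W (nat_lit 0x303c1104409),
  W (nat_lit 0x503c1104409),
  W (nat_lit 0xc0503c1104409),
  W (nat_lit 0x703c1104409),
  W (nat_lit 0xc0703c1104409),
  W (nat_lit 0x140703c1104409),
  W (nat_lit 0x30140703c1104409),
  W (nat_lit 0xd03c1104409),
  W (nat_lit 0xc0d03c1104409),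
  W (nat_lit 0x140d03c1104409),
  W (nat_lit 0x30140d03c1104409),
  W (nat_lit 0x1c0d03c1104409),
  W (nat_lit 0x301c0d03c1104409),
  W (nat_lit 0x501c0d03c1104409),
  W (nat_lit 0xc0501c0d03c1104409)]
noncomputable def zcj146 : List (List (List ℕ)) :=
  []
noncomputable def eK7_E : List (ℕ × List CE) :=
  [(3, []),
  (3, []),
  (3, []),
  (3, []),
  (3, []),
  (3, []),
  (3, []),
  (3, []),
  (3, []),
  (3, []),
  (3, []),
  (3, []),
  (3, []),
  (3, []),
  (3, []),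
  (3, []),
  (3, []),
  (3, []),
  (3, []),
  (3, []),
  (3, []),
  (3, []),
  (3, []),
  (3, []),
  (3, []),
  (3, []),
  (3, []),
  (3, []),
  (3, []),
  (3, []),
  (3, []),
  (3, []),
  (3, []),
  (3, []),
  (3, []),
  (3, []),
  (3, []),
  (3, []),
  (3, []),
  (3, []),
  (3, []),
  (3, []),
  (3, []),
  (3, []),
  (3, []),
  (3, []),
  (3, []),
  (3, []),
  (3, []),
  (3, []),
  (3, []),
  (3, []),
  (3, []),
  (3, []),
  (3, []),
  (3, []),
  (3, []),
  (3, []),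
  (3, []),
  (3, []),
  (3, []),
  (3, []),
  (3, []),
  (3, []),
  (3, []),
  (3, []),
  (3, []),
  (3, []),
  (3, []),
  (3, []),
  (3, []),
  (3, []),
  (3, []),
  (3, []),
  (3, []),
  (3, []),
  (3, []),
  (3, []),
  (3, []),
  (3, []),
  (3, []),
  (3, []),
  (3, []),
  (3, []),
  (3, []),
  (3, []),
  (3, []),
  (3, []),
  (3, []),
  (3, []),
  (3, []),
  (3, []),
  (3, []),
  (3, []),
  (3, []),
  (3, []),
  (3, []),
  (3, []),
  (3, []),
  (3, []),
  (3, []),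
  (3, []),
  (3, []),
  (3, []),
  (3, []),
  (3, []),
  (3, []),
  (3, []),
  (3, []),
  (3, []),
  (3, []),
  (3, []),
  (3, []),
  (3, []),
  (3, []),
  (3, []),
  (3, []),
  (3, []),
  (3, []),
  (3, []),
  (3, []),
  (3, []),
  (3, []),
  (3, []),
  (3, []),
  (3, []),
  (3, []),
  (3, []),
  (3, []),
  (3, []),
  (3, []),
  (3, []),
  (3, []),
  (3, []),
  (3, []),
  (3, []),
  (3, []),
  (3, []),
  (3, []),
  (3, []),
  (3, []),
  (3, []),
  (3, []),
  (3, []),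
  (3, []),
  (3, []),
  (3, []),
  (3, []),
  (3, []),
  (3, []),
  (3, []),
  (3, []),
  (3, []),
  (3, []),
  (3, []),
  (3, []),
  (3, []),
  (3, []),
  (3, []),
  (3, []),
  (3, []),
  (3, []),
  (3, []),
  (3, []),
  (3, []),
  (3, []),
  (3, []),
  (3, []),
  (3, []),
  (3, []),
  (3, []),
  (3, []),
  (3, []),
  (3, []),
  (3, []),
  (3, []),
  (3, []),
  (3, []),
  (3, []),
  (3, []),
  (3, []),
  (3, []),
  (3, []),
  (3, []),
  (3, []),
  (3, []),
  (3, []),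
  (3, []),
  (3, []),
  (3, []),
  (3, []),
  (3, [])]
noncomputable def eK7_R : List (List ℕ) :=
  [[],
  [0],
  [2],
  W (nat_lit 0x403),
  [4],
  W (nat_lit 0x405),
  W (nat_lit 0xc05),
  W (nat_lit 0x100c05),
  [6],
  W (nat_lit 0x407),
  W (nat_lit 0xc07),
  W (nat_lit 0x100c07),
  W (nat_lit 0x1407),
  W (nat_lit 0x101407),
  W (nat_lit 0x301407),
  W (nat_lit 0x40301407),
  [12],
  W (nat_lit 0x40d),
  W (nat_lit 0xc0d),
  W (nat_lit 0x100c0d),
  W (nat_lit 0x140d),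
  W (nat_lit 0x10140d),
  W (nat_lit 0x30140d),
  W (nat_lit 0x4030140d),
  W (nat_lit 0x1c0d),
  W (nat_lit 0x101c0d),
  W (nat_lit 0x301c0d),
  W (nat_lit 0x40301c0d),
  W (nat_lit 0x501c0d),
  W (nat_lit 0x40501c0d),
  W (nat_lit 0xc0501c0d),
  W (nat_lit 0x100c0501c0d),
  [14],
  W (nat_lit 0x40f),
  W (nat_lit 0xc0f),
  W (nat_lit 0x100c0f),
  W (nat_lit 0x140f),
  W (nat_lit 0x10140f),
  W (nat_lit 0x30140f),
  W (nat_lit 0x4030140f),
  W (nat_lit 0x1c0f),
  W (nat_lit 0x101c0f),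
  W (nat_lit 0x301c0f),
  W (nat_lit 0x40301c0f),
  W (nat_lit 0x501c0f),
  W (nat_lit 0x40501c0f),
  W (nat_lit 0xc0501c0f),
  W (nat_lit 0x100c0501c0f),
  W (nat_lit 0x340f),
  W (nat_lit 0x10340f),
  W (nat_lit 0x30340f),
  W (nat_lit 0x4030340f),
  W (nat_lit 0x50340f),
  W (nat_lit 0x4050340f),
  W (nat_lit 0xc050340f),
  W (nat_lit 0x100c050340f),
  W (nat_lit 0x70340f),
  W (nat_lit 0x4070340f),
  W (nat_lit 0xc070340f),
  W (nat_lit 0x100c070340f),
  W (nat_lit 0x14070340f),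
  W (nat_lit 0x1014070340f),
  W (nat_lit 0x3014070340f),
  W (nat_lit 0x403014070340f),
  [16],
  W (nat_lit 0x411),
  W (nat_lit 0xc11),
  W (nat_lit 0x100c11),
  W (nat_lit 0x1411),
  W (nat_lit 0x101411),
  W (nat_lit 0x301411),
  W (nat_lit 0x40301411),
  W (nat_lit 0x1c11),
  W (nat_lit 0x101c11),
  W (nat_lit 0x301c11),
  W (nat_lit 0x40301c11),
  W (nat_lit 0x501c11),
  W (nat_lit 0x40501c11),
  W (nat_lit 0xc0501c11),
  W (nat_lit 0x100c0501c11),
  W (nat_lit 0x3411),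
  W (nat_lit 0x103411),
  W (nat_lit 0x303411),
  W (nat_lit 0x40303411),
  W (nat_lit 0x503411),
  W (nat_lit 0x40503411),
  W (nat_lit 0xc0503411),
  W (nat_lit 0x100c0503411),
  W (nat_lit 0x703411),
  W (nat_lit 0x40703411),
  W (nat_lit 0xc0703411),
  W (nat_lit 0x100c0703411),
  W (nat_lit 0x140703411),
  W (nat_lit 0x10140703411),
  W (nat_lit 0x30140703411),
  W (nat_lit 0x4030140703411),
  W (nat_lit 0x3c11),
  W (nat_lit 0x103c11),
  W (nat_lit 0x303c11),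
  W (nat_lit 0x40303c11),
  W (nat_lit 0x503c11),
  W (nat_lit 0x40503c11),
  W (nat_lit 0xc0503c11),
  W (nat_lit 0x100c0503c11),
  W (nat_lit 0x703c11),
  W (nat_lit 0x40703c11),
  W (nat_lit 0xc0703c11),
  W (nat_lit 0x100c0703c11),
  W (nat_lit 0x140703c11),
  W (nat_lit 0x10140703c11),
  W (nat_lit 0x30140703c11),
  W (nat_lit 0x4030140703c11),
  W (nat_lit 0xd03c11),
  W (nat_lit 0x40d03c11),
  W (nat_lit 0xc0d03c11),
  W (nat_lit 0x100c0d03c11),
  W (nat_lit 0x140d03c11),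
  W (nat_lit 0x10140d03c11),
  W (nat_lit 0x30140d03c11),
  W (nat_lit 0x4030140d03c11),
  W (nat_lit 0x1c0d03c11),
  W (nat_lit 0x101c0d03c11),
  W (nat_lit 0x301c0d03c11),
  W (nat_lit 0x40301c0d03c11),
  W (nat_lit 0x501c0d03c11),
  W (nat_lit 0x40501c0d03c11),
  W (nat_lit 0xc0501c0d03c11),
  W (nat_lit 0x100c0501c0d03c11),
  W (nat_lit 0x4411),
  W (nat_lit 0x104411),
  W (nat_lit 0x304411),
  W (nat_lit 0x40304411),
  W (nat_lit 0x504411),
  W (nat_lit 0x40504411),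
  W (nat_lit 0xc0504411),
  W (nat_lit 0x100c0504411),
  W (nat_lit 0x704411),
  W (nat_lit 0x40704411),
  W (nat_lit 0xc0704411),
  W (nat_lit 0x100c0704411),
  W (nat_lit 0x140704411),
  W (nat_lit 0x10140704411),
  W (nat_lit 0x30140704411),
  W (nat_lit 0x4030140704411),
  W (nat_lit 0xd04411),
  W (nat_lit 0x40d04411),
  W (nat_lit 0xc0d04411),
  W (nat_lit 0x100c0d04411),
  W (nat_lit 0x140d04411),
  W (nat_lit 0x10140d04411),
  W (nat_lit 0x30140d04411),
  W (nat_lit 0x4030140d04411),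
  W (nat_lit 0x1c0d04411),
  W (nat_lit 0x101c0d04411),
  W (nat_lit 0x301c0d04411),
  W (nat_lit 0x40301c0d04411),
  W (nat_lit 0x501c0d04411),
  W (nat_lit 0x40501c0d04411),
  W (nat_lit 0xc0501c0d04411),
  W (nat_lit 0x100c0501c0d04411),
  W (nat_lit 0xf04411),
  W (nat_lit 0x40f04411),
  W (nat_lit 0xc0f04411),
  W (nat_lit 0x100c0f04411),
  W (nat_lit 0x140f04411),
  W (nat_lit 0x10140f04411),
  W (nat_lit 0x30140f04411),
  W (nat_lit 0x4030140f04411),
  W (nat_lit 0x1c0f04411),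
  W (nat_lit 0x101c0f04411),
  W (nat_lit 0x301c0f04411),
  W (nat_lit 0x40301c0f04411),
  W (nat_lit 0x501c0f04411),
  W (nat_lit 0x40501c0f04411),
  W (nat_lit 0xc0501c0f04411),
  W (nat_lit 0x100c0501c0f04411),
  W (nat_lit 0x340f04411),
  W (nat_lit 0x10340f04411),
  W (nat_lit 0x30340f04411),
  W (nat_lit 0x4030340f04411),
  W (nat_lit 0x50340f04411),
  W (nat_lit 0x4050340f04411),
  W (nat_lit 0xc050340f04411),
  W (nat_lit 0x100c050340f04411),
  W (nat_lit 0x70340f04411),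
  W (nat_lit 0x4070340f04411),
  W (nat_lit 0xc070340f04411),
  W (nat_lit 0x100c070340f04411),
  W (nat_lit 0x14070340f04411),
  W (nat_lit 0x1014070340f04411),
  W (nat_lit 0x3014070340f04411),
  W (nat_lit 0x403014070340f04411),
  [8],
  W (nat_lit 0x409),
  W (nat_lit 0xc09),
  W (nat_lit 0x100c09),
  W (nat_lit 0x1409),
  W (nat_lit 0x101409),
  W (nat_lit 0x301409),
  W (nat_lit 0x40301409),
  W (nat_lit 0x1c09),
  W (nat_lit 0x101c09),
  W (nat_lit 0x301c09),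
  W (nat_lit 0x40301c09),
  W (nat_lit 0x501c09),
  W (nat_lit 0x40501c09),
  W (nat_lit 0xc0501c09),
  W (nat_lit 0x100c0501c09),
  W (nat_lit 0x3409),
  W (nat_lit 0x103409),
  W (nat_lit 0x303409),
  W (nat_lit 0x40303409),
  W (nat_lit 0x503409),
  W (nat_lit 0x40503409),
  W (nat_lit 0xc0503409),
  W (nat_lit 0x100c0503409),
  W (nat_lit 0x703409),
  W (nat_lit 0x40703409),
  W (nat_lit 0xc0703409),
  W (nat_lit 0x100c0703409),
  W (nat_lit 0x140703409),
  W (nat_lit 0x10140703409),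
  W (nat_lit 0x30140703409),
  W (nat_lit 0x4030140703409),
  W (nat_lit 0x3c09),
  W (nat_lit 0x103c09),
  W (nat_lit 0x303c09),
  W (nat_lit 0x40303c09),
  W (nat_lit 0x503c09),
  W (nat_lit 0x40503c09),
  W (nat_lit 0xc0503c09),
  W (nat_lit 0x100c0503c09),
  W (nat_lit 0x703c09),
  W (nat_lit 0x40703c09),
  W (nat_lit 0xc0703c09),
  W (nat_lit 0x100c0703c09),
  W (nat_lit 0x140703c09),
  W (nat_lit 0x10140703c09),
  W (nat_lit 0x30140703c09),
  W (nat_lit 0x4030140703c09),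
  W (nat_lit 0xd03c09),
  W (nat_lit 0x40d03c09),
  W (nat_lit 0xc0d03c09),
  W (nat_lit 0x100c0d03c09),
  W (nat_lit 0x140d03c09),
  W (nat_lit 0x10140d03c09),
  W (nat_lit 0x30140d03c09),
  W (nat_lit 0x4030140d03c09),
  W (nat_lit 0x1c0d03c09),
  W (nat_lit 0x101c0d03c09),
  W (nat_lit 0x301c0d03c09),
  W (nat_lit 0x40301c0d03c09),
  W (nat_lit 0x501c0d03c09),
  W (nat_lit 0x40501c0d03c09),
  W (nat_lit 0xc0501c0d03c09),
  W (nat_lit 0x100c0501c0d03c09),
  W (nat_lit 0x4409),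
  W (nat_lit 0x104409),
  W (nat_lit 0x304409),
  W (nat_lit 0x40304409),
  W (nat_lit 0x504409),
  W (nat_lit 0x40504409),
  W (nat_lit 0xc0504409),
  W (nat_lit 0x100c0504409),
  W (nat_lit 0x704409),
  W (nat_lit 0x40704409),
  W (nat_lit 0xc0704409),
  W (nat_lit 0x100c0704409),
  W (nat_lit 0x140704409),
  W (nat_lit 0x10140704409),
  W (nat_lit 0x30140704409),
  W (nat_lit 0x4030140704409),
  W (nat_lit 0xd04409),
  W (nat_lit 0x40d04409),
  W (nat_lit 0xc0d04409),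
  W (nat_lit 0x100c0d04409),
  W (nat_lit 0x140d04409),
  W (nat_lit 0x10140d04409),
  W (nat_lit 0x30140d04409),
  W (nat_lit 0x4030140d04409),
  W (nat_lit 0x1c0d04409),
  W (nat_lit 0x101c0d04409),
  W (nat_lit 0x301c0d04409),
  W (nat_lit 0x40301c0d04409),
  W (nat_lit 0x501c0d04409),
  W (nat_lit 0x40501c0d04409),
  W (nat_lit 0xc0501c0d04409),
  W (nat_lit 0x100c0501c0d04409),
  W (nat_lit 0xf04409),
  W (nat_lit 0x40f04409),
  W (nat_lit 0xc0f04409),
  W (nat_lit 0x100c0f04409),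
  W (nat_lit 0x140f04409),
  W (nat_lit 0x10140f04409),
  W (nat_lit 0x30140f04409),
  W (nat_lit 0x4030140f04409),
  W (nat_lit 0x1c0f04409),
  W (nat_lit 0x101c0f04409),
  W (nat_lit 0x301c0f04409),
  W (nat_lit 0x40301c0f04409),
  W (nat_lit 0x501c0f04409),
  W (nat_lit 0x40501c0f04409),
  W (nat_lit 0xc0501c0f04409),
  W (nat_lit 0x100c0501c0f04409),
  W (nat_lit 0x340f04409),
  W (nat_lit 0x10340f04409),
  W (nat_lit 0x30340f04409),
  W (nat_lit 0x4030340f04409),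
  W (nat_lit 0x50340f04409),
  W (nat_lit 0x4050340f04409),
  W (nat_lit 0xc050340f04409),
  W (nat_lit 0x100c050340f04409),
  W (nat_lit 0x70340f04409),
  W (nat_lit 0x4070340f04409),
  W (nat_lit 0xc070340f04409),
  W (nat_lit 0x100c070340f04409),
  W (nat_lit 0x14070340f04409),
  W (nat_lit 0x1014070340f04409),
  W (nat_lit 0x3014070340f04409),
  W (nat_lit 0x403014070340f04409),
  W (nat_lit 0x1104409),
  W (nat_lit 0x41104409),
  W (nat_lit 0xc1104409),
  W (nat_lit 0x100c1104409),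
  W (nat_lit 0x141104409),
  W (nat_lit 0x10141104409),
  W (nat_lit 0x30141104409),
  W (nat_lit 0x4030141104409),
  W (nat_lit 0x1c1104409),
  W (nat_lit 0x101c1104409),
  W (nat_lit 0x301c1104409),
  W (nat_lit 0x40301c1104409),
  W (nat_lit 0x501c1104409),
  W (nat_lit 0x40501c1104409),
  W (nat_lit 0xc0501c1104409),
  W (nat_lit 0x100c0501c1104409),
  W (nat_lit 0x341104409),
  W (nat_lit 0x10341104409),
  W (nat_lit 0x30341104409),
  W (nat_lit 0x4030341104409),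
  W (nat_lit 0x50341104409),
  W (nat_lit 0x4050341104409),
  W (nat_lit 0xc050341104409),
  W (nat_lit 0x100c050341104409),
  W (nat_lit 0x70341104409),
  W (nat_lit 0x4070341104409),
  W (nat_lit 0xc070341104409),
  W (nat_lit 0x100c070341104409),
  W (nat_lit 0x14070341104409),
  W (nat_lit 0x1014070341104409),
  W (nat_lit 0x3014070341104409),
  W (nat_lit 0x403014070341104409),
  W (nat_lit 0x3c1104409),
  W (nat_lit 0x103c1104409),
  W (nat_lit 0x303c1104409),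
  W (nat_lit 0x40303c1104409),
  W (nat_lit 0x503c1104409),
  W (nat_lit 0x40503c1104409),
  W (nat_lit 0xc0503c1104409),
  W (nat_lit 0x100c0503c1104409),
  W (nat_lit 0x703c1104409),
  W (nat_lit 0x40703c1104409),
  W (nat_lit 0xc0703c1104409),
  W (nat_lit 0x100c0703c1104409),
  W (nat_lit 0x140703c1104409),
  W (nat_lit 0x10140703c1104409),
  W (nat_lit 0x30140703c1104409),
  W (nat_lit 0x4030140703c1104409),
  W (nat_lit 0xd03c1104409),
  W (nat_lit 0x40d03c1104409),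
  W (nat_lit 0xc0d03c1104409),
  W (nat_lit 0x100c0d03c1104409),
  W (nat_lit 0x140d03c1104409),
  W (nat_lit 0x10140d03c1104409),
  W (nat_lit 0x30140d03c1104409),
  W (nat_lit 0x4030140d03c1104409),
  W (nat_lit 0x1c0d03c1104409),
  W (nat_lit 0x101c0d03c1104409),
  W (nat_lit 0x301c0d03c1104409),
  W (nat_lit 0x40301c0d03c1104409),
  W (nat_lit 0x501c0d03c1104409),
  W (nat_lit 0x40501c0d03c1104409),
  W (nat_lit 0xc0501c0d03c1104409),
  W (nat_lit 0x100c0501c0d03c1104409)]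
noncomputable def eKR : List (List ℕ) :=
  eK7_R
noncomputable def zm154 : ℕ :=
  (nat_lit 0x3195901)
noncomputable def cz_F : List (List ℕ × ℕ × ℕ) :=
  [([0], zm154, zm154)]
noncomputable def czG_v0 : Lev :=
  ⟨0, 12, sg (W (nat_lit 0x3c1301c05)), [[42], [44]], 10, 2⟩
noncomputable def czG_v1 : Lev :=
  ⟨10, 12, sg (W (nat_lit 0xb42b0b42b0b42b)), [[46], [48]], 12, 2⟩
noncomputable def czG_v2 : Lev :=
  ⟨5, 11, sg (W (nat_lit 0x2f0c42f0c42f)), [[92], [94]], 35, 2⟩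
noncomputable def czG_v3 : Lev :=
  ⟨17, 10, sg (W (nat_lit 0x5d17c5d17c5d)), [[96], [98]], 37, 2⟩
noncomputable def czG_v4 : Lev :=
  ⟨21, 6, sg (W (nat_lit 0x6118c61)), [[100]], 39, 1⟩
noncomputable def czG_v5 : Lev :=
  ⟨24, 2, sg [100], [], 40, 0⟩
noncomputable def czG_vs6 : List Lev :=
  []
noncomputable def czG_vs5 : List Lev :=
  czG_v5 :: czG_vs6
noncomputable def czG_vs4 : List Lev :=
  czG_v4 :: czG_vs5
noncomputable def czG_vs3 : List Lev :=
  czG_v3 :: czG_vs4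
noncomputable def czG_vs2 : List Lev :=
  czG_v2 :: czG_vs3
noncomputable def czG_vs1 : List Lev :=
  czG_v1 :: czG_vs2
noncomputable def czG_vs : List Lev :=
  czG_v0 :: czG_vs1
noncomputable def cz_x : List (ℕ × List ℕ) :=
  [((nat_lit 0), [(nat_lit 0x5335f)]),
  ((nat_lit 0), [(nat_lit 0xfacca0)]),
  ((nat_lit 0), []),
  ((nat_lit 0), []),
  ((nat_lit 0), [])]
noncomputable def zE158 : List (ℕ × List ℕ) :=
  [(100, [0])]
noncomputable def cz_G : Gl :=
  ⟨P, ns, (app D zE158), (diag [[2]]), [], [], memM (app D zE158) [[8], [16], [14], [12], [6], [4], [2], [0]], true⟩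
noncomputable def cz_s : St :=
  ⟨(mkS P.n czG_vs cz_x), [[0], [2], [4], [6], [8], [10], [12], [14], [16], [18], [20]], [], mapL Prod.snd cz_F, memM (app D zE158) [[8], [16], [14], [12], [6], [4], [2], [0]], []⟩
noncomputable def zt160 : ST :=
  (.orb 0 (.and 1 0 (.br 0 [W (nat_lit 0x5101401), W (nat_lit 0x5914412)] (W (nat_lit 0x300c01)) [(0, [])] (.cons (.orb 0 (.dif 0 4 (.br 0 [W (nat_lit 0x16c5716455), W (nat_lit 0x5914401)] (W (nat_lit 0x40100c01)) [(10, [])] (.cons (.dif 1 0 (.img [0] 1 (.dif 1 0 (.br 0 [W (nat_lit 0x5b16455), W (nat_lit 0x5514401)] (W (nat_lit 0x100c01)) [(5, [])] (.cons (.img [0] 0 (.br 0 [] [] [(17, [])] (.cons (.img [0] 6 (.br 0 [] [] [(21, [])] (.cons .fnd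
 .nil)))
 .nil)))
 .nil)))))
 .nil))))
 .nil))))
noncomputable def Yt_v0 : Lev :=
  ⟨0, 3, sg (W (nat_lit 0x4411)), [], 40, 0⟩
noncomputable def Yt_vs1 : List Lev :=
  []
noncomputable def Yt_vs : List Lev :=
  Yt_v0 :: Yt_vs1
noncomputable def Yt_ps : List PcG :=
  [⟨[16], 3, [], []⟩]
noncomputable def c30_E : List (ℕ × List CE) :=
  [(7, [])]
noncomputable def c30_R : List (List ℕ) :=
  [[],
  [16],
  W (nat_lit 0x4411)]
noncomputable def c31_F : List (List ℕ × ℕ × List ℕ) :=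
  [([], 0, []),
  ([], 1, []),
  (W (nat_lit 0x5b16455), 1, [])]
noncomputable def c31_R : List (List ℕ) :=
  [[], [16]]
noncomputable def T_v0 : Lev :=
  ⟨24, 2, sg [0], [[8], [14], [12], [6], [4], [2]], 40, 0⟩
noncomputable def T_v1 : Lev :=
  ⟨0, 4, sg (W (nat_lit 0x3c09)), [[102], [104]], 40, 2⟩
noncomputable def T_v2 : Lev :=
  ⟨8, 2, sg [104], [[106], [102]], 42, 1⟩
noncomputable def T_v3 : Lev :=
  ⟨11, 4, sg (W (nat_lit 0x19c6b)), [[108]], 43, 1⟩
noncomputable def T_v4 : Lev :=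
  ⟨1, 2, sg [108], [], 44, 0⟩
noncomputable def T_vs5 : List Lev :=
  []
noncomputable def T_vs4 : List Lev :=
  T_v4 :: T_vs5
noncomputable def T_vs3 : List Lev :=
  T_v3 :: T_vs4
noncomputable def T_vs2 : List Lev :=
  T_v2 :: T_vs3
noncomputable def T_vs1 : List Lev :=
  T_v1 :: T_vs2
noncomputable def T_vs : List Lev :=
  T_v0 :: T_vs1
noncomputable def T_ps : List PcG :=
  [⟨[8], 2, [], [W (nat_lit 0x340f), W (nat_lit 0xc0d), W (nat_lit 0x1407), [4], [2], [0]]⟩,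
  ⟨[14], 2, [2], [W (nat_lit 0xc0d), [6], W (nat_lit 0xc05), [2], [0]]⟩,
  ⟨[12], 2, [2], [W (nat_lit 0xc07), [4], [2], [0]]⟩,
  ⟨[6], 2, [], [[4], [2], [0]]⟩,
  ⟨[4], 2, [], [[2], [0]]⟩,
  ⟨[2], 2, [], [[0]]⟩,
  ⟨[0], 2, [], []⟩]
noncomputable def eT0_E : List (ℕ × List CE) :=
  [(3, [])]
noncomputable def eT0_R : List (List ℕ) :=
  [[],
  [8]]
noncomputable def zcj181 : List (List (List ℕ)) :=
  []
noncomputable def eT1_E : List (ℕ × List CE) :=
  [(3, []),
  (3, [])]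
noncomputable def eT1_R : List (List ℕ) :=
  [[],
  [14],
  [8],
  W (nat_lit 0x3c09)]
noncomputable def zcj189 : List (List (List ℕ)) :=
  []
noncomputable def eT2_E : List (ℕ × List CE) :=
  [(3, []),
  (3, []),
  (3, []),
  (3, [])]
noncomputable def eT2_R : List (List ℕ) :=
  [[],
  [12],
  [14],
  W (nat_lit 0x340f),
  [8],
  W (nat_lit 0x3409),
  W (nat_lit 0x3c09),
  W (nat_lit 0xd03c09)]
noncomputable def zcj197 : List (List (List ℕ)) :=
  []
noncomputable def eT3_E : List (ℕ × List CE) :=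
  [(3, []),
  (3, []),
  (3, []),
  (3, []),
  (3, []),
  (3, []),
  (3, []),
  (3, [])]
noncomputable def eT3_R : List (List ℕ) :=
  [[],
  [6],
  [12],
  W (nat_lit 0x1c0d),
  [14],
  W (nat_lit 0x1c0f),
  W (nat_lit 0x340f),
  W (nat_lit 0x70340f),
  [8],
  W (nat_lit 0x1c09),
  W (nat_lit 0x3409),
  W (nat_lit 0x703409),
  W (nat_lit 0x3c09),
  W (nat_lit 0x703c09),
  W (nat_lit 0xd03c09),
  W (nat_lit 0x1c0d03c09)]
noncomputable def zcj205 : List (List (List ℕ)) :=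
  []
noncomputable def eT4_E : List (ℕ × List CE) :=
  [(3, []),
  (3, []),
  (3, []),
  (3, []),
  (3, []),
  (3, []),
  (3, []),
  (3, []),
  (3, []),
  (3, []),
  (3, []),
  (3, []),
  (3, []),
  (3, []),
  (3, []),
  (3, [])]
noncomputable def eT4_R : List (List ℕ) :=
  [[],
  [4],
  [6],
  W (nat_lit 0x1407),
  [12],
  W (nat_lit 0x140d),
  W (nat_lit 0x1c0d),
  W (nat_lit 0x501c0d),
  [14],
  W (nat_lit 0x140f),
  W (nat_lit 0x1c0f),
  W (nat_lit 0x501c0f),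
  W (nat_lit 0x340f),
  W (nat_lit 0x50340f),
  W (nat_lit 0x70340f),
  W (nat_lit 0x14070340f),
  [8],
  W (nat_lit 0x1409),
  W (nat_lit 0x1c09),
  W (nat_lit 0x501c09),
  W (nat_lit 0x3409),
  W (nat_lit 0x503409),
  W (nat_lit 0x703409),
  W (nat_lit 0x140703409),
  W (nat_lit 0x3c09),
  W (nat_lit 0x503c09),
  W (nat_lit 0x703c09),
  W (nat_lit 0x140703c09),
  W (nat_lit 0xd03c09),
  W (nat_lit 0x140d03c09),
  W (nat_lit 0x1c0d03c09),
  W (nat_lit 0x501c0d03c09)]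
noncomputable def zcj213 : List (List (List ℕ)) :=
  []
noncomputable def eT5_E : List (ℕ × List CE) :=
  [(3, []),
  (3, []),
  (3, []),
  (3, []),
  (3, []),
  (3, []),
  (3, []),
  (3, []),
  (3, []),
  (3, []),
  (3, []),
  (3, []),
  (3, []),
  (3, []),
  (3, []),
  (3, []),
  (3, []),
  (3, []),
  (3, []),
  (3, []),
  (3, []),
  (3, []),
  (3, []),
  (3, []),
  (3, []),
  (3, []),
  (3, []),
  (3, []),
  (3, []),
  (3, []),
  (3, []),
  (3, [])]
noncomputable def eT5_R : List (List ℕ) :=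
  [[],
  [2],
  [4],
  W (nat_lit 0xc05),
  [6],
  W (nat_lit 0xc07),
  W (nat_lit 0x1407),
  W (nat_lit 0x301407),
  [12],
  W (nat_lit 0xc0d),
  W (nat_lit 0x140d),
  W (nat_lit 0x30140d),
  W (nat_lit 0x1c0d),
  W (nat_lit 0x301c0d),
  W (nat_lit 0x501c0d),
  W (nat_lit 0xc0501c0d),
  [14],
  W (nat_lit 0xc0f),
  W (nat_lit 0x140f),
  W (nat_lit 0x30140f),
  W (nat_lit 0x1c0f),
  W (nat_lit 0x301c0f),
  W (nat_lit 0x501c0f),
  W (nat_lit 0xc0501c0f),
  W (nat_lit 0x340f),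
  W (nat_lit 0x30340f),
  W (nat_lit 0x50340f),
  W (nat_lit 0xc050340f),
  W (nat_lit 0x70340f),
  W (nat_lit 0xc070340f),
  W (nat_lit 0x14070340f),
  W (nat_lit 0x3014070340f),
  [8],
  W (nat_lit 0xc09),
  W (nat_lit 0x1409),
  W (nat_lit 0x301409),
  W (nat_lit 0x1c09),
  W (nat_lit 0x301c09),
  W (nat_lit 0x501c09),
  W (nat_lit 0xc0501c09),
  W (nat_lit 0x3409),
  W (nat_lit 0x303409),
  W (nat_lit 0x503409),
  W (nat_lit 0xc0503409),
  W (nat_lit 0x703409),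
  W (nat_lit 0xc0703409),
  W (nat_lit 0x140703409),
  W (nat_lit 0x30140703409),
  W (nat_lit 0x3c09),
  W (nat_lit 0x303c09),
  W (nat_lit 0x503c09),
  W (nat_lit 0xc0503c09),
  W (nat_lit 0x703c09),
  W (nat_lit 0xc0703c09),
  W (nat_lit 0x140703c09),
  W (nat_lit 0x30140703c09),
  W (nat_lit 0xd03c09),
  W (nat_lit 0xc0d03c09),
  W (nat_lit 0x140d03c09),
  W (nat_lit 0x30140d03c09),
  W (nat_lit 0x1c0d03c09),
  W (nat_lit 0x301c0d03c09),
  W (nat_lit 0x501c0d03c09),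
  W (nat_lit 0xc0501c0d03c09)]
noncomputable def zcj221 : List (List (List ℕ)) :=
  []
noncomputable def eT6_E : List (ℕ × List CE) :=
  [(3, []),
  (3, []),
  (3, []),
  (3, []),
  (3, []),
  (3, []),
  (3, []),
  (3, []),
  (3, []),
  (3, []),
  (3, []),
  (3, []),
  (3, []),
  (3, []),
  (3, []),
  (3, []),
  (3, []),
  (3, []),
  (3, []),
  (3, []),
  (3, []),
  (3, []),
  (3, []),
  (3, []),
  (3, []),
  (3, []),
  (3, []),
  (3, []),
  (3, []),
  (3, []),
  (3, []),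
  (3, []),
  (3, []),
  (3, []),
  (3, []),
  (3, []),
  (3, []),
  (3, []),
  (3, []),
  (3, []),
  (3, []),
  (3, []),
  (3, []),
  (3, []),
  (3, []),
  (3, []),
  (3, []),
  (3, []),
  (3, []),
  (3, []),
  (3, []),
  (3, []),
  (3, []),
  (3, []),
  (3, []),
  (3, []),
  (3, []),
  (3, []),
  (3, []),
  (3, []),
  (3, []),
  (3, []),
  (3, []),
  (3, [])]
noncomputable def eT6_R : List (List ℕ) :=
  [[],
  [0],
  [2],
  W (nat_lit 0x403),
  [4],
  W (nat_lit 0x405),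
  W (nat_lit 0xc05),
  W (nat_lit 0x100c05),
  [6],
  W (nat_lit 0x407),
  W (nat_lit 0xc07),
  W (nat_lit 0x100c07),
  W (nat_lit 0x1407),
  W (nat_lit 0x101407),
  W (nat_lit 0x301407),
  W (nat_lit 0x40301407),
  [12],
  W (nat_lit 0x40d),
  W (nat_lit 0xc0d),
  W (nat_lit 0x100c0d),
  W (nat_lit 0x140d),
  W (nat_lit 0x10140d),
  W (nat_lit 0x30140d),
  W (nat_lit 0x4030140d),
  W (nat_lit 0x1c0d),
  W (nat_lit 0x101c0d),
  W (nat_lit 0x301c0d),
  W (nat_lit 0x40301c0d),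
  W (nat_lit 0x501c0d),
  W (nat_lit 0x40501c0d),
  W (nat_lit 0xc0501c0d),
  W (nat_lit 0x100c0501c0d),
  [14],
  W (nat_lit 0x40f),
  W (nat_lit 0xc0f),
  W (nat_lit 0x100c0f),
  W (nat_lit 0x140f),
  W (nat_lit 0x10140f),
  W (nat_lit 0x30140f),
  W (nat_lit 0x4030140f),
  W (nat_lit 0x1c0f),
  W (nat_lit 0x101c0f),
  W (nat_lit 0x301c0f),
  W (nat_lit 0x40301c0f),
  W (nat_lit 0x501c0f),
  W (nat_lit 0x40501c0f),
  W (nat_lit 0xc0501c0f),
  W (nat_lit 0x100c0501c0f),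
  W (nat_lit 0x340f),
  W (nat_lit 0x10340f),
  W (nat_lit 0x30340f),
  W (nat_lit 0x4030340f),
  W (nat_lit 0x50340f),
  W (nat_lit 0x4050340f),
  W (nat_lit 0xc050340f),
  W (nat_lit 0x100c050340f),
  W (nat_lit 0x70340f),
  W (nat_lit 0x4070340f),
  W (nat_lit 0xc070340f),
  W (nat_lit 0x100c070340f),
  W (nat_lit 0x14070340f),
  W (nat_lit 0x1014070340f),
  W (nat_lit 0x3014070340f),
  W (nat_lit 0x403014070340f),
  [8],
  W (nat_lit 0x409),
  W (nat_lit 0xc09),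
  W (nat_lit 0x100c09),
  W (nat_lit 0x1409),
  W (nat_lit 0x101409),
  W (nat_lit 0x301409),
  W (nat_lit 0x40301409),
  W (nat_lit 0x1c09),
  W (nat_lit 0x101c09),
  W (nat_lit 0x301c09),
  W (nat_lit 0x40301c09),
  W (nat_lit 0x501c09),
  W (nat_lit 0x40501c09),
  W (nat_lit 0xc0501c09),
  W (nat_lit 0x100c0501c09),
  W (nat_lit 0x3409),
  W (nat_lit 0x103409),
  W (nat_lit 0x303409),
  W (nat_lit 0x40303409),
  W (nat_lit 0x503409),
  W (nat_lit 0x40503409),
  W (nat_lit 0xc0503409),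
  W (nat_lit 0x100c0503409),
  W (nat_lit 0x703409),
  W (nat_lit 0x40703409),
  W (nat_lit 0xc0703409),
  W (nat_lit 0x100c0703409),
  W (nat_lit 0x140703409),
  W (nat_lit 0x10140703409),
  W (nat_lit 0x30140703409),
  W (nat_lit 0x4030140703409),
  W (nat_lit 0x3c09),
  W (nat_lit 0x103c09),
  W (nat_lit 0x303c09),
  W (nat_lit 0x40303c09),
  W (nat_lit 0x503c09),
  W (nat_lit 0x40503c09),
  W (nat_lit 0xc0503c09),
  W (nat_lit 0x100c0503c09),
  W (nat_lit 0x703c09),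
  W (nat_lit 0x40703c09),
  W (nat_lit 0xc0703c09),
  W (nat_lit 0x100c0703c09),
  W (nat_lit 0x140703c09),
  W (nat_lit 0x10140703c09),
  W (nat_lit 0x30140703c09),
  W (nat_lit 0x4030140703c09),
  W (nat_lit 0xd03c09),
  W (nat_lit 0x40d03c09),
  W (nat_lit 0xc0d03c09),
  W (nat_lit 0x100c0d03c09),
  W (nat_lit 0x140d03c09),
  W (nat_lit 0x10140d03c09),
  W (nat_lit 0x30140d03c09),
  W (nat_lit 0x4030140d03c09),
  W (nat_lit 0x1c0d03c09),
  W (nat_lit 0x101c0d03c09),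
  W (nat_lit 0x301c0d03c09),
  W (nat_lit 0x40301c0d03c09),
  W (nat_lit 0x501c0d03c09),
  W (nat_lit 0x40501c0d03c09),
  W (nat_lit 0xc0501c0d03c09),
  W (nat_lit 0x100c0501c0d03c09)]
noncomputable def eTR : List (List ℕ) :=
  eT6_R
noncomputable def S_ps : List PcG :=
  [⟨[6], 2, [], [[110], [114], W (nat_lit 0x731c469), [104], [108]]⟩,
  ⟨[110], 2, [108], [W (nat_lit 0x731c469), [114], [112], [108]]⟩,
  ⟨[104], 2, [], [W (nat_lit 0x1b471), [114], [108]]⟩,
  ⟨[112], 2, [], [W (nat_lit 0x1b473), [108]]⟩,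
  ⟨[114], 2, [], [[108]]⟩,
  ⟨[108], 2, [], []⟩]
noncomputable def zE229 : List (ℕ × List ℕ) :=
  [(8, [114]),
  (14, [110]),
  (12, W (nat_lit 0x1cc71)),
  (4, W (nat_lit 0x1cc69)),
  (2, [108])]
noncomputable def S_v0 : Lev :=
  ⟨0, 4, sg (W (nat_lit 0x3c09)), [[102], [104]], 40, 2⟩
noncomputable def S_v1 : Lev :=
  ⟨8, 2, sg [104], [[106], [102]], 42, 1⟩
noncomputable def S_v2 : Lev :=
  ⟨11, 4, sg (W (nat_lit 0x19c6b)), [[108]], 43, 1⟩
noncomputable def S_v3 : Lev :=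
  ⟨1, 2, sg [108], [], 44, 0⟩
noncomputable def S_vs4 : List Lev :=
  []
noncomputable def S_vs3 : List Lev :=
  S_v3 :: S_vs4
noncomputable def S_vs2 : List Lev :=
  S_v2 :: S_vs3
noncomputable def S_vs1 : List Lev :=
  S_v1 :: S_vs2
noncomputable def S_vs : List Lev :=
  S_v0 :: S_vs1
noncomputable def CB_ps : List PcG :=
  [⟨[0], 2, [], [[6], [124], [126], [128], [130]]⟩,
  ⟨[6], 2, [], [W (nat_lit 0x832047d), [130], W (nat_lit 0x832047f), [126]]⟩,
  ⟨[124], 2, W (nat_lit 0x20c81), [W (nat_lit 0x832047f), [130], [128]]⟩,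
  ⟨[126], 2, [], [[128], [130]]⟩,
  ⟨[128], 2, [], [[130]]⟩,
  ⟨[130], 2, [], []⟩]
noncomputable def zE234 : List (ℕ × List ℕ) :=
  [(8, [130]),
  (12, [124]),
  (4, W (nat_lit 0x20c7f)),
  (2, W (nat_lit 0x20c81))]
noncomputable def CB_v0 : Lev :=
  ⟨24, 2, sg [0], [[8], [12], [6], [4], [2]], 47, 0⟩
noncomputable def CB_v1 : Lev :=
  ⟨0, 4, sg (W (nat_lit 0x1c09)), [[116], [118]], 47, 2⟩
noncomputable def CB_v2 : Lev :=
  ⟨8, 2, sg [116], [[120]], 49, 1⟩
noncomputable def CB_v3 : Lev :=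
  ⟨11, 2, sg [120], [[122]], 50, 1⟩
noncomputable def CB_v4 : Lev :=
  ⟨1, 2, sg [122], [], 51, 0⟩
noncomputable def CB_vs5 : List Lev :=
  []
noncomputable def CB_vs4 : List Lev :=
  CB_v4 :: CB_vs5
noncomputable def CB_vs3 : List Lev :=
  CB_v3 :: CB_vs4
noncomputable def CB_vs2 : List Lev :=
  CB_v2 :: CB_vs3
noncomputable def CB_vs1 : List Lev :=
  CB_v1 :: CB_vs2
noncomputable def CB_vs : List Lev :=
  CB_v0 :: CB_vs1
noncomputable def zm239 : ℕ :=
  (nat_lit 0x3195901)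
noncomputable def zm240 : ℕ :=
  (nat_lit 0x3c0a2c2)
noncomputable def cV_F : List (List ℕ × ℕ × ℕ) :=
  [([0], zm239, zm239),
  ([2], zm240, zm240)]
noncomputable def cVG_v0 : Lev :=
  ⟨0, 12, sg (W (nat_lit 0x3c1301c05)), [[42], [44]], 10, 2⟩
noncomputable def cVG_v1 : Lev :=
  ⟨10, 12, sg (W (nat_lit 0xb42b0b42b0b42b)), [[46], [48]], 12, 2⟩
noncomputable def cVG_v2 : Lev :=
  ⟨5, 11, sg (W (nat_lit 0x2f0c42f0c42f)), [[92], [94]], 35, 2⟩
noncomputable def cVG_v3 : Lev :=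
  ⟨17, 10, sg (W (nat_lit 0x5d17c5d17c5d)), [[96], [98]], 37, 2⟩
noncomputable def cVG_v4 : Lev :=
  ⟨21, 6, sg (W (nat_lit 0x6118c61)), [[100]], 39, 1⟩
noncomputable def cVG_v5 : Lev :=
  ⟨24, 2, sg [100], [], 40, 0⟩
noncomputable def cVG_vs6 : List Lev :=
  []
noncomputable def cVG_vs5 : List Lev :=
  cVG_v5 :: cVG_vs6
noncomputable def cVG_vs4 : List Lev :=
  cVG_v4 :: cVG_vs5
noncomputable def cVG_vs3 : List Lev :=
  cVG_v3 :: cVG_vs4
noncomputable def cVG_vs2 : List Lev :=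
  cVG_v2 :: cVG_vs3
noncomputable def cVG_vs1 : List Lev :=
  cVG_v1 :: cVG_vs2
noncomputable def cVG_vs : List Lev :=
  cVG_v0 :: cVG_vs1
noncomputable def cV_x : List (ℕ × List ℕ) :=
  [((nat_lit 0), [(nat_lit 0x5335f)]),
  ((nat_lit 0), [(nat_lit 0xfacca0)]),
  ((nat_lit 0), []),
  ((nat_lit 0), []),
  ((nat_lit 0), [])]
noncomputable def zE244 : List (ℕ × List ℕ) :=
  [(100, [0])]
noncomputable def cV_G : Gl :=
  ⟨P, ns, (app D zE244), (diag [[2], [4]]), [], [], memM (app D zE244) [[8], [12], [6], [4], [2], [0]], true⟩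
noncomputable def cV_s : St :=
  ⟨(mkS P.n cVG_vs cV_x), [[0], [2], [4], [6], [8], [10], [12], [14], [16], [18], [20]], [], mapL Prod.snd cV_F, memM (app D zE244) [[8], [12], [6], [4], [2], [0]], []⟩
noncomputable def zt246 : ST :=
  (.orb 0 (.and 1 0 (.br 0 [W (nat_lit 0x791d405), W (nat_lit 0x7b1d407)] (W (nat_lit 0xc01)) [(0, [])] (.cons (.orb 0 (.dif 0 4 (.dif 0 6 (.br 0 [W (nat_lit 0x7b1d401), W (nat_lit 0x7b1e401)] (W (nat_lit 0xc01)) [(10, [])] (.cons (.dif 1 0 (.img [0] 1 (.dif 1 0 (.br 0 [W (nat_lit 0x1d401)] [0] [(5, [])] (.cons (.img [0] 0 (.br 0 [] [] [(17, [])] (.cons (.img [0] 6 (.br 0 [] [] [(21, [])] (.cons .fnd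
 .nil)))
 .nil)))
 .nil)))))
 .nil)))))
 .nil))))
noncomputable def B_v0 : Lev :=
  ⟨0, 2, sg [4], [[2], [0]], 55, 0⟩
noncomputable def B_v1 : Lev :=
  ⟨1, 2, sg [2], [[0]], 19, 0⟩
noncomputable def B_v2 : Lev :=
  ⟨24, 2, sg [0], [], 10, 0⟩
noncomputable def B_vs3 : List Lev :=
  []
noncomputable def B_vs2 : List Lev :=
  B_v2 :: B_vs3
noncomputable def B_vs1 : List Lev :=
  B_v1 :: B_vs2
noncomputable def B_vs : List Lev :=
  B_v0 :: B_vs1
noncomputable def B_ps : List PcG :=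
  [⟨[4], 2, [], [[2], [0]]⟩,
  ⟨[2], 2, [], [[0]]⟩,
  ⟨[0], 2, [], []⟩]
noncomputable def eB0_E : List (ℕ × List CE) :=
  [(3, [])]
noncomputable def eB0_R : List (List ℕ) :=
  [[],
  [4]]
noncomputable def zcj257 : List (List (List ℕ)) :=
  []
noncomputable def eB1_E : List (ℕ × List CE) :=
  [(3, []),
  (3, [])]
noncomputable def eB1_R : List (List ℕ) :=
  [[],
  [2],
  [4],
  W (nat_lit 0xc05)]
noncomputable def zcj265 : List (List (List ℕ)) :=
  []
noncomputable def eB2_E : List (ℕ × List CE) :=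
  [(3, []),
  (3, []),
  (3, []),
  (3, [])]
noncomputable def eB2_R : List (List ℕ) :=
  [[],
  [0],
  [2],
  W (nat_lit 0x403),
  [4],
  W (nat_lit 0x405),
  W (nat_lit 0xc05),
  W (nat_lit 0x100c05)]
noncomputable def eBR : List (List ℕ) :=
  eB2_R
noncomputable def zm273 : ℕ :=
  (nat_lit 0x3583380)
noncomputable def zm274 : ℕ :=
  (nat_lit 0x3184800)
noncomputable def zm275 : ℕ :=
  (nat_lit 0x3195901)
noncomputable def zm276 : ℕ :=
  (nat_lit 0x3a4a608)
noncomputable def zm277 : ℕ :=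
  (nat_lit 0x3c0a2c2)
noncomputable def cCV_F : List (List ℕ × ℕ × ℕ) :=
  [([0], zm273, zm273),
  ([2], zm274, zm274),
  (W (nat_lit 0xc03), zm275, zm275),
  ([4], zm276, zm276),
  ([6], zm277, zm277)]
noncomputable def cCVG_v0 : Lev :=
  ⟨0, 12, sg (W (nat_lit 0x3c1301c05)), [[42], [44]], 10, 2⟩
noncomputable def cCVG_v1 : Lev :=
  ⟨10, 12, sg (W (nat_lit 0xb42b0b42b0b42b)), [[46], [48]], 12, 2⟩
noncomputable def cCVG_v2 : Lev :=
  ⟨5, 11, sg (W (nat_lit 0x2f0c42f0c42f)), [[92], [94]], 35, 2⟩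
noncomputable def cCVG_v3 : Lev :=
  ⟨17, 10, sg (W (nat_lit 0x5d17c5d17c5d)), [[96], [98]], 37, 2⟩
noncomputable def cCVG_v4 : Lev :=
  ⟨21, 6, sg (W (nat_lit 0x6118c61)), [[100]], 39, 1⟩
noncomputable def cCVG_v5 : Lev :=
  ⟨24, 2, sg [100], [], 40, 0⟩
noncomputable def cCVG_vs6 : List Lev :=
  []
noncomputable def cCVG_vs5 : List Lev :=
  cCVG_v5 :: cCVG_vs6
noncomputable def cCVG_vs4 : List Lev :=
  cCVG_v4 :: cCVG_vs5
noncomputable def cCVG_vs3 : List Lev :=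
  cCVG_v3 :: cCVG_vs4
noncomputable def cCVG_vs2 : List Lev :=
  cCVG_v2 :: cCVG_vs3
noncomputable def cCVG_vs1 : List Lev :=
  cCVG_v1 :: cCVG_vs2
noncomputable def cCVG_vs : List Lev :=
  cCVG_v0 :: cCVG_vs1
noncomputable def cCV_x : List (ℕ × List ℕ) :=
  [((nat_lit 0), []),
  ((nat_lit 0), [(nat_lit 0xfacca0)]),
  ((nat_lit 0), []),
  ((nat_lit 0), []),
  ((nat_lit 0), [])]
noncomputable def zE281 : List (ℕ × List ℕ) :=
  [(100, [0])]
noncomputable def cCV_G : Gl :=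
  ⟨P, ns, (app D zE281), (diag [[8], [12], [6], [4], [2]]), [], [], memM (app D zE281) [[4], [2], [0]], true⟩
noncomputable def cCV_s : St :=
  ⟨(mkS P.n cCVG_vs cCV_x), [[0], [2], [4], [6], [8], [10], [12], [14], [16], [18], [20]], [], mapL Prod.snd cCV_F, memM (app D zE281) [[4], [2], [0]], []⟩
noncomputable def zt283 : ST :=
  (.dif 2 0 (.dif 0 2 (.br 0 [[4]] [0] [(0, [])] (.cons (.dif 6 7 (.orb 0 (.and 1 0 (.br 0 [W (nat_lit 0x403)] [0] [(10, [])] (.cons (.img [2] 0 (.br 0 [] [] [(5, [])] (.cons (.img [0] 2 (.br 0 [] [] [(17, [])] (.cons (.img [0] 2 (.br 0 [] [] [(21, [])] (.cons .fnd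
 .nil)))
 .nil)))
 .nil)))
 .nil)))))
 .nil))))
noncomputable def A_v0 : Lev :=
  ⟨1, 2, sg [6], [[132], [134], [136]], 55, 3⟩
noncomputable def A_v1 : Lev :=
  ⟨2, 2, sg [134], [[138], [132]], 58, 1⟩
noncomputable def A_v2 : Lev :=
  ⟨0, 2, sg [132], [[138]], 59, 0⟩
noncomputable def A_v3 : Lev :=
  ⟨24, 2, sg [138], [], 59, 0⟩
noncomputable def A_vs4 : List Lev :=
  []
noncomputable def A_vs3 : List Lev :=
  A_v3 :: A_vs4
noncomputable def A_vs2 : List Lev :=
  A_v2 :: A_vs3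
noncomputable def A_vs1 : List Lev :=
  A_v1 :: A_vs2
noncomputable def A_vs : List Lev :=
  A_v0 :: A_vs1
noncomputable def A_ps : List PcG :=
  [⟨[6], 2, [], [[4], [2], [0]]⟩,
  ⟨[4], 2, [], [[2], [0]]⟩,
  ⟨[2], 2, [], [[0]]⟩,
  ⟨[0], 2, [], []⟩]
noncomputable def eA0_E : List (ℕ × List CE) :=
  [(3, [])]
noncomputable def eA0_R : List (List ℕ) :=
  [[],
  [6]]
noncomputable def zcj294 : List (List (List ℕ)) :=
  []
noncomputable def eA1_E : List (ℕ × List CE) :=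
  [(3, []),
  (3, [])]
noncomputable def eA1_R : List (List ℕ) :=
  [[],
  [4],
  [6],
  W (nat_lit 0x1407)]
noncomputable def zcj302 : List (List (List ℕ)) :=
  []
noncomputable def eA2_E : List (ℕ × List CE) :=
  [(3, []),
  (3, []),
  (3, []),
  (3, [])]
noncomputable def eA2_R : List (List ℕ) :=
  [[],
  [2],
  [4],
  W (nat_lit 0xc05),
  [6],
  W (nat_lit 0xc07),
  W (nat_lit 0x1407),
  W (nat_lit 0x301407)]
noncomputable def zcj310 : List (List (List ℕ)) :=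
  []
noncomputable def eA3_E : List (ℕ × List CE) :=
  [(3, []),
  (3, []),
  (3, []),
  (3, []),
  (3, []),
  (3, []),
  (3, []),
  (3, [])]
noncomputable def eA3_R : List (List ℕ) :=
  [[],
  [0],
  [2],
  W (nat_lit 0x403),
  [4],
  W (nat_lit 0x405),
  W (nat_lit 0xc05),
  W (nat_lit 0x100c05),
  [6],
  W (nat_lit 0x407),
  W (nat_lit 0xc07),
  W (nat_lit 0x100c07),
  W (nat_lit 0x1407),
  W (nat_lit 0x101407),
  W (nat_lit 0x301407),
  W (nat_lit 0x40301407)]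
noncomputable def eAR : List (List ℕ) :=
  eA3_R
noncomputable def zm318 : ℕ :=
  (nat_lit 0x3a4a608)
noncomputable def zm319 : ℕ :=
  (nat_lit 0x3c0a2c2)
noncomputable def zm320 : ℕ :=
  (nat_lit 0x3195901)
noncomputable def cW_F : List (List ℕ × ℕ × ℕ) :=
  [([0], zm318, zm318),
  ([2], zm319, zm319),
  ([4], zm320, zm320)]
noncomputable def cWG_v0 : Lev :=
  ⟨0, 12, sg (W (nat_lit 0x3c1301c05)), [[42], [44]], 10, 2⟩
noncomputable def cWG_v1 : Lev :=
  ⟨10, 12, sg (W (nat_lit 0xb42b0b42b0b42b)), [[46], [48]], 12, 2⟩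
noncomputable def cWG_v2 : Lev :=
  ⟨8, 11, sg (W (nat_lit 0x310bc2f0c42f)), [[140], [142]], 59, 2⟩
noncomputable def cWG_v3 : Lev :=
  ⟨12, 10, sg (W (nat_lit 0x2348d2348f2348d)), [[144], [146]], 61, 2⟩
noncomputable def cWG_v4 : Lev :=
  ⟨2, 6, sg (W (nat_lit 0x9124c91)), [[148]], 63, 1⟩
noncomputable def cWG_v5 : Lev :=
  ⟨24, 2, sg [148], [], 64, 0⟩
noncomputable def cWG_vs6 : List Lev :=
  []
noncomputable def cWG_vs5 : List Lev :=
  cWG_v5 :: cWG_vs6
noncomputable def cWG_vs4 : List Lev :=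
  cWG_v4 :: cWG_vs5
noncomputable def cWG_vs3 : List Lev :=
  cWG_v3 :: cWG_vs4
noncomputable def cWG_vs2 : List Lev :=
  cWG_v2 :: cWG_vs3
noncomputable def cWG_vs1 : List Lev :=
  cWG_v1 :: cWG_vs2
noncomputable def cWG_vs : List Lev :=
  cWG_v0 :: cWG_vs1
noncomputable def cW_x : List (ℕ × List ℕ) :=
  [((nat_lit 0), [(nat_lit 0x5335f)]),
  ((nat_lit 0), []),
  ((nat_lit 0), []),
  ((nat_lit 0), []),
  ((nat_lit 0), [(nat_lit 0x5024c),
   (nat_lit 0x2012)])]
noncomputable def zE324 : List (ℕ × List ℕ) :=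
  [(148, [138])]
noncomputable def cW_G : Gl :=
  ⟨P, ns, (app D zE324), (diag [[6], [4], [2]]), [], [], memM (app D zE324) [[6], [4], [2], [0]], true⟩
noncomputable def cW_s : St :=
  ⟨(mkS P.n cWG_vs cW_x), [[0], [2], [4], [6], [8], [10], [12], [14], [16], [18], [20]], [], mapL Prod.snd cW_F, memM (app D zE324) [[6], [4], [2], [0]], []⟩
noncomputable def zt326 : ST :=
  (.orb 0 (.and 3 0 (.br 0 [W (nat_lit 0x8b21403), W (nat_lit 0x21c03)] (W (nat_lit 0xc01)) [(0, [])] (.cons (.dif 3 4 (.dif 0 3 (.br 0 [[2]] [0] [(10, [])] (.cons (.img [0] 3 (.br 0 [] [] [(8, [])] (.cons (.img [2] 0 (.br 0 [] [] [(12, [])] (.cons (.orb 0 (.orb 1 (.img [2] 0 (.and 2 0 (.br 0 [] [] [(2, [])] (.cons .fnd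
 .nil))))))
 .nil)))
 .nil)))
 .nil))))
 .nil))))
noncomputable def Y_v0 : Lev :=
  ⟨9, 2, sg [2], [[16], [0]], 64, 0⟩
noncomputable def Y_v1 : Lev :=
  ⟨24, 2, sg [0], [[16]], 64, 0⟩
noncomputable def Y_v2 : Lev :=
  ⟨0, 3, sg (W (nat_lit 0x4411)), [], 40, 0⟩
noncomputable def Y_vs3 : List Lev :=
  []
noncomputable def Y_vs2 : List Lev :=
  Y_v2 :: Y_vs3
noncomputable def Y_vs1 : List Lev :=
  Y_v1 :: Y_vs2
noncomputable def Y_vs : List Lev :=
  Y_v0 :: Y_vs1
noncomputable def Y_ps : List PcG :=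
  [⟨[16], 3, [], [[2], [0]]⟩,
  ⟨[2], 2, [], [[0]]⟩,
  ⟨[0], 2, [], []⟩]
noncomputable def eY0_E : List (ℕ × List CE) :=
  [(7, [])]
noncomputable def eY0_R : List (List ℕ) :=
  [[],
  [16],
  W (nat_lit 0x4411)]
noncomputable def zcj337 : List (List (List ℕ)) :=
  []
noncomputable def eY1_E : List (ℕ × List CE) :=
  [(3, []),
  (3, []),
  (3, [])]
noncomputable def eY1_R : List (List ℕ) :=
  [[],
  [2],
  [16],
  W (nat_lit 0xc11),
  W (nat_lit 0x4411),
  W (nat_lit 0x304411)]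
noncomputable def zcj345 : List (List (List ℕ)) :=
  []
noncomputable def eY2_E : List (ℕ × List CE) :=
  [(3, []),
  (3, []),
  (3, []),
  (3, []),
  (3, []),
  (3, [])]
noncomputable def eY2_R : List (List ℕ) :=
  [[],
  [0],
  [2],
  W (nat_lit 0x403),
  [16],
  W (nat_lit 0x411),
  W (nat_lit 0xc11),
  W (nat_lit 0x100c11),
  W (nat_lit 0x4411),
  W (nat_lit 0x104411),
  W (nat_lit 0x304411),
  W (nat_lit 0x40304411)]
noncomputable def eYR : List (List ℕ) :=
  eY2_R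
noncomputable def zm353 : ℕ :=
  (nat_lit 0x3195901)
noncomputable def zm354 : ℕ :=
  (nat_lit 0x390a300)
noncomputable def cy_F : List (List ℕ × ℕ × ℕ) :=
  [([0], zm353, zm353),
  ([2], zm354, zm354)]
noncomputable def cyG_v0 : Lev :=
  ⟨0, 12, sg (W (nat_lit 0x3c1301c05)), [[42], [44]], 10, 2⟩
noncomputable def cyG_v1 : Lev :=
  ⟨15, 12, sg (W (nat_lit 0x2d0b42b0b42d0ac2b)), [[150], [152]], 64, 2⟩
noncomputable def cyG_v2 : Lev :=
  ⟨8, 11, sg (W (nat_lit 0x264972649726497)), [[154], [156]], 66, 2⟩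
noncomputable def cyG_v3 : Lev :=
  ⟨12, 10, sg (W (nat_lit 0x9b2749b2749b)), [[158], [160]], 68, 2⟩
noncomputable def cyG_v4 : Lev :=
  ⟨3, 6, sg (W (nat_lit 0x9f2849f)), [[162]], 70, 1⟩
noncomputable def cyG_v5 : Lev :=
  ⟨24, 2, sg [162], [], 71, 0⟩
noncomputable def cyG_vs6 : List Lev :=
  []
noncomputable def cyG_vs5 : List Lev :=
  cyG_v5 :: cyG_vs6
noncomputable def cyG_vs4 : List Lev :=
  cyG_v4 :: cyG_vs5
noncomputable def cyG_vs3 : List Lev :=
  cyG_v3 :: cyG_vs4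
noncomputable def cyG_vs2 : List Lev :=
  cyG_v2 :: cyG_vs3
noncomputable def cyG_vs1 : List Lev :=
  cyG_v1 :: cyG_vs2
noncomputable def cyG_vs : List Lev :=
  cyG_v0 :: cyG_vs1
noncomputable def cy_x : List (ℕ × List ℕ) :=
  [((nat_lit 0), [(nat_lit 0x5335f)]),
  ((nat_lit 0), [(nat_lit 0xfacca0)]),
  ((nat_lit 0), []),
  ((nat_lit 0), []),
  ((nat_lit 0), [(nat_lit 0x12258),
   (nat_lit 0x40006)])]
noncomputable def zE358 : List (ℕ × List ℕ) :=
  [(162, [0])]
noncomputable def cy_G : Gl :=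
  ⟨P, ns, (app D zE358), (diag [[2], [16]]), [], [], memM (app D zE358) [[16], [2], [0]], true⟩
noncomputable def cy_s : St :=
  ⟨(mkS P.n cyG_vs cy_x), [[0], [2], [4], [6], [8], [10], [12], [14], [16], [18], [20]], [], mapL Prod.snd cy_F, memM (app D zE358) [[16], [2], [0]], []⟩
noncomputable def zt360 : ST :=
  (.orb 0 (.and 1 0 (.dif 0 3 (.br 0 [W (nat_lit 0x4403)] (W (nat_lit 0x401)) [(0, [])] (.cons (.orb 0 (.and 6 0 (.dif 0 6 (.br 0 [[2]] [0] [(15, [])] (.cons (.and 9 7 (.and 0 9 (.br 0 [] [] [(8, [])] (.cons (.img [2] 7 (.br 0 [] [] [(12, [])] (.cons (.orb 0 (.orb 1 (.img (W (nat_lit 0x1001)) 0 (.and 2 0 (.br 0 [] [] [(3, [])] (.cons .fnd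
 .nil))))))
 .nil)))
 .nil))))
 .nil)))))
 .nil)))))
noncomputable def F_v0 : Lev :=
  ⟨24, 2, sg [0], [[20], [12], [4], [2]], 71, 0⟩
noncomputable def F_v1 : Lev :=
  ⟨0, 4, sg (W (nat_lit 0x3415)), [[164]], 71, 1⟩
noncomputable def F_v2 : Lev :=
  ⟨11, 2, sg [164], [[166]], 72, 1⟩
noncomputable def F_v3 : Lev :=
  ⟨1, 2, sg [166], [], 73, 0⟩
noncomputable def F_vs4 : List Lev :=
  []
noncomputable def F_vs3 : List Lev :=
  F_v3 :: F_vs4
noncomputable def F_vs2 : List Lev :=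
  F_v2 :: F_vs3
noncomputable def F_vs1 : List Lev :=
  F_v1 :: F_vs2
noncomputable def F_vs : List Lev :=
  F_v0 :: F_vs1
noncomputable def F_ps : List PcG :=
  [⟨[20], 2, [4], [[12], [4], [2], [0]]⟩,
  ⟨[12], 2, [2], [[4], [2], [0]]⟩,
  ⟨[4], 2, [], [[2], [0]]⟩,
  ⟨[2], 2, [], [[0]]⟩,
  ⟨[0], 2, [], []⟩]
noncomputable def eF0_E : List (ℕ × List CE) :=
  [(3, [])]
noncomputable def eF0_R : List (List ℕ) :=
  [[],
  [20]]
noncomputable def zcj371 : List (List (List ℕ)) :=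
  []
noncomputable def eF1_E : List (ℕ × List CE) :=
  [(3, []),
  (3, [])]
noncomputable def eF1_R : List (List ℕ) :=
  [[],
  [12],
  [20],
  W (nat_lit 0x3415)]
noncomputable def zcj379 : List (List (List ℕ)) :=
  []
noncomputable def eF2_E : List (ℕ × List CE) :=
  [(3, []),
  (3, []),
  (3, []),
  (3, [])]
noncomputable def eF2_R : List (List ℕ) :=
  [[],
  [4],
  [12],
  W (nat_lit 0x140d),
  [20],
  W (nat_lit 0x1415),
  W (nat_lit 0x3415),
  W (nat_lit 0x503415)]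
noncomputable def zcj387 : List (List (List ℕ)) :=
  []
noncomputable def eF3_E : List (ℕ × List CE) :=
  [(3, []),
  (3, []),
  (3, []),
  (3, []),
  (3, []),
  (3, []),
  (3, []),
  (3, [])]
noncomputable def eF3_R : List (List ℕ) :=
  [[],
  [2],
  [4],
  W (nat_lit 0xc05),
  [12],
  W (nat_lit 0xc0d),
  W (nat_lit 0x140d),
  W (nat_lit 0x30140d),
  [20],
  W (nat_lit 0xc15),
  W (nat_lit 0x1415),
  W (nat_lit 0x301415),
  W (nat_lit 0x3415),
  W (nat_lit 0x303415),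
  W (nat_lit 0x503415),
  W (nat_lit 0xc0503415)]
noncomputable def zcj395 : List (List (List ℕ)) :=
  []
noncomputable def eF4_E : List (ℕ × List CE) :=
  [(3, []),
  (3, []),
  (3, []),
  (3, []),
  (3, []),
  (3, []),
  (3, []),
  (3, []),
  (3, []),
  (3, []),
  (3, []),
  (3, []),
  (3, []),
  (3, []),
  (3, []),
  (3, [])]
noncomputable def eF4_R : List (List ℕ) :=
  [[],
  [0],
  [2],
  W (nat_lit 0x403),
  [4],
  W (nat_lit 0x405),
  W (nat_lit 0xc05),
  W (nat_lit 0x100c05),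
  [12],
  W (nat_lit 0x40d),
  W (nat_lit 0xc0d),
  W (nat_lit 0x100c0d),
  W (nat_lit 0x140d),
  W (nat_lit 0x10140d),
  W (nat_lit 0x30140d),
  W (nat_lit 0x4030140d),
  [20],
  W (nat_lit 0x415),
  W (nat_lit 0xc15),
  W (nat_lit 0x100c15),
  W (nat_lit 0x1415),
  W (nat_lit 0x101415),
  W (nat_lit 0x301415),
  W (nat_lit 0x40301415),
  W (nat_lit 0x3415),
  W (nat_lit 0x103415),
  W (nat_lit 0x303415),
  W (nat_lit 0x40303415),
  W (nat_lit 0x503415),
  W (nat_lit 0x40503415),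
  W (nat_lit 0xc0503415),
  W (nat_lit 0x100c0503415)]
noncomputable def eFR : List (List ℕ) :=
  eF4_R
noncomputable def zts403 : List (List ℕ) :=
  [W (nat_lit 0x1ec791d407),
  W (nat_lit 0x7b1e405),
  [4],
  [122],
  [0]]
noncomputable def Ci_ps : List PcG :=
  [⟨[172], 2, [], [[178], [168], [180], [182], [176]]⟩,
  ⟨[178], 2, [176], [[168], [180], [182], [176]]⟩,
  ⟨[180], 2, [182], [W (nat_lit 0x2c4a9), [182], [176]]⟩,
  ⟨[168], 2, [182], [[182], [176]]⟩,
  ⟨[182], 2, [176], [[176]]⟩,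
  ⟨[176], 2, [], []⟩]
noncomputable def zE406 : List (ℕ × List ℕ) :=
  [(170, [178])]
noncomputable def Ci_v0 : Lev :=
  ⟨24, 2, sg [172], [[168], [170]], 76, 0⟩
noncomputable def Ci_v1 : Lev :=
  ⟨0, 4, sg (W (nat_lit 0xa92a4a9)), [[174], [171]], 76, 1⟩
noncomputable def Ci_v2 : Lev :=
  ⟨11, 4, sg (W (nat_lit 0x2b0af)), [[176]], 77, 1⟩
noncomputable def Ci_v3 : Lev :=
  ⟨1, 2, sg [176], [], 78, 0⟩
noncomputable def Ci_vs4 : List Lev :=
  []
noncomputable def Ci_vs3 : List Lev :=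
  Ci_v3 :: Ci_vs4
noncomputable def Ci_vs2 : List Lev :=
  Ci_v2 :: Ci_vs3
noncomputable def Ci_vs1 : List Lev :=
  Ci_v1 :: Ci_vs2
noncomputable def Ci_vs : List Lev :=
  Ci_v0 :: Ci_vs1
noncomputable def zm411 : ℕ :=
  (nat_lit 0x3184800)
noncomputable def zm412 : ℕ :=
  (nat_lit 0x3195901)
noncomputable def ci_F : List (List ℕ × ℕ × ℕ) :=
  [([0], zm411, zm411),
  (W (nat_lit 0x401), zm412, zm412)]
noncomputable def ciG_v0 : Lev :=
  ⟨0, 12, sg (W (nat_lit 0x3c1301c05)), [[42], [44]], 10, 2⟩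
noncomputable def ciG_v1 : Lev :=
  ⟨10, 12, sg (W (nat_lit 0xb42b0b42b0b42b)), [[46], [48]], 12, 2⟩
noncomputable def ciG_v2 : Lev :=
  ⟨5, 11, sg (W (nat_lit 0x2f0c42f0c42f)), [[92], [94]], 35, 2⟩
noncomputable def ciG_v3 : Lev :=
  ⟨17, 10, sg (W (nat_lit 0x5d17c5d17c5d)), [[96], [98]], 37, 2⟩
noncomputable def ciG_v4 : Lev :=
  ⟨21, 6, sg (W (nat_lit 0x6118c61)), [[100]], 39, 1⟩
noncomputable def ciG_v5 : Lev :=
  ⟨24, 2, sg [100], [], 40, 0⟩
noncomputable def ciG_vs6 : List Lev :=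
  []
noncomputable def ciG_vs5 : List Lev :=
  ciG_v5 :: ciG_vs6
noncomputable def ciG_vs4 : List Lev :=
  ciG_v4 :: ciG_vs5
noncomputable def ciG_vs3 : List Lev :=
  ciG_v3 :: ciG_vs4
noncomputable def ciG_vs2 : List Lev :=
  ciG_v2 :: ciG_vs3
noncomputable def ciG_vs1 : List Lev :=
  ciG_v1 :: ciG_vs2
noncomputable def ciG_vs : List Lev :=
  ciG_v0 :: ciG_vs1
noncomputable def ci_x : List (ℕ × List ℕ) :=
  [((nat_lit 0), []),
  ((nat_lit 0), [(nat_lit 0xfacca0)]),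
  ((nat_lit 0), []),
  ((nat_lit 0), []),
  ((nat_lit 0), [])]
noncomputable def zE416 : List (ℕ × List ℕ) :=
  [(100, W (nat_lit 0xb12b0a92a4ad))]
noncomputable def ci_G : Gl :=
  ⟨P, ns, (app D zE416), (diag [[12]]), [], [], memM (app D zE416) [[168], [170], [172]], true⟩
noncomputable def ci_s : St :=
  ⟨(mkS P.n ciG_vs ci_x), [[0], [2], [4], [6], [8], [10], [12], [14], [16], [18], [20]], [], mapL Prod.snd ci_F, memM (app D zE416) [[168], [170], [172]], []⟩
noncomputable def zt418 : ST :=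
  (.dif 1 0 (.br 0 [W (nat_lit 0x2a4ad), W (nat_lit 0xb12bcad)] (W (nat_lit 0xc01)) [(0, [])] (.cons (.orb 0 (.dif 0 3 (.br 0 [W (nat_lit 0x2b0af), W (nat_lit 0x2c4af)] (W (nat_lit 0x40100c01)) [(10, [])] (.cons (.img [0] 0 (.br 0 [] [] [(5, [])] (.cons (.img [1] 2 (.br 0 [] [] [(17, [])] (.cons (.img [0] 2 (.br 0 [] [] [(21, [])] (.cons .fnd
 .nil)))
 .nil)))
 .nil)))
 .nil))))
 .nil)))
noncomputable def zts422 : List (List ℕ) :=
  [W (nat_lit 0xcb31cc32f4c1),
  W (nat_lit 0x334c932cc7328c12ecb9),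
  W (nat_lit 0xcd308bf2f0cb),
  W (nat_lit 0xc22f8c22ecb9),
  W (nat_lit 0x324cb31cc630cc02f0cb),
  W (nat_lit 0x32cc731cc1314bf2ecb9),
  W (nat_lit 0x334c7328c32f4c12f0cb),
  W (nat_lit 0x31cca308c02ecb9),
  W (nat_lit 0x334c7304c92f4c82ecbb),
  W (nat_lit 0x324cb31cbf2f0cb)]
noncomputable def zE425 : Net :=
  .nil
noncomputable def zK426 : Lk :=
  ⟨zE425, 1, 3, 1⟩
noncomputable def zE429 : Net :=
  (.cons 16 (nat_lit 0xae1c)
 (.cons 8 (nat_lit 0x2c00d2)
 (.cons 4 (nat_lit 0x2030d0c)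
 (.cons 2 (nat_lit 0x20020231)
 (.cons 1 (nat_lit 0x4110450)
 (.cons 2 (nat_lit 0x2200000)
 (.cons 4 (nat_lit 0xa0c0c)
 (.cons 8 (nat_lit 0xa00d2)
 (.cons 16 (nat_lit 0xae78)
 .nil)))))))))
noncomputable def zK430 : Lk :=
  ⟨zE429, 1, 3, 1⟩
noncomputable def zE433 : Net :=
  (.cons 16 (nat_lit 0xba74)
 (.cons 8 (nat_lit 0xe00d6)
 (.cons 4 (nat_lit 0xe010d0c)
 (.cons 2 (nat_lit 0x32020021)
 (.cons 1 (nat_lit 0x50110440)
 (.cons 2 (nat_lit 0x200200)
 (.cons 4 (nat_lit 0xc080c0c)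
 (.cons 8 (nat_lit 0x2c00d2)
 (.cons 16 (nat_lit 0xba34)
 .nil)))))))))
noncomputable def zK434 : Lk :=
  ⟨zE433, 1, 3, 1⟩

theorem zb2 : bnd (pcB D [] 2 zt0 zcj1) (leB (app D []) [[36]] ([36] :: [])) = true := by decide +kernel
theorem zr3 : chk (pcR [] [36] 2 zt0 zcj1) = true := by decide +kernel
theorem zb6 : schB D [[32], [34]] [[36]] zus4 zF5 4 = true := by decide +kernel
theorem zr7 : chk (schR [[32], [34]] zus4 zF5) = true := by decide +kernel
theorem zb10 : schB D [[28], [30]] [[32], [34]] zus8 zF9 9 = true := by decide +kernel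
theorem zr11 : chk (schR [[28], [30]] zus8 zF9) = true := by decide +kernel
theorem zb14 : schB D [[23], [26]] [[28], [30]] zus12 zF13 10 = true := by decide +kernel
theorem zr15 : chk (schR [[23], [26]] zus12 zF13) = true := by decide +kernel
theorem zb18 : schB D [[22], [24]] [[23], [26]] zus16 zF17 11 = true := by decide +kernel
theorem zr19 : chk (schR [[22], [24]] zus16 zF17) = true := by decide +kernel
theorem zc21 : P.chainB ns D C_vs [[0], [2], [4], [6], [8], [10], [12], [14], [16], [18], [20]] = true := by decide +kernel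
theorem zb23 : wdB D [[22], [24]] C_v2.nx zcj22 = true := by decide +kernel
theorem zr24 : chk (wdR C_v2.nx [39] zcj22) = true := by decide +kernel
theorem zb27 : bB P.n P.N ns (app D zE26) [[2], [4], [6], [8], [10], [12], [14], [16], [18], [20]] [[22], [24]] 0 zrs20 zB25 = true := by decide +kernel
theorem zb28 : P.invSz ns [[2], [4], [6], [8], [10], [12], [14], [16], [18], [20]] 0 (orbM P.N ns C_v1) 12 = true := by decide +kernel
theorem zr29 : chk (bR 0 zrs20 zB25) = true := by decide +kernel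
theorem zr30 : chk (defRels zE26) = true := by decide +kernel
theorem zb33 : bnd (pcB D [[2], [4], [6], [8], [10], [12], [14], [16], [18], [20]] 2 zt31 zcj32) (leB (app D []) [[0], [2], [4], [6], [8], [10], [12], [14], [16], [18], [20]] ([0] :: [[2], [4], [6], [8], [10], [12], [14], [16], [18], [20]])) = true := by decide +kernel
theorem zr34 : chk (pcR [[2], [4], [6], [8], [10], [12], [14], [16], [18], [20]] [0] 2 zt31 zcj32) = true := by decide +kernel
theorem zb37 : bnd (pcB D [] 2 zt35 zcj36) (leB (app D []) [[36]] ([36] :: [])) = true := by decide +kernel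
theorem zr38 : chk (pcR [] [36] 2 zt35 zcj36) = true := by decide +kernel
theorem zb41 : schB D [[32], [34]] [[36]] zus39 zF40 4 = true := by decide +kernel
theorem zr42 : chk (schR [[32], [34]] zus39 zF40) = true := by decide +kernel
theorem zb45 : schB D [[28], [30]] [[32], [34]] zus43 zF44 9 = true := by decide +kernel
theorem zr46 : chk (schR [[28], [30]] zus43 zF44) = true := by decide +kernel
theorem zb49 : schB D [[23], [26]] [[28], [30]] zus47 zF48 10 = true := by decide +kernel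
theorem zr50 : chk (schR [[23], [26]] zus47 zF48) = true := by decide +kernel
theorem zb53 : schB D [[22], [24]] [[23], [26]] zus51 zF52 11 = true := by decide +kernel
theorem zr54 : chk (schR [[22], [24]] zus51 zF52) = true := by decide +kernel
theorem zc56 : P.chainB ns D M_vs [[2], [4], [6], [8], [10], [12], [14], [16], [18], [20]] = true := by decide +kernel
theorem zb58 : wdB D [[22], [24]] M_v1.nx zcj57 = true := by decide +kernel
theorem zr59 : chk (wdR M_v1.nx [41] zcj57) = true := by decide +kernel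
theorem zb62 : bB P.n P.N ns (app D zE61) [[2], [4], [6], [8], [10], [12], [14], [16], [18], [20]] [[22], [24]] 0 zrs55 zB60 = true := by decide +kernel
theorem zb63 : P.invSz ns [[2], [4], [6], [8], [10], [12], [14], [16], [18], [20]] 0 (orbM P.N ns M_v0) 12 = true := by decide +kernel
theorem zr64 : chk (bR 0 zrs55 zB60) = true := by decide +kernel
theorem zr65 : chk (defRels zE61) = true := by decide +kernel
theorem zf71 : P.fixXB ns (diag [[0], [2], [4], [6], [8], [10], [12], [14], [16], [18], [20]]) cZ_F = true := by decide +kernel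
theorem zc72 : P.chainB ns D cZG_vs [[0], [2], [4], [6], [8], [10], [12], [14], [16], [18], [20]] = true := by decide +kernel
theorem zs73 : ssB P.N ns D (mkS P.n cZG_vs cZ_x) [[0], [2], [4], [6], [8], [10], [12], [14], [16], [18], [20]] = true := by decide +kernel
theorem zr75 : chk (defRels zE74) = true := by decide +kernel
theorem zs77 : cZ_G.chk zt76 cZ_s none = true := by decide +kernel
theorem zr78 : chk (comR [[0]] (mapL Prod.snd (diag [[0], [2], [4], [6], [8], [10], [12], [14], [16], [18], [20]]))) = true := by decide +kernel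
theorem zm79 : leB D [[0]] [[0], [2], [4], [6], [8], [10], [12], [14], [16], [18], [20]] = true := by decide +kernel
theorem zf82 : P.fixXB ns (diag [[12], [14], [4], [6]]) cQ_F = true := by decide +kernel
theorem zc83 : P.chainB ns D cQG_vs [[0], [2], [4], [6], [8], [10], [12], [14], [16], [18], [20]] = true := by decide +kernel
theorem zs84 : ssB P.N ns D (mkS P.n cQG_vs cQ_x) [[0], [2], [4], [6], [8], [10], [12], [14], [16], [18], [20]] = true := by decide +kernel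
theorem zr86 : chk (defRels zE85) = true := by decide +kernel
theorem zs88 : cQ_G.chk zt87 cQ_s none = true := by decide +kernel
theorem zr89 : chk (comR [[2], [0]] (mapL Prod.snd (diag [[12], [14], [4], [6]]))) = true := by decide +kernel
theorem zm90 : leB D [[2], [0]] [[0], [2], [4], [6], [8], [10], [12], [14], [16], [18], [20]] = true := by decide +kernel
theorem zc91 : P.chainB ns D K_vs [[8], [16], [14], [12], [6], [4], [2], [0]] = true := by decide +kernel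
theorem zr92 : chk (pcsR K_ps []) = true := by decide +kernel
theorem zb93 : bnd (pcsB D K_ps []) (leB (app D []) [[8], [16], [14], [12], [6], [4], [2], [0]] (pcGens K_ps [])) = true := by decide +kernel
theorem zq94 : cvN 2 [8] [[]] eK0_E = eK0_R := by decide +kernel
theorem zr95 : chk (cvR 0 2 [8] [[]] eK0_E) = true := by decide +kernel
theorem zb96 : cvB D [] [[16], [14], [12], [6], [4], [2], [0]] 2 [8] [[]] eK0_E = true := by decide +kernel
theorem zm97 : leB D [] [] = true := by decide +kernel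
theorem zm99 : nrmB D [] [[16], [14], [12], [6], [4], [2], [0]] zcj98 = true := by decide +kernel
theorem zr100 : chk (nrmR [] [[16], [14], [12], [6], [4], [2], [0]] zcj98) = true := by decide +kernel
theorem zm101 : leB D [[16], [14], [12], [6], [4], [2], [0]] [[8], [16], [14], [12], [6], [4], [2], [0]] = true := by decide +kernel
theorem zq102 : cvN 3 [16] eK0_R eK1_E = eK1_R := by decide +kernel
theorem zr103 : chk (cvR 0 3 [16] eK0_R eK1_E) = true := by decide +kernel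
theorem zb104 : cvB D [] [[14], [12], [6], [4], [2], [0]] 3 [16] eK0_R eK1_E = true := by decide +kernel
theorem zm105 : leB D [] [] = true := by decide +kernel
theorem zm107 : nrmB D [] [[14], [12], [6], [4], [2], [0]] zcj106 = true := by decide +kernel
theorem zr108 : chk (nrmR [] [[14], [12], [6], [4], [2], [0]] zcj106) = true := by decide +kernel
theorem zm109 : leB D [[14], [12], [6], [4], [2], [0]] [[8], [16], [14], [12], [6], [4], [2], [0]] = true := by decide +kernel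
theorem zq110 : cvN 2 [14] eK1_R eK2_E = eK2_R := by decide +kernel
theorem zr111 : chk (cvR 0 2 [14] eK1_R eK2_E) = true := by decide +kernel
theorem zb112 : cvB D [] [[12], [6], [4], [2], [0]] 2 [14] eK1_R eK2_E = true := by decide +kernel
theorem zm113 : leB D [] [] = true := by decide +kernel
theorem zm115 : nrmB D [] [[12], [6], [4], [2], [0]] zcj114 = true := by decide +kernel
theorem zr116 : chk (nrmR [] [[12], [6], [4], [2], [0]] zcj114) = true := by decide +kernel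
theorem zm117 : leB D [[12], [6], [4], [2], [0]] [[8], [16], [14], [12], [6], [4], [2], [0]] = true := by decide +kernel
theorem zq118 : cvN 2 [12] eK2_R eK3_E = eK3_R := by decide +kernel
theorem zr119 : chk (cvR 0 2 [12] eK2_R eK3_E) = true := by decide +kernel
theorem zb120 : cvB D [] [[6], [4], [2], [0]] 2 [12] eK2_R eK3_E = true := by decide +kernel
theorem zm121 : leB D [] [] = true := by decide +kernel
theorem zm123 : nrmB D [] [[6], [4], [2], [0]] zcj122 = true := by decide +kernel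
theorem zr124 : chk (nrmR [] [[6], [4], [2], [0]] zcj122) = true := by decide +kernel
theorem zm125 : leB D [[6], [4], [2], [0]] [[8], [16], [14], [12], [6], [4], [2], [0]] = true := by decide +kernel
theorem zq126 : cvN 2 [6] eK3_R eK4_E = eK4_R := by decide +kernel
theorem zr127 : chk (cvR 0 2 [6] eK3_R eK4_E) = true := by decide +kernel
theorem zb128 : cvB D [] [[4], [2], [0]] 2 [6] eK3_R eK4_E = true := by decide +kernel
theorem zm129 : leB D [] [] = true := by decide +kernel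
theorem zm131 : nrmB D [] [[4], [2], [0]] zcj130 = true := by decide +kernel
theorem zr132 : chk (nrmR [] [[4], [2], [0]] zcj130) = true := by decide +kernel
theorem zm133 : leB D [[4], [2], [0]] [[8], [16], [14], [12], [6], [4], [2], [0]] = true := by decide +kernel
theorem zq134 : cvN 2 [4] eK4_R eK5_E = eK5_R := by decide +kernel
theorem zr135 : chk (cvR 0 2 [4] eK4_R eK5_E) = true := by decide +kernel
theorem zb136 : cvB D [] [[2], [0]] 2 [4] eK4_R eK5_E = true := by decide +kernel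
theorem zm137 : leB D [] [] = true := by decide +kernel
theorem zm139 : nrmB D [] [[2], [0]] zcj138 = true := by decide +kernel
theorem zr140 : chk (nrmR [] [[2], [0]] zcj138) = true := by decide +kernel
theorem zm141 : leB D [[2], [0]] [[8], [16], [14], [12], [6], [4], [2], [0]] = true := by decide +kernel
theorem zq142 : cvN 2 [2] eK5_R eK6_E = eK6_R := by decide +kernel
theorem zr143 : chk (cvR 0 2 [2] eK5_R eK6_E) = true := by decide +kernel
theorem zb144 : cvB D [] [[0]] 2 [2] eK5_R eK6_E = true := by decide +kernel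
theorem zm145 : leB D [] [] = true := by decide +kernel
theorem zm147 : nrmB D [] [[0]] zcj146 = true := by decide +kernel
theorem zr148 : chk (nrmR [] [[0]] zcj146) = true := by decide +kernel
theorem zm149 : leB D [[0]] [[8], [16], [14], [12], [6], [4], [2], [0]] = true := by decide +kernel
theorem zq150 : cvN 2 [0] eK6_R eK7_E = eK7_R := by decide +kernel
theorem zr151 : chk (cvR 0 2 [0] eK6_R eK7_E) = true := by decide +kernel
theorem zb152 : cvB D [] [] 2 [0] eK6_R eK7_E = true := by decide +kernel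
theorem zm153 : leB D [] [] = true := by decide +kernel
theorem zf155 : P.fixXB ns (diag [[2]]) cz_F = true := by decide +kernel
theorem zc156 : P.chainB ns D czG_vs [[0], [2], [4], [6], [8], [10], [12], [14], [16], [18], [20]] = true := by decide +kernel
theorem zs157 : ssB P.N ns D (mkS P.n czG_vs cz_x) [[0], [2], [4], [6], [8], [10], [12], [14], [16], [18], [20]] = true := by decide +kernel
theorem zr159 : chk (defRels zE158) = true := by decide +kernel
theorem zs161 : cz_G.chk zt160 cz_s none = true := by decide +kernel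
theorem zr162 : chk (comR [[8], [16], [14], [12], [6], [4], [2], [0]] (mapL Prod.snd (diag [[2]]))) = true := by decide +kernel
theorem zm163 : leB D [[8], [16], [14], [12], [6], [4], [2], [0]] [[0], [2], [4], [6], [8], [10], [12], [14], [16], [18], [20]] = true := by decide +kernel
theorem zc164 : P.chainB ns D Yt_vs [[16]] = true := by decide +kernel
theorem zr165 : chk (pcsR Yt_ps []) = true := by decide +kernel
theorem zb166 : bnd (pcsB D Yt_ps []) (leB (app D []) [[16]] (pcGens Yt_ps [])) = true := by decide +kernel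
theorem zq167 : cvN 3 [16] [[]] c30_E = c30_R := by decide +kernel
theorem zr168 : chk (cvR 3 3 [16] [[]] c30_E) = true := by decide +kernel
theorem zb169 : cvB D [] [] 3 [16] [[]] c30_E = true := by decide +kernel
theorem zm170 : leB D [] [[8], [16], [14], [12], [6], [4], [2], [0]] = true := by decide +kernel
theorem zr171 : chk (fuR c30_R c31_R c31_F) = true := by decide +kernel
theorem zb172 : fuB D [[8], [16], [14], [12], [6], [4], [2], [0]] [] c30_R c31_R c31_F = true := by decide +kernel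
theorem zm173 : leB D [[8], [16], [14], [12], [6], [4], [2], [0]] [[8], [16], [14], [12], [6], [4], [2], [0]] = true := by decide +kernel
theorem zc174 : P.chainB ns D T_vs [[8], [14], [12], [6], [4], [2], [0]] = true := by decide +kernel
theorem zr175 : chk (pcsR T_ps []) = true := by decide +kernel
theorem zb176 : bnd (pcsB D T_ps []) (leB (app D []) [[8], [14], [12], [6], [4], [2], [0]] (pcGens T_ps [])) = true := by decide +kernel
theorem zq177 : cvN 2 [8] [[]] eT0_E = eT0_R := by decide +kernel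
theorem zr178 : chk (cvR 0 2 [8] [[]] eT0_E) = true := by decide +kernel
theorem zb179 : cvB D [] [[14], [12], [6], [4], [2], [0]] 2 [8] [[]] eT0_E = true := by decide +kernel
theorem zm180 : leB D [] [] = true := by decide +kernel
theorem zm182 : nrmB D [] [[14], [12], [6], [4], [2], [0]] zcj181 = true := by decide +kernel
theorem zr183 : chk (nrmR [] [[14], [12], [6], [4], [2], [0]] zcj181) = true := by decide +kernel
theorem zm184 : leB D [[14], [12], [6], [4], [2], [0]] [[8], [14], [12], [6], [4], [2], [0]] = true := by decide +kernel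
theorem zq185 : cvN 2 [14] eT0_R eT1_E = eT1_R := by decide +kernel
theorem zr186 : chk (cvR 0 2 [14] eT0_R eT1_E) = true := by decide +kernel
theorem zb187 : cvB D [] [[12], [6], [4], [2], [0]] 2 [14] eT0_R eT1_E = true := by decide +kernel
theorem zm188 : leB D [] [] = true := by decide +kernel
theorem zm190 : nrmB D [] [[12], [6], [4], [2], [0]] zcj189 = true := by decide +kernel
theorem zr191 : chk (nrmR [] [[12], [6], [4], [2], [0]] zcj189) = true := by decide +kernel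
theorem zm192 : leB D [[12], [6], [4], [2], [0]] [[8], [14], [12], [6], [4], [2], [0]] = true := by decide +kernel
theorem zq193 : cvN 2 [12] eT1_R eT2_E = eT2_R := by decide +kernel
theorem zr194 : chk (cvR 0 2 [12] eT1_R eT2_E) = true := by decide +kernel
theorem zb195 : cvB D [] [[6], [4], [2], [0]] 2 [12] eT1_R eT2_E = true := by decide +kernel
theorem zm196 : leB D [] [] = true := by decide +kernel
theorem zm198 : nrmB D [] [[6], [4], [2], [0]] zcj197 = true := by decide +kernel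
theorem zr199 : chk (nrmR [] [[6], [4], [2], [0]] zcj197) = true := by decide +kernel
theorem zm200 : leB D [[6], [4], [2], [0]] [[8], [14], [12], [6], [4], [2], [0]] = true := by decide +kernel
theorem zq201 : cvN 2 [6] eT2_R eT3_E = eT3_R := by decide +kernel
theorem zr202 : chk (cvR 0 2 [6] eT2_R eT3_E) = true := by decide +kernel
theorem zb203 : cvB D [] [[4], [2], [0]] 2 [6] eT2_R eT3_E = true := by decide +kernel
theorem zm204 : leB D [] [] = true := by decide +kernel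
theorem zm206 : nrmB D [] [[4], [2], [0]] zcj205 = true := by decide +kernel
theorem zr207 : chk (nrmR [] [[4], [2], [0]] zcj205) = true := by decide +kernel
theorem zm208 : leB D [[4], [2], [0]] [[8], [14], [12], [6], [4], [2], [0]] = true := by decide +kernel
theorem zq209 : cvN 2 [4] eT3_R eT4_E = eT4_R := by decide +kernel
theorem zr210 : chk (cvR 0 2 [4] eT3_R eT4_E) = true := by decide +kernel
theorem zb211 : cvB D [] [[2], [0]] 2 [4] eT3_R eT4_E = true := by decide +kernel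
theorem zm212 : leB D [] [] = true := by decide +kernel
theorem zm214 : nrmB D [] [[2], [0]] zcj213 = true := by decide +kernel
theorem zr215 : chk (nrmR [] [[2], [0]] zcj213) = true := by decide +kernel
theorem zm216 : leB D [[2], [0]] [[8], [14], [12], [6], [4], [2], [0]] = true := by decide +kernel
theorem zq217 : cvN 2 [2] eT4_R eT5_E = eT5_R := by decide +kernel
theorem zr218 : chk (cvR 0 2 [2] eT4_R eT5_E) = true := by decide +kernel
theorem zb219 : cvB D [] [[0]] 2 [2] eT4_R eT5_E = true := by decide +kernel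
theorem zm220 : leB D [] [] = true := by decide +kernel
theorem zm222 : nrmB D [] [[0]] zcj221 = true := by decide +kernel
theorem zr223 : chk (nrmR [] [[0]] zcj221) = true := by decide +kernel
theorem zm224 : leB D [[0]] [[8], [14], [12], [6], [4], [2], [0]] = true := by decide +kernel
theorem zq225 : cvN 2 [0] eT5_R eT6_E = eT6_R := by decide +kernel
theorem zr226 : chk (cvR 0 2 [0] eT5_R eT6_E) = true := by decide +kernel
theorem zb227 : cvB D [] [] 2 [0] eT5_R eT6_E = true := by decide +kernel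
theorem zm228 : leB D [] [] = true := by decide +kernel
theorem zr230 : chk (pcsR S_ps []) = true := by decide +kernel
theorem zr231 : chk (defRels zE229) = true := by decide +kernel
theorem zb232 : bnd (pcsB D S_ps []) (leB (app D zE229) [[8], [14], [12], [6], [4], [2]] (pcGens S_ps [])) = true := by decide +kernel
theorem zc233 : P.chainB ns D S_vs [[8], [14], [12], [6], [4], [2]] = true := by decide +kernel
theorem zr235 : chk (pcsR CB_ps []) = true := by decide +kernel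
theorem zr236 : chk (defRels zE234) = true := by decide +kernel
theorem zb237 : bnd (pcsB D CB_ps []) (leB (app D zE234) [[8], [12], [6], [4], [2], [0]] (pcGens CB_ps [])) = true := by decide +kernel
theorem zc238 : P.chainB ns D CB_vs [[8], [12], [6], [4], [2], [0]] = true := by decide +kernel
theorem zf241 : P.fixXB ns (diag [[2], [4]]) cV_F = true := by decide +kernel
theorem zc242 : P.chainB ns D cVG_vs [[0], [2], [4], [6], [8], [10], [12], [14], [16], [18], [20]] = true := by decide +kernel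
theorem zs243 : ssB P.N ns D (mkS P.n cVG_vs cV_x) [[0], [2], [4], [6], [8], [10], [12], [14], [16], [18], [20]] = true := by decide +kernel
theorem zr245 : chk (defRels zE244) = true := by decide +kernel
theorem zs247 : cV_G.chk zt246 cV_s none = true := by decide +kernel
theorem zr248 : chk (comR [[8], [12], [6], [4], [2], [0]] (mapL Prod.snd (diag [[2], [4]]))) = true := by decide +kernel
theorem zm249 : leB D [[8], [12], [6], [4], [2], [0]] [[0], [2], [4], [6], [8], [10], [12], [14], [16], [18], [20]] = true := by decide +kernel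
theorem zc250 : P.chainB ns D B_vs [[4], [2], [0]] = true := by decide +kernel
theorem zr251 : chk (pcsR B_ps []) = true := by decide +kernel
theorem zb252 : bnd (pcsB D B_ps []) (leB (app D []) [[4], [2], [0]] (pcGens B_ps [])) = true := by decide +kernel
theorem zq253 : cvN 2 [4] [[]] eB0_E = eB0_R := by decide +kernel
theorem zr254 : chk (cvR 0 2 [4] [[]] eB0_E) = true := by decide +kernel
theorem zb255 : cvB D [] [[2], [0]] 2 [4] [[]] eB0_E = true := by decide +kernel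
theorem zm256 : leB D [] [] = true := by decide +kernel
theorem zm258 : nrmB D [] [[2], [0]] zcj257 = true := by decide +kernel
theorem zr259 : chk (nrmR [] [[2], [0]] zcj257) = true := by decide +kernel
theorem zm260 : leB D [[2], [0]] [[4], [2], [0]] = true := by decide +kernel
theorem zq261 : cvN 2 [2] eB0_R eB1_E = eB1_R := by decide +kernel
theorem zr262 : chk (cvR 0 2 [2] eB0_R eB1_E) = true := by decide +kernel
theorem zb263 : cvB D [] [[0]] 2 [2] eB0_R eB1_E = true := by decide +kernel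
theorem zm264 : leB D [] [] = true := by decide +kernel
theorem zm266 : nrmB D [] [[0]] zcj265 = true := by decide +kernel
theorem zr267 : chk (nrmR [] [[0]] zcj265) = true := by decide +kernel
theorem zm268 : leB D [[0]] [[4], [2], [0]] = true := by decide +kernel
theorem zq269 : cvN 2 [0] eB1_R eB2_E = eB2_R := by decide +kernel
theorem zr270 : chk (cvR 0 2 [0] eB1_R eB2_E) = true := by decide +kernel
theorem zb271 : cvB D [] [] 2 [0] eB1_R eB2_E = true := by decide +kernel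
theorem zm272 : leB D [] [] = true := by decide +kernel
theorem zf278 : P.fixXB ns (diag [[8], [12], [6], [4], [2]]) cCV_F = true := by decide +kernel
theorem zc279 : P.chainB ns D cCVG_vs [[0], [2], [4], [6], [8], [10], [12], [14], [16], [18], [20]] = true := by decide +kernel
theorem zs280 : ssB P.N ns D (mkS P.n cCVG_vs cCV_x) [[0], [2], [4], [6], [8], [10], [12], [14], [16], [18], [20]] = true := by decide +kernel
theorem zr282 : chk (defRels zE281) = true := by decide +kernel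
theorem zs284 : cCV_G.chk zt283 cCV_s none = true := by decide +kernel
theorem zr285 : chk (comR [[4], [2], [0]] (mapL Prod.snd (diag [[8], [12], [6], [4], [2]]))) = true := by decide +kernel
theorem zm286 : leB D [[4], [2], [0]] [[0], [2], [4], [6], [8], [10], [12], [14], [16], [18], [20]] = true := by decide +kernel
theorem zc287 : P.chainB ns D A_vs [[6], [4], [2], [0]] = true := by decide +kernel
theorem zr288 : chk (pcsR A_ps []) = true := by decide +kernel
theorem zb289 : bnd (pcsB D A_ps []) (leB (app D []) [[6], [4], [2], [0]] (pcGens A_ps [])) = true := by decide +kernel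
theorem zq290 : cvN 2 [6] [[]] eA0_E = eA0_R := by decide +kernel
theorem zr291 : chk (cvR 0 2 [6] [[]] eA0_E) = true := by decide +kernel
theorem zb292 : cvB D [] [[4], [2], [0]] 2 [6] [[]] eA0_E = true := by decide +kernel
theorem zm293 : leB D [] [] = true := by decide +kernel
theorem zm295 : nrmB D [] [[4], [2], [0]] zcj294 = true := by decide +kernel
theorem zr296 : chk (nrmR [] [[4], [2], [0]] zcj294) = true := by decide +kernel
theorem zm297 : leB D [[4], [2], [0]] [[6], [4], [2], [0]] = true := by decide +kernel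
theorem zq298 : cvN 2 [4] eA0_R eA1_E = eA1_R := by decide +kernel
theorem zr299 : chk (cvR 0 2 [4] eA0_R eA1_E) = true := by decide +kernel
theorem zb300 : cvB D [] [[2], [0]] 2 [4] eA0_R eA1_E = true := by decide +kernel
theorem zm301 : leB D [] [] = true := by decide +kernel
theorem zm303 : nrmB D [] [[2], [0]] zcj302 = true := by decide +kernel
theorem zr304 : chk (nrmR [] [[2], [0]] zcj302) = true := by decide +kernel
theorem zm305 : leB D [[2], [0]] [[6], [4], [2], [0]] = true := by decide +kernel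
theorem zq306 : cvN 2 [2] eA1_R eA2_E = eA2_R := by decide +kernel
theorem zr307 : chk (cvR 0 2 [2] eA1_R eA2_E) = true := by decide +kernel
theorem zb308 : cvB D [] [[0]] 2 [2] eA1_R eA2_E = true := by decide +kernel
theorem zm309 : leB D [] [] = true := by decide +kernel
theorem zm311 : nrmB D [] [[0]] zcj310 = true := by decide +kernel
theorem zr312 : chk (nrmR [] [[0]] zcj310) = true := by decide +kernel
theorem zm313 : leB D [[0]] [[6], [4], [2], [0]] = true := by decide +kernel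
theorem zq314 : cvN 2 [0] eA2_R eA3_E = eA3_R := by decide +kernel
theorem zr315 : chk (cvR 0 2 [0] eA2_R eA3_E) = true := by decide +kernel
theorem zb316 : cvB D [] [] 2 [0] eA2_R eA3_E = true := by decide +kernel
theorem zm317 : leB D [] [] = true := by decide +kernel
theorem zf321 : P.fixXB ns (diag [[6], [4], [2]]) cW_F = true := by decide +kernel
theorem zc322 : P.chainB ns D cWG_vs [[0], [2], [4], [6], [8], [10], [12], [14], [16], [18], [20]] = true := by decide +kernel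
theorem zs323 : ssB P.N ns D (mkS P.n cWG_vs cW_x) [[0], [2], [4], [6], [8], [10], [12], [14], [16], [18], [20]] = true := by decide +kernel
theorem zr325 : chk (defRels zE324) = true := by decide +kernel
theorem zs327 : cW_G.chk zt326 cW_s none = true := by decide +kernel
theorem zr328 : chk (comR [[6], [4], [2], [0]] (mapL Prod.snd (diag [[6], [4], [2]]))) = true := by decide +kernel
theorem zm329 : leB D [[6], [4], [2], [0]] [[0], [2], [4], [6], [8], [10], [12], [14], [16], [18], [20]] = true := by decide +kernel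
theorem zc330 : P.chainB ns D Y_vs [[16], [2], [0]] = true := by decide +kernel
theorem zr331 : chk (pcsR Y_ps []) = true := by decide +kernel
theorem zb332 : bnd (pcsB D Y_ps []) (leB (app D []) [[16], [2], [0]] (pcGens Y_ps [])) = true := by decide +kernel
theorem zq333 : cvN 3 [16] [[]] eY0_E = eY0_R := by decide +kernel
theorem zr334 : chk (cvR 0 3 [16] [[]] eY0_E) = true := by decide +kernel
theorem zb335 : cvB D [] [[2], [0]] 3 [16] [[]] eY0_E = true := by decide +kernel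
theorem zm336 : leB D [] [] = true := by decide +kernel
theorem zm338 : nrmB D [] [[2], [0]] zcj337 = true := by decide +kernel
theorem zr339 : chk (nrmR [] [[2], [0]] zcj337) = true := by decide +kernel
theorem zm340 : leB D [[2], [0]] [[16], [2], [0]] = true := by decide +kernel
theorem zq341 : cvN 2 [2] eY0_R eY1_E = eY1_R := by decide +kernel
theorem zr342 : chk (cvR 0 2 [2] eY0_R eY1_E) = true := by decide +kernel
theorem zb343 : cvB D [] [[0]] 2 [2] eY0_R eY1_E = true := by decide +kernel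
theorem zm344 : leB D [] [] = true := by decide +kernel
theorem zm346 : nrmB D [] [[0]] zcj345 = true := by decide +kernel
theorem zr347 : chk (nrmR [] [[0]] zcj345) = true := by decide +kernel
theorem zm348 : leB D [[0]] [[16], [2], [0]] = true := by decide +kernel
theorem zq349 : cvN 2 [0] eY1_R eY2_E = eY2_R := by decide +kernel
theorem zr350 : chk (cvR 0 2 [0] eY1_R eY2_E) = true := by decide +kernel
theorem zb351 : cvB D [] [] 2 [0] eY1_R eY2_E = true := by decide +kernel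
theorem zm352 : leB D [] [] = true := by decide +kernel
theorem zf355 : P.fixXB ns (diag [[2], [16]]) cy_F = true := by decide +kernel
theorem zc356 : P.chainB ns D cyG_vs [[0], [2], [4], [6], [8], [10], [12], [14], [16], [18], [20]] = true := by decide +kernel
theorem zs357 : ssB P.N ns D (mkS P.n cyG_vs cy_x) [[0], [2], [4], [6], [8], [10], [12], [14], [16], [18], [20]] = true := by decide +kernel
theorem zr359 : chk (defRels zE358) = true := by decide +kernel
theorem zs361 : cy_G.chk zt360 cy_s none = true := by decide +kernel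
theorem zr362 : chk (comR [[16], [2], [0]] (mapL Prod.snd (diag [[2], [16]]))) = true := by decide +kernel
theorem zm363 : leB D [[16], [2], [0]] [[0], [2], [4], [6], [8], [10], [12], [14], [16], [18], [20]] = true := by decide +kernel
theorem zc364 : P.chainB ns D F_vs [[20], [12], [4], [2], [0]] = true := by decide +kernel
theorem zr365 : chk (pcsR F_ps []) = true := by decide +kernel
theorem zb366 : bnd (pcsB D F_ps []) (leB (app D []) [[20], [12], [4], [2], [0]] (pcGens F_ps [])) = true := by decide +kernel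
theorem zq367 : cvN 2 [20] [[]] eF0_E = eF0_R := by decide +kernel
theorem zr368 : chk (cvR 0 2 [20] [[]] eF0_E) = true := by decide +kernel
theorem zb369 : cvB D [] [[12], [4], [2], [0]] 2 [20] [[]] eF0_E = true := by decide +kernel
theorem zm370 : leB D [] [] = true := by decide +kernel
theorem zm372 : nrmB D [] [[12], [4], [2], [0]] zcj371 = true := by decide +kernel
theorem zr373 : chk (nrmR [] [[12], [4], [2], [0]] zcj371) = true := by decide +kernel
theorem zm374 : leB D [[12], [4], [2], [0]] [[20], [12], [4], [2], [0]] = true := by decide +kernel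
theorem zq375 : cvN 2 [12] eF0_R eF1_E = eF1_R := by decide +kernel
theorem zr376 : chk (cvR 0 2 [12] eF0_R eF1_E) = true := by decide +kernel
theorem zb377 : cvB D [] [[4], [2], [0]] 2 [12] eF0_R eF1_E = true := by decide +kernel
theorem zm378 : leB D [] [] = true := by decide +kernel
theorem zm380 : nrmB D [] [[4], [2], [0]] zcj379 = true := by decide +kernel
theorem zr381 : chk (nrmR [] [[4], [2], [0]] zcj379) = true := by decide +kernel
theorem zm382 : leB D [[4], [2], [0]] [[20], [12], [4], [2], [0]] = true := by decide +kernel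
theorem zq383 : cvN 2 [4] eF1_R eF2_E = eF2_R := by decide +kernel
theorem zr384 : chk (cvR 0 2 [4] eF1_R eF2_E) = true := by decide +kernel
theorem zb385 : cvB D [] [[2], [0]] 2 [4] eF1_R eF2_E = true := by decide +kernel
theorem zm386 : leB D [] [] = true := by decide +kernel
theorem zm388 : nrmB D [] [[2], [0]] zcj387 = true := by decide +kernel
theorem zr389 : chk (nrmR [] [[2], [0]] zcj387) = true := by decide +kernel
theorem zm390 : leB D [[2], [0]] [[20], [12], [4], [2], [0]] = true := by decide +kernel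
theorem zq391 : cvN 2 [2] eF2_R eF3_E = eF3_R := by decide +kernel
theorem zr392 : chk (cvR 0 2 [2] eF2_R eF3_E) = true := by decide +kernel
theorem zb393 : cvB D [] [[0]] 2 [2] eF2_R eF3_E = true := by decide +kernel
theorem zm394 : leB D [] [] = true := by decide +kernel
theorem zm396 : nrmB D [] [[0]] zcj395 = true := by decide +kernel
theorem zr397 : chk (nrmR [] [[0]] zcj395) = true := by decide +kernel
theorem zm398 : leB D [[0]] [[20], [12], [4], [2], [0]] = true := by decide +kernel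
theorem zq399 : cvN 2 [0] eF3_R eF4_E = eF4_R := by decide +kernel
theorem zr400 : chk (cvR 0 2 [0] eF3_R eF4_E) = true := by decide +kernel
theorem zb401 : cvB D [] [] 2 [0] eF3_R eF4_E = true := by decide +kernel
theorem zm402 : leB D [] [] = true := by decide +kernel
theorem zm404 : leB D zts403 [[8], [12], [6], [4], [2], [0]] = true := by decide +kernel
theorem zr405 : chk (zp [] [[20], [12], [4], [2], [0]] zts403) = true := by decide +kernel
theorem zr407 : chk (pcsR Ci_ps []) = true := by decide +kernel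
theorem zr408 : chk (defRels zE406) = true := by decide +kernel
theorem zb409 : bnd (pcsB D Ci_ps []) (leB (app D zE406) [[168], [170], [172]] (pcGens Ci_ps [])) = true := by decide +kernel
theorem zc410 : P.chainB ns D Ci_vs [[168], [170], [172]] = true := by decide +kernel
theorem zf413 : P.fixXB ns (diag [[12]]) ci_F = true := by decide +kernel
theorem zc414 : P.chainB ns D ciG_vs [[0], [2], [4], [6], [8], [10], [12], [14], [16], [18], [20]] = true := by decide +kernel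
theorem zs415 : ssB P.N ns D (mkS P.n ciG_vs ci_x) [[0], [2], [4], [6], [8], [10], [12], [14], [16], [18], [20]] = true := by decide +kernel
theorem zr417 : chk (defRels zE416) = true := by decide +kernel
theorem zs419 : ci_G.chk zt418 ci_s none = true := by decide +kernel
theorem zr420 : chk (comR [[168], [170], [172]] (mapL Prod.snd (diag [[12]]))) = true := by decide +kernel
theorem zm421 : leB D [[168], [170], [172]] [[0], [2], [4], [6], [8], [10], [12], [14], [16], [18], [20]] = true := by decide +kernel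
theorem zm423 : leB D zts422 [[184], [186]] = true := by decide +kernel
theorem zr424 : chk (zp [] [[2], [4], [6], [8], [10], [12], [14], [16], [18], [20]] zts422) = true := by decide +kernel
theorem zl427 : zK426.relB CL.Co3M.T.P CL.FusC.M12.P CL.Co3M.T.ns [[184], [186]] [[0], [2]] = true := by decide +kernel
theorem zl428 : allL (zK426.pl CL.Co3M.T.P CL.FusC.M12.P CL.Co3M.T.ns CL.FusC.M12.ns 0) (zp [] [[184], [186]] [[0], [2]]) = true := by decide +kernel
theorem zl431 : zK430.relB CL.Co3M.T.P CL.Co3M.T.P CL.Co3M.T.ns [[0], [2], [4], [6], [8], [10], [12], [14], [16], [18], [20]] [[0], [2], [4], [6], W (nat_lit 0x2403), W (nat_lit 0x3807), W (nat_lit 0x3805), W (nat_lit 0x4007), [16], W (nat_lit 0xe04c03), W (nat_lit 0x5403)] = true := by decide +kernel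
theorem zl432 : allL (zK430.pl CL.Co3M.T.P CL.Co3M.T.P CL.Co3M.T.ns CL.Co3M.T.ns 0) (zp [] [[0], [2], [4], [6], [8], [10], [12], [14], [16], [18], [20]] [[0], [2], [4], [6], W (nat_lit 0x2403), W (nat_lit 0x3807), W (nat_lit 0x3805), W (nat_lit 0x4007), [16], W (nat_lit 0xe04c03), W (nat_lit 0x5403)]) = true := by decide +kernel
theorem zl435 : zK434.relB CL.Co3M.T.P CL.Co3M.T.P CL.Co3M.T.ns [[0], [2], [4], [6], W (nat_lit 0x2403), W (nat_lit 0x3807), W (nat_lit 0x3805), W (nat_lit 0x4007), [16], W (nat_lit 0xe04c03), W (nat_lit 0x5403)] [[0], [2], [4], [6], [8], [10], [12], [14], [16], [18], [20]] = true := by decide +kernel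
theorem zl436 : allL (zK434.pl CL.Co3M.T.P CL.Co3M.T.P CL.Co3M.T.ns CL.Co3M.T.ns 0) (zp [] [[0], [2], [4], [6], W (nat_lit 0x2403), W (nat_lit 0x3807), W (nat_lit 0x3805), W (nat_lit 0x4007), [16], W (nat_lit 0xe04c03), W (nat_lit 0x5403)] [[0], [2], [4], [6], [8], [10], [12], [14], [16], [18], [20]]) = true := by decide +kernel
theorem zk437 : allL (keepB P.n P.N) ns0 = true := by decide +kernel
theorem ze438 : extB ns0 ns 11 ws [] = true := by decide +kernel
theorem zn439 : P.netsB ns (mkDefs ws 11) = true := by decide +kernel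

variable {G X : Type*} [Group G] [MulAction G X] {e : ℕ → X} {gs : List G}

theorem keep0 : allL (keepB P.n P.N) ns0 = true := zk437

theorem len {k} (c : Ctx P e gs ns0 [] k) : gs.length = 11 := c.len ze438

theorem ctx0 {k} (c : Ctx P e gs ns0 [] k) : Ctx P e (ext gs ws) ns D chk0 :=
  c.ext rfl ze438 zn439

theorem ctx {k} (c : Ctx P e gs ns0 [] k) {H : Subgroup G} (hF : Faithful e P.n H) (hH : ∀ g ∈ gs, g ∈ H) :
    Ctx P e (ext gs ws) ns D chk :=
  (ctx0 c).withB hF (mem_of_mem_ext hH _)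

instance instNe : NeZero P.n := ⟨by decide⟩
noncomputable def gs0 : List (Equiv.Perm (Fin P.n)) := permsOf P.n P.N ns0
noncomputable def gs1 : List (Equiv.Perm (Fin P.n)) := ext gs0 ws
theorem c1 : Ctx P (eF P.n) gs1 ns D chk :=
  ctx (ctx_permsOf hP keep0) (faithful_eF _) fun _ _ => trivial

theorem C_u6 (c : Ctx P e gs ns D chk) :
    UB (subW gs [[36]]) 2 :=
  (c.pc_step (UB.nil gs) (Rels.nil _)
    (c.rels _ zr3) zb2).le (by decide)

theorem C_u5 (c : Ctx P e gs ns D chk) :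
    UB (subW gs [[32], [34]]) 8 :=
  (c.sch_step (C_u6 c)
    (c.rels _ zr7) zb6).le (by decide)

theorem C_u4 (c : Ctx P e gs ns D chk) :
    UB (subW gs [[28], [30]]) 72 :=
  (c.sch_step (C_u5 c)
    (c.rels _ zr11) zb10).le (by decide)

theorem C_u3 (c : Ctx P e gs ns D chk) :
    UB (subW gs [[23], [26]]) 720 :=
  (c.sch_step (C_u4 c)
    (c.rels _ zr15) zb14).le (by decide)

theorem C_u2 (c : Ctx P e gs ns D chk) :
    UB (subW gs [[22], [24]]) 7920 :=
  (c.sch_step (C_u3 c)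
    (c.rels _ zr19) zb18).le (by decide)

theorem C_c : P.chainB ns D C_vs [[0], [2], [4], [6], [8], [10], [12], [14], [16], [18], [20]] = true :=
  zc21

theorem C_o : prodL C_vs 1 = 190080 := by decide +kernel

theorem C_u1w (c : Ctx P e gs ns D chk) :
    AllWd e gs [[22], [24]] zrs20 :=
  ⟨c.wd (v := C_v2) (vs := C_vs3) (C_u2 c) (Par.chainB_tail (Par.chainB_tail C_c)) (by decide +kernel)
      (c.rels _ zr24) zb23,
    trivial⟩

theorem C_u1 (c : Ctx P e gs ns D chk) :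
    UB (subW gs [[2], [4], [6], [8], [10], [12], [14], [16], [18], [20]]) 95040 :=
  (c.b_step (C_u2 c) (C_u1w c) (c.rels _ zr30)
    (c.rels _ zr29) zb27 zb28).le (by decide)

theorem C_u0 (c : Ctx P e gs ns D chk) :
    UB (subW gs [[0], [2], [4], [6], [8], [10], [12], [14], [16], [18], [20]]) 190080 :=
  (c.pc_step (C_u1 c) (Rels.nil _)
    (c.rels _ zr34) zb33).le (by decide)

theorem C_ub (c : Ctx P e gs ns D chk) :
    UB (subW gs [[0], [2], [4], [6], [8], [10], [12], [14], [16], [18], [20]]) 190080 :=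
  (C_u0 c)

theorem C_ex (c : Ctx P e gs ns D chk) :
    Exact e P.n P.N gs ns 1 C_vs [[0], [2], [4], [6], [8], [10], [12], [14], [16], [18], [20]] :=
  c.exact C_c C_o (C_ub c)

theorem C_card (c : Ctx P e gs ns D chk) :
    Nat.card (subW gs [[0], [2], [4], [6], [8], [10], [12], [14], [16], [18], [20]]) = 190080 :=
  (C_ex c).card.trans C_o

theorem M_u5 (c : Ctx P e gs ns D chk) :
    UB (subW gs [[36]]) 2 :=
  (c.pc_step (UB.nil gs) (Rels.nil _)
    (c.rels _ zr38) zb37).le (by decide)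

theorem M_u4 (c : Ctx P e gs ns D chk) :
    UB (subW gs [[32], [34]]) 8 :=
  (c.sch_step (M_u5 c)
    (c.rels _ zr42) zb41).le (by decide)

theorem M_u3 (c : Ctx P e gs ns D chk) :
    UB (subW gs [[28], [30]]) 72 :=
  (c.sch_step (M_u4 c)
    (c.rels _ zr46) zb45).le (by decide)

theorem M_u2 (c : Ctx P e gs ns D chk) :
    UB (subW gs [[23], [26]]) 720 :=
  (c.sch_step (M_u3 c)
    (c.rels _ zr50) zb49).le (by decide)

theorem M_u1 (c : Ctx P e gs ns D chk) :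
    UB (subW gs [[22], [24]]) 7920 :=
  (c.sch_step (M_u2 c)
    (c.rels _ zr54) zb53).le (by decide)

theorem M_c : P.chainB ns D M_vs [[2], [4], [6], [8], [10], [12], [14], [16], [18], [20]] = true :=
  zc56

theorem M_o : prodL M_vs 1 = 95040 := by decide +kernel

theorem M_u0w (c : Ctx P e gs ns D chk) :
    AllWd e gs [[22], [24]] zrs55 :=
  ⟨c.wd (v := M_v1) (vs := M_vs2) (M_u1 c) (Par.chainB_tail M_c) (by decide +kernel)
      (c.rels _ zr59) zb58,
    trivial⟩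

theorem M_u0 (c : Ctx P e gs ns D chk) :
    UB (subW gs [[2], [4], [6], [8], [10], [12], [14], [16], [18], [20]]) 95040 :=
  (c.b_step (M_u1 c) (M_u0w c) (c.rels _ zr65)
    (c.rels _ zr64) zb62 zb63).le (by decide)

theorem M_ub (c : Ctx P e gs ns D chk) :
    UB (subW gs [[2], [4], [6], [8], [10], [12], [14], [16], [18], [20]]) 95040 :=
  (M_u0 c)

theorem M_ex (c : Ctx P e gs ns D chk) :
    Exact e P.n P.N gs ns 1 M_vs [[2], [4], [6], [8], [10], [12], [14], [16], [18], [20]] :=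
  c.exact M_c M_o (M_ub c)

theorem M_card (c : Ctx P e gs ns D chk) :
    Nat.card (subW gs [[2], [4], [6], [8], [10], [12], [14], [16], [18], [20]]) = 95040 :=
  (M_ex c).card.trans M_o

theorem cZG_c : P.chainB ns D cZG_vs [[0], [2], [4], [6], [8], [10], [12], [14], [16], [18], [20]] = true :=
  zc72

theorem cZG_o : prodL cZG_vs 1 = 190080 := by decide +kernel

theorem cZ (c : Ctx P e gs ns D chk) :
    (subW gs [[0], [2], [4], [6], [8], [10], [12], [14], [16], [18], [20]]) ⊓ Subgroup.centralizer (subW gs [[0], [2], [4], [6], [8], [10], [12], [14], [16], [18], [20]] : Set G) = (subW gs [[0]]) :=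
  c.cent (lx := [[0], [2], [4], [6], [8], [10], [12], [14], [16], [18], [20]]) (c.rels _ zr75) (c.sOk (c.exact cZG_c cZG_o (C_ub c)) zs73) (fun _ h => by cases h)
    (c.fixX zf71) (c.rels _ zr78) zm79 zs77

theorem cQG_c : P.chainB ns D cQG_vs [[0], [2], [4], [6], [8], [10], [12], [14], [16], [18], [20]] = true :=
  zc83

theorem cQG_o : prodL cQG_vs 1 = 190080 := by decide +kernel

theorem cQ (c : Ctx P e gs ns D chk) :
    (subW gs [[0], [2], [4], [6], [8], [10], [12], [14], [16], [18], [20]]) ⊓ Subgroup.centralizer (subW gs [[12], [14], [4], [6]] : Set G) = (subW gs [[2], [0]]) :=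
  c.cent (lx := [[12], [14], [4], [6]]) (c.rels _ zr86) (c.sOk (c.exact cQG_c cQG_o (C_ub c)) zs84) (fun _ h => by cases h)
    (c.fixX zf82) (c.rels _ zr89) zm90 zs88

theorem K_c : P.chainB ns D K_vs [[8], [16], [14], [12], [6], [4], [2], [0]] = true :=
  zc91

theorem K_o : prodL K_vs 1 = 384 := by decide +kernel

theorem K_lb (c : Ctx P e gs ns D chk) :
    LB (subW gs [[8], [16], [14], [12], [6], [4], [2], [0]]) 384 :=
  c.lb K_c K_o

theorem K_pr (c : Ctx P e gs ns D chk) :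
    Rels gs (pcsR K_ps []) :=
  (c.rels _ zr92)

theorem K_pe (c : Ctx P e gs ns D chk) :
    Rels gs (defRels []) :=
  (Rels.nil _)

theorem K_pb : bnd (pcsB D K_ps []) (leB (app D []) [[8], [16], [14], [12], [6], [4], [2], [0]] (pcGens K_ps [])) = true := zb93

theorem K_ub (c : Ctx P e gs ns D chk) :
    UB (subW gs [[8], [16], [14], [12], [6], [4], [2], [0]]) 384 :=
  c.pcs (UB.nil gs) (K_pe c) (K_pr c) K_pb (by decide +kernel)

theorem K_card (c : Ctx P e gs ns D chk) :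
    Nat.card (subW gs [[8], [16], [14], [12], [6], [4], [2], [0]]) = 384 :=
  (K_ub c).card_eq (K_lb c)

theorem eK0 (c : Ctx P e gs ns D chk) :
    Cov 0 (subW gs [[8], [16], [14], [12], [6], [4], [2], [0]]) (subW gs []) gs eK0_R (subW gs [[16], [14], [12], [6], [4], [2], [0]]) :=
  Cov.step' (q := 2) (g := [8]) c.defs (by norm_num) (Cov.init 0 (subW gs [[8], [16], [14], [12], [6], [4], [2], [0]]) (subW gs []) gs)
    (pc_lvl' c.defs (K_pr c) K_pb (K_lb c) 0 (by decide +kernel))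
    (c.le_normalizer (cj := zcj98) (((K_ub c).mono (c.le zm101)).1) (c.rels _ zr100) zm99) (c.le zm97)
    (c.rels _ zr95) zb96 zq94

theorem eK1 (c : Ctx P e gs ns D chk) :
    Cov 0 (subW gs [[8], [16], [14], [12], [6], [4], [2], [0]]) (subW gs []) gs eK1_R (subW gs [[14], [12], [6], [4], [2], [0]]) :=
  Cov.step' (q := 3) (g := [16]) c.defs (by norm_num) (eK0 c)
    (pc_lvl' c.defs (K_pr c) K_pb (K_lb c) 1 (by decide +kernel))
    (c.le_normalizer (cj := zcj106) (((K_ub c).mono (c.le zm109)).1) (c.rels _ zr108) zm107) (c.le zm105)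
    (c.rels _ zr103) zb104 zq102

theorem eK2 (c : Ctx P e gs ns D chk) :
    Cov 0 (subW gs [[8], [16], [14], [12], [6], [4], [2], [0]]) (subW gs []) gs eK2_R (subW gs [[12], [6], [4], [2], [0]]) :=
  Cov.step' (q := 2) (g := [14]) c.defs (by norm_num) (eK1 c)
    (pc_lvl' c.defs (K_pr c) K_pb (K_lb c) 2 (by decide +kernel))
    (c.le_normalizer (cj := zcj114) (((K_ub c).mono (c.le zm117)).1) (c.rels _ zr116) zm115) (c.le zm113)
    (c.rels _ zr111) zb112 zq110

theorem eK3 (c : Ctx P e gs ns D chk) :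
    Cov 0 (subW gs [[8], [16], [14], [12], [6], [4], [2], [0]]) (subW gs []) gs eK3_R (subW gs [[6], [4], [2], [0]]) :=
  Cov.step' (q := 2) (g := [12]) c.defs (by norm_num) (eK2 c)
    (pc_lvl' c.defs (K_pr c) K_pb (K_lb c) 3 (by decide +kernel))
    (c.le_normalizer (cj := zcj122) (((K_ub c).mono (c.le zm125)).1) (c.rels _ zr124) zm123) (c.le zm121)
    (c.rels _ zr119) zb120 zq118

theorem eK4 (c : Ctx P e gs ns D chk) :
    Cov 0 (subW gs [[8], [16], [14], [12], [6], [4], [2], [0]]) (subW gs []) gs eK4_R (subW gs [[4], [2], [0]]) :=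
  Cov.step' (q := 2) (g := [6]) c.defs (by norm_num) (eK3 c)
    (pc_lvl' c.defs (K_pr c) K_pb (K_lb c) 4 (by decide +kernel))
    (c.le_normalizer (cj := zcj130) (((K_ub c).mono (c.le zm133)).1) (c.rels _ zr132) zm131) (c.le zm129)
    (c.rels _ zr127) zb128 zq126

theorem eK5 (c : Ctx P e gs ns D chk) :
    Cov 0 (subW gs [[8], [16], [14], [12], [6], [4], [2], [0]]) (subW gs []) gs eK5_R (subW gs [[2], [0]]) :=
  Cov.step' (q := 2) (g := [4]) c.defs (by norm_num) (eK4 c)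
    (pc_lvl' c.defs (K_pr c) K_pb (K_lb c) 5 (by decide +kernel))
    (c.le_normalizer (cj := zcj138) (((K_ub c).mono (c.le zm141)).1) (c.rels _ zr140) zm139) (c.le zm137)
    (c.rels _ zr135) zb136 zq134

theorem eK6 (c : Ctx P e gs ns D chk) :
    Cov 0 (subW gs [[8], [16], [14], [12], [6], [4], [2], [0]]) (subW gs []) gs eK6_R (subW gs [[0]]) :=
  Cov.step' (q := 2) (g := [2]) c.defs (by norm_num) (eK5 c)
    (pc_lvl' c.defs (K_pr c) K_pb (K_lb c) 6 (by decide +kernel))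
    (c.le_normalizer (cj := zcj146) (((K_ub c).mono (c.le zm149)).1) (c.rels _ zr148) zm147) (c.le zm145)
    (c.rels _ zr143) zb144 zq142

theorem eK7 (c : Ctx P e gs ns D chk) :
    Cov 0 (subW gs [[8], [16], [14], [12], [6], [4], [2], [0]]) (subW gs []) gs eK7_R (subW gs []) :=
  Cov.step' (q := 2) (g := [0]) c.defs (by norm_num) (eK6 c)
    (pc_lvl' c.defs (K_pr c) K_pb (K_lb c) 7 (by decide +kernel))
    (le_normalizer_nil gs _) (c.le zm153)
    (c.rels _ zr151) zb152 zq150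

theorem eK (c : Ctx P e gs ns D chk) :
    Cls 0 (subW gs [[8], [16], [14], [12], [6], [4], [2], [0]]) (subW gs []) gs eKR :=
  (eK7 c).cls

theorem czG_c : P.chainB ns D czG_vs [[0], [2], [4], [6], [8], [10], [12], [14], [16], [18], [20]] = true :=
  zc156

theorem czG_o : prodL czG_vs 1 = 190080 := by decide +kernel

theorem cz (c : Ctx P e gs ns D chk) :
    (subW gs [[0], [2], [4], [6], [8], [10], [12], [14], [16], [18], [20]]) ⊓ Subgroup.centralizer (subW gs [[2]] : Set G) = (subW gs [[8], [16], [14], [12], [6], [4], [2], [0]]) :=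
  c.cent (lx := [[2]]) (c.rels _ zr159) (c.sOk (c.exact czG_c czG_o (C_ub c)) zs157) (fun _ h => by cases h)
    (c.fixX zf155) (c.rels _ zr162) zm163 zs161

theorem Yt_c : P.chainB ns D Yt_vs [[16]] = true :=
  zc164

theorem Yt_o : prodL Yt_vs 1 = 3 := by decide +kernel

theorem Yt_lb (c : Ctx P e gs ns D chk) :
    LB (subW gs [[16]]) 3 :=
  c.lb Yt_c Yt_o

theorem Yt_pr (c : Ctx P e gs ns D chk) :
    Rels gs (pcsR Yt_ps []) :=
  (c.rels _ zr165)

theorem Yt_pe (c : Ctx P e gs ns D chk) :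
    Rels gs (defRels []) :=
  (Rels.nil _)

theorem Yt_pb : bnd (pcsB D Yt_ps []) (leB (app D []) [[16]] (pcGens Yt_ps [])) = true := zb166

theorem Yt_ub (c : Ctx P e gs ns D chk) :
    UB (subW gs [[16]]) 3 :=
  c.pcs (UB.nil gs) (Yt_pe c) (Yt_pr c) Yt_pb (by decide +kernel)

theorem Yt_card (c : Ctx P e gs ns D chk) :
    Nat.card (subW gs [[16]]) = 3 :=
  (Yt_ub c).card_eq (Yt_lb c)

theorem c30 (c : Ctx P e gs ns D chk) :
    Cov 3 (subW gs [[16]]) (subW gs [[8], [16], [14], [12], [6], [4], [2], [0]]) gs c30_R (subW gs []) :=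
  Cov.step' (q := 3) (g := [16]) c.defs (by norm_num) (Cov.init 3 (subW gs [[16]]) (subW gs [[8], [16], [14], [12], [6], [4], [2], [0]]) gs)
    (pc_lvl' c.defs (Yt_pr c) Yt_pb (Yt_lb c) 0 (by decide +kernel))
    (le_normalizer_nil gs _) (c.le zm170)
    (c.rels _ zr168) zb169 zq167

theorem c31 (c : Ctx P e gs ns D chk) :
    Cov 3 (subW gs [[16]]) (subW gs [[8], [16], [14], [12], [6], [4], [2], [0]]) gs c31_R (subW gs []) :=
  Cov.fuse c.defs (c30 c) (le_normalizer_nil gs _) (c.le zm173)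
    (c.rels _ zr171) zb172

theorem c3_cls (c : Ctx P e gs ns D chk) :
    Cls 3 (subW gs [[16]]) (subW gs [[8], [16], [14], [12], [6], [4], [2], [0]]) gs [[], [16]] :=
  (c31 c).cls

theorem T_c : P.chainB ns D T_vs [[8], [14], [12], [6], [4], [2], [0]] = true :=
  zc174

theorem T_o : prodL T_vs 1 = 128 := by decide +kernel

theorem T_lb (c : Ctx P e gs ns D chk) :
    LB (subW gs [[8], [14], [12], [6], [4], [2], [0]]) 128 :=
  c.lb T_c T_o

theorem T_pr (c : Ctx P e gs ns D chk) :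
    Rels gs (pcsR T_ps []) :=
  (c.rels _ zr175)

theorem T_pe (c : Ctx P e gs ns D chk) :
    Rels gs (defRels []) :=
  (Rels.nil _)

theorem T_pb : bnd (pcsB D T_ps []) (leB (app D []) [[8], [14], [12], [6], [4], [2], [0]] (pcGens T_ps [])) = true := zb176

theorem T_ub (c : Ctx P e gs ns D chk) :
    UB (subW gs [[8], [14], [12], [6], [4], [2], [0]]) 128 :=
  c.pcs (UB.nil gs) (T_pe c) (T_pr c) T_pb (by decide +kernel)

theorem T_card (c : Ctx P e gs ns D chk) :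
    Nat.card (subW gs [[8], [14], [12], [6], [4], [2], [0]]) = 128 :=
  (T_ub c).card_eq (T_lb c)

theorem eT0 (c : Ctx P e gs ns D chk) :
    Cov 0 (subW gs [[8], [14], [12], [6], [4], [2], [0]]) (subW gs []) gs eT0_R (subW gs [[14], [12], [6], [4], [2], [0]]) :=
  Cov.step' (q := 2) (g := [8]) c.defs (by norm_num) (Cov.init 0 (subW gs [[8], [14], [12], [6], [4], [2], [0]]) (subW gs []) gs)
    (pc_lvl' c.defs (T_pr c) T_pb (T_lb c) 0 (by decide +kernel))
    (c.le_normalizer (cj := zcj181) (((T_ub c).mono (c.le zm184)).1) (c.rels _ zr183) zm182) (c.le zm180)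
    (c.rels _ zr178) zb179 zq177

theorem eT1 (c : Ctx P e gs ns D chk) :
    Cov 0 (subW gs [[8], [14], [12], [6], [4], [2], [0]]) (subW gs []) gs eT1_R (subW gs [[12], [6], [4], [2], [0]]) :=
  Cov.step' (q := 2) (g := [14]) c.defs (by norm_num) (eT0 c)
    (pc_lvl' c.defs (T_pr c) T_pb (T_lb c) 1 (by decide +kernel))
    (c.le_normalizer (cj := zcj189) (((T_ub c).mono (c.le zm192)).1) (c.rels _ zr191) zm190) (c.le zm188)
    (c.rels _ zr186) zb187 zq185

theorem eT2 (c : Ctx P e gs ns D chk) :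
    Cov 0 (subW gs [[8], [14], [12], [6], [4], [2], [0]]) (subW gs []) gs eT2_R (subW gs [[6], [4], [2], [0]]) :=
  Cov.step' (q := 2) (g := [12]) c.defs (by norm_num) (eT1 c)
    (pc_lvl' c.defs (T_pr c) T_pb (T_lb c) 2 (by decide +kernel))
    (c.le_normalizer (cj := zcj197) (((T_ub c).mono (c.le zm200)).1) (c.rels _ zr199) zm198) (c.le zm196)
    (c.rels _ zr194) zb195 zq193

theorem eT3 (c : Ctx P e gs ns D chk) :
    Cov 0 (subW gs [[8], [14], [12], [6], [4], [2], [0]]) (subW gs []) gs eT3_R (subW gs [[4], [2], [0]]) :=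
  Cov.step' (q := 2) (g := [6]) c.defs (by norm_num) (eT2 c)
    (pc_lvl' c.defs (T_pr c) T_pb (T_lb c) 3 (by decide +kernel))
    (c.le_normalizer (cj := zcj205) (((T_ub c).mono (c.le zm208)).1) (c.rels _ zr207) zm206) (c.le zm204)
    (c.rels _ zr202) zb203 zq201

theorem eT4 (c : Ctx P e gs ns D chk) :
    Cov 0 (subW gs [[8], [14], [12], [6], [4], [2], [0]]) (subW gs []) gs eT4_R (subW gs [[2], [0]]) :=
  Cov.step' (q := 2) (g := [4]) c.defs (by norm_num) (eT3 c)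
    (pc_lvl' c.defs (T_pr c) T_pb (T_lb c) 4 (by decide +kernel))
    (c.le_normalizer (cj := zcj213) (((T_ub c).mono (c.le zm216)).1) (c.rels _ zr215) zm214) (c.le zm212)
    (c.rels _ zr210) zb211 zq209

theorem eT5 (c : Ctx P e gs ns D chk) :
    Cov 0 (subW gs [[8], [14], [12], [6], [4], [2], [0]]) (subW gs []) gs eT5_R (subW gs [[0]]) :=
  Cov.step' (q := 2) (g := [2]) c.defs (by norm_num) (eT4 c)
    (pc_lvl' c.defs (T_pr c) T_pb (T_lb c) 5 (by decide +kernel))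
    (c.le_normalizer (cj := zcj221) (((T_ub c).mono (c.le zm224)).1) (c.rels _ zr223) zm222) (c.le zm220)
    (c.rels _ zr218) zb219 zq217

theorem eT6 (c : Ctx P e gs ns D chk) :
    Cov 0 (subW gs [[8], [14], [12], [6], [4], [2], [0]]) (subW gs []) gs eT6_R (subW gs []) :=
  Cov.step' (q := 2) (g := [0]) c.defs (by norm_num) (eT5 c)
    (pc_lvl' c.defs (T_pr c) T_pb (T_lb c) 6 (by decide +kernel))
    (le_normalizer_nil gs _) (c.le zm228)
    (c.rels _ zr226) zb227 zq225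

theorem eT (c : Ctx P e gs ns D chk) :
    Cls 0 (subW gs [[8], [14], [12], [6], [4], [2], [0]]) (subW gs []) gs eTR :=
  (eT6 c).cls

theorem S_pr (c : Ctx P e gs ns D chk) :
    Rels gs (pcsR S_ps []) :=
  (c.rels _ zr230)

theorem S_pe (c : Ctx P e gs ns D chk) :
    Rels gs (defRels zE229) :=
  (c.rels _ zr231)

theorem S_pb : bnd (pcsB D S_ps []) (leB (app D zE229) [[8], [14], [12], [6], [4], [2]] (pcGens S_ps [])) = true := zb232

theorem S_ub (c : Ctx P e gs ns D chk) :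
    UB (subW gs [[8], [14], [12], [6], [4], [2]]) 64 :=
  c.pcs (UB.nil gs) (S_pe c) (S_pr c) S_pb (by decide +kernel)

theorem S_c : P.chainB ns D S_vs [[8], [14], [12], [6], [4], [2]] = true :=
  zc233

theorem S_o : prodL S_vs 1 = 64 := by decide +kernel

theorem S_lb (c : Ctx P e gs ns D chk) :
    LB (subW gs [[8], [14], [12], [6], [4], [2]]) 64 :=
  c.lb S_c S_o

theorem S_card (c : Ctx P e gs ns D chk) :
    Nat.card (subW gs [[8], [14], [12], [6], [4], [2]]) = 64 :=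
  (S_ub c).card_eq (S_lb c)

theorem CB_pr (c : Ctx P e gs ns D chk) :
    Rels gs (pcsR CB_ps []) :=
  (c.rels _ zr235)

theorem CB_pe (c : Ctx P e gs ns D chk) :
    Rels gs (defRels zE234) :=
  (c.rels _ zr236)

theorem CB_pb : bnd (pcsB D CB_ps []) (leB (app D zE234) [[8], [12], [6], [4], [2], [0]] (pcGens CB_ps [])) = true := zb237

theorem CB_ub (c : Ctx P e gs ns D chk) :
    UB (subW gs [[8], [12], [6], [4], [2], [0]]) 64 :=
  c.pcs (UB.nil gs) (CB_pe c) (CB_pr c) CB_pb (by decide +kernel)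

theorem CB_c : P.chainB ns D CB_vs [[8], [12], [6], [4], [2], [0]] = true :=
  zc238

theorem CB_o : prodL CB_vs 1 = 64 := by decide +kernel

theorem CB_lb (c : Ctx P e gs ns D chk) :
    LB (subW gs [[8], [12], [6], [4], [2], [0]]) 64 :=
  c.lb CB_c CB_o

theorem CB_card (c : Ctx P e gs ns D chk) :
    Nat.card (subW gs [[8], [12], [6], [4], [2], [0]]) = 64 :=
  (CB_ub c).card_eq (CB_lb c)

theorem cVG_c : P.chainB ns D cVG_vs [[0], [2], [4], [6], [8], [10], [12], [14], [16], [18], [20]] = true :=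
  zc242

theorem cVG_o : prodL cVG_vs 1 = 190080 := by decide +kernel

theorem cV (c : Ctx P e gs ns D chk) :
    (subW gs [[0], [2], [4], [6], [8], [10], [12], [14], [16], [18], [20]]) ⊓ Subgroup.centralizer (subW gs [[2], [4]] : Set G) = (subW gs [[8], [12], [6], [4], [2], [0]]) :=
  c.cent (lx := [[2], [4]]) (c.rels _ zr245) (c.sOk (c.exact cVG_c cVG_o (C_ub c)) zs243) (fun _ h => by cases h)
    (c.fixX zf241) (c.rels _ zr248) zm249 zs247

theorem B_c : P.chainB ns D B_vs [[4], [2], [0]] = true :=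
  zc250

theorem B_o : prodL B_vs 1 = 8 := by decide +kernel

theorem B_lb (c : Ctx P e gs ns D chk) :
    LB (subW gs [[4], [2], [0]]) 8 :=
  c.lb B_c B_o

theorem B_pr (c : Ctx P e gs ns D chk) :
    Rels gs (pcsR B_ps []) :=
  (c.rels _ zr251)

theorem B_pe (c : Ctx P e gs ns D chk) :
    Rels gs (defRels []) :=
  (Rels.nil _)

theorem B_pb : bnd (pcsB D B_ps []) (leB (app D []) [[4], [2], [0]] (pcGens B_ps [])) = true := zb252

theorem B_ub (c : Ctx P e gs ns D chk) :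
    UB (subW gs [[4], [2], [0]]) 8 :=
  c.pcs (UB.nil gs) (B_pe c) (B_pr c) B_pb (by decide +kernel)

theorem B_card (c : Ctx P e gs ns D chk) :
    Nat.card (subW gs [[4], [2], [0]]) = 8 :=
  (B_ub c).card_eq (B_lb c)

theorem eB0 (c : Ctx P e gs ns D chk) :
    Cov 0 (subW gs [[4], [2], [0]]) (subW gs []) gs eB0_R (subW gs [[2], [0]]) :=
  Cov.step' (q := 2) (g := [4]) c.defs (by norm_num) (Cov.init 0 (subW gs [[4], [2], [0]]) (subW gs []) gs)
    (pc_lvl' c.defs (B_pr c) B_pb (B_lb c) 0 (by decide +kernel))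
    (c.le_normalizer (cj := zcj257) (((B_ub c).mono (c.le zm260)).1) (c.rels _ zr259) zm258) (c.le zm256)
    (c.rels _ zr254) zb255 zq253

theorem eB1 (c : Ctx P e gs ns D chk) :
    Cov 0 (subW gs [[4], [2], [0]]) (subW gs []) gs eB1_R (subW gs [[0]]) :=
  Cov.step' (q := 2) (g := [2]) c.defs (by norm_num) (eB0 c)
    (pc_lvl' c.defs (B_pr c) B_pb (B_lb c) 1 (by decide +kernel))
    (c.le_normalizer (cj := zcj265) (((B_ub c).mono (c.le zm268)).1) (c.rels _ zr267) zm266) (c.le zm264)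
    (c.rels _ zr262) zb263 zq261

theorem eB2 (c : Ctx P e gs ns D chk) :
    Cov 0 (subW gs [[4], [2], [0]]) (subW gs []) gs eB2_R (subW gs []) :=
  Cov.step' (q := 2) (g := [0]) c.defs (by norm_num) (eB1 c)
    (pc_lvl' c.defs (B_pr c) B_pb (B_lb c) 2 (by decide +kernel))
    (le_normalizer_nil gs _) (c.le zm272)
    (c.rels _ zr270) zb271 zq269

theorem eB (c : Ctx P e gs ns D chk) :
    Cls 0 (subW gs [[4], [2], [0]]) (subW gs []) gs eBR :=
  (eB2 c).cls

theorem cCVG_c : P.chainB ns D cCVG_vs [[0], [2], [4], [6], [8], [10], [12], [14], [16], [18], [20]] = true :=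
  zc279

theorem cCVG_o : prodL cCVG_vs 1 = 190080 := by decide +kernel

theorem cCV (c : Ctx P e gs ns D chk) :
    (subW gs [[0], [2], [4], [6], [8], [10], [12], [14], [16], [18], [20]]) ⊓ Subgroup.centralizer (subW gs [[8], [12], [6], [4], [2]] : Set G) = (subW gs [[4], [2], [0]]) :=
  c.cent (lx := [[8], [12], [6], [4], [2]]) (c.rels _ zr282) (c.sOk (c.exact cCVG_c cCVG_o (C_ub c)) zs280) (fun _ h => by cases h)
    (c.fixX zf278) (c.rels _ zr285) zm286 zs284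

theorem A_c : P.chainB ns D A_vs [[6], [4], [2], [0]] = true :=
  zc287

theorem A_o : prodL A_vs 1 = 16 := by decide +kernel

theorem A_lb (c : Ctx P e gs ns D chk) :
    LB (subW gs [[6], [4], [2], [0]]) 16 :=
  c.lb A_c A_o

theorem A_pr (c : Ctx P e gs ns D chk) :
    Rels gs (pcsR A_ps []) :=
  (c.rels _ zr288)

theorem A_pe (c : Ctx P e gs ns D chk) :
    Rels gs (defRels []) :=
  (Rels.nil _)

theorem A_pb : bnd (pcsB D A_ps []) (leB (app D []) [[6], [4], [2], [0]] (pcGens A_ps [])) = true := zb289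

theorem A_ub (c : Ctx P e gs ns D chk) :
    UB (subW gs [[6], [4], [2], [0]]) 16 :=
  c.pcs (UB.nil gs) (A_pe c) (A_pr c) A_pb (by decide +kernel)

theorem A_card (c : Ctx P e gs ns D chk) :
    Nat.card (subW gs [[6], [4], [2], [0]]) = 16 :=
  (A_ub c).card_eq (A_lb c)

theorem eA0 (c : Ctx P e gs ns D chk) :
    Cov 0 (subW gs [[6], [4], [2], [0]]) (subW gs []) gs eA0_R (subW gs [[4], [2], [0]]) :=
  Cov.step' (q := 2) (g := [6]) c.defs (by norm_num) (Cov.init 0 (subW gs [[6], [4], [2], [0]]) (subW gs []) gs)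
    (pc_lvl' c.defs (A_pr c) A_pb (A_lb c) 0 (by decide +kernel))
    (c.le_normalizer (cj := zcj294) (((A_ub c).mono (c.le zm297)).1) (c.rels _ zr296) zm295) (c.le zm293)
    (c.rels _ zr291) zb292 zq290

theorem eA1 (c : Ctx P e gs ns D chk) :
    Cov 0 (subW gs [[6], [4], [2], [0]]) (subW gs []) gs eA1_R (subW gs [[2], [0]]) :=
  Cov.step' (q := 2) (g := [4]) c.defs (by norm_num) (eA0 c)
    (pc_lvl' c.defs (A_pr c) A_pb (A_lb c) 1 (by decide +kernel))
    (c.le_normalizer (cj := zcj302) (((A_ub c).mono (c.le zm305)).1) (c.rels _ zr304) zm303) (c.le zm301)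
    (c.rels _ zr299) zb300 zq298

theorem eA2 (c : Ctx P e gs ns D chk) :
    Cov 0 (subW gs [[6], [4], [2], [0]]) (subW gs []) gs eA2_R (subW gs [[0]]) :=
  Cov.step' (q := 2) (g := [2]) c.defs (by norm_num) (eA1 c)
    (pc_lvl' c.defs (A_pr c) A_pb (A_lb c) 2 (by decide +kernel))
    (c.le_normalizer (cj := zcj310) (((A_ub c).mono (c.le zm313)).1) (c.rels _ zr312) zm311) (c.le zm309)
    (c.rels _ zr307) zb308 zq306

theorem eA3 (c : Ctx P e gs ns D chk) :
    Cov 0 (subW gs [[6], [4], [2], [0]]) (subW gs []) gs eA3_R (subW gs []) :=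
  Cov.step' (q := 2) (g := [0]) c.defs (by norm_num) (eA2 c)
    (pc_lvl' c.defs (A_pr c) A_pb (A_lb c) 3 (by decide +kernel))
    (le_normalizer_nil gs _) (c.le zm317)
    (c.rels _ zr315) zb316 zq314

theorem eA (c : Ctx P e gs ns D chk) :
    Cls 0 (subW gs [[6], [4], [2], [0]]) (subW gs []) gs eAR :=
  (eA3 c).cls

theorem cWG_c : P.chainB ns D cWG_vs [[0], [2], [4], [6], [8], [10], [12], [14], [16], [18], [20]] = true :=
  zc322

theorem cWG_o : prodL cWG_vs 1 = 190080 := by decide +kernel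

theorem cW (c : Ctx P e gs ns D chk) :
    (subW gs [[0], [2], [4], [6], [8], [10], [12], [14], [16], [18], [20]]) ⊓ Subgroup.centralizer (subW gs [[6], [4], [2]] : Set G) = (subW gs [[6], [4], [2], [0]]) :=
  c.cent (lx := [[6], [4], [2]]) (c.rels _ zr325) (c.sOk (c.exact cWG_c cWG_o (C_ub c)) zs323) (fun _ h => by cases h)
    (c.fixX zf321) (c.rels _ zr328) zm329 zs327

theorem Y_c : P.chainB ns D Y_vs [[16], [2], [0]] = true :=
  zc330

theorem Y_o : prodL Y_vs 1 = 12 := by decide +kernel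

theorem Y_lb (c : Ctx P e gs ns D chk) :
    LB (subW gs [[16], [2], [0]]) 12 :=
  c.lb Y_c Y_o

theorem Y_pr (c : Ctx P e gs ns D chk) :
    Rels gs (pcsR Y_ps []) :=
  (c.rels _ zr331)

theorem Y_pe (c : Ctx P e gs ns D chk) :
    Rels gs (defRels []) :=
  (Rels.nil _)

theorem Y_pb : bnd (pcsB D Y_ps []) (leB (app D []) [[16], [2], [0]] (pcGens Y_ps [])) = true := zb332

theorem Y_ub (c : Ctx P e gs ns D chk) :
    UB (subW gs [[16], [2], [0]]) 12 :=
  c.pcs (UB.nil gs) (Y_pe c) (Y_pr c) Y_pb (by decide +kernel)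

theorem Y_card (c : Ctx P e gs ns D chk) :
    Nat.card (subW gs [[16], [2], [0]]) = 12 :=
  (Y_ub c).card_eq (Y_lb c)

theorem eY0 (c : Ctx P e gs ns D chk) :
    Cov 0 (subW gs [[16], [2], [0]]) (subW gs []) gs eY0_R (subW gs [[2], [0]]) :=
  Cov.step' (q := 3) (g := [16]) c.defs (by norm_num) (Cov.init 0 (subW gs [[16], [2], [0]]) (subW gs []) gs)
    (pc_lvl' c.defs (Y_pr c) Y_pb (Y_lb c) 0 (by decide +kernel))
    (c.le_normalizer (cj := zcj337) (((Y_ub c).mono (c.le zm340)).1) (c.rels _ zr339) zm338) (c.le zm336)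
    (c.rels _ zr334) zb335 zq333

theorem eY1 (c : Ctx P e gs ns D chk) :
    Cov 0 (subW gs [[16], [2], [0]]) (subW gs []) gs eY1_R (subW gs [[0]]) :=
  Cov.step' (q := 2) (g := [2]) c.defs (by norm_num) (eY0 c)
    (pc_lvl' c.defs (Y_pr c) Y_pb (Y_lb c) 1 (by decide +kernel))
    (c.le_normalizer (cj := zcj345) (((Y_ub c).mono (c.le zm348)).1) (c.rels _ zr347) zm346) (c.le zm344)
    (c.rels _ zr342) zb343 zq341

theorem eY2 (c : Ctx P e gs ns D chk) :
    Cov 0 (subW gs [[16], [2], [0]]) (subW gs []) gs eY2_R (subW gs []) :=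
  Cov.step' (q := 2) (g := [0]) c.defs (by norm_num) (eY1 c)
    (pc_lvl' c.defs (Y_pr c) Y_pb (Y_lb c) 2 (by decide +kernel))
    (le_normalizer_nil gs _) (c.le zm352)
    (c.rels _ zr350) zb351 zq349

theorem eY (c : Ctx P e gs ns D chk) :
    Cls 0 (subW gs [[16], [2], [0]]) (subW gs []) gs eYR :=
  (eY2 c).cls

theorem cyG_c : P.chainB ns D cyG_vs [[0], [2], [4], [6], [8], [10], [12], [14], [16], [18], [20]] = true :=
  zc356

theorem cyG_o : prodL cyG_vs 1 = 190080 := by decide +kernel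

theorem cy (c : Ctx P e gs ns D chk) :
    (subW gs [[0], [2], [4], [6], [8], [10], [12], [14], [16], [18], [20]]) ⊓ Subgroup.centralizer (subW gs [[2], [16]] : Set G) = (subW gs [[16], [2], [0]]) :=
  c.cent (lx := [[2], [16]]) (c.rels _ zr359) (c.sOk (c.exact cyG_c cyG_o (C_ub c)) zs357) (fun _ h => by cases h)
    (c.fixX zf355) (c.rels _ zr362) zm363 zs361

theorem F_c : P.chainB ns D F_vs [[20], [12], [4], [2], [0]] = true :=
  zc364

theorem F_o : prodL F_vs 1 = 32 := by decide +kernel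

theorem F_lb (c : Ctx P e gs ns D chk) :
    LB (subW gs [[20], [12], [4], [2], [0]]) 32 :=
  c.lb F_c F_o

theorem F_pr (c : Ctx P e gs ns D chk) :
    Rels gs (pcsR F_ps []) :=
  (c.rels _ zr365)

theorem F_pe (c : Ctx P e gs ns D chk) :
    Rels gs (defRels []) :=
  (Rels.nil _)

theorem F_pb : bnd (pcsB D F_ps []) (leB (app D []) [[20], [12], [4], [2], [0]] (pcGens F_ps [])) = true := zb366

theorem F_ub (c : Ctx P e gs ns D chk) :
    UB (subW gs [[20], [12], [4], [2], [0]]) 32 :=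
  c.pcs (UB.nil gs) (F_pe c) (F_pr c) F_pb (by decide +kernel)

theorem F_card (c : Ctx P e gs ns D chk) :
    Nat.card (subW gs [[20], [12], [4], [2], [0]]) = 32 :=
  (F_ub c).card_eq (F_lb c)

theorem eF0 (c : Ctx P e gs ns D chk) :
    Cov 0 (subW gs [[20], [12], [4], [2], [0]]) (subW gs []) gs eF0_R (subW gs [[12], [4], [2], [0]]) :=
  Cov.step' (q := 2) (g := [20]) c.defs (by norm_num) (Cov.init 0 (subW gs [[20], [12], [4], [2], [0]]) (subW gs []) gs)
    (pc_lvl' c.defs (F_pr c) F_pb (F_lb c) 0 (by decide +kernel))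
    (c.le_normalizer (cj := zcj371) (((F_ub c).mono (c.le zm374)).1) (c.rels _ zr373) zm372) (c.le zm370)
    (c.rels _ zr368) zb369 zq367

theorem eF1 (c : Ctx P e gs ns D chk) :
    Cov 0 (subW gs [[20], [12], [4], [2], [0]]) (subW gs []) gs eF1_R (subW gs [[4], [2], [0]]) :=
  Cov.step' (q := 2) (g := [12]) c.defs (by norm_num) (eF0 c)
    (pc_lvl' c.defs (F_pr c) F_pb (F_lb c) 1 (by decide +kernel))
    (c.le_normalizer (cj := zcj379) (((F_ub c).mono (c.le zm382)).1) (c.rels _ zr381) zm380) (c.le zm378)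
    (c.rels _ zr376) zb377 zq375

theorem eF2 (c : Ctx P e gs ns D chk) :
    Cov 0 (subW gs [[20], [12], [4], [2], [0]]) (subW gs []) gs eF2_R (subW gs [[2], [0]]) :=
  Cov.step' (q := 2) (g := [4]) c.defs (by norm_num) (eF1 c)
    (pc_lvl' c.defs (F_pr c) F_pb (F_lb c) 2 (by decide +kernel))
    (c.le_normalizer (cj := zcj387) (((F_ub c).mono (c.le zm390)).1) (c.rels _ zr389) zm388) (c.le zm386)
    (c.rels _ zr384) zb385 zq383

theorem eF3 (c : Ctx P e gs ns D chk) :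
    Cov 0 (subW gs [[20], [12], [4], [2], [0]]) (subW gs []) gs eF3_R (subW gs [[0]]) :=
  Cov.step' (q := 2) (g := [2]) c.defs (by norm_num) (eF2 c)
    (pc_lvl' c.defs (F_pr c) F_pb (F_lb c) 3 (by decide +kernel))
    (c.le_normalizer (cj := zcj395) (((F_ub c).mono (c.le zm398)).1) (c.rels _ zr397) zm396) (c.le zm394)
    (c.rels _ zr392) zb393 zq391

theorem eF4 (c : Ctx P e gs ns D chk) :
    Cov 0 (subW gs [[20], [12], [4], [2], [0]]) (subW gs []) gs eF4_R (subW gs []) :=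
  Cov.step' (q := 2) (g := [0]) c.defs (by norm_num) (eF3 c)
    (pc_lvl' c.defs (F_pr c) F_pb (F_lb c) 4 (by decide +kernel))
    (le_normalizer_nil gs _) (c.le zm402)
    (c.rels _ zr400) zb401 zq399

theorem eF (c : Ctx P e gs ns D chk) :
    Cls 0 (subW gs [[20], [12], [4], [2], [0]]) (subW gs []) gs eFR :=
  (eF4 c).cls

theorem FB (c : Ctx P e gs ns D chk) :
    (subW gs [[20], [12], [4], [2], [0]]) ≤ (subW gs [[8], [12], [6], [4], [2], [0]]) :=
  (c.le_of_rels (ws := [[20], [12], [4], [2], [0]]) (l := [[8], [12], [6], [4], [2], [0]]) (c.rels _ zr405) zm404)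

theorem Ci_pr (c : Ctx P e gs ns D chk) :
    Rels gs (pcsR Ci_ps []) :=
  (c.rels _ zr407)

theorem Ci_pe (c : Ctx P e gs ns D chk) :
    Rels gs (defRels zE406) :=
  (c.rels _ zr408)

theorem Ci_pb : bnd (pcsB D Ci_ps []) (leB (app D zE406) [[168], [170], [172]] (pcGens Ci_ps [])) = true := zb409

theorem Ci_ub (c : Ctx P e gs ns D chk) :
    UB (subW gs [[168], [170], [172]]) 64 :=
  c.pcs (UB.nil gs) (Ci_pe c) (Ci_pr c) Ci_pb (by decide +kernel)

theorem Ci_c : P.chainB ns D Ci_vs [[168], [170], [172]] = true :=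
  zc410

theorem Ci_o : prodL Ci_vs 1 = 64 := by decide +kernel

theorem Ci_lb (c : Ctx P e gs ns D chk) :
    LB (subW gs [[168], [170], [172]]) 64 :=
  c.lb Ci_c Ci_o

theorem Ci_card (c : Ctx P e gs ns D chk) :
    Nat.card (subW gs [[168], [170], [172]]) = 64 :=
  (Ci_ub c).card_eq (Ci_lb c)

theorem ciG_c : P.chainB ns D ciG_vs [[0], [2], [4], [6], [8], [10], [12], [14], [16], [18], [20]] = true :=
  zc414

theorem ciG_o : prodL ciG_vs 1 = 190080 := by decide +kernel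

theorem ci (c : Ctx P e gs ns D chk) :
    (subW gs [[0], [2], [4], [6], [8], [10], [12], [14], [16], [18], [20]]) ⊓ Subgroup.centralizer (subW gs [[12]] : Set G) = (subW gs [[168], [170], [172]]) :=
  c.cent (lx := [[12]]) (c.rels _ zr417) (c.sOk (c.exact ciG_c ciG_o (C_ub c)) zs415) (fun _ h => by cases h)
    (c.fixX zf413) (c.rels _ zr420) zm421 zs419

theorem MN (c : Ctx P e gs ns D chk) :
    (subW gs [[2], [4], [6], [8], [10], [12], [14], [16], [18], [20]]) ≤ (subW gs [[184], [186]]) :=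
  (c.le_of_rels (ws := [[2], [4], [6], [8], [10], [12], [14], [16], [18], [20]]) (l := [[184], [186]]) (c.rels _ zr424) zm423)

theorem toM {Γ Y : Type*} [Group Γ] [MulAction Γ Y] {e' : ℕ → Y} {cs : List Γ} {D₁ D₂ : List (ℕ × List ℕ)}
    {k₁ k₂ : List (List ℕ × List ℕ) → Bool} (c : Ctx CL.Co3M.T.P e gs CL.Co3M.T.ns D₁ k₁) (c' : Ctx CL.FusC.M12.P e' cs CL.FusC.M12.ns D₂ k₂)
    (hF : Faithful e' CL.FusC.M12.P.n (subW cs [[0], [2]])) :
    RelLe gs [[184], [186]] cs [[0], [2]] :=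
  c.relLe (K := zK426) c' hF zl427 (fun (t : ℕ) (ht : t < 1) => match t, ht with
    | 0, _ => zl428
    | t + 1, h => absurd h (by omega))

theorem tw1 {Γ Y : Type*} [Group Γ] [MulAction Γ Y] {e' : ℕ → Y} {cs : List Γ} {D₁ D₂ : List (ℕ × List ℕ)}
    {k₁ k₂ : List (List ℕ × List ℕ) → Bool} (c : Ctx CL.Co3M.T.P e gs CL.Co3M.T.ns D₁ k₁) (c' : Ctx CL.Co3M.T.P e' cs CL.Co3M.T.ns D₂ k₂)
    (hF : Faithful e' CL.Co3M.T.P.n (subW cs [[0], [2], [4], [6], W (nat_lit 0x2403), W (nat_lit 0x3807), W (nat_lit 0x3805), W (nat_lit 0x4007), [16], W (nat_lit 0xe04c03), W (nat_lit 0x5403)])) :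
    RelLe gs [[0], [2], [4], [6], [8], [10], [12], [14], [16], [18], [20]] cs [[0], [2], [4], [6], W (nat_lit 0x2403), W (nat_lit 0x3807), W (nat_lit 0x3805), W (nat_lit 0x4007), [16], W (nat_lit 0xe04c03), W (nat_lit 0x5403)] :=
  c.relLe (K := zK430) c' hF zl431 (fun (t : ℕ) (ht : t < 1) => match t, ht with
    | 0, _ => zl432
    | t + 1, h => absurd h (by omega))

theorem tw2 {Γ Y : Type*} [Group Γ] [MulAction Γ Y] {e' : ℕ → Y} {cs : List Γ} {D₁ D₂ : List (ℕ × List ℕ)}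
    {k₁ k₂ : List (List ℕ × List ℕ) → Bool} (c : Ctx CL.Co3M.T.P e gs CL.Co3M.T.ns D₁ k₁) (c' : Ctx CL.Co3M.T.P e' cs CL.Co3M.T.ns D₂ k₂)
    (hF : Faithful e' CL.Co3M.T.P.n (subW cs [[0], [2], [4], [6], [8], [10], [12], [14], [16], [18], [20]])) :
    RelLe gs [[0], [2], [4], [6], W (nat_lit 0x2403), W (nat_lit 0x3807), W (nat_lit 0x3805), W (nat_lit 0x4007), [16], W (nat_lit 0xe04c03), W (nat_lit 0x5403)] cs [[0], [2], [4], [6], [8], [10], [12], [14], [16], [18], [20]] :=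
  c.relLe (K := zK434) c' hF zl435 (fun (t : ℕ) (ht : t < 1) => match t, ht with
    | 0, _ => zl436
    | t + 1, h => absurd h (by omega))


end CL.Co3M.T
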