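import Cfsg.Agent.Spor.TCSound

/-! coset enumeration certificate generated by tools/tc -/

set_option maxRecDepth 100000
set_option autoImplicit false
set_option linter.all false

namespace CL.TC.Co3MA

noncomputable def rows0 : Tr ℕ := (.leaf (nat_lit 0xe900ba302eac0fbd03ef413f902f540fa504e70139b04e90139b04f500fad04f1013b504eb4119ffc80f6603d98276809de01f9609ed8177807da01f1607c981f2807e68276807d281f4807d601ca7ab04eb013f901f1007c302f4c0ff404eac0bb302eec0bc302ef00beb02f2c0bbb02eec0bb30282f7607f981f7605f9817f403f180fd403ed80fc403e980fb403e180fe403e900f9403e100f740200))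
noncomputable def recs0 : Tr ℕ := (.leaf (nat_lit 0x4120209010d8086c045a022d011f808fc050e0275015580a64059e02bd01288094405c202e1))
noncomputable def rows : Tr ℕ := rows0
noncomputable def recs : Tr ℕ := recs0
noncomputable def ci0 : CI := ⟨[], (nat_lit 0), false, (.node (nat_lit 1) (.leaf Rule.defn) (.leaf Rule.copy)), (.leaf (XRule.rot (nat_lit 0) [] 74 0))⟩
noncomputable def ci9 : CI := ⟨[0], (nat_lit 9), true, (.node (nat_lit 4) (.node (nat_lit 2) (.node (nat_lit 1) (.leaf Rule.defn) (.leaf Rule.copy)) (.node (nat_lit 1) (.leaf (Rule.fwd [nat_lit 261, nat_lit 45, nat_lit 9, nat_lit 243] 50 1)) (.leaf (Rule.fwd [nat_lit 189, nat_lit 9, nat_lit 207] 30 0)))) (.leaf (Rule.fwd [nat_lit 207, nat_lit 9, nat_lit 189] 30 2))), (.node (nat_lit 1) (.leaf XRule.defn) (.leaf XRule.ax))⟩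
noncomputable def ci27 : CI := ⟨[1], (nat_lit 27), true, (.node (nat_lit 4) (.node (nat_lit 2) (.node (nat_lit 1) (.leaf Rule.defn) (.leaf Rule.copy)) (.node (nat_lit 1) (.leaf (Rule.fwd [nat_lit 261, nat_lit 27, nat_lit 243] 52 1)) (.leaf (Rule.fwd [nat_lit 9, nat_lit 225, nat_lit 9, nat_lit 225] 32 3)))) (.leaf (Rule.fwd [nat_lit 81, nat_lit 225, nat_lit 81, nat_lit 225] 46 3))), (.node (nat_lit 1) (.leaf XRule.defn) (.leaf XRule.ax))⟩
noncomputable def ci45 : CI := ⟨[2], (nat_lit 45), true, (.node (nat_lit 4) (.node (nat_lit 2) (.node (nat_lit 1) (.leaf Rule.defn) (.leaf Rule.copy)) (.node (nat_lit 1) (.leaf (Rule.fwd [nat_lit 243, nat_lit 243] 68 2)) (.leaf (Rule.fwd [nat_lit 207, nat_lit 63, nat_lit 189] 6 0)))) (.leaf (Rule.fwd [nat_lit 243, nat_lit 45, nat_lit 261] 54 3))), (.node (nat_lit 1) (.leaf XRule.defn) (.leaf XRule.ax))⟩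
noncomputable def ci63 : CI := ⟨[3], (nat_lit 63), true, (.node (nat_lit 4) (.node (nat_lit 2) (.node (nat_lit 1) (.leaf Rule.defn) (.leaf Rule.copy)) (.node (nat_lit 1) (.leaf (Rule.fwd [nat_lit 261, nat_lit 63, nat_lit 243] 56 1)) (.leaf (Rule.fwd [nat_lit 189, nat_lit 45, nat_lit 207] 6 2)))) (.leaf (Rule.fwd [nat_lit 81, nat_lit 63, nat_lit 81, nat_lit 45] 12 1))), (.node (nat_lit 1) (.leaf XRule.defn) (.leaf XRule.ax))⟩
noncomputable def ci81 : CI := ⟨[4], (nat_lit 81), true, (.node (nat_lit 4) (.node (nat_lit 2) (.node (nat_lit 1) (.leaf Rule.defn) (.leaf Rule.copy)) (.node (nat_lit 1) (.leaf (Rule.fwd [nat_lit 261, nat_lit 81, nat_lit 243] 58 1)) (.leaf (Rule.fwd [nat_lit 189, nat_lit 81, nat_lit 189] 8 0)))) (.leaf (Rule.fwd [nat_lit 81] 74 0))), (.node (nat_lit 1) (.leaf XRule.defn) (.leaf XRule.ax))⟩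
noncomputable def ci99 : CI := ⟨[5], (nat_lit 99), false, (.node (nat_lit 2) (.node (nat_lit 1) (.leaf Rule.defn) (.leaf Rule.copy)) (.node (nat_lit 1) (.leaf (Rule.fwd [nat_lit 63, nat_lit 45, nat_lit 117] 5 3)) (.leaf (Rule.fwd [nat_lit 261, nat_lit 99, nat_lit 45, nat_lit 243] 60 1)))), (.node (nat_lit 1) (.leaf XRule.defn) (.leaf XRule.defn))⟩
noncomputable def ci117 : CI := ⟨[6], (nat_lit 135), true, (.node (nat_lit 2) (.node (nat_lit 1) (.leaf Rule.defn) (.leaf Rule.copy)) (.node (nat_lit 1) (.leaf (Rule.fwd [nat_lit 261, nat_lit 135, nat_lit 45, nat_lit 243] 62 1)) (.leaf (Rule.fwd [nat_lit 207, nat_lit 171, nat_lit 189] 10 0)))), (.node (nat_lit 1) (.leaf XRule.defn) (.leaf XRule.ax))⟩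
noncomputable def ci135 : CI := ⟨[7], (nat_lit 117), false, (.node (nat_lit 2) (.node (nat_lit 1) (.leaf Rule.defn) (.leaf Rule.copy)) (.leaf (Rule.fwd [nat_lit 117] 74 0))), (.node (nat_lit 1) (.leaf XRule.defn) (.leaf XRule.defn))⟩
noncomputable def ci153 : CI := ⟨[8], (nat_lit 171), true, (.node (nat_lit 2) (.node (nat_lit 1) (.leaf Rule.defn) (.leaf Rule.copy)) (.node (nat_lit 1) (.leaf (Rule.fwd [nat_lit 261, nat_lit 225, nat_lit 171, nat_lit 63, nat_lit 45, nat_lit 9, nat_lit 243] 64 1)) (.leaf (Rule.fwd [nat_lit 171] 74 0)))), (.node (nat_lit 1) (.leaf XRule.defn) (.leaf XRule.ax))⟩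
noncomputable def ci171 : CI := ⟨[9], (nat_lit 153), false, (.node (nat_lit 4) (.node (nat_lit 2) (.node (nat_lit 1) (.leaf Rule.defn) (.leaf Rule.copy)) (.node (nat_lit 1) (.leaf (Rule.fwd [nat_lit 153] 74 0)) (.leaf (Rule.fwd [nat_lit 189, nat_lit 117, nat_lit 207] 10 2)))) (.leaf (Rule.fwd [nat_lit 63, nat_lit 45, nat_lit 9, nat_lit 243, nat_lit 153, nat_lit 261, nat_lit 225] 64 4))), (.node (nat_lit 1) (.leaf XRule.defn) (.leaf XRule.defn))⟩
noncomputable def ci189 : CI := ⟨[10], (nat_lit 207), true, (.node (nat_lit 4) (.node (nat_lit 2) (.node (nat_lit 1) (.leaf Rule.defn) (.leaf Rule.copy)) (.node (nat_lit 1) (.leaf (Rule.fwd [nat_lit 261, nat_lit 207, nat_lit 279] 73 3)) (.leaf (Rule.fwd [nat_lit 207] 74 0)))) (.leaf (Rule.fwd [nat_lit 189, nat_lit 189] 2 0))), (.node (nat_lit 1) (.leaf XRule.defn) (.leaf XRule.ax))⟩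
noncomputable def ci207 : CI := ⟨[11], (nat_lit 189), false, (.node (nat_lit 2) (.node (nat_lit 1) (.leaf Rule.defn) (.leaf Rule.copy)) (.leaf (Rule.fwd [nat_lit 189] 74 0))), (.node (nat_lit 1) (.leaf XRule.defn) (.leaf XRule.defn))⟩
noncomputable def ci225 : CI := ⟨[12], (nat_lit 225), true, (.node (nat_lit 4) (.node (nat_lit 2) (.node (nat_lit 1) (.leaf Rule.defn) (.leaf Rule.copy)) (.node (nat_lit 1) (.leaf (Rule.fwd [nat_lit 261, nat_lit 225, nat_lit 45, nat_lit 243] 66 1)) (.leaf (Rule.fwd [nat_lit 189, nat_lit 225, nat_lit 207] 48 0)))) (.leaf (Rule.fwd [nat_lit 207, nat_lit 225, nat_lit 189] 48 2))), (.node (nat_lit 1) (.leaf XRule.defn) (.leaf XRule.ax))⟩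
noncomputable def ci243 : CI := ⟨[13], (nat_lit 261), false, (.node (nat_lit 4) (.node (nat_lit 2) (.node (nat_lit 1) (.leaf Rule.defn) (.leaf Rule.copy)) (.node (nat_lit 1) (.leaf (Rule.fwd [nat_lit 261] 74 0)) (.leaf (Rule.fwd [nat_lit 45, nat_lit 243] 68 1)))) (.leaf (Rule.fwd [nat_lit 189, nat_lit 243, nat_lit 189, nat_lit 243, nat_lit 189] 70 0))), (.node (nat_lit 1) (.leaf XRule.defn) (.leaf XRule.defn))⟩
noncomputable def ci261 : CI := ⟨[14], (nat_lit 243), false, (.node (nat_lit 2) (.node (nat_lit 1) (.leaf Rule.defn) (.leaf Rule.copy)) (.leaf (Rule.fwd [nat_lit 243] 74 0))), (.node (nat_lit 1) (.leaf XRule.defn) (.leaf XRule.defn))⟩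
noncomputable def ci279 : CI := ⟨[15], (nat_lit 297), false, (.node (nat_lit 2) (.node (nat_lit 1) (.leaf Rule.defn) (.leaf Rule.copy)) (.node (nat_lit 1) (.leaf (Rule.fwd [nat_lit 297] 74 0)) (.leaf (Rule.fwd [nat_lit 189, nat_lit 261, nat_lit 207] 73 0)))), (.node (nat_lit 1) (.leaf XRule.defn) (.leaf XRule.defn))⟩
noncomputable def ci297 : CI := ⟨[16], (nat_lit 279), false, (.node (nat_lit 2) (.node (nat_lit 1) (.leaf Rule.defn) (.leaf Rule.copy)) (.node (nat_lit 1) (.leaf (Rule.fwd [nat_lit 189, nat_lit 243, nat_lit 207] 72 3)) (.leaf (Rule.fwd [nat_lit 279] 74 0)))), (.node (nat_lit 1) (.leaf XRule.defn) (.leaf XRule.defn))⟩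
noncomputable def outer : Tr CI := (.node (nat_lit 8) (.node (nat_lit 2) (.node (nat_lit 4) (.node (nat_lit 1) (.leaf ci0) (.node (nat_lit 16) (.leaf ci225) (.leaf ci81))) (.node (nat_lit 16) (.leaf ci261) (.leaf ci117))) (.node (nat_lit 4) (.node (nat_lit 16) (.leaf ci99) (.leaf ci243)) (.node (nat_lit 16) (.leaf ci135) (.leaf ci279)))) (.node (nat_lit 2) (.node (nat_lit 4) (.node (nat_lit 16) (.node (nat_lit 32) (.leaf ci9) (.leaf ci297)) (.leaf ci153)) (.node (nat_lit 16) (.leaf ci45) (.leaf ci189))) (.node (nat_lit 4) (.node (nat_lit 16) (.leaf ci171) (.leaf ci27)) (.node (nat_lit 16) (.leaf ci207) (.leaf ci63)))))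
def cols : List ℕ := [nat_lit 9, nat_lit 27, nat_lit 45, nat_lit 63, nat_lit 81, nat_lit 99, nat_lit 117, nat_lit 135, nat_lit 153, nat_lit 171, nat_lit 189, nat_lit 207, nat_lit 225, nat_lit 243, nat_lit 261, nat_lit 279, nat_lit 297]
def invL : List ℕ := [0, 1, 2, 3, 4, 5, 7, 6, 9, 8, 11, 10, 12, 14, 13, 16, 15]
def rels : List (List ℕ) := [[1, 6, 6], [10, 10, 10], [2, 3, 5, 7], [2, 11, 3, 10], [4, 10, 4, 10], [6, 11, 9, 10], [2, 3, 4, 3, 4], [4, 6, 8, 4, 8], [0, 1, 0, 1], [0, 2, 0, 2], [0, 3, 0, 3], [0, 4, 0, 4], [0, 5, 0, 5], [0, 6, 0, 7], [0, 8, 0, 9], [0, 10, 0, 11], [12, 0, 12, 1, 0], [12, 1, 12, 1], [12, 6, 12, 7], [12, 2, 12, 2], [12, 3, 12, 3], [12, 8, 12, 9], [12, 5, 12, 5], [12, 4, 12, 1, 4], [12, 10, 12, 11], [13, 0, 14, 2, 0], [13, 1, 14, 1], [13, 2, 14, 2], [13, 3, 14, 3], [13, 4, 14, 4], [13, 5, 14, 5, 2], [13, 6, 14, 7, 2], [13, 8, 14, 12, 9, 3, 2, 0], [13, 12, 14, 12, 2], [13, 13, 2], [13, 10, 13, 10, 13, 10],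 [10, 13, 11, 16]]
def subs : List (List ℕ) := [[12], [4], [10], [8], [6], [3], [2], [1], [0]]
noncomputable def row (n : ℕ) : ℕ := rowOf (fun h => rows.get h) (nat_lit 4) (nat_lit 15) (nat_lit 315) (nat_lit 0x7ffffffffffffffffffffffffffffffffffffffffffffffffffffffffffffffffffffffffffffff) n
noncomputable def xleaf (h : ℕ) : ℕ := recs.get h
noncomputable def mF : ℕ → ℕ := mainRow row (rowChk row xleaf outer (nat_lit 8) (nat_lit 255) (nat_lit 7) (nat_lit 11) (nat_lit 2047) (nat_lit 262143) (nat_lit 128) (nat_lit 4) (nat_lit 256) (nat_lit 9) (nat_lit 511) (nat_lit 17) (nat_lit 131071) (nat_lit 8) (nat_lit 255) cols)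
noncomputable def xF : ℕ → ℕ → ℕ := xLeaf row xleaf outer (nat_lit 255) (nat_lit 11) (nat_lit 262143) (nat_lit 128) (nat_lit 4) (nat_lit 9) (nat_lit 511) (nat_lit 17) (nat_lit 131071) (nat_lit 130560) (nat_lit 8) (nat_lit 255) (nat_lit 10) (nat_lit 1023) (nat_lit 2) (nat_lit 3) (nat_lit 297) (nat_lit 2048) (nat_lit 128)
noncomputable def cert : Cert := ⟨row, xleaf, outer, cols, nat_lit 8, nat_lit 255, nat_lit 7, nat_lit 11, nat_lit 2047, nat_lit 262143, nat_lit 128, nat_lit 4, nat_lit 256, nat_lit 9, nat_lit 511, nat_lit 17, nat_lit 131071, nat_lit 130560, nat_lit 8, nat_lit 255, nat_lit 10, nat_lit 1023, nat_lit 2, nat_lit 3, nat_lit 297, nat_lit 2048, nat_lit 128, nat_lit 18, nat_lit 128, nat_lit 1⟩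
theorem tabok : tabOK (fun i => invL.getD i i) rels subs outer cols (nat_lit 9) (nat_lit 297) = true := by decide +kernel
theorem m0 : rng mF (nat_lit 1) (nat_lit 4) = 0 := by decide +kernel
noncomputable def s0 : List ℕ := [nat_lit 0x401004010040100401004000000000000000000000000000000000000000000000000000000000000000000000000000000000000000000000000000000000000000000000000000000000000000000000000000000000000000000000000000000000000000000000000000000000000000000000000000000000000000000000000000000000000000000000000000000000000000000000000000000000]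
theorem x0 : xs xF s0 (nat_lit 1) = 0 := by decide +kernel
theorem mz0 : AllZ mF 1 (nat_lit 5) := (AllZ.step (AllZ.nil mF 1) (nat_lit 4) (nat_lit 5) rfl m0)
theorem xz0 : XZ xF (nat_lit 1) := (XZ.step (XZ.nil xF) s0 (nat_lit 1) (nat_lit 1) (by decide +kernel) x0)
/-- the certificate (4 points) is valid -/
theorem valid : cert.Valid (fun i => invL.getD i i) rels subs 17 :=
  ⟨by decide +kernel, tabok, by decide +kernel, mz0, xz0⟩
theorem cert_N : cert.N = 4 := rfl

end CL.TC.Co3MA
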