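/-
Lifting a presentation through a central extension.
-/
import Cfsg.Agent.Spor.PGPres
import Cfsg.Agent.Spor.PGSub
import Cfsg.Agent.Known.PcMain

set_option autoImplicit false

namespace CL.Lift

open Subgroup CL.PG CL.Schur Cfsg
open scoped commutatorElement Pointwise

variable {Γ G : Type*} [Group Γ] [Group G] {τ : Γ →* G}

theorem isConj_of_odd {a j : G} (ha : a ^ 2 = 1) (hj : j ^ 2 = 1) {k : ℕ} (h : (a * j) ^ (2 * k + 1) = 1) :
    IsConj j a := isConj_iff.2 ⟨(a * j) ^ (k + 1), by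
  have e : j * (a * j)⁻¹ * j⁻¹ = a * j := by
    rw [mul_inv_rev, inv_eq_of_mul_eq_one_right ((pow_two a).symm.trans ha),
      inv_eq_of_mul_eq_one_right ((pow_two j).symm.trans hj),
      ← mul_assoc, ← pow_two, hj, one_mul]
  rw [← inv_pow, show ∀ u v : G, u * j * v = u * (j * v * j⁻¹) * j from fun u v => by group, ← conj_pow, e, ← pow_add,
    show k + 1 + (k + 1) = 2 * k + 1 + 1 by ring, pow_succ, h, one_mul, mul_assoc, ← pow_two, hj, mul_one]⟩

theorem isConj_of_odd' {a j g : G} (ha : a ^ 2 = 1) (hj : j ^ 2 = 1) {k : ℕ} (h : (a * (g * j * g⁻¹)) ^ (2 * k + 1) = 1) :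
    IsConj j a := (isConj_iff.2 ⟨g, rfl⟩).trans (isConj_of_odd ha (by rw [conj_pow, hj, mul_one, mul_inv_cancel]) h)

theorem pow_of_rels {gs : List G} {w : List ℕ} {n : ℕ}
    (h : Rels (ext gs [w]) [(List.replicate n (2 * gs.length), [])]) : wordG gs w ^ n = 1 := by
  simpa [Rels, wordG, PG.ext, letG] using h

theorem mem_ker_of_eq {a b : Γ} (h : τ a = τ b) : b⁻¹ * a ∈ τ.ker := by simp [MonoidHom.mem_ker, h]

theorem exists_of_isConj (hs : Function.Surjective τ) {b : Γ} {u : G} (h : IsConj (τ b) u) {n : ℕ} (hb : b ^ n = 1) :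
    ∃ a, τ a = u ∧ a ^ n = 1 := by
  obtain ⟨g, rfl⟩ := isConj_iff.1 h
  obtain ⟨g, rfl⟩ := hs g
  exact ⟨g * b * g⁻¹, by simp, by rw [conj_pow, hb, mul_one, mul_inv_cancel]⟩

section
variable (hc : τ.ker ≤ center Γ)
include hc

theorem comm {z : Γ} (hz : z ∈ τ.ker) (g : Γ) : Commute g z := mem_center_iff.1 (hc hz) g

theorem conj_eq {z : Γ} (hz : z ∈ τ.ker) (g : Γ) : g * z * g⁻¹ = z := by rw [comm hc hz g, mul_inv_cancel_right]

theorem exists_pow {a b : Γ} (h : τ a = τ b) : ∃ z ∈ τ.ker, a = b * z ∧ ∀ n : ℕ, a ^ n = b ^ n * z ^ n :=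
  ⟨_, mem_ker_of_eq h, (mul_inv_cancel_left _ _).symm, fun n => by
    rw [← (comm hc (mem_ker_of_eq h) b).mul_pow, mul_inv_cancel_left]⟩

/-- lifts whose order is prime to the order of the kernel are unique -/
theorem eq_of_pow {a b : Γ} (h : τ a = τ b) {n : ℕ} (ha : a ^ n = 1) (hb : b ^ n = 1)
    (hn : ∀ z ∈ τ.ker, z ^ n = 1 → z = 1) : a = b := by
  obtain ⟨z, hz, e, e'⟩ := exists_pow hc h
  rw [e, hn z hz (by simpa [ha, hb] using (e' n).symm), mul_one]

theorem pow_of_isConj (hs : Function.Surjective τ) {a b : Γ} (h : IsConj (τ b) (τ a)) {n : ℕ} (hb : b ^ n = 1) :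
    ∃ z ∈ τ.ker, ∀ m, a ^ (n * m) = z ^ (n * m) := by
  obtain ⟨c, e, hc'⟩ := exists_of_isConj hs h hb
  obtain ⟨z, hz, -, e'⟩ := exists_pow hc e.symm
  exact ⟨z, hz, fun m => by rw [e', pow_mul, hc', one_pow, one_mul]⟩

theorem sq_of_isConj (hs : Function.Surjective τ) (h8 : ∀ z ∈ τ.ker, z ^ 8 = 1 → z ^ 2 = 1) {a b : Γ}
    (h : IsConj (τ b) (τ a)) (hb : b ^ 2 = 1) (ha : a ^ 8 = 1) : a ^ 2 = 1 := by
  obtain ⟨z, hz, e⟩ := pow_of_isConj hc hs h hb
  exact (e 1).trans (h8 z hz ((e 4).symm.trans ha))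

theorem comm_pow {a b : Γ} (h : Commute (τ a) (τ b)) (n : ℕ) : ⁅a ^ n, b⁆ = ⁅a, b⁆ ^ n := by
  have hz : ⁅a, b⁆ ∈ τ.ker := by rw [MonoidHom.mem_ker, map_commutatorElement, h.commutator_eq]
  rw [commutatorElement_def, mul_assoc, mul_assoc, ← mul_assoc b, ← inv_pow, ← conj_pow,
    show b * a⁻¹ * b⁻¹ = a⁻¹ * ⁅a, b⁆ by simp [commutatorElement_def, mul_assoc], (comm hc hz _).mul_pow, inv_pow,
    mul_inv_cancel_left]

theorem comm_pow_eq_one {a b : Γ} (h : Commute (τ a) (τ b)) {n : ℕ} (hn : τ a ^ n = 1) : ⁅a, b⁆ ^ n = 1 :=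
  (comm_pow hc h n).symm.trans (comm hc (MonoidHom.mem_ker.2 ((map_pow τ a n).trans hn)) b).symm.commutator_eq

/-- lifts of commuting elements of coprime orders commute -/
theorem commute_of_coprime {a b : Γ} (h : Commute (τ a) (τ b)) {m n : ℕ} (hm : τ a ^ m = 1) (hn : τ b ^ n = 1)
    (hmn : m.Coprime n) : Commute a b := by
  have h1 := comm_pow_eq_one hc h.symm hn
  rw [← commutatorElement_inv, inv_pow, inv_eq_one] at h1
  exact commutatorElement_eq_one_iff_commute.1 ((pow_eq_one_iff_of_coprime hmn).1 ⟨comm_pow_eq_one hc h hm, h1⟩)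

theorem commute_of_pow {a b : Γ} (h : Commute (τ a) (τ b)) {n : ℕ} (hn : τ a ^ n = 1)
    (hz : ∀ z ∈ τ.ker, z ^ n = 1 → z = 1) : Commute a b := commutatorElement_eq_one_iff_commute.1
  (hz _ (by rw [MonoidHom.mem_ker, map_commutatorElement, h.commutator_eq]) (comm_pow_eq_one hc h hn))

/-- a central power of an element that is inverted -/
theorem sq_of_inv {a g : Γ} (h : g * a * g⁻¹ = a⁻¹) {n : ℕ} (hn : τ a ^ n = 1) : (a ^ n) ^ 2 = 1 := by
  have := conj_eq hc (MonoidHom.mem_ker.2 ((map_pow τ a n).trans hn)) g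
  rw [← conj_pow, h, inv_pow] at this
  rw [pow_two, ← inv_eq_iff_mul_eq_one, this]

theorem commute_of_isConj (hs : Function.Surjective τ) (h8 : ∀ z ∈ τ.ker, z ^ 8 = 1 → z ^ 2 = 1) {a b c : Γ}
    (ha : a ^ 2 = 1) (hb : b ^ 2 = 1) (h : Commute (τ a) (τ b)) (hc' : c ^ 2 = 1) (e : IsConj (τ c) (τ (a * b))) :
    Commute a b := by
  have h1 : (a * b) ^ 2 = ⁅a, b⁆ := by
    rw [commutatorElement_def, inv_eq_of_mul_eq_one_right ((pow_two a).symm.trans ha),
      inv_eq_of_mul_eq_one_right ((pow_two b).symm.trans hb), pow_two, ← mul_assoc]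
  refine commutatorElement_eq_one_iff_commute.1 (h1 ▸ sq_of_isConj hc hs h8 e hc' ?_)
  rw [pow_mul _ 2 4, h1, pow_mul _ 2 2, comm_pow_eq_one hc h (by rw [← map_pow, ha, map_one]), one_pow]

theorem pow_of_sq {k b : Γ} (hb : b ^ 2 = 1) (h : τ (k * b) ^ 2 = 1) {n : ℕ} (hk : k ^ n = 1) : ((k * b) ^ 2) ^ n = 1 := by
  have hz : (k * b) ^ 2 ∈ τ.ker := (map_pow τ _ 2).trans h
  have h1 : b * k * b⁻¹ = k⁻¹ * (k * b) ^ 2 := by
    rw [inv_eq_of_mul_eq_one_right ((pow_two b).symm.trans hb), pow_two]; group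
  have h2 := congrArg (· ^ n) h1
  simpa only [conj_pow, (comm hc hz _).mul_pow, inv_pow, hk, mul_one, mul_inv_cancel, inv_one, one_mul, eq_comm] using h2

theorem mul_pow_four {v t : Γ} (hv : v ^ 4 = 1) (ht : t ^ 2 = 1) (h : Commute (τ t) (τ v)) : (v * t) ^ 4 = 1 := by
  have hz : ⁅t, v⁆ ∈ τ.ker := by rw [MonoidHom.mem_ker, map_commutatorElement, h.commutator_eq]
  have h1 : (v * t) ^ 2 = v ^ 2 * ⁅t, v⁆ := by
    rw [show (v * t) ^ 2 = v * (⁅t, v⁆ * v) * t ^ 2 by simp [commutatorElement_def, pow_two, mul_assoc], ← comm hc hz, ht,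
      mul_one, pow_two, mul_assoc]
  rw [pow_mul _ 2 2, h1, (comm hc hz _).mul_pow, ← pow_mul, hv, comm_pow_eq_one hc h (by rw [← map_pow, ht, map_one]),
    mul_one]

/-- a central extension of a tetrahedral group -/
theorem pow_of_tetra {y b : Γ} (hy : y ^ 3 = 1) (hb : b ^ 2 = 1) (h : τ (y * b) ^ 3 = 1) : ((y * b) ^ 3) ^ 4 = 1 := by
  have hz : (y * b) ^ 3 ∈ τ.ker := (map_pow τ _ 3).trans h
  have e : (y * b * y⁻¹ * (y⁻¹ * b * y)) ^ 2 = ((y * b) ^ 3) ^ 2 := by
    rw [show y * b * y⁻¹ * (y⁻¹ * b * y) = y * b * y * (y ^ 3)⁻¹ * b * y by group, hy, inv_one, mul_one,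
      show y * b * y * b * y = (y * b) ^ 3 * b⁻¹ by simp [pow_succ, mul_assoc], (comm hc hz _).symm.mul_pow, inv_pow, hb,
      inv_one, mul_one]
  rw [pow_mul _ 2 2, ← e]
  exact pow_of_sq hc (by simpa [hb] using conj_pow (i := 2) (a := y⁻¹) (b := b))
    (by rw [← map_pow, e, map_pow, hz, one_pow]) (by rw [conj_pow, hb, mul_one, mul_inv_cancel])

/-- lifts of odd order that are inverted by the same element -/
theorem eq_of_inv {a b g : Γ} (h : τ a = τ b) (ha : g * a * g⁻¹ = a⁻¹) (hb : g * b * g⁻¹ = b⁻¹) {n : ℕ}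
    (hn : n.Coprime 2) (ha' : a ^ n = 1) (hb' : b ^ n = 1) : a = b := by
  obtain ⟨z, hz, rfl, e⟩ := exists_pow hc h
  rw [mul_assoc, mul_assoc, ← comm hc hz, ← mul_assoc, ← mul_assoc, hb, mul_inv_rev, ← comm hc (inv_mem hz),
    mul_right_inj, eq_inv_iff_mul_eq_one, ← pow_two] at ha
  rw [(pow_eq_one_iff_of_coprime hn).1 ⟨by simpa [ha', hb'] using (e n).symm, ha⟩, mul_one]

/-- correcting a lift by a central element -/
theorem mul_pow_ker {z : Γ} (hz : z ∈ τ.ker) (a b : Γ) (n : ℕ) : (a * z * b) ^ n = (a * b) ^ n * z ^ n := by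
  rw [mul_assoc, ← comm hc hz, ← mul_assoc, (comm hc hz _).mul_pow]

end

/-- the derived group of the preimage of a subgroup -/
def der (τ : Γ →* G) (H : Subgroup G) : Subgroup Γ := ⁅H.comap τ, H.comap τ⁆

variable {H : Subgroup G} {S : Subgroup Γ}

theorem der_le : der τ H ≤ H.comap τ := commutator_le_self _

theorem exists_der (hs : Function.Surjective τ) (hp : H ≤ ⁅H, H⁆) {h : G} (hh : h ∈ H) : ∃ a ∈ der τ H, τ a = h := by
  have := hp hh
  rwa [← map_comap_eq_self_of_surjective hs H, ← map_commutator] at this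

theorem der_norm {g : Γ} (hg : τ g ∈ normalizer (H : Set G)) : g ∈ normalizer (der τ H : Set Γ) := by
  have h := mem_normalizer_iff_map_conj_eq.1 (le_normalizer_comap τ hg)
  rw [mem_normalizer_iff_map_conj_eq, der, map_commutator, h]

theorem der_disj (hs : Function.Surjective τ) (hc : τ.ker ≤ center Γ) (hH : HasCyclicSchurMultiplier H 1) :
    Disjoint (der τ H) τ.ker := disjoint_def.2 fun {a} h1 h2 => by
  have h := ker_inf_eq_bot_of_trivial hH (τ.subgroupComap H) (τ.subgroupComap_surjective_of_surjective H hs)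
    fun z hz => mem_center_iff.2 fun g => Subtype.ext (comm hc (congrArg Subtype.val hz) g.1)
  rw [der, ← map_subtype_commutator] at h1
  obtain ⟨b, hb, rfl⟩ := h1
  exact congrArg Subtype.val (mem_bot.1 (h ▸ (⟨Subtype.ext h2, hb⟩ : b ∈ (τ.subgroupComap H).ker ⊓ _)))

theorem sec_eq (h : Disjoint S τ.ker) {a b : Γ} (ha : a ∈ S) (hb : b ∈ S) (e : τ a = τ b) : a = b :=
  (inv_mul_eq_one.1 (disjoint_def.1 h (mul_mem (inv_mem hb) ha) (mem_ker_of_eq e))).symm

/-- extending a section by an element of prime order -/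
theorem sec_sup (h : Disjoint S τ.ker) {z : Γ} (hz : z ∈ normalizer (S : Set Γ)) {n : ℕ} (hn : n.Prime) (h1 : z ^ n ∈ S)
    (h2 : ∀ a ∈ S, τ a ≠ τ z) : Disjoint (S ⊔ zpowers z) τ.ker := disjoint_def.2 fun {a} ha hk => by
  obtain ⟨s, hs, _, ⟨k, rfl⟩, rfl⟩ : a ∈ (S : Set Γ) * (zpowers z : Set Γ) :=
    coe_mul_of_right_le_normalizer_left S _ (zpowers_le.2 hz) ▸ SetLike.mem_coe.2 ha
  refine disjoint_def.1 h (mul_mem hs ?_) hk
  by_cases e : (n : ℤ) ∣ k
  · obtain ⟨k, rfl⟩ := e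
    simpa only [zpow_mul, zpow_natCast] using zpow_mem h1 k
  · obtain ⟨u, v, e⟩ := (Nat.prime_iff_prime_int.1 hn).irreducible.coprime_iff_not_dvd.2 e
    refine absurd ?_ (h2 _ (mul_mem (zpow_mem h1 u) (zpow_mem (inv_mem hs) v)))
    rw [map_mul, map_zpow τ s⁻¹, map_inv, inv_eq_of_mul_eq_one_right (map_mul τ _ _ ▸ MonoidHom.mem_ker.1 hk),
      ← map_zpow, ← map_mul, ← zpow_natCast, ← zpow_mul, ← zpow_mul, ← zpow_add, mul_comm _ u, mul_comm _ v, e, zpow_one]

/-- a perfect stem extension whose kernel is as large as the multiplier has trivial multiplier -/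
theorem trivial_of_cover {A : Type*} [CommGroup A] (hA : HasSchurMultiplier G A) (hG : Group.IsPerfect G)
    (hτ : IsStemExtension τ) (hk : Nat.card A ≤ Nat.card τ.ker) : HasCyclicSchurMultiplier Γ 1 := by
  have := HasSM.finite_group hA
  have := finite_of_stem hτ
  have hΓ := perfect_of_stem hτ hG
  refine trivial_of_forall_stem fun Δ _ _ σ hσ => ?_
  obtain ⟨η, hη⟩ := exists_lift_of_perfect_cover hA hG hτ hk (MonoidHom.id G) (τ.comp σ) (hτ.1.comp hσ.1)
    (comp_ker_le_center (perfect_of_stem hσ hΓ) hσ.2.1 hτ.2.1)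
  exact ker_eq_bot_of_section hσ η (lift_unique_of_perfect hτ.2.1 hΓ _ _ hη)

section
variable {α : Type} [DecidableEq α] {edges : List (α × ℕ × α)} {extra : List (FreeGroup α)} (he : edges = [])
  (ix : α → ℕ) {gs : List (Spor.CoxPresented α edges extra)} (hg : ∀ a, gs.getD (ix a) 1 = PresentedGroup.of a)
  (k b : ℕ) (hb : ∀ r ∈ extra.take k, ∀ c ∈ PP.toPG ix r, c < 2 * b)

/-- lifts of the generators: the first `b` lie in a section, and the relators after the first `k` hold -/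
def Lifts (τ : Γ →* G) (gs : List G) (ix : α → ℕ) (R : List (FreeGroup α)) (b : ℕ) : Prop :=
  ∃ S : Subgroup Γ, Disjoint S τ.ker ∧ ∃ l l' : List Γ, (∀ g ∈ l, g ∈ S) ∧ l.length = b ∧ (l ++ l').map τ = gs ∧
    ∀ r ∈ R, FreeGroup.lift (fun a => (l ++ l').getD (ix a) 1) r = 1

include he hg hb

theorem ker_eq_bot_of_lifts {τ : Γ →* Spor.CoxPresented α edges extra} (hτ : IsStemExtension τ)
    (h : Lifts τ gs ix (extra.drop k) b) : τ.ker = ⊥ := by
  obtain ⟨S, hS, l, l', h1, rfl, h2, h3⟩ := h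
  subst he
  refine ker_eq_bot_of_section hτ (PP.coxHom ix (l ++ l') (Rels.nil _) fun r hr => ?_)
    (PresentedGroup.ext fun a => (congrArg τ (PP.coxHom_of ..)).trans (by
      rw [← List.getD_map _ 1 τ, h2, map_one, hg, MonoidHom.id_apply]))
  rcases List.mem_append.1 (List.take_append_drop k extra ▸ hr) with h | h
  · rw [← PP.wordG_toPG (PP.getD_lift ix _)]
    refine disjoint_def.1 hS (wordG_prefix (List.prefix_append l l') (hb r h) ▸ wordG_mem h1 _) ?_
    rw [MonoidHom.mem_ker, map_wordG, h2, PP.wordG_toPG (φ := PresentedGroup.mk _) hg]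
    exact PresentedGroup.one_of_mem (Or.inr hr)
  · exact h3 r h

/-- the multiplier of a presented group is trivial if the presentation lifts through all extensions by a central
group of prime order -/
theorem trivial_of_lifts [Finite (Spor.CoxPresented α edges extra)]
    (h : ∀ (Γ : Type) [Group Γ] (τ : Γ →* Spor.CoxPresented α edges extra), Function.Surjective τ → τ.ker ≤ center Γ →
      ∀ p : ℕ, p.Prime → (∀ z ∈ τ.ker, z ^ p = 1) → Lifts τ gs ix (extra.drop k) b) :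
    HasCyclicSchurMultiplier (Spor.CoxPresented α edges extra) 1 := trivial_of_forall_prime fun p hp _ Γ _ _ τ hτ e => by
  rw [ker_eq_bot_of_lifts he ix hg k b hb hτ (h Γ τ hτ.1 hτ.2.1 p hp fun z hz =>
    congrArg Subtype.val (e ▸ pow_card_eq_one' (x := (⟨z, hz⟩ : τ.ker)))), card_bot] at e
  exact hp.one_lt.ne e

theorem pbound_of_lifts {p : ℕ} (hp : p.Prime)
    (h : ∀ (Γ : Type) [Group Γ] [Finite Γ] (τ : Γ →* Spor.CoxPresented α edges extra), Function.Surjective τ →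
      τ.ker ≤ center Γ → (∀ z ∈ τ.ker, z ^ p = 1) → Lifts τ gs ix (extra.drop k) b) :
    Pc.PBound (Spor.CoxPresented α edges extra) p 0 := Pc.PBound.of_exponent hp fun Γ _ _ τ hτ h1 => by
  rw [ker_eq_bot_of_lifts he ix hg k b hb hτ (h Γ τ hτ.1 hτ.2.1 (by simpa using h1)), card_bot, pow_zero]

end

theorem h8_of_prime {p : ℕ} (hp : p.Prime) {z : Γ} (h : z ^ p = 1) {k : ℕ} (h8 : z ^ 2 ^ k = 1) : z ^ 2 = 1 := by
  rcases hp.eq_two_or_odd' with rfl | h2
  · exact h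
  · rw [(pow_eq_one_iff_of_coprime (Nat.Coprime.pow_right k h2.coprime_two_right)).1 ⟨h, h8⟩, one_pow]

end CL.Lift
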