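/-
Relations in the Thompson group that are used for its Schur multiplier.
-/
import Cfsg.Agent.Spor.ThN0
import Cfsg.Agent.Spor.ThCent
import Cfsg.Agent.Known.GT3D42P2

set_option autoImplicit false
set_option Elab.async false

namespace CL.ThMul

open CL.PG CL.ThM CL.ThRep Cfsg Cfsg.Spor Subgroup

/-- `x = (ac)^b` -/
def xW : List ℕ := [2, 0, 4, 2]
/-- `v = u^d` -/
def vW : List ℕ := [6, 14, 6]
/-- `w = u^(s^2)` -/
def wW : List ℕ := [11, 11, 14, 10, 10]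
/-- a conjugate of `u` in `3D4(2)` -/
def mW : List ℕ := [8, 11, 4, 6, 4, 10, 8, 6, 4, 6, 11, 8, 6, 4, 11, 8, 6, 11, 8]
/-- the element `v c v⁻¹` -/
def cW : List ℕ := [4, 2, 0, 2, 6, 4, 2, 6, 4, 6, 8, 6, 4, 2, 0, 6, 4, 2, 6]
/-- the element `(dw)^4` -/
def rW : List ℕ := [0, 4, 7, 4, 6, 10, 9, 7, 4, 6, 8, 11, 11, 11, 9, 7, 4, 6, 8, 10, 10]

/-- the relation `g y g⁻¹ = w` -/
def cjR (t : List ℕ × List ℕ × List ℕ) : List ℕ × List ℕ := (t.2.2 ++ t.1, t.2.1 ++ t.2.2)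

theorem cj_of {G : Type*} [Group G] {l : List G} {R : List (List ℕ × List ℕ × List ℕ)} (h : Rels l (R.map cjR)) :
    ∀ t ∈ R, IsConj (wordG l t.1) (wordG l t.2.1) := fun t ht => isConj_iff.2 ⟨wordG l t.2.2,
  mul_inv_eq_iff_eq_mul.2 (by simpa only [cjR, wordG_append] using h _ (List.mem_map_of_mem ht))⟩

theorem relN {R : List (List ℕ × List ℕ)} (h : ThO.chk R = true) (hb : ∀ r ∈ R, boundB 7 [r.1] = true ∧ boundB 7 [r.2] = true) :
    Rels gs R := fun r hr => by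
  obtain ⟨_, c⟩ := ThO.exists_ctx
  rw [← ThO.gT_w (hb r hr).1, ← ThO.gT_w (hb r hr).2, ← ThO.coe_w, ← ThO.coe_w, c.rels R h r hr]

/-- relations in `3D4(2)` -/
noncomputable def RL : List (List ℕ × List ℕ) := [([1], [0]), ([3], [2]), ([5], [4]), ([7], [6]), ([9], [8]), (invW xW, xW),
  ([4, 0], [0, 4]), ([6, 0], [0, 6]), ([8, 0], [0, 8]), ([10, 0], [0, 10]), (powW [10] 7, []), (powW [6, 8] 3, []),
  (powW [4, 6, 8, 4] 3, []), (xW ++ [0] ++ xW, [4]), ([8, 11, 8, 10], invW (powW [10] 3) ++ [8] ++ powW [10] 3),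
  ([10, 8, 11] ++ xW, [10] ++ ([8] ++ xW) ++ [11]), ([8, 11, 8, 10] ++ ([8] ++ xW), [11] ++ ([8] ++ xW) ++ [10])]

theorem relL : Rels gs RL := relN (by decide +kernel) (by decide +kernel)

/-- relations between `a, c, d, e` -/
noncomputable def RK : List (List ℕ × List ℕ) := [(powW [0] 2, []), (powW [4] 2, []), (powW [6] 2, []), (powW [8] 2, []),
  (powW [0, 4] 2, []), ([8, 4], [4, 8]), (powW [4, 6] 4, [0])]

theorem relK : Rels gs RK := relN (by decide +kernel) (by decide +kernel)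

/-- conjugate involutions in `3D4(2)` -/
noncomputable def CA : List (List ℕ × List ℕ × List ℕ) := [([0], [0, 4], [6, 4, 6, 2, 4, 0, 2]), ([0], xW, [6, 2, 4, 6, 2, 4, 0, 2]),
  ([0], [4], [2, 4, 0, 2]), ([8], [6], [8, 6]), ([8], [8] ++ xW, [6, 4, 6, 0, 2, 4, 6, 8, 6, 4, 6, 2, 4, 6]),
  ([8], powW mW 2, [6, 8, 6, 2, 4, 6, 0, 2, 4, 6]), ([8], rW, [8, 10, 10, 6, 8, 2, 4, 6, 0, 2, 4, 6]),
  ([8], cW, [8, 6, 2, 4, 6, 0, 2, 4, 6]), ([8], cW ++ xW, [6, 4, 6, 0, 2, 4, 6, 8, 4, 6, 2, 4, 6])]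

theorem relC : Rels gs (CA.map cjR) := relN (by decide +kernel) (by decide +kernel)

/-- relations that involve `b` or `t` -/
noncomputable def RT : List (List ℕ × List ℕ) := [(powW [12] 3, []), ([12, 0], [0, 12]), ([12, 2], [2, 12]), ([12, 4], [4, 12]),
  ([12, 6], [6, 12]), ([12, 8], [8, 12]), ([13, 10, 12], powW [10] 2), (powW [0] 2, []), (powW [2] 2, []), (powW [4] 2, []),
  (powW [6] 2, []), (powW [8] 2, []), (powW [0, 2] 3, []), (powW [2, 4] 3, []), (powW [2, 6] 2, []), (powW [2, 8] 2, []),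
  (powW ([6, 2] ++ [4, 8]) 8, []), ([2, 10], [10, 2])]

theorem relT : Rels gs RT := relN (by decide +kernel) (by decide +kernel)

/-- relations that involve `u` -/
noncomputable def RU : List (List ℕ × List ℕ) := [([14, 0], [0, 14]), ([15, 4, 14], [4]), ([15, 8, 14], [8]),
  ([15, 12, 14], [13]), ([15] ++ xW ++ [14], [8] ++ xW), ([15] ++ [10, 8, 11] ++ [14], [8, 11, 8, 10]),
  (powW [14, 10] 3, [0, 4]), (powW [14] 2, [0, 4]), (powW ([6, 8] ++ [15, 6, 14]) 2, []), (invW wW ++ [8] ++ wW, [8]),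
  (powW (powW [15, 11, 14, 10] 2) 2, [0, 4]), (powW (powW ([6] ++ wW) 2) 2, rW), (vW ++ [4] ++ invW vW, cW),
  ([14, 6, 15] ++ ([0] ++ (invW (vW ++ xW) ++ xW ++ (vW ++ xW))), [4, 6, 8, 4]),
  (invW (vW ++ xW) ++ xW ++ (vW ++ xW), [14] ++ vW ++ [8, 4]), (powW ([14] ++ vW ++ [8, 4]) 2, [])]

theorem relU : Rels gs RU := rels_of rho_inj (ws := []) (by decide +kernel)

/-- conjugates of `u` -/
noncomputable def CU : List (List ℕ × List ℕ × List ℕ) := [(mW, [14], [2, 0, 4, 2, 10, 14, 6, 10, 14]),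
  (powW [15, 11, 14, 10] 2, [14], [10, 10, 10, 15, 11, 11]), (powW ([6] ++ wW) 2, [14], [6, 4, 8, 11, 8, 6, 15, 10, 13, 6])]

theorem relD : Rels gs (CU.map cjR) := rels_of rho_inj (ws := []) (by decide +kernel)

theorem multL : HasCyclicSchurMultiplier ThO.L0 1 := by
  obtain ⟨f⟩ := Pc.GT3D42.iso
  obtain ⟨_, h⟩ := Pc.GT3D42.full Pc.GT3D42.input
  refine Pc.trivial_of_bounds [2, 3, 7, 13] ?_ 12 (by rw [Pc.GT3D42.card_LT]; norm_num)
  simp only [List.forall_mem_cons, List.not_mem_nil, false_imp_iff, implies_true, and_true]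
  exact ⟨⟨by norm_num, (Pc.GT3D42.P2.bound h).congr f⟩, ⟨by norm_num, Pc.GT3D42.bound3⟩, ⟨by norm_num, Pc.GT3D42.bound7⟩,
    by norm_num, .of_not_sq_dvd (by norm_num) (by rw [Pc.GT3D42.card_LT]; norm_num)⟩

theorem perfL : ThO.L0 ≤ ⁅ThO.L0, ThO.L0⁆ :=
  have := Pc.GT3D42.simple_LT
  (Subgroup.isPerfect_iff.1 (PG.isQuasisimple_of_simple Pc.GT3D42.card_LT (by norm_num)).1).ge

end CL.ThMul
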