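/-
The Schur multiplier of the Thompson group: its presentation lifts through every central extension.
-/
import Cfsg.Agent.Spor.ThMulA
import Cfsg.Agent.Spor.CentLift
import Cfsg.Agent.Known.AltCover

set_option autoImplicit false

namespace CL.ThMul

open CL.PG CL.ThM CL.ThRep CL.Lift Cfsg Cfsg.Spor Subgroup
open scoped commutatorElement

section general
variable {Γ G : Type*} [Group Γ] [Group G] {τ : Γ →* G}

theorem exists_lift (hs : Function.Surjective τ) {p n : ℕ} (hp : ∀ z ∈ τ.ker, z ^ p = 1) (h : p.Coprime n) {g : G}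
    (hg : g ^ n = 1) : ∃ a, τ a = g ∧ a ^ n = 1 := by
  obtain ⟨a, rfl⟩ := hs g
  obtain ⟨m, hm⟩ := exists_pow_eq_self_of_coprime (h.coprime_dvd_right (orderOf_dvd_of_pow_eq_one hg))
  exact ⟨(a ^ p) ^ m, by rw [map_pow, map_pow, hm], by
    rw [pow_right_comm, pow_right_comm a, hp _ ((map_pow τ a n).trans hg), one_pow]⟩

theorem rels_sec {S : Subgroup Γ} (hS : Disjoint S τ.ker) {l : List Γ} {R : List (List ℕ × List ℕ)} (h : Rels (l.map τ) R)
    {P : ℕ → Prop} (hP : ∀ c, P c → letG l c ∈ S) (hR : ∀ r ∈ R, (∀ c ∈ r.1, P c) ∧ ∀ c ∈ r.2, P c) : Rels l R :=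
  fun r hr => sec_eq hS (wordG_mem_of fun c hc => hP c ((hR r hr).1 c hc)) (wordG_mem_of fun c hc => hP c ((hR r hr).2 c hc))
    (by rw [map_wordG, map_wordG, h r hr])

theorem rels_map {l : List Γ} {R : List (List ℕ × List ℕ)} (h : Rels (l.map τ) R) :
    ∀ r ∈ R, τ (wordG l r.1) = τ (wordG l r.2) := fun r hr => by rw [map_wordG, map_wordG, h r hr]

theorem ev (A B C D E S T U : G) : letG [A, B, C, D, E, S, T, U] 0 = A ∧ letG [A, B, C, D, E, S, T, U] 1 = A⁻¹ ∧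
    letG [A, B, C, D, E, S, T, U] 2 = B ∧ letG [A, B, C, D, E, S, T, U] 3 = B⁻¹ ∧ letG [A, B, C, D, E, S, T, U] 4 = C ∧
    letG [A, B, C, D, E, S, T, U] 5 = C⁻¹ ∧ letG [A, B, C, D, E, S, T, U] 6 = D ∧ letG [A, B, C, D, E, S, T, U] 7 = D⁻¹ ∧
    letG [A, B, C, D, E, S, T, U] 8 = E ∧ letG [A, B, C, D, E, S, T, U] 9 = E⁻¹ ∧ letG [A, B, C, D, E, S, T, U] 10 = S ∧
    letG [A, B, C, D, E, S, T, U] 11 = S⁻¹ ∧ letG [A, B, C, D, E, S, T, U] 12 = T ∧ letG [A, B, C, D, E, S, T, U] 13 = T⁻¹ ∧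
    letG [A, B, C, D, E, S, T, U] 14 = U ∧ letG [A, B, C, D, E, S, T, U] 15 = U⁻¹ :=
  ⟨rfl, rfl, rfl, rfl, rfl, rfl, rfl, rfl, rfl, rfl, rfl, rfl, rfl, rfl, rfl, rfl⟩

theorem cm {a b : G} (h : a * b = b * a) : a⁻¹ * b⁻¹ * a * b = 1 := by rw [mul_assoc, h]; group

theorem cm' {a b : G} (h : a⁻¹ * (b * a) = b) : a⁻¹ * b⁻¹ * a * b = 1 := cm (inv_mul_eq_iff_eq_mul.1 h).symm

theorem r7 {X U V E C : G} (hX : X⁻¹ = X) (hE : E⁻¹ = E) (h6 : U⁻¹ * X * U = E * X) (h : (V * X)⁻¹ * X * (V * X) = U * V * (E * C)) :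
    U⁻¹ * X⁻¹ * U * X * E⁻¹ = 1 ∧ V⁻¹ * X⁻¹ * V * X * (U * E * X * V * E * C)⁻¹ = 1 := by
  refine ⟨by rw [hX, h6, mul_assoc E]; nth_rw 1 [← hX]; group, mul_inv_eq_one.2 ?_⟩
  rw [hX, mul_assoc U, ← h6, show U * (U⁻¹ * X * U) * V * E * C = X * (U * V * (E * C)) by group, ← h]
  group

theorem perf {A B C D E S T U : G} (hL : Rels [A, B, C, D, E, S, T, U] RL) (hK : Rels [A, B, C, D, E, S, T, U] RK)
    (hT : Rels [A, B, C, D, E, S, T, U] RT) (hU : Rels [A, B, C, D, E, S, T, U] RU) {K : Subgroup G}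
    (h : K = subW [A, B, C, D, E, S, T, U] ThC.lK) : K ≤ ⁅K, K⁆ := by
  have h1 := subW_le.1 h.ge
  simp only [RL, RK, RT, RU, Rels, List.forall_mem_cons, wordG_append, wordG_powW, wordG_invW, wordG_cons, wordG_nil, mul_one,
    ev] at hL hK hT hU h1
  obtain ⟨-, mC, mD, mE, mS, mT, mU, -⟩ := h1
  obtain ⟨-, -, iC, iD, iE, -, -, -, -, -, -, de, -, -, l1, -⟩ := hL
  obtain ⟨t3, -, -, -, -, -, st, -⟩ := hT
  obtain ⟨-, -, -, tu, -, -, us, uu, -⟩ := hU
  have m : ∀ {x y}, x ∈ K → y ∈ K → x⁻¹ * (y⁻¹ * (x * y)) ∈ ⁅K, K⁆ := fun hx hy => by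
    simpa only [commutatorElement_def, inv_inv, mul_assoc] using commutator_mem_commutator (inv_mem hx) (inv_mem hy)
  have n : ∀ {x g}, x ∈ ⁅K, K⁆ → g ∈ K → g * x * g⁻¹ ∈ ⁅K, K⁆ := fun hx hg => by
    simpa only [inv_inv, mul_inv_cancel_left, mul_assoc] using mul_mem hx (m (commutator_le_self K hx) (inv_mem hg))
  have nS : S ∈ ⁅K, K⁆ := by simpa [st, pow_two] using m mS mT
  have nE : E ∈ ⁅K, K⁆ := by
    have := m mE mS
    rwa [iE, l1, mul_mem_cancel_right (pow_mem nS 3), mul_mem_cancel_left (inv_mem (pow_mem nS 3))] at this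
  have nD : D ∈ ⁅K, K⁆ := by
    have := mul_mem nE (mul_mem (n nE mD) nE)
    rwa [iD, show E * (D * E * D * E) = D⁻¹ * (D * E) ^ 3 by simp [pow_succ, mul_assoc], de, mul_one, inv_mem_iff] at this
  have nU : U ∈ ⁅K, K⁆ := by
    have := mul_mem (mul_mem (n nS mU) (n nS (pow_mem mU 2))) (n nS (pow_mem mU 3))
    rwa [show U * S * U⁻¹ * (U ^ 2 * S * (U ^ 2)⁻¹) * (U ^ 3 * S * (U ^ 3)⁻¹) = (U * S) ^ 3 * (U ^ 2)⁻¹ * U⁻¹ by
      simp [pow_succ, mul_assoc], us, ← uu, mul_inv_cancel, one_mul, inv_mem_iff] at this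
  have nA : A ∈ ⁅K, K⁆ := by
    have := pow_mem (mul_mem (n nD mC) nD) 2
    rwa [iC, mul_assoc (C * D), ← pow_two, ← pow_mul, hK.2.2.2.2.2.2.1] at this
  rw [h, subW_le, ← h]
  simp only [List.forall_mem_cons, wordG_single, ev]
  refine ⟨nA, (mul_mem_cancel_left nA).1 (uu ▸ pow_mem nU 2), nD, nE, nS, ?_, nU, fun _ h => nomatch h⟩
  have := m mT mU
  rwa [tu, show T⁻¹ * T⁻¹ = (T ^ 3)⁻¹ * T by simp [pow_succ, mul_assoc], t3, inv_one, one_mul] at this

variable (hc : τ.ker ≤ center Γ)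
include hc

theorem inv2 (h2 : ∀ z ∈ τ.ker, z ^ 2 = 1 → z = 1) {a b : Γ} (ha : a ^ 2 = 1) (hb : b ^ 2 = 1) {n : ℕ}
    (h : τ ((a * b) ^ n) = 1) : (a * b) ^ n = 1 :=
  h2 _ h (sq_of_inv hc (g := a) (by
    rw [mul_inv_rev, inv_eq_of_mul_eq_one_right ((pow_two b).symm.trans hb), ← mul_assoc, ← pow_two, ha, one_mul])
    ((map_pow τ _ n).symm.trans h))

variable (hs : Function.Surjective τ)
include hs

theorem sq_conj (h2 : ∀ z ∈ τ.ker, z ^ 2 = 1) {a b : Γ} (h : IsConj (τ a) (τ b)) : IsConj (a ^ 2) (b ^ 2) := by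
  obtain ⟨g, hg⟩ := isConj_iff.1 h
  obtain ⟨g, rfl⟩ := hs g
  obtain ⟨z, hz, -, e⟩ := exists_pow hc (a := b) (b := g * a * g⁻¹) (by simp [hg])
  exact isConj_iff.2 ⟨g, by rw [e, h2 z hz, mul_one, conj_pow]⟩

theorem inj {A : Γ} (hA : ∀ g, Commute (τ g) (τ A) → Commute g A) {a b : Γ} (h1 : IsConj (τ A) (τ a)) (h2 : IsConj a b)
    (e : τ a = τ b) : a = b := by
  obtain ⟨g, hg⟩ := isConj_iff.1 h1
  obtain ⟨g, rfl⟩ := hs g
  obtain ⟨h, rfl⟩ := isConj_iff.1 h2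
  obtain ⟨z, hz, rfl, -⟩ := exists_pow hc (a := a) (b := g * A * g⁻¹) (by simp [hg])
  have h3 : Commute (g⁻¹ * h * g) A := hA _ (by
    simp only [map_mul, map_inv, show τ z = 1 from hz, mul_one] at e ⊢
    rw [Commute, SemiconjBy, show (τ g)⁻¹ * τ h * τ g * τ A = (τ g)⁻¹ * (τ h * (τ g * τ A * (τ g)⁻¹) * (τ h)⁻¹) * τ h * τ g by
      group, ← e]
    group)
  rw [eq_mul_inv_iff_mul_eq, mul_assoc, ← (comm hc hz h).eq, ← mul_assoc, ← mul_assoc, mul_left_inj,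
    show h * (g * A * g⁻¹) = g * (g⁻¹ * h * g * A) * g⁻¹ by group, h3.eq]
  group

/-- a central extension of odd exponent of a group `2-group . A₉` -/
theorem ker_inf [Finite Γ] {p : ℕ} (hp : p.Coprime 2) (he : ∀ z ∈ τ.ker, z ^ p = 1) (f : G →* alternatingGroup (Fin 9))
    (hf : Function.Surjective f) (hk : ∀ q ∈ f.ker, q ^ 2 ^ 9 = 1) : τ.ker ⊓ commutator Γ = ⊥ := by
  set H := (f.comp τ).ker
  have h1 : ∀ x ∈ H, x ^ 2 ^ 9 ∈ τ.ker := fun x hx => (map_pow τ x _).trans (hk _ hx)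
  obtain ⟨k, hk⟩ := IsPGroup.iff_card.1 (show IsPGroup 2 (H ⧸ center H) from fun q => ⟨9, by
    obtain ⟨x, rfl⟩ := QuotientGroup.mk_surjective q
    exact (QuotientGroup.eq_one_iff (x ^ 2 ^ 9)).2 (mem_center_iff.2 fun g => Subtype.ext (comm hc (h1 x x.2) g.1))⟩)
  let N : Subgroup Γ :=
    { carrier := {x | x ∈ H ∧ (x ^ 2 ^ k) ^ 2 ^ 9 = 1}
      one_mem' := ⟨one_mem _, by simp⟩
      inv_mem' := fun h => ⟨inv_mem h.1, by rw [inv_pow, inv_pow, h.2, inv_one]⟩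
      mul_mem' := fun {a b} ha hb => ⟨mul_mem ha.1 hb.1, by
        have h2 := (congrArg (· ^ 2 ^ 9) (map_mul (MonoidHom.transferCenterPow H) ⟨a, ha.1⟩ ⟨b, hb.1⟩)).trans
          (Commute.mul_pow (mul_comm' _ _) _)
        simpa only [coe_mul, coe_pow, MonoidHom.transferCenterPow_apply, show (center H).index = 2 ^ k from hk,
          ha.2, hb.2, mul_one] using congrArg (fun x : center H => (x : Γ)) h2⟩ }
  have : N.Normal := ⟨fun x hx g => ⟨Normal.conj_mem inferInstance x hx.1 g, by rw [conj_pow, conj_pow, hx.2]; group⟩⟩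
  have h3 : (2 ^ k * 2 ^ 9).Coprime p := (hp.symm.pow_left k).mul_left (hp.symm.pow_left 9)
  have h4 := Known.altExt_of_hom (σ := QuotientGroup.lift N (f.comp τ) fun x hx => hx.1)
    (QuotientGroup.lift_surjective_of_surjective _ (f.comp τ) (hf.comp hs) _) fun q hq => by
      obtain ⟨x, rfl⟩ := QuotientGroup.mk_surjective q
      have h5 : x ^ (2 ^ k * 2 ^ 9) ∈ τ.ker := by rw [mul_comm, pow_mul]; exact pow_mem (h1 x hq) _
      obtain ⟨m, hm⟩ := exists_pow_eq_self_of_coprime (h3.coprime_dvd_right (orderOf_dvd_of_pow_eq_one (he _ h5)))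
      have h6 := pow_mem h5 m
      rw [QuotientGroup.eq.2 (show x⁻¹ * (x ^ (2 ^ k * 2 ^ 9)) ^ m ∈ N from ⟨mul_mem (inv_mem hq) (pow_mem (pow_mem hq _) m),
        by rw [← pow_mul, (comm hc h6 _).mul_pow, pow_right_comm, hm, inv_pow, inv_mul_cancel]⟩)]
      refine mem_center_iff.2 fun g => ?_
      obtain ⟨g, rfl⟩ := QuotientGroup.mk_surjective g
      exact congrArg QuotientGroup.mk (comm hc h6 g).eq
  obtain ⟨ε, h5, h6⟩ := h4.exists_eps_of_disjoint (by simp) (h4.commute_of_card (by simp))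
  refine eq_bot_iff.2 fun z hz => ?_
  obtain ⟨n, hn⟩ := h6 (show (z : Γ ⧸ N) ∈ _ from ⟨Subtype.ext_iff.1 (congrArg f hz.1 |>.trans (map_one f)),
    Schur.map_commutator_of_surjective _ (QuotientGroup.mk'_surjective N) ▸ mem_map_of_mem _ hz.2⟩)
  have h7 : z ^ 2 ∈ N := (QuotientGroup.eq_one_iff _).1 (by
    rw [QuotientGroup.mk_pow, ← hn, ← zpow_natCast, ← zpow_mul, mul_comm, zpow_mul, zpow_natCast, h5, one_zpow])
  exact (pow_eq_one_iff_of_coprime (hp.symm.mul_left h3)).1 ⟨by rw [pow_mul, pow_mul]; exact h7.2, he z hz.1⟩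

end general

theorem two : Pc.PBound Th 2 0 := by
  refine pbound_of_lifts (edges := Th.edges) rfl ix (gs := gs) (fun x => by cases x <;> rfl) 20 6 (by decide +kernel) Nat.prime_two
    fun Γ _ _ τ hs hc h2 => ?_
  have hS := der_disj hs hc multL
  have co : ∀ n, Nat.Coprime 2 n → ∀ z ∈ τ.ker, z ^ n = 1 → z = 1 := fun n hn z hz h =>
    (pow_eq_one_iff_of_coprime hn).1 ⟨h2 z hz, h⟩
  have k : ∀ c, [c] ∈ ThL.lL → ∃ a ∈ der τ ThO.L0, τ a = letG gs c := fun c hc =>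
    wordG_single gs c ▸ exists_der hs perfL (mem_subW hc)
  obtain ⟨⟨A, mA, eA⟩, ⟨B, mB, eB⟩, ⟨C, mC, eC⟩, ⟨D, mD, eD⟩, ⟨E, mE, eE⟩, S, mS, eS⟩ := And.intro (k 0 (by decide))
    (And.intro (k 2 (by decide)) (And.intro (k 4 (by decide)) (And.intro (k 6 (by decide)) (And.intro (k 8 (by decide))
      (k 10 (by decide))))))
  obtain ⟨T, eT, t3⟩ := exists_lift hs h2 (n := 3) (by norm_num) (g := letG gs 12)
    (by simpa only [wordG_powW, wordG_single, wordG_nil] using relT _ List.mem_cons_self)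
  obtain ⟨U, eU, r10⟩ : ∃ U, τ U = letG gs 14 ∧ (U * S) ^ 3 = A * C := by
    obtain ⟨U, eU⟩ := hs (letG gs 14)
    have hz := mem_ker_of_eq (τ := τ) (a := (U * S) ^ 3) (b := A * C) (by
      simpa only [map_mul, map_pow, eA, eC, eS, eU, wordG_powW, wordG_cons, wordG_nil, mul_one] using
        relU (powW [14, 10] 3, [0, 4]) (by decide +kernel))
    refine ⟨U * ((A * C)⁻¹ * (U * S) ^ 3), by rw [map_mul, hz, eU, mul_one], ?_⟩
    rw [mul_pow_ker hc hz, pow_succ (_ * _ ^ 3) 2, h2 _ hz, one_mul, eq_comm, ← inv_mul_eq_one, ← mul_assoc, ← pow_two, h2 _ hz]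
  have hl : [A, B, C, D, E, S, T, U].map τ = gs := by simp only [List.map, eA, eB, eC, eD, eE, eS, eT, eU]; rfl
  have hP : ∀ c, c ∈ [0, 1, 2, 3, 4, 5, 6, 7, 8, 9, 10, 11] → letG [A, B, C, D, E, S, T, U] c ∈ der τ ThO.L0 := by
    simp only [List.forall_mem_cons, ev, inv_mem_iff, mA, mB, mC, mD, mE, mS, List.not_mem_nil, false_imp_iff, implies_true,
      and_true]
  have hL := rels_sec hS (hl ▸ relL) hP (by decide +kernel)
  have hC := cj_of (rels_sec hS (hl ▸ relC) hP (by decide +kernel))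
  have hT := rels_map (hl ▸ relT)
  have hU := rels_map (hl ▸ relU)
  have hD := cj_of (hl ▸ relD)
  simp only [RL, CA, RT, RU, CU, Rels, List.forall_mem_cons, List.not_mem_nil, false_imp_iff, implies_true, and_true,
    wordG_append, wordG_powW, wordG_invW, wordG_cons, wordG_nil, mul_one, ev, ← map_wordG] at hL hC hT hU hD
  have hx : wordG [A, B, C, D, E, S, T, U] xW = B⁻¹ * (A * C) * B := by simp [xW, ev, hL.2.1, mul_assoc]
  have hv : wordG [A, B, C, D, E, S, T, U] vW = D⁻¹ * U * D := by simp [vW, ev, hL.2.2.2.1, mul_assoc]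
  have hw : wordG [A, B, C, D, E, S, T, U] wW = (S ^ 2)⁻¹ * U * S ^ 2 := by simp [wW, ev, pow_two, mul_assoc]
  have hr : wordG [A, B, C, D, E, S, T, U] rW = A * C * (D⁻¹ * C * D) * ((D * E * S⁻¹)⁻¹ * C * (D * E * S⁻¹)) *
      ((D * E * S ^ 2)⁻¹ * C * (D * E * S ^ 2)) := by simp [rW, ev, pow_two, mul_assoc]
  refine ⟨_, hS, [A, B, C, D, E, S], [T, U], by simp [mA, mB, mC, mD, mE, mS], rfl, hl, ?_⟩
  simp only [Th.extra, List.drop, List.forall_mem_cons, List.not_mem_nil, false_imp_iff, implies_true, and_true, map_mul,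
    map_inv, map_pow, FreeGroup.lift_apply_of, ix, List.cons_append, List.nil_append, List.getD_cons_succ,
    List.getD_cons_zero, ← hx, ← hv, ← hw, ← hr]
  have hK := (subW_map τ [A, B, C, D, E, S, T, U] ThC.lK).trans ((congrArg (subW · _) hl).trans (ThC.cent_a card resW))
  generalize wordG [A, B, C, D, E, S, T, U] xW = X at *
  generalize wordG [A, B, C, D, E, S, T, U] vW = V at *
  generalize wordG [A, B, C, D, E, S, T, U] wW = W at *
  generalize wordG [A, B, C, D, E, S, T, U] rW = R at *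
  generalize wordG [A, B, C, D, E, S, T, U] mW = M at *
  generalize wordG [A, B, C, D, E, S, T, U] cW = F at *
  obtain ⟨iA, iB, iC, iD, iE, iX, ca, da, ea, sa, s7, de, cdec, xax, l1, l2, l3⟩ := hL
  obtain ⟨cAC, cX, cC, cD, cEX, cM, cR, cF, cFX⟩ := hC
  obtain ⟨t0, ta, tb, tc, td, te, st, a2, b2, c2, d2, e2, -⟩ := hT
  obtain ⟨ua, uc, ue, tu, u6, uj, -, u1, u5, u9, u11, u12, uf, u7, -⟩ := hU
  have tm : ∀ Y, τ (T * Y) = τ (Y * T) → τ (Y ^ 2) = τ 1 → Commute T Y := fun Y h1 h3 =>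
    commute_of_coprime hc (m := 3) (n := 2) (by simpa [commute_iff_eq] using h1) (by simpa using t0) (by simpa using h3) (by norm_num)
  have UA : Commute U A := by
    have h1 : Commute (τ (U * S)) (τ A) := by
      rw [map_mul]; exact Commute.mul_left (by simpa [commute_iff_eq] using ua) (by simpa [commute_iff_eq] using congrArg τ sa)
    have h3 := comm_pow hc h1 3
    rw [r10, ((Commute.refl A).mul_left ca).commutator_eq] at h3
    simpa using (commutatorElement_eq_one_iff_commute.1 (co 3 (by norm_num) _ (by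
      rw [MonoidHom.mem_ker, map_commutatorElement, h1.commutator_eq]) h3.symm)).mul_left (Commute.inv_left sa)
  have hA : ∀ g, Commute (τ g) (τ A) → Commute g A := fun g hg => by
    obtain ⟨g', h1, h3⟩ := hK.ge (show τ g ∈ _ from mem_centralizer_singleton_iff.2 (by rw [wordG_single, ← eA]; exact hg))
    obtain ⟨z, hz, rfl, -⟩ := exists_pow hc h3.symm
    refine Commute.mul_left (mem_centralizer_singleton_iff.1 ((subW_le.2 ?_ : _ ≤ centralizer {A}) h1)) (comm hc hz A).symm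
    simp only [List.forall_mem_cons, wordG_single, ev, mem_centralizer_singleton_iff]
    exact ⟨trivial, ca, da, ea, sa, tm A ta a2, UA, fun _ h => nomatch h⟩
  have cj : ∀ {a b : Γ} (g : Γ), IsConj a b → IsConj a (g⁻¹ * b * g) := fun g h => h.trans (isConj_iff.2 ⟨g⁻¹, by simp⟩)
  have cj' : ∀ {a b : Γ} (g : Γ), IsConj a b → IsConj a (g * b * g⁻¹) := fun g h => h.trans (isConj_iff.2 ⟨g, rfl⟩)
  have ae : IsConj (τ A) (τ E) := (τ.map_isConj (cj U cX)).trans (u6 ▸ τ.map_isConj cEX.symm)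
  have eq : ∀ {a b : Γ}, IsConj E a → IsConj E b → τ a = τ b → a = b := fun h1 h3 =>
    inj hc hs hA (ae.trans (τ.map_isConj h1)) (h1.symm.trans h3)
  have h1 : U⁻¹ * (S * (E * S⁻¹)) * U = E * (S⁻¹ * (E * S)) :=
    eq (cj U (mul_assoc S E _ ▸ cj' S (.refl E))) (l1 ▸ cj _ (.refl E)) uj
  have h3 : ∀ Y, U⁻¹ * (S * (E * S⁻¹) * Y) * U = E * (S⁻¹ * (E * S)) * (U⁻¹ * Y * U) := fun Y => by rw [← h1]; group
  have r6 : U⁻¹ * X * U = E * X := mul_left_cancel ((h3 X).symm.trans ((eq (cj U (l2 ▸ cj' S cEX)) (cj S cEX)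
    (by rw [h3, map_mul, u6, ← map_mul, l3])).trans l3.symm))
  have AE : IsConj E A := cEX.trans (r6 ▸ cj U cX).symm
  have sq : ∀ {a : Γ}, IsConj E a → a * a = 1 := fun h => by
    obtain ⟨g, rfl⟩ := isConj_iff.1 h
    rw [conj_mul, ← mul_eq_one_iff_eq_inv.2 iE.symm, mul_eq_one_iff_eq_inv.2 iE.symm, mul_one, mul_inv_cancel]
  have cU : IsConj E (U ^ 2) := cM.trans (sq_conj hc hs h2 hD.1)
  have r1 := eq cU (AE.trans cAC) u1
  have h4 : V * C * V⁻¹ = F := eq (cj' V (AE.trans cC)) cF uf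
  have h5 : IsConj E (A * ((V * X)⁻¹ * X * (V * X))) := by
    rw [show A * ((V * X)⁻¹ * X * (V * X)) = (V * X)⁻¹ * (V * (X * A * X⁻¹) * V⁻¹ * X) * (V * X) by group, iX, xax, h4]
    exact cj _ cFX
  have h6 : IsConj E (U * (D * U⁻¹)) := mul_assoc U D _ ▸ cj' U cD
  have h7 : (V * X)⁻¹ * X * (V * X) = U * V * (E * C) := by
    generalize (V * X)⁻¹ * X * (V * X) = Y at h5 u7 ⊢
    have h8 : ∀ P Q : Γ, IsConj E P → IsConj E Q → τ ((P * Q) ^ 3) = 1 → (P * Q) ^ 3 = 1 := fun P Q hP hQ h => by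
      have e : P * Q * P * (P * Q)⁻¹ * Q = (P * Q) ^ 3 := by
        rw [mul_inv_rev, inv_eq_of_mul_eq_one_right (sq hP), inv_eq_of_mul_eq_one_right (sq hQ)]
        simp only [pow_succ, pow_zero, one_mul, mul_assoc]
      rw [← e, eq (cj' _ hP) hQ (mul_right_cancel (b := τ Q) (by rw [← map_mul, e, h, ← map_mul, sq hQ, map_one])), sq hQ]
    have h9 := eq_of_pow hc u7 (h8 _ _ h6 h5 (by rw [map_pow, u7, ← map_pow, cdec, map_one])) cdec (co 3 (by norm_num))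
    refine mul_left_cancel (mul_left_cancel (h9.trans (Eq.symm ?_)))
    rw [hv, show U * (D * U⁻¹) * (A * (U * (D⁻¹ * U * D) * (E * C))) = U * (D * (U⁻¹ * (A * U)) * D⁻¹) * U * (D * (E * C)) by
      group, ← UA.eq, inv_mul_cancel_left, da, mul_inv_cancel_right, UA.eq, mul_assoc A, ← pow_two, r1, ← mul_assoc A, sq AE,
      one_mul]
  have cs : ∀ {g Y : Γ}, IsConj E Y → τ (g⁻¹ * (Y * g)) = τ Y → g⁻¹ * (Y * g) = Y := fun {g Y} h =>
    eq (mul_assoc g⁻¹ Y g ▸ cj g h) h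
  have h8 : (U⁻¹ * (D * U)) ^ 2 = 1 := (pow_two _).trans (sq (mul_assoc U⁻¹ D U ▸ cj U cD))
  refine ⟨t3, cm (tm A ta a2), cm (tm B tb b2), cm (tm C tc c2), cm (tm D td d2), cm (tm E te e2), mul_inv_eq_one.2 ?_,
    mul_inv_eq_one.2 r1, cm UA, cm' (cs (AE.trans cC) uc), cm' (cs (.refl E) ue), ?_, (r7 iX iE r6 h7).1, (r7 iX iE r6 h7).2,
    mul_inv_eq_one.2 ?_, cm (inv_mul_eq_iff_eq_mul.1 (cs (.refl E) (mul_assoc W⁻¹ E W ▸ u9))), mul_inv_eq_one.2 r10.symm,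
    mul_inv_eq_one.2 ?_, mul_inv_eq_one.2 ?_⟩
  · refine eq_of_pow hc (mul_assoc T⁻¹ S T ▸ st) ?_ (by rw [pow_right_comm, s7, one_pow]) (co 7 (by norm_num))
    simpa [s7] using conj_pow (i := 7) (a := T⁻¹) (b := S)
  · rw [mul_assoc U⁻¹]
    exact co 3 (by norm_num) _ (u5.trans (map_one τ)) (pow_of_sq hc h8 (by simpa using u5) de)
  · refine eq_of_pow hc (mul_assoc U⁻¹ T U ▸ tu) ?_ (by rw [inv_pow, t3, inv_one]) (co 3 (by norm_num))
    simpa [t3] using conj_pow (i := 3) (a := U⁻¹) (b := T)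
  · simpa only [← pow_mul, mul_assoc] using (eq (cU.trans (sq_conj hc hs h2 hD.2.1.symm)) (AE.trans cAC) u11).symm
  · simpa only [← pow_mul] using eq (cU.trans (sq_conj hc hs h2 hD.2.2.symm)) cR u12

theorem odd {p : ℕ} (hp : p.Prime) (h2 : p.Coprime 2) : Pc.PBound Th p 0 := by
  refine pbound_of_lifts (edges := Th.edges) rfl ix (gs := gs) (fun x => by cases x <;> rfl) 0 0 (by simp) hp
    fun Γ _ _ τ hs hc he => ?_
  have co : ∀ z ∈ τ.ker, z ^ 2 = 1 → z = 1 := fun z hz h => (pow_eq_one_iff_of_coprime h2).1 ⟨he z hz, h⟩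
  have hS : Disjoint (der τ ThC.K) τ.ker := disjoint_def.2 fun {x} h1 h3 => by
    obtain ⟨-, f, hf, hk⟩ := ThC.quo card resW
    have h := ker_inf (τ := τ.subgroupComap ThC.K) (fun z hz => mem_center_iff.2 fun g =>
      Subtype.ext (comm hc (congrArg Subtype.val hz) g.1)) (τ.subgroupComap_surjective_of_surjective _ hs) h2
      (fun z hz => Subtype.ext (he _ (congrArg Subtype.val hz))) f hf fun q hq => Subtype.ext (by
        simpa [(ThC.Q_spec card resW).1] using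
          congrArg Subtype.val (pow_card_eq_one' (x := (⟨q, mem_subgroupOf.1 (hk ▸ hq)⟩ : ThC.Q))))
    rw [der, ← map_subtype_commutator] at h1
    obtain ⟨y, hy, rfl⟩ := h1
    exact congrArg Subtype.val (mem_bot.1 (h ▸ (⟨Subtype.ext h3, hy⟩ : y ∈ (τ.subgroupComap ThC.K).ker ⊓ _)))
  have k : ∀ c, [c] ∈ ThC.lK → ∃ a ∈ der τ ThC.K, τ a = letG gs c := fun c hc =>
    wordG_single gs c ▸ exists_der hs (perf relL relK relT relU rfl) (mem_subW hc)
  obtain ⟨⟨A, mA, eA⟩, ⟨C, mC, eC⟩, ⟨D, mD, eD⟩, ⟨E, mE, eE⟩, ⟨S, mS, eS⟩, ⟨T, mT, eT⟩, U, mU, eU⟩ :=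
    And.intro (k 0 (by decide)) (And.intro (k 4 (by decide)) (And.intro (k 6 (by decide)) (And.intro (k 8 (by decide))
      (And.intro (k 10 (by decide)) (And.intro (k 12 (by decide)) (k 14 (by decide)))))))
  obtain ⟨B, eB, b2⟩ := exists_lift hs he h2 (g := letG gs 2)
    (by simpa only [wordG_powW, wordG_single, wordG_nil] using relT (powW [2] 2, []) (by decide +kernel))
  have hl : [A, B, C, D, E, S, T, U].map τ = gs := by simp only [List.map, eA, eB, eC, eD, eE, eS, eT, eU]; rfl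
  have hP : ∀ c, c ∈ [0, 1, 4, 5, 6, 7, 8, 9, 10, 11, 12, 13, 14, 15] → letG [A, B, C, D, E, S, T, U] c ∈ der τ ThC.K := by
    simp only [List.forall_mem_cons, ev, inv_mem_iff, mA, mC, mD, mE, mS, mT, mU, List.not_mem_nil, false_imp_iff,
      implies_true, and_true]
  refine ⟨_, hS, [], [A, B, C, D, E, S, T, U], by simp, rfl, hl, fun r hr => ?_⟩
  rcases (by decide +kernel : ∀ r ∈ Th.extra, (∀ c ∈ PP.toPG ix r, c ∈ [0, 1, 4, 5, 6, 7, 8, 9, 10, 11, 12, 13, 14, 15]) ∨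
    r ∈ [1, 5, 7, 8, 9, 13, 16, 22, 32, 33].map (Th.extra.getD · 1)) r hr with h | h
  · rw [← PP.wordG_toPG (PP.getD_lift ix _)]
    refine disjoint_def.1 hS (wordG_mem_of fun c hc => hP c (h c hc)) ?_
    rw [MonoidHom.mem_ker, map_wordG, List.nil_append, hl, wordG_mk]
    exact PresentedGroup.one_of_mem (Or.inr hr)
  have hK := rels_sec hS (hl ▸ relK.append (relU.mono (R' := [(powW ([14] ++ vW ++ [8, 4]) 2, [])]) (by decide +kernel)))
    hP (by decide +kernel)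
  have hT := rels_map (hl ▸ relT)
  have hU := rels_map (hl ▸ relU)
  simp only [RK, RT, RU, Rels, List.forall_mem_append, List.forall_mem_cons, List.not_mem_nil, false_imp_iff, implies_true,
    and_true, wordG_append, wordG_powW, wordG_invW, wordG_cons, wordG_nil, mul_one, ev, map_one] at hK hT hU
  obtain ⟨⟨a2, c2, d2, e2, ac, ec, -⟩, y2⟩ := hK
  obtain ⟨-, -, tb, -, -, -, -, -, -, -, -, -, ab, bc, bd, be, h8, bs⟩ := hT
  obtain ⟨-, -, -, -, u6, -, -, -, -, -, -, -, -, -, u7, -⟩ := hU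
  have iv : ∀ {Y : Γ}, Y ^ 2 = 1 → Y⁻¹ = Y := fun h => inv_eq_of_mul_eq_one_right ((pow_two _).symm.trans h)
  have cm2 : ∀ {Y Z : Γ}, Y ^ 2 = 1 → Z ^ 2 = 1 → (Y * Z) ^ 2 = 1 → Commute Z Y := fun h1 h3 h4 => by
    rw [commute_iff_eq, ← iv h4, mul_inv_rev, iv h1, iv h3]
  have bd := inv2 hc co b2 d2 bd
  have be := inv2 hc co b2 e2 be
  have hx : wordG [A, B, C, D, E, S, T, U] xW = B⁻¹ * (A * C) * B := by simp [xW, ev, iv b2, mul_assoc]
  have hv : wordG [A, B, C, D, E, S, T, U] vW = D⁻¹ * U * D := by simp [vW, ev, iv d2, mul_assoc]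
  have cj : ∀ (g : Γ) {Y : Γ}, Y ^ 2 = 1 → (g⁻¹ * Y * g) ^ 2 = 1 := fun g Y h => by
    simpa [h] using conj_pow (i := 2) (a := g⁻¹) (b := Y)
  have x2 := hx ▸ cj B ac
  clear hr
  revert r
  simp only [Th.extra, List.map, List.forall_mem_cons, List.not_mem_nil, false_imp_iff, implies_true, and_true, map_mul,
    map_inv, map_pow, FreeGroup.lift_apply_of, ix, List.nil_append, List.getD_cons_succ, List.getD_cons_zero, ← hx, ← hv]
  generalize wordG [A, B, C, D, E, S, T, U] xW = X at *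
  generalize wordG [A, B, C, D, E, S, T, U] vW = V at *
  have h7 := r7 (iv x2) (iv e2) (eq_mul_inv_iff_mul_eq.2 (eq_of_pow hc (b := E) (n := 2) (by
    rw [map_mul, u6, ← map_mul, mul_assoc, ← pow_two, x2, mul_one]) (inv2 hc co (cj U x2) x2 (by
      rw [map_pow, map_mul, u6, ← map_mul, mul_assoc, ← pow_two, x2, mul_one, ← map_pow, e2, map_one])) e2 co) |>.trans
    (by rw [iv x2])) (eq_of_pow hc u7 (cj _ x2) y2 co)
  refine ⟨b2, inv2 hc co a2 b2 ab, inv2 hc co b2 c2 bc, bd, be, ?_,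
    cm (commute_of_pow hc (by simpa [commute_iff_eq] using bs) (by rw [← map_pow, b2, map_one]) co).symm,
    cm (commute_of_pow hc (by simpa [commute_iff_eq] using tb.symm) (by rw [← map_pow, b2, map_one]) co).symm, h7⟩
  have h9 := inv2 hc co ((cm2 b2 d2 bd).eq ▸ bd) (by rw [(show Commute C E from ec.symm).mul_pow, c2, e2, mul_one]) h8
  rw [show B * C * D * E = (D * E)⁻¹ * (D * (E * B) * C * E⁻¹ * E) * (D * E)⁻¹⁻¹ by group, (cm2 b2 e2 be).eq, mul_assoc D,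
    mul_assoc B, ec, inv_mul_cancel_right, ← mul_assoc D, conj_pow, h9, mul_one, mul_inv_cancel]

theorem mult : HasCyclicSchurMultiplier Th 1 := by
  refine Pc.trivial_of_bounds [2, 3, 5, 7, 13, 19, 31] ?_ 15 (by rw [card]; norm_num)
  simp only [List.forall_mem_cons, List.not_mem_nil, false_imp_iff, implies_true, and_true]
  exact ⟨⟨by norm_num, two⟩, ⟨by norm_num, odd (by norm_num) (by norm_num)⟩, ⟨by norm_num, odd (by norm_num) (by norm_num)⟩,
    ⟨by norm_num, odd (by norm_num) (by norm_num)⟩, ⟨by norm_num, odd (by norm_num) (by norm_num)⟩,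
    ⟨by norm_num, odd (by norm_num) (by norm_num)⟩, by norm_num, odd (by norm_num) (by norm_num)⟩

end CL.ThMul
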