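/-
A standard permutation model (SU, dimension 4, field with 4 elements): degree 45, order 25920.
Generated by tools/pg.
-/
import Cfsg.Agent.Spor.PGCls
import Cfsg.Agent.Spor.PGCtx

set_option autoImplicit false
set_option maxRecDepth 200000
set_option Elab.async false
set_option linter.unusedVariables false

namespace CL.Std.SU42.M
open CL.PG

def P : Par := ⟨135, 160, 8, 3⟩
theorem hP : P.Ok := by decide
noncomputable def a0 : Net := (.cons 80 (nat_lit 0x36c10000000000000000)
 (.cons 40 (nat_lit 0x37e910000000000000006c18000000)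
 (.cons 20 (nat_lit 0x24932000002b11400000709c40000010450)
 (.cons 10 (nat_lit 0x180008800176003b200362003260000a00324)
 (.cons 5 (nat_lit 0x1d00010068100600000810078180081202008)
 (.cons 1 (nat_lit 0x1000a00002008000080000002000004)
 (.cons 1 (nat_lit 0xa0000a00940101405280050000001400000a)
 (.cons 1 (nat_lit 0x100400004014a02808021000290010148028005)
 (.cons 1 (nat_lit 0x210a0004a4094210140528085200a009485214a)
 (.cons 1 (nat_lit 0x140401001080a0284a028021090810142128004)
 (.cons 5 (nat_lit 0x1c00010068100200000810058180001202008)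
 (.cons 10 (nat_lit 0x180008800036003b200362003260000a00320)
 (.cons 20 (nat_lit 0x24932000002b11400000709c40000010450)
 (.cons 40 (nat_lit 0x37e910000000000000006c18000000)
 (.cons 80 (nat_lit 0x36c10000000000000000)
 .nil)))))))))))))))
noncomputable def a1 : Net := (.cons 80 (nat_lit 0x43a12369d2b4c843c102)
 (.cons 40 (nat_lit 0x806a8344000000000005d12700850)
 (.cons 20 (nat_lit 0x35d5000000b4ec000000e85600000060000)
 (.cons 10 (nat_lit 0x2c800088002080029000244000c40001200102)
 (.cons 5 (nat_lit 0x780a050100180a0101900012050060701902410)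
 (.cons 1 (nat_lit 0x40000000000000002500001280010000000000)
 (.cons 1 (nat_lit 0x5284002940028000014a0000a5004a5000000000)
 (.cons 1 (nat_lit 0x290a401080010842008520405280a42140401000)
 (.cons 1 (nat_lit 0x5284202940428424214a1080a5004a5290200800)
 (.cons 1 (nat_lit 0x400000004840102520421280050140421021)
 (.cons 5 (nat_lit 0x100004010008000600800012040060701802000)
 (.cons 10 (nat_lit 0x28800080002480029000244000c40001200102)
 (.cons 20 (nat_lit 0x35d5000000b46c000000a85200000060000)
 (.cons 40 (nat_lit 0xa06a9700000000000005d12700850)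
 (.cons 80 (nat_lit 0x43a12369d2b4c843c000)
 .nil)))))))))))))))
noncomputable def a2 : Net := (.cons 80 (nat_lit 0x7e100000000000000000)
 (.cons 40 (nat_lit 0x7ff18000000000000000e188000000)
 (.cons 20 (nat_lit 0x7020000007e1c000000e1c0000000841c0)
 (.cons 10 (nat_lit 0x23000058001c000038000000023c00010001ca)
 (.cons 5 (nat_lit 0x58080101c048040280403000010030000f02018)
 (.cons 1 (nat_lit 0x2800001000000000000400000000200000000001)
 (.cons 1 (nat_lit 0x5280002800000000000a009401014a000000014a)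
 (.cons 1 (nat_lit 0x294a0014802902000025214802908401400280a5)
 (.cons 1 (nat_lit 0x5284012908508401014a409401294a008005014a)
 (.cons 1 (nat_lit 0x280a001004290200142420000290050140028401)
 (.cons 5 (nat_lit 0x580801000048040280403000010100000002010)
 (.cons 10 (nat_lit 0x23000058001c000038000000023c00000001ca)
 (.cons 20 (nat_lit 0x7020000007e1c000000e1c0000000841c0)
 (.cons 40 (nat_lit 0x7ff18000000000000000e188000000)
 (.cons 80 (nat_lit 0x7e100000000000000000)
 .nil)))))))))))))))
noncomputable def a3 : Net := (.cons 80 (nat_lit 0x15624453d02af0406444)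
 (.cons 40 (nat_lit 0x4108cc6c000000000000b162e242a0)
 (.cons 20 (nat_lit 0x7940000007c88000000d0c000000068010)
 (.cons 10 (nat_lit 0x30800314002e4002a8003a4002110008000010)
 (.cons 5 (nat_lit 0x300a00008018000200e004160080a0200404414)
 (.cons 1 (nat_lit 0x100000000000002000000000000000000000000)
 (.cons 1 (nat_lit 0x28000000010000500400000a00800000020000a)
 (.cons 1 (nat_lit 0x214200040528081280a000004094852900521004)
 (.cons 1 (nat_lit 0x528420080210842508424080a10902108024084a)
 (.cons 1 (nat_lit 0x210200040528081200a000020094a52900021004)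
 (.cons 5 (nat_lit 0x300200008000000200800012028020200404014)
 (.cons 10 (nat_lit 0x30800104000e400280003a4003080008000010)
 (.cons 20 (nat_lit 0x7940000007888000000d0c000000068010)
 (.cons 40 (nat_lit 0x4108cc6c000000000000b162e242a0)
 (.cons 80 (nat_lit 0x15624453d02af0406400)
 .nil)))))))))))))))
noncomputable def a4 : Net := (.cons 80 (nat_lit 0x1240cb7269280bc10000)
 (.cons 40 (nat_lit 0x3240c81b48000000000004bc230010)
 (.cons 20 (nat_lit 0x220000000600000000022820000000879c)
 (.cons 10 (nat_lit 0x208000490010400183000980005c0008000002)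
 (.cons 5 (nat_lit 0x500001804038040701a00012010140580400012)
 (.cons 1 (nat_lit 0x4010000000000000010000002000000)
 (.cons 1 (nat_lit 0x80a02802000000000002940001400014a)
 (.cons 1 (nat_lit 0x4000140521405214852008501481014a4000a5)
 (.cons 1 (nat_lit 0x28000280212802108424010202942009480014a)
 (.cons 1 (nat_lit 0x404010002100021485200a5010010142400400)
 (.cons 5 (nat_lit 0x500001006028040280804002000140000400000)
 (.cons 10 (nat_lit 0x2080009200104000c8002080005c0008000002)
 (.cons 20 (nat_lit 0x2200000006000000000228200000000694)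
 (.cons 40 (nat_lit 0x3240c81b48000000000004bc230010)
 (.cons 80 (nat_lit 0x1240cb7269280bc10000)
 .nil)))))))))))))))
noncomputable def a5 : Net := (.cons 80 (nat_lit 0x3361a1135999be0529d6)
 (.cons 40 (nat_lit 0x78182a0d29000000000032bd2430cb)
 (.cons 20 (nat_lit 0x478aa0000022568000007a895000006ac66)
 (.cons 10 (nat_lit 0x19a000c50031b0021f001e000350003bd00210)
 (.cons 5 (nat_lit 0x6c08000120000106c020200c04c110100801016)
 (.cons 1 (nat_lit 0x200040000001004200002000000)
 (.cons 1 (nat_lit 0x1000a40102021424080050802409420004a02800)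
 (.cons 1 (nat_lit 0x280a420485014842902429025290a50908521085)
 (.cons 1 (nat_lit 0x5084a1094200948120485284a5294a1090a52902)
 (.cons 1 (nat_lit 0x2842021480000012000028025280010948528004)
 (.cons 5 (nat_lit 0x480800010020020700602018000120301c0101e)
 (.cons 10 (nat_lit 0x108002800010a0029800362000920023000310)
 (.cons 20 (nat_lit 0x75f3a000003416000000b6870000002e9e2)
 (.cons 40 (nat_lit 0x79788b0a280000000000fea570d266)
 (.cons 80 (nat_lit 0x3361a121ec19457443d4)
 .nil)))))))))))))))
noncomputable def a6 : Net := (.cons 80 (nat_lit 0x625128e4223776c10915)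
 (.cons 40 (nat_lit 0x2b123cd16300000000005206200c66)
 (.cons 20 (nat_lit 0x898500000048d7600000ea4d200000b76a8)
 (.cons 10 (nat_lit 0x41002030000a000c60026d0031a00084001db)
 (.cons 5 (nat_lit 0x640105c050141c0401a03016000060241b0240e)
 (.cons 1 (nat_lit 0x100000080200000000000000240000000000)
 (.cons 1 (nat_lit 0xa120005004a10102500404004a0010000100)
 (.cons 1 (nat_lit 0x90a42940420084214852048128085080a120080)
 (.cons 1 (nat_lit 0x1204a508085294a5094a5090210102508425214a)
 (.cons 1 (nat_lit 0x210a00948008420214010808520000204a000405)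
 (.cons 5 (nat_lit 0x4000058000181a018040401200816020060580c)
 (.cons 10 (nat_lit 0x620033e0026000058002200017c000840009c)
 (.cons 20 (nat_lit 0x8185000000e872800000eb4d200000beed4)
 (.cons 40 (nat_lit 0xb523c6684000000000056aaf26e8e)
 (.cons 80 (nat_lit 0x6251288c89cce2db64fc)
 .nil)))))))))))))))
noncomputable def a7 : Net := (.cons 80 (nat_lit 0xd474640b0e9b817390e8)
 (.cons 40 (nat_lit 0x32a04cd2a10000000000837d26cbdc)
 (.cons 20 (nat_lit 0x7b312000008f3f600000df19000000ee27a)
 (.cons 10 (nat_lit 0x31600140002640021b00157001d10003400154)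
 (.cons 5 (nat_lit 0x281a068080240a0440a0480f06c0a0400104414)
 (.cons 1 (nat_lit 0x20080000002100000004000002000000)
 (.cons 1 (nat_lit 0x202840500000004200900508005014000100)
 (.cons 1 (nat_lit 0x1404210a1214802808401080214802008429080)
 (.cons 1 (nat_lit 0x4080852942508485210812948528405214250840)
 (.cons 1 (nat_lit 0x9400000a109481294a000485094a00102008024)
 (.cons 5 (nat_lit 0x281800002060000400a0481c0280a0000404014)
 (.cons 10 (nat_lit 0x1000028000278002b80013e0035000250000e4)
 (.cons 20 (nat_lit 0xfdf54000009e4f80000075b3000000e8ae6)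
 (.cons 40 (nat_lit 0xf2b008f280000000000081fd2419f6)
 (.cons 80 (nat_lit 0xd4746479deee78c10e04)
 .nil)))))))))))))))
noncomputable def a8 : Net := (.cons 80 (nat_lit 0xaa968000000000000000)
 (.cons 40 (nat_lit 0xfffff800000000000000f3d980c48e)
 (.cons 20 (nat_lit 0x19a880000033964000005c11f000005f454)
 (.cons 10 (nat_lit 0x2ec00066002c4002c000101000ce001c70025e)
 (.cons 5 (nat_lit 0x440a004160001a0400a02810078190780403c00)
 (.cons 1 (nat_lit 0x8020000000140100000000040000001000)
 (.cons 1 (nat_lit 0x5010052140000000280a000000210a0010042900)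
 (.cons 1 (nat_lit 0x2108521084000a00148408084214852008029484)
 (.cons 1 (nat_lit 0x50942509480004a5284a121021284a5004052948)
 (.cons 1 (nat_lit 0x1014a500020094a108401004a00042028024)
 (.cons 5 (nat_lit 0x401a0481e0001a0400201004008100600401802)
 (.cons 10 (nat_lit 0x3e400060002a0002400029800294001c200008)
 (.cons 20 (nat_lit 0x1a108000001916400000ab79000000526f2)
 (.cons 40 (nat_lit 0xfffff800000000000000f3d9923824)
 (.cons 80 (nat_lit 0xaa968000000000000000)
 .nil)))))))))))))))
noncomputable def a9 : Net := (.cons 80 (nat_lit 0x8001806661f8001e0600)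
 (.cons 40 (nat_lit 0x39900000000000000019e660000)
 (.cons 20 (nat_lit 0x800a000000f6fde00000000000000017800)
 (.cons 10 (nat_lit 0x20000340000940003f0006000380000f000220)
 (.cons 5 (nat_lit 0x8040020381e03c1e008040280a0281a02000)
 (.cons 1 (nat_lit 0x100020004000002100000000000040000420)
 (.cons 1 (nat_lit 0xa029400280042042000000004a0280002940)
 (.cons 1 (nat_lit 0x2421480010002108400000214a40140001080)
 (.cons 1 (nat_lit 0x14a129400294a10908008025284a0290842940)
 (.cons 1 (nat_lit 0x2120021294000840008080214a42840100420)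
 (.cons 5 (nat_lit 0x8040020080000000008040280a0280202000)
 (.cons 10 (nat_lit 0x2000034000114002400006000380000f000220)
 (.cons 20 (nat_lit 0x800a0000009084000000000000000017800)
 (.cons 40 (nat_lit 0x39900000000000000019e660000)
 (.cons 80 (nat_lit 0x8001806661f8001e0600)
 .nil)))))))))))))))
noncomputable def a10 : Net := (.cons 40 (nat_lit 0x400000000000000000009120000000)
 (.cons 20 (nat_lit 0x4000000000a800000000900030000068000)
 (.cons 10 (nat_lit 0x104003a0000000004e00243001ed00204)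
 (.cons 5 (nat_lit 0x1014050120500a060170080203c040401a)
 (.cons 1 (nat_lit 0x1400004012800501401084a50848)
 (.cons 1 (nat_lit 0x1004010a5010a029085280a0294a5294a4)
 (.cons 1 (nat_lit 0x80a0294a128421294a501401084a5284a)
 (.cons 1 (nat_lit 0x210842100501000000a400401000a001400)
 (.cons 5 (nat_lit 0x1014050120500a0600800802000040081a)
 (.cons 10 (nat_lit 0x3a0000000004e000000016c00040)
 (.cons 20 (nat_lit 0x4000000000a800000000000000000068000)
 (.cons 40 (nat_lit 0x400000000000000000009120000000)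
 .nil))))))))))))
noncomputable def a11 : Net := (.cons 80 (nat_lit 0x15624453d02af0406444)
 (.cons 40 (nat_lit 0x4108cc6c000000000000b162e242a0)
 (.cons 20 (nat_lit 0x7940000007c88000000d0c000000068010)
 (.cons 10 (nat_lit 0x30800314002e4002a8003a4002110008000010)
 (.cons 5 (nat_lit 0x300a00008018000200e004160080a0200404414)
 (.cons 1 (nat_lit 0x100000000000002000000000000000000000000)
 (.cons 1 (nat_lit 0x28000000010000500400000a00800000020000a)
 (.cons 1 (nat_lit 0x214200040528081280a000004094852900521004)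
 (.cons 1 (nat_lit 0x528420080210842508424080a10902108024084a)
 (.cons 1 (nat_lit 0x210200040528081200a000020094a52900021004)
 (.cons 5 (nat_lit 0x300200008000000200800012028020200404014)
 (.cons 10 (nat_lit 0x30800104000e400280003a4003080008000010)
 (.cons 20 (nat_lit 0x7940000007888000000d0c000000068010)
 (.cons 40 (nat_lit 0x4108cc6c000000000000b162e242a0)
 (.cons 80 (nat_lit 0x15624453d02af0406400)
 .nil)))))))))))))))
noncomputable def a12 : Net := (.cons 80 (nat_lit 0x2ce104532ff16c226ca8)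
 (.cons 40 (nat_lit 0x8a834402c00000000000085dab074a)
 (.cons 20 (nat_lit 0xc521000000f360000000d99c000000b0000)
 (.cons 10 (nat_lit 0x1a000008002a2002480023c002b90012600174)
 (.cons 5 (nat_lit 0x401406013038030140600016070060701e02810)
 (.cons 1 (nat_lit 0x800000001000010000000001000000000500080)
 (.cons 1 (nat_lit 0x508000290250102028000280a000000280a00140)
 (.cons 1 (nat_lit 0x214a001084200a421000014050000409085200a0)
 (.cons 1 (nat_lit 0x508404284a5204a428420284a520021284a5014a)
 (.cons 1 (nat_lit 0x80a0000a0204a12100000001000a40908521480)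
 (.cons 5 (nat_lit 0x400006008038180100000010010060701002810)
 (.cons 10 (nat_lit 0x1a000008002220024800214002380012600174)
 (.cons 20 (nat_lit 0xc521000000f360000000d99c000000b0000)
 (.cons 40 (nat_lit 0x8a834402c00000000000085daa0542)
 (.cons 80 (nat_lit 0x2ce104532ff164206c08)
 .nil)))))))))))))))
noncomputable def a13 : Net := (.cons 80 (nat_lit 0x2a049107857c0c302e44)
 (.cons 40 (nat_lit 0x8190eab8000000000000f8b9f666a0)
 (.cons 20 (nat_lit 0x90680000002988000000e386e00000bd024)
 (.cons 10 (nat_lit 0xcd000a0000a8002a8002ad00224003f200030)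
 (.cons 5 (nat_lit 0x18100400a01c100280e0040a0600a06c020201a)
 (.cons 1 (nat_lit 0x800000000000010000000001014010000000000)
 (.cons 1 (nat_lit 0x5000a028080014a000400280a028024080200148)
 (.cons 1 (nat_lit 0x214850100500084280a001004214842900400084)
 (.cons 1 (nat_lit 0x5084a028021094a520424290a4294a521080094a)
 (.cons 1 (nat_lit 0x8484010a500001284a00942421481004a408080)
 (.cons 5 (nat_lit 0x140400a0001002808020000600a0300200008)
 (.cons 10 (nat_lit 0x40000a0000a00028000152002000000000030)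
 (.cons 20 (nat_lit 0x90680000002988000000e386e00000b9060)
 (.cons 40 (nat_lit 0x8190eab8000000000000f8b9f666a0)
 (.cons 80 (nat_lit 0x2a049106947c0c302e00)
 .nil)))))))))))))))
noncomputable def a14 : Net := (.cons 80 (nat_lit 0x7f80000006600000)
 (.cons 40 (nat_lit 0x78007c00000000000000007f80000)
 (.cons 20 (nat_lit 0x8000000000f80000000087e00000007e600)
 (.cons 10 (nat_lit 0xc000f0002780002000007000f00013400200)
 (.cons 5 (nat_lit 0x50000400a07410028000280a028180280a04000)
 (.cons 1 (nat_lit 0x1200000002008080004000100000000)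
 (.cons 1 (nat_lit 0x28020000a5004a0014012142028001280002800)
 (.cons 1 (nat_lit 0x2100500005294a500080294a401400294a401400)
 (.cons 1 (nat_lit 0x428024000a5284a501405284a029081294a02800)
 (.cons 1 (nat_lit 0x20000000a12140001420290a528400010a400000)
 (.cons 5 (nat_lit 0x50000400a05010028000280a028000280a04000)
 (.cons 10 (nat_lit 0xc000f00027800020003f8000f00013400200)
 (.cons 20 (nat_lit 0x8000000000f80000000087e00000007e600)
 (.cons 40 (nat_lit 0x78007c00000000000000007f80000)
 (.cons 80 (nat_lit 0x7f80000006600000)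
 .nil)))))))))))))))
noncomputable def ns0 : List Net := [a0, a1, a2, a3, a4]
noncomputable def ws : List (List ℕ) :=
  [W (nat_lit 0xc070100901c06),
  W (nat_lit 0x80080901804),
  W (nat_lit 0x2c0b0340b0340c0340b),
  W (nat_lit 0xd0300e02c0d0340b0380c),
  W (nat_lit 0x340c0340c0340c),
  W (nat_lit 0x3c1104410),
  W (nat_lit 0x501204810),
  W (nat_lit 0x441304012),
  W (nat_lit 0x501104c0f04810),
  W (nat_lit 0x6019064180601a0701a)]
noncomputable def ns : List Net := [a0, a1, a2, a3, a4, a5, a6, a7, a8, a9, a10, a11, a12, a13, a14]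
noncomputable def D : List (ℕ × List ℕ) := app [] (mkDefs ws 5)
noncomputable def chk : List (List ℕ × List ℕ) → Bool := P.relsB ns
noncomputable def V : List ℕ :=
  [(nat_lit 0x49124490249124490249124490208209240000002489224812489224812489224810410492000000124491240924491240924491240820824900000000200803c00200803c00200803c71c7000),
  (nat_lit 0x701c07010701c07010701c0701041041c00000000e0380e080e0380e080e0380e08208203800000001c0701c401c0701c401c0701c410410070000000020080238020080238020080238e38e00),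
  (nat_lit 0x7fe0000007fe0000007fe0000007e00000000000001ff8000001ff8000001ff800001f8000000000000007fe0000007fe0000007fe00007e0000000000000001f80000001f80000001f80001ff),
  (nat_lit 0x7ffffffff80000000000000000000000000000000000000007ffffffff80000000000000000000000000000000000000007ffffffff80000000000000000000000000000000000000007ffffff)]
noncomputable def ms : List (List (List ℕ) × List (List ℕ)) :=
  [([[0, 0, 3, 0], [0, 1, 0, 0], [2, 0, 0, 0], [0, 0, 0, 1]],
   [[0, 0, 3, 0], [0, 1, 0, 0], [2, 0, 0, 0], [0, 0, 0, 1]]),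
  ([[0, 3, 3, 3], [2, 0, 1, 1], [2, 1, 0, 1], [2, 1, 1, 0]],
   [[0, 3, 3, 3], [2, 0, 1, 1], [2, 1, 0, 1], [2, 1, 1, 0]]),
  ([[1, 0, 0, 0], [0, 0, 1, 0], [0, 1, 0, 0], [0, 0, 0, 1]],
   [[1, 0, 0, 0], [0, 0, 1, 0], [0, 1, 0, 0], [0, 0, 0, 1]]),
  ([[0, 1, 1, 1], [1, 0, 1, 1], [1, 1, 0, 1], [1, 1, 1, 0]],
   [[0, 1, 1, 1], [1, 0, 1, 1], [1, 1, 0, 1], [1, 1, 1, 0]]),
  ([[0, 0, 0, 2], [0, 1, 0, 0], [0, 0, 1, 0], [3, 0, 0, 0]],
   [[0, 0, 0, 2], [0, 1, 0, 0], [0, 0, 1, 0], [3, 0, 0, 0]])]
noncomputable def G_v0 : Lev :=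
  ⟨0, 135, sg (W (nat_lit 0x340b0340b0340b0340b0340b0340b0340b)), [[14], [16], [18]], 2, 3⟩
noncomputable def G_v1 : Lev :=
  ⟨33, 12, sg (W (nat_lit 0xf0440f0440f)), [[20], [22], [24], [26]], 5, 4⟩
noncomputable def G_v2 : Lev :=
  ⟨1, 8, sg (W (nat_lit 0x1905c15)), [[28]], 9, 1⟩
noncomputable def G_v3 : Lev :=
  ⟨9, 2, sg [28], [], 10, 0⟩
noncomputable def G_vs4 : List Lev :=
  []
noncomputable def G_vs3 : List Lev :=
  G_v3 :: G_vs4
noncomputable def G_vs2 : List Lev :=
  G_v2 :: G_vs3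
noncomputable def G_vs1 : List Lev :=
  G_v1 :: G_vs2
noncomputable def G_vs : List Lev :=
  G_v0 :: G_vs1

theorem zv0 : vecB t4.q 2 4 P V = true := by decide +kernel
theorem zv1 : Nat.beq (lenL ms) (lenL ns0) = true := by decide +kernel
theorem zv2 : allL (t4.actB 2 4 P V) (zp Net.nil ms ns0) = true := by decide +kernel
theorem zv3 : t4.basB 4 P V [0, 1, 9, 27] [[2, 3, 2, 2], [2, 2, 2, 2], [0, 0, 1, 0], [0, 0, 0, 1]] = true := by decide +kernel
theorem zv4 : allL (t4.detB 4 1) ms = true := by decide +kernel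
theorem zv5 : allL (t4.uniB 4 2) ms = true := by decide +kernel
theorem zc6 : P.chainB ns D G_vs [[10], [12]] = true := by decide +kernel
theorem zk7 : allL (keepB P.n P.N) ns0 = true := by decide +kernel
theorem ze8 : extB ns0 ns 5 ws [] = true := by decide +kernel
theorem zn9 : P.netsB ns (mkDefs ws 5) = true := by decide +kernel

section
variable {G X : Type*} [Group G] [MulAction G X] {e : ℕ → X} {gs : List G}

theorem keep0 : allL (keepB P.n P.N) ns0 = true := zk7

theorem len {k} (c : Ctx P e gs ns0 [] k) : gs.length = 5 := c.len ze8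

theorem ctx0 {k} (c : Ctx P e gs ns0 [] k) : Ctx P e (ext gs ws) ns D chk0 :=
  c.ext rfl ze8 zn9

theorem ctx {k} (c : Ctx P e gs ns0 [] k) {H : Subgroup G} (hF : Faithful e P.n H) (hH : ∀ g ∈ gs, g ∈ H) :
    Ctx P e (ext gs ws) ns D chk :=
  (ctx0 c).withB hF (mem_of_mem_ext hH _)

theorem hV : vecB t4.q 2 4 P V = true := zv0
theorem hact : allL (t4.actB 2 4 P V) (zp Net.nil ms ns0) = true := zv2
theorem hinv : allL (t4.invB 4) ms = true := actB_invB hact
theorem base {F : Type*} [Field F] {el : ℕ → F} (h : FC t4 el) : Ctx P (vecOf el (Fin.val : Fin 4 → ℕ) t4.q P.N V) (List.map (glF el (Fin.val : Fin 4 → ℕ)) ms) ns0 [] chk0 :=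
  ctx_mat h (ix_fin 4) hP hV zv1 hact
theorem faith {F : Type*} [Field F] {el : ℕ → F} (h : FC t4 el) : Faithful (vecOf el (Fin.val : Fin 4 → ℕ) t4.q P.N V) P.n (⊤ : Subgroup (GL (Fin 4) F)) :=
  faithful_vecOf h (ix_fin 4) hP hV zv3
theorem c1 {F : Type*} [Field F] {el : ℕ → F} (h : FC t4 el) : Ctx P (vecOf el (Fin.val : Fin 4 → ℕ) t4.q P.N V) (ext (List.map (glF el (Fin.val : Fin 4 → ℕ)) ms) ws) ns D chk :=
  ctx (base h) (faith h) fun _ _ => trivial

theorem G_c : P.chainB ns D G_vs [[10], [12]] = true :=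
  zc6

theorem G_o : prodL G_vs 1 = 25920 := by decide +kernel

theorem G_lb (c : Ctx P e gs ns D chk) :
    LB (subW gs [[10], [12]]) 25920 :=
  c.lb G_c G_o

end
end CL.Std.SU42.M

namespace CL.Std.SU42
open CL.PG

def P : Par := ⟨45, 48, 6, 3⟩
theorem hP : P.Ok := by decide
noncomputable def a0 : Net := (.cons 24 (nat_lit 0xab8b13)
 (.cons 12 (nat_lit 0x218000634)
 (.cons 6 (nat_lit 0x38016009030)
 (.cons 3 (nat_lit 0x801c3185182)
 (.cons 1 (nat_lit 0x208248009001)
 (.cons 1 (nat_lit 0x490490412412)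
 (.cons 1 (nat_lit 0x49009041009)
 (.cons 3 (nat_lit 0x80000180004)
 (.cons 6 (nat_lit 0x10018012034)
 (.cons 12 (nat_lit 0xe0000294)
 (.cons 24 (nat_lit 0xb1fe06)
 .nil)))))))))))
noncomputable def a1 : Net := (.cons 24 (nat_lit 0xd37826)
 (.cons 12 (nat_lit 0xbdf000de7)
 (.cons 6 (nat_lit 0x3400d03601e)
 (.cons 3 (nat_lit 0xc1044040105)
 (.cons 1 (nat_lit 0x8040041000)
 (.cons 1 (nat_lit 0x492490092402)
 (.cons 1 (nat_lit 0x41001241)
 (.cons 3 (nat_lit 0x6002100)
 (.cons 6 (nat_lit 0x2801a01001e)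
 (.cons 12 (nat_lit 0xae4000d16)
 (.cons 24 (nat_lit 0xc0927a)
 .nil)))))))))))
noncomputable def a2 : Net := (.cons 24 (nat_lit 0x55a032)
 (.cons 12 (nat_lit 0xaf000a4e)
 (.cons 6 (nat_lit 0x26026033034)
 (.cons 3 (nat_lit 0x1821c7147100)
 (.cons 1 (nat_lit 0x40001041048)
 (.cons 1 (nat_lit 0x480092492492)
 (.cons 1 (nat_lit 0x8201001208)
 (.cons 3 (nat_lit 0x2086106086)
 (.cons 6 (nat_lit 0x24036012022)
 (.cons 12 (nat_lit 0x48800006e)
 (.cons 24 (nat_lit 0x48a0e8)
 .nil)))))))))))
noncomputable def a3 : Net := (.cons 24 (nat_lit 0xbb0680)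
 (.cons 12 (nat_lit 0xcb5000a12)
 (.cons 6 (nat_lit 0x402c00101e)
 (.cons 3 (nat_lit 0x1460810800c0)
 (.cons 1 (nat_lit 0x208241208000)
 (.cons 1 (nat_lit 0x492492412002)
 (.cons 1 (nat_lit 0x200048241040)
 (.cons 3 (nat_lit 0x180082006000)
 (.cons 6 (nat_lit 0x2e02003600e)
 (.cons 12 (nat_lit 0x560000abe)
 (.cons 24 (nat_lit 0xb0a04c)
 .nil)))))))))))
noncomputable def a4 : Net := (.cons 24 (nat_lit 0x13fe3a)
 (.cons 12 (nat_lit 0xdb3000e58)
 (.cons 6 (nat_lit 0x2700d02702c)
 (.cons 3 (nat_lit 0xc6101000)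
 (.cons 1 (nat_lit 0x41048041048)
 (.cons 1 (nat_lit 0x492090082092)
 (.cons 1 (nat_lit 0x241009008)
 (.cons 3 (nat_lit 0x4080104180)
 (.cons 6 (nat_lit 0x20000004028)
 (.cons 12 (nat_lit 0xcb0000ef2)
 (.cons 24 (nat_lit 0x159c94)
 .nil)))))))))))
noncomputable def a5 : Net := (.cons 24 (nat_lit 0x31ada2)
 (.cons 12 (nat_lit 0x9a40001a0)
 (.cons 6 (nat_lit 0xd01600c00c)
 (.cons 3 (nat_lit 0x106183102086)
 (.cons 1 (nat_lit 0x48200200000)
 (.cons 1 (nat_lit 0x92402490402)
 (.cons 1 (nat_lit 0x49049201040)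
 (.cons 3 (nat_lit 0x100100100104)
 (.cons 6 (nat_lit 0xc006008014)
 (.cons 12 (nat_lit 0xa54000938)
 (.cons 24 (nat_lit 0x33f6c0)
 .nil)))))))))))
noncomputable def a6 : Net := (.cons 24 (nat_lit 0x4162be)
 (.cons 12 (nat_lit 0xb77000afc)
 (.cons 6 (nat_lit 0x14028033002)
 (.cons 3 (nat_lit 0x70461c3184)
 (.cons 1 (nat_lit 0x48200209000)
 (.cons 1 (nat_lit 0x92490412402)
 (.cons 1 (nat_lit 0x248241001040)
 (.cons 3 (nat_lit 0x104104102100)
 (.cons 6 (nat_lit 0x1e038010010)
 (.cons 12 (nat_lit 0xa9c000bc8)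
 (.cons 24 (nat_lit 0x561580)
 .nil)))))))))))
noncomputable def a7 : Net := (.cons 12 (nat_lit 0x3dc000ff8)
 (.cons 6 (nat_lit 0xb03c000028)
 (.cons 3 (nat_lit 0x1861441c7080)
 (.cons 1 (nat_lit 0x200200000008)
 (.cons 1 (nat_lit 0x402482000412)
 (.cons 1 (nat_lit 0x8240000048)
 (.cons 3 (nat_lit 0x186004000080)
 (.cons 6 (nat_lit 0x4028000028)
 (.cons 12 (nat_lit 0x250000ff8)
 .nil)))))))))
noncomputable def a8 : Net := (.cons 24 (nat_lit 0x8ed80)
 (.cons 12 (nat_lit 0x9440002cc)
 (.cons 6 (nat_lit 0x3000002b02e)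
 (.cons 3 (nat_lit 0x2045084)
 (.cons 1 (nat_lit 0x41048000000)
 (.cons 1 (nat_lit 0x82092400082)
 (.cons 1 (nat_lit 0x1248000248)
 (.cons 3 (nat_lit 0x80000000102)
 (.cons 6 (nat_lit 0x12006020010)
 (.cons 12 (nat_lit 0x8960002cc)
 (.cons 24 (nat_lit 0x48d00)
 .nil)))))))))))
noncomputable def a9 : Net := (.cons 24 (nat_lit 0x835470)
 (.cons 12 (nat_lit 0xea0006e8)
 (.cons 6 (nat_lit 0x601a02203e)
 (.cons 3 (nat_lit 0x5100086102)
 (.cons 1 (nat_lit 0x208000)
 (.cons 1 (nat_lit 0x80002410402)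
 (.cons 1 (nat_lit 0x249048)
 (.cons 3 (nat_lit 0x86102)
 (.cons 6 (nat_lit 0x2402002000a)
 (.cons 12 (nat_lit 0x90c0006e8)
 (.cons 24 (nat_lit 0x835470)
 .nil)))))))))))
noncomputable def a10 : Net := (.cons 12 (nat_lit 0x7e40001c0)
 (.cons 6 (nat_lit 0x1f03c007038)
 (.cons 3 (nat_lit 0x41c4000000)
 (.cons 1 (nat_lit 0x2000000)
 (.cons 3 (nat_lit 0x4000000)
 (.cons 6 (nat_lit 0x38000000)
 (.cons 12 (nat_lit 0x6c00001c0)
 .nil)))))))
noncomputable def ns0 : List Net := [a0, a1]
noncomputable def ws : List (List ℕ) :=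
  [W (nat_lit 0x80300804004030040401002),
  W (nat_lit 0x804),
  W (nat_lit 0x80200501c05),
  W (nat_lit 0x20050140502005),
  W (nat_lit 0x60180701c06),
  W (nat_lit 0x3809),
  W (nat_lit 0x300e),
  W (nat_lit 0x2c09),
  W (nat_lit 0xa0380a)]
noncomputable def ns : List Net := [a0, a1, a2, a3, a4, a5, a6, a7, a8, a9, a10]
noncomputable def D : List (ℕ × List ℕ) := app [] (mkDefs ws 2)
noncomputable def chk : List (List ℕ × List ℕ) → Bool := P.relsB ns
noncomputable def G_v0 : Lev :=
  ⟨0, 45, sg (W (nat_lit 0xc0300403004030040300401)), [[4], [6]], 0, 2⟩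
noncomputable def G_v1 : Lev :=
  ⟨15, 12, sg (W (nat_lit 0x14070140501c05)), [[8], [10], [12]], 2, 3⟩
noncomputable def G_v2 : Lev :=
  ⟨16, 3, sg (W (nat_lit 0x2409)), [[14], [16], [18], [20]], 5, 4⟩
noncomputable def G_v3 : Lev :=
  ⟨1, 8, sg (W (nat_lit 0x130440f)), [[20]], 9, 0⟩
noncomputable def G_v4 : Lev :=
  ⟨3, 2, sg [20], [], 9, 0⟩
noncomputable def G_vs5 : List Lev :=
  []
noncomputable def G_vs4 : List Lev :=
  G_v4 :: G_vs5
noncomputable def G_vs3 : List Lev :=
  G_v3 :: G_vs4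
noncomputable def G_vs2 : List Lev :=
  G_v2 :: G_vs3
noncomputable def G_vs1 : List Lev :=
  G_v1 :: G_vs2
noncomputable def G_vs : List Lev :=
  G_v0 :: G_vs1
noncomputable def zE1 : Net :=
  (.cons 80 (nat_lit 0xfe1cec8570650315953a)
 (.cons 40 (nat_lit 0x400bfa2f17000000000059e8ce19e0)
 (.cons 20 (nat_lit 0x15280000001f4c6000003669b0000097ca2)
 (.cons 10 (nat_lit 0x3dc00395002500036a00155003e800144002a6)
 (.cons 5 (nat_lit 0x90100a0781403011068190281a0280302418)
 (.cons 1 (nat_lit 0x4004050000001420200a0000040040008000)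
 (.cons 1 (nat_lit 0x5010a0290a0010002948501484000a0090012908)
 (.cons 1 (nat_lit 0x280a5294a50148421484284a42940501084210a4)
 (.cons 1 (nat_lit 0x5214a1294a1284a4294a10942508021294852942)
 (.cons 1 (nat_lit 0x902408424004800900000484004002042408000)
 (.cons 5 (nat_lit 0x60000280a0601c05804068000080a0200406000)
 (.cons 10 (nat_lit 0xd800224000580010800146003e8001d40028c)
 (.cons 20 (nat_lit 0xf7380000008a5c4000002649200000b0df2)
 (.cons 40 (nat_lit 0xee1b92041a000000000058cbdf7a32)
 (.cons 80 (nat_lit 0xfe1cecf03b215c194052)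
 .nil)))))))))))))))
noncomputable def zK2 : Lk :=
  ⟨zE1, 3, 3, 1⟩

theorem zc0 : P.chainB ns D G_vs [[0], [2]] = true := by decide +kernel
theorem zl3 : zK2.relB CL.Std.SU42.M.P CL.Std.SU42.P CL.Std.SU42.M.ns [[10], [12]] [[0], [2]] = true := by decide +kernel
theorem zl4 : allL (zK2.pl CL.Std.SU42.M.P CL.Std.SU42.P CL.Std.SU42.M.ns CL.Std.SU42.ns 0) (zp [] [[10], [12]] [[0], [2]]) = true := by decide +kernel
theorem zk5 : allL (keepB P.n P.N) ns0 = true := by decide +kernel
theorem ze6 : extB ns0 ns 2 ws [] = true := by decide +kernel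
theorem zn7 : P.netsB ns (mkDefs ws 2) = true := by decide +kernel

section
variable {G X : Type*} [Group G] [MulAction G X] {e : ℕ → X} {gs : List G}

theorem keep0 : allL (keepB P.n P.N) ns0 = true := zk5

theorem len {k} (c : Ctx P e gs ns0 [] k) : gs.length = 2 := c.len ze6

theorem ctx0 {k} (c : Ctx P e gs ns0 [] k) : Ctx P e (ext gs ws) ns D chk0 :=
  c.ext rfl ze6 zn7

theorem ctx {k} (c : Ctx P e gs ns0 [] k) {H : Subgroup G} (hF : Faithful e P.n H) (hH : ∀ g ∈ gs, g ∈ H) :
    Ctx P e (ext gs ws) ns D chk :=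
  (ctx0 c).withB hF (mem_of_mem_ext hH _)

instance instNe : NeZero P.n := ⟨by decide⟩
noncomputable def gs0 : List (Equiv.Perm (Fin P.n)) := permsOf P.n P.N ns0
noncomputable def gs1 : List (Equiv.Perm (Fin P.n)) := ext gs0 ws
theorem c1 : Ctx P (eF P.n) gs1 ns D chk :=
  ctx (ctx_permsOf hP keep0) (faithful_eF _) fun _ _ => trivial

theorem G_c : P.chainB ns D G_vs [[0], [2]] = true :=
  zc0

theorem G_o : prodL G_vs 1 = 25920 := by decide +kernel

theorem G_lb (c : Ctx P e gs ns D chk) :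
    LB (subW gs [[0], [2]]) 25920 :=
  c.lb G_c G_o

theorem rel {Γ Y : Type*} [Group Γ] [MulAction Γ Y] {e' : ℕ → Y} {cs : List Γ} {D₁ D₂ : List (ℕ × List ℕ)}
    {k₁ k₂ : List (List ℕ × List ℕ) → Bool} (c : Ctx CL.Std.SU42.M.P e gs CL.Std.SU42.M.ns D₁ k₁) (c' : Ctx CL.Std.SU42.P e' cs CL.Std.SU42.ns D₂ k₂)
    (hF : Faithful e' CL.Std.SU42.P.n (subW cs [[0], [2]])) :
    RelLe gs [[10], [12]] cs [[0], [2]] :=
  c.relLe (K := zK2) c' hF zl3 (fun (t : ℕ) (ht : t < 1) => match t, ht with
    | 0, _ => zl4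
    | t + 1, h => absurd h (by omega))

theorem iso {F : Type*} [Field F] [Fintype F] (hF : Fintype.card F = 4) :
    Nonempty ((subW gs1 [[0], [2]]) ≃* Cfsg.SU 4 F 2) := by
  obtain ⟨el, h⟩ := Tab.exists_fc t4 t4_field F hF
  have hc : Nat.card (Cfsg.SU 4 F 2) = 25920 := card_su (q := 2) hF 4 (by norm_num) (by decide +kernel)
  have hK := subW_eq_range (l := [[10], [12]]) (suHom 4 F 2) (suHom_inj _ _) hc (by norm_num)
    (subW_le_of_forall (mem_of_mem_ext (forall_mem_SU h (by decide +kernel) M.hinv M.zv5 M.zv4) _) _) (M.G_lb (M.c1 h))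
  exact (rel (M.c1 h) c1 ((faithful_eF _).mono le_top)).iso_of_range (suHom 4 F 2) (suHom_inj _ _) hc (by norm_num) hK (G_lb c1)
theorem card : Nat.card (subW gs1 [[0], [2]]) = 25920 := by
  obtain ⟨F, _, _, hF⟩ := exists_field 2 2 (by norm_num)
  replace hF : Fintype.card F = 4 := hF
  obtain ⟨el, h⟩ := Tab.exists_fc t4 t4_field F hF
  exact (Nat.card_congr (iso hF).some.toEquiv).trans (card_su (q := 2) hF 4 (by norm_num) (by decide +kernel))
theorem ub : UB (subW gs1 [[0], [2]]) 25920 := UB.of_card card (by norm_num)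

end
end CL.Std.SU42

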