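/-
Generators and relations of `U₆(2)`: a transposition, a 6-cycle, a diagonal element and a transvection.
-/
import Cfsg.Agent.Spor.E20Lin

set_option autoImplicit false

namespace CL.E20

open CL.PG

/-- exponent vectors -/
abbrev N4 : Type := ℕ × ℕ × ℕ × ℕ

/-- diagonal elements -/
def D0 : List ℕ := [4]
/-- diagonal elements -/
def D1 : List ℕ := [2, 4, 3]
/-- diagonal elements -/
def D2 : List ℕ := [2, 2, 4, 3, 3]
/-- diagonal elements -/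
def D3 : List ℕ := [2, 2, 2, 4, 3, 3, 3]

/-- the word of a diagonal element -/
noncomputable def epsW (e : N4) : List ℕ :=
  app (powW D0 e.1) (app (powW D1 e.2.1) (app (powW D2 e.2.2.1) (powW D3 e.2.2.2)))

/-- the action of a letter on the diagonal group -/
noncomputable def cj (c : ℕ) : N4 × N4 × N4 × N4 :=
  nth ((1, 0, 0, 0), (0, 1, 0, 0), (0, 0, 1, 0), (0, 0, 0, 1))
  [((2, 0, 0, 0), (1, 1, 0, 0), (0, 0, 1, 0), (0, 0, 0, 1)), ((2, 0, 0, 0), (1, 1, 0, 0), (0, 0, 1, 0), (0, 0, 0, 1)), ((1, 0, 2, 1), (1, 0, 0, 0),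
  (0, 1, 0, 0), (0, 0, 1, 0)), ((0, 1, 0, 0), (0, 0, 1, 0), (0, 0, 0, 1), (1, 2, 0, 1))] c

/-- cubes -/
noncomputable def R3 : List (List ℕ × List ℕ) := mapL (fun w => (powW w 3, [])) [D0, D1, D2, D3]
/-- commutators -/
noncomputable def RK : List (List ℕ × List ℕ) :=
  mapL (fun p => (app p.1 p.2, app p.2 p.1)) [(D0, D1), (D0, D2), (D0, D3), (D1, D2), (D1, D3), (D2, D3)]
/-- conjugation -/
noncomputable def RC : List (List ℕ × List ℕ) :=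
  bindL (fun c => [(app D0 [c], c :: epsW (cj c).1), (app D1 [c], c :: epsW (cj c).2.1), (app D2 [c], c :: epsW (cj c).2.2.1),
    (app D3 [c], c :: epsW (cj c).2.2.2)]) [0, 1, 2, 3]
/-- four transpositions -/
def ST : List (List ℕ) := [[0], [2, 0, 3], [2, 2, 2, 0, 3, 3, 3], [3, 3, 0, 2, 2]]
/-- squares -/
noncomputable def RS : List (List ℕ × List ℕ) := mapL (fun w => (app w w, [])) ([6] :: [2, 2, 2] :: ST)
/-- generators of the stabiliser of the first basis vector in the monomial group -/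
noncomputable def SL : List (List ℕ) := app ST [[2, 2, 2], D0, D1, D3]
/-- words moving the first block to the others, with separating diagonal elements -/
def O0 : List (List ℕ × List N4) :=
  [([], [(1, 2, 0, 0)]), ([2, 0, 3, 0, 2], [(2, 1, 1, 0)]), ([0, 2], [(1, 1, 2, 0)]), ([2], [(0, 1, 2, 0)]), ([3, 3, 0, 2], [(2, 1, 1, 1)]), ([0, 3,
  3, 0, 2, 0, 2], [(0, 1, 2, 1)]), ([0, 2, 0, 2], [(0, 1, 0, 1)]), ([3, 3, 0, 2, 0, 2], [(0, 1, 0, 0)]), ([2, 0, 2], [(0, 1, 1, 0)]), ([2, 2], [])]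
/-- the thirty short vectors -/
noncomputable def Bw (j m : ℕ) : List ℕ := app (nth ([], []) O0 j).1 (powW D2 m)
/-- the action of the monomial generators on the short vectors -/
def TN : List (ℕ × (ℕ × ℕ) × (ℕ × ℕ) × List ℕ) :=
  [(0, (0, 0), (0, 0), [0]), (0, (0, 1), (0, 1), [0]), (0, (1, 0), (1, 0), [0]), (0, (1, 1), (1, 1), [0]), (0, (2, 0), (3, 0), []), (0, (2, 1), (3,
  1), []), (0, (3, 0), (2, 0), []), (0, (3, 1), (2, 1), []), (0, (4, 0), (4, 0), [2]), (0, (4, 1), (4, 1), [2, 13]), (0, (5, 0), (7, 0), []), (0, (5,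
  1), (7, 1), []), (0, (6, 0), (8, 0), []), (0, (6, 1), (8, 1), []), (0, (7, 0), (5, 0), []), (0, (7, 1), (5, 1), []), (0, (8, 0), (6, 0), []), (0,
  (8, 1), (6, 1), []), (0, (9, 0), (9, 0), [6]), (0, (9, 1), (9, 1), [6]), (1, (0, 0), (0, 0), [0]), (1, (0, 1), (0, 1), [0]), (1, (1, 0), (1, 0),
  [0]), (1, (1, 1), (1, 1), [0]), (1, (2, 0), (3, 0), []), (1, (2, 1), (3, 1), []), (1, (3, 0), (2, 0), []), (1, (3, 1), (2, 1), []), (1, (4, 0), (4,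
  0), [2]), (1, (4, 1), (4, 1), [2, 13]), (1, (5, 0), (7, 0), []), (1, (5, 1), (7, 1), []), (1, (6, 0), (8, 0), []), (1, (6, 1), (8, 1), []), (1, (7,
  0), (5, 0), []), (1, (7, 1), (5, 1), []), (1, (8, 0), (6, 0), []), (1, (8, 1), (6, 1), []), (1, (9, 0), (9, 0), [6]), (1, (9, 1), (9, 1), [6]), (2,
  (0, 0), (3, 0), []), (2, (0, 1), (3, 1), []), (2, (1, 0), (7, 0), [0, 2, 4, 6]), (2, (1, 1), (7, 1), [0, 2, 4, 6, 11, 14]), (2, (2, 0), (8, 0), []),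
  (2, (2, 1), (8, 1), []), (2, (3, 0), (9, 0), []), (2, (3, 1), (9, 1), []), (2, (4, 0), (6, 0), [0, 2, 8]), (2, (4, 1), (6, 2), [0, 2, 13, 8, 12]),
  (2, (5, 0), (5, 0), [4, 6, 8]), (2, (5, 1), (5, 2), [4, 6, 11, 13, 8]), (2, (6, 0), (2, 0), [6, 4, 8]), (2, (6, 1), (2, 2), [6, 4, 8, 11, 14]), (2,
  (7, 0), (4, 0), [6, 4, 8]), (2, (7, 1), (4, 2), [6, 4, 8, 11, 14]), (2, (8, 0), (1, 0), [6, 4, 8]), (2, (8, 1), (1, 2), [6, 4, 8, 11, 14]), (2, (9,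
  0), (0, 0), [8]), (2, (9, 1), (0, 2), [8, 10, 14]), (3, (0, 0), (9, 0), [8]), (3, (0, 1), (9, 2), [8, 10, 14]), (3, (1, 0), (8, 0), [0, 2, 8]), (3,
  (1, 1), (8, 2), [0, 2, 13, 8, 12]), (3, (2, 0), (6, 0), [0, 2, 8]), (3, (2, 1), (6, 2), [0, 2, 13, 8, 12]), (3, (3, 0), (0, 0), []), (3, (3, 1), (0,
  1), []), (3, (4, 0), (7, 0), [0, 2, 8]), (3, (4, 1), (7, 2), [0, 2, 13, 8, 12]), (3, (5, 0), (5, 0), [2, 0, 8]), (3, (5, 1), (5, 2), [2, 0, 8, 11,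
  13]), (3, (6, 0), (4, 0), [6, 4, 8]), (3, (6, 1), (4, 2), [6, 4, 8, 11, 14]), (3, (7, 0), (1, 0), [2, 0, 6, 4]), (3, (7, 1), (1, 1), [2, 0, 12, 15,
  6, 4]), (3, (8, 0), (2, 0), []), (3, (8, 1), (2, 1), []), (3, (9, 0), (3, 0), []), (3, (9, 1), (3, 1), []), (4, (0, 0), (0, 0), [10]), (4, (0, 1),
  (0, 1), [10]), (4, (1, 0), (1, 0), [10]), (4, (1, 1), (1, 1), [10]), (4, (2, 0), (2, 1), [11, 15]), (4, (2, 1), (2, 2), [11, 15]), (4, (3, 0), (3,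
  2), [10, 14]), (4, (3, 1), (3, 0), [10, 14]), (4, (4, 0), (4, 0), [12]), (4, (4, 1), (4, 1), [12]), (4, (5, 0), (5, 1), [10, 15]), (4, (5, 1), (5,
  2), [10, 15]), (4, (6, 0), (6, 1), [10, 12, 14]), (4, (6, 1), (6, 2), [10, 12, 14]), (4, (7, 0), (7, 2), [11, 14]), (4, (7, 1), (7, 0), [11, 14]),
  (4, (8, 0), (8, 2), [11, 13, 15]), (4, (8, 1), (8, 0), [11, 13, 15]), (4, (9, 0), (9, 0), [8, 12, 8]), (4, (9, 1), (9, 1), [8, 12, 8]), (5, (0, 0),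
  (0, 0), [11]), (5, (0, 1), (0, 1), [11]), (5, (1, 0), (1, 0), [11]), (5, (1, 1), (1, 1), [11]), (5, (2, 0), (2, 2), [10, 14]), (5, (2, 1), (2, 0),
  [10, 14]), (5, (3, 0), (3, 1), [11, 15]), (5, (3, 1), (3, 2), [11, 15]), (5, (4, 0), (4, 0), [13]), (5, (4, 1), (4, 1), [13]), (5, (5, 0), (5, 2),
  [11, 14]), (5, (5, 1), (5, 0), [11, 14]), (5, (6, 0), (6, 2), [11, 13, 15]), (5, (6, 1), (6, 0), [11, 13, 15]), (5, (7, 0), (7, 1), [10, 15]), (5,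
  (7, 1), (7, 2), [10, 15]), (5, (8, 0), (8, 1), [10, 12, 14]), (5, (8, 1), (8, 2), [10, 12, 14]), (5, (9, 0), (9, 0), [8, 13, 8]), (5, (9, 1), (9,
  1), [8, 13, 8])]
/-- the relations for this action -/
noncomputable def RN : List (List ℕ × List ℕ) :=
  mapL (fun p => (p.1 :: Bw p.2.1.1 p.2.1.2, app (Bw p.2.2.1.1 p.2.2.1.2) (subs SL p.2.2.2))) TN
/-- generators of the centraliser of the transvection in the monomial group -/
def CT : List (List ℕ) := [[0], [2, 0, 3], [2, 2, 0, 3, 3], [3, 3, 0, 2, 2], [3, 3, 4, 2, 2]]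
/-- they commute with the transvection -/
noncomputable def RH : List (List ℕ × List ℕ) := mapL (fun w => (6 :: w, app w [6])) CT
/-- two relations with test vectors -/
def TT : List ((List ℕ × List ℕ) × ℕ) :=
  [(([6, 3, 0, 2, 6], [3, 0, 2, 6, 3, 0, 2]), 256), (([6, 2, 5, 3, 4, 2, 2, 4, 3, 3, 6, 2, 5, 3, 4, 2, 2, 4, 3, 3, 6, 2, 5, 3, 4, 2, 2, 4, 3, 3], [0,
  2, 2, 0, 3, 3]), 1)]
/-- three elements of a Sylow 2-subgroup -/
def LT : List (List ℕ) :=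
  [[3, 0, 6, 4, 3, 6, 5, 0, 2, 2, 2, 6, 4, 2], [2, 0, 4, 6, 2, 5, 6, 4, 3, 3, 6, 2, 6, 5], [3, 0, 6, 5, 3, 6, 4, 0, 2, 2, 2, 6, 5, 2]]
/-- involutions -/
def u1 : List ℕ := [0]
/-- involutions -/
def u2 : List ℕ := [0, 2, 2, 0, 3, 3]
/-- involutions -/
def u3 : List ℕ := [0, 2, 2, 0, 3, 3, 3, 3, 0, 2, 2]

/-- The facts about the four generators. -/
structure Gen {Γ : Type*} [Group Γ] (gs : List Γ) : Prop where
  top : subW gs [[0], [2], [4], [6]] = ⊤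
  card : Nat.card Γ = 9196830720
  ne : wordG gs D0 ≠ 1
  r3 : Rels gs R3
  rK : Rels gs RK
  rC : Rels gs RC
  rS : Rels gs RS
  rN : Rels gs RN
  rH : Rels gs RH
  rT : Rels gs (mapL Prod.fst TT)
  cls : Cls 2 ⊤ ⊤ gs [[], u1, u2, u3]
  syl : ∃ T : Subgroup Γ, Nat.card T = 2 ^ 15 ∧ ∀ w ∈ LT, wordG gs w ∈ T

end CL.E20
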