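/-
The action of the transvection: a faithful module of order `2^20` for `U₆(2)` is given by explicit matrices.
-/
import Cfsg.Agent.Spor.E20N
import Cfsg.Agent.Spor.E20U

set_option autoImplicit false
set_option Elab.async false

namespace CL.E20

open CL.PG
open CL.F24 (ap ap_nil ap_cons ap_lt cs cs_xor map_cs XAdd all2 all2_spec)

variable {Γ V : Type*} [Group Γ] [AddCommGroup V] [DistribMulAction Γ V]

/-- words moving three basis vectors to all of them -/
def HL : List (List ℕ × ℕ) :=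
  [([], 0), ([], 1), ([4], 0), ([4], 1), ([2, 4], 0), ([2, 4], 1), ([0, 2, 4], 0), ([0, 2, 4], 1), ([], 2), ([8], 2), ([2], 2), ([2, 8], 2), ([4, 2],
  2), ([4, 2, 8], 2), ([0, 2], 2), ([0, 2, 8], 2), ([2, 6], 2), ([2, 6, 9], 2), ([6], 2), ([6, 9], 2)]
/-- the columns determined by three images -/
noncomputable def colT (l : List ℕ) : List ℕ := mapL (fun p => evw [] (subs CT p.1) (nth 0 l p.2)) HL
/-- constraints in the generators of the centraliser -/
noncomputable def exK (K : List (List (List ℕ) × List ℕ)) : List (List (List ℕ) × List ℕ) :=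
  mapL (fun p => (mapL (subs CT) p.1, p.2)) K
/-- constraints -/
def K0 : List (List (List ℕ) × List ℕ) :=
  [([[], [0]], [0, 0, 0, 0, 0, 0, 20, 40, 0, 0, 0, 0, 0, 0, 0, 0, 0, 0, 0, 0]), ([[], [2]], [0, 0, 0, 0, 4, 8, 0, 0, 0, 0, 0, 0, 0, 0, 0, 0, 0, 0, 0,
  0]), ([[], [8]], [0, 0, 0, 0, 0, 0, 0, 0, 512, 768, 2048, 3072, 8192, 12288, 32768, 49152, 131072, 196608, 524288, 786432])]
/-- constraints -/
def K8 : List (List (List ℕ) × List ℕ) :=
  [([[], [0]], [0, 0, 0, 0, 0, 0, 0, 0, 0, 0, 0, 0, 0, 0, 0, 0, 0, 0, 0, 0]), ([[], [4]], [0, 0, 0, 0, 0, 0, 0, 0, 0, 0, 0, 0, 4096, 0, 0, 0, 16384,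
  138240, 0, 0]), ([[], [2, 0, 4, 2, 6]], [0, 0, 0, 0, 0, 0, 0, 0, 512, 0, 0, 0, 8192, 0, 171008, 0, 5120, 7168, 524288, 0]), ([[], [8], [8, 8]], [1,
  2, 4, 8, 16, 32, 64, 128, 0, 0, 0, 0, 0, 0, 0, 0, 0, 0, 0, 0])]
/-- candidates -/
def C0 : List ℕ := [1, 2, 84, 168]
/-- candidates -/
def C8 : List ℕ := [256, 87040, 262144]

theorem K0_c : certB 6 [] (exK K0) [] 4 C0 [1, 2, 0, 0, 0, 0, 4, 8, 0, 0, 0, 0, 0, 0, 0, 0, 0, 0, 0, 0] [] = true := by decide +kernel
theorem K8_c : certB 6 [] (exK K8) [] 3 C8 [0, 0, 0, 0, 0, 0, 0, 0, 1, 0, 0, 0, 0, 0, 0, 0, 2, 0, 4, 0] [] = true := by decide +kernel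
theorem K_z : (∀ p ∈ exK K0, xs [] p.1 1 = 0) ∧ (∀ p ∈ exK K0, xs [] p.1 2 = 0) ∧ ∀ p ∈ exK K8, xs [] p.1 256 = 0 := by
  decide +kernel
theorem HL_ok : idc = colT [1, 2, 256] ∧ ∀ p ∈ HL, ltB 6 (subs CT p.1) = true ∧ p.2 < 3 := by decide +kernel
theorem TT_ok : ∀ p ∈ TT, ltB 8 p.1.1 = true ∧ ltB 8 p.1.2 = true ∧ p.2 < 2 ^ 20 := by decide +kernel
theorem cT_eq : colT [ap C0 4, ap C0 8, ap C8 3] = cT := by decide +kernel

/-- the columns as linear functions of the parameters -/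
def ML : List (List ℕ × ℕ) :=
  [([1, 2, 84, 168], 0), ([1, 2, 84, 168], 1), ([4, 8, 81, 162], 0), ([4, 8, 81, 162], 1), ([16, 32, 69, 138], 0), ([16, 32, 69, 138], 1), ([64, 128,
  21, 42], 0), ([64, 128, 21, 42], 1), ([256, 87040, 262144], 2), ([512, 174080, 524288], 2), ([1024, 282880, 65536], 2), ([2048, 565760, 131072], 2),
  ([4096, 328960, 16384], 2), ([8192, 657920, 32768], 2), ([16384, 328960, 4096], 2), ([32768, 657920, 8192], 2), ([65536, 282880, 1024], 2),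
  ([131072, 565760, 2048], 2), ([262144, 87040, 256], 2), ([524288, 174080, 512], 2)]
/-- the columns of a candidate -/
noncomputable def colM (l : List ℕ) : List ℕ := mapL (fun p => ap p.1 (nth 0 l p.2)) ML

theorem ML_eq : ML = HL.map fun p => ((nth [] [C0, C0, C8] p.2).map (evw [] (subs CT p.1)), p.2) := by decide +kernel

theorem colM_eq (i j k : ℕ) : colM [i, j, k] = colT [ap C0 i, ap C0 j, ap C8 k] := by
  rw [colM, colT, ML_eq, mapL_eq, mapL_eq, List.map_map]
  refine List.map_congr_left fun p hp => ?_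
  show ap (List.map _ _) _ = _
  rw [← (xl_evw _ _).map_ap]
  obtain ⟨w, s⟩ := p
  have := (HL_ok.2 _ hp).2
  dsimp only at this ⊢
  interval_cases s <;> rfl

/-- the test relations -/
noncomputable def testB (ct : List ℕ) : Bool := allL (fun p => Nat.beq (evw ct p.1.1 p.2) (evw ct p.1.2 p.2)) TT

/-- only one candidate passes the test -/
noncomputable def chkT (i : ℕ) : Bool :=
  all2 (fun j => all2 (fun k => bor (bnot (testB (colM [i, j, k])))
    (bnd (Nat.beq i 4) (bnd (Nat.beq j 8) (Nat.beq k 3)))) 3 0) 4 0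

theorem chkT0 : chkT 0 = true := by decide +kernel
theorem chkT1 : chkT 1 = true := by decide +kernel
theorem chkT2 : chkT 2 = true := by decide +kernel
theorem chkT3 : chkT 3 = true := by decide +kernel
theorem chkT4 : chkT 4 = true := by decide +kernel
theorem chkT5 : chkT 5 = true := by decide +kernel
theorem chkT6 : chkT 6 = true := by decide +kernel
theorem chkT7 : chkT 7 = true := by decide +kernel
theorem chkT8 : chkT 8 = true := by decide +kernel
theorem chkT9 : chkT 9 = true := by decide +kernel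
theorem chkT10 : chkT 10 = true := by decide +kernel
theorem chkT11 : chkT 11 = true := by decide +kernel
theorem chkT12 : chkT 12 = true := by decide +kernel
theorem chkT13 : chkT 13 = true := by decide +kernel
theorem chkT14 : chkT 14 = true := by decide +kernel
theorem chkT15 : chkT 15 = true := by decide +kernel

theorem chkT_all {i : ℕ} (hi : i < 2 ^ 4) : chkT i = true := by
  interval_cases i
  exacts [chkT0, chkT1, chkT2, chkT3, chkT4, chkT5, chkT6, chkT7, chkT8, chkT9, chkT10, chkT11, chkT12, chkT13, chkT14, chkT15]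

theorem Gen.exists_md8 {gs : List Γ} (h : Gen gs) (hV : Nat.card V = 2 ^ 20) (h2 : ∀ v : V, v + v = 0)
    (hf : ∀ g : Γ, (∀ v : V, g • v = v) → g = 1) : ∃ e : ℕ → V, Md 8 gs e cT := by
  obtain ⟨e, m⟩ := h.exists_md hV h2 hf
  have cm : ∀ w (v : V), wordG gs (subs CT w) • letG gs 6 • v = letG gs 6 • wordG gs (subs CT w) • v := fun w v => by
    have : wordG gs (subs CT w) ∈ Subgroup.centralizer {letG gs 6} := subs_mem (fun s hs => by
      have := h.rH _ (mem_mapL hs)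
      rw [wordG_cons, wordG_app, wordG_cons, wordG_nil, mul_one] at this
      exact Subgroup.mem_centralizer_singleton_iff.mpr this.symm) w
    rw [← mul_smul, Subgroup.mem_centralizer_singleton_iff.mp this, mul_smul]
  have cs : ∀ (ws : List (List ℕ)) (v : V),
      sumW gs (mapL (subs CT) ws) (letG gs 6 • v) = letG gs 6 • sumW gs (mapL (subs CT) ws) v := fun ws v => by
    induction ws with
    | nil => exact (smul_zero _).symm
    | cons w ws ih => rw [mapL_eq, List.map_cons, ← mapL_eq, sumW_cons, sumW_cons, smul_add, ih, cm]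
  have cand : ∀ {K : List (List (List ℕ) × List ℕ)} {k a : ℕ} {C Q : List ℕ}, certB 6 [] (exK K) [] k C Q [] = true →
      a < 2 ^ 20 → (∀ p ∈ exK K, xs [] p.1 a = 0) → ∃ i < 2 ^ k, letG gs 6 • e a = e (ap C i) := by
    intro K k a C Q hc ha hz
    obtain ⟨i, hi, w, hw⟩ := m.cert hc (v := letG gs 6 • e a) fun p hp => by
      have h1 := (m.sum ha (allL_spec (allL_spec (bnd_iff.mp (bnd_iff.mp hc).1).1 p hp))).2
      rw [hz p hp, m.add.zero] at h1
      obtain ⟨q, -, rfl⟩ := of_mem_mapL hp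
      rw [cs, h1, smul_zero]
    exact ⟨i, hi, by rwa [sumW_nil, add_zero] at hw⟩
  obtain ⟨i, hi, ei⟩ := cand K0_c (by norm_num) K_z.1
  obtain ⟨j, hj, ej⟩ := cand K0_c (by norm_num) K_z.2.1
  obtain ⟨k, hk, ek⟩ := cand K8_c (by norm_num) K_z.2.2
  have hb : ∀ s < 3, nth 0 [1, 2, 256] s < 2 ^ 20 ∧ nth 0 [ap C0 i, ap C0 j, ap C8 k] s < 2 ^ 20 ∧
      letG gs 6 • e (nth 0 [1, 2, 256] s) = e (nth 0 [ap C0 i, ap C0 j, ap C8 k] s) := fun s hs => by
    interval_cases s
    exacts [⟨by decide, ap_lt (l := C0) (by decide) _, ei⟩, ⟨by decide, ap_lt (l := C0) (by decide) _, ej⟩,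
      ⟨by decide, ap_lt (l := C8) (by decide) _, ek⟩]
  have ht : Rep e (2 ^ 20) (letG gs 6) (ap (colT [ap C0 i, ap C0 j, ap C8 k])) := by
    refine rep_of_cols m.add (allL_of fun c hc => ?_) ?_
    · obtain ⟨p, hp, rfl⟩ := of_mem_mapL hc
      exact Nat.ble_eq.mpr (m.wordB (HL_ok.2 p hp).1 _ (hb _ (HL_ok.2 p hp).2).2.1).1
    · rw [HL_ok.1, colT, colT, mapL_eq, mapL_eq, List.map_map, List.map_map]
      refine List.map_congr_left fun p hp => ?_
      obtain ⟨b1, b2, b3⟩ := hb _ (HL_ok.2 p hp).2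
      show letG gs 6 • e _ = e _
      rw [← (m.wordB (HL_ok.2 p hp).1 _ b1).2, ← (m.wordB (HL_ok.2 p hp).1 _ b2).2, ← cm, b3]
  have m8 : Md 8 gs e (colT [ap C0 i, ap C0 j, ap C8 k]) := by
    refine ⟨m.add, m.inj, m.surj, m.fa, fun c hc => ?_⟩
    have tt := h.rS _ (mem_mapL (List.mem_cons_self ..))
    rw [wordG_app, wordG_cons, wordG_nil, mul_one] at tt
    interval_cases c
    exacts [m.act 0 (by norm_num), m.act 1 (by norm_num), m.act 2 (by norm_num), m.act 3 (by norm_num), m.act 4 (by norm_num),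
      m.act 5 (by norm_num), ht, (show letG gs 6 = letG gs 7 from eq_inv_of_mul_eq_one_left tt) ▸ ht]
  have hT : testB (colT [ap C0 i, ap C0 j, ap C8 k]) = true := allL_of fun p hp => by
    obtain ⟨b1, b2, b3⟩ := TT_ok p hp
    have a1 := m8.wordB b1 _ b3
    have a2 := m8.wordB b2 _ b3
    rw [h.rT _ (mem_mapL hp), a2.2] at a1
    exact Nat.beq_eq ▸ (m8.eq a2.1 a1.1 a1.2).symm
  rcases bor_iff.mp (all2_spec (all2_spec (chkT_all hi) j hj) k hk) with h1 | h1
  · rw [bnot_iff, colM_eq, hT] at h1; cases h1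
  · obtain ⟨h1, h3⟩ := bnd_iff.mp h1
    obtain ⟨h3, h4⟩ := bnd_iff.mp h3
    rw [Nat.eq_of_beq_eq_true h1, Nat.eq_of_beq_eq_true h3, Nat.eq_of_beq_eq_true h4, cT_eq] at m8
    exact ⟨e, m8⟩

/-- Uniqueness of the faithful module of order `2^20`. -/
theorem IsU.exists_md (h : IsU Γ) (hV : Nat.card V = 2 ^ 20) (h2 : ∀ v : V, v + v = 0)
    (hf : ∀ g : Γ, (∀ v : V, g • v = v) → g = 1) : ∃ (gs : List Γ) (e : ℕ → V), Gen gs ∧ Md 8 gs e cT :=
  let ⟨gs, hg⟩ := U.gen h
  let ⟨e, he⟩ := hg.exists_md8 hV h2 hf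
  ⟨gs, e, hg, he⟩

end CL.E20
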