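/-
Finite facts about the module of order `2^20` of `U₆(2)`.
-/
import Cfsg.Agent.Spor.E20T

set_option autoImplicit false
set_option Elab.async false
set_option maxRecDepth 100000

namespace CL.E20

open CL.PG MulAction
open CL.F24 (ap ap_nil ap_cons ap_lt cs cs_xor map_cs XAdd all2 all2_spec)

/-- constraints: fixed by the words -/
noncomputable def fxK (K : List (List ℕ × List ℕ)) : List (List (List ℕ) × List ℕ) := mapL (fun p => ([[], p.1], p.2)) K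

/-- every vector fixed by the words of `K` is moved into the fixed space of the square of the 6-cycle -/
noncomputable def gdB (K : List (List ℕ × List ℕ)) (k : ℕ) (C Q : List ℕ) (gw : List (List ℕ)) : Bool :=
  bnd (bnd (certB 8 cT (fxK K) [] k C Q []) (ltB (2 ^ 20) C)) (all2 (fun i => bnd (ltB 8 (nth [] gw i))
    (Nat.beq (evw cT [2, 2] (evw cT (nth [] gw i) (ap C i))) (evw cT (nth [] gw i) (ap C i)))) k 0)

theorem gd5 : gdB
  [([0, 2], [0, 0, 0, 0, 1, 2, 4113, 12339, 17412, 51208, 4, 8, 17, 34, 1028, 3084, 17668, 36620, 4177, 12467])] 4 [83204, 167692, 266321, 536755] [0,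
  0, 0, 0, 0, 0, 0, 0, 0, 0, 0, 0, 0, 0, 0, 0, 1, 2, 4, 8] [[], [0, 2, 6, 2, 0], [0, 2, 6, 2, 0], [0, 2, 6, 2, 0], [0, 2, 6, 2, 0], [], [4, 6], [5,
  6], [0, 2, 6, 2, 0], [5, 6, 0], [0, 2, 6, 2, 0], [6], [0, 2, 6, 2, 0], [4, 6, 0], [6], [0, 2, 6, 2, 0]] = true := by
  decide +kernel
theorem or5 : ordB 8 cT [0, 2] 5 1 = true := by decide +kernel
theorem gd7 : gdB
  [([2, 6, 4], [0, 0, 89652, 203415, 142462, 67817, 79409, 216102, 195525, 251948, 105103, 143998, 190917, 186565, 26624, 22203, 135831, 90186,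
  162454, 79603])] 2 [420246, 712159] [0, 0, 0, 0, 0, 0, 0, 0, 0, 0, 0, 0, 0, 0, 0, 0, 0, 0, 1, 2] [[], [4, 6, 2, 0], [4, 2], [6, 5, 6, 2, 5, 2, 2]] =
  true := by
  decide +kernel
theorem or7 : ordB 8 cT [2, 6, 4] 7 1 = true := by decide +kernel
theorem gd11 : gdB
  [([2, 6, 2, 6, 4], [891823, 217405, 629679, 296583, 1008635, 762001, 1008382, 49248, 629678, 597291, 146186, 859396, 407728, 646923, 643678, 872673,
  731313, 645051, 1038266, 287910])] 0 [] [0, 0, 0, 0, 0, 0, 0, 0, 0, 0, 0, 0, 0, 0, 0, 0, 0, 0, 0, 0] [[]] = true := by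
  decide +kernel
theorem or11 : ordB 8 cT [2, 6, 2, 6, 4] 11 1 = true := by decide +kernel
/-- squares -/
def K2 : List (List ℕ × List ℕ) :=
  [([3, 0, 6, 4, 3, 6, 5, 0, 2, 2, 2, 6, 4, 2, 3, 0, 6, 4, 3, 6, 5, 0, 2, 2, 2, 6, 4, 2], [0, 0, 0, 0, 0, 0, 0, 0, 0, 0, 0, 0, 0, 0, 0, 0, 174335, 0,
  542464, 0]), ([2, 0, 4, 6, 2, 5, 6, 4, 3, 3, 6, 2, 6, 5, 2, 0, 4, 6, 2, 5, 6, 4, 3, 3, 6, 2, 6, 5], [0, 0, 0, 0, 0, 0, 0, 0, 0, 0, 0, 0, 0, 0,
  570112, 0, 662272, 0, 178512, 583233]), ([3, 0, 6, 5, 3, 6, 4, 0, 2, 2, 2, 6, 5, 2, 3, 0, 6, 5, 3, 6, 4, 0, 2, 2, 2, 6, 5, 2], [0, 0, 665070,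
  147704, 150996, 0, 704613, 147618, 0, 0, 0, 0, 0, 667354, 175399, 714909, 175501, 532635, 703015, 137297])]
theorem gd2 : gdB K2 2 [87040, 282880]
  [0, 0, 0, 0, 0, 0, 0, 0, 0, 0, 0, 0, 0, 0, 0, 0, 1, 0, 2, 0] [[], [], [0, 3], [0, 3, 0]] = true := by decide +kernel
theorem K2_ok : ∀ p ∈ K2, ∃ w ∈ LT, p.1 = app w w := by decide +kernel
theorem or3 : ordB 8 cT [2, 2] 3 1 = true := by decide +kernel
theorem fxu1 : certB 8 cT (fxK [(u1,
  [0, 0, 0, 0, 0, 0, 16, 32, 0, 0, 0, 0, 0, 0, 1024, 2048, 4096, 8192, 0, 0])]) [] 14 [1, 2, 4, 8, 80, 160, 256, 512, 17408, 34816, 69632, 139264,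
  262144, 524288] [1, 2, 4, 8, 0, 0, 16, 32, 64, 128, 0, 0, 0, 0, 256, 512, 1024, 2048, 4096, 8192] [] = true := by
  decide +kernel
theorem fxu2 : certB 8 cT (fxK [(u2,
  [0, 0, 1, 2, 0, 0, 16, 32, 0, 0, 0, 0, 0, 0, 4096, 8192, 1024, 2048, 0, 0])]) [] 14 [5, 10, 80, 160, 256, 512, 20480, 40960, 66560, 133120, 262144,
  524288] [0, 0, 1, 2, 0, 0, 4, 8, 16, 32, 0, 0, 0, 0, 64, 128, 256, 512, 1024, 2048] [] = true := by
  decide +kernel
theorem fxu3 : certB 8 cT (fxK [(u3,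
  [0, 0, 1, 2, 0, 0, 16, 32, 0, 0, 2048, 0, 8192, 0, 32768, 0, 131072, 0, 256, 768])]) [] 14 [5, 10, 80, 160, 1024, 4096, 16384, 65536, 262400,
  525056] [0, 0, 1, 2, 0, 0, 4, 8, 0, 0, 16, 0, 32, 0, 64, 0, 128, 0, 256, 512] [] = true := by
  decide +kernel
/-- a complement -/
def CU : List ℕ := [1, 2, 4, 8, 256, 512, 262144, 524288]
theorem qu1 : certB 8 cT (fxK [(u1,
  [0, 0, 0, 0, 0, 0, 16, 32, 0, 0, 0, 0, 0, 0, 1024, 2048, 4096, 8192, 0, 0])]) [[], u1] 8 CU [1, 2, 4, 8, 0, 0, 0, 0, 16, 32, 0, 0, 0, 0, 0, 0, 0, 0,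
  64, 128] [0, 0, 0, 0, 0, 0, 16, 32, 0, 0, 0, 0, 0, 0, 1024, 2048, 4096, 8192, 0, 0] = true := by
  decide +kernel
theorem qu3 : certB 8 cT (fxK [(u3,
  [0, 0, 1, 2, 0, 0, 16, 32, 0, 0, 2048, 0, 8192, 0, 32768, 0, 131072, 0, 256, 768])]) [[], u3] 0 [] [0, 0, 0, 0, 0, 0, 0, 0, 0, 0, 0, 0, 0, 0, 0, 0,
  0, 0, 0, 0] [0, 0, 1, 2, 0, 0, 16, 32, 0, 0, 2048, 0, 8192, 0, 32768, 0, 131072, 0, 256, 768] = true := by
  decide +kernel
/-- elements commuting with the transposition -/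
def CS : List (List ℕ) := [[2, 2, 0, 3, 3], [2, 2, 2, 0, 3, 3, 3], [3, 3, 0, 2, 2], [2, 2, 4, 3, 3], [2, 2, 2, 4, 3, 3, 3], [4, 2, 4, 3, 2, 4, 3]]
/-- words in them -/
def GU : List (List ℕ) :=
  [[], [2, 0], [2, 0], [2, 0], [2], [2, 4, 0, 2], [2, 4, 0, 2], [2, 4, 0, 2], [2], [2, 4, 0, 2], [2, 4, 0, 2], [2, 4, 0, 2], [2], [2, 4, 0, 2], [2, 4,
  0, 2], [2, 4, 0, 2], [], [2, 4, 0], [2, 4, 0], [2, 4, 0], [2, 4], [], [11], [10], [2, 4], [11, 0], [10, 6], [6], [2, 4], [10, 0], [7], [11, 7], [],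
  [2, 4, 0], [2, 4, 0], [2, 4, 0], [2, 4], [11, 7], [10, 0], [7], [2, 4], [10], [], [11], [2, 4], [6], [11, 0], [10, 6], [], [2, 4, 0], [2, 4, 0], [2,
  4, 0], [2, 4], [10, 6], [6], [11, 0], [2, 4], [7], [11, 7], [10, 0], [2, 4], [11], [10], [], [], [2, 0], [2, 0], [2, 0], [2], [4], [11, 4], [10, 4],
  [2], [4, 9], [10, 6, 4], [6, 4], [2], [4, 8], [7, 4], [11, 7, 4], [], [4, 2], [11, 4, 2], [10, 4, 2], [4, 2, 0], [], [11], [10], [11, 4, 2, 0], [11,
  0], [10, 6], [6], [10, 4, 2, 0], [10, 0], [7], [11, 7], [], [4, 9, 2], [10, 6, 4, 2], [6, 4, 2], [4, 9, 2, 0], [4], [10, 0], [7], [10, 6, 4, 2, 0],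
  [10], [], [11], [6, 4, 2, 0], [6], [11, 0], [10, 6], [], [4, 8, 2], [7, 4, 2], [11, 7, 4, 2], [4, 8, 2, 0], [4], [6], [11, 0], [7, 4, 2, 0], [7],
  [11, 7], [10, 0], [11, 7, 4, 2, 0], [11], [10], [], [], [2, 0], [2, 0], [2, 0], [2], [10, 6, 4], [6, 4], [4, 9], [2], [7, 4], [11, 7, 4], [4, 8],
  [2], [11, 4], [10, 4], [4], [], [10, 6, 4, 2], [6, 4, 2], [4, 9, 2], [10, 6, 4, 2, 0], [], [11], [10], [6, 4, 2, 0], [11, 0], [10, 6], [6], [4, 9,
  2, 0], [10, 0], [7], [4], [], [7, 4, 2], [11, 7, 4, 2], [4, 8, 2], [7, 4, 2, 0], [11, 7], [10, 0], [7], [11, 7, 4, 2, 0], [10], [], [11], [4, 8, 2,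
  0], [6], [11, 0], [4], [], [11, 4, 2], [10, 4, 2], [4, 2], [11, 4, 2, 0], [10, 6], [6], [11, 0], [10, 4, 2, 0], [7], [11, 7], [10, 0], [4, 2, 0],
  [11], [10], [], [], [2, 0], [2, 0], [2, 0], [2], [11, 7, 4], [4, 8], [7, 4], [2], [10, 4], [4], [11, 4], [2], [6, 4], [4, 9], [10, 6, 4], [], [11,
  7, 4, 2], [4, 8, 2], [7, 4, 2], [11, 7, 4, 2, 0], [], [11], [10], [4, 8, 2, 0], [11, 0], [4], [6], [7, 4, 2, 0], [10, 0], [7], [11, 7], [], [10, 4,
  2], [4, 2], [11, 4, 2], [10, 4, 2, 0], [11, 7], [10, 0], [7], [4, 2, 0], [10], [], [11], [11, 4, 2, 0], [6], [11, 0], [10, 6], [], [6, 4, 2], [4, 9,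
  2], [10, 6, 4, 2], [6, 4, 2, 0], [10, 6], [6], [11, 0], [4, 9, 2, 0], [7], [4], [10, 0], [10, 6, 4, 2, 0], [11], [10], []]
theorem CS_ok : allL (fun w => relB 8 cT (app w u1) (app u1 w)) CS = true := by decide +kernel
theorem or31 : ordB 8 cT (subs CS [6]) 3 1 = true := by decide +kernel
theorem or32 : ordB 8 cT (subs CS [0, 2]) 3 1 = true := by decide +kernel
theorem cm3 : relB 8 cT (app [2, 2] u3) (app u3 [2, 2]) = true := by decide +kernel
/-- the test for one vector -/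
noncomputable def guB (a : ℕ) : Bool := bor (Nat.beq (evw cT (subs CS [6]) a) a) (Nat.beq (evw cT (subs CS [0, 2]) a) a)
theorem GU_ok : all2 (fun i => bnd (ltB 8 (subs CS (nth [] GU i))) (guB (evw cT (subs CS (nth [] GU i)) (ap CU i)))) 8 0 = true := by
  decide +kernel

/-- search trees -/
inductive Tr
  | nil : Tr
  | nd : Tr → ℕ → Tr → Tr

/-- membership -/
noncomputable def Tr.mem (t : Tr) (a : ℕ) : Bool :=
  Tr.rec (motive := fun _ => Bool) false (fun _ k _ il ir => bor (Nat.beq a k) (Bool.rec ir il (Nat.ble a k))) t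

/-- the keys -/
noncomputable def Tr.toL (t : Tr) : List ℕ := Tr.rec (motive := fun _ => List ℕ) [] (fun _ k _ il ir => app il (k :: ir)) t

theorem Tr.mem_spec {a : ℕ} : ∀ {t : Tr}, t.mem a = true → a ∈ t.toL
  | .nil, h => by cases h
  | .nd l k r, h => by
    show a ∈ app l.toL (k :: r.toL)
    rw [app_eq, List.mem_append, List.mem_cons]
    rcases bor_iff.mp h with h | h
    · exact Or.inr (Or.inl (Nat.eq_of_beq_eq_true h))
    · cases hb : Nat.ble a k <;> rw [hb] at h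
      exacts [Or.inr (Or.inr (mem_spec h)), Or.inl (mem_spec h)]

/-- an orbit of length 891 -/
noncomputable def OT : Tr :=
  (.nd (.nd (.nd (.nd (.nd (.nd (.nd (.nd (.nd (.nd .nil 1300 .nil) 1320 (.nd .nil 1340 .nil)) 1560 (.nd (.nd .nil 1580 .nil) 1588 .nil)) 1820 (.nd
  (.nd (.nd .nil 1828 .nil) 1848 (.nd .nil 2332 .nil)) 2340 (.nd (.nd .nil 2360 .nil) 2580 .nil))) 2600 (.nd (.nd (.nd (.nd .nil 2620 .nil) 2840 (.nd
  .nil 2860 .nil)) 2868 (.nd (.nd .nil 3352 .nil) 3372 .nil)) 3380 (.nd (.nd (.nd .nil 3612 .nil) 3620 (.nd .nil 3640 .nil)) 3860 (.nd (.nd .nil 3880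
  .nil) 3900 .nil)))) 4369 (.nd (.nd (.nd (.nd (.nd .nil 4386 .nil) 4403 (.nd .nil 4626 .nil)) 4643 (.nd (.nd .nil 4657 .nil) 4883 .nil)) 4897 (.nd
  (.nd (.nd .nil 4914 .nil) 5125 (.nd .nil 5130 .nil)) 5135 (.nd (.nd .nil 6150 .nil) 6155 .nil))) 6157 (.nd (.nd (.nd (.nd .nil 7175 .nil) 7177 (.nd
  .nil 7182 .nil)) 8467 (.nd (.nd .nil 8481 .nil) 8498 .nil)) 8721 (.nd (.nd (.nd .nil 8738 .nil) 8755 (.nd .nil 8978 .nil)) 8995 (.nd (.nd .nil 9009
  .nil) 9223 .nil))))) 9225 (.nd (.nd (.nd (.nd (.nd (.nd .nil 9230 .nil) 10245 (.nd .nil 10250 .nil)) 10255 (.nd (.nd .nil 11270 .nil) 11275 .nil))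
  11277 (.nd (.nd (.nd .nil 12562 .nil) 12579 (.nd .nil 12593 .nil)) 12819 (.nd (.nd .nil 12833 .nil) 12850 .nil))) 13073 (.nd (.nd (.nd (.nd .nil
  13090 .nil) 13107 (.nd .nil 13318 .nil)) 13323 (.nd (.nd .nil 13325 .nil) 14343 .nil)) 14345 (.nd (.nd (.nd .nil 14350 .nil) 15365 (.nd .nil 15370
  .nil)) 15375 (.nd (.nd .nil 16708 .nil) 16776 .nil)))) 16844 (.nd (.nd (.nd (.nd (.nd .nil 16968 .nil) 17036 (.nd .nil 17092 .nil)) 17228 (.nd (.nd
  .nil 17284 .nil) 17352 .nil)) 17488 (.nd (.nd (.nd .nil 17568 .nil) 17648 (.nd .nil 18528 .nil)) 18608 (.nd (.nd .nil 18640 .nil) 19568 .nil)))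
  19600 (.nd (.nd (.nd (.nd .nil 19680 .nil) 33100 (.nd .nil 33156 .nil)) 33224 (.nd (.nd .nil 33348 .nil) 33416 .nil)) 33484 (.nd (.nd (.nd .nil
  33608 .nil) 33676 (.nd .nil 33732 .nil)) 33904 (.nd (.nd .nil 33936 .nil) 34016 .nil)))))) 34896 (.nd (.nd (.nd (.nd (.nd (.nd (.nd .nil 34976 .nil)
  35056 (.nd .nil 35936 .nil)) 36016 (.nd (.nd .nil 36048 .nil) 49480 .nil)) 49548 (.nd (.nd (.nd .nil 49604 .nil) 49740 (.nd .nil 49796 .nil)) 49864
  (.nd (.nd .nil 49988 .nil) 50056 .nil))) 50124 (.nd (.nd (.nd (.nd .nil 50272 .nil) 50352 (.nd .nil 50384 .nil)) 51312 (.nd (.nd .nil 51344 .nil)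
  51424 .nil)) 52304 (.nd (.nd (.nd .nil 52384 .nil) 52464 (.nd .nil 65857 .nil)) 65922 (.nd (.nd .nil 65987 .nil) 66114 .nil)))) 66179 (.nd (.nd (.nd
  (.nd (.nd .nil 66241 .nil) 66371 (.nd .nil 66433 .nil)) 66498 (.nd (.nd .nil 69712 .nil) 69792 .nil)) 69872 (.nd (.nd (.nd .nil 73824 .nil) 73904
  (.nd .nil 73936 .nil)) 77936 (.nd (.nd .nil 77968 .nil) 78048 .nil))) 81925 (.nd (.nd (.nd (.nd .nil 81930 .nil) 81935 (.nd .nil 87040 .nil)) 92160
  (.nd (.nd .nil 97280 .nil) 98310 .nil)) 98315 (.nd (.nd (.nd .nil 98317 .nil) 104448 (.nd .nil 109568 .nil)) 111616 (.nd (.nd .nil 114695 .nil)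
  114697 .nil))))) 114702 (.nd (.nd (.nd (.nd (.nd (.nd .nil 121856 .nil) 123904 (.nd .nil 129024 .nil)) 131395 (.nd (.nd .nil 131457 .nil) 131522
  .nil)) 131649 (.nd (.nd (.nd .nil 131714 .nil) 131779 (.nd .nil 131906 .nil)) 131971 (.nd (.nd .nil 132033 .nil) 135280 .nil))) 135312 (.nd (.nd
  (.nd (.nd .nil 135392 .nil) 139344 (.nd .nil 139424 .nil)) 139504 (.nd (.nd .nil 143456 .nil) 143536 .nil)) 143568 (.nd (.nd (.nd .nil 147463 .nil)
  147465 (.nd .nil 147470 .nil)) 154624 (.nd (.nd .nil 156672 .nil) 161792 .nil)))) 163845 (.nd (.nd (.nd (.nd (.nd .nil 163850 .nil) 163855 (.nd .nil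
  168960 .nil)) 174080 (.nd (.nd .nil 179200 .nil) 180230 .nil)) 180235 (.nd (.nd (.nd .nil 180237 .nil) 186368 (.nd .nil 191488 .nil)) 193536 (.nd
  (.nd .nil 196930 .nil) 196995 .nil))) 197057 (.nd (.nd (.nd (.nd .nil 197187 .nil) 197249 (.nd .nil 197314 .nil)) 197441 (.nd (.nd .nil 197506 .nil)
  197571 .nil)) 200800 (.nd (.nd (.nd .nil 200880 .nil) 200912 .nil) 204912 (.nd (.nd .nil 204944 .nil) 205024 .nil))))))) 208976 (.nd (.nd (.nd (.nd
  (.nd (.nd (.nd (.nd .nil 209056 .nil) 209136 (.nd .nil 212998 .nil)) 213003 (.nd (.nd .nil 213005 .nil) 219136 .nil)) 224256 (.nd (.nd (.nd .nil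
  226304 .nil) 229383 (.nd .nil 229385 .nil)) 229390 (.nd (.nd .nil 236544 .nil) 238592 .nil))) 243712 (.nd (.nd (.nd (.nd .nil 245765 .nil) 245770
  (.nd .nil 245775 .nil)) 250880 (.nd (.nd .nil 256000 .nil) 261120 .nil)) 263233 (.nd (.nd (.nd .nil 263298 .nil) 263363 (.nd .nil 264258 .nil))
  264323 (.nd (.nd .nil 264385 .nil) 265283 .nil)))) 265345 (.nd (.nd (.nd (.nd (.nd .nil 265410 .nil) 266308 (.nd .nil 266376 .nil)) 266444 (.nd (.nd
  .nil 270408 .nil) 270476 .nil)) 270532 (.nd (.nd (.nd .nil 274508 .nil) 274564 (.nd .nil 274632 .nil)) 278545 (.nd (.nd .nil 278562 .nil) 278579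
  .nil))) 282880 (.nd (.nd (.nd (.nd .nil 287232 .nil) 291584 (.nd .nil 294930 .nil)) 294947 (.nd (.nd .nil 294961 .nil) 299520 .nil)) 303872 (.nd
  (.nd (.nd .nil 307456 .nil) 311315 (.nd .nil 311329 .nil)) 311346 (.nd (.nd .nil 316160 .nil) 319744 .nil))))) 324096 (.nd (.nd (.nd (.nd (.nd (.nd
  .nil 327700 .nil) 327720 (.nd .nil 327740 .nil)) 328960 (.nd (.nd .nil 330240 .nil) 331520 .nil)) 351097 (.nd (.nd (.nd .nil 351134 .nil) 351207
  (.nd .nil 351853 .nil)) 351926 (.nd (.nd .nil 351963 .nil) 354166 .nil))) 354203 (.nd (.nd (.nd (.nd .nil 354285 .nil) 355678 (.nd .nil 355751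
  .nil)) 355833 (.nd (.nd .nil 357991 .nil) 358073 .nil)) 358110 (.nd (.nd (.nd .nil 358747 .nil) 358829 (.nd .nil 358902 .nil)) 366446 (.nd (.nd .nil
  366519 .nil) 366553 .nil)))) 367994 (.nd (.nd (.nd (.nd (.nd .nil 368031 .nil) 368101 (.nd .nil 370271 .nil)) 370341 (.nd (.nd .nil 370426 .nil)
  371063 .nil)) 371097 (.nd (.nd (.nd .nil 371182 .nil) 375653 (.nd .nil 375738 .nil)) 375775 (.nd (.nd .nil 376409 .nil) 376494 .nil))) 376567 (.nd
  (.nd (.nd (.nd .nil 382587 .nil) 382621 (.nd .nil 382694 .nil)) 383343 (.nd (.nd .nil 383413 .nil) 383450 .nil)) 387933 (.nd (.nd (.nd .nil 388006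
  .nil) 388091 (.nd .nil 388725 .nil)) 388762 (.nd (.nd .nil 388847 .nil) 391002 .nil)))))) 391087 (.nd (.nd (.nd (.nd (.nd (.nd (.nd .nil 391157
  .nil) 392550 (.nd .nil 392635 .nil)) 392669 (.nd (.nd .nil 393240 .nil) 393260 .nil)) 393268 (.nd (.nd (.nd .nil 394752 .nil) 396032 (.nd .nil
  396544 .nil)) 415595 (.nd (.nd .nil 415677 .nil) 415702 .nil))) 416351 (.nd (.nd (.nd (.nd .nil 416421 .nil) 416506 (.nd .nil 420221 .nil)) 420246
  (.nd (.nd .nil 420331 .nil) 421733 .nil)) 421818 (.nd (.nd (.nd .nil 421855 .nil) 423290 (.nd .nil 423327 .nil)) 423397 (.nd (.nd .nil 425558 .nil)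
  425643 .nil)))) 425725 (.nd (.nd (.nd (.nd (.nd .nil 432489 .nil) 432574 (.nd .nil 432599 .nil)) 434013 (.nd (.nd .nil 434086 .nil) 434171 .nil))
  435558 (.nd (.nd (.nd .nil 435643 .nil) 435677 (.nd .nil 437886 .nil)) 437911 (.nd (.nd .nil 437993 .nil) 440151 .nil))) 440233 (.nd (.nd (.nd (.nd
  .nil 440318 .nil) 440955 (.nd .nil 440989 .nil)) 441062 (.nd (.nd .nil 447838 .nil) 447911 .nil)) 447993 (.nd (.nd (.nd .nil 450154 .nil) 450239
  (.nd .nil 450261 .nil)) 452479 (.nd (.nd .nil 452501 .nil) 452586 .nil))))) 453223 (.nd (.nd (.nd (.nd (.nd (.nd .nil 453305 .nil) 453342 (.nd .nil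
  457045 .nil)) 457130 (.nd (.nd .nil 457215 .nil) 458617 .nil)) 458654 (.nd (.nd (.nd .nil 458727 .nil) 458780 (.nd .nil 458788 .nil)) 458808 (.nd
  (.nd .nil 460544 .nil) 461056 .nil))) 462336 (.nd (.nd (.nd (.nd .nil 480894 .nil) 480919 (.nd .nil 481001 .nil)) 483162 (.nd (.nd .nil 483247 .nil)
  483317 .nil)) 484719 (.nd (.nd (.nd .nil 484789 .nil) 484826 (.nd .nil 486231 .nil)) 486313 (.nd (.nd .nil 486398 .nil) 490101 .nil)))) 490138 (.nd
  (.nd (.nd (.nd (.nd .nil 490223 .nil) 490857 (.nd .nil 490942 .nil)) 490967 (.nd (.nd .nil 496987 .nil) 497069 .nil)) 497142 (.nd (.nd (.nd .nil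
  498559 .nil) 498581 (.nd .nil 498666 .nil)) 502381 (.nd (.nd .nil 502454 .nil) 502491 .nil))) 503125 (.nd (.nd (.nd (.nd .nil 503210 .nil) 503295
  (.nd .nil 505450 .nil)) 505535 (.nd (.nd .nil 505557 .nil) 507766 .nil)) 507803 (.nd (.nd (.nd .nil 507885 .nil) 514649 .nil) 514734 (.nd (.nd .nil
  514807 .nil) 515453 .nil)))))))) 515478 (.nd (.nd (.nd (.nd (.nd (.nd (.nd (.nd (.nd .nil 515563 .nil) 517718 (.nd .nil 517803 .nil)) 517885 (.nd
  (.nd .nil 520046 .nil) 520119 .nil)) 520153 (.nd (.nd (.nd .nil 521591 .nil) 521625 (.nd .nil 521710 .nil)) 523115 (.nd (.nd .nil 523197 .nil)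
  523222 .nil))) 525379 (.nd (.nd (.nd (.nd .nil 525441 .nil) 525506 (.nd .nil 526401 .nil)) 526466 (.nd (.nd .nil 526531 .nil) 527426 .nil)) 527491
  (.nd (.nd (.nd .nil 527553 .nil) 528460 (.nd .nil 528516 .nil)) 528584 (.nd (.nd .nil 532548 .nil) 532616 .nil)))) 532684 (.nd (.nd (.nd (.nd (.nd
  .nil 536648 .nil) 536716 (.nd .nil 536772 .nil)) 540691 (.nd (.nd .nil 540705 .nil) 540722 .nil)) 545536 (.nd (.nd (.nd .nil 549120 .nil) 553472
  (.nd .nil 557073 .nil)) 557090 (.nd (.nd .nil 557107 .nil) 561408 .nil))) 565760 (.nd (.nd (.nd (.nd .nil 570112 .nil) 573458 (.nd .nil 573475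
  .nil)) 573489 (.nd (.nd .nil 578048 .nil) 582400 .nil)) 585984 (.nd (.nd (.nd .nil 589852 .nil) 589860 (.nd .nil 589880 .nil)) 591616 (.nd (.nd .nil
  592128 .nil) 593408 .nil))))) 612983 (.nd (.nd (.nd (.nd (.nd (.nd .nil 613017 .nil) 613102 (.nd .nil 613739 .nil)) 613821 (.nd (.nd .nil 613846
  .nil) 616061 .nil)) 616086 (.nd (.nd (.nd .nil 616171 .nil) 618329 (.nd .nil 618414 .nil)) 618487 (.nd (.nd .nil 619886 .nil) 619959 .nil))) 619993
  (.nd (.nd (.nd (.nd .nil 621398 .nil) 621483 (.nd .nil 621565 .nil)) 628329 (.nd (.nd .nil 628414 .nil) 628439 .nil)) 630645 (.nd (.nd (.nd .nil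
  630682 .nil) 630767 (.nd .nil 632154 .nil)) 632239 (.nd (.nd .nil 632309 .nil) 633726 .nil)))) 633751 (.nd (.nd (.nd (.nd (.nd .nil 633833 .nil)
  637551 (.nd .nil 637621 .nil)) 637658 (.nd (.nd .nil 638295 .nil) 638377 .nil)) 638462 (.nd (.nd (.nd .nil 644470 .nil) 644507 (.nd .nil 644589
  .nil)) 645994 (.nd (.nd .nil 646079 .nil) 646101 .nil))) 649819 (.nd (.nd (.nd (.nd .nil 649901 .nil) 649974 (.nd .nil 650623 .nil)) 650645 (.nd
  (.nd .nil 650730 .nil) 652885 .nil)) 652970 (.nd (.nd (.nd .nil 653055 .nil) 655213 (.nd .nil 655286 .nil)) 655323 (.nd (.nd .nil 655380 .nil)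
  655400 .nil)))))) 655420 (.nd (.nd (.nd (.nd (.nd (.nd (.nd .nil 656640 .nil) 657920 (.nd .nil 659200 .nil)) 677478 (.nd (.nd .nil 677563 .nil)
  677597 .nil)) 678234 (.nd (.nd (.nd .nil 678319 .nil) 678389 (.nd .nil 682875 .nil)) 682909 (.nd (.nd .nil 682982 .nil) 683631 .nil))) 683701 (.nd
  (.nd (.nd (.nd .nil 683738 .nil) 685941 (.nd .nil 685978 .nil)) 686063 (.nd (.nd .nil 687453 .nil) 687526 .nil)) 687611 (.nd (.nd (.nd .nil 695143
  .nil) 695225 (.nd .nil 695262 .nil)) 695899 (.nd (.nd .nil 695981 .nil) 696054 .nil)))) 698221 (.nd (.nd (.nd (.nd (.nd .nil 698294 .nil) 698331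
  (.nd .nil 699769 .nil)) 699806 (.nd (.nd .nil 699879 .nil) 702046 .nil)) 702119 (.nd (.nd (.nd .nil 702201 .nil) 702838 (.nd .nil 702875 .nil))
  702957 (.nd (.nd .nil 710489 .nil) 710574 .nil))) 710647 (.nd (.nd (.nd (.nd .nil 712037 .nil) 712122 (.nd .nil 712159 .nil)) 714362 (.nd (.nd .nil
  714399 .nil) 714469 .nil)) 715118 (.nd (.nd (.nd .nil 715191 .nil) 715225 (.nd .nil 719711 .nil)) 719781 (.nd (.nd .nil 719866 .nil) 720503
  .nil))))) 720537 (.nd (.nd (.nd (.nd (.nd (.nd .nil 720622 .nil) 720920 (.nd .nil 720940 .nil)) 720948 (.nd (.nd .nil 722432 .nil) 723712 .nil))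
  724224 (.nd (.nd (.nd .nil 742777 .nil) 742814 (.nd .nil 742887 .nil)) 745045 (.nd (.nd .nil 745130 .nil) 745215 .nil))) 747370 (.nd (.nd (.nd (.nd
  .nil 747455 .nil) 747477 (.nd .nil 748126 .nil)) 748199 (.nd (.nd .nil 748281 .nil) 751999 .nil)) 752021 (.nd (.nd (.nd .nil 752106 .nil) 753511
  (.nd .nil 753593 .nil)) 753630 (.nd (.nd .nil 759638 .nil) 759723 .nil)))) 759805 (.nd (.nd (.nd (.nd (.nd .nil 760442 .nil) 760479 (.nd .nil 760549
  .nil)) 764267 (.nd (.nd .nil 764349 .nil) 764374 .nil)) 765791 (.nd (.nd (.nd .nil 765861 .nil) 765946 (.nd .nil 767333 .nil)) 767418 (.nd (.nd .nil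
  767455 .nil) 769661 .nil))) 769686 (.nd (.nd (.nd (.nd .nil 769771 .nil) 776535 (.nd .nil 776617 .nil)) 776702 (.nd (.nd .nil 778107 .nil) 778141
  .nil)) 778214 (.nd (.nd (.nd .nil 779613 .nil) 779686 .nil) 779771 (.nd (.nd .nil 781929 .nil) 782014 .nil))))))) 782039 (.nd (.nd (.nd (.nd (.nd
  (.nd (.nd (.nd .nil 784254 .nil) 784279 (.nd .nil 784361 .nil)) 784998 (.nd (.nd .nil 785083 .nil) 785117 .nil)) 787522 (.nd (.nd (.nd .nil 787587
  .nil) 787649 (.nd .nil 788547 .nil)) 788609 (.nd (.nd .nil 788674 .nil) 789569 .nil))) 789634 (.nd (.nd (.nd (.nd .nil 789699 .nil) 790600 (.nd .nil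
  790668 .nil)) 790724 (.nd (.nd .nil 794700 .nil) 794756 .nil)) 794824 (.nd (.nd (.nd .nil 798788 .nil) 798856 (.nd .nil 798924 .nil)) 802834 (.nd
  (.nd .nil 802851 .nil) 802865 .nil)))) 807424 (.nd (.nd (.nd (.nd (.nd .nil 811776 .nil) 815360 (.nd .nil 819219 .nil)) 819233 (.nd (.nd .nil 819250
  .nil) 824064 .nil)) 827648 (.nd (.nd (.nd .nil 832000 .nil) 835601 (.nd .nil 835618 .nil)) 835635 (.nd (.nd .nil 839936 .nil) 844288 .nil))) 848640
  (.nd (.nd (.nd (.nd .nil 851992 .nil) 852012 (.nd .nil 852020 .nil)) 853504 (.nd (.nd .nil 854784 .nil) 855296 .nil)) 874878 (.nd (.nd (.nd .nil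
  874903 .nil) 874985 (.nd .nil 876390 .nil)) 876475 (.nd (.nd .nil 876509 .nil) 877947 .nil))))) 877981 (.nd (.nd (.nd (.nd (.nd (.nd .nil 878054
  .nil) 880215 (.nd .nil 880297 .nil)) 880382 (.nd (.nd .nil 882537 .nil) 882622 .nil)) 882647 (.nd (.nd (.nd .nil 883293 .nil) 883366 (.nd .nil
  883451 .nil)) 890215 (.nd (.nd .nil 890297 .nil) 890334 .nil))) 892543 (.nd (.nd (.nd (.nd .nil 892565 .nil) 892650 (.nd .nil 894805 .nil)) 894890
  (.nd (.nd .nil 894975 .nil) 895609 .nil)) 895646 (.nd (.nd (.nd .nil 895719 .nil) 899434 (.nd .nil 899519 .nil)) 899541 (.nd (.nd .nil 900958 .nil)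
  901031 .nil)))) 901113 (.nd (.nd (.nd (.nd (.nd .nil 907133 .nil) 907158 (.nd .nil 907243 .nil)) 907877 (.nd (.nd .nil 907962 .nil) 907999 .nil))
  911702 (.nd (.nd (.nd .nil 911787 .nil) 911869 (.nd .nil 913274 .nil)) 913311 (.nd (.nd .nil 913381 .nil) 914783 .nil))) 914853 (.nd (.nd (.nd (.nd
  .nil 914938 .nil) 917099 (.nd .nil 917181 .nil)) 917206 (.nd (.nd .nil 917532 .nil) 917540 .nil)) 917560 (.nd (.nd (.nd .nil 919296 .nil) 919808
  (.nd .nil 921088 .nil)) 939373 (.nd (.nd .nil 939446 .nil) 939483 .nil)))))) 940885 (.nd (.nd (.nd (.nd (.nd (.nd (.nd .nil 940970 .nil) 941055 (.nd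
  .nil 944758 .nil)) 944795 (.nd (.nd .nil 944877 .nil) 945514 .nil)) 945599 (.nd (.nd (.nd .nil 945621 .nil) 947839 (.nd .nil 947861 .nil)) 947946
  (.nd (.nd .nil 950107 .nil) 950189 .nil))) 950262 (.nd (.nd (.nd (.nd .nil 957038 .nil) 957111 (.nd .nil 957145 .nil)) 957782 (.nd (.nd .nil 957867
  .nil) 957949 .nil)) 960107 (.nd (.nd (.nd .nil 960189 .nil) 960214 (.nd .nil 962423 .nil)) 962457 (.nd (.nd .nil 962542 .nil) 963929 .nil)))) 964014
  (.nd (.nd (.nd (.nd (.nd .nil 964087 .nil) 965501 (.nd .nil 965526 .nil)) 965611 (.nd (.nd .nil 972375 .nil) 972457 .nil)) 972542 (.nd (.nd (.nd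
  .nil 974703 .nil) 974773 (.nd .nil 974810 .nil)) 976245 (.nd (.nd .nil 976282 .nil) 976367 .nil))) 977769 (.nd (.nd (.nd (.nd .nil 977854 .nil)
  977879 (.nd .nil 981594 .nil)) 981679 (.nd (.nd .nil 981749 .nil) 982398 .nil)) 982423 (.nd (.nd (.nd .nil 982505 .nil) 983060 (.nd .nil 983080
  .nil)) 983100 (.nd (.nd .nil 984320 .nil) 985600 .nil))))) 986880 (.nd (.nd (.nd (.nd (.nd (.nd .nil 1005431 .nil) 1005465 (.nd .nil 1005550 .nil))
  1006943 (.nd (.nd .nil 1007013 .nil) 1007098 .nil)) 1009253 (.nd (.nd (.nd .nil 1009338 .nil) 1009375 (.nd .nil 1010009 .nil)) 1010094 (.nd (.nd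
  .nil 1010167 .nil) 1014650 .nil))) 1014687 (.nd (.nd (.nd (.nd .nil 1014757 .nil) 1015406 (.nd .nil 1015479 .nil)) 1015513 (.nd (.nd .nil 1021533
  .nil) 1021606 .nil)) 1021691 (.nd (.nd (.nd .nil 1022325 .nil) 1022362 (.nd .nil 1022447 .nil)) 1026918 (.nd (.nd .nil 1027003 .nil) 1027037
  .nil)))) 1027674 (.nd (.nd (.nd (.nd (.nd .nil 1027759 .nil) 1027829 (.nd .nil 1029999 .nil)) 1030069 (.nd (.nd .nil 1030106 .nil) 1031547 .nil))
  1031581 (.nd (.nd (.nd .nil 1031654 .nil) 1039198 (.nd .nil 1039271 .nil)) 1039353 (.nd (.nd .nil 1039990 .nil) 1040027 .nil))) 1040109 (.nd (.nd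
  (.nd (.nd .nil 1042267 .nil) 1042349 (.nd .nil 1042422 .nil)) 1043815 (.nd (.nd .nil 1043897 .nil) 1043934 .nil)) 1046137 (.nd (.nd (.nd .nil
  1046174 .nil) 1046247 .nil) 1046893 (.nd (.nd .nil 1046966 .nil) 1047003 .nil)))))))))

theorem OT_lt : ltB (2 ^ 20) OT.toL = true := by decide +kernel
theorem OT_ch : List.IsChain (· < ·) OT.toL := by decide +kernel
theorem OT_1 : (OT.toL.filter fun a => Nat.beq (evw cT [] a) a).length = 891 := by decide +kernel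
theorem OT_2 : (OT.toL.filter fun a => Nat.beq (evw cT u2 a) a).length = 75 := by decide +kernel
theorem OT_c0 : allL (fun a => OT.mem (ap (col cT 0) a)) OT.toL = true := by decide +kernel
theorem OT_c2 : allL (fun a => OT.mem (ap (col cT 2) a)) OT.toL = true := by decide +kernel
theorem OT_c3 : allL (fun a => OT.mem (ap (col cT 3) a)) OT.toL = true := by decide +kernel
theorem OT_c4 : allL (fun a => OT.mem (ap (col cT 4) a)) OT.toL = true := by decide +kernel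
theorem OT_c5 : allL (fun a => OT.mem (ap (col cT 5) a)) OT.toL = true := by decide +kernel
theorem OT_c6 : allL (fun a => OT.mem (ap (col cT 6) a)) OT.toL = true := by decide +kernel

theorem OT_inv {c : ℕ} (hc : c < 8) : ∀ a ∈ OT.toL, ap (col cT c) a ∈ OT.toL := fun a ha => Tr.mem_spec (by
  interval_cases c
  exacts [allL_spec OT_c0 a ha, allL_spec OT_c0 a ha, allL_spec OT_c2 a ha, allL_spec OT_c3 a ha, allL_spec OT_c4 a ha,
    allL_spec OT_c5 a ha, allL_spec OT_c6 a ha, allL_spec OT_c6 a ha])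

variable {Γ V : Type*} [Group Γ] [AddCommGroup V] [DistribMulAction Γ V]

theorem orderOf_cj (g x : Γ) : orderOf (g * x * g⁻¹) = orderOf x := (MulAut.conj g).orderOf_eq x

theorem Good.conj {u : Γ} (h : Good V u) (y : Γ) : Good V (y * u * y⁻¹) := fun v hv => by
  obtain ⟨w, x, h1, h2, h3⟩ := h (y⁻¹ • v) (by rw [eq_inv_smul_iff, ← mul_smul, ← mul_smul, hv])
  refine ⟨y • w, y * x * y⁻¹, (orderOf_cj y x).trans h1, by rw [conj_mul, conj_mul, h2], ?_⟩
  have : v + y • w + (y * u * y⁻¹) • y • w = y • (y⁻¹ • v + w + u • w) := by simp [mul_smul]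
  rw [this, mul_smul, mul_smul, inv_smul_smul, h3]

namespace Md
variable {gs : List Γ} {e : ℕ → V} (m : Md 8 gs e cT)
include m

theorem fxK_zero {K : List (List ℕ × List ℕ)} {v : V} (hv : ∀ p ∈ K, wordG gs p.1 • v = v) :
    ∀ p ∈ fxK K, sumW gs p.1 v = 0 := fun p hp => by
  obtain ⟨q, hq, rfl⟩ := of_mem_mapL hp
  rw [sumW_pair, hv q hq, m.add_self]

theorem gv {K : List (List ℕ × List ℕ)} {k : ℕ} {C Q : List ℕ} {gw : List (List ℕ)} (hc : gdB K k C Q gw = true) {v : V}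
    {g : Γ} (hv : ∀ p ∈ K, wordG gs p.1 • g • v = g • v) : ∃ x : Γ, orderOf x = 3 ∧ x • v = v := by
  obtain ⟨h1, h3⟩ := bnd_iff.mp hc
  obtain ⟨h1, h2⟩ := bnd_iff.mp h1
  obtain ⟨i, hi, w, hw⟩ := m.cert h1 (m.fxK_zero hv)
  rw [sumW_nil, add_zero] at hw
  obtain ⟨h4, h5⟩ := bnd_iff.mp (all2_spec h3 i hi)
  have h6 := m.wordB h4 _ (ap_lt (ltB_spec h2) i)
  have h7 := (m.wordB (w := [2, 2]) (by decide +kernel) _ h6.1).2
  rw [Nat.eq_of_beq_eq_true h5, ← h6.2, ← hw, ← mul_smul _ g] at h7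
  refine ⟨_, (orderOf_cj (wordG gs (nth [] gw i) * g)⁻¹ _).trans (m.ord (by norm_num) or3), ?_⟩
  rw [inv_inv, mul_smul, mul_smul, h7, inv_smul_smul]

theorem gd (h : Gen gs) (hV : Nat.card V = 2 ^ 20) (v : V) : ∃ x : Γ, orderOf x = 3 ∧ x • v = v := by
  have : Finite Γ := Nat.finite_of_card_ne_zero (by rw [h.card]; norm_num)
  have : Finite V := Nat.finite_of_card_ne_zero (by rw [hV]; norm_num)
  have ho : Nat.card (⊤ : Subgroup Γ) = 9196830720 := Subgroup.card_top.trans h.card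
  by_contra hn
  have key : ∀ p, p.Prime → p ∣ Nat.card (stabilizer Γ v) → ∃ y : Γ, orderOf y = p ∧ y • v = v := fun p hp hd => by
    have := Fact.mk hp
    obtain ⟨y, hy⟩ := exists_prime_orderOf_dvd_card' p hd
    exact ⟨y, (Subgroup.orderOf_coe y).trans hy, y.2⟩
  have kp : ∀ {p k : ℕ} {w M C Q : List ℕ} {gw : List (List ℕ)}, p.Prime → (9196830720).factorization p = 1 →
      ordB 8 cT w p 1 = true → gdB [(w, M)] k C Q gw = true → ¬ p ∣ Nat.card (stabilizer Γ v) := by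
    intro p k w M C Q gw hp hk h1 h2 hd
    obtain ⟨y, hy, hv⟩ := key p hp hd
    obtain ⟨g, -, hg⟩ := exists_conj_le hp ho hk (H := Subgroup.zpowers y) (by rw [Nat.card_zpowers, hy, pow_one]) le_top
      (isPGroup_zpowers hp (z := wordG gs w) (by rw [← m.ord hp h1, pow_orderOf_eq_one])) le_top
    have h3 : (g * wordG gs w * g⁻¹) • v = v :=
      Subgroup.zpowers_le_of_mem (show y ∈ stabilizer Γ v from hv) (hg _ (Subgroup.mem_zpowers _))
    exact hn (m.gv h2 (g := g⁻¹) fun q hq => by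
      rw [List.mem_singleton.mp hq, eq_inv_smul_iff, ← mul_smul, ← mul_smul, h3])
  have h3 : ¬ 3 ∣ Nat.card (stabilizer Γ v) := fun hd => hn (key 3 (by norm_num) hd)
  have h5 := kp (by norm_num) (by decide +kernel) or5 gd5
  have h7 := kp (by norm_num) (by decide +kernel) or7 gd7
  have h11 := kp (by norm_num) (by decide +kernel) or11 gd11
  have hd : Nat.card (stabilizer Γ v) ∣ 2 ^ 15 := by
    have h0 : Nat.card (stabilizer Γ v) ∣ 2 ^ 15 * 3 ^ 6 * 5 * 7 * 11 := by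
      have := Subgroup.card_subgroup_dvd_card (stabilizer Γ v)
      rwa [h.card] at this
    have cp : ∀ {p}, p.Prime → ¬ p ∣ Nat.card (stabilizer Γ v) → (Nat.card (stabilizer Γ v)).Coprime p := fun hp hd =>
      ((Nat.Prime.coprime_iff_not_dvd hp).mpr hd).symm
    exact ((cp (by norm_num) h3).pow_right 6).dvd_of_dvd_mul_right ((cp (by norm_num) h5).dvd_of_dvd_mul_right
      ((cp (by norm_num) h7).dvd_of_dvd_mul_right ((cp (by norm_num) h11).dvd_of_dvd_mul_right h0)))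
  obtain ⟨a, ha, hS⟩ := (Nat.dvd_prime_pow Nat.prime_two).mp hd
  have h14 : 14 ≤ a := by
    have h1 := (stabilizer Γ v).card_mul_index
    have h2 : (stabilizer Γ v).index ≤ 2 ^ 20 := by rw [index_stabilizer, ← hV]; exact Set.ncard_le_card _
    rw [hS, h.card] at h1
    by_contra h4
    have := Nat.mul_le_mul (Nat.pow_le_pow_right (by norm_num : 2 > 0) (show a ≤ 13 by omega)) h2
    omega
  obtain ⟨T, hT, hL⟩ := h.syl
  obtain ⟨g, -, hg⟩ := exists_conj_le Nat.prime_two ho (by decide +kernel) hT le_top (IsPGroup.of_card hS) le_top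
  have hle : stabilizer Γ (g • v) ≤ T := by
    rw [stabilizer_smul_eq_stabilizer_map_conj]
    rintro _ ⟨x, hx, rfl⟩
    exact hg x hx
  have hc : Nat.card ((stabilizer Γ (g • v)).subgroupOf T) = 2 ^ a := by
    rw [Nat.card_congr (Subgroup.subgroupOfEquivOfLe hle).toEquiv, stabilizer_smul_eq_stabilizer_map_conj,
      Subgroup.card_map_of_injective (MulAut.conj g).injective, hS]
  have hi := ((stabilizer Γ (g • v)).subgroupOf T).card_mul_index
  rw [hc, hT] at hi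
  refine hn (m.gv gd2 (g := g) fun p hp => ?_)
  obtain ⟨w, hw, h1⟩ := K2_ok p hp
  rw [h1, wordG_app]
  obtain rfl | rfl : a = 14 ∨ a = 15 := by omega
  · exact Subgroup.mul_self_mem_of_index_two (H := (stabilizer Γ (g • v)).subgroupOf T) (by omega) ⟨_, hL w hw⟩
  · exact Subgroup.subgroupOf_eq_top.mp (Subgroup.index_eq_one.mp (show ((stabilizer Γ (g • v)).subgroupOf T).index = 1 by omega))
      (T.mul_mem (hL w hw) (hL w hw))

theorem fix_le {u M C Q : List ℕ} (hc : certB 8 cT (fxK [(u, M)]) [] 14 C Q [] = true) (y : Γ) :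
    Nat.card (fixedBy V (y * wordG gs u * y⁻¹)) ≤ 2 ^ 14 := by
  have : ∀ v : fixedBy V (y * wordG gs u * y⁻¹), ∃ i : Fin (2 ^ 14), y⁻¹ • v.1 = e (ap C i) := fun v => by
    obtain ⟨i, hi, w, hw⟩ := m.cert hc (v := y⁻¹ • v.1) (m.fxK_zero fun p hp => by
      rw [List.mem_singleton.mp hp, eq_inv_smul_iff, ← mul_smul, ← mul_smul]; exact v.2)
    exact ⟨⟨i, hi⟩, by rwa [sumW_nil, add_zero] at hw⟩
  choose f hf using this
  rw [← Nat.card_fin (2 ^ 14)]
  exact Nat.card_le_card_of_injective f fun a b hab =>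
    Subtype.ext (smul_left_cancel y⁻¹ (by rw [hf, hf, hab]))

theorem good1 : Good V (wordG gs u1) := fun v hv => by
  obtain ⟨i, hi, w, hw⟩ := m.cert qu1 (m.fxK_zero fun p hp => by rw [List.mem_singleton.mp hp]; exact hv)
  rw [sumW_pair, ← add_assoc] at hw
  obtain ⟨h1, h2⟩ := bnd_iff.mp (all2_spec GU_ok i hi)
  have h3 := m.wordB h1 _ (ap_lt (l := CU) (by decide) i)
  have hc : ∀ w, wordG gs (subs CS w) ∈ Subgroup.centralizer {wordG gs u1} := subs_mem fun s hs => by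
    have := m.rel (allL_spec CS_ok s hs)
    rw [wordG_app, wordG_app] at this
    exact Subgroup.mem_centralizer_singleton_iff.mpr this
  have key : ∀ x, ordB 8 cT (subs CS x) 3 1 = true → Nat.beq (evw cT (subs CS x) (evw cT (subs CS (nth [] GU i)) (ap CU i)))
      (evw cT (subs CS (nth [] GU i)) (ap CU i)) = true → ∃ (w : V) (x : Γ), orderOf x = 3 ∧ x * wordG gs u1 = wordG gs u1 * x ∧
        x • (v + w + wordG gs u1 • w) = v + w + wordG gs u1 • w := fun x h4 h5 => by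
    have h6 := (m.wordB (bnd_iff.mp (bnd_iff.mp (bnd_iff.mp h4).2).1).1 _ h3.1).2
    rw [Nat.eq_of_beq_eq_true h5, ← h3.2, ← hw] at h6
    exact ⟨w, _, (orderOf_cj (wordG gs (subs CS (nth [] GU i)))⁻¹ _).trans (m.ord (by norm_num) h4),
      Subgroup.mem_centralizer_singleton_iff.mp (mul_mem (mul_mem (inv_mem (hc _)) (hc _)) (inv_mem (inv_mem (hc _)))),
      by rw [inv_inv, mul_smul, mul_smul, h6, inv_smul_smul]⟩
  exact (bor_iff.mp h2).elim (key _ or31) (key _ or32)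

theorem good3 : Good V (wordG gs u3) := fun v hv => by
  obtain ⟨i, -, w, hw⟩ := m.cert qu3 (m.fxK_zero fun p hp => by rw [List.mem_singleton.mp hp]; exact hv)
  rw [sumW_pair, ← add_assoc, ap_nil, m.add.zero] at hw
  have := m.rel cm3
  rw [wordG_app, wordG_app] at this
  exact ⟨w, _, m.ord (by norm_num) or3, this, by rw [hw, smul_zero]⟩

/-- The orbit of length 891. -/
def om (h : Gen gs) : SubMulAction Γ V where
  carrier := {v | ∃ a ∈ OT.toL, e a = v}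
  smul_mem' g := by
    have a : ∀ c < 8, ∀ {v : V}, (∃ a ∈ OT.toL, e a = v) → ∃ a ∈ OT.toL, e a = letG gs c • v := by
      rintro c hc _ ⟨a, ha, rfl⟩
      exact ⟨_, OT_inv hc a ha, (m.act c hc a (ltB_spec OT_lt a ha)).2.symm⟩
    have hg : g ∈ subW gs [[0], [2], [4], [6]] := h.top ▸ trivial
    induction hg using Subgroup.closure_induction'' with
    | mem x hx =>
      obtain ⟨w, hw, rfl⟩ := hx
      simp only [List.mem_cons, List.not_mem_nil, or_false] at hw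
      rcases hw with rfl | rfl | rfl | rfl <;> rw [wordG_cons, wordG_nil, mul_one] <;> intro v hv
      exacts [a 0 (by norm_num) hv, a 2 (by norm_num) hv, a 4 (by norm_num) hv, a 6 (by norm_num) hv]
    | inv_mem x hx =>
      obtain ⟨w, hw, rfl⟩ := hx
      simp only [List.mem_cons, List.not_mem_nil, or_false] at hw
      rcases hw with rfl | rfl | rfl | rfl <;> rw [wordG_cons, wordG_nil, mul_one] <;> intro v hv
      exacts [a 1 (by norm_num) hv, a 3 (by norm_num) hv, a 5 (by norm_num) hv, a 7 (by norm_num) hv]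
    | one => intro v hv; rwa [one_smul]
    | mul x y _ _ hx hy => intro v hv; rw [mul_smul]; exact hx (hy hv)

theorem card_fix (h : Gen gs) {w : List ℕ} (hw : ltB 8 w = true) (y : Γ) :
    Nat.card (fixedBy (m.om h) (y * wordG gs w * y⁻¹)) = (OT.toL.filter fun a => Nat.beq (evw cT w a) a).length := by
  have hn : OT.toL.Nodup := (List.isChain_iff_pairwise.mp OT_ch).imp ne_of_lt
  rw [← smul_fixedBy, Set.natCard_smul_set, ← List.toFinset_card_of_nodup (hn.filter _), ← Nat.card_eq_finsetCard]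
  have a : ∀ a : (OT.toL.filter fun a => Nat.beq (evw cT w a) a).toFinset, a.1 ∈ OT.toL ∧ evw cT w a = a := fun a =>
    (List.mem_filter.mp (List.mem_toFinset.mp a.2)).imp_right Nat.eq_of_beq_eq_true
  have a' : ∀ b : (OT.toL.filter fun a => Nat.beq (evw cT w a) a).toFinset, wordG gs w • e b.1 = e b.1 := fun b => by
    rw [(m.wordB hw _ (ltB_spec OT_lt _ (a b).1)).2, (a b).2]
  refine (Nat.card_eq_of_bijective (fun b => ⟨⟨e b.1, b.1, (a b).1, rfl⟩, Subtype.ext (a' b)⟩) ⟨fun b c hb => ?_, ?_⟩).symm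
  · exact Subtype.ext (m.eq (ltB_spec OT_lt _ (a b).1) (ltB_spec OT_lt _ (a c).1) (congrArg (·.1.1) hb))
  · rintro ⟨⟨_, b, hb, rfl⟩, hv⟩
    have h1 := m.wordB hw _ (ltB_spec OT_lt _ hb)
    have h2 : wordG gs w • e b = e b := congrArg Subtype.val hv
    refine ⟨⟨b, List.mem_toFinset.mpr (List.mem_filter.mpr ⟨hb, ?_⟩)⟩, rfl⟩
    rw [m.eq h1.1 (ltB_spec OT_lt _ hb) (h1.2.symm.trans h2)]
    exact Nat.beq_refl b

theorem modF (h : Gen gs) (hV : Nat.card V = 2 ^ 20) : ModF Γ V := by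
  have cl : ∀ u : Γ, u ≠ 1 → u * u = 1 → ∃ y : Γ, y * wordG gs u1 * y⁻¹ = u ∨ y * wordG gs u2 * y⁻¹ = u ∨
      y * wordG gs u3 * y⁻¹ = u := fun u h1 h2 => by
    obtain ⟨r, hr, y, -, h3⟩ := h.cls u trivial (by rw [pow_two, h2])
    simp only [List.mem_cons, List.not_mem_nil, or_false] at hr
    rcases hr with rfl | rfl | rfl | rfl
    exacts [absurd (by simpa using h3.symm) h1, ⟨y, Or.inl h3⟩, ⟨y, Or.inr (Or.inl h3)⟩, ⟨y, Or.inr (Or.inr h3)⟩]
  refine ⟨m.gd h hV, fun u h1 h2 => ?_, fun R h1 h2 => ?_⟩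
  · obtain ⟨y, rfl | rfl | rfl⟩ := cl u h1 h2
    exacts [m.fix_le fxu1 y, m.fix_le fxu2 y, m.fix_le fxu3 y]
  classical
  have : Finite Γ := Nat.finite_of_card_ne_zero (by rw [h.card]; norm_num)
  have : Finite V := Nat.finite_of_card_ne_zero (by rw [hV]; norm_num)
  have := Fintype.ofFinite R
  have := Fintype.ofFinite (orbitRel.Quotient R (m.om h))
  have hf : ∀ r : R, Fintype (fixedBy (m.om h) r) := fun _ => Fintype.ofFinite _
  have hb := sum_card_fixedBy_eq_card_orbits_mul_card_group R (m.om h)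
  have hr : ∀ r : R, Fintype.card (fixedBy (m.om h) r) = 75 + if r = 1 then 816 else 0 := fun r => by
    rw [← Nat.card_eq_fintype_card]
    show Nat.card (fixedBy (m.om h) (r : Γ)) = _
    split_ifs with h3
    · have := m.card_fix h (w := []) rfl 1
      rw [OT_1, wordG_nil, mul_one, mul_inv_cancel] at this
      rw [h3]; exact this
    · have h4 : (r : Γ) ≠ 1 := fun e => h3 (Subtype.ext e)
      obtain ⟨y, h5 | h5 | h5⟩ := cl r h4 (h1 r r.2)
      · exact absurd (h5 ▸ m.good1.conj y) (h2 r r.2 h4)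
      · rw [← h5, m.card_fix h (by decide +kernel), OT_2]
      · exact absurd (h5 ▸ m.good3.conj y) (h2 r r.2 h4)
  simp only [hr, Finset.sum_add_distrib, Finset.sum_const, Finset.card_univ, smul_eq_mul, Finset.sum_ite_eq',
    Finset.mem_univ, if_true] at hb
  have hd : Nat.card R ∣ 816 := by
    rw [Nat.card_eq_fintype_card]
    exact (Nat.dvd_add_right (Dvd.intro _ rfl)).mp (hb ▸ Dvd.intro_left _ rfl)
  obtain ⟨a, ha⟩ := IsPGroup.iff_card.mp (show IsPGroup 2 R from fun r => ⟨1, Subtype.ext (by simpa [pow_two] using h1 r r.2)⟩)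
  rw [ha] at hd ⊢
  exact Nat.le_of_dvd (by norm_num) (((by norm_num : Nat.Coprime 2 51).pow_left a).dvd_of_dvd_mul_right hd)

end Md

universe u in
theorem modThm : ModThm.{u} := fun _ _ _ _ _ hU hV h2 hf =>
  let ⟨_, _, h, m⟩ := hU.exists_md hV h2 hf
  m.modF h hV

end CL.E20
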