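/-
Project E20: the subgroup of order `2^20` is strongly closed, hence normal.
-/
import Cfsg.Agent.Spor.E20Defs
import Cfsg.Agent.Grp.Factor
import Cfsg.Agent.Grp.CoresPi
import Cfsg.Agent.S2775

set_option autoImplicit false

namespace CL.E20

open Cfsg Subgroup CL.Inv.SE CL.J4.Gu

variable {X : Type*} [Group X] [Finite X] {A H H₀ : Subgroup X}

/-- The conjugate of a subgroup. -/
abbrev cA (A : Subgroup X) (g : X) : Subgroup X := A.map (MulAut.conj g).toMonoidHom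

omit [Finite X] in
theorem card_cA (A : Subgroup X) (g : X) : Nat.card (cA A g) = Nat.card A :=
  card_map_of_injective (MulAut.conj g).injective

omit [Finite X] in
theorem card_cA_inf (U V : Subgroup X) (g : X) : Nat.card (cA U g⁻¹ ⊓ V :) = Nat.card (U ⊓ cA V g :) := by
  rw [← card_cA (U ⊓ cA V g) g⁻¹]
  congr 2
  ext x
  simp only [mem_inf, mem_map_conj, inv_inv, mul_assoc, inv_mul_cancel_left, inv_mul_cancel, mul_one]

namespace Dat

variable (h : Dat A H H₀)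
include h

omit [Finite X] in
theorem le : A ≤ H := h.norm ▸ le_normalizer

omit [Finite X] in
theorem conj {g a : X} (hg : g ∈ H) (ha : a ∈ A) : g * a * g⁻¹ ∈ A :=
  (mem_normalizer_iff.1 (h.norm ▸ hg) a).1 ha

theorem mem {g : X} (hg : ∀ a ∈ A, g * a * g⁻¹ ∈ A) : g ∈ H := h.norm ▸ mem_normalizer_fintype hg

omit [Finite X] in
theorem two : IsPGroup 2 A := fun a => ⟨1, Subtype.ext (by rw [pow_one, pow_two]; exact h.sq a a.2)⟩

omit [Finite X] in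
theorem ccomm (g : X) : ∀ a ∈ cA A g, ∀ b ∈ cA A g, a * b = b * a := by
  rintro _ ⟨a, ha, rfl⟩ _ ⟨b, hb, rfl⟩
  rw [← map_mul, ← map_mul, h.comm a ha b hb]

omit [Finite X] in
theorem csq (g : X) : ∀ a ∈ cA A g, a * a = 1 := by
  rintro _ ⟨a, ha, rfl⟩
  rw [← map_mul, h.sq a ha, map_one]

omit [Finite X] in
theorem three (g u : X) (hu : u ∈ H) (h3 : orderOf u = 3) (hg : g * u * g⁻¹ ∈ H) : g ∈ H := by
  by_contra e
  refine h.se g e ?_
  have := Subgroup.orderOf_dvd_natCard (H ⊓ H.map (MulAut.conj g).toMonoidHom) (x := g * u * g⁻¹) ⟨hg, u, hu, rfl⟩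
  rwa [show orderOf (g * u * g⁻¹) = 3 from (MulAut.conj g).orderOf_eq u ▸ h3] at this

theorem good {g t : X} (ht : t ∈ cA A g) (hd : Gd H t) : t ∈ A := by
  obtain ⟨e, he, rfl⟩ := ht
  change g * e * g⁻¹ ∈ A
  have hz : ∀ u : X, orderOf u = 3 → IsPGroup 3 (zpowers u) := fun u hu =>
    IsPGroup.of_card (n := 1) (by rw [Nat.card_zpowers, hu, pow_one])
  obtain ⟨u, a1, a2, a3⟩ : Gd H (g * e * g⁻¹) := hd
  obtain ⟨u', b1, b2, b3⟩ := h.gd e he
  obtain ⟨P, hP, c1⟩ := Fus.exists_sylIn_le (Y := centralizer {g * e * g⁻¹}) (hz u a2)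
    (zpowers_le.2 (mem_centralizer_singleton_iff.2 a3))
  obtain ⟨c, c2, c3⟩ := hP.exists_conj_le (hz (g * u' * g⁻¹) ((MulAut.conj g).orderOf_eq u' ▸ b2))
    (zpowers_le.2 (mem_centralizer_singleton_iff.2 (by rw [conj_mul, conj_mul, b3])))
  have c4 := h.three (c * g) u' b1 b2 (se_climb hP.isPGroup
    (fun n hn => h.three n u a1 a2 (hn u ⟨c1 (mem_zpowers u), a1⟩))
    (by simpa [mul_assoc] using c3 _ (mem_zpowers _)))
  have c5 := h.conj c4 he
  rwa [show c * g * e * (c * g)⁻¹ = c * (g * e * g⁻¹) * c⁻¹ by group, mem_centralizer_singleton_iff.1 c2,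
    mul_inv_cancel_right] at c5

theorem bound {g : X} {B : Subgroup X} (h1 : B ≤ cA A g) (h2 : B ≤ H) :
    Nat.card B ≤ 32 * Nat.card (B ⊓ A :) ∧ (2 * Nat.card (B ⊓ A :) < Nat.card B → ∃ t ∈ B, t ∈ H₀ ∧ t ∉ A) := by
  have a1 := se_idx (A := B) (J := H₀) fun a ha b hb => h.idx a (h2 ha) b (h2 hb)
  have a2 := h.pure (B ⊓ H₀) (inf_le_left.trans h2) inf_le_right (fun r hr => h.csq g r (h1 hr.1))
    fun r hr hA hd => hA (h.good (h1 hr.1) hd)
  have a3 : Nat.card (B ⊓ H₀ ⊓ A :) ≤ Nat.card (B ⊓ A :) := card_le_of_le (inf_le_inf_right _ inf_le_left)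
  refine ⟨by omega, fun hlt => by_contra fun e => ?_⟩
  have a4 : Nat.card (B ⊓ H₀ :) ≤ Nat.card (B ⊓ A :) :=
    card_le_of_le fun t ht => ⟨ht.1, by_contra fun k => e ⟨t, ht.1, ht.2, k⟩⟩
  omega

theorem weak {g : X} (hg : ∀ a ∈ A, g * a * g⁻¹ ∈ H) : g ∈ H := h.mem fun a ha => by
  by_contra ht
  have hle : cA A g ≤ H := by rintro _ ⟨a, ha, rfl⟩; exact hg a ha
  have k : ∀ t ∈ cA A g, Nat.card (cA A g ⊓ A :) ≤ Nat.card (A ⊓ centralizer {t} :) := fun t ht =>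
    card_le_of_le fun b hb => ⟨hb.2, mem_centralizer_singleton_iff.2 (h.ccomm g b hb.1 t ht)⟩
  obtain ⟨b1, b2⟩ := h.bound le_rfl hle
  rw [card_cA, h.card] at b1 b2
  have a1 := (k _ ⟨a, ha, rfl⟩).trans (h.c1 _ (hg a ha) ht (h.csq g _ ⟨a, ha, rfl⟩))
  obtain ⟨t, t1, t2, t3⟩ := b2 (by omega)
  have a2 := (k t t1).trans (h.c0 t (hle t1) t2 t3 (h.csq g t t1))
  omega

theorem key {g t : X} (hmax : ∀ g', (∃ t ∈ cA A g', t ∈ H ∧ t ∉ A) →
      Nat.card (A ⊓ cA A g' :) ≤ Nat.card (A ⊓ cA A g :)) (tg : t ∈ cA A g) (tH : t ∈ H) (tA : t ∉ A) :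
    ∃ (g' : X) (B : Subgroup X), B ≤ cA A g' ∧ B ≤ H ∧ Nat.card (A ⊓ cA A g :) ≤ Nat.card (A ⊓ cA A g' :) ∧
      Nat.card (B ⊓ A :) ≤ Nat.card (A ⊓ cA A g :) ∧
      Nat.card (A ⊓ cA A g :) * 2 ^ 20 ≤ Nat.card B * Nat.card (A ⊓ centralizer {t} :) := by
  have t2 := h.csq g t tg
  have hi : ∀ a ∈ A, a⁻¹ = a := fun a ha => inv_eq_of_mul_eq_one_right (h.sq a ha)
  have ht : t⁻¹ = t := inv_eq_of_mul_eq_one_right t2
  let ψ : A →* A := MonoidHom.mk' (fun v => ⟨v * (t * v * t⁻¹), mul_mem v.2 (h.conj tH v.2)⟩) fun a b => Subtype.ext (by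
    change (a : X) * b * (t * (a * b) * t⁻¹) = a * (t * a * t⁻¹) * (b * (t * b * t⁻¹))
    rw [mul_assoc (a : X) (_ * _), ← mul_assoc (t * a * t⁻¹), h.comm _ (h.conj tH a.2) _ b.2]; group)
  have hψ : ∀ v : A, (ψ v : X) = v * t * (v : X)⁻¹ * t⁻¹ := fun v => by
    rw [hi _ v.2]; change (v : X) * (t * v * t⁻¹) = _; group
  set C := A ⊓ centralizer {t}
  set D := A ⊓ cA A g
  have hk : ψ.ker = C.subgroupOf A := Subgroup.ext fun v => by
    rw [MonoidHom.mem_ker, Subtype.ext_iff, hψ, mem_subgroupOf, mem_inf, mem_centralizer_singleton_iff, coe_one,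
      mul_inv_eq_one, mul_inv_eq_iff_eq_mul, and_iff_right v.2]
  have hr : ψ.range ≤ C.subgroupOf A := by
    rintro _ ⟨v, rfl⟩
    refine ⟨(ψ v).2, mem_centralizer_singleton_iff.2 ?_⟩
    change (v : X) * (t * v * t⁻¹) * t = t * (v * (t * v * t⁻¹))
    rw [h.comm _ v.2 _ (h.conj tH v.2), ht]
    calc t * v * t * v * t = t * (v * (t * v * t⁻¹)) := by rw [ht]; group
      _ = _ := by rw [h.comm _ v.2 _ (h.conj tH v.2), ht]
  have hC : Nat.card (C.subgroupOf A) = Nat.card C := Nat.card_congr (subgroupOfEquivOfLe inf_le_left).toEquiv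
  have hD : Nat.card (D.subgroupOf A) = Nat.card D := Nat.card_congr (subgroupOfEquivOfLe inf_le_left).toEquiv
  have DC : D ≤ C := fun b hb => ⟨hb.1, mem_centralizer_singleton_iff.2 (h.ccomm g _ hb.2 _ tg)⟩
  have h4 := ψ.ker.card_mul_index
  rw [index_ker, hk, hC, h.card] at h4
  have h5 := CL.Grp.card_mul_card_le_of_le (subgroupOf_mono A DC) hr
  rw [hC, hD] at h5
  have h6 := se_card_comap ψ (K := D.subgroupOf A ⊓ ψ.range) inf_le_right
  rw [hk, hC] at h6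
  obtain ⟨A₁, a1, a2, a3⟩ : ∃ A₁ ≤ A, Nat.card D * 2 ^ 20 ≤ Nat.card A₁ * Nat.card C ∧
      ∀ a ∈ A₁, a * t * a⁻¹ * t⁻¹ ∈ D := by
    refine ⟨((D.subgroupOf A ⊓ ψ.range).comap ψ).map A.subtype, map_subtype_le _, ?_, ?_⟩
    · rw [card_subtype, h6, ← h4]
      nlinarith
    · rintro _ ⟨a, ha, rfl⟩
      exact hψ a ▸ ha.1
  have hT : D ⊔ zpowers t ≤ cA A g := sup_le inf_le_right (zpowers_le.2 tg)
  obtain ⟨S, hS, b1⟩ := Fus.exists_sylIn_le (Y := normalizer (D ⊔ zpowers t : Subgroup X)) (h.two.to_le a1)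
    (le_normalizer_iff.2 fun a ha => show D ⊔ zpowers t ≤ (D ⊔ zpowers t).comap (MulAut.conj a).toMonoidHom from
      sup_le (fun b hb => mem_sup_left (show a * b * a⁻¹ ∈ D by rwa [h.comm a (a1 ha) b hb.1, mul_inv_cancel_right]))
        (zpowers_le.2 (show a * t * a⁻¹ ∈ _ by
          simpa using mul_mem (mem_sup_left (a3 a ha)) (mem_sup_right (mem_zpowers t)))))
  obtain ⟨n, b2, b3⟩ := hS.exists_conj_le (h.two.map (MulAut.conj g).toMonoidHom)
    (le_normalizer_iff.2 fun a ha k hk => by rwa [h.ccomm g a ha k (hT hk), mul_inv_cancel_right])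
  have b4 : D ⊔ zpowers t ≤ cA A (n * g) := fun x hx => (mem_map_conj _ _ _).2 (by
    simpa [mul_assoc] using (mem_map_conj _ _ _).1 (hT ((mem_normalizer_iff''.1 b2 x).1 hx)))
  have b5 : cA S (n * g)⁻¹ ≤ H :=
    se_climb (hS.isPGroup.map _) fun k hk => h.weak fun a ha => hk a ⟨(mem_map_conj _ _ _).2 (by
      simpa [mul_assoc] using b3 _ ⟨a, ha, rfl⟩), h.le ha⟩
  have b6 := hmax (n * g) ⟨t, b4 (mem_sup_right (mem_zpowers t)), tH, tA⟩
  refine ⟨(n * g)⁻¹, cA A₁ (n * g)⁻¹, map_mono a1, (map_mono b1).trans b5, ?_, ?_, by rwa [card_cA]⟩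
  · rw [inf_comm A, card_cA_inf]
    exact card_le_of_le (le_inf inf_le_left (le_sup_left.trans b4))
  · rw [card_cA_inf]
    exact (card_le_of_le (inf_le_inf_right _ a1)).trans b6

theorem sc : ∀ a ∈ A, ∀ g : X, g * a * g⁻¹ ∈ H → g * a * g⁻¹ ∈ A := by
  by_contra! hne
  obtain ⟨g, ⟨t, tg, tH, tA⟩, hmax⟩ := Set.exists_max_image {g : X | ∃ t ∈ cA A g, t ∈ H ∧ t ∉ A}
    (fun g => Nat.card (A ⊓ cA A g :)) (Set.toFinite _) (let ⟨e, he, g, k⟩ := hne; ⟨g, _, ⟨e, he, rfl⟩, k⟩)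
  obtain ⟨g', B, b1, b2, b3, b4, b5⟩ := h.key hmax tg tH tA
  have p0 : 0 < Nat.card (A ⊓ cA A g :) := Nat.card_pos
  have c1 := Nat.mul_le_mul_left (Nat.card B) (h.c1 t tH tA (h.csq g t tg))
  obtain ⟨t', t1, t2, t3⟩ := (h.bound b1 b2).2 (by omega)
  obtain ⟨g'', B', d1, d2, -, d4, d5⟩ := h.key (g := g') (fun k hk => (hmax k hk).trans b3) (b1 t1) (b2 t1) t3
  have c0 := Nat.mul_le_mul_left (Nat.card B') (h.c0 t' (b2 t1) t2 t3 (h.csq g' t' (b1 t1)))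
  have := (h.bound d1 d2).1
  omega

theorem top (hO : oddCore X = ⊥) : H = ⊤ := by
  obtain ⟨S, hS⟩ := h.two.exists_le_sylow
  have SH : (S : Subgroup X) ≤ H := se_climb S.isPGroup' fun n hn => h.mem fun e he =>
    h.sc e he n (hn e ⟨hS he, h.le he⟩)
  set K := normalClosure (A : Set X) with hK
  have AK : A ≤ K := le_normalClosure
  have hO' : pPrimeCore 2 K = ⊥ :=
    CL.Grp.pPrimeCore_eq_bot_of_isSubnormal (inferInstance : K.Normal).isSubnormal hO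
  obtain ⟨-, -, ⟨T, T1, T2⟩, -⟩ := Cfsg.Agent.S2775.result S A
    ⟨⟨fun a b => Subtype.ext (h.comm _ a.2 _ b.2)⟩⟩ ⟨hS, fun a ha g hg => h.sc a ha g (SH hg)⟩ K hK K (MonoidHom.id K)
    Function.surjective_id (by rw [hO', MonoidHom.ker_id])
  rw [map_id] at T1 T2
  have T3 : ∀ x ∈ (T : Subgroup K), x * x = 1 → (x : X) ∈ A := fun x hx e => by
    have : x ∈ pCore 2 K ⊔ omegaOne 2 (T : Subgroup K) := mem_sup_right (subset_closure ⟨hx, by rw [pow_two, e]⟩)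
    rwa [← T2] at this
  have T4 : (T : Subgroup K).map K.subtype ≤ K ⊓ H := by
    rintro _ ⟨x, hx, rfl⟩
    refine ⟨x.2, h.mem fun a ha => ?_⟩
    have k : (⟨a, AK ha⟩ : K) ∈ (T : Subgroup K) := T1 ha
    refine T3 (x * ⟨a, AK ha⟩ * x⁻¹) (mul_mem (mul_mem hx k) (inv_mem hx)) ?_
    rw [conj_mul, show (⟨a, AK ha⟩ : K) * ⟨a, AK ha⟩ = 1 from Subtype.ext (h.sq a ha), mul_one, mul_inv_cancel]
  have hM : K ⊓ H = A := by
    refine (h.inv (K ⊓ H) (le_inf AK h.le) inf_le_right fun g hg m hm =>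
      ⟨(inferInstance : K.Normal).conj_mem m hm.1 g, H.mul_mem (H.mul_mem hg hm.2) (H.inv_mem hg)⟩).resolve_right ?_
    rintro ⟨t, t1, t2, t3⟩
    obtain ⟨y, y1, y2⟩ := ((Fus.sylIn_map_subtype T).mono T4 inf_le_left).exists_conj_le (Z := zpowers t)
      (fun a => ⟨1, Subtype.ext (by
        obtain ⟨_, k, rfl⟩ := a
        change (t ^ k) ^ 2 ^ 1 = 1
        rw [pow_one, ← zpow_natCast, ← zpow_mul, mul_comm, zpow_mul, zpow_natCast, pow_two, t3, one_zpow])⟩)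
      (zpowers_le.2 t1)
    obtain ⟨x, hx, e⟩ := y2 t (mem_zpowers t)
    have e : (x : X) = y * t * y⁻¹ := e
    have := h.conj (inv_mem y1.2) (T3 x hx (Subtype.ext (by rw [coe_mul, e, conj_mul, t3]; simp)))
    exact t2 (by simpa [e, mul_assoc] using this)
  have T5 : ∀ x ∈ (T : Subgroup K), (x : X) ∈ A := fun x hx => hM ▸ T4 ⟨x, hx, rfl⟩
  have hP : normalizer (T : Set K) ≤ centralizer (T : Set K) := fun n hn => mem_centralizer_iff.2 fun x hx => by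
    have : (n : X) ∈ A := hM ▸ ⟨n.2, h.mem fun a ha =>
      T5 (n * ⟨a, AK ha⟩ * n⁻¹) ((mem_normalizer_iff.1 hn _).1 (T1 ha))⟩
    exact Subtype.ext (h.comm _ (T5 x hx) _ this)
  have hc := MonoidHom.ker_transferSylow_isComplement' T hP
  have hk := CL.Grp.le_pPrimeCore_of_not_dvd (MonoidHom.not_dvd_card_ker_transferSylow T hP)
  rw [hO', le_bot_iff] at hk
  rw [hk, isComplement'_bot_left] at hc
  refine eq_top_iff.2 fun g _ => h.mem fun a ha => ?_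
  exact T5 ⟨_, (inferInstance : K.Normal).conj_mem a (AK ha) g⟩ (hc ▸ mem_top _)

end Dat

end CL.E20
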