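/-
Centralisers `2^{1+20}.U₆(2).X` with `X ≤ S₃` (job E6S, after helper9's project), part D: definitions and the
statements of the steps.
-/
import Cfsg.Agent.Spor.RecF4
import Cfsg.Agent.Spor.U6B
import Cfsg.Agent.Spor.IN1

set_option autoImplicit false

namespace CL.E6S

open Subgroup CL.Even CL.Grp CL.Uni CL.Rec CL.IN Cfsg Module

universe u

abbrev V20 : Type := Fin 20 → ZMod 2

abbrev SU6 : Type := SUG B6

/-- the transvection with centre `v` -/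
noncomputable abbrev ta (v : V6) : SU6 := tau herm6 v

/-- the image of a subspace -/
abbrev im (g : SU6) (W : Submodule K4 V6) : Submodule K4 V6 := W.map (g.1 : V6 →ₗ[K4] V6)

/-- a totally isotropic plane -/
def Pl (W : Submodule K4 V6) : Prop := finrank K4 W = 3 ∧ ∀ u ∈ W, ∀ v ∈ W, B6 u v = 0

/-- a hyperbolic pair -/
def Hy (p p' : V6) : Prop := Iso p ∧ Iso p' ∧ B6 p p' ≠ 0

/-- the same point -/
def Pr (u v : V6) : Prop := ∃ c : K4, c ≠ 0 ∧ u = c • v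

/-- three orthogonal hyperbolic pairs -/
structure Fr (p p' : Fin 3 → V6) : Prop where
  hy : ∀ i, Hy (p i) (p' i)
  pp : ∀ i j, B6 (p i) (p j) = 0
  pq : ∀ i j, i ≠ j → B6 (p i) (p' j) = 0
  qq : ∀ i j, B6 (p' i) (p' j) = 0

/-- the codes of the centres of the nodes -/
def cd : Nd → ℕ
  | .a => 9 | .b1 => 85 | .c1 => 144 | .d1 => 80 | .b2 => 1285 | .c2 => 2304 | .d2 => 1280 | _ => 5

/-- the centres of the nodes: `b3 ↦ e₀+e₁`, `a ↦ e₀+ωe₁`, `d1 ↦ e₂+e₃`, `c1 ↦ e₂+ωe₃`, `d2 ↦ e₄+e₅`, `c2 ↦ e₄+ωe₅`,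
`b1 ↦ e₀+e₁+e₂+e₃`, `b2 ↦ e₀+e₁+e₄+e₅` -/
def vc (n : Nd) : V6 := dec (cd n)

/-- the standard frame -/
def sp : Fin 3 → V6 := ![vc .b3, vc .d1, vc .d2]

/-- the standard frame -/
def sp' : Fin 3 → V6 := ![vc .a, vc .c1, vc .c2]

/-- the group generated by the transvections with centre in `W` -/
noncomputable def AS (W : Submodule K4 V6) : Subgroup SU6 := closure {g | ∃ v ∈ W, Iso v ∧ g = ta v}

/-- `g` is the diagonal matrix with entries `ω ^ a j` -/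
def IsDg (a : Fin 6 → ZMod 3) (g : SU6) : Prop := ∑ j, a j = 0 ∧ ∀ v j, g.1 v j = K4.w ^ (a j).val * v j

/-- Transitivity statements. -/
structure UW : Prop where
  plT : ∀ W W', Pl W → Pl W' → ∃ g, im g W = W'
  plP : ∀ W W' p, Pl W → Pl W' → p ∈ W → p ∈ W' → p ≠ 0 → ∃ g : SU6, Pr (g.1 p) p ∧ im g W = W'
  plS : ∀ W p p', Pl W → p ∈ W → p' ∈ W → p ≠ 0 → p' ≠ 0 → ∃ g : SU6, im g W = W ∧ Pr (g.1 (g.1 p)) p'
  plO : ∀ W p p', Pl W → Iso p → Iso p' → p ∉ W → p' ∉ W → ∃ g : SU6, im g W = W ∧ Pr (g.1 p) p'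
  plD : ∀ W X W' X', Pl W → Pl X → Pl W' → Pl X' → W ⊓ X = ⊥ → W' ⊓ X' = ⊥ → ∃ g, im g W = W' ∧ im g X = X'
  frT : ∀ p p' r r', Fr p p' → Fr r r' → ∃ g : SU6, ∀ i, Pr (g.1 (p i)) (r i) ∧ Pr (g.1 (p' i)) (r' i)
  ptT : ∀ p p', Iso p → Iso p' → ∃ g : SU6, g.1 p = p'
  ptS : ∀ p v v', Iso p → Iso v → Iso v' → ¬ Pr v p → ¬ Pr v' p → (B6 p v = 0 ↔ B6 p v' = 0) →
    ∃ g : SU6, g.1 p = p ∧ Pr (g.1 v) v'

/-- Existence statements. -/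
structure UE : Prop where
  std : Fr sp sp'
  fr1 : ∀ p p', Hy p p' → ∃ r r', Fr r r' ∧ r 0 = p ∧ r' 0 = p'
  fr2 : ∀ p p' s s', Hy p p' → Hy s s' → B6 p s = 0 → B6 p s' = 0 → B6 p' s = 0 → B6 p' s' = 0 →
    ∃ r r', Fr r r' ∧ r 0 = p ∧ r' 0 = p' ∧ r 1 = s ∧ r' 1 = s'
  fr3 : ∀ p p' s s', Hy p p' → Iso s → Iso s' → B6 p s = 0 → B6 p s' = 0 → B6 p' s = 0 → B6 p' s' = 0 →
    B6 s s' = 0 → ¬ Pr s s' → ∃ r r', Fr r r' ∧ r 0 = p ∧ r' 0 = p' ∧ r 1 = s ∧ r 2 = s'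
  fr4 : ∀ p : Fin 3 → V6, LinearIndependent K4 p → (∀ i j, B6 (p i) (p j) = 0) → ∃ p', Fr p p'
  plE : ∀ X : Submodule K4 V6, (∀ u ∈ X, ∀ v ∈ X, B6 u v = 0) → ∃ W, Pl W ∧ X ≤ W
  plM : ∀ W v, Pl W → (∀ w ∈ W, B6 w v = 0) → v ∈ W
  sep : ∀ p s, Iso p → Iso s → B6 p s = 0 → ¬ Pr p s → ∃ v, Iso v ∧ B6 p v = 0 ∧ B6 s v ≠ 0
  cube : ∃ W : Fin 3 → Submodule K4 V6, (∀ i, Pl (W i)) ∧ (∀ i j, i ≠ j → finrank K4 ↥(W i ⊓ W j) = 1) ∧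
    ∀ i j k, i ≠ j → j ≠ k → i ≠ k → ∃ X, Pl X ∧ finrank K4 ↥(X ⊓ W i) = 2 ∧ (X ⊓ W j = ⊥ ↔ X ⊓ W k ≠ ⊥)

/-- Involutions and the groups `AS W`. -/
structure UP : Prop where
  inv1 : ∀ g : SU6, g * g = 1 → g ≠ 1 → ∃ p p', Hy p p' ∧ (ta p * g).1 p = p ∧ (ta p * g).1 p' = p' ∧
    ta p * g * (ta p * g) = 1
  inv2 : ∀ (g : SU6) p p', g * g = 1 → g ≠ 1 → Hy p p' → g.1 p = p → g.1 p' = p' → ∃ s s', Hy s s' ∧ B6 p s = 0 ∧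
    B6 p s' = 0 ∧ B6 p' s = 0 ∧ B6 p' s' = 0 ∧ (ta s * g).1 s = s ∧ (ta s * g).1 s' = s'
  inv3 : ∀ g : SU6, g * g = 1 → ∃ W, Pl W ∧
    g ∈ closure {k | ∃ s ∈ W, Iso s ∧ (∀ v, g.1 v = v → B6 v s = 0) ∧ k = ta s}
  memAS : ∀ W (g : SU6), Pl W → (g ∈ AS W ↔ ∀ w ∈ W, g.1 w = w)
  cardAS : ∀ W, Pl W → Nat.card (AS W) ≤ 512
  orb : ∀ W W', Pl W → Pl W' → W ⊓ W' ≠ ⊥ → {X | ∃ g ∈ AS W, X = im g W'}.ncard ≤ 16

section
variable {Γ : Type u} [Group Γ] (ι : SU6 →* Γ)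

/-- the transvection with centre `v` -/
noncomputable def τ (v : V6) : Γ := ι (ta v)

/-- the group generated by the transvections with centre in `W` -/
noncomputable def AW (W : Submodule K4 V6) : Subgroup Γ := (AS W).map ι

/-- `γ` is induced by the semilinear isometry `f` -/
structure Rp (γ : Γ) (s : K4 →+* K4) (f : V6 → V6) : Prop where
  add : ∀ u v, f (u + v) = f u + f v
  smul : ∀ (c : K4) v, f (c • v) = s c • f v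
  iso : ∀ u v, B6 (f u) (f v) = s (B6 u v)
  act : ∀ v, Iso v → γ * τ ι v * γ⁻¹ = τ ι (f v)

/-- `Γ` lies between `U₆(2)` and its automorphism group. -/
structure UA : Prop where
  fin : Finite Γ
  ker : ∀ g, ι g = 1 ↔ ∃ c : K4, ∀ v, g.1 v = c • v
  cen : ∀ γ, (∀ g, Commute γ (ι g)) → γ = 1
  exists_rp : ∀ γ, ∃ s f, Rp ι γ s f ∧ (s = RingHom.id K4 ∨ s = K4.bar)

/-- counting and generation -/
structure UC : Prop where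
  card : Nat.card ι.range = 9196830720
  cnt : ∀ p, Iso p → {γ | ∃ v, Iso v ∧ B6 p v ≠ 0 ∧ γ = τ ι v}.ncard ≤ 512
  gen : ∀ p p', Iso p → Iso p' → τ ι p ≠ τ ι p' → centralizer {τ ι p} ⊔ centralizer {τ ι p'} = ⊤
  cen : ∀ γ p p', γ ^ 4 = 1 → Hy p p' → Commute γ (τ ι p) → Commute γ (τ ι p') →
    (∀ s, Iso s → B6 p s = 0 → B6 p' s = 0 → Commute γ (τ ι s)) → γ = 1

/-- a 2-group fixes a plane -/
def U1a : Prop := ∀ A : Subgroup Γ, IsPGroup 2 A → ∃ W, Pl W ∧ ∀ a ∈ A, cj a (AW ι W) = AW ι W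

/-- elementary abelian subgroups of maximal order -/
def U1b : Prop := ∀ (A : Subgroup Γ) W, Pl W → (∀ a ∈ A, cj a (AW ι W) = AW ι W) → (∀ a ∈ A, a * a = 1) →
  512 ≤ Nat.card A → A = AW ι W

/-- outer involutions -/
def U6 : Prop := ∀ γ, γ ∉ ι.range → γ * γ = 1 → ∃ p p', Fr p p' ∧
  ((∀ i, Commute γ (τ ι (p i)) ∧ Commute γ (τ ι (p' i))) ∨
    ((∀ i, γ * (τ ι (p i) * τ ι (p' i)) * γ = (τ ι (p i) * τ ι (p' i))⁻¹) ∧
      ∃ s, Iso s ∧ Commute γ (τ ι s) ∧ τ ι s ∈ ⁅centralizer ({γ} : Set Γ), centralizer ({γ} : Set Γ)⁆))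

/-- the edges of `E₇` on `a b1 b2 b3 c1 c2 d1` -/
def e7 : List (Fin 7 × Fin 7) := [(0, 1), (0, 2), (0, 3), (1, 4), (2, 5), (4, 6)]

/-- the centre of `W(E₇)` -/
def U8 : Prop := ∀ v : Fin 7 → V6, (∀ i, Iso (v i)) → (∀ i j, B6 (v i) (v j) ≠ 0 ↔ (i, j) ∈ e7 ∨ (j, i) ∈ e7) →
  (τ ι (v 0) * τ ι (v 1) * τ ι (v 2) * τ ι (v 3) * τ ι (v 4) * τ ι (v 5) * τ ι (v 6)) ^ 9 = 1

/-- a translation of the affine Weyl group of the hexagon -/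
def xL : List (Fin 6) := [1, 0, 3, 2, 1, 0, 4, 3, 2, 5, 0, 1, 4, 3, 2, 1, 0, 5, 0, 1, 4, 3, 2, 1, 0, 5, 0, 1, 4, 3, 2, 1,
  5, 0, 1, 4, 3, 2, 5, 0, 4, 5]

/-- the hexagon -/
def U9 : Prop := ∀ v : Fin 6 → V6, (∀ i, Iso (v i)) → (∀ i j, B6 (v i) (v j) ≠ 0 ↔ j = i + 1 ∨ i = j + 1) →
  ¬ Commute (τ ι (v 5)) ((([0, 1, 2, 3, 4, 3, 2, 1, 0] : List (Fin 6)).map fun i => τ ι (v i)).prod) →
  (xL.map fun i => τ ι (v i)).prod = 1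

variable (ρ : Γ →* Module.End (ZMod 2) V20) (B : LinearMap.BilinForm (ZMod 2) V20) (q : V20 → ZMod 2)

/-- A faithful orthogonal module. -/
structure OM : Prop where
  hq : ∀ v w, q (v + w) = q v + q w + B v w
  hN : ∀ r, (∀ y, B r y = 0) → r = 0
  inv : ∀ γ v, q (ρ γ v) = q v
  faith : ∀ γ, (∀ v, ρ γ v = v) → γ = 1

/-- the weight space of the diagonal group -/
def US (S : Finset (Fin 6)) : Submodule (ZMod 2) V20 where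
  carrier := {v | ∀ a g, IsDg a g → ∑ j ∈ S, a j = 0 → ρ (ι g) v = v}
  zero_mem' := fun _ _ _ _ => map_zero _
  add_mem' := fun h1 h2 a g h h' => by rw [map_add, h1 a g h h', h2 a g h h']
  smul_mem' := fun c _ h1 a g h h' => by rw [map_smul, h1 a g h h']

/-- The weights of the diagonal group. -/
structure WT : Prop where
  ex : ∀ a : Fin 6 → ZMod 3, ∑ j, a j = 0 → ∃ g, IsDg a g
  card : ∀ S : Finset (Fin 6), S.card = 3 → Nat.card (US ι ρ S) = 4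
  span : ∀ v, ∃ f : Finset (Fin 6) → V20, (∀ S, f S ∈ US ι ρ S) ∧
    v = ∑ S ∈ Finset.univ.filter fun S : Finset (Fin 6) => S.card = 3 ∧ 0 ∈ S, f S
  fix : ∀ v, (∀ a g, IsDg a g → ρ (ι g) v = v) → v = 0

/-- the element of order three of the `i`-th pair of a frame -/
noncomputable abbrev tf (p p' : Fin 3 → V6) (i : Fin 3) : Γ := τ ι (p i) * τ ι (p' i)

/-- the permutation `(2 4)(3 5)` -/
noncomputable def ϖ : Γ := τ ι (dec 272) * τ ι (dec 1088)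

structure MA : Prop where
  fix1 : ∀ p p' v, Hy p p' → ρ (τ ι p * τ ι p') v = v → ρ (τ ι p) v = v
  cnt1 : ∀ p p', Hy p p' → Nat.card {v // ρ (τ ι p * τ ι p') v = v} ≤ 256
  cnt2 : ∀ p p', Fr p p' → Nat.card {v // ρ (tf ι p p' 0) v = v ∧ ρ (tf ι p p' 1) v = v} ≤ 16
  fr0 : ∀ p p' v, Fr p p' → (∀ i, ρ (tf ι p p' i) v = v) → v = 0
  mg : ∃ v, (∀ n ∈ ([.d1, .c1, .d2, .c2] : List Nd), ρ (τ ι (vc n)) v = v) ∧
    ρ (ϖ ι) (v + ρ (τ ι (vc .b3)) v) ≠ v + ρ (τ ι (vc .b3)) v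

structure MB : Prop where
  irr : ∀ U : Submodule (ZMod 2) V20, (∀ g, ∀ v ∈ U, ρ (ι g) v ∈ U) → U = ⊥ ∨ U = ⊤
  q8 : ∀ p p', Fr p p' → ∃ v w, q v = 1 ∧ q w = 1 ∧ q (v + w) = 1 ∧
    ∀ γ, γ * γ = 1 → (∀ i, Commute γ (tf ι p p' i)) → ρ γ v = v ∧ ρ γ w = w

structure MC : Prop where
  idx : ∀ p, Iso p → 64 * Nat.card {v // ρ (τ ι p) v = v} ≤ 2 ^ 20
  rank : ∀ a ∈ ι.range, a * a = 1 → a ≠ 1 → 2 ^ 20 ≤ 64 * Nat.card {v // ρ a v = v} → ∃ p, Iso p ∧ a = τ ι p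
  free : ∀ p p' a v, Fr p p' → a * a = 1 → (∀ i, a * tf ι p p' i * a = (tf ι p p' i)⁻¹) → ρ a v = v →
    ∃ w, v = w + ρ a w
  cen : ∀ γ p p', γ ^ 4 = 1 → Hy p p' → Commute γ (τ ι p) → Commute γ (τ ι p') →
    (∀ v, ρ (τ ι p * τ ι p') v = v → ρ γ v = v) → γ = 1

/-- `v` is the pure vector of the plane `W` -/
def PV (W : Submodule K4 V6) (v : V20) : Prop := v ≠ 0 ∧ ∀ a ∈ AW ι W, ρ a v = v

/-- the pure vector of one plane -/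
structure P0 (W : Submodule K4 V6) (v : V20) : Prop where
  pl : Pl W
  pv : PV ι ρ W v
  uniq : ∀ v', PV ι ρ W v' → v' = v
  q0 : q v = 0
  inj : ∀ b, B b v ≠ 0 → ∀ a ∈ AW ι W, ρ a b = b → a = 1

/-- pure vectors -/
structure PA : Prop where
  ex : ∀ W, Pl W → ∃ v, P0 ι ρ B q W v
  im : ∀ W v g, Pl W → PV ι ρ W v → PV ι ρ (im g W) (ρ (ι g) v)
  line : ∀ W W' v p, Pl W → Pl W' → PV ι ρ W v → Iso p → p ∉ W → p ∈ W' → (∀ w ∈ W, B6 p w = 0 → w ∈ W') →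
    PV ι ρ W' (v + ρ (τ ι p) v)
  inj : ∀ W W' v, Pl W → Pl W' → PV ι ρ W v → PV ι ρ W' v → W = W'
  perp : ∀ W W' v v', Pl W → Pl W' → PV ι ρ W v → PV ι ρ W' v' → (B v v' = 0 ↔ W ⊓ W' ≠ ⊥)

structure PB : Prop where
  sum : ∀ W W' W'' v v', Pl W → Pl W' → Pl W'' → PV ι ρ W v → PV ι ρ W' v' → PV ι ρ W'' (v + v') →
    finrank K4 ↥(W ⊓ W') = 2
  col : ∀ W W' v v', Pl W → Pl W' → PV ι ρ W v → PV ι ρ W' v' → finrank K4 ↥(W ⊓ W') = 2 →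
    ∃ a ∈ AW ι W, ∃ w, B w v = 0 ∧ v' = w + ρ a w
  far : ∀ W W' v v', Pl W → Pl W' → PV ι ρ W v → PV ι ρ W' v' → finrank K4 ↥(W ⊓ W') = 1 →
    ∃ X u, Pl X ∧ PV ι ρ X u ∧ finrank K4 ↥(W ⊓ X) = 2 ∧ B u v' ≠ 0
  orb : ∀ W W' v', Pl W → Pl W' → W ⊓ W' ≠ ⊥ → PV ι ρ W' v' → {u | ∃ a ∈ AW ι W, u = ρ a v'}.ncard ≤ 16

end

/-- The data: `D` is the class of the involution, `Q x`, `r x`, `π x` belong to the centraliser of `x ∈ D`. -/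
structure Dat (G Γ : Type u) [Group G] [Group Γ] where
  D : Set G
  Q : G → Subgroup G
  r : G → G → Γ
  π : G → G → V20
  ι : SU6 →* Γ
  ρ : Γ →* Module.End (ZMod 2) V20
  B : LinearMap.BilinForm (ZMod 2) V20
  q : V20 → ZMod 2

namespace Dat

variable {G Γ : Type u} [Group G] [Group Γ] (S : Dat G Γ)

/-- The setting. -/
structure St : Prop where
  fin : Finite G
  ua : UA S.ι
  om : OM S.ρ S.B S.q
  conj : ∀ {x}, x ∈ S.D → ∀ g, g * x * g⁻¹ ∈ S.D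
  cls : ∀ {x y}, x ∈ S.D → y ∈ S.D → ∃ g, g * x * g⁻¹ = y
  xe : ∀ {x}, x ∈ S.D → XE x (S.Q x)
  card : ∀ {x}, x ∈ S.D → Nat.card (S.Q x) = 2 ^ 21
  Qc : ∀ {x}, x ∈ S.D → ∀ g, S.Q (g * x * g⁻¹) = cj g (S.Q x)
  r_mul : ∀ {x a b}, x ∈ S.D → Commute a x → Commute b x → S.r x (a * b) = S.r x a * S.r x b
  r_ker : ∀ {x c}, x ∈ S.D → Commute c x → (S.r x c = 1 ↔ c ∈ S.Q x)
  r_surj : ∀ {x}, x ∈ S.D → ∀ γ, ∃ c, Commute c x ∧ S.r x c = γ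
  π_mul : ∀ {x a b}, x ∈ S.D → a ∈ S.Q x → b ∈ S.Q x → S.π x (a * b) = S.π x a + S.π x b
  π_surj : ∀ {x}, x ∈ S.D → ∀ v, ∃ a ∈ S.Q x, S.π x a = v
  π_zero : ∀ {x a}, x ∈ S.D → a ∈ S.Q x → (S.π x a = 0 ↔ a = 1 ∨ a = x)
  q_zero : ∀ {x a}, x ∈ S.D → a ∈ S.Q x → (S.q (S.π x a) = 0 ↔ a * a = 1)
  B_zero : ∀ {x a b}, x ∈ S.D → a ∈ S.Q x → b ∈ S.Q x → (S.B (S.π x a) (S.π x b) = 0 ↔ Commute a b)
  ρ_π : ∀ {x c a}, x ∈ S.D → Commute c x → a ∈ S.Q x → S.ρ (S.r x c) (S.π x a) = S.π x (c * a * c⁻¹)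
  nwc : ∃ x ∈ S.D, ∃ y ∈ S.D, y ∈ S.Q x ∧ y ≠ x

/-- a symplectic pair -/
def Sy (u v : G) : Prop := u ∈ S.D ∧ v ∈ S.D ∧ Commute u v ∧ v ∉ S.Q u ∧ ∃ x ∈ S.D, u ∈ S.Q x ∧ v ∈ S.Q x

/-- an opposite pair -/
def OP (u v : G) : Prop := u ∈ S.D ∧ v ∈ S.D ∧ (u * v) ^ 3 = 1 ∧ u ≠ v ∧
  ∃ y y', S.Sy u y ∧ S.Sy v y ∧ S.Sy u y' ∧ S.Sy v y' ∧ y * y' ∉ S.Q u

/-- `C(u, v)` is a complement to `Q u` in `C(u)` -/
structure Ch (u v : G) : Prop where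
  op : S.OP u v
  inj : ∀ c, Commute c u → Commute c v → c ∈ S.Q u → c = 1
  surj : ∀ γ, ∃ c, Commute c u ∧ Commute c v ∧ S.r u c = γ
  tv : ∀ c p, Commute c u → Commute c v → Iso p → S.r u c = τ S.ι p → S.Sy u c ∧ S.Sy v c

/-- connected in the graph of collinear pairs -/
def Cn (u v : G) : Prop := Relation.ReflTransGen (fun a b => b ∈ S.D ∧ b ∈ S.Q a) u v

/-- neighbours and planes -/
def L1 : Prop := ∀ z x, z ∈ S.D → x ∈ S.D → x ∈ S.Q z → x ≠ z → ∃ W, P0 S.ι S.ρ S.B S.q W (S.π z x) ∧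
  ∀ γ, γ ∈ AW S.ι W ↔ ∃ y ∈ S.Q x, Commute y z ∧ S.r z y = γ

/-- consequences for pure vectors -/
structure LA : Prop where
  pure : ∀ z a W, z ∈ S.D → a ∈ S.Q z → Pl W → PV S.ι S.ρ W (S.π z a) → a ∈ S.D ∧ a ≠ z ∧
    ∀ γ, γ ∈ AW S.ι W ↔ ∃ y ∈ S.Q a, Commute y z ∧ S.r z y = γ
  col : ∀ z a b W W', z ∈ S.D → a ∈ S.Q z → b ∈ S.Q z → Pl W → Pl W' → PV S.ι S.ρ W (S.π z a) →
    PV S.ι S.ρ W' (S.π z b) → (b ∈ S.Q a ↔ 2 ≤ finrank K4 ↥(W ⊓ W'))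
  tr : ∀ z a b, z ∈ S.D → a ∈ S.D → b ∈ S.D → a ∈ S.Q z → b ∈ S.Q z → a ≠ z → b ≠ z →
    ∃ c, Commute c z ∧ S.r z c ∈ S.ι.range ∧ c * a * c⁻¹ = b
  tri : ∃ z l m, S.Sy z l ∧ S.Sy z m ∧ S.Sy l m ∧ l * m ∉ S.Q z ∧ z * m ∉ S.Q l

/-- symplectic pairs -/
structure LB : Prop where
  tv : ∀ z l, S.Sy z l → ∃ p, Iso p ∧ S.r z l = τ S.ι p
  fix : ∀ z l y, S.Sy z l → y ∈ S.Q z → S.ρ (S.r z l) (S.π z y) = S.π z y → Commute y l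
  card : ∀ z l, S.Sy z l → 2 ^ 15 ≤ Nat.card (S.Q z ⊓ centralizer ({l} : Set G) : Subgroup G)
  notD : ∀ z l, S.Sy z l → l * z ∉ S.D
  cnj : ∀ z l l', S.Sy z l → S.Sy z l' → S.r z l = S.r z l' → ∃ y ∈ S.Q z, y * l * y⁻¹ = l'
  lift : ∀ z l γ, S.Sy z l → Commute γ (S.r z l) → ∃ c, Commute c z ∧ Commute c l ∧ S.r z c = γ

/-- pairs with product of order three -/
def L5 : Prop := ∀ z l l', S.Sy z l → S.Sy z l' → (l * l') ^ 3 = 1 → l ≠ l' → ∀ y ∈ S.Q l, Commute y l' → y = 1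

def LC : Prop := ∀ u v, S.OP u v → S.Ch u v

def L7 : Prop := ∃ u v, S.OP u v

structure L8 : Prop where
  pl : ∀ z z' W, S.Ch z z' → Pl W → ∃ x ∈ S.D, x ∈ S.Q z ∧
    ∀ c, Commute c z → Commute c z' → S.r z c ∈ AW S.ι W → c ∈ S.Q x
  sy : ∀ z z' y y', S.Ch z z' → S.Sy z y → S.Sy z y' → Commute y z' → Commute y' z' → y ≠ y' → Commute y y' →
    S.Sy y y'
  op : ∀ z z' y y', S.Ch z z' → S.Sy z y → S.Sy z y' → Commute y z' → Commute y' z' → ¬ Commute y y' → S.OP y y'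

/-- background: unitary group and module -/
structure B1 : Prop extends S.St where
  uw : UW
  ue : UE
  up : UP
  uc : UC S.ι
  ma : MA S.ι S.ρ
  mb : MB S.ι S.ρ S.q
  mc : MC S.ι S.ρ

/-- background: pure vectors -/
structure B2 : Prop extends S.B1 where
  l1 : S.L1
  pa : PA S.ι S.ρ S.B S.q
  pb : PB S.ι S.ρ S.B

/-- background: symplectic pairs -/
structure B3 : Prop extends S.B2 where
  la : S.LA
  lb : S.LB

/-- background: charts -/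
structure B4 : Prop extends S.B3 where
  lc : S.LC
  l7 : S.L7
  l8 : S.L8

/-- the nodes that lie in the complement -/
abbrev I7 : List Nd := [.a, .b1, .c1, .d1, .b2, .c2, .d2]

/-- the ten nodes -/
abbrev I10 : List Nd := [.a, .b1, .c1, .d1, .b2, .c2, .d2, .b3, .c3, .d3]

/-- the choice of the nodes -/
structure Nds (k : Nd → G) (l e : G) : Prop where
  ch : S.Ch (k .d3) (k .c3)
  cz : ∀ n ∈ I7, Commute (k n) (k .d3)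
  cz' : ∀ n ∈ I7, Commute (k n) (k .c3)
  rn : ∀ n ∈ I7, S.r (k .d3) (k n) = τ S.ι (vc n)
  lz : Commute l (k .d3)
  lz' : Commute l (k .c3)
  rl : S.r (k .d3) l = τ S.ι (vc .b3)
  eQ : e ∈ S.Q (k .d3)
  b3 : k .b3 = e * l * e⁻¹
  ce : ∀ n ∈ ([.d1, .c1, .d2, .c2] : List Nd), Commute e (k n)
  mg : S.ρ (ϖ S.ι) (S.π (k .d3) e + S.ρ (τ S.ι (vc .b3)) (S.π (k .d3) e)) ≠
    S.π (k .d3) e + S.ρ (τ S.ι (vc .b3)) (S.π (k .d3) e)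
  f2 : k .f2 = 1
  f3 : k .f3 = 1

/-- the relations of the diagram -/
structure Cx (k : Nd → G) : Prop where
  sy : ∀ m ∈ I10, ∀ n ∈ I10, Spor.coxLabel Spor.Bimonster.edges m n = 2 → S.Sy (k m) (k n)
  op : ∀ m ∈ I10, ∀ n ∈ I10, Spor.coxLabel Spor.Bimonster.edges m n = 3 → S.OP (k m) (k n)

/-- involutions with inner image -/
def FI : Prop := ∀ z u, z ∈ S.D → u ∈ S.D → Commute u z → S.r z u ∈ S.ι.range → S.Cn z u

/-- all commuting conjugates -/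
def FO : Prop := ∀ z u, z ∈ S.D → u ∈ S.D → Commute u z → S.Cn z u

/-- the subgroup `²E₆(2)` -/
structure EN (z : G) (G₀ : Subgroup G) : Prop where
  zD : z ∈ S.D
  mem : z ∈ G₀
  le : G₀ ≤ closure S.D
  cen : ∀ c, Commute c z → (c ∈ G₀ ↔ S.r z c ∈ S.ι.range)
  tr : ∀ u, S.Cn z u → ∃ g ∈ G₀, g * z * g⁻¹ = u
  card : Nat.card G₀ = 76532479683774853939200

end Dat

/-! ### words -/

section
variable {G : Type u} [Group G]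

/-- the value of a word -/
def wd (k : Nd → G) (l : List Nd) : G := (l.map k).prod

/-- the reflection in the highest root of `E₆ = ⟨c1, b1, a, b2, c2, b3⟩` -/
def thL : List Nd := [.b3, .a, .b1, .c1, .b2, .a, .b1, .c2, .b2, .a, .b3, .a, .b2, .c2, .b1, .a, .b2, .c1, .b1, .a, .b3]

/-- the reflection in the highest root of `D₅ = ⟨c3, b3, a, b1, b2⟩` -/
def xiL : List Nd := [.b3, .a, .b1, .b2, .a, .b3, .c3, .b3, .a, .b2, .b1, .a, .b3]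

/-- the reflection in the highest root of `A₅ = ⟨c1, b1, a, b2, c2⟩` -/
def s5L : List Nd := [.c1, .b1, .a, .b2, .c2, .b2, .a, .b1, .c1]

/-- the longest element of `A₅` -/
def w5L : List Nd := [.a, .c1, .c2, .b1, .b2, .a, .c1, .c2, .b1, .b2, .a, .c1, .c2, .b1, .b2]

/-- the hexagon -/
def hex (k : Nd → G) : Fin 6 → G := ![k .c1, k .b1, k .a, k .b2, k .c2, wd k xiL]

/-- the Coxeter relations of `Y₃₃₃` -/
def Cox (k : Nd → G) : Prop :=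
  ∀ m ∈ Dat.I10, ∀ n ∈ Dat.I10, (k m * k n) ^ Spor.coxLabel Spor.Bimonster.edges m n = 1

/-- identities in the Coxeter group -/
structure WD (k : Nd → G) : Prop where
  th2 : wd k thL * wd k thL = 1
  thc : ∀ n ∈ ([.c1, .b1, .a, .b2, .c2] : List Nd), Commute (wd k thL) (k n)
  thb : BM.Br (wd k thL) (k .b3)
  w0 : Commute (wd k thL * wd k w5L) (k .b3)
  xi2 : wd k xiL * wd k xiL = 1
  xic : ∀ n ∈ ([.c3, .b1, .a, .b2] : List Nd), Commute (wd k xiL) (k n)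
  xit : Commute (wd k xiL) (wd k thL)
  xib : BM.Br (wd k xiL) (k .c1) ∧ BM.Br (wd k xiL) (k .c2)
  cnj : ∃ w, w * wd k s5L * w⁻¹ = wd k thL ∧ w * wd k xiL * w⁻¹ = k .c3
  spd : ∃ w, w * BM.spider k * w⁻¹ = (xL.map (hex k)).prod

/-- the six central elements -/
structure WE (k : Nd → G) : Prop where
  e1 : (k .a * k .b1 * k .b2 * k .b3 * k .c1 * k .c2 * k .d1) ^ 9 = (k .a * k .b1 * k .b3 * k .b2 * k .c1 * k .c3 * k .d1) ^ 9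
  e2 : (k .a * k .b2 * k .b1 * k .b3 * k .c2 * k .c1 * k .d2) ^ 9 = (k .a * k .b2 * k .b3 * k .b1 * k .c2 * k .c3 * k .d2) ^ 9
  e3 : (k .a * k .b3 * k .b1 * k .b2 * k .c3 * k .c1 * k .d3) ^ 9 = (k .a * k .b3 * k .b2 * k .b1 * k .c3 * k .c2 * k .d3) ^ 9
  c1 : Commute ((k .a * k .b1 * k .b3 * k .b2 * k .c1 * k .c3 * k .d1) ^ 9) (k .c3)
  c2 : Commute ((k .a * k .b2 * k .b3 * k .b1 * k .c2 * k .c3 * k .d2) ^ 9) (k .c3)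
  c3 : Commute ((k .a * k .b3 * k .b2 * k .b1 * k .c3 * k .c2 * k .d3) ^ 9) (k .c2)

end

end CL.E6S
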