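/-
Centralisers `2^{1+20}.U₆(2)` and `2^{1+20}.U₆(2).2`: the setting from the hypotheses.
-/
import Cfsg.Agent.Spor.E6SD
import Cfsg.Agent.Spor.RecChart
import Cfsg.Agent.Known.UAut1
import Cfsg.Agent.Cls.OrthIso6Minus

set_option autoImplicit false

namespace CL.E6S

open Subgroup CL.Even CL.Grp CL.Uni CL.Rec CL.IN Cfsg Module

universe u v

namespace Bd

/-! ### The linear model -/

section model
variable {G Γ : Type u} [Group G] [Group Γ]

/-- the data at one involution -/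
structure Md (z : G) (Q : Subgroup G) (r : G → Γ) (π : G → V20) (ρ : Γ →* Module.End (ZMod 2) V20)
    (B : LinearMap.BilinForm (ZMod 2) V20) (q : V20 → ZMod 2) : Prop where
  r_mul : ∀ {a b}, Commute a z → Commute b z → r (a * b) = r a * r b
  r_ker : ∀ {c}, Commute c z → (r c = 1 ↔ c ∈ Q)
  r_surj : ∀ γ, ∃ c, Commute c z ∧ r c = γ
  π_mul : ∀ {a b}, a ∈ Q → b ∈ Q → π (a * b) = π a + π b
  π_surj : ∀ v, ∃ a ∈ Q, π a = v
  π_zero : ∀ {a}, a ∈ Q → (π a = 0 ↔ a = 1 ∨ a = z)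
  q_zero : ∀ {a}, a ∈ Q → (q (π a) = 0 ↔ a * a = 1)
  B_zero : ∀ {a b}, a ∈ Q → b ∈ Q → (B (π a) (π b) = 0 ↔ Commute a b)
  ρ_π : ∀ {c a}, Commute c z → a ∈ Q → ρ (r c) (π a) = π (c * a * c⁻¹)

variable {z : G} {Q : Subgroup G} {r : G → Γ} {π : G → V20} {ρ : Γ →* Module.End (ZMod 2) V20}
  {B : LinearMap.BilinForm (ZMod 2) V20} {q : V20 → ZMod 2}

theorem Md.conj (M : Md z Q r π ρ B q) (g : G) :
    Md (g * z * g⁻¹) (cj g Q) (fun c => r (g⁻¹ * c * g)) (fun a => π (g⁻¹ * a * g)) ρ B q := by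
  have k : ∀ {c}, Commute c (g * z * g⁻¹) → Commute (g⁻¹ * c * g) z := fun hc =>
    (CL.TT.commute_conj_iff g _ _).1 (by simpa [mul_assoc] using hc)
  have m : ∀ a b : G, g⁻¹ * (a * b) * g = g⁻¹ * a * g * (g⁻¹ * b * g) := fun a b => by group
  have o : ∀ a : G, g⁻¹ * a * g = 1 ↔ a = 1 := fun a => by simpa using conj_eq_one_iff (a := g⁻¹) (b := a)
  refine ⟨fun ha hb => by rw [m, M.r_mul (k ha) (k hb)], fun hc => by rw [M.r_ker (k hc), mem_cj], fun γ => ?_,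
    fun ha hb => by rw [m, M.π_mul (mem_cj.1 ha) (mem_cj.1 hb)], fun v => ?_, fun {a} ha => ?_, fun {a} ha => ?_,
    fun {a b} ha hb => ?_, fun hc ha => ?_⟩
  · obtain ⟨c, hc, rfl⟩ := M.r_surj γ
    exact ⟨g * c * g⁻¹, (CL.TT.commute_conj_iff g _ _).2 hc, by congr 1; group⟩
  · obtain ⟨a, ha, rfl⟩ := M.π_surj v
    exact ⟨g * a * g⁻¹, conj_mem_cj g ha, by congr 1; group⟩
  · rw [M.π_zero (mem_cj.1 ha), eq_mul_inv_iff_mul_eq, ← inv_mul_eq_iff_eq_mul, ← mul_assoc, o]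
  · rw [M.q_zero (mem_cj.1 ha), ← m, o]
  · rw [M.B_zero (mem_cj.1 ha) (mem_cj.1 hb), ← CL.TT.commute_conj_iff g⁻¹ a b, inv_inv]
  · rw [M.ρ_π (k hc) (mem_cj.1 ha)]
    congr 1; group

theorem exists_md [Finite G] (h : XE z Q) (hc : Nat.card Q = 2 ^ 21)
    (r_mul : ∀ {a b}, Commute a z → Commute b z → r (a * b) = r a * r b)
    (r_ker : ∀ {c}, Commute c z → (r c = 1 ↔ c ∈ Q)) (r_surj : ∀ γ, ∃ c, Commute c z ∧ r c = γ) :
    ∃ π ρ B q, Md z Q r π ρ B q ∧ OM ρ B q := by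
  classical
  obtain ⟨n, H, A, h0, -, hA, hq, hk⟩ := h.exists_model
  obtain rfl : n = 20 := by
    have := H.card_eq
    rw [hc, Nat.card_fun, Nat.card_zmod, Nat.card_fin, ← pow_succ'] at this
    have := Nat.pow_right_injective le_rfl this
    omega
  let π : G → V20 := fun a => if ha : a ∈ Q then H.π ⟨a, ha⟩ else 0
  have hπ : ∀ {a} (ha : a ∈ Q), π a = H.π ⟨a, ha⟩ := fun ha => dif_pos ha
  let R : centralizer ({z} : Set G) →* Γ := MonoidHom.mk' (fun c => r c) fun a b =>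
    r_mul (mem_cent_singleton.1 a.2) (mem_cent_singleton.1 b.2)
  have hR : Function.Surjective R := fun γ => by
    obtain ⟨c, h1, h2⟩ := r_surj γ
    exact ⟨⟨c, mem_cent_singleton.2 h1⟩, h2⟩
  choose f hf using hR
  have k : ∀ a b, R a = R b → A a = A b := fun a b e => by
    have h1 : ((a * b⁻¹ : centralizer ({z} : Set G)) : G) ∈ Q :=
      (r_ker (mem_cent_singleton.1 (a * b⁻¹).2)).1 (show R _ = 1 by rw [map_mul, e, map_inv, mul_inv_cancel])
    rw [← inv_mul_cancel_right a b, map_mul]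
    refine LinearMap.ext fun v => ?_
    obtain ⟨x, hx⟩ := H.π_surj (A b v)
    rw [Module.End.mul_apply, ← hx]
    exact (hA _ x).trans (H.π_conj ⟨_, h1⟩ x)
  let ρ : Γ →* Module.End (ZMod 2) V20 :=
    { toFun := fun γ => A (f γ)
      map_one' := by rw [k (f 1) 1 (by rw [hf, map_one]), map_one]
      map_mul' := fun a b => by rw [← map_mul]; exact k _ _ (by rw [map_mul, hf, hf, hf]) }
  refine ⟨π, ρ, H.B, H.q, ⟨r_mul, r_ker, r_surj, fun ha hb => ?_, fun v => ?_, fun ha => ?_, fun ha => ?_,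
    fun ha hb => ?_, fun {c a} hc ha => ?_⟩, H.q_add_two, fun r hr => ?_, fun γ => hq _, fun γ e => ?_⟩
  · rw [hπ ha, hπ hb, hπ (mul_mem ha hb), ← H.π_mul]; rfl
  · obtain ⟨a, rfl⟩ := H.π_surj v
    exact ⟨a, a.2, hπ a.2⟩
  · rw [hπ ha, h0, h.mem_Z]
  · rw [hπ ha, H.q_eq_zero_iff, pow_two, Subtype.ext_iff]; rfl
  · rw [hπ ha, hπ hb, H.B_eq_zero_iff, Subtype.ext_iff]; rfl
  · change A (f (r c)) _ = _
    rw [k (f (r c)) ⟨c, mem_cent_singleton.2 hc⟩ (hf _), hπ ha, hA, hπ (CL.U6.conjQ h hc ha)]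
  · obtain ⟨x, rfl⟩ := H.π_surj r
    exact (h0 x).mpr (h.cent_eq ▸ fun y hy => congrArg Subtype.val
      (mem_center_iff.mp (H.mem_center_iff.mpr hr) ⟨y, hy⟩))
  · rw [← hf γ]
    exact (r_ker (mem_cent_singleton.1 (f γ).2)).2 (hk _ e)

theorem mk [Finite G] (h : XE z Q) (hc : Nat.card Q = 2 ^ 21) (M : Md z Q r π ρ B q) (O : OM ρ B q)
    {ι : SU6 →* Γ} (U : UA ι) (nw : ∃ g, g * z * g⁻¹ ∈ Q ∧ g * z * g⁻¹ ≠ z) :
    ∃ S : Dat G Γ, S.St ∧ z ∈ S.D ∧ S.ι = ι := by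
  have ex : ∀ x, ∃ g, IsConj z x → g * z * g⁻¹ = x := fun x => by
    by_cases hx : IsConj z x
    · exact (isConj_iff.1 hx).imp fun _ e _ => e
    · exact ⟨1, fun e => absurd e hx⟩
  choose g hg using ex
  have m : ∀ {x}, IsConj z x → Md x (cj (g x) Q) (fun c => r ((g x)⁻¹ * c * g x)) (fun a => π ((g x)⁻¹ * a * g x))
      ρ B q := fun {x} hx => by
    have := M.conj (g x)
    rwa [hg x hx] at this
  have cj1 : ∀ {x}, IsConj z x → ∀ k, IsConj z (k * x * k⁻¹) := fun hx k => hx.trans (isConj_iff.2 ⟨k, rfl⟩)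
  refine ⟨⟨{x | IsConj z x}, fun x => cj (g x) Q, fun x c => r ((g x)⁻¹ * c * g x), fun x a => π ((g x)⁻¹ * a * g x),
    ι, ρ, B, q⟩, ⟨inferInstance, U, O, cj1, fun hx hy => isConj_iff.1 (IsConj.trans hx.symm hy), fun {x} hx => ?_,
    fun _ => by rw [card_cj, hc], fun {x} hx k => ?_, fun hx => (m hx).r_mul, fun hx => (m hx).r_ker,
    fun hx => (m hx).r_surj, fun hx => (m hx).π_mul, fun hx => (m hx).π_surj, fun hx => (m hx).π_zero,
    fun hx => (m hx).q_zero, fun hx => (m hx).B_zero, fun hx => (m hx).ρ_π, ?_⟩, IsConj.refl z, rfl⟩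
  · have := h.conj (g x)
    rwa [hg x hx] at this
  · change cj (g _) Q = cj k (cj (g x) Q)
    rw [← cj_mul]
    refine h.cj_eq_cj ((hg _ (cj1 hx k)).trans ?_)
    conv_lhs => rw [← hg x hx]
    group
  · obtain ⟨k, h1, h2⟩ := nw
    refine ⟨z, IsConj.refl z, _, cj1 (IsConj.refl z) k, ?_, h2⟩
    change _ ∈ cj (g z) Q
    rwa [h.cj_eq_cj (k := 1) (by rw [hg z (IsConj.refl z)]; simp), cj_one]

end model

/-! ### The unitary group -/

/-- the projection to `U₆(2)` -/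
noncomputable def κ : SU6 →* PSU 6 K4 2 := (QuotientGroup.mk' _).comp (suEquiv K4.isBar 6).symm.toMonoidHom

theorem κ_surj : Function.Surjective κ := (QuotientGroup.mk'_surjective _).comp (suEquiv K4.isBar 6).symm.surjective

theorem κ_eq (g : SU6) : centerQuotCongr (suEquiv K4.isBar 6) (κ g) = QuotientGroup.mk g :=
  congrArg QuotientGroup.mk ((suEquiv K4.isBar 6).apply_symm_apply g)

theorem κ_one {g : SU6} : κ g = 1 ↔ ∃ c : K4, ∀ v, g.1 v = c • v := by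
  rw [← herm6.mem_center_SUG (by simp), ← QuotientGroup.eq_one_iff, ← κ_eq, MulEquiv.map_eq_one_iff]

theorem κ_ta {u w : V6} (hu : Iso u) (hw : Iso w) (e : κ (ta u) = κ (ta w)) : ∃ c : K4, u = c • w :=
  exists_smul_of_tau_eq herm6 hu.2 hw.2 hu.1 (eq_of_mk_eq herm6 (by simp) (tau_mul_self _ _) (tau_mul_self _ _)
    (by rw [← κ_eq, ← κ_eq, e]))

theorem cenP {x : PSU 6 K4 2} (h : ∀ y, Commute x y) : x = 1 :=
  (CL.UAut.setup K4.isBar (n := 6) (by decide) (by decide)).conj_injective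
    (MulEquiv.ext fun y => by simp [(h y).eq])

theorem aut_K4 (t : K4 ≃+* K4) : (∀ x, t x = x) ∨ ∀ x, t x = K4.bar x := by
  have h0 : t .o = .o := map_zero t
  have h1 : t .i = .i := map_one t
  have h2 : t .v = t .w * t .w := map_mul t .w .w
  have k : ∀ a : K4, a ≠ .o → a ≠ .i → (a = .w ∧ a * a = .v) ∨ (a = .v ∧ a * a = .w) := by decide
  rcases k (t .w) (fun e => absurd (t.injective (e.trans h0.symm)) (by decide))
    (fun e => absurd (t.injective (e.trans h1.symm)) (by decide)) with ⟨a, b⟩ | ⟨a, b⟩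
  · exact .inl fun x => by cases x; exacts [h0, h1, a, h2.trans b]
  · exact .inr fun x => by cases x; exacts [h0, h1, a, h2.trans b]

open Matrix in
theorem semi (α : MulAut (PSU 6 K4 2)) : ∃ g ∈ UG B6, ∃ t : K4 ≃+* K4,
    ∀ s s' : SU6, (∀ v, s'.1 (g (t ∘ v)) = g (t ∘ s.1 v)) → α (κ s) = κ s' := by
  obtain ⟨g, t, e⟩ := CL.UAut.aut_eq K4.isBar (n := 6) (by decide) (by decide) α
  have H := (CL.UAut.isInduced_iff K4.isBar (by decide) (by decide) g.2 (τ := t.1) (β := α)).2 e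
  refine ⟨CL.Sp.glEquiv _ K4 g.1, (glEquiv_mem_UG K4.isBar _).2 g.2, t.1, fun s s' hs => ?_⟩
  obtain ⟨s, rfl⟩ := (suEquiv K4.isBar 6).surjective s
  obtain ⟨s', rfl⟩ := (suEquiv K4.isBar 6).surjective s'
  simp only [κ, MonoidHom.comp_apply, MulEquiv.coe_toMonoidHom, MulEquiv.symm_apply_apply]
  refine H s s' ?_
  rw [Units.eq_mul_inv_iff_mul_eq, ext_iff_mulVec]
  intro v
  obtain ⟨v, rfl⟩ := CL.Skew.exists_comp_eq t.1 v
  rw [← mulVec_mulVec, ← mulVec_mulVec]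
  exact (hs v).trans (congrArg _ (CL.Skew.glField_mulVec t.1 (SpecialLinearGroup.toGL s.1) v).symm)

theorem ua_of {Γ : Type u} [Group Γ] [Finite Γ] (j : PSU 6 K4 2 →* Γ) (hj : Function.Injective j)
    (hn : ∀ γ : Γ, γ ∈ normalizer (j.range : Set Γ)) (cen : ∀ γ : Γ, (∀ x, Commute γ (j x)) → γ = 1) :
    UA (j.comp κ) := by
  refine ⟨inferInstance, fun g => by rw [MonoidHom.comp_apply, map_eq_one_iff j hj, κ_one], fun γ h => cen γ fun x => by
    obtain ⟨g, rfl⟩ := κ_surj x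
    exact h g, fun γ => ?_⟩
  let e := MonoidHom.ofInjective hj
  obtain ⟨g, hg, t, H⟩ := semi (MulAut.congr e.symm (j.range.normalizerMonoidHom ⟨γ, hn γ⟩))
  have H' : ∀ s s' : SU6, (∀ v, s'.1 (g (t ∘ v)) = g (t ∘ s.1 v)) → γ * j (κ s) * γ⁻¹ = j (κ s') := fun s s' hs => by
    rw [← H s s' hs]
    exact (congrArg Subtype.val (e.apply_symm_apply (j.range.normalizerMonoidHom ⟨γ, hn γ⟩ (e (κ s))))).symm
  have iso : ∀ u v, B6 (g (t ∘ u)) (g (t ∘ v)) = t (B6 u v) := fun u v => by rw [hg, CL.UAut.stdB_comp K4.isBar]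
  have add : ∀ u v : V6, g (t ∘ (u + v)) = g (t ∘ u) + g (t ∘ v) := fun u v => by
    rw [← map_add]; exact congrArg g (funext fun i => map_add t _ _)
  have smul : ∀ (c : K4) (v : V6), g (t ∘ (c • v)) = t c • g (t ∘ v) := fun c v => by
    rw [← map_smul]; exact congrArg g (funext fun i => map_mul t _ _)
  have act : ∀ v, Iso v → γ * τ (j.comp κ) v * γ⁻¹ = τ (j.comp κ) (g (t ∘ v)) := fun v hv => H' _ _ fun x => by
    rw [tau_apply herm6 (by rw [iso, hv.2, map_zero]), tau_apply herm6 hv.2, tv, tv, add, smul, iso]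
  rcases aut_K4 t with ht | ht
  · exact ⟨_, fun v => g (t ∘ v), ⟨add, fun c v => (smul c v).trans (by rw [ht]; rfl),
      fun u v => (iso u v).trans (ht _), act⟩, .inl rfl⟩
  · exact ⟨_, fun v => g (t ∘ v), ⟨add, fun c v => ht c ▸ smul c v, fun u v => ht _ ▸ iso u v, act⟩, .inr rfl⟩

end Bd

open Bd

theorem build {G : Type u} [Group G] [Finite G] {z : G} {Q L U : Subgroup G} (h : XE z Q) (hc : Nat.card Q = 2 ^ 21)
    (hL : L ≤ centralizer {z}) (hd : ∀ g, g * z = z * g → ∃ s ∈ Q, ∃ l ∈ L, g = s * l) (hi : ∀ l ∈ L, l ∈ Q → l = 1)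
    (hU : U ≤ L) (hn : L ≤ normalizer (U : Set G)) (hcen : ∀ l ∈ L, l ∈ centralizer (U : Set G) → l = 1)
    {F : Type v} [Field F] [Fintype F] (hF : Fintype.card F = 4) (e : U ≃* PSU 6 F 2)
    (nw : ∃ g, g * z * g⁻¹ ∈ Q ∧ g * z * g⁻¹ ≠ z) : ∃ S : Dat G L, S.St ∧ z ∈ S.D := by
  classical
  obtain ⟨e'⟩ := CL.Cls.nonempty_psu_equiv_of_card_eq (hF.trans K4.card.symm) 6 2
  let j : PSU 6 K4 2 →* L := (inclusion hU).comp (e.trans e').symm.toMonoidHom
  have hj : ∀ γ : L, γ ∈ j.range ↔ γ.1 ∈ U := fun γ => ⟨by rintro ⟨x, rfl⟩; exact ((e.trans e').symm x).2,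
    fun hγ => ⟨e.trans e' ⟨γ, hγ⟩, congrArg (inclusion hU) ((e.trans e').symm_apply_apply _)⟩⟩
  have A := ua_of j ((inclusion_injective hU).comp (e.trans e').symm.injective)
    (fun γ δ => (hj δ).trans (((mem_normalizer_iff.1 (hn γ.2)) δ.1).trans (hj (γ * δ * γ⁻¹)).symm))
    fun γ hγ => Subtype.ext (hcen γ γ.2 fun u hu => by
      obtain ⟨x, hx⟩ := (hj ⟨u, hU hu⟩).2 hu
      exact congrArg Subtype.val (hx ▸ hγ x).eq.symm)
  have ex : ∀ c, ∃ l : L, Commute c z → c * l.1⁻¹ ∈ Q := fun c => by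
    by_cases k : Commute c z
    · obtain ⟨s, hs, l, hl, rfl⟩ := hd c k
      exact ⟨⟨l, hl⟩, fun _ => by simpa using hs⟩
    · exact ⟨1, fun k' => absurd k' k⟩
  choose r hr using ex
  have un : ∀ {c} (l : L), Commute c z → c * l.1⁻¹ ∈ Q → r c = l := fun {c} l k hl => Subtype.ext
    (mul_inv_eq_one.1 (hi _ (mul_mem (r c).2 (inv_mem l.2)) (by simpa [mul_assoc] using mul_mem (inv_mem (hr c k)) hl)))
  obtain ⟨π, ρ, B, q, M, O⟩ := exists_md (r := r) h hc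
    (fun {a b} ha hb => un _ (ha.mul_left hb) (by
      have := mul_mem (CL.U6.conjQ h ha (hr b hb)) (hr a ha)
      simpa [mul_assoc] using this))
    (fun {c} k => ⟨fun e => by simpa [e] using hr c k, fun e => un 1 k (by simpa using e)⟩)
    fun γ => ⟨γ, mem_cent_singleton.1 (hL γ.2), un γ (mem_cent_singleton.1 (hL γ.2)) (by simp)⟩
  obtain ⟨S, h1, h2, -⟩ := mk h hc M O A nw
  exact ⟨S, h1, h2⟩

end CL.E6S
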