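/-
Centralisers `2^{1+20}.U₆(2)` and `2^{1+20}.U₆(2).2` (helper9), part B: basic lemmas on the unitary group.
-/
import Cfsg.Agent.Spor.E6SD

set_option autoImplicit false

namespace CL.E6S

open Subgroup CL.Even CL.Grp CL.Uni CL.Rec CL.IN Cfsg Module
open scoped commutatorElement

universe u

theorem Pr.refl (u : V6) : Pr u u := ⟨1, one_ne_zero, (one_smul _ _).symm⟩

theorem Pr.symm {u v : V6} (h : Pr u v) : Pr v u := by
  obtain ⟨c, hc, rfl⟩ := h
  exact ⟨c⁻¹, inv_ne_zero hc, by rw [smul_smul, inv_mul_cancel₀ hc, one_smul]⟩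

theorem Pr.trans {u v w : V6} (h : Pr u v) (h' : Pr v w) : Pr u w := by
  obtain ⟨c, hc, rfl⟩ := h
  obtain ⟨d, hd, rfl⟩ := h'
  exact ⟨c * d, mul_ne_zero hc hd, smul_smul _ _ _⟩

theorem Pr.iso {u v : V6} (h : Pr u v) (hv : Iso v) : Iso u := by
  obtain ⟨c, hc, rfl⟩ := h
  exact hv.smul hc

theorem Pr.mem {u v : V6} (h : Pr u v) {W : Submodule K4 V6} (hv : v ∈ W) : u ∈ W := by
  obtain ⟨c, -, rfl⟩ := h
  exact W.smul_mem c hv

theorem Pr.ta_eq {u v : V6} (h : Pr u v) (hv : Iso v) : ta u = ta v := by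
  obtain ⟨c, hc, rfl⟩ := h
  exact tau_smul herm6 hv.2 hc

theorem Pr.B_left {u v : V6} (h : Pr u v) (w : V6) : B6 u w = 0 ↔ B6 v w = 0 := by
  obtain ⟨c, hc, rfl⟩ := h
  simp [LinearMap.map_smulₛₗ, hc]

theorem Pr.B_right {u v : V6} (h : Pr u v) (w : V6) : B6 w u = 0 ↔ B6 w v = 0 := by
  obtain ⟨c, hc, rfl⟩ := h
  simp [hc]

theorem B6_comm {u v : V6} : B6 u v = 0 ↔ B6 v u = 0 := ⟨herm6.flip_zero, herm6.flip_zero⟩

theorem Hy.symm {p p' : V6} (h : Hy p p') : Hy p' p := ⟨h.2.1, h.1, herm6.flip_ne h.2.2⟩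

theorem B6_map (g : SU6) (u v : V6) : B6 (g.1 u) (g.1 v) = B6 u v := SUG_le_UG g.2 u v

theorem iso_map (g : SU6) {v : V6} (h : Iso v) : Iso (g.1 v) :=
  ⟨fun e => h.1 (g.1.map_eq_zero_iff.mp e), (B6_map g v v).trans h.2⟩

theorem Hy.map {p p' : V6} (h : Hy p p') (g : SU6) : Hy (g.1 p) (g.1 p') :=
  ⟨iso_map g h.1, iso_map g h.2.1, by rw [B6_map]; exact h.2.2⟩

theorem Fr.map {p p' : Fin 3 → V6} (h : Fr p p') (g : SU6) : Fr (fun i => g.1 (p i)) fun i => g.1 (p' i) :=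
  ⟨fun i => (h.hy i).map g, fun i j => (B6_map ..).trans (h.pp i j), fun i j e => (B6_map ..).trans (h.pq i j e),
    fun i j => (B6_map ..).trans (h.qq i j)⟩

theorem Fr.perm {p p' : Fin 3 → V6} (h : Fr p p') (s : Equiv.Perm (Fin 3)) : Fr (p ∘ s) (p' ∘ s) :=
  ⟨fun _ => h.hy _, fun _ _ => h.pp _ _, fun _ _ e => h.pq _ _ (s.injective.ne e), fun _ _ => h.qq _ _⟩

theorem mem_im {g : SU6} {W : Submodule K4 V6} {v : V6} : v ∈ im g W ↔ (g⁻¹).1 v ∈ W :=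
  ⟨by rintro ⟨w, hw, rfl⟩; exact (g.1.symm_apply_apply w).symm ▸ hw,
    fun h => ⟨_, h, g.1.apply_symm_apply v⟩⟩

theorem apply_mem_im {g : SU6} {W : Submodule K4 V6} {v : V6} : g.1 v ∈ im g W ↔ v ∈ W :=
  ⟨by rintro ⟨w, hw, e⟩; exact g.1.injective e ▸ hw, fun h => ⟨v, h, rfl⟩⟩

theorem im_one (W : Submodule K4 V6) : im 1 W = W := Submodule.map_id W

theorem im_mul (g k : SU6) (W : Submodule K4 V6) : im (g * k) W = im g (im k W) := by
  rw [im, im, im, ← Submodule.map_comp]; rfl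

theorem im_inf (g : SU6) (W X : Submodule K4 V6) : im g (W ⊓ X) = im g W ⊓ im g X :=
  Submodule.map_inf _ g.1.injective

theorem finrank_im (g : SU6) (W : Submodule K4 V6) : finrank K4 (im g W) = finrank K4 W :=
  LinearEquiv.finrank_map_eq _ _

theorem im_eq_bot {g : SU6} {W : Submodule K4 V6} : im g W = ⊥ ↔ W = ⊥ := by
  rw [← Submodule.finrank_eq_zero, finrank_im, Submodule.finrank_eq_zero]

theorem Pl.im {W : Submodule K4 V6} (h : Pl W) (g : SU6) : Pl (im g W) :=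
  ⟨(finrank_im g W).trans h.1, by rintro _ ⟨u, hu, rfl⟩ _ ⟨v, hv, rfl⟩; exact (B6_map g u v).trans (h.2 u hu v hv)⟩

theorem Pl.iso {W : Submodule K4 V6} (h : Pl W) {v : V6} (hv : v ∈ W) (h0 : v ≠ 0) : Iso v := ⟨h0, h.2 v hv v hv⟩

theorem ta_sq (v : V6) : ta v * ta v = 1 := tau_mul_self herm6 v

theorem ta_apply {v : V6} (h : Iso v) (x : V6) : (ta v).1 x = x + B6 v x • v := tau_apply herm6 h.2 x

theorem ta_fix {v x : V6} (h : Iso v) (e : B6 v x = 0) : (ta v).1 x = x := by rw [ta_apply h, e, zero_smul, add_zero]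

theorem ta_mem_AS {W : Submodule K4 V6} {v : V6} (hv : v ∈ W) (h : Iso v) : ta v ∈ AS W := subset_closure ⟨v, hv, h, rfl⟩

theorem AS_fix {W : Submodule K4 V6} (h : Pl W) {g : SU6} (hg : g ∈ AS W) {w : V6} (hw : w ∈ W) : g.1 w = w := by
  induction hg using closure_induction with
  | mem k hk => obtain ⟨v, hv, h1, rfl⟩ := hk; exact ta_fix h1 (h.2 v hv w hw)
  | one => rfl
  | mul a b _ _ h1 h2 => exact (congrArg a.1 h2).trans h1
  | inv a _ h1 => exact a.1.injective ((a.1.apply_symm_apply w).trans h1.symm)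

theorem AS_comm {W : Submodule K4 V6} (h : Pl W) {g k : SU6} (hg : g ∈ AS W) (hk : k ∈ AS W) : Commute g k := by
  induction hk using closure_induction with
  | mem k hk =>
    obtain ⟨v, hv, h1, rfl⟩ := hk
    exact mul_inv_eq_iff_eq_mul.mp (by rw [tau_conj' herm6 h1.2, AS_fix h hg hv])
  | one => exact Commute.one_right g
  | mul a b _ _ h1 h2 => exact h1.mul_right h2
  | inv a _ h1 => exact h1.inv_right

theorem AS_sq {W : Submodule K4 V6} (h : Pl W) {g : SU6} (hg : g ∈ AS W) : g * g = 1 := by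
  induction hg using closure_induction with
  | mem k hk => obtain ⟨v, -, -, rfl⟩ := hk; exact ta_sq v
  | one => exact mul_one 1
  | mul a b ha hb h1 h2 => rw [(AS_comm h ha hb).symm.mul_mul_mul_comm, h1, h2, mul_one]
  | inv a _ h1 => rw [← mul_inv_rev, h1, inv_one]

theorem closure_ta : closure {g : SU6 | ∃ v, Iso v ∧ g = ta v} = ⊤ := by
  rw [eq_top_iff, ← herm6.closure_tv_eq_top (by rw [finrank6]; omega), closure_le]
  rintro t ⟨v, c, hv, hc, ht⟩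
  by_cases h0 : c = 0 ∨ v = 0
  · have : t = 1 := Subtype.ext (LinearEquiv.ext fun x => by rcases h0 with e | e <;> simp [ht x, e])
    exact this ▸ one_mem _
  · push Not at h0
    rw [eq_one_of_fixed herm6.bar h0.1 (hc.trans (neg_eq' herm6.bar c))] at ht
    exact subset_closure ⟨v, ⟨h0.2, hv⟩, Subtype.ext (ht.unique (isTv_tau herm6 hv))⟩

/-- a subgroup containing the transvections is everything -/
theorem eq_top_of_ta {K : Subgroup SU6} (h : ∀ v, Iso v → ta v ∈ K) : K = ⊤ :=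
  eq_top_iff.2 (closure_ta ▸ (closure_le K).2 (by rintro _ ⟨v, hv, rfl⟩; exact h v hv))

section
variable {Γ : Type u} [Group Γ] {ι : SU6 →* Γ}

theorem τ_sq (v : V6) : τ ι v * τ ι v = 1 := by rw [τ, ← map_mul, ta_sq, map_one]

theorem τ_inv (v : V6) : (τ ι v)⁻¹ = τ ι v := inv_eq_of_mul_eq_one_right (τ_sq v)

theorem τ_mem_range (v : V6) : τ ι v ∈ ι.range := ⟨_, rfl⟩

theorem τ_conj (g : SU6) {v : V6} (h : Iso v) : ι g * τ ι v * (ι g)⁻¹ = τ ι (g.1 v) := by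
  rw [τ, ← map_inv, ← map_mul, ← map_mul, tau_conj' herm6 h.2]; rfl

theorem Pr.τ_eq {u v : V6} (h : Pr u v) (hv : Iso v) : τ ι u = τ ι v := congrArg ι (h.ta_eq hv)

theorem τ_comm {u v : V6} (hu : Iso u) (hv : Iso v) (e : B6 u v = 0) : Commute (τ ι u) (τ ι v) :=
  (tau_commute herm6 hu.2 hv.2 e).map ι

theorem τ_cube {u v : V6} (h : Hy u v) : (τ ι u * τ ι v) ^ 3 = 1 := by
  have := congrArg ι (tau_braid herm6 h.1.2 h.2.1.2 h.2.2)
  simp only [map_mul] at this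
  calc _ = (τ ι u * τ ι v * τ ι u) * (τ ι v * τ ι u * τ ι v) := by simp only [pow_three, mul_assoc]
    _ = τ ι v * (τ ι u * (τ ι v * τ ι v) * τ ι u) * τ ι v := by
      rw [show τ ι u * τ ι v * τ ι u = τ ι v * τ ι u * τ ι v from this]; simp only [mul_assoc]
    _ = 1 := by rw [τ_sq, mul_one, τ_sq, mul_one, τ_sq]

theorem τ_mem_AW {W : Submodule K4 V6} {v : V6} (hv : v ∈ W) (h : Iso v) : τ ι v ∈ AW ι W := ⟨_, ta_mem_AS hv h, rfl⟩

theorem AW_eq (W : Submodule K4 V6) : AW ι W = closure {γ | ∃ v ∈ W, Iso v ∧ γ = τ ι v} := by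
  rw [AW, AS, MonoidHom.map_closure]
  congr 1
  ext γ
  exact ⟨by rintro ⟨_, ⟨v, h1, h2, rfl⟩, rfl⟩; exact ⟨v, h1, h2, rfl⟩,
    by rintro ⟨v, h1, h2, rfl⟩; exact ⟨_, ⟨v, h1, h2, rfl⟩, rfl⟩⟩

theorem AW_le_range (W : Submodule K4 V6) : AW ι W ≤ ι.range := map_le_range _ _

theorem AW_sq {W : Submodule K4 V6} (h : Pl W) {a : Γ} (ha : a ∈ AW ι W) : a * a = 1 := by
  obtain ⟨g, hg, rfl⟩ := ha
  rw [← map_mul, AS_sq h hg, map_one]

theorem AW_comm {W : Submodule K4 V6} (h : Pl W) {a b : Γ} (ha : a ∈ AW ι W) (hb : b ∈ AW ι W) : Commute a b := by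
  obtain ⟨g, hg, rfl⟩ := ha
  obtain ⟨k, hk, rfl⟩ := hb
  exact (AS_comm h hg hk).map ι

theorem conj_mem_AW (g : SU6) {W : Submodule K4 V6} {a : Γ} (ha : a ∈ AW ι W) :
    ι g * a * (ι g)⁻¹ ∈ AW ι (im g W) := by
  rw [AW_eq] at ha
  induction ha using closure_induction with
  | mem k hk => obtain ⟨v, hv, h1, rfl⟩ := hk; rw [τ_conj g h1]; exact τ_mem_AW ⟨v, hv, rfl⟩ (iso_map g h1)
  | one => simp
  | mul a b _ _ h1 h2 => simpa [mul_assoc] using mul_mem h1 h2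
  | inv a _ h1 => simpa [mul_assoc] using inv_mem h1

theorem cj_AW (g : SU6) (W : Submodule K4 V6) : cj (ι g) (AW ι W) = AW ι (im g W) := by
  refine le_antisymm (by rintro _ ⟨a, ha, rfl⟩; exact conj_mem_AW g ha) fun a ha => mem_cj.2 ?_
  have := conj_mem_AW g⁻¹ ha
  rwa [← im_mul, inv_mul_cancel, im_one, map_inv, inv_inv] at this

theorem rp_ι (g : SU6) : Rp ι (ι g) (RingHom.id K4) g.1 :=
  ⟨map_add _, map_smul _, B6_map g, fun _ h => τ_conj g h⟩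

namespace Rp
variable {γ : Γ} {s : K4 →+* K4} {f : V6 → V6} (h : Rp ι γ s f)
include h

theorem zero : f 0 = 0 := by simpa using h.smul 0 0

theorem B_zero {u v : V6} : B6 (f u) (f v) = 0 ↔ B6 u v = 0 := by rw [h.iso, map_eq_zero]

theorem injective : Function.Injective f := fun u v e => herm6.ext_left fun w =>
  s.injective (by rw [← h.iso, ← h.iso, e])

theorem surjective : Function.Surjective f := Finite.surjective_of_injective h.injective

theorem iso_map {v : V6} (hv : Iso v) : Iso (f v) := ⟨fun e => hv.1 (h.injective (e.trans h.zero.symm)), h.B_zero.2 hv.2⟩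

/-- conjugation by `γ` is conjugation by `f` -/
theorem conj (k : SU6) : ∃ k' : SU6, γ * ι k * γ⁻¹ = ι k' ∧ ∀ x, k'.1 (f x) = f (k.1 x) := by
  have hk : k ∈ closure {g : SU6 | ∃ v, Iso v ∧ g = ta v} := closure_ta ▸ mem_top k
  induction hk using closure_induction with
  | mem k hk =>
    obtain ⟨v, hv, rfl⟩ := hk
    exact ⟨_, h.act v hv, fun x => by rw [ta_apply (h.iso_map hv), ta_apply hv, h.add, h.smul, h.iso]⟩
  | one => exact ⟨1, by simp, fun _ => rfl⟩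
  | mul a b _ _ h1 h2 =>
    obtain ⟨a', a1, a2⟩ := h1
    obtain ⟨b', b1, b2⟩ := h2
    exact ⟨a' * b', by rw [map_mul, map_mul, ← a1, ← b1]; group, fun x => (congrArg a'.1 (b2 x)).trans (a2 _)⟩
  | inv a _ h1 =>
    obtain ⟨a', a1, a2⟩ := h1
    refine ⟨a'⁻¹, by rw [map_inv, map_inv, ← a1]; group, fun x => a'.1.injective ?_⟩
    exact (a'.1.apply_symm_apply _).trans ((congrArg f (a.1.apply_symm_apply x).symm).trans (a2 _).symm)

theorem mul {δ : Γ} {t : K4 →+* K4} {g : V6 → V6} (h' : Rp ι δ t g) : Rp ι (γ * δ) (s.comp t) fun v => f (g v) :=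
  ⟨fun u v => by rw [h'.add, h.add], fun c v => by rw [h'.smul, h.smul]; rfl, fun u v => by rw [h.iso, h'.iso]; rfl,
    fun v hv => by rw [← h.act _ (h'.iso_map hv), ← h'.act v hv]; group⟩

end Rp

/-- the elements induced by linear isometries -/
def G0 (ι : SU6 →* Γ) : Subgroup Γ where
  carrier := {γ | ∃ f : V6 ≃ₗ[K4] V6, Rp ι γ (RingHom.id K4) f}
  one_mem' := ⟨1, by simpa using rp_ι (ι := ι) 1⟩
  mul_mem' := fun ⟨f, R⟩ ⟨g, R'⟩ => ⟨f * g, R.mul R'⟩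
  inv_mem' := fun {γ} ⟨f, R⟩ => ⟨f⁻¹, map_add _, map_smul _, inv_mem (show f ∈ UG B6 from R.iso), fun v hv => by
    obtain ⟨v, rfl⟩ := f.surjective v
    have h1 : Iso v := ⟨fun e => hv.1 (by rw [e, map_zero]), R.B_zero.1 hv.2⟩
    rw [← R.act v h1, show f⁻¹ (f v) = v from f.symm_apply_apply v]; group⟩

theorem Rp.mem_G0 {γ : Γ} {f : V6 → V6} (R : Rp ι γ (RingHom.id K4) f) : γ ∈ G0 ι :=
  ⟨LinearEquiv.ofBijective ⟨⟨f, R.add⟩, R.smul⟩ ⟨R.injective, R.surjective⟩, R⟩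

theorem range_le_G0 : ι.range ≤ G0 ι := by
  rintro _ ⟨g, rfl⟩
  exact ⟨g.1, rp_ι g⟩

namespace UA
variable (h : UA ι)
include h

theorem ι_inj {g k : SU6} (hg : g * g = 1) (hk : k * k = 1) (e : ι g = ι k) : g = k := by
  obtain ⟨c, hc⟩ := (h.ker (g * k)).1 (by rw [map_mul, e, ← map_mul, hk, map_one])
  have h1 : ∀ v, g.1 v = c • k.1 v := fun v => by
    rw [← hc, show (g * k).1 (k.1 v) = g.1 ((k * k).1 v) from rfl, hk]; rfl
  have h2 : ∀ v : V6, v = (c * c) • v := fun v => by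
    calc v = (g * g).1 v := by rw [hg]; rfl
      _ = c • k.1 (c • k.1 v) := by rw [← h1, ← h1]; rfl
      _ = (c * c) • (k * k).1 v := by rw [map_smul, smul_smul]; rfl
      _ = _ := by rw [hk]; rfl
  have h3 : c = 1 := (by decide : ∀ c : K4, 1 = c * c → c = 1) c (by simpa using congrFun (h2 1) 0)
  exact Subtype.ext (LinearEquiv.ext fun v => by rw [h1, h3, one_smul])

theorem lift {a : Γ} (ha : a ∈ ι.range) (h2 : a * a = 1) : ∃ g : SU6, g * g = 1 ∧ ι g = a := by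
  obtain ⟨g, rfl⟩ := ha
  obtain ⟨c, hc⟩ := (h.ker (g * g)).1 (by rw [map_mul, h2])
  refine ⟨g * g * g, Subtype.ext (LinearEquiv.ext fun v => ?_), by rw [map_mul, map_mul, h2, one_mul]⟩
  have h0 : c ≠ 0 := fun e => by
    have := (g * g).1.map_eq_zero_iff.mp ((hc 1).trans (by rw [e, zero_smul]))
    exact one_ne_zero (congrFun this 0)
  calc _ = (g * g).1 ((g * g).1 ((g * g).1 v)) := rfl
    _ = (c * (c * c)) • v := by rw [hc, hc, hc, smul_smul, smul_smul, mul_assoc]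
    _ = v := by rw [(by decide : ∀ c : K4, c ≠ 0 → c * (c * c) = 1) c h0, one_smul]

theorem τ_inj {u v : V6} (hu : Iso u) (hv : Iso v) (e : τ ι u = τ ι v) : Pr u v := by
  obtain ⟨c, rfl⟩ := exists_smul_of_tau_eq herm6 hu.2 hv.2 hu.1 (h.ι_inj (ta_sq u) (ta_sq v) e)
  exact ⟨c, fun e => hu.1 (by rw [e, zero_smul]), rfl⟩

theorem τ_ne_one {u : V6} (hu : Iso u) : τ ι u ≠ 1 := fun e =>
  tau_ne_one herm6 hu.2 hu.1 (h.ι_inj (ta_sq u) (mul_one 1) (e.trans (map_one ι).symm))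

theorem pr_of_comm {γ : Γ} {s : K4 →+* K4} {f : V6 → V6} (R : Rp ι γ s f) {v : V6} (hv : Iso v)
    (e : Commute γ (τ ι v)) : Pr (f v) v :=
  h.τ_inj (R.iso_map hv) hv (by rw [← R.act v hv, e.eq, mul_inv_cancel_right])

theorem τ_comm_iff {u v : V6} (hu : Iso u) (hv : Iso v) : Commute (τ ι u) (τ ι v) ↔ B6 u v = 0 := by
  refine ⟨fun e => by_contra fun h0 => tau_not_commute herm6 hu.2 hv.2 h0 ?_, τ_comm hu hv⟩
  exact mul_inv_eq_iff_eq_mul.mp ((tau_conj' herm6 hv.2 _).trans ((h.pr_of_comm (rp_ι _) hv e).ta_eq hv))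

theorem mem_of_τ_mem (ue : UE) {W : Submodule K4 V6} (hW : Pl W) {v : V6} (hv : Iso v) (e : τ ι v ∈ AW ι W) : v ∈ W :=
  ue.plM W v hW fun w hw => by
    by_cases h0 : w = 0
    · simp [h0]
    · exact (h.τ_comm_iff (hW.iso hw h0) hv).1 (AW_comm hW (τ_mem_AW hw (hW.iso hw h0)) e)

theorem normal : ι.range.Normal := ⟨by
  rintro _ ⟨k, rfl⟩ γ
  obtain ⟨s, f, R, -⟩ := h.exists_rp γ
  obtain ⟨k', e, -⟩ := R.conj k
  exact ⟨k', e.symm⟩⟩

theorem mul_mem0 {γ δ : Γ} (hγ : γ ∉ G0 ι) (hδ : δ ∉ G0 ι) : γ * δ ∈ G0 ι := by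
  obtain ⟨s, f, R, rfl | rfl⟩ := h.exists_rp γ
  · exact absurd R.mem_G0 hγ
  obtain ⟨s, g, R', rfl | rfl⟩ := h.exists_rp δ
  · exact absurd R'.mem_G0 hδ
  have := R.mul R'
  rw [show K4.bar.comp K4.bar = RingHom.id K4 from RingHom.ext fun c => herm6.bar_bar c] at this
  exact this.mem_G0

theorem index0 : (G0 ι).index ∣ 2 := by
  by_cases e : G0 ι = ⊤
  · simp [e]
  · obtain ⟨a, ha⟩ : ∃ a, a ∉ G0 ι := by
      by_contra! h1
      exact e (eq_top_iff.2 fun a _ => h1 a)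
    refine (index_eq_two_iff.2 ⟨a, fun b => ?_⟩).dvd
    by_cases hb : b ∈ G0 ι
    · exact .inr ⟨hb, fun e' => ha ((mul_mem_cancel_left hb).1 e')⟩
    · exact .inl ⟨h.mul_mem0 hb ha, hb⟩

theorem sq_mem (γ : Γ) : γ * γ ∈ G0 ι := by
  by_cases e : γ ∈ G0 ι
  exacts [mul_mem e e, h.mul_mem0 e e]

theorem conj0 (γ : Γ) {δ : Γ} (e : δ ∈ G0 ι) : γ * δ * γ⁻¹ ∈ G0 ι := by
  by_cases e' : γ ∈ G0 ι
  · exact mul_mem (mul_mem e' e) (inv_mem e')
  · exact h.mul_mem0 (mt (mul_mem_cancel_right e).1 e') (mt inv_mem_iff.1 e')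

theorem comm_mem (γ δ : Γ) : γ * δ * γ⁻¹ * δ⁻¹ ∈ G0 ι := by
  by_cases e : δ ∈ G0 ι
  · exact mul_mem (h.conj0 γ e) (inv_mem e)
  · exact h.mul_mem0 (fun e' => e (by simpa [mul_assoc] using h.conj0 γ⁻¹ e')) fun e' => e (inv_mem_iff.1 e')

/-- the determinant of the inducing isometry is well defined -/
theorem dt_eq {γ : Γ} {f g : V6 ≃ₗ[K4] V6} (R : Rp ι γ (RingHom.id K4) f) (R' : Rp ι γ (RingHom.id K4) g) :
    dt f = dt g := by
  obtain ⟨a, ha⟩ := herm6.eq_smul_of_fix_isotropic (by rw [finrank6]; omega)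
    (g := ((g⁻¹ * f : V6 ≃ₗ[K4] V6) : V6 →ₗ[K4] V6)) fun v hv => by
      by_cases h0 : v = 0
      · exact ⟨0, by simp [h0]⟩
      have h1 : Iso v := ⟨h0, hv⟩
      obtain ⟨c, -, hc⟩ := h.τ_inj (R.iso_map h1) (R'.iso_map h1) ((R.act v h1).symm.trans (R'.act v h1))
      exact ⟨c, by simp [hc]⟩
  have h1 := dt_of_scalar ha
  have h2 : a * K4.bar a = 1 := herm6.norm_eq_one_of_scalar (mul_mem (inv_mem (show g ∈ UG B6 from R'.iso)) R.iso) ha
  rw [finrank6] at h1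
  simp only [pow_succ, pow_zero, one_mul] at h1
  rw [(by decide : ∀ a : K4, a * K4.bar a = 1 → a * a * a * a * a * a = 1) a h2] at h1
  rw [← mul_inv_cancel_left g f, map_mul, h1, mul_one]

theorem mem_range_iff {γ : Γ} {f : V6 ≃ₗ[K4] V6} (R : Rp ι γ (RingHom.id K4) f) : γ ∈ ι.range ↔ dt f = 1 := by
  refine ⟨?_, fun e => ?_⟩
  · rintro ⟨g, rfl⟩
    exact (h.dt_eq R (rp_ι g)).trans (mem_SUG.1 g.2).2
  · let g : SU6 := ⟨f, mem_SUG.2 ⟨R.iso, e⟩⟩
    refine ⟨g, inv_mul_eq_one.1 (h.cen _ fun k => ?_)⟩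
    refine (eq_top_of_ta (K := (centralizer {(ι g)⁻¹ * γ}).comap ι) fun v hv => ?_).ge (mem_top k) _ rfl
    rintro _ rfl
    have := (R.act v hv).trans (τ_conj g hv).symm
    calc _ = (ι g)⁻¹ * (γ * τ ι v * γ⁻¹) * γ := by rw [τ]; group
      _ = _ := by rw [this, τ]; group

theorem mem_of_sq {γ : Γ} (h0 : γ ∈ G0 ι) (h2 : γ * γ ∈ ι.range) : γ ∈ ι.range := by
  obtain ⟨f, R⟩ := h0
  have := (h.mem_range_iff (f := f * f) (R.mul R)).1 h2
  rw [map_mul] at this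
  exact (h.mem_range_iff R).2 ((by decide : ∀ d : K4, d * d = 1 → d = 1) _ this)

theorem mem_of_inv {γ : Γ} (h0 : γ ∈ G0 ι) (h2 : γ * γ = 1) : γ ∈ ι.range := h.mem_of_sq h0 (h2 ▸ one_mem _)

theorem rep {γ : Γ} (h0 : γ ∉ ι.range) (h2 : γ * γ = 1) : ∃ f, Rp ι γ K4.bar f := by
  obtain ⟨s, f, R, rfl | rfl⟩ := h.exists_rp γ
  exacts [absurd (h.mem_of_inv R.mem_G0 h2) h0, ⟨f, R⟩]

theorem idx {γ δ : Γ} (h1 : γ * γ = 1) (h2 : δ * δ = 1) (h3 : γ * δ * (γ * δ) = 1) (hγ : γ ∉ ι.range)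
    (hδ : δ ∉ ι.range) : γ * δ ∈ ι.range :=
  h.mem_of_inv (h.mul_mem0 (fun e => hγ (h.mem_of_inv e h1)) fun e => hδ (h.mem_of_inv e h2)) h3

theorem index_dvd : ι.range.index ∣ 6 := by
  have hc : ∀ γ : G0 ι, ∃ f : V6 ≃ₗ[K4] V6, Rp ι γ.1 (RingHom.id K4) f := fun γ => γ.2
  choose f hf using hc
  let φ : G0 ι →* K4ˣ := MonoidHom.mk' (fun γ => LinearEquiv.det (f γ)) fun a b => Units.ext (by
    rw [← map_mul, ← dt_eq_coe, ← dt_eq_coe]
    exact h.dt_eq (hf _) ((hf a).mul (hf b)))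
  have h1 : φ.ker = ι.range.subgroupOf (G0 ι) := Subgroup.ext fun γ => by
    rw [mem_subgroupOf, h.mem_range_iff (hf γ), MonoidHom.mem_ker, dt_eq_coe, Units.val_eq_one]; rfl
  have h2 : ι.range.relIndex (G0 ι) ∣ 3 := by
    rw [relIndex, ← h1, index_ker]
    refine φ.range.card_subgroup_dvd_card.trans ?_
    rw [Nat.card_units, Nat.card_eq_fintype_card, K4.card]
  rw [← relIndex_mul_index (range_le_G0 (ι := ι))]
  exact Nat.mul_dvd_mul h2 h.index0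

theorem index_le : ι.range.index ≤ 6 := Nat.le_of_dvd (by norm_num) h.index_dvd

end UA

namespace OM
variable {ρ : Γ →* Module.End (ZMod 2) V20} {B : LinearMap.BilinForm (ZMod 2) V20} {q : V20 → ZMod 2}

theorem _root_.CL.E6S.ρ_mul (a b : Γ) (v : V20) : ρ (a * b) v = ρ a (ρ b v) := by rw [map_mul]; rfl

theorem _root_.CL.E6S.ρ_one (v : V20) : ρ 1 v = v := by rw [map_one]; rfl

theorem _root_.CL.E6S.ρ_inv_ρ (a : Γ) (v : V20) : ρ a⁻¹ (ρ a v) = v := by rw [← ρ_mul, inv_mul_cancel, ρ_one]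

theorem _root_.CL.E6S.ρ_ρ_inv (a : Γ) (v : V20) : ρ a (ρ a⁻¹ v) = v := by rw [← ρ_mul, mul_inv_cancel, ρ_one]

theorem _root_.CL.E6S.card_V20 : Nat.card V20 = 2 ^ 20 := by simp

variable (h : OM ρ B q)
include h

theorem B_map (γ : Γ) (v w : V20) : B (ρ γ v) (ρ γ w) = B v w := quad2_B_map h.hq (h.inv γ) v w

theorem B_self (v : V20) : B v v = 0 := quad2_isAlt h.hq v

theorem B_symm (v w : V20) : B v w = B w v := by
  have := h.hq v w
  rw [add_comm v, h.hq, add_comm (q w)] at this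
  exact (add_left_cancel this).symm

/-- a vector orthogonal to the fixed vectors of an involution is a commutator -/
theorem exists_of_orth {a : Γ} (ha : a * a = 1) {v : V20} (hv : ∀ u, ρ a u = u → B v u = 0) : ∃ w, v = w + ρ a w := by
  set N : V20 →ₗ[ZMod 2] V20 := LinearMap.id + ρ a with hN
  have hr : B.IsRefl := fun x y e => (h.B_symm y x).trans e
  have hn : B.Nondegenerate := ⟨h.hN, fun r e => h.hN r fun y => (h.B_symm r y).trans (e y)⟩
  have : v ∈ B.orthogonal (B.orthogonal (LinearMap.range N)) := fun u hu => by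
    refine (h.B_symm u v).trans (hv u (eq_of_add_eq_zero_zmod2 (h.hN _ fun y => ?_)))
    have h1 : B (y + ρ a y) u = 0 := hu _ ⟨y, rfl⟩
    rw [LinearMap.BilinForm.add_left, ← h.B_map a (ρ a y), ← ρ_mul, ha, ρ_one, h.B_symm y, h.B_symm y] at h1
    rw [LinearMap.BilinForm.add_left, add_comm, h1]
  rw [LinearMap.BilinForm.orthogonal_orthogonal hn hr] at this
  obtain ⟨w, e⟩ := this
  exact ⟨w, e.symm⟩

end OM

end

end CL.E6S
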