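/-
Centralisers `2^{1+20}.U₆(2)` and `2^{1+20}.U₆(2).2` (helper9), part C: basic lemmas on the setting.
-/
import Cfsg.Agent.Spor.E6SB

set_option autoImplicit false

namespace CL.E6S

open Subgroup CL.Even CL.Grp CL.Uni CL.Rec CL.IN Cfsg Module
open scoped commutatorElement

universe u

theorem conj_of_cube {G : Type*} [Group G] {u v : G} (hu : u * u = 1) (hv : v * v = 1) (h : (u * v) ^ 3 = 1) :
    u * v * u * (u * v)⁻¹ = v := by
  have h1 : u * v * u = v * u * v := BM.br_of_pow hu hv h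
  rw [h1, mul_assoc v, mul_inv_cancel_right]

namespace Dat

variable {G Γ : Type u} [Group G] [Group Γ] {S : Dat G Γ}

namespace St

variable (h : S.St)
include h

section
variable {x : G} (hx : x ∈ S.D)
include hx

theorem sq : x * x = 1 := (h.xe hx).mul_self

theorem inv_eq : x⁻¹ = x := (h.xe hx).inv_eq

theorem ne_one : x ≠ 1 := (h.xe hx).ne_one

theorem self_mem : x ∈ S.Q x := (h.xe hx).mem

theorem cQ {a : G} (ha : a ∈ S.Q x) : Commute a x := (h.xe hx).comm ha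

theorem conjQ {c a : G} (hc : Commute c x) (ha : a ∈ S.Q x) : c * a * c⁻¹ ∈ S.Q x := U6.conjQ (h.xe hx) hc ha

theorem conj_mem_Q (g : G) {a : G} (ha : a ∈ S.Q x) : g * a * g⁻¹ ∈ S.Q (g * x * g⁻¹) := by
  rw [h.Qc hx, mem_cj]; simpa [mul_assoc] using ha

theorem sq_mem {a : G} (ha : a ∈ S.Q x) : a * a = 1 ∨ a * a = x := (h.xe hx).mem_Z.1 (pow_two a ▸ (h.xe hx).sq a ha)

theorem pow_four {a : G} (ha : a ∈ S.Q x) : a ^ 4 = 1 := by
  rw [show a ^ 4 = a * a * (a * a) by simp only [pow_succ, pow_zero, one_mul, mul_assoc]]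
  rcases h.sq_mem hx ha with e | e <;> rw [e]
  exacts [mul_one 1, h.sq hx]

theorem eq_one_of_cube {a : G} (ha : a ∈ S.Q x) (h3 : a ^ 3 = 1) : a = 1 := by
  have := h.pow_four hx ha
  rwa [pow_succ, h3, one_mul] at this

theorem comm_or {a b : G} (ha : a ∈ S.Q x) (hb : b ∈ S.Q x) : Commute a b ∨ a * b * a⁻¹ = b * x := by
  refine ((h.xe hx).mem_Z.mp ((h.xe hx).comm_mem ha hb)).imp commutatorElement_eq_one_iff_commute.mp fun e => ?_
  rw [(h.cQ hx hb).eq, ← e, commutatorElement_def, inv_mul_cancel_right]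

theorem r_Q {a : G} (ha : a ∈ S.Q x) : S.r x a = 1 := (h.r_ker hx (h.cQ hx ha)).mpr ha

theorem r_one : S.r x 1 = 1 := h.r_Q hx (one_mem _)

theorem r_inv {a : G} (ha : Commute a x) : S.r x a⁻¹ = (S.r x a)⁻¹ :=
  eq_inv_of_mul_eq_one_left (by rw [← h.r_mul hx ha.inv_left ha, inv_mul_cancel, h.r_one hx])

theorem r_conj {a b : G} (ha : Commute a x) (hb : Commute b x) :
    S.r x (a * b * a⁻¹) = S.r x a * S.r x b * (S.r x a)⁻¹ := by
  rw [h.r_mul hx (ha.mul_left hb) ha.inv_left, h.r_mul hx ha hb, h.r_inv hx ha]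

theorem r_pow {a : G} (ha : Commute a x) (n : ℕ) : S.r x (a ^ n) = S.r x a ^ n := by
  induction n with
  | zero => rw [pow_zero, pow_zero, h.r_one hx]
  | succ n ih => rw [pow_succ, h.r_mul hx (ha.pow_left n) ha, ih, pow_succ]

theorem r_eq {a b : G} (ha : Commute a x) (hb : Commute b x) : S.r x a = S.r x b ↔ a * b⁻¹ ∈ S.Q x := by
  rw [← h.r_ker hx (ha.mul_left hb.inv_left), h.r_mul hx ha hb.inv_left, h.r_inv hx hb, mul_inv_eq_one]

theorem r_comm {a b : G} (ha : Commute a x) (hb : Commute b x) (e : Commute a b) : Commute (S.r x a) (S.r x b) := by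
  rw [Commute, SemiconjBy, ← h.r_mul hx ha hb, e.eq, h.r_mul hx hb ha]

theorem r_prod {α : Type*} (k : α → G) (l : List α) (hl : ∀ n ∈ l, Commute (k n) x) :
    Commute (l.map k).prod x ∧ S.r x (l.map k).prod = (l.map fun n => S.r x (k n)).prod := by
  induction l with
  | nil => exact ⟨Commute.one_left x, h.r_one hx⟩
  | cons n l ih =>
    obtain ⟨h1, h2⟩ := ih fun m hm => hl m (List.mem_cons_of_mem _ hm)
    have h3 := hl n List.mem_cons_self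
    exact ⟨h3.mul_left h1, by rw [List.map_cons, List.prod_cons, h.r_mul hx h3 h1, h2]; rfl⟩

/-- The restriction of `r x` to a subgroup of `C(x)`. -/
def hom {Y : Subgroup G} (hY : ∀ y ∈ Y, Commute y x) : Y →* Γ :=
  MonoidHom.mk' (fun y => S.r x y) fun a b => h.r_mul hx (hY a a.2) (hY b b.2)

theorem exists_im {Y : Subgroup G} (hY : ∀ y ∈ Y, Commute y x) : ∃ I : Subgroup Γ,
    (∀ γ, γ ∈ I ↔ ∃ a ∈ Y, S.r x a = γ) ∧ Nat.card Y = Nat.card (Y ⊓ S.Q x : Subgroup G) * Nat.card I := by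
  refine ⟨(h.hom hx hY).range, fun γ => ⟨fun ⟨a, e⟩ => ⟨a, a.2, e⟩, fun ⟨a, ha, e⟩ => ⟨⟨a, ha⟩, e⟩⟩, ?_⟩
  have h2 : (h.hom hx hY).ker = (Y ⊓ S.Q x).subgroupOf Y := Subgroup.ext fun a => by
    rw [mem_subgroupOf, MonoidHom.mem_ker, mem_inf, and_iff_right a.2]; exact h.r_ker hx (hY a a.2)
  rw [← (h.hom hx hY).ker.card_mul_index, index_ker, h2, card_subgroupOf_of_le inf_le_left]

theorem card_cent : Nat.card (centralizer ({x} : Set G)) = 2 ^ 21 * Nat.card Γ := by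
  obtain ⟨I, h1, h2⟩ := h.exists_im hx (Y := centralizer {x}) fun a => mem_cent_singleton.mp
  rw [h2, inf_eq_right.mpr (h.xe hx).le, h.card hx, show I = ⊤ from eq_top_iff.mpr fun γ _ => (h1 γ).mpr
    ((h.r_surj hx γ).imp fun a ha => ⟨mem_cent_singleton.mpr ha.1, ha.2⟩), card_top]

theorem π_one : S.π x 1 = 0 := (h.π_zero hx (one_mem _)).mpr (Or.inl rfl)

theorem π_self : S.π x x = 0 := (h.π_zero hx (h.self_mem hx)).mpr (Or.inr rfl)

theorem π_inv {a : G} (ha : a ∈ S.Q x) : S.π x a⁻¹ = S.π x a :=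
  eq_of_add_eq_zero_zmod2 (by rw [← h.π_mul hx (inv_mem ha) ha, inv_mul_cancel, h.π_one hx])

theorem π_eq {a b : G} (ha : a ∈ S.Q x) (hb : b ∈ S.Q x) : S.π x a = S.π x b ↔ a = b ∨ a = b * x := by
  rw [← inv_mul_eq_iff_eq_mul, eq_comm (a := a), ← inv_mul_eq_one (a := b), ← h.π_zero hx (mul_mem (inv_mem hb) ha),
    h.π_mul hx (inv_mem hb) ha, h.π_inv hx hb]
  exact ⟨fun e => by rw [e, add_self_zmod2], fun e => (eq_of_add_eq_zero_zmod2 e).symm⟩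

theorem fix_iff {c a : G} (hc : Commute c x) (ha : a ∈ S.Q x) :
    S.ρ (S.r x c) (S.π x a) = S.π x a ↔ Commute c a ∨ c * a * c⁻¹ = a * x := by
  rw [h.ρ_π hx hc ha, h.π_eq hx (h.conjQ hx hc ha) ha, mul_inv_eq_iff_eq_mul]; rfl

theorem fix_of_comm {c a : G} (hc : Commute c x) (ha : a ∈ S.Q x) (e : Commute c a) :
    S.ρ (S.r x c) (S.π x a) = S.π x a := (h.fix_iff hx hc ha).2 (.inl e)

theorem π_comm {c a : G} (hc : Commute c x) (ha : a ∈ S.Q x) :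
    a * c * a⁻¹ * c⁻¹ ∈ S.Q x ∧ S.π x (a * c * a⁻¹ * c⁻¹) = S.π x a + S.ρ (S.r x c) (S.π x a) := by
  rw [show a * c * a⁻¹ * c⁻¹ = a * (c * a⁻¹ * c⁻¹) by group]
  exact ⟨mul_mem ha (h.conjQ hx hc (inv_mem ha)), by
    rw [h.π_mul hx ha (h.conjQ hx hc (inv_mem ha)), ← h.ρ_π hx hc (inv_mem ha), h.π_inv hx ha]⟩

theorem card_pre (W : Submodule (ZMod 2) V20) : ∃ X : Subgroup G,
    (∀ a, a ∈ X ↔ a ∈ S.Q x ∧ S.π x a ∈ W) ∧ Nat.card X = 2 * Nat.card W := by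
  let X : Subgroup G :=
    { carrier := {a | a ∈ S.Q x ∧ S.π x a ∈ W}
      one_mem' := ⟨one_mem _, h.π_one hx ▸ W.zero_mem⟩
      mul_mem' := fun ha hb => ⟨mul_mem ha.1 hb.1, h.π_mul hx ha.1 hb.1 ▸ add_mem ha.2 hb.2⟩
      inv_mem' := fun ha => ⟨inv_mem ha.1, (h.π_inv hx ha.1).symm ▸ ha.2⟩ }
  let f : X →* Multiplicative W := MonoidHom.mk' (fun a => Multiplicative.ofAdd ⟨S.π x a, a.2.2⟩) fun a b =>
    Subtype.ext (h.π_mul hx a.2.1 b.2.1)
  have h1 : Function.Surjective f := fun w => by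
    obtain ⟨a, ha, e⟩ := h.π_surj hx w.toAdd
    exact ⟨⟨a, ha, e ▸ w.toAdd.2⟩, Subtype.ext e⟩
  have h2 : f.ker = (zpowers x).subgroupOf X := Subgroup.ext fun a => by
    rw [mem_subgroupOf, (h.xe hx).mem_Z, ← h.π_zero hx a.2.1, MonoidHom.mem_ker]; exact Subtype.ext_iff
  refine ⟨X, fun _ => Iff.rfl, ?_⟩
  rw [← f.ker.card_mul_index, index_ker, MonoidHom.range_eq_top.mpr h1, card_top, h2, card_subgroupOf_of_le
    (zpowers_le.mpr (show x ∈ X from ⟨h.self_mem hx, h.π_self hx ▸ W.zero_mem⟩)), Nat.card_zpowers, (h.xe hx).ord]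
  rfl

theorem card_ab {E : Subgroup G} (hE : E ≤ S.Q x) (ha : ∀ a ∈ E, ∀ b ∈ E, a * b = b * a) : Nat.card E ≤ 2 ^ 11 := by
  have := h.fin
  have := extra_card_le_of_isMulCommutative (h.xe hx).extra (n := 10) (h.card hx) (E.subgroupOf (S.Q x))
    ⟨⟨fun a b => Subtype.ext (Subtype.ext (ha _ a.2 _ b.2))⟩⟩
  rwa [card_subgroupOf_of_le hE] at this

theorem card_half {y : G} (hy : y ∈ S.Q x) : 2 ^ 20 ≤ Nat.card (S.Q x ⊓ centralizer ({y} : Set G) : Subgroup G) := by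
  have := h.fin
  have := U6.idx2 (X := S.Q x) (K := centralizer {y}) fun a ha b hb => (h.xe hx).mul_mem_cent hy ha hb
  rw [h.card hx] at this
  omega

/-- an involution of `Q x` outside the centre is conjugate to its product with `x` -/
theorem exists_swap {y : G} (hy : y ∈ S.Q x) (h1 : y ≠ 1) (h2 : y ≠ x) : ∃ a ∈ S.Q x, a * y * a⁻¹ = y * x := by
  obtain ⟨v, hv⟩ : ∃ v, S.B (S.π x y) v ≠ 0 := by
    by_contra! e
    exact ((h.π_zero hx hy).1 (h.om.hN _ e)).elim h1 h2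
  obtain ⟨a, ha, rfl⟩ := h.π_surj hx v
  exact ⟨a, ha, (h.comm_or hx ha hy).resolve_left fun e => hv ((h.B_zero hx hy ha).2 e.symm)⟩

theorem mul_mem_D {y : G} (hD : y ∈ S.D) (hy : y ∈ S.Q x) (h2 : y ≠ x) : y * x ∈ S.D := by
  obtain ⟨a, -, e⟩ := h.exists_swap hx hy (h.ne_one hD) h2
  exact e ▸ h.conj hD a

theorem sym {y : G} (hy : y ∈ S.D) (e : y ∈ S.Q x) : x ∈ S.Q y := by
  have := h.fin
  obtain ⟨g, rfl⟩ := h.cls hx hy
  rw [h.Qc hx]
  exact (h.xe hx).mem_cj_of_conj_mem e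

theorem exists_nb : ∃ y ∈ S.D, y ∈ S.Q x ∧ y ≠ x := by
  obtain ⟨u, hu, y, hy, h1, h2⟩ := h.nwc
  obtain ⟨g, rfl⟩ := h.cls hu hx
  exact ⟨_, h.conj hy g, h.conj_mem_Q hu g h1, fun e => h2 (by simpa using e)⟩

/-- elements of `Q x ⊓ Q y` commute -/
theorem comm_of_mem {y a b : G} (hy : y ∈ S.D) (hne : x ≠ y) (ha : a ∈ S.Q x) (hb : b ∈ S.Q x) (ha' : a ∈ S.Q y)
    (hb' : b ∈ S.Q y) : Commute a b :=
  (h.comm_or hx ha hb).elim id fun e => (h.comm_or hy ha' hb').resolve_right fun e' =>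
    hne (mul_left_cancel (e.symm.trans e'))

/-- what commutes with `x, y` lies in `Q x` if and only if it lies in `Q y` -/
theorem mem_of_cube {y a : G} (hy : y ∈ S.D) (h3 : (x * y) ^ 3 = 1) (ha : a ∈ S.Q x) (e : Commute a y) : a ∈ S.Q y := by
  have := h.conj_mem_Q hx (x * y) ha
  rwa [conj_of_cube (h.sq hx) (h.sq hy) h3, ((h.cQ hx ha).mul_right e).symm.mul_inv_cancel] at this

end

theorem sy_symm {u v : G} (e : S.Sy u v) : S.Sy v u := by
  obtain ⟨h1, h2, h3, h4, x, h5, h6, h7⟩ := e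
  exact ⟨h2, h1, h3.symm, fun e => h4 (h.sym h2 h1 e), x, h5, h7, h6⟩

theorem sy_conj {u v : G} (e : S.Sy u v) (g : G) : S.Sy (g * u * g⁻¹) (g * v * g⁻¹) := by
  obtain ⟨h1, h2, h3, h4, x, h5, h6, h7⟩ := e
  refine ⟨h.conj h1 g, h.conj h2 g, (CL.TT.commute_conj_iff g _ _).2 h3, fun e => h4 ?_, _, h.conj h5 g,
    h.conj_mem_Q h5 g h6, h.conj_mem_Q h5 g h7⟩
  simpa [mul_assoc] using h.conj_mem_Q (h.conj h1 g) g⁻¹ e

theorem sy_conj' {u v g : G} (e : S.Sy u v) (hg : Commute g u) : S.Sy u (g * v * g⁻¹) := by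
  have := h.sy_conj e g
  rwa [hg.mul_inv_cancel] at this

theorem op_symm {u v : G} (e : S.OP u v) : S.OP v u := by
  obtain ⟨h1, h2, h3, h4, y, y', a1, a2, a3, a4, a5⟩ := e
  have h5 : (v * u) ^ 3 = 1 := by
    rw [← h.inv_eq h1, ← h.inv_eq h2, ← mul_inv_rev, inv_pow, h3, inv_one]
  exact ⟨h2, h1, h5, h4.symm, y, y', a2, a1, a4, a3, fun e =>
    a5 (h.mem_of_cube h2 h1 h5 e (a1.2.2.1.symm.mul_left a3.2.2.1.symm))⟩

theorem op_conj {u v : G} (e : S.OP u v) (g : G) : S.OP (g * u * g⁻¹) (g * v * g⁻¹) := by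
  obtain ⟨h1, h2, h3, h4, y, y', a1, a2, a3, a4, a5⟩ := e
  refine ⟨h.conj h1 g, h.conj h2 g, by rw [conj_mul, conj_pow, h3]; simp, fun e => h4 (by simpa using e), _, _,
    h.sy_conj a1 g, h.sy_conj a2 g, h.sy_conj a3 g, h.sy_conj a4 g, fun e => a5 ?_⟩
  simpa [mul_assoc] using h.conj_mem_Q (h.conj h1 g) g⁻¹ e

theorem op_not_comm {u v : G} (e : S.OP u v) : ¬ Commute u v := fun c =>
  e.2.2.2.1 (BM.Br.eq_of_comm (BM.br_of_pow (h.sq e.1) (h.sq e.2.1) e.2.2.1) c)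

theorem cn_mem {u v : G} (hu : u ∈ S.D) (e : S.Cn u v) : v ∈ S.D := by
  induction e with
  | refl => exact hu
  | tail _ h1 _ => exact h1.1

theorem cn_symm {u v : G} (hu : u ∈ S.D) (e : S.Cn u v) : S.Cn v u := by
  induction e with
  | refl => exact .refl
  | tail h0 h1 ih => exact .head ⟨h.cn_mem hu h0, h.sym (h.cn_mem hu h0) h1.1 h1.2⟩ ih

theorem cn_conj {u v : G} (hu : u ∈ S.D) (e : S.Cn u v) (g : G) : S.Cn (g * u * g⁻¹) (g * v * g⁻¹) := by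
  induction e with
  | refl => exact .refl
  | tail h0 h1 ih => exact ih.tail ⟨h.conj h1.1 g, h.conj_mem_Q (h.cn_mem hu h0) g h1.2⟩

theorem cn_of_sy {u v : G} (e : S.Sy u v) : S.Cn u v := by
  obtain ⟨h1, h2, -, -, x, h5, h6, h7⟩ := e
  exact .tail (.single ⟨h5, h.sym h5 h1 h6⟩) ⟨h2, h7⟩

section
variable {u v : G} (C : S.Ch u v)
include C

theorem ch_ext {a b : G} (ha : Commute a u) (ha' : Commute a v) (hb : Commute b u) (hb' : Commute b v)
    (e : S.r u a = S.r u b) : a = b :=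
  mul_inv_eq_one.1 (C.inj _ (ha.mul_left hb.inv_left) (ha'.mul_left hb'.inv_left) ((h.r_eq C.op.1 ha hb).1 e))

theorem ch_eq_one {a : G} (ha : Commute a u) (ha' : Commute a v) (e : S.r u a = 1) : a = 1 :=
  C.inj _ ha ha' ((h.r_ker C.op.1 ha).1 e)

theorem ch_comm {a b : G} (ha : Commute a u) (ha' : Commute a v) (hb : Commute b u) (hb' : Commute b v)
    (e : Commute (S.r u a) (S.r u b)) : Commute a b :=
  h.ch_ext C (ha.mul_left hb) (ha'.mul_left hb') (hb.mul_left ha) (hb'.mul_left ha')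
    (by rw [h.r_mul C.op.1 ha hb, h.r_mul C.op.1 hb ha, e.eq])

theorem ch_pow {a : G} (ha : Commute a u) (ha' : Commute a v) {n : ℕ} (e : S.r u a ^ n = 1) : a ^ n = 1 :=
  h.ch_eq_one C (ha.pow_left n) (ha'.pow_left n) (by rw [h.r_pow C.op.1 ha, e])

/-- the complement as a homomorphism -/
theorem ch_hom : ∃ φ : Γ →* G, ∀ γ, Commute (φ γ) u ∧ Commute (φ γ) v ∧ S.r u (φ γ) = γ := by
  choose f h1 h2 h3 using C.surj
  exact ⟨MonoidHom.mk' f fun a b => h.ch_ext C (h1 _) (h2 _) ((h1 a).mul_left (h1 b)) ((h2 a).mul_left (h2 b))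
    (by rw [h.r_mul C.op.1 (h1 a) (h1 b), h3, h3, h3]), fun γ => ⟨h1 γ, h2 γ, h3 γ⟩⟩

end

end St

theorem B4.exists_ch (h : S.B4) {z : G} (hz : z ∈ S.D) : ∃ z', S.Ch z z' := by
  obtain ⟨u, v, e⟩ := h.l7
  obtain ⟨g, rfl⟩ := h.cls e.1 hz
  exact ⟨_, h.lc _ _ (h.toSt.op_conj e g)⟩

end Dat

end CL.E6S
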