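/-
Centralisers `2^{1+20}.U₆(2)` (job E6S-EN): the subgroup generated by the nodes.
-/
import Cfsg.Agent.Spor.E6SC

set_option autoImplicit false

namespace CL.E6S

open Subgroup CL.Even CL.Grp CL.Uni CL.Rec CL.IN Cfsg Module

universe u

variable {G Γ : Type u} [Group G] [Group Γ] {S : Dat G Γ}

namespace En

/-- conjugate under `H` -/
def Cj (H : Subgroup G) (u v : G) : Prop := ∃ g ∈ H, g * u * g⁻¹ = v

theorem Cj.trans {H : Subgroup G} {u v w : G} (h : Cj H u v) (h' : Cj H v w) : Cj H u w := by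
  obtain ⟨g, hg, rfl⟩ := h
  obtain ⟨g', hg', rfl⟩ := h'
  exact ⟨g' * g, mul_mem hg' hg, by group⟩

theorem Cj.symm {H : Subgroup G} {u v : G} (h : Cj H u v) : Cj H v u := by
  obtain ⟨g, hg, rfl⟩ := h
  exact ⟨g⁻¹, inv_mem hg, by group⟩

theorem Cj.card {H : Subgroup G} {u v : G} (h : Cj H u v) :
    Nat.card (H ⊓ centralizer {v} : Subgroup G) = Nat.card (H ⊓ centralizer {u} : Subgroup G) := by
  obtain ⟨g, hg, rfl⟩ := h
  rw [← card_cj g (H ⊓ centralizer {u})]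
  congr 2
  ext x
  rw [mem_cj, mem_inf, mem_inf, mul_mem_cancel_right hg, mul_mem_cancel_left (inv_mem hg), mem_cent_singleton,
    mem_cent_singleton]
  refine and_congr_right fun _ => Iff.trans ?_ (CL.TT.commute_conj_iff g (g⁻¹ * x * g) u)
  rw [show g * (g⁻¹ * x * g) * g⁻¹ = x by group]
  rfl

theorem core {H : Type u} [Group H] [Finite H] (K : Subgroup H) (h : K.index ≤ 6) : ∃ N : Subgroup H, N.Normal ∧ N ≤ K ∧
    ∀ X : Subgroup H, Nat.card X ≤ 720 * Nat.card (X ⊓ N : Subgroup H) := by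
  refine ⟨K.normalCore, inferInstance, K.normalCore_le, fun X => ?_⟩
  have h1 : K.normalCore.index ≤ 720 := by
    rw [normalCore_eq_ker, index_ker]
    refine (Nat.card_le_card_of_injective _ Subtype.val_injective).trans ?_
    rw [Nat.card_perm]
    exact Nat.factorial_le (n := 6) h
  have h2 := (K.normalCore.subgroupOf X).card_mul_index
  rw [← inf_subgroupOf_right, card_subgroupOf_of_le inf_le_right, inf_subgroupOf_right, inf_comm] at h2
  rw [← h2, mul_comm]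
  exact Nat.mul_le_mul_right _ ((Nat.le_of_dvd (Nat.pos_of_ne_zero index_ne_zero_of_finite)
    (relIndex_dvd_index_of_normal _ X)).trans h1)

theorem cen (h : S.B1) {z : G} {K : Subgroup G} (hz : z ∈ S.D) (zK : z ∈ K) (hK : K ≤ centralizer {z})
    (hc : Nat.card K = 2 ^ 21 * 9196830720) :
    S.Q z ≤ K ∧ ∀ c, Commute c z → (c ∈ K ↔ S.r z c ∈ S.ι.range) := by
  have := h.fin
  have := h.ua.fin
  have cz : ∀ a ∈ K, Commute a z := fun a ha => mem_cent_singleton.1 (hK ha)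
  have i6 := h.ua.index_le
  have hQ : S.Q z ≤ K := by
    obtain ⟨N, hN, NK, hX⟩ := core (K.subgroupOf (centralizer {z})) (by
      have e1 := (K.subgroupOf (centralizer {z})).card_mul_index
      rw [card_subgroupOf_of_le hK, h.card_cent hz, hc, ← S.ι.range.card_mul_index, h.uc.card, ← mul_assoc] at e1
      exact (Nat.eq_of_mul_eq_mul_left (by norm_num) e1).trans_le i6)
    let U : Submodule (ZMod 2) V20 :=
      { carrier := {v | ∃ a ∈ N, a.1 ∈ S.Q z ∧ S.π z a = v}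
        zero_mem' := ⟨1, one_mem _, one_mem _, h.π_one hz⟩
        add_mem' := by
          rintro _ _ ⟨a, a1, a2, rfl⟩ ⟨b, b1, b2, rfl⟩
          exact ⟨a * b, mul_mem a1 b1, mul_mem a2 b2, h.π_mul hz a2 b2⟩
        smul_mem' := fun c v hv => by
          rcases (by decide : ∀ c : ZMod 2, c = 0 ∨ c = 1) c with rfl | rfl
          · exact ⟨1, one_mem _, one_mem _, (h.π_one hz).trans (zero_smul _ _).symm⟩
          · rwa [one_smul] }
    rcases h.mb.irr U (by
      rintro g _ ⟨a, a1, a2, rfl⟩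
      obtain ⟨c, c1, c2⟩ := h.r_surj hz (S.ι g)
      exact ⟨_, hN.conj_mem a a1 ⟨c, mem_cent_singleton.2 c1⟩, h.conjQ hz c1 a2, by
        rw [← c2, h.ρ_π hz c1 a2]; rfl⟩) with e | e
    · have h1 := hX ((S.Q z).subgroupOf _)
      have h2 := card_le_of_le (H := (S.Q z).subgroupOf _ ⊓ N) (K := (zpowers z).subgroupOf _) fun a ha =>
        (h.xe hz).mem_Z.2 ((h.π_zero hz ha.1).1 (e.le ⟨a, ha.2, ha.1, rfl⟩))
      rw [card_subgroupOf_of_le (zpowers_le.2 (hK zK)), Nat.card_zpowers, (h.xe hz).ord] at h2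
      rw [card_subgroupOf_of_le (h.xe hz).le, h.card hz] at h1
      omega
    · intro a ha
      obtain ⟨b, b1, b2, e⟩ := e.ge (Submodule.mem_top (x := S.π z a))
      rcases (h.π_eq hz ha b2).1 e.symm with rfl | rfl
      exacts [NK b1, mul_mem (NK b1) zK]
  obtain ⟨I, h1, h2⟩ := h.exists_im hz cz
  rw [inf_eq_right.2 hQ, hc, h.card hz, ← h.uc.card] at h2
  replace h2 := Nat.eq_of_mul_eq_mul_left (by norm_num) h2
  have h3 : S.ι.range ≤ I := by
    obtain ⟨N, hN, NK, hX⟩ := core I (by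
      have e1 := I.card_mul_index
      rw [← S.ι.range.card_mul_index, h2] at e1
      exact (Nat.eq_of_mul_eq_mul_left Nat.card_pos e1).trans_le i6)
    rcases herm6.normal_le_center_or_eq_top (by rw [finrank6]; omega) (by rw [finrank6]; omega) (N.comap S.ι)
      (hN.comap _) with e | e
    · have h4 := hX S.ι.range
      rw [show S.ι.range ⊓ N = ⊥ from eq_bot_iff.2 (by
        rintro _ ⟨⟨g, rfl⟩, hg⟩
        exact (h.ua.ker g).2 ((herm6.mem_center_SUG (by rw [finrank6]; omega) g).1 (e hg))), card_bot, h.uc.card] at h4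
      omega
    · rintro _ ⟨g, rfl⟩
      exact NK (e.ge (mem_top g))
  rw [eq_of_le_of_card_ge h3 h2.ge]
  refine ⟨hQ, fun c hc => ⟨fun e => (h1 _).2 ⟨c, e, rfl⟩, fun e => ?_⟩⟩
  obtain ⟨a, ha, e⟩ := (h1 _).1 e
  exact (mul_mem_cancel_right (inv_mem ha)).1 (hQ ((h.r_eq hz hc (cz a ha)).1 e.symm))

end En

open En

theorem en (h : S.B4) {k : Nd → G} (C : S.Cx k) (R : Rel I2 k) (f2 : k .f2 = 1) (f3 : k .f3 = 1)
    (hc : Nat.card (Gp I2 k) = 76532479683774853939200)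
    (hp : Nat.card (centralizer ({sub I2 k .d2} : Set (Gp I2 k))) = 2 ^ 21 * 9196830720) :
    S.EN (k .d3) (Gp I2 k) := by
  have := h.fin
  have ed : ∀ m n, m ∈ I2 ∧ n ∈ I2 ∧ Spor.coxLabel Spor.Bimonster.edges m n = 3 → Cj (Gp I2 k) (k m) (k n) :=
    fun m n e => ⟨_, mul_mem (mem_Gp e.1) (mem_Gp e.2.1),
      conj_of_cube (R.sq e.1) (R.sq e.2.1) (e.2.2 ▸ R.cox m e.1 n e.2.1)⟩
  have za : Cj (Gp I2 k) (k .d3) (k .a) :=
    ((ed _ .c3 (by decide)).trans (ed _ .b3 (by decide))).trans (ed _ _ (by decide))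
  have zd : Cj (Gp I2 k) (k .d3) (k .d2) :=
    ((za.trans (ed _ .b2 (by decide))).trans (ed _ .c2 (by decide))).trans (ed _ _ (by decide))
  obtain sy := C.sy .d3 (by decide) .a (by decide) (by decide)
  obtain ⟨zD, lD, zl, lQ, x, xD, zx, lx⟩ := sy
  obtain ⟨hQ, hcen⟩ := cen h.toB1 (K := Gp I2 k ⊓ centralizer {k .d3}) zD
    ⟨mem_Gp (by decide), mem_cent_singleton.2 (Commute.refl _)⟩ inf_le_right (by
      rw [← zd.card, ← hp, ← card_subgroupOf_of_le (inf_le_left : _ ≤ Gp I2 k), inf_subgroupOf_left]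
      congr 2
      ext g
      rw [mem_subgroupOf, mem_cent_singleton, mem_cent_singleton, ← sub_coe (I := I2) (k := k) (by decide)]
      exact ⟨fun e => Subtype.ext e, fun e => congrArg Subtype.val e⟩)
  have hH : ∀ c, Commute c (k .d3) → (c ∈ Gp I2 k ↔ S.r (k .d3) c ∈ S.ι.range) := fun c hc =>
    (and_iff_left (mem_cent_singleton.2 hc)).symm.trans (hcen c hc)
  have xz := h.sym xD zD zx
  have xl := h.sym xD lD lx
  have ne : x ≠ k .d3 := fun e => lQ (e ▸ lx)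
  have zx' : Cj (Gp I2 k) (k .d3) x := by
    obtain ⟨a, ha, e⟩ := h.exists_swap lD xl (h.ne_one xD) fun e => lQ (e ▸ xz)
    obtain ⟨v, v1, v2⟩ : ∃ v, S.B (S.π x (k .d3)) v = 0 ∧ S.B (S.π x (k .a)) v ≠ 0 := by
      by_contra! c
      refine lQ ((forall_B_eq_zero_or c).elim (fun e => ?_) fun e => ?_)
      · rcases (h.π_zero xD lx).1 (h.om.hN _ e) with e | e <;> rw [e]
        exacts [one_mem _, xz]
      · rcases (h.π_eq xD lx zx).1 (eq_of_add_eq_zero_zmod2 (h.om.hN _ e)) with e | e <;> rw [e]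
        exacts [h.self_mem zD, mul_mem (h.self_mem zD) xz]
    obtain ⟨y, hy, rfl⟩ := h.π_surj xD v
    have yz := ((h.B_zero xD zx hy).1 v1).symm
    obtain ⟨W, -, hW⟩ := h.l1 _ x zD xD xz ne
    refine (za.trans ⟨y, (hH y yz).2 (AW_le_range W ((hW _).2 ⟨y, hy, yz, rfl⟩)),
      (h.comm_or xD hy lx).resolve_left fun e => v2 ((h.B_zero xD lx hy).2 e.symm)⟩).trans (Cj.symm ⟨a, ?_, ?_⟩)
    · obtain ⟨g, hg, e⟩ := za
      rw [← e, h.Qc zD, mem_cj] at ha
      exact (mul_mem_cancel_left (inv_mem hg)).1 ((mul_mem_cancel_right hg).1 (hQ ha).1)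
    · rw [e, (h.cQ xD lx).eq]
  refine ⟨zD, mem_Gp (by decide), Gp_le.2 fun n hn => ?_, hH, fun u hu => ?_, hc⟩
  · by_cases e : n = .f2 ∨ n = .f3
    · rcases e with rfl | rfl
      exacts [f2 ▸ one_mem _, f3 ▸ one_mem _]
    · obtain ⟨a, m, b, c⟩ : n ∈ Dat.I10 ∧ ∃ m ∈ Dat.I10, Spor.coxLabel Spor.Bimonster.edges n m = 3 := by
        revert n; decide
      exact subset_closure (C.op n a m b c).1
  · induction hu with
    | refl => exact ⟨1, one_mem _, by group⟩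
    | @tail u v _ h1 ih =>
      obtain ⟨g, hg, rfl⟩ := ih
      have a := h.conj_mem_Q (h.conj zD g) g⁻¹ h1.2
      rw [show g⁻¹ * (g * k .d3 * g⁻¹) * g⁻¹⁻¹ = k .d3 by group] at a
      refine Cj.trans (v := g⁻¹ * v * g⁻¹⁻¹) ?_ ⟨g, hg, by group⟩
      by_cases e : g⁻¹ * v * g⁻¹⁻¹ = k .d3
      · exact ⟨1, one_mem _, by rw [e]; group⟩
      · obtain ⟨c, c1, c2, c3⟩ := h.la.tr _ x _ zD xD (h.conj h1.1 g⁻¹) xz a ne e
        exact zx'.trans ⟨c, (hH c c1).2 c2, c3⟩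

end CL.E6S
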