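/-
Centralisers `2^{1+20}.U₆(2)` and `2^{1+20}.U₆(2).2`: commuting conjugates with inner image.
-/
import Cfsg.Agent.Spor.E6SC

set_option autoImplicit false

namespace CL.E6S

open Subgroup CL.Even CL.Grp CL.Uni CL.Rec CL.IN Cfsg Module

universe u

variable {G Γ : Type u} [Group G] [Group Γ] {S : Dat G Γ}

namespace Fi

section lin

variable {ρ : Γ →* Module.End (ZMod 2) V20} {s t : Γ} {v : V20}

theorem fx_comm (c : Commute t s) (h : ρ t v = v) : ρ t (ρ s v) = ρ s v := by rw [← ρ_mul, c.eq, ρ_mul, h]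

theorem fx_nm (c : Commute t s) (h : ρ t v = v) :
    ρ t (v + (ρ s v + ρ s (ρ s v))) = v + (ρ s v + ρ s (ρ s v)) := by
  rw [map_add, map_add, h, fx_comm c h, fx_comm c (fx_comm c h)]

theorem nm_fx (h : s ^ 3 = 1) (v : V20) : ρ s (v + (ρ s v + ρ s (ρ s v))) = v + (ρ s v + ρ s (ρ s v)) := by
  rw [map_add, map_add, ← ρ_mul s s (ρ s v), ← ρ_mul (s * s), ← pow_three', h, ρ_one]
  abel

end lin

/-- the elements of `C(y)` with inner image -/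
def K (h : S.St) {y : G} (hy : y ∈ S.D) : Subgroup G where
  carrier := {c | Commute c y ∧ S.r y c ∈ G0 S.ι}
  one_mem' := ⟨Commute.one_left y, h.r_one hy ▸ one_mem _⟩
  mul_mem' := fun a b => ⟨a.1.mul_left b.1, h.r_mul hy a.1 b.1 ▸ mul_mem a.2 b.2⟩
  inv_mem' := fun a => ⟨a.1.inv_left, h.r_inv hy a.1 ▸ inv_mem a.2⟩

theorem comm_K (h : S.St) {y c d : G} (hy : y ∈ S.D) (hc : Commute c y) (hd : Commute d y) :
    c * d * c⁻¹ * d⁻¹ ∈ K h hy :=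
  ⟨((hc.mul_left hd).mul_left hc.inv_left).mul_left hd.inv_left, by
    rw [h.r_mul hy ((hc.mul_left hd).mul_left hc.inv_left) hd.inv_left, h.r_conj hy hc hd, h.r_inv hy hd]
    exact h.ua.comm_mem _ _⟩

theorem sy_K (h : S.B4) {y l : G} (hy : y ∈ S.D) (e : S.Sy y l) : l ∈ K h.toSt hy := by
  obtain ⟨p, -, e1⟩ := h.lb.tv y l e
  exact ⟨e.2.2.1.symm, e1 ▸ range_le_G0 (τ_mem_range p)⟩

variable (h : S.B4) {z z' : G} (C : S.Ch z z') {φ : Γ →* G}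
  (hφ : ∀ γ, Commute (φ γ) z ∧ Commute (φ γ) z' ∧ S.r z (φ γ) = γ)
include h C hφ

omit h in
theorem sy_φ {p : V6} (hp : Iso p) : S.Sy z (φ (τ S.ι p)) := (C.tv _ p (hφ _).1 (hφ _).2.1 hp (hφ _).2.2).1

theorem fixc {p p' : V6} (hp : Hy p p') {c : G} (hc : c ∈ S.Q z) (e : S.ρ (τ S.ι p * τ S.ι p') (S.π z c) = S.π z c) :
    Commute c (φ (τ S.ι p)) ∧ Commute c (φ (τ S.ι p')) := by
  have h1 := h.ma.fix1 p p' _ hp e
  refine ⟨h.lb.fix z _ c (sy_φ C hφ hp.1) hc (by rw [(hφ _).2.2, h1]),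
    h.lb.fix z _ c (sy_φ C hφ hp.2.1) hc ?_⟩
  rw [(hφ _).2.2, ← one_mul (τ S.ι p'), ← τ_sq p, mul_assoc, ρ_mul, e, h1]

theorem K1 {p p' : V6} (hp : Hy p p') {g : SU6} (g2 : g * g = 1) (h1 : g.1 p = p) (h2 : g.1 p' = p') :
    φ (S.ι g) ∈ K h.toSt (sy_φ C hφ hp.1).2.1 := by
  obtain ⟨W, -, hg⟩ := h.up.inv3 g g2
  refine (closure_le (((K h.toSt (sy_φ C hφ hp.1).2.1).comap φ).comap S.ι)).2 ?_ hg
  rintro _ ⟨s, -, hs, h3, rfl⟩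
  refine sy_K h (sy_φ C hφ hp.1).2.1 (h.l8.sy z z' _ _ C (sy_φ C hφ hp.1) (sy_φ C hφ hs) (hφ _).2.1 (hφ _).2.1 (fun e => ?_)
    ((τ_comm hp.1 hs (h3 p h1)).map φ))
  have := congrArg (S.r z) e
  rw [(hφ _).2.2, (hφ _).2.2] at this
  exact hp.symm.2.2 (((h.ua.τ_inj hp.1 hs this).B_right p').2 (h3 p' h2))

theorem K2 {p p' : V6} (hp : Hy p p') {c : G} (hc : c ∈ S.Q z) (e : S.ρ (τ S.ι p * τ S.ι p') (S.π z c) = S.π z c) :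
    c ∈ K h.toSt (sy_φ C hφ hp.1).2.1 := by
  have hz := C.op.1
  obtain ⟨r, r', F, rfl, rfl⟩ := h.ue.fr1 p p' hp
  have c1 : ∀ i j, i ≠ j → Commute (τ S.ι (r i)) (tf S.ι r r' j) := fun i j ij =>
    (τ_comm (F.hy i).1 (F.hy j).1 (F.pp i j)).mul_right (τ_comm (F.hy i).1 (F.hy j).2.1 (F.pq i j ij))
  have c2 : ∀ i j, i ≠ j → Commute (tf S.ι r r' i) (tf S.ι r r' j) := fun i j ij => (c1 i j ij).mul_left
    ((τ_comm (F.hy j).1 (F.hy i).2.1 (F.pq j i ij.symm)).symm.mul_right (τ_comm (F.hy i).2.1 (F.hy j).2.1 (F.qq i j)))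
  have k : ∀ j, 0 ≠ j → ∀ x, S.ρ (tf S.ι r r' 0) x = x → ∃ b ∈ S.Q z, b ∈ K h.toSt (sy_φ C hφ hp.1).2.1 ∧
      S.π z b = S.ρ (tf S.ι r r' j) x + S.ρ (tf S.ι r r' j) (S.ρ (tf S.ι r r' j) x) := fun j hj x hx => by
    obtain ⟨d, hd, e1⟩ := h.π_surj hz (S.ρ (tf S.ι r r' j) x)
    obtain ⟨a1, a2⟩ := h.toSt.π_comm hz (hφ (tf S.ι r r' j)).1 hd
    exact ⟨_, a1, comm_K _ _ (fixc h C hφ hp hd (e1 ▸ fx_comm (c2 0 j hj) hx)).1 ((c1 0 j hj).symm.map φ),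
      by rw [a2, (hφ _).2.2, e1]⟩
  have e1 := fx_nm (c2 0 1 (by decide)) e
  obtain ⟨b1, q1, k1, p1⟩ := k 1 (by decide) _ e
  obtain ⟨b2, q2, k2, p2⟩ := k 2 (by decide) _ e1
  have e2 := h.ma.fr0 r r' _ F fun i => match i with
    | 0 => fx_nm (c2 0 2 (by decide)) e1
    | 1 => fx_nm (c2 1 2 (by decide)) (nm_fx (τ_cube (F.hy 1)) _)
    | 2 => nm_fx (τ_cube (F.hy 2)) _
  rw [← p2, ← p1, add_assoc, ← h.π_mul hz q1 q2] at e2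
  rcases (h.toSt.π_eq hz hc (mul_mem q1 q2)).1 (eq_of_add_eq_zero_zmod2 e2) with rfl | rfl
  · exact mul_mem k1 k2
  · exact mul_mem (mul_mem k1 k2) (sy_K h _ (h.toSt.sy_symm (sy_φ C hφ hp.1)))

theorem core {p p' : V6} (hp : Hy p p') {g : SU6} (g2 : g * g = 1) (h1 : g.1 p = p) (h2 : g.1 p' = p') {c : G}
    (hc : c ∈ S.Q z) (e : S.ρ (τ S.ι p * τ S.ι p') (S.π z c) = S.π z c)
    (hu : φ (τ S.ι p) * (φ (S.ι g) * c) ∈ S.D) : S.Cn z (φ (τ S.ι p) * (φ (S.ι g) * c)) := by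
  have s1 := sy_φ C hφ hp.1
  have C1 := h.lc _ _ (h.l8.op z z' _ _ C s1 (sy_φ C hφ hp.2.1) (hφ _).2.1 (hφ _).2.1 fun e => by
    have := h.toSt.r_comm C.op.1 (hφ _).1 (hφ _).1 e
    rw [(hφ _).2.2, (hφ _).2.2] at this
    exact hp.2.2 ((h.ua.τ_comm_iff hp.1 hp.2.1).1 this))
  have m1 := mul_mem (K1 h C hφ hp g2 h1 h2) (K2 h C hφ hp hc e)
  have m2 : Commute (φ (S.ι g) * c) (φ (τ S.ι p')) := Commute.mul_left
    (Commute.map (mul_inv_eq_iff_eq_mul.1 (by rw [τ_conj g hp.2.1, h2])) φ) (fixc h C hφ hp hc e).2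
  generalize φ (S.ι g) * c = m at hu m1 m2
  have m3 := h.toSt.sq hu
  rw [m1.1.mul_mul_mul_comm, h.toSt.sq s1.2.1, one_mul] at m3
  have m4 : S.r (φ (τ S.ι p)) m * S.r (φ (τ S.ι p)) m = 1 := by
    rw [← h.r_mul s1.2.1 m1.1 m1.1, m3, h.toSt.r_one s1.2.1]
  obtain ⟨k, k2, e1⟩ := h.ua.lift (h.ua.mem_of_inv m1.2 m4) m4
  obtain ⟨W, hW, hk⟩ := h.up.inv3 k k2
  obtain ⟨x, x1, x2, x3⟩ := h.l8.pl _ _ W C1 hW
  exact ((h.toSt.cn_of_sy s1).tail ⟨x1, x2⟩).tail ⟨hu, mul_mem (h.toSt.sym s1.2.1 x1 x2) (x3 m m1.1 m2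
    ⟨k, closure_mono (by rintro _ ⟨s, a, b, -, rfl⟩; exact ⟨s, a, b, rfl⟩) hk, e1⟩)⟩

end Fi

theorem fi (h : S.B4) : S.FI := by
  intro z u hz hu uz hr
  by_cases hQ : u ∈ S.Q z
  · exact .single ⟨hu, hQ⟩
  obtain ⟨z', C⟩ := h.exists_ch hz
  obtain ⟨φ, hφ⟩ := h.toSt.ch_hom C
  have a2 : S.r z u * S.r z u = 1 := by rw [← h.r_mul hz uz uz, h.toSt.sq hu, h.toSt.r_one hz]
  obtain ⟨g, g2, e⟩ := h.ua.lift hr a2
  obtain ⟨p, p', hp, h1, h2, h3⟩ := h.up.inv1 g g2 fun e1 => hQ ((h.r_ker hz uz).1 (by rw [← e, e1, map_one]))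
  have ea : S.r z u = τ S.ι p * S.ι (ta p * g) := by rw [map_mul, ← mul_assoc, ← τ, τ_sq, one_mul, e]
  have b1 : Commute (S.ι (ta p * g)) (τ S.ι p * τ S.ι p') :=
    Commute.mul_right (mul_inv_eq_iff_eq_mul.1 (by rw [τ_conj _ hp.1, h1]))
      (mul_inv_eq_iff_eq_mul.1 (by rw [τ_conj _ hp.2.1, h2]))
  have t3 := τ_cube (ι := S.ι) hp
  have et : S.r z u * (τ S.ι p * τ S.ι p') = τ S.ι p * τ S.ι p' * (τ S.ι p * τ S.ι p') * S.r z u := by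
    rw [eq_inv_of_mul_eq_one_left ((pow_three' _).symm.trans t3), ea, mul_assoc, b1.eq, mul_inv_rev, τ_inv, τ_inv,
      ← mul_assoc, ← mul_assoc, τ_sq, mul_assoc (τ S.ι p'), ← mul_assoc (τ S.ι p), τ_sq, one_mul, one_mul]
  obtain ⟨yz, -, ry⟩ := hφ (S.r z u)
  have y2 : φ (S.r z u) * φ (S.r z u) = 1 := by rw [← map_mul, a2, map_one]
  have hc : φ (S.r z u) * u ∈ S.Q z := (h.r_ker hz (yz.mul_left uz)).1 (by rw [h.r_mul hz yz uz, ry, a2])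
  have fx : S.ρ (S.r z u) (S.π z (φ (S.r z u) * u)) = S.π z (φ (S.r z u) * u) := by
    have := h.ρ_π hz yz hc
    rwa [ry, ← mul_assoc, y2, one_mul, ← h.toSt.inv_eq hu, ← mul_inv_rev, h.toSt.inv_eq hu, h.toSt.π_inv hz hc] at this
  obtain ⟨d, hd, ed⟩ := h.π_surj hz (S.ρ (τ S.ι p * τ S.ι p') (S.π z (φ (S.r z u) * u)))
  have q1 := h.toSt.conjQ hz yz hd
  have q2 := mul_mem (mul_mem q1 hc) (inv_mem hd)
  have eu : φ (τ S.ι p) * (φ (S.ι (ta p * g)) * (φ (S.r z u) * d * (φ (S.r z u))⁻¹ * (φ (S.r z u) * u) * d⁻¹)) =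
      d * u * d⁻¹ := by
    rw [← mul_assoc, ← map_mul, ← ea, ← mul_assoc, ← mul_assoc, ← mul_assoc, ← mul_assoc, ← mul_assoc, y2]
    group
  have k := Fi.core h C hφ hp h3 h1 h2 q2 (by
    rw [h.π_mul hz (mul_mem q1 hc) (inv_mem hd), h.π_mul hz q1 hc, h.toSt.π_inv hz hd, ← h.ρ_π hz yz hd, ry, ed,
      ← ρ_mul (S.r z u), et, ρ_mul _ (S.r z u), fx, ρ_mul (τ S.ι p * τ S.ι p'), add_rotate, add_assoc]
    exact Fi.nm_fx t3 _) (eu ▸ h.conj hu d)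
  have := h.toSt.cn_conj hz k d⁻¹
  rwa [eu, (h.toSt.cQ hz hd).inv_left.mul_inv_cancel, show d⁻¹ * (d * u * d⁻¹) * d⁻¹⁻¹ = u by group] at this

end CL.E6S
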