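/-
Centralisers `2^{1+20}.U₆(2)` and `2^{1+20}.U₆(2).2` (helper9): the last step.
-/
import Cfsg.Agent.Spor.E6SC

set_option autoImplicit false

namespace CL.E6S

open Subgroup CL.Even CL.Grp CL.Uni CL.Rec CL.IN Cfsg Module

universe u

variable {G Γ : Type u} [Group G] [Group Γ] {S : Dat G Γ} {z : G} {G₀ : Subgroup G}

theorem fin_dec (h : S.St) (E : S.EN z G₀) (hc : ∀ u ∈ S.D, S.Cn z u) (g : G) :
    ∃ k ∈ G₀, Commute (k⁻¹ * g) z := by
  obtain ⟨k, hk, e⟩ := E.tr _ (hc _ (h.conj E.zD g))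
  refine ⟨k, hk, ?_⟩
  calc k⁻¹ * g * z = k⁻¹ * (g * z * g⁻¹) * g := by group
    _ = _ := by rw [← e]; group

theorem fin_six (h : S.St) (E : S.EN z G₀) (hc : ∀ u ∈ S.D, S.Cn z u) :
    G₀.Normal ∧ centralizer (G₀ : Set G) = ⊥ ∧ G₀.index ∣ 6 := by
  have := h.fin
  have hQ : S.Q z ≤ G₀ := fun a ha => (E.cen a (h.cQ E.zD ha)).2 (h.r_Q E.zD ha ▸ one_mem _)
  obtain ⟨y, y1, y2, y3⟩ := h.exists_nb E.zD
  have hD : ∀ u ∈ S.D, u ∈ G₀ := fun u hu => by
    obtain ⟨k, hk, rfl⟩ := E.tr u (hc u hu)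
    exact mul_mem (mul_mem hk E.mem) (inv_mem hk)
  have e0 : G₀ = closure S.D := le_antisymm E.le ((closure_le _).2 hD)
  have hn : G₀.Normal := e0 ▸ ⟨fun n hn g => by
    induction hn using closure_induction with
    | mem x hx => exact subset_closure (h.conj hx g)
    | one => simp
    | mul a b _ _ h1 h2 => simpa [mul_assoc] using mul_mem h1 h2
    | inv a _ h1 => simpa [mul_assoc] using inv_mem h1⟩
  refine ⟨hn, eq_bot_iff.2 fun c hc' => ?_, ?_⟩
  · have h1 : c ∈ zpowers z := (h.xe E.zD).cent_eq ▸ fun q hq => hc' q (hQ hq)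
    refine ((h.xe E.zD).mem_Z.1 h1).resolve_right fun e' => y3 ?_
    obtain ⟨k, hk, e''⟩ := E.tr y (hc y y1)
    rw [← e'', ← e', hc' k hk, mul_inv_cancel_right]
  · have h1 : G₀ ⊔ centralizer {z} = ⊤ := eq_top_iff.2 fun g _ => by
      obtain ⟨k, hk, e⟩ := fin_dec h E hc g
      simpa using mul_mem (mem_sup_left hk : k ∈ G₀ ⊔ centralizer {z}) (mem_sup_right (mem_cent_singleton.2 e))
    have h2 : G₀.subgroupOf (centralizer {z}) = S.ι.range.comap (h.hom E.zD fun _ => mem_cent_singleton.1) :=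
      Subgroup.ext fun c => E.cen c (mem_cent_singleton.1 c.2)
    rw [← relIndex_top_right, ← h1, relIndex_sup_left, relIndex, h2, index_comap_of_surjective _ fun γ =>
      let ⟨c, c1, c2⟩ := h.r_surj E.zD γ; ⟨⟨c, mem_cent_singleton.2 c1⟩, c2⟩]
    exact h.ua.index_dvd

end CL.E6S
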