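/-
Centralisers `2^{1+20}.U₆(2)` and `2^{1+20}.U₆(2).2`: all commuting conjugates are connected.
-/
import Cfsg.Agent.Spor.E6SC

set_option autoImplicit false

namespace CL.E6S

open Subgroup CL.Even CL.Grp CL.Uni CL.Rec CL.IN Cfsg Module Dat
open scoped commutatorElement

universe u

variable {G Γ : Type u} [Group G] [Group Γ] {S : Dat G Γ}

theorem fo (h : S.B4) (u6 : U6 S.ι) (fi : S.FI) : S.FO := fun z u hz hu c => by
  have s := h.toSt
  by_cases hr : S.r z u ∈ S.ι.range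
  · exact fi z u hz hu c hr
  have gg : S.r z u * S.r z u = 1 := by rw [← h.r_mul hz c c, s.sq hu, s.r_one hz]
  obtain ⟨p, p', F, e | ⟨e, t, it, -, ht⟩⟩ := u6 _ hr gg
  · obtain ⟨v, w, q1, q2, q3, k⟩ := h.mb.q8 p p' F
    obtain ⟨k1, k2⟩ := k _ gg fun i => (e i).1.mul_right (e i).2
    obtain ⟨a, ha, rfl⟩ := h.π_surj hz v
    obtain ⟨b, hb, rfl⟩ := h.π_surj hz w
    obtain ⟨y, y1, y2, y3⟩ : ∃ y ∈ S.Q z, S.q (S.π z y) = 1 ∧ Commute u y := by
      rcases (s.fix_iff hz c ha).1 k1 with e1 | e1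
      · exact ⟨a, ha, q1, e1⟩
      rcases (s.fix_iff hz c hb).1 k2 with e2 | e2
      · exact ⟨b, hb, q2, e2⟩
      refine ⟨a * b, mul_mem ha hb, by rwa [h.π_mul hz ha hb], mul_inv_eq_iff_eq_mul.1 ?_⟩
      rw [← conj_mul, e1, e2, (s.cQ hz hb).symm.mul_mul_mul_comm, s.sq hz, mul_one]
    have y4 := (s.sq_mem hz y1).resolve_left fun e => by
      rw [(h.q_zero hz y1).2 e] at y2
      exact zero_ne_one y2
    refine s.cn_symm hu (fi u z hu hz c.symm ?_)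
    refine h.ua.mem_of_inv ?_ (by rw [← h.r_mul hu c.symm c.symm, s.sq hz, s.r_one hu])
    rw [← y4, h.r_mul hu y3.symm y3.symm]
    exact h.ua.sq_mem _
  obtain ⟨z', C⟩ := h.exists_ch hz
  obtain ⟨φ, hφ⟩ := s.ch_hom C
  have cc : (φ (S.r z u))⁻¹ = φ (S.r z u) := inv_eq_of_mul_eq_one_right (by rw [← map_mul, gg, map_one])
  have e1 := (s.r_eq hz c (hφ _).1).1 (hφ _).2.2.symm
  obtain ⟨x, hx⟩ := h.mc.free p p' _ (S.π z (u * (φ (S.r z u))⁻¹)) F gg e (by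
    rw [h.ρ_π hz c e1, ← s.π_inv hz e1, ← mul_assoc, s.sq hu, one_mul, mul_inv_rev, inv_inv, cc])
  obtain ⟨d, hd, rfl⟩ := h.π_surj hz x
  obtain ⟨e2, e3⟩ := s.π_comm hz c hd
  have e4 := (h.π_zero hz (mul_mem e2 e1)).1 (by rw [h.π_mul hz e2 e1, e3, hx, add_self_zmod2])
  rw [← mul_assoc, inv_mul_cancel_right, mul_inv_eq_one] at e4
  replace e4 := e4.imp_right mul_inv_eq_iff_eq_mul.1
  have hu' := h.conj hu d
  have e5 : ∀ δ ∈ centralizer ({S.r z u} : Set Γ), Commute (φ δ) (d * u * d⁻¹) := fun δ hδ => by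
    have := (show Commute δ (S.r z u) from mem_cent_singleton.1 hδ).map φ
    rcases e4 with e4 | e4 <;> rw [e4]
    exacts [this, (hφ δ).1.mul_right this]
  let J : Subgroup Γ :=
    { carrier := {δ | Commute (φ δ) (d * u * d⁻¹) ∧ S.r (d * u * d⁻¹) (φ δ) ∈ G0 S.ι}
      one_mem' := ⟨by simp, by rw [map_one, s.r_one hu']; exact one_mem _⟩
      mul_mem' := fun a b => ⟨map_mul φ _ _ ▸ a.1.mul_left b.1, by
        rw [map_mul, h.r_mul hu' a.1 b.1]; exact mul_mem a.2 b.2⟩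
      inv_mem' := fun a => ⟨map_inv φ _ ▸ a.1.inv_left, by rw [map_inv, s.r_inv hu' a.1]; exact inv_mem a.2⟩ }
  have e6 : τ S.ι t ∈ J := commutator_le.2 (fun a ha b hb => by
    have a1 := e5 a ha
    have b1 := e5 b hb
    have b2 := (a1.mul_left b1).mul_left a1.inv_left
    refine ⟨?_, ?_⟩ <;> simp only [commutatorElement_def, map_mul, map_inv]
    · exact b2.mul_left b1.inv_left
    · rw [h.r_mul hu' b2 b1.inv_left, s.r_conj hu' a1 b1, s.r_inv hu' b1]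
      exact h.ua.comm_mem _ _) ht
  have e7 := (C.tv _ _ (hφ _).1 (hφ _).2.1 it (hφ _).2.2).1
  have e8 := s.cn_conj hz ((s.cn_of_sy e7).trans (s.cn_symm hu' (fi _ _ hu' e7.2.1 e6.1
    (h.ua.mem_of_inv e6.2 (by rw [← h.r_mul hu' e6.1 e6.1, s.sq e7.2.1, s.r_one hu']))))) d⁻¹
  rwa [(s.cQ hz hd).inv_left.mul_inv_cancel, show d⁻¹ * (d * u * d⁻¹) * d⁻¹⁻¹ = u by group] at e8

end CL.E6S
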