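/-
Centralisers `2^{1+20}.U₆(2)` and `2^{1+20}.U₆(2).2`: neighbours give planes.
-/
import Cfsg.Agent.Spor.E6SC

set_option autoImplicit false

namespace CL.E6S

open Subgroup CL.Even CL.Grp CL.Uni CL.Rec CL.IN Cfsg Module

universe u

variable {G Γ : Type u} [Group G] [Group Γ] {S : Dat G Γ}

namespace L1A

theorem inv_aux {a s t c : Γ} (hs : s * s = 1) (ht : t * t = 1) (hc : c * c = 1) (h1 : Commute c s) (h2 : Commute c t)
    (e : a = s * c) : a * (s * t) * a = (s * t)⁻¹ := by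
  rw [e, mul_inv_rev, inv_eq_of_mul_eq_one_right hs, inv_eq_of_mul_eq_one_right ht, mul_assoc s c, (h1.mul_right h2).eq,
    ← h1.eq]
  calc _ = (s * s) * t * (c * c) * s := by simp only [mul_assoc]
    _ = _ := by rw [hs, hc, one_mul, mul_one]

theorem inv_tf {ι : SU6 →* Γ} {p p' : Fin 3 → V6} (h : Fr p p') (i : Fin 3) :
    τ ι (p 0) * τ ι (p 1) * τ ι (p 2) * tf ι p p' i * (τ ι (p 0) * τ ι (p 1) * τ ι (p 2)) = (tf ι p p' i)⁻¹ := by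
  have h1 : ∀ i j, Commute (τ ι (p i)) (τ ι (p j)) := fun i j => τ_comm (h.hy i).1 (h.hy j).1 (h.pp i j)
  have h2 : ∀ i j, i ≠ j → Commute (τ ι (p i)) (τ ι (p' j)) := fun i j e => τ_comm (h.hy i).1 (h.hy j).2.1 (h.pq i j e)
  have key : ∀ i j k, j ≠ i → k ≠ i → τ ι (p 0) * τ ι (p 1) * τ ι (p 2) = τ ι (p i) * (τ ι (p j) * τ ι (p k)) →
      τ ι (p 0) * τ ι (p 1) * τ ι (p 2) * tf ι p p' i * (τ ι (p 0) * τ ι (p 1) * τ ι (p 2)) = (tf ι p p' i)⁻¹ :=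
    fun i j k e e' => inv_aux (τ_sq _) (τ_sq _) (by rw [(h1 k j).mul_mul_mul_comm, τ_sq, τ_sq, one_mul])
      ((h1 j i).mul_left (h1 k i)) ((h2 j i e).mul_left (h2 k i e'))
  fin_cases i
  · exact key 0 1 2 (by decide) (by decide) (mul_assoc _ _ _)
  · exact key 1 0 2 (by decide) (by decide) (by rw [(h1 0 1).eq, mul_assoc])
  · exact key 2 0 1 (by decide) (by decide) ((h1 0 2).mul_left (h1 1 2)).eq

theorem two_free (h : S.B1) {W : Submodule K4 V6} (hW : Pl W) : ∃ a ∈ AW S.ι W, ∃ a' ∈ AW S.ι W, a * a' ≠ 1 ∧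
    ∀ u, (∀ c ∈ AW S.ι W, S.ρ c u = u) → (∃ w, u = w + S.ρ a w) ∧ ∃ w, u = w + S.ρ a' w := by
  have key : ∀ p : Fin 3 → V6, (∀ i, p i ∈ W) → LinearIndependent K4 p →
      τ S.ι (p 0) * τ S.ι (p 1) * τ S.ι (p 2) ∈ AW S.ι W ∧ ∀ u, (∀ c ∈ AW S.ι W, S.ρ c u = u) →
        ∃ w, u = w + S.ρ (τ S.ι (p 0) * τ S.ι (p 1) * τ S.ι (p 2)) w := fun p hp hl => by
    obtain ⟨p', hf⟩ := h.ue.fr4 p hl fun i j => hW.2 _ (hp i) _ (hp j)
    have h1 : ∀ i, τ S.ι (p i) ∈ AW S.ι W := fun i => τ_mem_AW (hp i) (hf.hy i).1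
    have h2 := mul_mem (mul_mem (h1 0) (h1 1)) (h1 2)
    exact ⟨h2, fun u hu => h.mc.free p p' _ u hf (AW_sq hW h2) (inv_tf hf) (hu _ h2)⟩
  let b := Module.finBasisOfFinrankEq K4 W hW.1
  let p : Fin 3 → V6 := fun i => b i
  have hp : ∀ i, p i ∈ W := fun i => (b i).2
  have hl : LinearIndependent K4 p := b.linearIndependent.map' W.subtype W.ker_subtype
  have hl' := Fintype.linearIndependent_iff.1 hl
  have hq : ∀ i, ![p 0 + p 1, p 1, p 2] i ∈ W := fun i => by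
    fin_cases i
    exacts [add_mem (hp 0) (hp 1), hp 1, hp 2]
  have hl2 : LinearIndependent K4 ![p 0 + p 1, p 1, p 2] := Fintype.linearIndependent_iff.2 fun g hg => by
    have h1 := hl' ![g 0, g 0 + g 1, g 2] (by
      rw [← hg, Fin.sum_univ_three, Fin.sum_univ_three]
      simp only [Matrix.cons_val]
      module)
    have h2 : g 0 = 0 := h1 0
    have h3 : g 0 + g 1 = 0 := h1 1
    intro i
    fin_cases i
    exacts [h2, by simpa [h2] using h3, h1 2]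
  obtain ⟨h1, h2⟩ := key p hp hl
  obtain ⟨h3, h4⟩ := key _ hq hl2
  refine ⟨_, h1, _, h3, fun e => ?_, fun u hu => ⟨h2 u hu, h4 u hu⟩⟩
  have e1 : τ S.ι (p 0) = τ S.ι (p 0 + p 1) :=
    mul_right_cancel (mul_right_cancel (mul_right_cancel (e.trans (AW_sq hW h3).symm)))
  obtain ⟨c, h5, h6⟩ := h.ua.τ_inj (hW.iso (hp 0) (hl.ne_zero 0)) (hW.iso (hq 0) (hl2.ne_zero 0)) e1
  replace h6 : p 0 = c • (p 0 + p 1) := h6
  refine h5 (hl' ![c - 1, c, 0] ?_ 1)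
  rw [Fin.sum_univ_three]
  simp only [Matrix.cons_val]
  linear_combination (norm := module) -h6

theorem tri (H : S.St) {z x e : G} (hz : z ∈ S.D) (hx : x ∈ S.D) (hxz : x ∈ S.Q z) (hne : x ≠ z) (h1 : e ∈ S.Q z)
    (h2 : e ∈ S.Q x) : e ∈ S.Q (x * z) := by
  obtain ⟨b, hb, e1⟩ := H.exists_swap hz hxz (H.ne_one hx) hne
  have h3 := e1 ▸ H.conj_mem_Q hx b h2
  have h4 := e1 ▸ H.conj_mem_Q hx b (H.sym hz hx hxz)
  rw [(H.cQ hz hb).eq, mul_inv_cancel_right] at h4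
  rcases H.comm_or hz hb h1 with h | h
  · rwa [h.eq, mul_inv_cancel_right] at h3
  · exact (mul_mem_cancel_right h4).1 (h ▸ h3)

end L1A

open L1A in
theorem l1 (h : S.B1) (a : U1a S.ι) (b : U1b S.ι) : S.L1 := by
  intro z x hz hx hxz hne
  have H := h.toSt
  have := H.fin
  have := H.ua.fin
  have hzx := H.sym hz hx hxz
  have hY : ∀ y ∈ S.Q x ⊓ centralizer ({z} : Set G), Commute y z := fun y hy => mem_cent_singleton.mp hy.2
  obtain ⟨A, hA, hc⟩ := H.exists_im hz hY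
  replace hA : ∀ γ, γ ∈ A ↔ ∃ y ∈ S.Q x, Commute y z ∧ S.r z y = γ := fun γ => (hA γ).trans
    ⟨fun ⟨y, h1, h2⟩ => ⟨y, h1.1, hY y h1, h2⟩, fun ⟨y, h1, h2, h3⟩ => ⟨y, ⟨h1, mem_cent_singleton.mpr h2⟩, h3⟩⟩
  have c1 := hc ▸ H.card_half hx hzx
  have c2 := H.card_ab hz (E := S.Q x ⊓ centralizer ({z} : Set G) ⊓ S.Q z) inf_le_right fun e he e' he' =>
    H.comm_of_mem hx hz hne he.1.1 he'.1.1 he.2 he'.2
  have c3 : 512 ≤ Nat.card A := by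
    have := c1.trans (Nat.mul_le_mul_right _ c2)
    omega
  have hsq : ∀ γ ∈ A, γ * γ = 1 := fun γ hγ => by
    obtain ⟨y, h1, h2, rfl⟩ := (hA γ).1 hγ
    rw [← H.r_mul hz h2 h2]
    exact H.r_Q hz ((H.sq_mem hx h1).elim (fun e => e ▸ one_mem _) fun e => e ▸ hxz)
  obtain ⟨W, hW, h1⟩ := a A fun g => ⟨1, Subtype.ext (by simpa [pow_two] using hsq g g.2)⟩
  obtain rfl := b A W hW h1 hsq c3
  have : Finite (V6 ≃ₗ[K4] V6) := DFunLike.finite _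
  have c4 : Nat.card (AW S.ι W) ≤ 512 :=
    (Nat.le_of_dvd Nat.card_pos (card_map_dvd (AS W) S.ι)).trans (h.up.cardAS W hW)
  let E : Submodule (ZMod 2) V20 :=
    { carrier := {u | ∃ e ∈ S.Q x, e ∈ S.Q z ∧ S.π z e = u}
      zero_mem' := ⟨1, one_mem _, one_mem _, H.π_one hz⟩
      add_mem' := by
        rintro _ _ ⟨e, h1, h2, rfl⟩ ⟨e', h3, h4, rfl⟩
        exact ⟨_, mul_mem h1 h3, mul_mem h2 h4, H.π_mul hz h2 h4⟩
      smul_mem' := fun c u hu => by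
        rcases zmod2_cases c with rfl | rfl
        · exact ⟨1, one_mem _, one_mem _, by rw [H.π_one hz, zero_smul]⟩
        · rwa [one_smul] }
  have c5 : 2 ^ 10 ≤ Nat.card E := by
    obtain ⟨X, h1, h2⟩ := H.card_pre hz E
    have h3 := card_le_of_le (H := S.Q x ⊓ centralizer ({z} : Set G) ⊓ S.Q z) (K := X) fun e he =>
      (h1 e).2 ⟨he.2, e, he.1.1, he.2, rfl⟩
    have := c1.trans (Nat.mul_le_mul h3 c4)
    omega
  obtain ⟨v, hv⟩ : ∃ v, v = S.π z x := ⟨_, rfl⟩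
  have hv0 : v ≠ 0 := fun e => ((H.π_zero hz hxz).1 (hv ▸ e)).elim (H.ne_one hx) hne
  have hvE : v ∈ E := ⟨x, H.self_mem hx, hxz, hv.symm⟩
  have hvf : ∀ γ ∈ AW S.ι W, S.ρ γ v = v := fun γ hγ => by
    obtain ⟨y, h1, h2, rfl⟩ := (hA γ).1 hγ
    exact hv ▸ H.fix_of_comm hz h2 hxz (H.cQ hx h1)
  have hB : ∀ e ∈ E, ∀ e' ∈ E, S.B e e' = 0 := by
    rintro _ ⟨e, h1, h2, rfl⟩ _ ⟨e', h3, h4, rfl⟩
    exact (H.B_zero hz h2 h4).2 (H.comm_of_mem hx hz hne h1 h3 h2 h4)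
  have hinv : ∀ γ ∈ AW S.ι W, ∀ e ∈ E, S.ρ γ e ∈ E := by
    rintro γ hγ _ ⟨e, h1, h2, rfl⟩
    obtain ⟨y, h3, h4, rfl⟩ := (hA γ).1 hγ
    exact ⟨_, mul_mem (mul_mem h3 h1) (inv_mem h3), H.conjQ hz h4 h2, (H.ρ_π hz h4 h2).symm⟩
  have hi : ∀ w, S.B w v = 0 → ∀ γ ∈ AW S.ι W, w + S.ρ γ w ∈ E := fun w hw γ hγ => by
    obtain ⟨y, h3, h4, rfl⟩ := (hA γ).1 hγ
    obtain ⟨d, hd, rfl⟩ := H.π_surj hz w
    obtain ⟨h5, h6⟩ := H.π_comm hz h4 hd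
    exact ⟨_, mul_mem (H.conjQ hx ((H.B_zero hz hd hxz).1 (hv ▸ hw)) h3) (inv_mem h3), h5, h6⟩
  have hs : ∀ w, S.B w v ≠ 0 → ∀ γ ∈ AW S.ι W, w + S.ρ γ w ∈ E → γ = 1 := fun w hw γ hγ hE => by
    obtain ⟨y, h3, h4, rfl⟩ := (hA γ).1 hγ
    obtain ⟨d, hd, rfl⟩ := H.π_surj hz w
    obtain ⟨h5, h6⟩ := H.π_comm hz h4 hd
    obtain ⟨e, h7, h8, h9⟩ := hE
    have h10 : d * y * d⁻¹ * y⁻¹ ∈ S.Q x := by
      rcases (H.π_eq hz h5 h8).1 (h6.trans h9.symm) with e1 | e1 <;> rw [e1]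
      exacts [h7, mul_mem h7 hzx]
    have h11 := H.conj_mem_Q hx d⁻¹ ((mul_mem_cancel_right (inv_mem h3)).1 h10)
    rw [(H.comm_or hz (inv_mem hd) hxz).resolve_left fun e => hw (hv ▸ (H.B_zero hz hd hxz).2 (by simpa using e.inv_left)),
      show d⁻¹ * (d * y * d⁻¹) * d⁻¹⁻¹ = y by group] at h11
    have h12 := tri H hx (H.mul_mem_D hz hx hxz hne) (mul_mem (H.self_mem hx) hzx) (by simpa using H.ne_one hz) h3 h11
    rw [(H.cQ hz hxz).eq, mul_assoc, H.sq hx, mul_one] at h12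
    exact H.r_Q hz h12
  have hs' : ∀ w, S.B w v ≠ 0 → ∀ γ ∈ AW S.ι W, ∀ δ ∈ AW S.ι W, S.ρ γ w + S.ρ δ w ∈ E → γ * δ = 1 :=
    fun w hw γ hγ δ hδ hE => hs w hw _ (mul_mem hγ hδ) (by
      have := hinv γ hγ _ hE
      rwa [map_add, ← ρ_mul, ← ρ_mul, hsq γ hγ, ρ_one] at this)
  refine ⟨W, hv ▸ ⟨hW, ⟨hv0, hvf⟩, fun u hu => ?_, hv ▸ (H.q_zero hz hxz).2 (H.sq hx), fun w hw γ hγ e =>
    hs w hw γ hγ (by rw [e, add_self_zmod2]; exact zero_mem _)⟩, hA⟩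
  have huE : u ∈ E := by
    obtain ⟨γ, hγ, δ, hδ, h2, h3⟩ := two_free h hW
    obtain ⟨⟨w, e⟩, w', e'⟩ := h3 u hu.2
    by_contra hn
    have h4 : S.B w v ≠ 0 := fun h => hn (e ▸ hi w h γ hγ)
    have h5 : S.B w' v ≠ 0 := fun h => hn (e' ▸ hi w' h δ hδ)
    have h6 := hi (w + w') (by rw [LinearMap.BilinForm.add_left, zmod2_eq_one_of_ne_zero h4, zmod2_eq_one_of_ne_zero h5,
      zmod2_add_self]) δ hδ
    refine h2 (hs' w h4 γ hγ δ hδ ?_)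
    rwa [map_add, add_add_add_comm, ← e', e, add_add_add_comm, add_self_zmod2, zero_add, add_comm] at h6
  obtain ⟨w, hw⟩ : ∃ w, S.B v w ≠ 0 := not_forall.1 fun e => hv0 (H.om.hN v e)
  have hw' : S.B w v ≠ 0 := H.om.B_symm v w ▸ hw
  have hf : ∀ t, (∀ γ ∈ AW S.ι W, S.ρ γ t = t) → t ∈ E → ∀ e ∈ E, ∀ γ ∈ AW S.ι W, S.B t (e + (w + S.ρ γ w)) = 0 :=
    fun t ht ht' e he γ hγ => by
      rw [map_add, map_add, hB t ht' e he, zero_add, ← H.om.B_map γ t w, ht γ hγ, zmod2_add_self]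
  let f : E × AW S.ι W → LinearMap.ker (S.B v) := fun y => ⟨y.1 + (w + S.ρ y.2 w), hf v hvf hvE _ y.1.2 _ y.2.2⟩
  have f1 : Function.Injective f := by
    rintro ⟨e, γ⟩ ⟨e', δ⟩ h2
    have h3 : (e : V20) + (w + S.ρ γ w) = e' + (w + S.ρ δ w) := congrArg Subtype.val h2
    have h4 : S.ρ γ w + S.ρ δ w = e + e' := by
      linear_combination (norm := abel) h3 + add_self_zmod2 (S.ρ δ w) - add_self_zmod2 (e : V20)
    obtain rfl : γ = δ := Subtype.ext (mul_right_cancel ((hs' w hw' γ γ.2 δ δ.2 (h4 ▸ add_mem e.2 e'.2)).trans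
      (hsq δ δ.2).symm))
    rw [show e = e' from Subtype.ext (add_right_cancel h3)]
  have c6 : Nat.card (LinearMap.ker (S.B v)) ≤ Nat.card (E × AW S.ι W) := by
    have h2 := Submodule.finrank_lt (s := LinearMap.ker (S.B v)) fun e => hw (e.ge Submodule.mem_top)
    rw [finrank_fin_fun] at h2
    rw [Module.natCard_eq_pow_finrank (K := ZMod 2), Nat.card_zmod, Nat.card_prod]
    exact (Nat.pow_le_pow_right two_pos (Nat.le_of_lt_succ h2)).trans (le_trans (by norm_num) (Nat.mul_le_mul c5 c3))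
  rcases forall_B_eq_zero_or (B := S.B) (t := v) (w := u) (fun y hy => by
    obtain ⟨⟨e, γ⟩, h2⟩ := (f1.bijective_of_nat_card_le c6).2 ⟨y, hy⟩
    exact (show (e : V20) + (w + S.ρ γ w) = y from congrArg Subtype.val h2) ▸ hf u hu.2 huE _ e.2 _ γ.2) with h2 | h2
  · exact absurd (H.om.hN u h2) hu.1
  · exact eq_of_add_eq_zero_zmod2 (H.om.hN _ h2)

end CL.E6S
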