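/-
Centralisers `2^{1+20}.U₆(2)` and `2^{1+20}.U₆(2).2`: pairs with product of order three.
-/
import Cfsg.Agent.Spor.E6SC

set_option autoImplicit false

namespace CL.E6S

open Subgroup CL.Even CL.Grp CL.Uni CL.Rec CL.IN Cfsg Module

universe u

variable {G Γ : Type u} [Group G] [Group Γ] {S : Dat G Γ}

theorem l5 (h : S.B3) : S.L5 := by
  intro z l l' s s' c3 ne
  have H := h.toSt
  have hz := s.1
  have hl := s.2.1
  have hl' := s'.2.1
  have cl := s.2.2.1.symm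
  have cl' := s'.2.2.1.symm
  have nz := (H.sy_symm s).2.2.2.1
  obtain ⟨p, hp, e⟩ := h.lb.tv z l s
  obtain ⟨p', hp', e'⟩ := h.lb.tv z l' s'
  have rt : S.r z (l * l') = τ S.ι p * τ S.ι p' := by rw [H.r_mul hz cl cl', e, e']
  have t3 : (τ S.ι p * τ S.ι p') ^ 3 = 1 := by rw [← rt, ← H.r_pow hz (cl.mul_left cl'), c3, H.r_one hz]
  have hy : Hy p p' := ⟨hp, hp', fun b => ne (by
    rw [pow_three', (τ_comm hp hp' b).symm.mul_mul_mul_comm, τ_sq, τ_sq, one_mul, one_mul, ← rt] at t3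
    rw [eq_inv_of_mul_eq_one_left (H.eq_one_of_cube hz ((H.r_ker hz (cl.mul_left cl')).1 t3) c3), H.inv_eq hl'])⟩
  have fx : ∀ a ∈ S.Q z, S.ρ (τ S.ι p * τ S.ι p') (S.π z a) = S.π z a → Commute a l ∧ Commute a l' := fun a ha k => by
    have k1 := h.ma.fix1 p p' _ hy k
    refine ⟨h.lb.fix z l a s ha (e ▸ k1), h.lb.fix z l' a s' ha ?_⟩
    rw [e', ← one_mul (τ S.ι p'), ← τ_sq p, mul_assoc, ρ_mul, k, k1]
  have A : ∀ d ∈ S.Q l, Commute d l' → d ∈ S.Q z → d = 1 := fun d hd c hdz => by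
    have k1 := H.fix_of_comm hz (cl.mul_left cl') hdz ((H.cQ hl hd).symm.mul_left c.symm)
    rw [rt] at k1
    refine ((H.π_zero hz hdz).1 (h.om.hN _ fun w => ?_)).resolve_right fun k => nz (k ▸ hd)
    have k2 : ∀ v, S.B (S.π z d) (S.ρ (τ S.ι p * τ S.ι p') v) = S.B (S.π z d) v := fun v => by
      rw [← h.om.B_map (τ S.ι p * τ S.ι p') _ v, k1]
    obtain ⟨a, ha, k3⟩ := H.π_surj hz (w + S.ρ (τ S.ι p * τ S.ι p') (w + S.ρ (τ S.ι p * τ S.ι p') w))
    have k4 := (H.B_zero hz hdz ha).2 ((H.comm_or hz ha hdz).resolve_right fun k => nz (by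
      have := H.conjQ hl (fx a ha (by
        rw [k3, map_add, map_add, map_add, ← ρ_mul, ← ρ_mul, ← pow_three, t3, ρ_one]; abel)).1 hd
      rwa [k, mul_mem_cancel_left hd] at this)).symm
    rwa [k3, map_add, k2, map_add, k2, CharTwo.add_self_eq_zero, add_zero] at k4
  have Bz : ∀ y ∈ S.Q l, Commute y l' → Commute y z → y = 1 := fun y hy' c cz => by
    refine A y hy' c ((H.r_ker hz cz).1 (h.mc.cen _ p p' (by rw [← H.r_pow hz cz, H.pow_four hl hy', H.r_one hz]) hy (e ▸ H.r_comm hz cz cl (H.cQ hl hy'))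
      (e' ▸ H.r_comm hz cz cl' c) fun v hv => ?_))
    obtain ⟨a, ha, rfl⟩ := H.π_surj hz v
    obtain ⟨k1, k2⟩ := fx a ha hv
    have := A _ (mul_mem (H.conjQ hl k1 hy') (inv_mem hy')) (((k2.mul_left c).mul_left k2.inv_left).mul_left c.inv_left)
      (H.π_comm hz cz ha).1
    exact H.fix_of_comm hz cz ha (Commute.symm (mul_inv_eq_iff_eq_mul.1 (mul_inv_eq_one.1 this)))
  intro y hy' c
  have m1 := H.mem_of_cube hl hl' c3 hy' c
  have m2 := H.conjQ hl cl.symm hy'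
  have c2 : Commute (z * y * z⁻¹) l' := (cl'.symm.mul_left c).mul_left cl'.symm.inv_left
  have yy : y * y = 1 := (H.sq_mem hl hy').elim id fun k => (H.sq_mem hl' m1).resolve_right fun k' => ne (k.symm.trans k')
  have k1 := Bz _ (mul_mem hy' m2) (c.mul_left c2) (by
    have k := (H.comm_of_mem hl hl' ne hy' m2 m1 (H.mem_of_cube hl hl' c3 m2 c2)).eq
    rw [H.inv_eq hz] at k ⊢
    calc y * (z * y * z) * z = y * z * y := by rw [mul_assoc, mul_assoc, H.sq hz, mul_one, mul_assoc]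
      _ = z * (z * y * z * y) := by rw [mul_assoc z y, mul_assoc z, ← mul_assoc z z, H.sq hz, one_mul]
      _ = _ := by rw [← k])
  exact Bz y hy' c (Commute.symm (mul_inv_eq_iff_eq_mul.1 (mul_left_cancel (k1.trans yy.symm))))

end CL.E6S
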