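/-
Centralisers `2^{1+20}.U₆(2)` and `2^{1+20}.U₆(2).2`: pure elements, collinearity, a symplectic triangle.
-/
import Cfsg.Agent.Spor.E6SC

set_option autoImplicit false

namespace CL.E6S

open Subgroup CL.Even CL.Grp CL.Uni CL.Rec CL.IN Cfsg Module

universe u

variable {G Γ : Type u} [Group G] [Group Γ] {S : Dat G Γ}

namespace LaP

theorem le3 {W : Submodule K4 V6} (hW : Pl W) (W' : Submodule K4 V6) : finrank K4 ↥(W ⊓ W') ≤ 3 :=
  hW.1 ▸ Submodule.finrank_mono inf_le_left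

theorem eq3 {W W' : Submodule K4 V6} (hW : Pl W) (hW' : Pl W') (e : finrank K4 ↥(W ⊓ W') = 3) : W = W' :=
  (Submodule.eq_of_le_of_finrank_eq inf_le_left (e.trans hW.1.symm)).symm.trans
    (Submodule.eq_of_le_of_finrank_eq inf_le_right (e.trans hW'.1.symm))

variable (h : S.B2) {z a b : G} {W W' : Submodule K4 V6} (hz : z ∈ S.D)
include h hz

omit hz in
theorem uniq (hW : Pl W) {v v' : V20} (h1 : PV S.ι S.ρ W v) (h2 : PV S.ι S.ρ W v') : v = v' :=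
  let ⟨_, k⟩ := h.pa.ex W hW
  (k.uniq v h1).trans (k.uniq v' h2).symm

theorem move (hD : a ∈ S.D) (ha : a ∈ S.Q z) (ne : a ≠ z) (hW : Pl W) (hb : b ∈ S.Q z)
    (pv : PV S.ι S.ρ W (S.π z b)) :
    ∃ c, Commute c z ∧ S.r z c ∈ S.ι.range ∧ (b = c * a * c⁻¹ ∨ b = c * a * c⁻¹ * z) := by
  obtain ⟨W0, p0, -⟩ := h.l1 z a hz hD ha ne
  obtain ⟨g, rfl⟩ := h.uw.plT W0 W p0.pl hW
  obtain ⟨c, c1, c2⟩ := h.r_surj hz (S.ι g)
  refine ⟨c, c1, ⟨g, c2.symm⟩, (h.toSt.π_eq hz hb (h.toSt.conjQ hz c1 ha)).1 (uniq h hW pv ?_)⟩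
  rw [← h.ρ_π hz c1 ha, c2]
  exact h.pa.im _ _ g p0.pl p0.pv

theorem pure (ha : a ∈ S.Q z) (hW : Pl W) (pv : PV S.ι S.ρ W (S.π z a)) : a ∈ S.D ∧ a ≠ z ∧
    ∀ γ, γ ∈ AW S.ι W ↔ ∃ y ∈ S.Q a, Commute y z ∧ S.r z y = γ := by
  have H := h.toSt
  have ne : a ≠ z := fun e => pv.1 (by rw [e, H.π_self hz])
  obtain ⟨x, x1, x2, x3⟩ := H.exists_nb hz
  obtain ⟨c, c1, -, e⟩ := move h hz x1 x2 x3 hW ha pv
  have hD : a ∈ S.D := by
    rcases e with e | e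
    · exact e ▸ h.conj x1 c
    · exact e ▸ H.mul_mem_D hz (h.conj x1 c) (H.conjQ hz c1 x2) fun k => x3 (by
        rw [← c1.mul_inv_cancel] at k; simpa using k)
  obtain ⟨W1, p1, k⟩ := h.l1 z a hz hD ha ne
  exact ⟨hD, ne, h.pa.inj _ _ _ p1.pl hW p1.pv pv ▸ k⟩

theorem col1 (ha : a ∈ S.Q z) (hb : b ∈ S.Q z) (hW : Pl W) (hW' : Pl W') (pv : PV S.ι S.ρ W (S.π z a))
    (pv' : PV S.ι S.ρ W' (S.π z b)) (e : 2 ≤ finrank K4 ↥(W ⊓ W')) : b ∈ S.Q a := by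
  have H := h.toSt
  obtain ⟨hD, -, k⟩ := pure h hz ha hW pv
  have key : ∀ d ∈ S.Q z, d ∈ S.Q a → S.π z b = S.π z d → b ∈ S.Q a := fun d h1 h2 h3 => by
    rcases (H.π_eq hz hb h1).1 h3 with rfl | rfl
    exacts [h2, mul_mem h2 (H.sym hz hD ha)]
  rcases e.eq_or_lt with e | e
  · obtain ⟨γ, h1, w, h2, h3⟩ := h.pb.col _ _ _ _ hW hW' pv pv' e.symm
    obtain ⟨y, h4, h5, rfl⟩ := (k γ).1 h1
    obtain ⟨d, hd, rfl⟩ := h.π_surj hz w
    exact key _ (H.π_comm hz h5 hd).1 (mul_mem (H.conjQ hD ((h.B_zero hz hd ha).1 h2) h4) (inv_mem h4))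
      (h3.trans (H.π_comm hz h5 hd).2.symm)
  · obtain rfl := eq3 hW hW' (le_antisymm (le3 hW W') e)
    exact key a ha (H.self_mem hD) (uniq h hW pv' pv)

theorem col2 (ha : a ∈ S.Q z) (hb : b ∈ S.Q z) (hW : Pl W) (hW' : Pl W') (pv : PV S.ι S.ρ W (S.π z a))
    (pv' : PV S.ι S.ρ W' (S.π z b)) (e : b ∈ S.Q a) : 2 ≤ finrank K4 ↥(W ⊓ W') := by
  have H := h.toSt
  obtain ⟨hD, ne, -⟩ := pure h hz ha hW pv
  have h1 := (h.pa.perp _ _ _ _ hW hW' pv pv').1 ((h.B_zero hz ha hb).2 (H.cQ hD e).symm)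
  by_contra h2
  obtain ⟨X, u, h3, h4, h5, h6⟩ := h.pb.far _ _ _ _ hW hW' pv pv' (by
    have : finrank K4 ↥(W ⊓ W') ≠ 0 := fun k => h1 (Submodule.finrank_eq_zero.1 k)
    omega)
  obtain ⟨c, hc, rfl⟩ := h.π_surj hz u
  exact h6 ((h.B_zero hz hc hb).2 (H.comm_of_mem hz hD ne.symm hc hb (col1 h hz ha hc hW h3 pv h4 h5.ge) e))

end LaP

open LaP in
theorem la (h : S.B2) : S.LA := by
  have H := h.toSt
  refine ⟨fun z a W hz ha => pure h hz ha, fun z a b W W' hz ha hb hW hW' pv pv' =>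
    ⟨col2 h hz ha hb hW hW' pv pv', col1 h hz ha hb hW hW' pv pv'⟩, fun z a b hz h1 h2 ha hb n1 n2 => ?_, ?_⟩
  · obtain ⟨W, p, -⟩ := h.l1 z b hz h2 hb n2
    obtain ⟨c, c1, c2, e | e⟩ := move h hz h1 ha n1 p.pl hb p.pv
    · exact ⟨c, c1, c2, e.symm⟩
    · obtain ⟨d, hd, k⟩ := H.exists_swap hz hb (H.ne_one h2) n2
      refine ⟨d * c, (H.cQ hz hd).mul_left c1, by rwa [h.r_mul hz (H.cQ hz hd) c1, H.r_Q hz hd, one_mul], ?_⟩
      have e' : c * a * c⁻¹ = b * z := by rw [e, mul_assoc _ z, H.sq hz, mul_one]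
      rw [show d * c * a * (d * c)⁻¹ = d * (c * a * c⁻¹) * d⁻¹ by group, e', ← conj_mul, k,
        (H.cQ hz hd).mul_inv_cancel, mul_assoc, H.sq hz, mul_one]
  · obtain ⟨x, hx, -⟩ := h.nwc
    obtain ⟨W, hW, h1, h2⟩ := h.ue.cube
    choose v hv using fun i => h.pa.ex (W i) (hW i)
    choose y hy e using fun i => h.π_surj hx (v i)
    have pv : ∀ i, PV S.ι S.ρ (W i) (S.π x (y i)) := fun i => (e i).symm ▸ (hv i).pv
    have hD : ∀ i, y i ∈ S.D := fun i => (pure h hx (hy i) (hW i) (pv i)).1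
    have sy : ∀ i j, i ≠ j → S.Sy (y i) (y j) := fun i j n => ⟨hD i, hD j, (h.B_zero hx (hy i) (hy j)).1
      ((h.pa.perp _ _ _ _ (hW i) (hW j) (pv i) (pv j)).2 fun k => by
        have := h1 i j n
        rw [k, finrank_bot] at this
        exact zero_ne_one this),
      fun k => absurd (h1 i j n ▸ col2 h hx (hy i) (hy j) (hW i) (hW j) (pv i) (pv j) k) (by norm_num), x, hx, hy i, hy j⟩
    have nq : ∀ i j k, i ≠ j → j ≠ k → i ≠ k → y j * y k ∉ S.Q (y i) := fun i j k n1 n2 n3 m => by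
      obtain ⟨X, h3, h4, h5⟩ := h2 i j k n1 n2 n3
      obtain ⟨u, hu⟩ := h.pa.ex X h3
      obtain ⟨c, hc, rfl⟩ := h.π_surj hx u
      have h6 := (h.B_zero hx hc (mul_mem (hy j) (hy k))).2 (H.comm_of_mem hx (hD i)
        (pure h hx (hy i) (hW i) (pv i)).2.1.symm hc (mul_mem (hy j) (hy k))
        (col1 h hx (hy i) hc (hW i) h3 (pv i) hu.pv (by rw [inf_comm, h4])) m)
      rw [← h.pa.perp _ _ _ _ h3 (hW k) hu.pv (pv k), ← not_ne_iff (a := X ⊓ W j),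
        ← h.pa.perp _ _ _ _ h3 (hW j) hu.pv (pv j)] at h5
      rw [h.π_mul hx (hy j) (hy k), map_add, CharTwo.add_eq_zero] at h6
      rw [h6] at h5
      exact iff_not_self h5.symm
    exact ⟨y 0, y 1, y 2, sy _ _ (by decide), sy _ _ (by decide), sy _ _ (by decide),
      nq _ _ _ (by decide) (by decide) (by decide), nq _ _ _ (by decide) (by decide) (by decide)⟩

end CL.E6S
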