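/-
Centralisers `2^{1+20}.U₆(2)` and `2^{1+20}.U₆(2).2`: symplectic pairs.
-/
import Cfsg.Agent.Spor.E6SC

set_option autoImplicit false

namespace CL.E6S

open Subgroup CL.Even CL.Grp CL.Uni CL.Rec CL.IN Cfsg Module

universe u

variable {G Γ : Type u} [Group G] [Group Γ] {S : Dat G Γ}

namespace LbP

theorem card_orb (N : Subgroup G) (p : G) {X : Set G} (h : ∀ x, x ∈ X ↔ ∃ n ∈ N, n * p * n⁻¹ = x) :
    Nat.card N = X.ncard * Nat.card (N ⊓ centralizer {p} : Subgroup G) := by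
  let i : MulAction N G := MulAction.compHom G (MulAut.conj.comp N.subtype)
  have h1 := @MulAction.index_stabilizer N G _ i p
  rw [show @MulAction.stabilizer N G _ i p = (centralizer {p}).subgroupOf N from
    Subgroup.ext fun n => mul_inv_eq_iff_eq_mul.trans (mem_centralizer_singleton_iff (g := p) (k := (n : G))).symm,
    show @MulAction.orbit N G i.toSMul p = X from Set.ext fun x => ⟨fun ⟨n, e⟩ => (h x).2 ⟨n, n.2, e⟩,
      fun hx => let ⟨n, hn, e⟩ := (h x).1 hx; ⟨⟨n, hn⟩, e⟩⟩] at h1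
  rw [← h1, ← (centralizer {p}).subgroupOf N |>.card_mul_index, h1, mul_comm, ← inf_subgroupOf_right,
    card_subgroupOf_of_le inf_le_right, inf_comm, ← h1]

theorem card_le [Finite G] (N : Subgroup G) {p : G} {X : Set G} (h : ∀ n ∈ N, n * p * n⁻¹ ∈ X) :
    Nat.card N ≤ X.ncard * Nat.card (N ⊓ centralizer {p} : Subgroup G) := by
  rw [card_orb N p (X := {y | ∃ g ∈ N, g * p * g⁻¹ = y}) fun _ => Iff.rfl]
  exact Nat.mul_le_mul_right _ (Set.ncard_le_ncard fun _ ⟨g, hg, e⟩ => e ▸ h g hg)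

theorem fib (H : S.St) {x : G} (hx : x ∈ S.D) (T : Set V20) :
    {b | b ∈ S.Q x ∧ S.π x b ∈ T}.ncard ≤ 2 * T.ncard := by
  have := H.fin
  choose σ h1 h2 using H.π_surj hx
  refine (Set.ncard_le_ncard (t := σ '' T ∪ (fun v => σ v * x) '' T) fun b hb => ?_).trans
    ((Set.ncard_union_le _ _).trans ((Nat.add_le_add Set.ncard_image_le Set.ncard_image_le).trans (Nat.two_mul _).ge))
  exact ((H.π_eq hx hb.1 (h1 _)).1 (h2 _).symm).imp (fun e => ⟨_, hb.2, e.symm⟩) fun e => ⟨_, hb.2, e.symm⟩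

variable (h : S.B2) {z l : G} (s : S.Sy z l)
include h s

theorem nb : ∃ x ∈ S.D, z ∈ S.Q x ∧ l ∈ S.Q x ∧ x ∈ S.Q z ∧ z ≠ x ∧ l ≠ x := by
  obtain ⟨hz, hl, -, nq, x, hx, zx, lx⟩ := s
  exact ⟨x, hx, zx, lx, h.toSt.sym hx hz zx, fun e => nq (e ▸ lx), fun e => nq (e ▸ h.toSt.sym hx hz zx)⟩

theorem card : 2 ^ 15 ≤ Nat.card (S.Q z ⊓ centralizer ({l} : Set G) : Subgroup G) := by
  have H := h.toSt
  have := H.fin
  obtain ⟨x, hx, zx, lx, xz, n1, n2⟩ := nb h s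
  obtain ⟨W, p, k⟩ := h.l1 x z hx s.1 zx n1
  obtain ⟨W', p', -⟩ := h.l1 x l hx s.2.1 lx n2
  have h1 := h.pb.orb W W' _ p.pl p'.pl ((h.pa.perp _ _ _ _ p.pl p'.pl p.pv p'.pv).1 ((h.B_zero hx zx lx).2 s.2.2.1)) p'.pv
  have h2 := (card_le (S.Q z ⊓ centralizer {x}) (p := l) fun y hy => by
    have c : Commute y x := mem_cent_singleton.1 hy.2
    exact ⟨H.conjQ hx c lx, _, (k _).2 ⟨y, hy.1, c, rfl⟩, (h.ρ_π hx c lx).symm⟩).trans
    (Nat.mul_le_mul ((fib H hx _).trans (Nat.mul_le_mul_left 2 h1))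
      (card_le_of_le (inf_le_inf_right (centralizer {l}) inf_le_left)))
  have h3 := H.card_half s.1 xz
  omega

theorem r2 : S.r z l * S.r z l = 1 := by
  rw [← h.r_mul s.1 s.2.2.1.symm s.2.2.1.symm, h.toSt.sq s.2.1, h.toSt.r_one s.1]

theorem pre : ∃ X : Subgroup G, (∀ a, a ∈ X ↔ a ∈ S.Q z ∧ S.ρ (S.r z l) (S.π z a) = S.π z a) ∧
    Nat.card X = 2 * Nat.card {v // S.ρ (S.r z l) v = v} ∧ S.Q z ⊓ centralizer {l} ≤ X := by
  obtain ⟨X, h1, h2⟩ := h.toSt.card_pre s.1 (LinearMap.eqLocus (S.ρ (S.r z l)) LinearMap.id)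
  exact ⟨X, h1, h2, fun a ha => (h1 a).2 ⟨ha.1, h.toSt.fix_of_comm s.1 s.2.2.1.symm ha.1
    (Commute.symm (mem_cent_singleton.1 ha.2))⟩⟩

theorem tv : ∃ p, Iso p ∧ S.r z l = τ S.ι p := by
  have := h.fin
  obtain ⟨x, hx, -, lx, xz, n1, -⟩ := nb h s
  obtain ⟨W, -, k⟩ := h.l1 z x s.1 hx xz n1.symm
  obtain ⟨X, -, h1, h2⟩ := pre h s
  have h3 := (card h s).trans (card_le_of_le h2)
  exact h.mc.rank _ (AW_le_range W ((k _).2 ⟨l, lx, s.2.2.1.symm, rfl⟩)) (r2 h s)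
    (fun e => s.2.2.2.1 ((h.r_ker s.1 s.2.2.1.symm).1 e)) (by omega)

theorem fix {y : G} (hy : y ∈ S.Q z) (e : S.ρ (S.r z l) (S.π z y) = S.π z y) : Commute y l := by
  have := h.fin
  obtain ⟨p, hp, e1⟩ := tv h s
  obtain ⟨X, h0, h1, h2⟩ := pre h s
  have h3 := card h s
  have h4 := e1 ▸ h.mc.idx p hp
  exact mem_cent_singleton.1 ((eq_of_le_of_card_ge h2 (by omega)).ge ((h0 y).2 ⟨hy, e⟩)).2

theorem notD (la : S.LA) : l * z ∉ S.D := fun hD => by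
  have H := h.toSt
  obtain ⟨x, hx, zx, lx, xz, n1, n2⟩ := nb h s
  obtain ⟨W, p, -⟩ := h.l1 x z hx s.1 zx n1
  obtain ⟨W', p', -⟩ := h.l1 x l hx s.2.1 lx n2
  obtain ⟨W'', p'', -⟩ := h.l1 x _ hx hD (mul_mem lx zx) fun e =>
    s.2.2.2.1 ((mul_mem_cancel_right (H.self_mem s.1)).1 (e ▸ xz))
  exact s.2.2.2.1 (H.sym s.2.1 s.1 ((la.col x l z W' W hx lx zx p'.pl p.pl p'.pv p.pv).2
    (h.pb.sum _ _ _ _ _ p'.pl p.pl p''.pl p'.pv p.pv (h.π_mul hx lx zx ▸ p''.pv)).ge))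

theorem cnj (la : S.LA) {l' : G} (s' : S.Sy z l') (e : S.r z l = S.r z l') : ∃ y ∈ S.Q z, y * l * y⁻¹ = l' := by
  have H := h.toSt
  have h1 := (H.r_eq s.1 s'.2.2.1.symm s.2.2.1.symm).1 e.symm
  obtain ⟨w, hw⟩ := h.om.exists_of_orth (r2 h s) (v := S.π z (l' * l⁻¹)) fun u hu => by
    obtain ⟨y, hy, rfl⟩ := h.π_surj s.1 u
    exact (h.B_zero s.1 h1 hy).2 ((fix h s' hy (e ▸ hu)).mul_right (fix h s hy hu).inv_right).symm
  obtain ⟨d, hd, rfl⟩ := h.π_surj s.1 w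
  obtain ⟨h2, h3⟩ := H.π_comm s.1 s.2.2.1.symm hd
  refine ⟨d, hd, ((H.π_eq s.1 h1 h2).1 (hw.trans h3.symm)).elim (fun k => (mul_right_cancel k).symm) fun k =>
    absurd ?_ (notD h s' la)⟩
  rw [mul_assoc _ l⁻¹, ← s.2.2.1.inv_right.eq, ← mul_assoc] at k
  rw [mul_right_cancel k, mul_assoc, H.sq s.1, mul_one]
  exact h.conj s.2.1 d

end LbP

open LbP in
theorem lb (h : S.B2) (la : S.LA) : S.LB := by
  refine ⟨fun _ _ s => tv h s, fun _ _ _ s => fix h s, fun _ _ s => card h s, fun _ _ s => notD h s la,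
    fun _ _ _ s => cnj h s la, fun z l γ s c => ?_⟩
  have H := h.toSt
  obtain ⟨a, h1, rfl⟩ := h.r_surj s.1 γ
  obtain ⟨y, hy, e⟩ := cnj h s la (H.sy_conj' s h1) (by rw [H.r_conj s.1 h1 s.2.2.1.symm, c.mul_inv_cancel])
  refine ⟨y⁻¹ * a, (H.cQ s.1 (inv_mem hy)).mul_left h1, mul_inv_eq_iff_eq_mul.1 ?_,
    by rw [h.r_mul s.1 (H.cQ s.1 (inv_mem hy)) h1, H.r_Q s.1 (inv_mem hy), one_mul]⟩
  rw [show y⁻¹ * a * l * (y⁻¹ * a)⁻¹ = y⁻¹ * (a * l * a⁻¹) * y by group, ← e]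
  group

end CL.E6S
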