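/-
Centralisers `2^{1+20}.U₆(2)` and `2^{1+20}.U₆(2).2`: existence of opposite pairs, closure of charts.
-/
import Cfsg.Agent.Spor.E6SLa
import Cfsg.Agent.Spor.E6SLb

set_option autoImplicit false

namespace CL.E6S

open Subgroup CL.Even CL.Grp CL.Uni CL.Rec CL.IN Cfsg Module

universe u

variable {G Γ : Type u} [Group G] [Group Γ] {S : Dat G Γ}

namespace L7P

theorem ne1 (A : UA S.ι) {p s : V6} (h : Hy p s) : τ S.ι p * τ S.ι s * (τ S.ι p * τ S.ι s) ≠ 1 := fun e => by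
  have k := τ_cube (ι := S.ι) h
  rw [pow_three', e, one_mul] at k
  exact h.2.2 ((A.τ_comm_iff h.1 h.2.1).1 (k.trans (mul_eq_one_comm.1 k).symm))

theorem pl (h : S.B3) {z z' : G} {W : Submodule K4 V6} (C : S.Ch z z') (hW : Pl W) : ∃ x ∈ S.D, x ∈ S.Q z ∧
    ∀ c, Commute c z → Commute c z' → S.r z c ∈ AW S.ι W → c ∈ S.Q x := by
  have H := h.toSt
  have hz := C.op.1
  obtain ⟨φ, hφ⟩ := H.ch_hom C
  obtain ⟨p, hp, p0⟩ := Submodule.exists_mem_ne_zero_of_ne_bot (p := W) fun e => by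
    have := hW.1
    rw [e, finrank_bot] at this
    exact absurd this (by norm_num)
  have ip := hW.iso hp p0
  have cnj : ∀ g v, Iso v → φ (S.ι g) * φ (τ S.ι v) * (φ (S.ι g))⁻¹ = φ (τ S.ι (g.1 v)) := fun g v hv => by
    rw [← τ_conj g hv, map_mul, map_mul, map_inv]
  have im' : ∀ g X a, Pl X → a ∈ S.Q z → PV S.ι S.ρ X (S.π z a) →
      PV S.ι S.ρ (im g X) (S.π z (φ (S.ι g) * a * (φ (S.ι g))⁻¹)) := fun g X a hX ha pv => by
    rw [← h.ρ_π hz (hφ _).1 ha, (hφ _).2.2]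
    exact h.pa.im _ _ g hX pv
  obtain ⟨x, hx, xz, pv, m⟩ : ∃ x ∈ S.D, x ∈ S.Q z ∧ PV S.ι S.ρ W (S.π z x) ∧ φ (τ S.ι p) ∈ S.Q x := by
    obtain ⟨x, hx, -, lx, xz, n, -⟩ := LbP.nb h.toB2 (C.tv _ p (hφ _).1 (hφ _).2.1 ip (hφ _).2.2).1
    obtain ⟨X, P, k⟩ := h.l1 z x hz hx xz n.symm
    obtain ⟨g, e, rfl⟩ := h.uw.plP X W p P.pl hW
      (h.ua.mem_of_τ_mem h.ue P.pl ip ((k _).2 ⟨_, lx, (hφ _).1, (hφ _).2.2⟩)) hp p0
    exact ⟨_, h.conj hx _, H.conjQ hz (hφ _).1 xz, im' g X x P.pl xz P.pv,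
      e.τ_eq (ι := S.ι) ip ▸ cnj g p ip ▸ H.conj_mem_Q hx _ lx⟩
  have key : AW S.ι W ≤ (S.Q x).comap φ := by
    rw [AW_eq, closure_le]
    rintro _ ⟨v, hv, iv, rfl⟩
    obtain ⟨g, e1, e2⟩ := h.uw.plS W p v hW hp hv p0 iv.1
    have k := (H.π_eq hz (H.conjQ hz (hφ _).1 xz) xz).1 (LaP.uniq h.toB2 hW (e1 ▸ im' g W x hW xz pv) pv)
    have k2 := H.conjQ hx (c := φ (S.ι (g * g))) (mul_inv_eq_iff_eq_mul.1 (by
      rw [map_mul, map_mul, show ∀ a : G, a * a * x * (a * a)⁻¹ = a * (a * x * a⁻¹) * a⁻¹ from fun a => by group]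
      rcases k with k | k
      · rw [k, k]
      · rw [k, ← conj_mul, k, (hφ _).1.mul_inv_cancel, mul_assoc, H.sq hz, mul_one])) m
    rw [cnj _ p ip] at k2
    exact e2.τ_eq (ι := S.ι) iv ▸ k2
  exact ⟨x, hx, xz, fun c c1 c2 hc => H.ch_ext C (hφ _).1 (hφ _).2.1 c1 c2 (hφ _).2.2 ▸ key hc⟩

end L7P

theorem l7 (h : S.B3) : S.L7 := by
  have H := h.toSt
  obtain ⟨z, l, m, s1, s2, s3, n1, n2⟩ := h.la.tri
  have hz := s1.1
  have cl := s1.2.2.1.symm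
  obtain ⟨p, hp, e⟩ := h.lb.tv z l s1
  obtain ⟨q, hq, e'⟩ := h.lb.tv z m s2
  obtain ⟨s, hs, b1, b2⟩ := h.ue.sep q p hq hp
    ((h.ua.τ_comm_iff hq hp).1 (e ▸ e' ▸ H.r_comm hz s2.2.2.1.symm cl s3.2.2.1.symm)) fun k => n1 (H.inv_eq s2.2.1 ▸
      (H.r_eq hz cl s2.2.2.1.symm).1 (by rw [e, e', k.τ_eq hp]))
  obtain ⟨c, c1, c2, c3⟩ := h.lb.lift z m _ s2 (e' ▸ (τ_comm hq hs b1).symm)
  obtain ⟨w, hw⟩ : ∃ w, w = l * (c * l * c⁻¹) := ⟨_, rfl⟩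
  have wz : Commute w z := hw ▸ cl.mul_left ((c1.mul_left cl).mul_left c1.inv_left)
  have wm : Commute w m := hw ▸ s3.2.2.1.mul_left ((c2.mul_left s3.2.2.1).mul_left c2.inv_left)
  have rw' : S.r z w = τ S.ι p * τ S.ι s * (τ S.ι p * τ S.ι s) := by
    rw [hw, h.r_mul hz cl ((c1.mul_left cl).mul_left c1.inv_left), H.r_conj hz c1 cl, e, c3, τ_inv]
    simp only [mul_assoc]
  have r3 : S.r z w ^ 3 = 1 := by rw [rw', ← pow_two, ← pow_mul, mul_comm, pow_mul, τ_cube ⟨hp, hs, b2⟩, one_pow]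
  have w12 : (w ^ 4) ^ 3 = 1 := by
    rw [← pow_mul, mul_comm, pow_mul, H.pow_four hz ((h.r_ker hz (wz.pow_left 3)).1 (by rw [H.r_pow hz wz, r3]))]
  have lw : l * w⁻¹ * l⁻¹ = w := by
    rw [hw, mul_inv_rev, ← mul_assoc, H.inv_eq (h.conj s1.2.1 c), H.inv_eq s1.2.1, mul_assoc _ l l, H.sq s1.2.1, mul_one]
  have ll : l * ((w ^ 2)⁻¹ * l * (w ^ 2)⁻¹⁻¹) = w ^ 4 := by
    rw [inv_inv, ← inv_pow, ← mul_assoc, ← mul_assoc]
    nth_rw 2 [← H.inv_eq s1.2.1]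
    rw [← conj_pow, lw, ← pow_add]
  refine ⟨l, _, s1.2.1, h.conj s1.2.1 (w ^ 2)⁻¹, ll ▸ w12, fun k => L7P.ne1 h.ua ⟨hp, hs, b2⟩ ?_, z, m, H.sy_symm s1,
    H.sy_symm (H.sy_conj' s1 (wz.pow_left 2).inv_left), s3,
    H.sy_symm (H.sy_conj' (H.sy_symm s3) (wm.pow_left 2).inv_left), n2⟩
  have k2 := H.r_pow hz wz 4
  rw [← ll, ← k, H.sq s1.2.1, H.r_one hz, pow_succ, r3, one_mul] at k2
  rw [← rw', ← k2]

theorem l8 (h : S.B3) : S.L8 := by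
  have H := h.toSt
  refine ⟨fun z z' W C hW => L7P.pl h C hW, fun z z' y y' C s s' c c' n cm => ?_, fun z z' y y' C s s' c c' n => ?_⟩
  all_goals
    have hz := C.op.1
    have d := s.2.2.1.symm
    have d' := s'.2.2.1.symm
    obtain ⟨p, hp, e⟩ := h.lb.tv z y s
    obtain ⟨p', hp', e'⟩ := h.lb.tv z y' s'
  · have b := (h.ua.τ_comm_iff hp hp').1 (e ▸ e' ▸ H.r_comm hz d d' cm)
    refine ⟨s.2.1, s'.2.1, cm, fun k => ?_, ?_⟩
    · obtain ⟨q, hq, b1, b2⟩ := h.ue.sep p p' hp hp' b fun k => n (H.ch_ext C d c d' c' (by rw [e, e', k.τ_eq hp']))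
      obtain ⟨a, a1, a2, a3⟩ := C.surj (τ S.ι q)
      have aa : a⁻¹ = a := inv_eq_of_mul_eq_one_right (H.ch_eq_one C (a1.mul_left a1) (a2.mul_left a2)
        (by rw [h.r_mul hz a1 a1, a3, τ_sq]))
      have r1 : S.r z (y' * a) = τ S.ι p' * τ S.ι q := by rw [h.r_mul hz d' a1, e', a3]
      have k1 := mul_mem k (H.conjQ s.2.1 (H.ch_comm C a1 a2 d c (e ▸ a3 ▸ (τ_comm hp hq b1).symm)) k)
      rw [aa, mul_assoc a, ← mul_assoc] at k1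
      have k2 := H.eq_one_of_cube s.2.1 k1 (by
        rw [← pow_two, ← pow_mul, mul_comm, pow_mul,
          H.ch_pow C (d'.mul_left a1) (c'.mul_left a2) (r1 ▸ τ_cube ⟨hp', hq, b2⟩), one_pow])
      exact L7P.ne1 h.ua ⟨hp', hq, b2⟩ (by rw [← r1, ← h.r_mul hz (d'.mul_left a1) (d'.mul_left a1), k2, H.r_one hz])
    · obtain ⟨W, hW, k⟩ := h.ue.plE (Submodule.span K4 {p, p'}) fun u hu v hv => by
        obtain ⟨a1, a2, rfl⟩ := Submodule.mem_span_pair.1 hu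
        obtain ⟨a3, a4, rfl⟩ := Submodule.mem_span_pair.1 hv
        simp [hp.2, hp'.2, b, B6_comm.1 b]
      obtain ⟨x, hx, -, k1⟩ := L7P.pl h C hW
      exact ⟨x, hx, k1 y d c (e ▸ τ_mem_AW (k (Submodule.subset_span (by simp))) hp),
        k1 y' d' c' (e' ▸ τ_mem_AW (k (Submodule.subset_span (by simp))) hp')⟩
  · refine ⟨s.2.1, s'.2.1, H.ch_pow C (d.mul_left d') (c.mul_left c') (by
        rw [h.r_mul hz d d', e, e', τ_cube ⟨hp, hp', fun b => n (H.ch_comm C d c d' c' (e ▸ e' ▸ τ_comm hp hp' b))⟩]),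
      fun k => n (k ▸ Commute.refl y), z, z', H.sy_symm s, H.sy_symm s', H.sy_symm (C.tv y p d c hp e).2,
      H.sy_symm (C.tv y' p' d' c' hp' e').2, fun k => C.op.2.2.2.1 ?_⟩
    rw [eq_inv_of_mul_eq_one_left (H.eq_one_of_cube s.2.1 k C.op.2.2.1), H.inv_eq C.op.2.1]

end CL.E6S
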