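/-
Centralisers `2^{1+20}.U₆(2)`, job UE: frames and planes in the unitary 6-space over `F₄`.
-/
import Cfsg.Agent.Spor.E6SD
import Cfsg.Agent.Cls.UniStab
import Cfsg.Agent.Cls.UniCount

set_option autoImplicit false

namespace CL.E6S

open Subgroup CL.Even CL.Grp CL.Uni CL.Rec CL.IN Cfsg Module

namespace UEx

theorem dual {X : Submodule K4 V6} {v : V6} (h : v ∉ X) : ∃ x ∈ perp B6 X, B6 v x ≠ 0 := by
  by_contra! h1
  exact h (herm6.perp_perp X ▸ herm6.mem_perp'.2 h1)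

theorem nw {X : Submodule K4 V6} (h : X ≤ perp B6 X) (h2 : finrank K4 X ≤ 2) :
    ∃ v, v ∉ X ∧ v ∈ perp B6 X ∧ B6 v v = 0 := by
  obtain ⟨U, h3, h4, h5, h6⟩ := herm6.exists_compl_perp h
  obtain ⟨v, h7, h8⟩ := (herm6.restrict h5).exists_isotropic (by rw [finrank6] at h6; omega)
  exact ⟨v, fun e => h7 (Subtype.ext (Submodule.disjoint_def.1 h3 _ e v.2)), h4.le (Submodule.mem_sup_right v.2), h8⟩

theorem adj {y p : V6} (h : B6 y p ≠ 0) (x : V6) : ∃ a : K4, B6 y (x + a • p) = 0 :=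
  ⟨-(B6 y x / B6 y p), by rw [map_add, map_smul, smul_eq_mul, neg_mul, div_mul_cancel₀ _ h, add_neg_cancel]⟩

theorem keep {y x p : V6} (h : B6 y x = 0) (h' : B6 y p = 0) (a : K4) : B6 y (x + a • p) = 0 := by
  rw [map_add, map_smul, h, h', smul_zero, add_zero]

theorem keep2 {x p : V6} (h : B6 x x = 0) (h1 : B6 p x = 0) (h2 : B6 p p = 0) (a : K4) :
    B6 (x + a • p) (x + a • p) = 0 :=
  keep (herm6.flip_zero (keep h (herm6.flip_zero h1) a)) (herm6.flip_zero (keep h1 h2 a)) a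

/-- `y` is a partner of `p i` -/
def D (p : Fin 3 → V6) (i : Fin 3) (y : V6) : Prop := B6 (p i) y ≠ 0 ∧ ∀ j, j ≠ i → B6 (p j) y = 0

variable {p : Fin 3 → V6} (pp : ∀ i j, B6 (p i) (p j) = 0) {y0 y1 x x' : V6}
include pp

theorem D.add {i : Fin 3} (h : D p i x) (k : Fin 3) (a : K4) : D p i (x + a • p k) := by
  simpa [D, pp] using h

theorem ext2 (h0 : D p 0 y0) (h1 : D p 1 y1) (i0 : B6 y0 y0 = 0) (i1 : B6 y1 y1 = 0) (o : B6 y0 y1 = 0)
    (hx : D p 2 x) : ∃ y2, Fr p ![y0, y1, y2] := by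
  obtain ⟨a, ha⟩ := adj (herm6.flip_ne h0.1) x
  obtain ⟨b, hb⟩ := adj (herm6.flip_ne h1.1) (x + a • p 0)
  have h2 := (hx.add pp 0 a).add pp 1 b
  obtain ⟨c, hc⟩ := herm6.exists_add_smul_self_eq (pp 2 2) h2.1 (map_zero _)
  have h3 := keep (keep ha (herm6.flip_zero (h0.2 1 (by decide))) b) (herm6.flip_zero (h0.2 2 (by decide))) c
  have h4 := keep hb (herm6.flip_zero (h1.2 2 (by decide))) c
  have h5 := h2.add pp 2 c
  generalize x + a • p 0 + b • p 1 + c • p 2 = y2 at hc h3 h4 h5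
  have h6 : ∀ i, D p i (![y0, y1, y2] i) := fun i => by fin_cases i; exacts [h0, h1, h5]
  have h7 : ∀ i j, B6 (![y0, y1, y2] i) (![y0, y1, y2] j) = 0 := fun i j => by
    fin_cases i <;> fin_cases j
    exacts [i0, o, h3, herm6.flip_zero o, i1, h4, herm6.flip_zero h3, herm6.flip_zero h4, hc]
  exact ⟨y2, fun i => ⟨⟨fun e => (h6 i).1 (by rw [e, map_zero, LinearMap.zero_apply]), pp i i⟩,
    ⟨fun e => (h6 i).1 (by rw [e, map_zero]), h7 i i⟩, (h6 i).1⟩, pp, fun i j hij => (h6 j).2 i hij, h7⟩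

theorem ext3 (h0 : D p 0 y0) (i0 : B6 y0 y0 = 0) (hx : D p 1 x) (hx' : D p 2 x') : ∃ y1 y2, Fr p ![y0, y1, y2] := by
  obtain ⟨a, ha⟩ := adj (herm6.flip_ne h0.1) x
  obtain ⟨c, hc⟩ := herm6.exists_add_smul_self_eq (pp 1 1) (hx.add pp 0 a).1 (map_zero _)
  exact ⟨_, ext2 pp h0 ((hx.add pp 0 a).add pp 1 c) i0 hc (keep ha (herm6.flip_zero (h0.2 1 (by decide))) c) hx'⟩

omit pp

theorem pp3 {a b c : V6} (aa : B6 a a = 0) (bb : B6 b b = 0) (cc : B6 c c = 0) (ab : B6 a b = 0) (ac : B6 a c = 0)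
    (bc : B6 b c = 0) (i j : Fin 3) : B6 (![a, b, c] i) (![a, b, c] j) = 0 := by
  fin_cases i <;> fin_cases j
  exacts [aa, ab, ac, herm6.flip_zero ab, bb, bc, herm6.flip_zero ac, herm6.flip_zero bc, cc]

theorem dual2 {a b c : V6} (h : c ∉ Submodule.span K4 {a, b}) : ∃ x, B6 c x ≠ 0 ∧ B6 a x = 0 ∧ B6 b x = 0 :=
  let ⟨x, h1, h2⟩ := dual h
  ⟨x, h2, mem_perp_span.1 h1 a (.inl rfl), mem_perp_span.1 h1 b (.inr rfl)⟩

theorem nw2 {a b : V6} (aa : B6 a a = 0) (bb : B6 b b = 0) (ab : B6 a b = 0) :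
    ∃ v, v ∉ Submodule.span K4 {a, b} ∧ B6 a v = 0 ∧ B6 b v = 0 ∧ B6 v v = 0 := by
  classical
  obtain ⟨v, h1, h2, h3⟩ := nw (X := Submodule.span K4 {a, b}) (Submodule.span_le.2 (by
    rintro _ (rfl | rfl) <;> refine mem_perp_span.2 ?_ <;> rintro _ (rfl | rfl)
    exacts [aa, herm6.flip_zero ab, ab, bb])) ((finrank_span_le_card _).trans (by simpa using Finset.card_le_two))
  exact ⟨v, h1, mem_perp_span.1 h2 a (.inl rfl), mem_perp_span.1 h2 b (.inr rfl), h3⟩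

theorem fr3 (p p' s s' : V6) (h : Hy p p') (hs : Iso s) (hs' : Iso s') (h1 : B6 p s = 0) (h2 : B6 p s' = 0)
    (h3 : B6 p' s = 0) (h4 : B6 p' s' = 0) (h5 : B6 s s' = 0) (h6 : ¬ Pr s s') :
    ∃ r r', Fr r r' ∧ r 0 = p ∧ r' 0 = p' ∧ r 1 = s ∧ r 2 = s' := by
  have k : ∀ {s s'}, s ≠ 0 → B6 p' s = 0 → B6 p' s' = 0 → ¬ Pr s s' → s ∉ Submodule.span K4 {p, s'} :=
    fun {s s'} h0 h3 h4 h6 e => by
      obtain ⟨a, b, rfl⟩ := Submodule.mem_span_pair.1 e
      obtain rfl : a = 0 := by simpa [h4, herm6.flip_ne h.2.2] using h3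
      exact h6 ⟨b, fun e => h0 (by simp [e]), by simp⟩
  obtain ⟨x, a1, a2, a3⟩ := dual2 (k hs.1 h3 h4 h6)
  obtain ⟨x', b1, b2, b3⟩ := dual2 (k hs'.1 h4 h3 fun ⟨c, c1, c2⟩ => h6 ⟨c⁻¹, inv_ne_zero c1, by simp [c2, c1]⟩)
  obtain ⟨y1, y2, h7⟩ := ext3 (pp3 h.1.2 hs.2 hs'.2 h1 h2 h5) (y0 := p') (x := x) (x' := x')
    ⟨h.2.2, fun j hj => by fin_cases j; exacts [absurd rfl hj, herm6.flip_zero h3, herm6.flip_zero h4]⟩ h.2.1.2
    ⟨a1, fun j hj => by fin_cases j; exacts [a2, absurd rfl hj, a3]⟩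
    ⟨b1, fun j hj => by fin_cases j; exacts [b2, b3, absurd rfl hj]⟩
  exact ⟨_, _, h7, rfl, rfl, rfl, rfl⟩

theorem plE (n : ℕ) : ∀ X : Submodule K4 V6, X ≤ perp B6 X → finrank K4 X + n = 3 → ∃ W, Pl W ∧ X ≤ W := by
  induction n with
  | zero => exact fun X h1 h2 => ⟨X, ⟨h2, fun u hu v hv => h1 hv u hu⟩, le_rfl⟩
  | succ n ih =>
    intro X h1 h2
    obtain ⟨v, h3, h4, h5⟩ := nw h1 (by omega)
    obtain ⟨W, h6, h7⟩ := ih (X ⊔ K4 ∙ v) (by
      rw [perp_sup]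
      exact sup_le (le_inf h1 fun x hx => mem_perp_singleton.2 (herm6.flip_zero (h4 x hx)))
        ((Submodule.span_singleton_le_iff_mem _ _).2 ⟨h4, mem_perp_singleton.2 h5⟩))
      (by rw [Submodule.finrank_sup_span_singleton h3]; omega)
    exact ⟨W, h6, le_sup_left.trans h7⟩

/-- codes of the standard frame and of its dual -/
def c6 : Fin 6 → ℕ := ![5, 80, 1280, 9, 144, 2304]
def c6' : Fin 6 → ℕ := ![9, 144, 2304, 5, 80, 1280]

theorem li6 : LinearIndependent K4 fun i => dec (c6 i) := Fintype.linearIndependent_iff.2 fun g hg i => by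
  have k : ∀ i j, B6 (dec (c6' i)) (dec (c6 j)) = 0 ↔ j ≠ i := by simp only [← cB_eq_zero]; decide
  have := congrArg (B6 (dec (c6' i))) hg
  rw [map_sum, map_zero, Finset.sum_eq_single i (fun j _ hj => by rw [map_smul, (k i j).2 hj, smul_zero]) (by simp),
    map_smul] at this
  exact (mul_eq_zero.1 this).resolve_right fun e => (k i i).1 e rfl

/-- coordinate subspaces -/
def Sp (S : Finset (Fin 6)) : Submodule K4 V6 := Submodule.span K4 ((fun i => dec (c6 i)) '' S)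

theorem Sp_inf (S T : Finset (Fin 6)) : Sp S ⊓ Sp T = Sp (S ∩ T) := by
  have e := coe_basisOfLinearIndependentOfCardEqFinrank li6 (by rw [finrank6, Fintype.card_fin])
  ext v
  unfold Sp
  rw [← e]
  simp only [Submodule.mem_inf, Basis.mem_span_image, Finset.coe_inter, Set.subset_inter_iff]

theorem Sp_rank (S : Finset (Fin 6)) : finrank K4 (Sp S) = S.card := by
  rw [Sp, Set.image_eq_range, ← Fintype.card_coe]
  exact finrank_span_eq_card (li6.comp _ Subtype.val_injective)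

theorem Sp_pl {S : Finset (Fin 6)} (h : S.card = 3 ∧ ∀ i ∈ S, ∀ j ∈ S, cB (c6 i) (c6 j) = 0) : Pl (Sp S) :=
  ⟨(Sp_rank S).trans h.1, fun u hu _ hv => (Submodule.span_le (p := perp B6 (Sp S))).2 (by
    rintro _ ⟨j, hj, rfl⟩
    refine mem_perp_span.2 ?_
    rintro _ ⟨i, hi, rfl⟩
    exact cB_eq_zero.1 (h.2 i hi j hj)) hv u hu⟩

end UEx

open UEx in
theorem ue : UE where
  std := ⟨fun i => by
      fin_cases i <;> exact ⟨iso_dec (by decide), iso_dec (by decide), mt cB_eq_zero.2 (by decide)⟩,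
    fun i j => by fin_cases i <;> fin_cases j <;> exact cB_eq_zero.1 (by decide),
    fun i j h => by fin_cases i <;> fin_cases j <;> first | exact absurd rfl h | exact cB_eq_zero.1 (by decide),
    fun i j => by fin_cases i <;> fin_cases j <;> exact cB_eq_zero.1 (by decide)⟩
  fr1 p p' h := by
    obtain ⟨s, a1, a2, -, a3⟩ := nw2 h.1.2 h.1.2 h.1.2
    obtain ⟨t, b1, b2, b3, b4⟩ := nw2 h.1.2 a3 a2
    obtain ⟨a, ha⟩ := adj (herm6.flip_ne h.2.2) s
    obtain ⟨b, hb⟩ := adj (herm6.flip_ne h.2.2) t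
    have m1 : p ∈ Submodule.span K4 {p, s} := Submodule.subset_span (.inl rfl)
    have m2 := Submodule.add_mem _ (Submodule.subset_span (.inr rfl)) (Submodule.smul_mem _ a m1)
    have n : t + b • p ∉ Submodule.span K4 {p, s} := fun e =>
      b1 ((Submodule.add_mem_iff_left _ (Submodule.smul_mem _ b m1)).1 e)
    obtain ⟨r, r', h1, h2, h3, -⟩ := fr3 p p' (s + a • p) (t + b • p) h ⟨fun e => a1 (eq_neg_of_add_eq_zero_left e ▸
        Submodule.neg_mem _ (Submodule.smul_mem _ a (Submodule.subset_span (.inl rfl)))), keep2 a3 a2 h.1.2 a⟩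
      ⟨fun e => n (e ▸ Submodule.zero_mem _), keep2 b4 b2 h.1.2 b⟩ (keep a2 h.1.2 a) (keep b2 h.1.2 b) ha hb
      (keep (herm6.flip_zero (keep (herm6.flip_zero b3) (herm6.flip_zero b2) a)) (herm6.flip_zero (keep a2 h.1.2 a)) b)
      fun ⟨c, c1, c2⟩ => n ((Submodule.smul_mem_iff _ c1).1 (c2 ▸ m2))
    exact ⟨r, r', h1, h2, h3⟩
  fr2 p p' s s' h h' h1 h2 h3 h4 := by
    obtain ⟨t, b1, b2, b3, b4⟩ := nw2 h.1.2 h'.1.2 h1
    obtain ⟨a, ha⟩ := adj (herm6.flip_ne h.2.2) t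
    obtain ⟨b, hb⟩ := adj (herm6.flip_ne h'.2.2) (t + a • p)
    obtain ⟨x, a1, a2, a3⟩ := dual2 (a := p) (b := s) (c := t + a • p + b • s) fun e => b1
      ((Submodule.add_mem_iff_left _ (Submodule.smul_mem _ a (Submodule.subset_span (.inl rfl)))).1
        ((Submodule.add_mem_iff_left _ (Submodule.smul_mem _ b (Submodule.subset_span (.inr rfl)))).1 e))
    have c1 := keep b3 (herm6.flip_zero h1) a
    obtain ⟨y, h5⟩ := ext2 (pp3 h.1.2 h'.1.2 (keep2 (keep2 b4 b2 h.1.2 a) c1 h'.1.2 b) h1 (keep (keep b2 h.1.2 a) h1 b)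
      (keep c1 h'.1.2 b)) (y0 := p') (y1 := s') (x := x)
      ⟨h.2.2, fun j hj => by fin_cases j; exacts [absurd rfl hj, herm6.flip_zero h3, herm6.flip_zero (keep ha h3 b)]⟩
      ⟨h'.2.2, fun j hj => by fin_cases j; exacts [h2, absurd rfl hj, herm6.flip_zero hb]⟩ h.2.1.2 h'.2.1.2 h4
      ⟨a1, fun j hj => by fin_cases j; exacts [a2, a3, absurd rfl hj]⟩
    exact ⟨_, _, h5, rfl, rfl, rfl, rfl⟩
  fr3 := fr3
  fr4 p h pp := by
    have k : ∀ i, ∃ x, D p i x := fun i =>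
      let ⟨x, hx⟩ := herm6.exists_forall_eq h fun j => if j = i then 1 else 0
      ⟨x, by simp [hx], fun j hj => by simp [hx, hj]⟩
    choose x hx using k
    obtain ⟨c, hc⟩ := herm6.exists_add_smul_self_eq (pp 0 0) (hx 0).1 (map_zero _)
    obtain ⟨_, _, h1⟩ := ext3 pp ((hx 0).add pp 0 c) hc (hx 1) (hx 2)
    exact ⟨_, h1⟩
  plE X h := by
    obtain ⟨U, -, -, -, h1⟩ := herm6.exists_compl_perp (W := X) fun v hv u hu => h u hu v hv
    rw [finrank6] at h1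
    exact UEx.plE (3 - finrank K4 X) X (fun v hv u hu => h u hu v hv) (by omega)
  plM W v h hv := (Submodule.eq_of_le_of_finrank_eq (S₂ := perp B6 W) (fun v hv u hu => h.2 u hu v hv)
    (by rw [herm6.finrank_perp, finrank6, h.1])).ge hv
  sep p s hp hs h1 h2 := by
    obtain ⟨x, a1, a2⟩ := dual (X := K4 ∙ p) (v := s) fun e => by
      obtain ⟨c, rfl⟩ := Submodule.mem_span_singleton.1 e
      have : c ≠ 0 := fun e => hs.1 (by simp [e])
      exact h2 ⟨c⁻¹, inv_ne_zero this, by simp [this]⟩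
    obtain ⟨c, hc⟩ := herm6.exists_add_smul_self_eq hs.2 a2 (map_zero _)
    have a3 : B6 s (x + c • s) ≠ 0 := by simpa [hs.2] using a2
    exact ⟨_, ⟨fun e => a3 (by rw [e, map_zero]), hc⟩, keep (mem_perp_singleton.1 a1) h1 c, a3⟩
  cube := by
    refine ⟨fun i => Sp (![{0, 1, 2}, {0, 4, 5}, {1, 3, 5}] i), fun i => Sp_pl (by revert i; decide),
      fun i j h => by rw [Sp_inf, Sp_rank]; revert i j; decide, fun i j k h1 h2 h3 =>
      ⟨Sp (if i = 0 then {1, 2, 3} else {3, 4, 5}), Sp_pl (by split_ifs <;> decide), ?_⟩⟩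
    rw [Sp_inf, Sp_inf, Sp_inf]
    simp only [ne_eq, ← Submodule.finrank_eq_zero, Sp_rank]
    revert i j k
    decide

end CL.E6S
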