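/-
Transitivity statements in `SU₆(2)`.
-/
import Cfsg.Agent.Spor.E6SD

set_option autoImplicit false

namespace CL.E6S

open Subgroup CL.Even CL.Grp CL.Uni CL.Rec CL.IN Cfsg Module

namespace Uw

theorem pr_refl (u : V6) : Pr u u := ⟨1, one_ne_zero, (one_smul _ _).symm⟩

theorem pr_trans {u v w : V6} (h : Pr u v) (h' : Pr v w) : Pr u w := by
  obtain ⟨a, ha, rfl⟩ := h
  obtain ⟨b, hb, rfl⟩ := h'
  exact ⟨a * b, mul_ne_zero ha hb, smul_smul _ _ _⟩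

theorem pr_map (g : V6 ≃ₗ[K4] V6) {u v : V6} (h : Pr u v) : Pr (g u) (g v) := by
  obtain ⟨a, ha, rfl⟩ := h
  exact ⟨a, ha, map_smul _ _ _⟩

theorem li_pair {p v : V6} (hp : p ≠ 0) (hv : v ≠ 0) (h : ¬ Pr v p) : LinearIndependent K4 ![p, v] :=
  (LinearIndependent.pair_iff' hp).2 fun a e => h ⟨a, fun h0 => hv (by rw [← e, h0, zero_smul]), e.symm⟩

/-- Witt's theorem for `SU₆`, up to scalars. -/
theorem fam {ι : Type} [Finite ι] {x y : ι → V6} (hx : LinearIndependent K4 x) (hy : LinearIndependent K4 y)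
    (hB : ∀ i j, B6 (x i) (x j) = B6 (y i) (y j)) {e f : V6} (h : Hy e f)
    (c : ∀ i, y i = e ∨ y i = f ∨ (B6 e (y i) = 0 ∧ B6 f (y i) = 0)) : ∃ g : SU6, ∀ i, Pr (g.1 (x i)) (y i) := by
  obtain ⟨g, hg, g1⟩ := herm6.exists_mem_UG_family x y hx hy hB
  obtain ⟨⟨-, he⟩, ⟨-, hf⟩, hef⟩ := h
  obtain ⟨a, a0, ha⟩ := herm6.bar.exists_div_bar_eq (x := K4.bar (dt g))
    (by rw [herm6.bar_bar, mul_comm, herm6.dt_norm hg])
  obtain ⟨k, k0, k1, k2, k3, k4⟩ := herm6.exists_diag he (f := (B6 e f)⁻¹ • f)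
    (by rw [LinearMap.map_smulₛₗ₂, map_smul, hf, smul_zero, smul_zero])
    (by rw [map_smul, smul_eq_mul, inv_mul_cancel₀ hef]) a0
  have a1 : K4.bar a ≠ 0 := (map_ne_zero K4.bar).2 a0
  refine ⟨⟨k * g, mem_SUG.2 ⟨(UG B6).mul_mem k0 hg, ?_⟩⟩, fun i => ?_⟩
  · rw [map_mul, k4]
    have := herm6.dt_norm hg
    field_simp
    linear_combination (dt g) * ha + (K4.bar a) * this
  · change Pr (k (g (x i))) (y i)
    rw [g1]
    rcases c i with h1 | h1 | ⟨h1, h2⟩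
    · exact ⟨a, a0, by rw [h1, k1]⟩
    · refine ⟨_, inv_ne_zero a1, ?_⟩
      rw [map_smul, smul_comm] at k2
      rw [h1, smul_right_injective _ (inv_ne_zero hef) k2]
    · rw [k3 _ h1 (by rw [LinearMap.map_smulₛₗ₂, h2, smul_zero])]
      exact pr_refl _

/-- Witt's theorem for `SU₆` and at most two vectors. -/
theorem small {n : ℕ} (hn : n ≤ 2) {x y : Fin n → V6} (hx : LinearIndependent K4 x) (hy : LinearIndependent K4 y)
    (hB : ∀ i j, B6 (x i) (x j) = B6 (y i) (y j)) : ∃ g : SU6, ∀ i, g.1 (x i) = y i := by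
  obtain ⟨v, hv, hv'⟩ := herm6.exists_mem_self_ne_zero (W := perp B6 (Submodule.span K4 (Set.range y))) (by
    rw [herm6.finrank_perp, finrank_span_eq_card hy, finrank6, Fintype.card_fin]; omega)
  obtain ⟨g, hg, e⟩ := herm6.exists_mem_SUG_family x y hx hy hB hv'
    fun i => herm6.flip_zero (mem_perp_span.1 hv _ ⟨i, rfl⟩)
  exact ⟨⟨g, hg⟩, e⟩

theorem fr_li {p p' : Fin 3 → V6} (h : Fr p p') : LinearIndependent K4 (Sum.elim p p') := by
  refine LinearIndependent.of_pairwise_dual_eq_zero_one _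
    (Sum.elim (fun i => (B6 (p' i) (p i))⁻¹ • B6 (p' i)) fun i => (B6 (p i) (p' i))⁻¹ • B6 (p i)) ?_ ?_
  · rintro (i | i) (j | j) ne <;> simp only [Sum.elim_inl, Sum.elim_inr, LinearMap.smul_apply]
    · rw [herm6.flip_zero (h.pq j i fun e => ne (e ▸ rfl)), smul_zero]
    · rw [h.qq, smul_zero]
    · rw [h.pp, smul_zero]
    · rw [h.pq i j fun e => ne (e ▸ rfl), smul_zero]
  · rintro (i | i) <;> simp only [Sum.elim_inl, Sum.elim_inr, LinearMap.smul_apply, smul_eq_mul]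
    · exact inv_mul_cancel₀ (herm6.flip_ne (h.hy i).2.2)
    · exact inv_mul_cancel₀ (h.hy i).2.2

theorem fr_li1 {p p' : Fin 3 → V6} (h : Fr p p') : LinearIndependent K4 p := (fr_li h).comp _ Sum.inl_injective

theorem fr_li2 {p p' : Fin 3 → V6} (h : Fr p p') : LinearIndependent K4 p' := (fr_li h).comp _ Sum.inr_injective

theorem frT {p p' r r' : Fin 3 → V6} (h : Fr p p') (h' : Fr r r') :
    ∃ g : SU6, ∀ i, Pr (g.1 (p i)) (r i) ∧ Pr (g.1 (p' i)) (r' i) := by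
  let c : Fin 3 → K4 := fun i => B6 (p i) (p' i) / B6 (r i) (r' i)
  have c0 : ∀ i, c i ≠ 0 := fun i => div_ne_zero (h.hy i).2.2 (h'.hy i).2.2
  have k : Fr r fun i => c i • r' i := ⟨fun i => ⟨(h'.hy i).1, (h'.hy i).2.1.smul (c0 i), by
      rw [map_smul]; exact smul_ne_zero (c0 i) (h'.hy i).2.2⟩, h'.pp,
    fun i j ne => by rw [map_smul, h'.pq i j ne, smul_zero],
    fun i j => by rw [LinearMap.map_smulₛₗ₂, map_smul, h'.qq, smul_zero, smul_zero]⟩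
  have e : ∀ i j, B6 (p i) (p' j) = B6 (r i) (c j • r' j) := fun i j => by
    by_cases ij : i = j
    · subst ij
      rw [map_smul, smul_eq_mul, div_mul_cancel₀ _ (h'.hy i).2.2]
    · rw [h.pq i j ij, k.pq i j ij]
  obtain ⟨g, hg⟩ := fam (fr_li h) (fr_li k) (by
    rintro (i | i) (j | j) <;> simp only [Sum.elim_inl, Sum.elim_inr]
    · rw [h.pp, k.pp]
    · exact e i j
    · rw [← herm6.symm, e, herm6.symm]
    · rw [h.qq, k.qq]) (k.hy 0) (by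
    rintro (i | i) <;> simp only [Sum.elim_inl, Sum.elim_inr]
    · by_cases i0 : i = 0
      · exact .inl (i0 ▸ rfl)
      · exact .inr (.inr ⟨k.pp _ _, herm6.flip_zero (k.pq i 0 i0)⟩)
    · by_cases i0 : i = 0
      · exact .inr (.inl (i0 ▸ rfl))
      · exact .inr (.inr ⟨k.pq 0 i (Ne.symm i0), k.qq _ _⟩))
  exact ⟨g, fun i => ⟨hg (.inl i), pr_trans (hg (.inr i)) ⟨c i, c0 i, rfl⟩⟩⟩

theorem im_eq {W W' : Submodule K4 V6} (hW : Pl W) (hW' : Pl W') {p r : Fin 3 → V6} (li : LinearIndependent K4 p)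
    (hp : ∀ i, p i ∈ W) (hr : ∀ i, r i ∈ W') {g : SU6} (h : ∀ i, Pr (g.1 (p i)) (r i)) : im g W = W' := by
  have e : Submodule.span K4 (Set.range p) = W := Submodule.eq_of_le_of_finrank_eq
    (Submodule.span_le.2 (by rintro _ ⟨i, rfl⟩; exact hp i)) (by rw [finrank_span_eq_card li, hW.1]; rfl)
  refine Submodule.eq_of_le_of_finrank_eq ?_ (by rw [LinearEquiv.finrank_map_eq, hW.1, hW'.1])
  rw [← e, im, Submodule.map_span_le]
  rintro _ ⟨i, rfl⟩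
  obtain ⟨c, -, hc⟩ := h i
  exact (show g.1 (p i) ∈ W' from hc ▸ W'.smul_mem c (hr i))

theorem cons_mem {W : Submodule K4 V6} {n : ℕ} (hn : n < finrank K4 W) {v : Fin n → V6}
    (li : LinearIndependent K4 v) (hv : ∀ i, v i ∈ W) : ∃ x, LinearIndependent K4 (Fin.cons x v : Fin (n + 1) → V6) ∧
      ∀ i, (Fin.cons x v : Fin (n + 1) → V6) i ∈ W := by
  have h1 : ¬ W ≤ Submodule.span K4 (Set.range v) := fun h => by
    have := Submodule.finrank_mono h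
    rw [finrank_span_eq_card li, Fintype.card_fin] at this
    omega
  obtain ⟨x, hx, hx'⟩ := SetLike.not_le_iff_exists.1 h1
  exact ⟨x, linearIndependent_finCons.2 ⟨li, hx'⟩, fun i => Fin.cases hx hv i⟩

theorem basis1 {W : Submodule K4 V6} (hW : Pl W) {p : V6} (hp : p ∈ W) (p0 : p ≠ 0) :
    ∃ b : Fin 3 → V6, LinearIndependent K4 b ∧ (∀ i, b i ∈ W) ∧ b 2 = p := by
  obtain ⟨x, h1, h2⟩ := cons_mem (W := W) (v := ![p]) (by rw [hW.1]; omega) (linearIndependent_unique_iff.2 p0)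
    (fun i => by fin_cases i; exact hp)
  obtain ⟨y, h3, h4⟩ := cons_mem (by rw [hW.1]; omega) h1 h2
  exact ⟨_, h3, h4, rfl⟩

theorem basis0 {W : Submodule K4 V6} (hW : Pl W) : ∃ b : Fin 3 → V6, LinearIndependent K4 b ∧ ∀ i, b i ∈ W := by
  obtain ⟨p, hp, p0⟩ := W.exists_mem_ne_zero_of_ne_bot fun e => by
    have := hW.1
    rw [e, finrank_bot] at this
    omega
  obtain ⟨b, h1, h2, -⟩ := basis1 hW hp p0
  exact ⟨b, h1, h2⟩

theorem move (ue : UE) {W W' : Submodule K4 V6} (hW : Pl W) (hW' : Pl W') {p r : Fin 3 → V6}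
    (li : LinearIndependent K4 p) (li' : LinearIndependent K4 r) (hp : ∀ i, p i ∈ W) (hr : ∀ i, r i ∈ W') :
    ∃ g : SU6, im g W = W' ∧ ∀ i, Pr (g.1 (p i)) (r i) := by
  obtain ⟨p', h⟩ := ue.fr4 p li fun i j => hW.2 _ (hp i) _ (hp j)
  obtain ⟨r', h'⟩ := ue.fr4 r li' fun i j => hW'.2 _ (hr i) _ (hr j)
  obtain ⟨g, hg⟩ := frT h h'
  exact ⟨g, im_eq hW hW' li hp hr fun i => (hg i).1, fun i => (hg i).1⟩

theorem frame_out (ue : UE) {W : Submodule K4 V6} (hW : Pl W) {p : V6} (hp : Iso p) (n : p ∉ W) :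
    ∃ r r', Fr r r' ∧ (∀ i, r i ∈ W) ∧ r' 0 = p := by
  obtain ⟨w, hw, hwp⟩ : ∃ w ∈ W, B6 w p ≠ 0 := by
    by_contra! h
    exact n (ue.plM W p hW h)
  have h1 : 2 ≤ finrank K4 ↥(W ⊓ perp B6 (K4 ∙ p)) := by
    have h2 := Submodule.finrank_sup_add_finrank_inf_eq W (perp B6 (K4 ∙ p))
    have h3 := herm6.finrank_perp_singleton hp.1
    have h4 := (W ⊔ perp B6 (K4 ∙ p)).finrank_le
    rw [finrank6] at h3 h4
    rw [hW.1] at h2
    omega
  obtain ⟨s, h2, h3⟩ := cons_mem (W := W ⊓ perp B6 (K4 ∙ p)) (v := ![]) (by omega) linearIndependent_empty_type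
    (fun i => i.elim0)
  obtain ⟨s', h4, h5⟩ := cons_mem (by omega) h2 h3
  have m1 : s' ∈ W ⊓ perp B6 (K4 ∙ p) := h5 0
  have m2 : s ∈ W ⊓ perp B6 (K4 ∙ p) := h5 1
  obtain ⟨r, r', h, e0, e1, e2, e3⟩ := ue.fr3 w p s s'
    ⟨⟨fun e => hwp (by rw [e, LinearMap.map_zero₂]), hW.2 _ hw _ hw⟩, hp, hwp⟩ ⟨h4.ne_zero 1, hW.2 _ m2.1 _ m2.1⟩
    ⟨h4.ne_zero 0, hW.2 _ m1.1 _ m1.1⟩ (hW.2 _ hw _ m2.1) (hW.2 _ hw _ m1.1) (mem_perp_singleton.1 m2.2)
    (mem_perp_singleton.1 m1.2) (hW.2 _ m2.1 _ m1.1)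
    fun ⟨c, _, e⟩ => (LinearIndependent.pair_iff' (h4.ne_zero 0)).1 h4 c e.symm
  refine ⟨r, r', h, fun i => ?_, e1⟩
  fin_cases i
  exacts [e0.symm ▸ hw, e2.symm ▸ m2.1, e3.symm ▸ m1.1]

theorem frame_two {W X : Submodule K4 V6} (hW : Pl W) (hX : Pl X) (h : W ⊓ X = ⊥) :
    ∃ r r', Fr r r' ∧ (∀ i, r i ∈ W) ∧ ∀ i, r' i ∈ X := by
  obtain ⟨b, li, hb⟩ := basis0 hW
  have top : W ⊔ X = ⊤ := Submodule.eq_top_of_finrank_eq (by
    have := Submodule.finrank_sup_add_finrank_inf_eq W X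
    rw [h, finrank_bot, hW.1, hX.1] at this
    rw [finrank6]; omega)
  have h1 : ∀ j : Fin 3, ∃ x ∈ X, ∀ i, B6 (b i) x = if i = j then 1 else 0 := fun j => by
    obtain ⟨y, hy⟩ := herm6.exists_forall_eq li fun i => if i = j then 1 else 0
    obtain ⟨w, hw, x, hx, rfl⟩ := Submodule.mem_sup.1 (top ▸ Submodule.mem_top : y ∈ W ⊔ X)
    exact ⟨x, hx, fun i => by rw [← hy i, map_add, hW.2 _ (hb i) _ hw, zero_add]⟩
  choose x hx e using h1
  have h2 : ∀ i, B6 (b i) (x i) ≠ 0 := fun i => by rw [e, if_pos rfl]; exact one_ne_zero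
  exact ⟨b, x, ⟨fun i => ⟨⟨li.ne_zero i, hW.2 _ (hb i) _ (hb i)⟩,
    ⟨fun h0 => h2 i (by rw [h0, map_zero]), hX.2 _ (hx i) _ (hx i)⟩, h2 i⟩, fun i j => hW.2 _ (hb i) _ (hb j),
    fun i j ne => by rw [e, if_neg ne], fun i j => hX.2 _ (hx i) _ (hx j)⟩, hb, hx⟩

end Uw

open Uw in
theorem uw (ue : UE) : UW where
  plT W W' hW hW' := by
    obtain ⟨b, h1, h2⟩ := basis0 hW
    obtain ⟨b', h3, h4⟩ := basis0 hW'
    exact (move ue hW hW' h1 h3 h2 h4).imp fun _ h => h.1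
  plP W W' p hW hW' hp hp' p0 := by
    obtain ⟨b, h1, h2, e⟩ := basis1 hW hp p0
    obtain ⟨b', h3, h4, e'⟩ := basis1 hW' hp' p0
    obtain ⟨g, h5, h6⟩ := move ue hW hW' h1 h3 h2 h4
    exact ⟨g, by simpa only [e, e'] using h6 2, h5⟩
  plS W p p' hW hp hp' p0 p0' := by
    by_cases h : Pr p p'
    · exact ⟨1, Submodule.map_id W, h⟩
    obtain ⟨s, h1, h2⟩ := cons_mem (W := W) (by rw [hW.1]; omega) (li_pair p0' p0 h)
      (fun i => by fin_cases i; exacts [hp', hp])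
    obtain ⟨g, h3, h4⟩ := move ue hW hW h1 (h1.comp ![1, 2, 0] (by decide)) h2 fun i => h2 _
    exact ⟨g, h3, pr_trans (pr_map _ (h4 2)) (h4 0)⟩
  plO W p p' hW hp hp' n n' := by
    obtain ⟨r, r', h1, h2, rfl⟩ := frame_out ue hW hp n
    obtain ⟨s, s', h3, h4, rfl⟩ := frame_out ue hW hp' n'
    obtain ⟨g, hg⟩ := frT h1 h3
    exact ⟨g, im_eq hW hW (fr_li1 h1) h2 h4 fun i => (hg i).1, (hg 0).2⟩
  plD W X W' X' hW hX hW' hX' h h' := by
    obtain ⟨r, r', h1, h2, h3⟩ := frame_two hW hX h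
    obtain ⟨s, s', h4, h5, h6⟩ := frame_two hW' hX' h'
    obtain ⟨g, hg⟩ := frT h1 h4
    exact ⟨g, im_eq hW hW' (fr_li1 h1) h2 h5 fun i => (hg i).1, im_eq hX hX' (fr_li2 h1) h3 h6 fun i => (hg i).2⟩
  frT _ _ _ _ := frT
  ptT p p' hp hp' := by
    obtain ⟨g, hg⟩ := small (x := ![p]) (y := ![p']) (by omega) (linearIndependent_unique_iff.2 hp.1)
      (linearIndependent_unique_iff.2 hp'.1) fun i j => by
        fin_cases i; fin_cases j; exact hp.2.trans hp'.2.symm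
    exact ⟨g, hg 0⟩
  ptS p v v' hp hv hv' n n' e := by
    obtain ⟨c, c0, hc⟩ : ∃ c : K4, c ≠ 0 ∧ B6 p v = B6 p (c • v') := by
      by_cases h : B6 p v = 0
      · exact ⟨1, one_ne_zero, by rw [one_smul, h, e.1 h]⟩
      · exact ⟨B6 p v / B6 p v', div_ne_zero h (mt e.2 h), by
          rw [map_smul, smul_eq_mul, div_mul_cancel₀ _ (mt e.2 h)]⟩
    obtain ⟨g, hg⟩ := small le_rfl (li_pair hp.1 hv.1 n) (li_pair hp.1 (hv'.smul c0).1 fun h => n' (pr_trans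
      ⟨c⁻¹, inv_ne_zero c0, by rw [smul_smul, inv_mul_cancel₀ c0, one_smul]⟩ h)) fun i j => by
        fin_cases i <;> fin_cases j
        · rfl
        · exact hc
        · exact (herm6.symm p v).symm.trans ((congrArg _ hc).trans (herm6.symm _ _))
        · exact hv.2.trans (hv'.smul c0).2.symm
    exact ⟨g, hg 0, c, c0, hg 1⟩

end CL.E6S
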