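/-
Centralisers `2^{1+20}.U₆(2)`: weight spaces of the diagonal group and the fixed spaces of the elements of order three
of a frame (step MA).
-/
import Cfsg.Agent.Spor.E6SC
import Cfsg.Agent.Spor.E6SUe
import Cfsg.Agent.Spor.E6SUw

set_option autoImplicit false

namespace CL.E6S

open Subgroup CL.Even CL.Grp CL.Uni CL.Rec CL.IN Cfsg Module

universe u

namespace Ma

variable {a b : Fin 6 → ZMod 3} {g k : SU6}

theorem dg_eq (h : IsDg a g) (h' : IsDg b k) (e : a = b) : g = k :=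
  Subtype.ext (LinearEquiv.ext fun v => funext fun j => by rw [h.2, h'.2, e])

theorem dg_mul (h : IsDg a g) (h' : IsDg b k) : IsDg (a + b) (g * k) :=
  ⟨by simp [Finset.sum_add_distrib, h.1, h'.1], fun v j => by
    rw [show (g * k).1 v = g.1 (k.1 v) from rfl, h.2, h'.2, ← mul_assoc, Pi.add_apply,
      (by decide : ∀ x y : ZMod 3, K4.w ^ (x + y).val = K4.w ^ x.val * K4.w ^ y.val)]⟩

theorem dg_comm (h : IsDg a g) (h' : IsDg b k) : g * k = k * g := dg_eq (dg_mul h h') (dg_mul h' h) (add_comm a b)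

theorem dg_cube (h : IsDg a g) : g * (g * g) = 1 :=
  dg_eq (dg_mul h (dg_mul h h)) (b := 0) ⟨by simp, fun v j => by simp⟩
    (funext fun j => (by decide : ∀ x : ZMod 3, x + (x + x) = 0) _)

/-- the centre of the transposition -/
def sw (i j : Fin 6) : V6 := Pi.single i 1 + Pi.single j 1

theorem sw_iso {i j : Fin 6} (h : i ≠ j) : Iso (sw i j) :=
  ⟨by revert i j; decide +kernel, by rw [stdB_apply]; revert i j; decide +kernel⟩

theorem sw_apply {i j : Fin 6} (h : i ≠ j) (x : V6) (l : Fin 6) : (ta (sw i j)).1 x l = x (Equiv.swap i j l) := by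
  have h2 := add_self herm6.bar
  rw [ta_apply (sw_iso h), sw, map_add, LinearMap.add_apply, stdB_single_left, stdB_single_left]
  by_cases h1 : l = i
  · subst h1; simp [h, ← add_assoc, h2]
  · by_cases h3 : l = j
    · subst h3; simp [h.symm, add_left_comm, h2]
    · simp [h1, h3, Equiv.swap_apply_of_ne_of_ne]

theorem dg_sw {i j : Fin 6} (h : i ≠ j) (hg : IsDg a g) :
    IsDg (a ∘ Equiv.swap i j) (ta (sw i j) * g * ta (sw i j)) :=
  ⟨(Equiv.sum_comp (Equiv.swap i j) a).trans hg.1, fun v l => by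
    rw [show (ta (sw i j) * g * ta (sw i j)).1 v = (ta (sw i j)).1 (g.1 ((ta (sw i j)).1 v)) from rfl, sw_apply h, hg.2,
      sw_apply h, Equiv.swap_apply_self, Function.comp_apply]⟩

theorem sw_mul {i j : Fin 6} (h : i ≠ j) (hg : IsDg a g) (hk : IsDg b k) (e : a ∘ Equiv.swap i j = b) :
    ta (sw i j) * g = k * ta (sw i j) := by
  rw [← dg_eq (dg_sw h hg) hk e, mul_assoc, ta_sq, mul_one]

/-- the exponents of the standard elements of order three -/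
def as : Fin 3 → Fin 6 → ZMod 3 := ![![1, 2, 0, 0, 0, 0], ![0, 0, 1, 2, 0, 0], ![0, 0, 0, 0, 1, 2]]

theorem dg_std (i : Fin 3) : IsDg (as i) (ta (sp i) * ta (sp' i)) := by
  refine ⟨by revert i; decide, fun v j => ?_⟩
  have key : ∀ (i : Fin 3) (l j : Fin 6), (Pi.single l 1 + (∑ m, K4.bar (sp' i m) * (Pi.single l 1 : V6) m) • sp' i +
      (∑ m, K4.bar (sp i m) * (Pi.single l 1 + (∑ m, K4.bar (sp' i m) * (Pi.single l 1 : V6) m) • sp' i : V6) m) • sp i :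
      V6) j = K4.w ^ (as i j).val * (Pi.single l 1 : V6) j := by decide +kernel
  have h1 : ∀ l j, (ta (sp i) * ta (sp' i)).1 (Pi.single l 1) j = K4.w ^ (as i j).val * (Pi.single l 1 : V6) j :=
    fun l j => by
      rw [← key, show ∀ x, (ta (sp i) * ta (sp' i)).1 x = (ta (sp i)).1 ((ta (sp' i)).1 x) from fun _ => rfl,
        ta_apply (ue.std.hy i).1, ta_apply (ue.std.hy i).2.1]
      rfl
  conv_lhs => rw [pi_eq_sum_univ' v, map_sum, Finset.sum_apply]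
  simp only [map_smul, Pi.smul_apply, h1]
  simp [Pi.single_apply, mul_comm]

variable {Γ : Type u} [Group Γ] {ι : SU6 →* Γ} {ρ : Γ →* Module.End (ZMod 2) V20} {S S' : Finset (Fin 6)} {v : V20}

theorem ρι_mul (g k : SU6) (v : V20) : ρ (ι (g * k)) v = ρ (ι g) (ρ (ι k) v) := by rw [map_mul, ρ_mul]

theorem cube (h : IsDg a g) (v : V20) : ρ (ι g) (ρ (ι g) (ρ (ι g) v)) = v := by
  rw [← ρι_mul, ← ρι_mul, mul_assoc, dg_cube h, map_one, ρ_one]

theorem pres (h : IsDg a g) (hv : v ∈ US ι ρ S) : ρ (ι g) v ∈ US ι ρ S := fun b k hk e => by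
  rw [← ρι_mul, dg_comm hk h, ρι_mul, hv b k hk e]

theorem US_sw {i j : Fin 6} (h : i ≠ j) (hv : v ∈ US ι ρ S) (e : S.map (Equiv.swap i j).toEmbedding = S') :
    ρ (τ ι (sw i j)) v ∈ US ι ρ S' := fun b k hk e' => by
  have h1 := hv _ _ (dg_sw h hk) (by rw [← e', ← e, Finset.sum_map]; rfl)
  rw [τ, ← ρι_mul, show k * ta (sw i j) = ta (sw i j) * (ta (sw i j) * k * ta (sw i j)) by
    rw [← mul_assoc, ← mul_assoc, ta_sq, one_mul], ρι_mul, h1]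

/-- `1 + γ + γ²` -/
noncomputable def Ee (ρ : Γ →* Module.End (ZMod 2) V20) (γ : Γ) : Module.End (ZMod 2) V20 := 1 + ρ γ + ρ γ * ρ γ

theorem Ee_apply (γ : Γ) (v : V20) : Ee ρ γ v = v + ρ γ v + ρ γ (ρ γ v) := rfl

theorem Ee_fix {γ : Γ} (h : ρ γ v = v) : Ee ρ γ v = v := by rw [Ee_apply, h, h, add_self_zmod2, zero_add]

/-- `v` is a sum of weight vectors with weights in `P` -/
def Dc (ι : SU6 →* Γ) (ρ : Γ →* Module.End (ZMod 2) V20) (P : Finset (Finset (Fin 6))) (v : V20) : Prop :=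
  ∃ f : Finset (Fin 6) → V20, (∀ S, f S ∈ US ι ρ S) ∧ v = ∑ S ∈ P, f S

theorem fr_conj {p p' : Fin 3 → V6} (hF : Fr p p') : ∃ γ : Γ, γ ∈ ι.range ∧ ∀ i,
    τ ι (p i) = γ * τ ι (sp i) * γ⁻¹ ∧ τ ι (p' i) = γ * τ ι (sp' i) * γ⁻¹ ∧
      tf ι p p' i = γ * ι (ta (sp i) * ta (sp' i)) * γ⁻¹ := by
  obtain ⟨g, hg⟩ := (uw ue).frT sp sp' p p' ue.std hF
  refine ⟨ι g, ⟨g, rfl⟩, fun i => ?_⟩
  have h1 := ((hg i).1.τ_eq (ι := ι) (hF.hy i).1).symm.trans (τ_conj g (ue.std.hy i).1).symm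
  have h2 := ((hg i).2.τ_eq (ι := ι) (hF.hy i).2.1).symm.trans (τ_conj g (ue.std.hy i).2.1).symm
  exact ⟨h1, h2, by rw [tf, h1, h2, conj_mul, map_mul]; rfl⟩

theorem conj_fix {γ x : Γ} : ρ (γ * x * γ⁻¹) v = v ↔ ρ x (ρ γ⁻¹ v) = ρ γ⁻¹ v := by
  rw [ρ_mul, ρ_mul]
  exact ⟨fun h => by conv_rhs => rw [← h, ρ_inv_ρ], fun h => by rw [h, ρ_ρ_inv]⟩

variable (w : WT ι ρ)
include w

theorem nofix (h : IsDg a g) (e : ∑ j ∈ S, a j ≠ 0) (hv : v ∈ US ι ρ S) (h1 : ρ (ι g) v = v) : v = 0 :=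
  w.fix v fun b k hk => by
    have key : ∀ {b k}, IsDg b k → (∀ k', IsDg (b - a) k' → ρ (ι k') v = v) → ρ (ι k) v = v := fun {b k} hk h2 => by
      obtain ⟨k', hk'⟩ := w.ex (b - a) (by simp [hk.1, h.1])
      rw [dg_eq hk (dg_mul hk' h) (sub_add_cancel b a).symm, ρι_mul, h1, h2 k' hk']
    rcases (by decide : ∀ x y : ZMod 3, y ≠ 0 → x = 0 ∨ x - y = 0 ∨ x - y - y = 0) (∑ j ∈ S, b j) _ e with h2 | h2 | h2
    · exact hv b k hk h2
    · exact key hk fun k' hk' => hv _ _ hk' (by simpa using h2)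
    · exact key hk fun k' hk' => key hk' fun k'' hk'' => hv _ _ hk'' (by simpa using h2)

theorem Ee_kill (h : IsDg a g) (e : ∑ j ∈ S, a j ≠ 0) (hv : v ∈ US ι ρ S) : Ee ρ (ι g) v = 0 :=
  nofix w h e (add_mem (add_mem hv (pres h hv)) (pres h (pres h hv))) (by
    rw [Ee_apply, map_add, map_add, cube h]; abel)

theorem dc_filter {P : Finset (Finset (Fin 6))} (hv : Dc ι ρ P v) (h : IsDg a g) (h1 : ρ (ι g) v = v) :
    Dc ι ρ (P.filter fun S => ∑ j ∈ S, a j = 0) v := by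
  obtain ⟨f, hf, e⟩ := hv
  refine ⟨f, hf, ?_⟩
  rw [← Ee_fix h1, e, map_sum, Finset.sum_filter]
  exact Finset.sum_congr rfl fun S _ => by
    split_ifs with h2
    exacts [Ee_fix (hf S a g h h2), Ee_kill w h h2 (hf S)]

theorem card_dc {P : Finset (Finset (Fin 6))} (hP : ∀ S ∈ P, S.card = 3) {Q : V20 → Prop} (γ : Γ)
    (hQ : ∀ v, Q v → Dc ι ρ P (ρ γ v)) : Nat.card {v // Q v} ≤ 4 ^ P.card := by
  choose f hf e using hQ
  have h1 : Nat.card (∀ S : P, US ι ρ S.1) = 4 ^ P.card := by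
    rw [Nat.card_pi, Finset.prod_congr rfl fun S _ => w.card S.1 (hP _ S.2)]; simp
  rw [← h1]
  refine Nat.card_le_card_of_injective (fun v S => ⟨f v.1 v.2 S.1, hf _ _ _⟩) fun x y h => Subtype.ext ?_
  rw [← ρ_inv_ρ (ρ := ρ) γ x.1, ← ρ_inv_ρ (ρ := ρ) γ y.1, e _ x.2, e _ y.2]
  exact congrArg _ (Finset.sum_congr rfl fun S hS => congrArg Subtype.val (congrFun h ⟨S, hS⟩))

theorem ex_ne (hS : S.card = 3) : ∃ v ∈ US ι ρ S, v ≠ 0 := by
  have : Nontrivial (US ι ρ S) := Finite.one_lt_card_iff_nontrivial.1 (by rw [w.card S hS]; omega)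
  obtain ⟨v, hv⟩ := _root_.exists_ne (0 : US ι ρ S)
  exact ⟨v, v.2, fun e => hv (Subtype.ext e)⟩

theorem US_cases (hS : S.card = 3) (h : IsDg a g) (e : ∑ j ∈ S, a j ≠ 0) (hv : v ∈ US ι ρ S) (h0 : v ≠ 0) {x : V20}
    (hx : x ∈ US ι ρ S) : x = 0 ∨ x = v ∨ x = ρ (ι g) v ∨ x = ρ (ι g) (ρ (ι g) v) := by
  have n1 : ρ (ι g) v ≠ 0 := fun e => h0 (by rw [← cube (ρ := ρ) (ι := ι) h v, e, map_zero, map_zero])
  have n2 : ρ (ι g) (ρ (ι g) v) ≠ 0 := fun e => h0 (by rw [← cube (ρ := ρ) (ι := ι) h v, e, map_zero])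
  have n3 : v ≠ ρ (ι g) v := fun e' => h0 (nofix w h e hv e'.symm)
  have n4 : ρ (ι g) v ≠ ρ (ι g) (ρ (ι g) v) := fun e' => n1 (nofix w h e (pres h hv) e'.symm)
  have n5 : v ≠ ρ (ι g) (ρ (ι g) v) := fun e' => n3 (by rw [e', cube h]; exact e'.symm)
  have h1 : ({0, v, ρ (ι g) v, ρ (ι g) (ρ (ι g) v)} : Set V20) = US ι ρ S := Set.eq_of_subset_of_ncard_le (by
    rintro y (rfl | rfl | rfl | rfl)
    exacts [zero_mem _, hv, pres h hv, pres h (pres h hv)]) (by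
    rw [Set.ncard_eq_four.2 ⟨_, _, _, _, h0.symm, n1.symm, n2.symm, n3, n5, n4, rfl⟩]
    exact (w.card S hS).le)
  exact h1.ge hx

/-- An involution preserving a weight space and commuting with a diagonal element acts trivially. -/
theorem inv_fix (hS : S.card = 3) (h : IsDg a g) (e : ∑ j ∈ S, a j ≠ 0) {γ : Γ} (h2 : γ * γ = 1)
    (hc : γ * ι g = ι g * γ) (hv : v ∈ US ι ρ S) (hγ : ρ γ v ∈ US ι ρ S) : ρ γ v = v := by
  by_cases h0 : v = 0
  · rw [h0, map_zero]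
  have h3 : ρ γ (ρ γ v) = v := by rw [← ρ_mul, h2, ρ_one]
  have h4 : ∀ x, ρ γ (ρ (ι g) x) = ρ (ι g) (ρ γ x) := fun x => by rw [← ρ_mul, hc, ρ_mul]
  rcases US_cases w hS h e hv h0 hγ with h1 | h1 | h1 | h1
  · rw [h1, map_zero] at h3; exact absurd h3.symm h0
  · exact h1
  · rw [h1, h4, h1] at h3
    exact absurd (nofix w h e hv (by rw [← h3, cube h, h3])) h0
  · rw [h1, h4, h4, h1, cube h] at h3
    exact absurd (nofix w h e hv h3) h0

theorem fix1 {p p' : V6} (hp : Hy p p') (hv : ρ (τ ι p * τ ι p') v = v) : ρ (τ ι p) v = v := by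
  obtain ⟨r, r', hF, rfl, rfl⟩ := ue.fr1 p p' hp
  obtain ⟨γ, -, hγ⟩ := fr_conj (ι := ι) hF
  rw [(hγ 0).1, conj_fix]
  obtain ⟨f, hf, e⟩ := dc_filter w (w.span _) (dg_std 0) (conj_fix.1 (by rw [← (hγ 0).2.2]; exact hv))
  obtain ⟨g, hg⟩ := w.ex ![0, 0, 1, 2, 1, 2] (by decide)
  rw [e, map_sum, show sp 0 = sw 0 1 by decide +kernel]
  refine Finset.sum_congr rfl fun S hS => ?_
  obtain ⟨h1, h2, h3⟩ : S.card = 3 ∧ ∑ j ∈ S, (![0, 0, 1, 2, 1, 2] : Fin 6 → ZMod 3) j ≠ 0 ∧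
      S.map (Equiv.swap 0 1).toEmbedding = S := by revert S; decide +kernel
  exact inv_fix w h1 hg h2 (τ_sq _) (by
    rw [τ, ← map_mul, ← map_mul, sw_mul (by decide) hg hg (by decide +kernel)]) (hf S) (US_sw (by decide) (hf S) h3)

theorem mg : ∃ v, (∀ n ∈ ([.d1, .c1, .d2, .c2] : List Nd), ρ (τ ι (vc n)) v = v) ∧
    ρ (ϖ ι) (v + ρ (τ ι (vc .b3)) v) ≠ v + ρ (τ ι (vc .b3)) v := by
  have h1 : ∀ v ∈ US ι ρ {0, 2, 3}, ∀ n ∈ ([.d1, .c1, .d2, .c2] : List Nd), ρ (τ ι (vc n)) v = v := fun v hv => by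
    have key : ∀ i, ∑ j ∈ {0, 2, 3}, as i j = 0 → ρ (τ ι (sp i)) v = v ∧ ρ (τ ι (sp' i)) v = v := fun i hi => by
      have h2 : ρ (τ ι (sp i) * τ ι (sp' i)) v = v := by
        rw [τ, τ, ← map_mul]; exact hv _ _ (dg_std i) hi
      have h3 := fix1 w (ue.std.hy i) h2
      exact ⟨h3, by rw [ρ_mul, ← τ_inv] at h2; rw [← ρ_ρ_inv (ρ := ρ) (τ ι (sp i)) (ρ _ v), h2, h3]⟩
    simp only [List.forall_mem_cons]
    exact ⟨(key 1 (by decide)).1, (key 1 (by decide)).2, (key 2 (by decide)).1, (key 2 (by decide)).2, by simp⟩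
  obtain ⟨v, hv, h0⟩ := ex_ne w (S := {0, 2, 3}) rfl
  obtain ⟨s, hs⟩ := w.ex ![0, 0, 2, 2, 1, 1] (by decide)
  obtain ⟨s', hs'⟩ := w.ex ![0, 0, 2, 1, 1, 2] (by decide)
  obtain ⟨g, hg⟩ := w.ex ![1, 0, 2, 0, 0, 0] (by decide)
  rw [show vc .b3 = sw 0 1 by decide +kernel]
  have h2 := US_sw (show (0 : Fin 6) ≠ 1 by decide) hv (S' := {1, 2, 3}) (by decide +kernel)
  have h3 : ∀ x, ρ (τ ι (sw 0 1)) (ρ (ι s) x) = ρ (ι s) (ρ (τ ι (sw 0 1)) x) := fun x => by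
    rw [τ, ← ρι_mul, sw_mul (by decide) hs hs (by decide +kernel), ρι_mul]
  have h4 : ∀ x, ρ (ϖ ι) (ρ (ι s) x) = ρ (ι s) (ρ (ι s) (ρ (ϖ ι) x)) := fun x => by
    rw [ϖ, τ, τ, ← map_mul, ← ρι_mul, ← ρι_mul, ← ρι_mul, show dec 272 = sw 2 4 by decide +kernel,
      show dec 1088 = sw 3 5 by decide +kernel, mul_assoc, sw_mul (by decide) hs hs' (by decide +kernel), ← mul_assoc,
      sw_mul (by decide) hs' (dg_mul hs hs) (by decide +kernel), mul_assoc]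
  by_contra hn
  have k1 := not_not.1 fun e => hn ⟨v, h1 v hv, e⟩
  have k2 := not_not.1 fun e => hn ⟨_, h1 _ (pres hs hv), e⟩
  rw [h3, ← map_add, h4, k1] at k2
  have k3 := congrArg (fun x => ρ (ι s) (ρ (ι s) x)) k2
  simp only [cube hs] at k3
  have k4 := Ee_fix k3
  rw [map_add, Ee_kill w hs (by decide) hv, Ee_kill w hs (by decide) h2, add_zero] at k4
  rw [← eq_of_add_eq_zero_zmod2 k4.symm] at h2
  exact h0 (nofix w hg (by decide) h2 (hv _ _ hg (by decide)))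

end Ma

open Ma in
theorem ma {Γ : Type u} [Group Γ] {ι : SU6 →* Γ} {ρ : Γ →* Module.End (ZMod 2) V20} (_h : UA ι) (w : WT ι ρ) :
    MA ι ρ where
  fix1 _ _ _ hp hv := fix1 w hp hv
  cnt1 p p' hp := by
    obtain ⟨r, r', hF, rfl, rfl⟩ := ue.fr1 p p' hp
    obtain ⟨γ, -, hγ⟩ := fr_conj (ι := ι) hF
    exact (card_dc w (by decide +kernel) γ⁻¹ fun v hv =>
      dc_filter w (w.span _) (dg_std 0) (conj_fix.1 ((hγ 0).2.2 ▸ (hv : ρ (tf ι r r' 0) v = v)))).trans_eq (by decide +kernel)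
  cnt2 p p' hF := by
    obtain ⟨γ, -, hγ⟩ := fr_conj (ι := ι) hF
    exact (card_dc w (by decide +kernel) γ⁻¹ fun v hv => dc_filter w (dc_filter w (w.span _) (dg_std 0)
      (conj_fix.1 ((hγ 0).2.2 ▸ hv.1))) (dg_std 1) (conj_fix.1 ((hγ 1).2.2 ▸ hv.2))).trans_eq (by decide +kernel)
  fr0 p p' v hF hv := by
    obtain ⟨γ, -, hγ⟩ := fr_conj (ι := ι) hF
    have k := fun i => conj_fix.1 ((hγ i).2.2 ▸ hv i)
    obtain ⟨f, -, e⟩ := dc_filter w (dc_filter w (dc_filter w (w.span _) (dg_std 0) (k 0)) (dg_std 1) (k 1))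
      (dg_std 2) (k 2)
    rw [← ρ_ρ_inv (ρ := ρ) γ v, e, Finset.sum_eq_zero fun S hS => absurd hS (by revert S; decide +kernel), map_zero]
  mg := mg w

end CL.E6S
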