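/-
The sets of points commuting with a non-commuting 3-transposition (hyperovals of the unitary space of dimension six
over the field with four elements) and their classification.
-/
import Cfsg.Agent.Spor.RecChart

set_option autoImplicit false
open Cfsg

namespace CL.Rec
open CL.TT CL.Uni Module

variable {G : Type*} [Group G] {S P Y : Set G} {φ : V6 → G}

/-- every line through a point of `Y` has exactly one further point in `Y` -/
structure Mu (P Y : Set G) : Prop where
  sub : Y ⊆ P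
  cl : ∀ a ∈ Y, ∀ b ∈ Y, a * b * a ∈ Y
  ex : ∀ x ∈ Y, ∀ y ∈ Dd P x, ∃ y' ∈ Y, y' ≠ x ∧ Commute x y' ∧ ∀ z ∈ P, Commute x z → Commute y z → Commute y' z
  uniq : ∀ x ∈ Y, ∀ y ∈ Y, ∀ y' ∈ Y, y ≠ x → y' ≠ x → Commute x y → Commute x y' →
    (∀ z ∈ P, Commute x z → Commute y z → Commute y' z) → y = y'

/-- the members of `P` commuting with `h` -/
abbrev Xs (P : Set G) (h : G) : Set G := {y | y ∈ P ∧ Commute h y}

theorem iso_add {p u : V6} (hp : Iso p) (hu : Iso u) (e : B6 p u = 0) (hli : LinearIndependent K4 ![p, u]) (c : K4) :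
    Iso (u + c • p) := by
  refine ⟨fun h => ?_, by simp [hp.2, hu.2, e, herm6.flip_zero e]⟩
  have := (LinearIndependent.pair_iff.1 hli c 1 (by rw [one_smul, add_comm, h])).2
  simp at this

theorem mu_of (hS : TSet S) {i h : G} (hi : i ∈ S) (hh : h ∈ S) (hih : ¬ Commute h i)
    (hc : ∀ x ∈ S, Commute i x → Commute h x → ∃ ψ, UChart (Dd S x) ψ) : Mu (Dd S i) (Xs (Dd S i) h) := by
  have base : ∀ x ∈ Xs (Dd S i) h, ∃ ψ p q, UChart (Dd S x) ψ ∧ Iso p ∧ Iso q ∧ ψ p = i ∧ ψ q = h ∧ B6 q p ≠ 0 := by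
    intro x hx
    obtain ⟨ψ, hψ⟩ := hc x hx.1.1 hx.1.2.2 hx.2
    obtain ⟨p, hp, e1⟩ := hψ.surj i ⟨hi, hx.1.2.1.symm, hx.1.2.2.symm⟩
    obtain ⟨q, hq, e2⟩ := hψ.surj h ⟨hh, fun e => hih (e ▸ hx.1.2.2.symm), hx.2.symm⟩
    exact ⟨ψ, p, q, hψ, hp, hq, e1, e2, fun e => hih (e1 ▸ e2 ▸ (hψ.commute_iff (hS.dd x) hq hp).2 e)⟩
  refine ⟨fun y hy => hy.1, fun a ha b hb => ⟨(hS.dd i).cl a ha.1 b hb.1, commute_conj_of_commute ha.2 hb.2⟩,
    fun x hx y hy => ?_, fun x hx y hy y' hy' n1 n2 c1 c2 ht => ?_⟩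
  · obtain ⟨ψ, p, q, hψ, hp, hq, rfl, rfl, hqp⟩ := base x hx
    have ci := fun {a b} => hψ.commute_iff (hS.dd x) (w := a) (v := b)
    obtain ⟨u, hu, rfl⟩ := hψ.surj y ⟨hy.1.1, hy.2⟩
    have hpu := (ci hp hu).1 hy.1.2.2
    have hu' := iso_add hp hu hpu (hψ.li_pair hp hu hy.1.2.1) (-(B6 q u / B6 q p))
    have hm := hψ.mem _ hu'
    have hq' : Commute (ψ q) (ψ (u + -(B6 q u / B6 q p) • p)) := (ci hq hu').2 (by simp; field_simp; simp)
    refine ⟨_, ⟨⟨hm.1, fun e => hih (e ▸ hq'), (ci hp hu').2 (by simp [hpu, hp.2])⟩, hq'⟩, hm.2.1, hm.2.2,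
      fun z hz c1 c2 => ?_⟩
    by_cases hzx : z = x
    · exact hzx ▸ hm.2.2.symm
    · obtain ⟨w, hw, rfl⟩ := hψ.surj z ⟨hz.1, hzx, c1⟩
      exact (ci hu' hw).2 (by simp [(ci hu hw).1 c2, (ci hp hw).1 hz.2.2])
  · obtain ⟨ψ, p, q, hψ, hp, hq, rfl, rfl, hqp⟩ := base x hx
    have ci := fun {a b} => hψ.commute_iff (hS.dd x) (w := a) (v := b)
    obtain ⟨u, hu, rfl⟩ := hψ.surj y ⟨hy.1.1, n1, c1⟩
    obtain ⟨u', hu', rfl⟩ := hψ.surj y' ⟨hy'.1.1, n2, c2⟩
    obtain ⟨a, b, rfl⟩ := hψ.twin_line (hS.dd x) hp hu hu' hy.1.2.1 ((ci hp hu).1 hy.1.2.2)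
      ((ci hp hu').1 hy'.1.2.2) fun z hz d1 d2 => by
        by_cases hzi : z = ψ p
        · exact hzi ▸ hy'.1.2.2.symm
        · exact ht z ⟨hz.1, hzi, d1⟩ hz.2.2 d2
    have h1 := (ci hq hu').1 hy'.2
    simp only [map_add, map_smul, (ci hq hu).1 hy.2, smul_eq_mul, mul_zero, add_zero, mul_eq_zero, hqp,
      or_false] at h1
    subst h1
    rw [zero_smul, zero_add] at hu' ⊢
    exact (hψ.smul u b hu fun e => hu'.1 (by simp [e])).symm

theorem Mu.line_ex (hY : Mu P Y) (hP : TSet P) (h : UChart P φ) {x y : V6} (hx : Iso x) (hy : Iso y)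
    (hxY : φ x ∈ Y) (e : B6 x y = 0) (hne : φ y ≠ φ x) : ∃ c : K4, φ (y + c • x) ∈ Y := by
  obtain ⟨y', hy', n, c, ht⟩ := hY.ex _ hxY _ ⟨h.mem y hy, hne, (h.commute_iff hP hx hy).2 e⟩
  obtain ⟨u, hu, rfl⟩ := h.surj y' (hY.sub hy')
  obtain ⟨a, b, rfl⟩ := h.twin_line hP hx hy hu hne e ((h.commute_iff hP hx hu).1 c) ht
  have hb : b ≠ 0 := by
    rintro rfl
    rw [zero_smul, add_zero] at hu n
    exact n (h.smul x a hx fun e => hu.1 (by simp [e]))
  refine ⟨b⁻¹ * a, ?_⟩
  rw [← h.smul _ b (iso_add hx hy e (h.li_pair hx hy hne) _) hb, smul_add, smul_smul, mul_inv_cancel_left₀ hb,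
    add_comm]
  exact hy'

theorem Mu.line_uniq (hY : Mu P Y) (hP : TSet P) (h : UChart P φ) {x y : V6} (hx : Iso x) (hy : Iso y)
    (hxY : φ x ∈ Y) (hyY : φ y ∈ Y) (e : B6 x y = 0) (hne : φ y ≠ φ x) {c : K4} (hc : c ≠ 0) :
    φ (y + c • x) ∉ Y := by
  intro hm
  have hli := h.li_pair hx hy hne
  have hu := iso_add hx hy e hli c
  have := hY.uniq _ hxY _ hyY _ hm hne (fun e' => by
    obtain ⟨t, ht⟩ := h.inj _ _ hu hx e'
    have := (LinearIndependent.pair_iff.1 hli (c - t) 1 (by rw [one_smul, sub_smul, ← ht]; abel)).2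
    simp at this) ((h.commute_iff hP hx hy).2 e) ((h.commute_iff hP hx hu).2 (by simp [e, hx.2])) fun z hz c1 c2 => by
      obtain ⟨w, hw, rfl⟩ := h.surj z hz
      exact (h.commute_iff hP hu hw).2 (by simp [(h.commute_iff hP hx hw).1 c1, (h.commute_iff hP hy hw).1 c2])
  obtain ⟨t, ht⟩ := h.inj _ _ hu hy this.symm
  exact hc (LinearIndependent.pair_iff.1 hli c (1 - t) (by rw [sub_smul, one_smul, ← ht]; abel)).1

/-! ### changes of charts -/

/-- `φ'` is a conjugate of `φ` -/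
def CRel (P : Set G) (φ φ' : V6 → G) : Prop := ∃ g ∈ Subgroup.closure P, ∀ v, Iso v → φ' v = g * φ v * g⁻¹

theorem CRel.refl (P : Set G) (φ : V6 → G) : CRel P φ φ := ⟨1, one_mem _, by simp⟩

theorem CRel.trans {φ₁ φ₂ φ₃ : V6 → G} (h : CRel P φ₁ φ₂) (h' : CRel P φ₂ φ₃) : CRel P φ₁ φ₃ := by
  obtain ⟨g, hg, e⟩ := h
  obtain ⟨k, hk, e'⟩ := h'
  exact ⟨k * g, mul_mem hk hg, fun v hv => by rw [e' v hv, e v hv]; group⟩

theorem GChart.conjBy (h : UChart P φ) (hP : TSet P) {g : G} (hg : g ∈ Subgroup.closure P) :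
    UChart P fun v => g * φ v * g⁻¹ := by
  refine ⟨fun v hv => hP.conj hg (h.mem v hv), fun y hy => ?_, fun w v hw hv => by rw [h.conj w v hw hv]; group,
    fun v c hv hc => by rw [h.smul v c hv hc], fun v w hv hw e => h.inj v w hv hw (conj_injective g e)⟩
  obtain ⟨v, hv, e⟩ := h.surj _ (hP.conj (inv_mem hg) hy)
  exact ⟨v, hv, by rw [e]; group⟩

/-- product of transvections -/
def tvW (w : List ℕ) (v : V6) : V6 := w.foldr (fun a v => tv B6 (dec a) v) v

/-- product of transvections on codes -/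
def ctvW (w : List ℕ) (n : ℕ) : ℕ := w.foldr ctv n

theorem dec_ctvW : ∀ (w : List ℕ) (n : ℕ), dec (ctvW w n) = tvW w (dec n)
  | [], _ => rfl
  | a :: w, n => by
    show dec (ctv a (ctvW w n)) = tv B6 (dec a) (tvW w (dec n))
    rw [dec_ctv, dec_ctvW w n]

theorem GChart.tvW (h : UChart P φ) (hP : TSet P) : ∀ (w : List ℕ), w.all cIso = true →
    (∀ v, Iso v → Iso (tvW w v)) ∧ ∃ g ∈ Subgroup.closure P, ∀ v, Iso v → φ (tvW w v) = g * φ v * g⁻¹
  | [], _ => ⟨fun _ hv => hv, 1, one_mem _, fun v _ => by simp [CL.Rec.tvW]⟩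
  | a :: w, hw => by
    rw [List.all_cons, Bool.and_eq_true] at hw
    obtain ⟨h1, g, hg, h2⟩ := GChart.tvW h hP w hw.2
    have ha := iso_dec hw.1
    refine ⟨fun v hv => (h1 v hv).tv ha.2, φ (dec a) * g, mul_mem (Subgroup.subset_closure (h.mem _ ha)) hg,
      fun v hv => ?_⟩
    show φ (tv B6 (dec a) (CL.Rec.tvW w v)) = _
    rw [h.conj _ _ ha (h1 v hv), h2 v hv, mul_inv_rev, hP.inv (h.mem _ ha)]; group

/-- the diagonal map `diag(ω,ω,1,1,1,1)` -/
def dg : V6 ≃+ V6 where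
  toFun v j := if j.1 < 2 then K4.w * v j else v j
  invFun v j := if j.1 < 2 then K4.v * v j else v j
  left_inv v := by
    funext j; dsimp only; split_ifs
    · rw [← mul_assoc]; exact one_mul _
    · rfl
  right_inv v := by
    funext j; dsimp only; split_ifs
    · rw [← mul_assoc]; exact one_mul _
    · rfl
  map_add' u v := by funext j; simp only [Pi.add_apply]; split_ifs; exacts [mul_add _ _ _, rfl]

theorem dg_apply (v : V6) (j : Fin 6) : dg v j = if j.1 < 2 then K4.w * v j else v j := rfl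

theorem GChart.dg (h : UChart P φ) : UChart P fun v => φ (dg v) := by
  refine h.comp (RingEquiv.refl _) CL.Rec.dg (fun c v => ?_) fun u v => ?_
  · funext j; simp only [dg_apply, Pi.smul_apply, smul_eq_mul, RingEquiv.refl_apply]; split_ifs
    exacts [mul_left_comm _ _ _, rfl]
  · have k : ∀ a b : K4, K4.bar (K4.w * a) * (K4.w * b) = K4.bar a * b := by decide
    simp only [stdB_apply, RingEquiv.refl_apply, dg_apply]
    refine Finset.sum_congr rfl fun j _ => ?_
    split_ifs; exacts [k _ _, rfl]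

/-- the diagonal map on codes -/
def cdg (n : ℕ) : ℕ := Nat.xor (Nat.land (mulw n) 15) (Nat.land n 4080)

theorem dec_cdg (n : ℕ) : dec (cdg n) = dg (dec n) := by
  have e : cdg n = (mulw n &&& 15) ^^^ (n &&& 4080) := rfl
  funext j
  have := congrFun (dec_mulw n) j
  rw [Pi.smul_apply, smul_eq_mul] at this
  rw [dg_apply, ← this, e]
  simp only [dec, Nat.testBit_xor, Nat.testBit_and]
  fin_cases j <;> simp <;> congr 1 <;> simp [Nat.testBit]

/-- the coordinatewise conjugation -/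
def fr : V6 ≃+ V6 := AddEquiv.piCongrRight fun _ => K4.isBar.equiv.toAddEquiv

theorem fr_apply (v : V6) (j : Fin 6) : fr v j = K4.bar (v j) := rfl

theorem GChart.fr (h : UChart P φ) : UChart P fun v => φ (fr v) := by
  refine h.comp K4.isBar.equiv CL.Rec.fr (fun c v => ?_) fun u v => ?_
  · funext j; simp [fr_apply, IsBar.equiv_apply]
  · simp [stdB_apply, fr_apply, IsBar.equiv_apply, map_sum]

/-- the conjugation on codes -/
def cfr (n : ℕ) : ℕ := Nat.xor n (Nat.land (Nat.shiftRight n 1) 1365)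

theorem dec_cfr (n : ℕ) : dec (cfr n) = fr (dec n) := by
  have e : cfr n = n ^^^ ((n >>> 1) &&& 1365) := rfl
  have k : ∀ a b, kb (a ^^ b) b = K4.bar (kb a b) := by decide
  funext j
  rw [fr_apply, e, dec, dec, ← k]
  simp only [Nat.testBit_xor, Nat.testBit_and, Nat.testBit_shiftRight]
  fin_cases j <;> simp <;> congr 1 <;> simp [Nat.testBit]

/-! ### computations with codes -/

/-- the point with code `n` lies in `Y` -/
def In (φ : V6 → G) (Y : Set G) (n : ℕ) : Prop := Iso (dec n) ∧ φ (dec n) ∈ Y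

theorem In.ctv (h : UChart P φ) (hc : ∀ a ∈ Y, ∀ b ∈ Y, a * b * a ∈ Y) {a b : ℕ} (ha : In φ Y a) (hb : In φ Y b) :
    In φ Y (ctv a b) := by
  unfold In
  rw [dec_ctv, h.conj _ _ ha.1 hb.1]
  exact ⟨hb.1.tv ha.1.2, hc _ ha.2 _ hb.2⟩

theorem In.mulw (h : UChart P φ) {a : ℕ} (ha : In φ Y a) : In φ Y (mulw a) := by
  unfold In
  rw [dec_mulw, h.smul _ _ ha.1 (by decide)]
  exact ⟨ha.1.smul (by decide), ha.2⟩

theorem GChart.ne_code (h : UChart P φ) {x y : ℕ} (z : ℕ) (hx : Iso (dec x)) (hy : Iso (dec y)) (h1 : cB z x = 0)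
    (h2 : cB z y ≠ 0) : φ (dec y) ≠ φ (dec x) := h.ne_of_sep hx hy (cB_eq_zero.1 h1) fun e => h2 (cB_eq_zero.2 e)

theorem Mu.viol (hY : Mu P Y) (hP : TSet P) (h : UChart P φ) {x y : ℕ} (z c n : ℕ) (hx : In φ Y x) (hy : In φ Y y)
    (hc : (Nat.beq (cB x y) 0 && Nat.beq (cB z x) 0 && !Nat.beq (cB z y) 0 && Nat.blt c 4 && !Nat.beq c 0 &&
      Nat.beq n (Nat.xor y (csm c x))) = true) : ¬ In φ Y n := by
  simp only [Bool.and_eq_true, Nat.beq_eq, Nat.blt_eq, Bool.not_eq_true'] at hc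
  obtain ⟨⟨⟨⟨⟨h1, h2⟩, h3⟩, h4⟩, h5⟩, rfl⟩ := hc
  rintro ⟨-, hn⟩
  rw [show Nat.xor y (csm c x) = y ^^^ csm c x from rfl, dec_xor, dec_csm h4] at hn
  exact hY.line_uniq hP h hx.1 hy.1 hx.2 hy.2 (cB_eq_zero.1 h1)
    (h.ne_code z hx.1 hy.1 h2 (Nat.ne_of_beq_eq_false h3))
    (fun e => Nat.ne_of_beq_eq_false h5 ((kd_eq_zero h4).1 e)) hn

theorem Mu.branch (hY : Mu P Y) (hP : TSet P) (h : UChart P φ) {x : ℕ} (y z : ℕ) (hx : In φ Y x)
    (hc : (cIso y && Nat.beq (cB x y) 0 && Nat.beq (cB z x) 0 && !Nat.beq (cB z y) 0) = true) :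
    In φ Y y ∨ In φ Y (y ^^^ x) ∨ In φ Y (y ^^^ CL.Rec.mulw x) ∨ In φ Y (y ^^^ CL.Rec.mulw (CL.Rec.mulw x)) := by
  simp only [Bool.and_eq_true, Nat.beq_eq, Bool.not_eq_true'] at hc
  obtain ⟨⟨⟨h0, h1⟩, h2⟩, h3⟩ := hc
  have hy := iso_dec h0
  have hne := h.ne_code z hx.1 hy h2 (Nat.ne_of_beq_eq_false h3)
  obtain ⟨c, hc⟩ := hY.line_ex hP h hx.1 hy hx.2 (cB_eq_zero.1 h1) hne
  have hi := iso_add hx.1 hy (cB_eq_zero.1 h1) (h.li_pair hx.1 hy hne) c
  have : In φ Y y ∨ In φ Y (y ^^^ csm 1 x) ∨ In φ Y (y ^^^ csm 2 x) ∨ In φ Y (y ^^^ csm 3 x) := by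
    simp only [In, dec_xor, dec_csm (c := 1) (by norm_num), dec_csm (c := 2) (by norm_num),
      dec_csm (c := 3) (by norm_num)]
    cases c
    · left; rw [show K4.o = 0 from rfl, zero_smul, add_zero] at hc; exact ⟨hy, hc⟩
    · right; left; exact ⟨hi, hc⟩
    · right; right; left; exact ⟨hi, hc⟩
    · right; right; right; exact ⟨hi, hc⟩
  exact this

/-- add a point to a mask -/
def add3 (m n : ℕ) : ℕ := m ||| 2 ^ n ||| 2 ^ mulw n ||| 2 ^ mulw (mulw n)

/-- close a mask under a list of transvections -/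
def growM : List (ℕ × ℕ) → ℕ → ℕ
  | [], m => m
  | (a, b) :: l, m => cond (m.testBit a && m.testBit b) (growM l (add3 m (ctv a b))) 0

theorem add3_sound (h : UChart P φ) {m a : ℕ} (hm : ∀ n, m.testBit n = true → In φ Y n) (ha : In φ Y a) :
    ∀ n, (add3 m a).testBit n = true → In φ Y n := by
  intro n hn
  simp only [add3, Nat.testBit_or, Bool.or_eq_true, Nat.testBit_two_pow, decide_eq_true_eq] at hn
  rcases hn with ((hn | rfl) | rfl) | rfl
  exacts [hm n hn, ha, ha.mulw h, (ha.mulw h).mulw h]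

theorem growM_sound (h : UChart P φ) (hc : ∀ a ∈ Y, ∀ b ∈ Y, a * b * a ∈ Y) : ∀ (l : List (ℕ × ℕ)) (m : ℕ),
    (∀ n, m.testBit n = true → In φ Y n) → ∀ n, (growM l m).testBit n = true → In φ Y n
  | [], _, hm => hm
  | (a, b) :: l, m, hm => by
    unfold growM
    cases e : (m.testBit a && m.testBit b)
    · simp
    · rw [Bool.and_eq_true] at e
      exact growM_sound h hc l _ (add3_sound h hm ((hm a e.1).ctv h hc (hm b e.2)))

/-- the codes of the standard hyperoval: vectors of weight two and vectors of weight six with product one -/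
def M0 : ℕ := 0x824024804820000024804820824000004820824024800000000000000000000124804820824000004820824024800000824024804820000000000000000000014820824024800000824024804820000024804820824000000000000000000001000000000000000100000000000000010000000000000001000100010001111e248048208240000048208240248000008240248048200000000000000000000148208240248000008240248048200000248048208240000000000000000000018240248048200000248048208240000048208240248000000000000000000001000000000000000100000000000000010000000000000001000100010001111e482082402480000082402480482000002480482082400000000000000000000182402480482000002480482082400000482082402480000000000000000000012480482082400000482082402480000082402480482000000000000000000001000000000000000100000000000000010000000000000001000100010001111e000000000000000100000000000000010000000000000001000100010001111e000000000000000100000000000000010000000000000001000100010001111e000000000000000100000000000000010000000000000001000100010001111e000100010001111e000100010001111e000100010001111e111e111e111eeee0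

/-- transvections generating the standard hyperoval -/
def insX0 : List (ℕ × ℕ) := [(9, 5), (320, 80), (144, 80), (1280, 320), (144, 320), (1365, 144), (9, 1365), (1365, 11), (1280, 272), (144, 272), (320, 176), (1365, 176), (144, 1088), (80, 304), (1365, 304), (9, 3951), (144, 1374), (144, 1040), (1365, 384), (1280, 560), (1365, 560), (9, 1509), (80, 1072), (1365, 1072), (1365, 448), (9, 2970), (80, 1470), (320, 1470), (320, 1152), (1365, 1152), (9, 3711), (1365, 2096), (144, 1893), (9, 1893), (320, 1216), (1365, 1216), (9, 3738), (144, 2922), (9, 2922), (320, 1518), (80, 1662), (1280, 1662), (1365, 1536), (9, 2943), (5, 3702), (144, 3429), (9, 3429), (9, 2037), (1365, 1792), (144, 3690), (9, 3690), (9, 3066), (1280, 1902), (144, 1902), (1280, 1758), (144, 1758), (144, 2559), (9, 2559), (5, 2934), (320, 3573), (9, 3573), (1365, 2043), (144, 3498), (9, 3498), (320, 3834), (9, 3834), (1365, 3069), (144, 3438), (1365, 2046), (320, 2526), (144, 2526),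 (1365, 1710), (80, 2415), (9, 2415), (5, 2550), (80, 3957), (9, 3957), (1365, 3579), (80, 3546), (320, 3546), (9, 3546), (80, 4026), (9, 4026), (1365, 3837), (320, 3582), (1365, 3582), (9, 2049), (144, 2910), (320, 2478), (1365, 2478), (9, 3076), (320, 2463), (9, 2463), (5, 2406), (1365, 2406), (9, 4053), (1365, 3963), (9, 3450), (9, 3930), (1365, 3549), (9, 4074), (1365, 4029), (80, 3966), (1365, 3966), (9, 513), (320, 3006), (80, 2670), (1365, 2670), (9, 772), (9, 2655), (1365, 4059), (144, 132), (1365, 3933), (1365, 4077), (144, 66), (144, 129), (9, 129), (1365, 2718), (9, 196)]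

/-- `Y` contains the standard hyperoval -/
def Std (φ : V6 → G) (Y : Set G) : Prop := ∀ n, M0.testBit n = true → In φ Y n

theorem growM_X0 : growM insX0 (add3 (add3 (add3 (add3 (add3 (add3 (add3 0 5) 80) 320) 1280) 144) 1365) 9) = M0 := by
  decide +kernel

theorem std_of_gens (h : UChart P φ) (hc : ∀ a ∈ Y, ∀ b ∈ Y, a * b * a ∈ Y)
    (hg : ∀ n ∈ [5, 80, 320, 1280, 144, 1365, 9], In φ Y n) : Std φ Y := by
  have h0 : ∀ n, (0 : ℕ).testBit n = true → In φ Y n := by simp
  have h1 := add3_sound h (add3_sound h (add3_sound h (add3_sound h (add3_sound h (add3_sound h (add3_sound h h0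
    (hg 5 (by simp))) (hg 80 (by simp))) (hg 320 (by simp))) (hg 1280 (by simp))) (hg 144 (by simp)))
    (hg 1365 (by simp))) (hg 9 (by simp))
  have h2 := growM_sound h hc insX0 _ h1
  rw [growM_X0] at h2
  exact h2

theorem Mu.step (hY : Mu P Y) (hP : TSet P) (h : UChart P φ) (L : List ℕ) (x y z : ℕ) (w1 w2 w3 : List ℕ)
    (hL : ∀ n ∈ L, In φ Y n) (hx : x ∈ L)
    (hc : (cIso y && Nat.beq (cB x y) 0 && Nat.beq (cB z x) 0 && !Nat.beq (cB z y) 0) = true)
    (hw : ([w1, w2, w3].all fun w => w.all cIso && L.all fun n => Nat.beq (ctvW w n) n) = true)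
    (e1 : ctvW w1 y = y ^^^ x) (e2 : ctvW w2 y = y ^^^ CL.Rec.mulw x)
    (e3 : ctvW w3 y = y ^^^ CL.Rec.mulw (CL.Rec.mulw x)) :
    ∃ ψ, CRel P φ ψ ∧ UChart P ψ ∧ ∀ n ∈ y :: L, In ψ Y n := by
  have hy : Iso (dec y) := by
    simp only [Bool.and_eq_true] at hc; exact iso_dec hc.1.1.1
  have key : ∀ w ∈ [w1, w2, w3], In φ Y (ctvW w y) → ∃ ψ, CRel P φ ψ ∧ UChart P ψ ∧ ∀ n ∈ y :: L, In ψ Y n := by
    intro w hw' hin
    have := List.all_eq_true.1 hw w hw'
    rw [Bool.and_eq_true, List.all_eq_true (l := L)] at this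
    obtain ⟨-, g, hg, e⟩ := h.tvW hP w this.1
    refine ⟨_, ⟨g, hg, fun _ _ => rfl⟩, h.conjBy hP hg, fun n hn => ?_⟩
    rcases List.mem_cons.1 hn with rfl | hn
    · exact ⟨hy, by show g * _ * g⁻¹ ∈ Y; rw [← e _ hy, ← dec_ctvW]; exact hin.2⟩
    · refine ⟨(hL n hn).1, ?_⟩
      show g * _ * g⁻¹ ∈ Y
      rw [← e _ (hL n hn).1, ← dec_ctvW, Nat.eq_of_beq_eq_true (this.2 n hn)]; exact (hL n hn).2
  rcases hY.branch hP h y z (hL x hx) hc with h0 | h0 | h0 | h0
  · exact ⟨φ, CRel.refl _ _, h, fun n hn => (List.mem_cons.1 hn).elim (fun e => e ▸ h0) (hL n)⟩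
  · exact key w1 (by simp) (e1 ▸ h0)
  · exact key w2 (by simp) (e2 ▸ h0)
  · exact key w3 (by simp) (e3 ▸ h0)

theorem Mu.std_of_six (hY : Mu P Y) (hP : TSet P) (h : UChart P φ)
    (hg : ∀ n ∈ [5, 80, 320, 1280, 144, 1365], In φ Y n) : Std φ Y := by
  have h80 := hg 80 (by simp)
  have h320 := hg 320 (by simp)
  have h144 := hg 144 (by simp)
  have t := fun {a b} => In.ctv h hY.cl (a := a) (b := b)
  refine std_of_gens h hY.cl fun n hn => ?_
  have h9 : In φ Y 9 := by
    rcases hY.branch hP h 9 1 h80 (by decide +kernel) with h0 | h0 | h0 | h0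
    · exact h0
    · exact (hY.viol hP h 1 2 _ h80 h0 (by decide +kernel)
        ((t h320 (t h144 (t h0 (t h320 (t h144 h80))))).mulw h)).elim
    · exact (hY.viol hP h 1 1 _ h80 h0 (by decide +kernel) (t h144 (t h320 (t h0 (t h144 (t h320 h80)))))).elim
    · exact (hY.viol hP h 1 1 _ h80 h0 (by decide +kernel) (t h320 (t h144 (t h0 (t h320 (t h144 h80)))))).elim
  simp only [List.mem_cons, List.not_mem_nil, or_false] at hn
  rcases hn with rfl | rfl | rfl | rfl | rfl | rfl | rfl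
  exacts [hg _ (by simp), h80, h320, hg _ (by simp), h144, hg _ (by simp), h9]

omit [Group G] in
theorem In.dg {n : ℕ} (hn : In φ Y (cdg n)) : In (fun v => φ (dg v)) Y n := by
  unfold In at hn ⊢
  rw [dec_cdg] at hn
  refine ⟨⟨fun e => hn.1.1 (by rw [e, map_zero]), ?_⟩, hn.2⟩
  have k : ∀ a b : K4, K4.bar (K4.w * a) * (K4.w * b) = K4.bar a * b := by decide
  rw [← hn.1.2]
  simp only [stdB_apply, dg_apply]
  refine Finset.sum_congr rfl fun j _ => ?_
  split_ifs; exacts [(k _ _).symm, rfl]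

omit [Group G] in
theorem In.fr {n : ℕ} (hn : In φ Y (cfr n)) : In (fun v => φ (fr v)) Y n := by
  unfold In at hn ⊢
  rw [dec_cfr] at hn
  refine ⟨⟨fun e => hn.1.1 (by rw [e, map_zero]), ?_⟩, hn.2⟩
  apply K4.isBar.bijective.1
  rw [map_zero, ← hn.1.2]
  simp [stdB_apply, fr_apply, map_sum]

/-- classification of the hyperovals -/
theorem Mu.classify (hY : Mu P Y) (hP : TSet P) (h : UChart P φ) (hne : Y.Nonempty) :
    ∃ ψ, CRel P φ ψ ∧ UChart P ψ ∧ (Std ψ Y ∨ Std (fun v => ψ (dg v)) Y ∨ Std (fun v => ψ (dg (dg v))) Y) := by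
  obtain ⟨y, hy⟩ := hne
  have i5 : Iso (dec 5) := iso_dec (by decide +kernel)
  obtain ⟨g, hg, e⟩ := hP.exists_conj (h.ncommConn hP) (h.mem _ i5) (hY.sub hy)
  have r0 : CRel P φ fun v => g * φ v * g⁻¹ := ⟨g, hg, fun _ _ => rfl⟩
  obtain ⟨φ1, r1, h1, m1⟩ := hY.step hP (h.conjBy hP hg) [5] 5 80 16 [320, 325] [320, 330] [320, 335]
    (fun n hn => by rw [List.mem_singleton.1 hn]; exact ⟨i5, by show g * _ * g⁻¹ ∈ Y; rw [e]; exact hy⟩) (by simp) (by decide +kernel)
    (by decide +kernel) (by decide +kernel) (by decide +kernel) (by decide +kernel)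
  obtain ⟨φ2, r2, h2, m2⟩ := hY.step hP h1 _ 5 320 64 [80, 85] [80, 90] [80, 95] m1 (by simp) (by decide +kernel)
    (by decide +kernel) (by decide +kernel) (by decide +kernel) (by decide +kernel)
  obtain ⟨φ3, r3, h3, m3⟩ := hY.step hP h2 _ 5 1280 256 [2384, 2399] [2384, 2389] [2384, 2394] m2 (by simp)
    (by decide +kernel) (by decide +kernel) (by decide +kernel) (by decide +kernel) (by decide +kernel)
  obtain ⟨φ4, r4, h4, m4⟩ := hY.step hP h3 _ 5 144 16 [1360, 1370] [1360, 1375] [1360, 1365] m3 (by simp)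
    (by decide +kernel) (by decide +kernel) (by decide +kernel) (by decide +kernel) (by decide +kernel)
  refine ⟨φ4, r0.trans (r1.trans (r2.trans (r3.trans r4))), h4, ?_⟩
  have a5 := m4 5 (by simp)
  have a80 := m4 80 (by simp)
  have a320 := m4 320 (by simp)
  have a1280 := m4 1280 (by simp)
  have a144 := m4 144 (by simp)
  rcases hY.branch hP h4 1360 16 a5 (by decide +kernel) with h0 | h0 | h0 | h0
  · exact (hY.viol hP h4 256 1 _ a80 a1280 (by decide +kernel) h0).elim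
  · refine Or.inl (hY.std_of_six hP h4 fun n hn => ?_)
    simp only [List.mem_cons, List.not_mem_nil, or_false] at hn
    rcases hn with rfl | rfl | rfl | rfl | rfl | rfl <;> assumption
  · refine Or.inr (Or.inl (hY.std_of_six hP h4.dg fun n hn => In.dg ?_))
    simp only [List.mem_cons, List.not_mem_nil, or_false] at hn
    rcases hn with rfl | rfl | rfl | rfl | rfl | rfl
    exacts [a5.mulw h4, a80, a320, a1280, a144, h0]
  · refine Or.inr (Or.inr (hY.std_of_six hP h4.dg.dg fun n hn => In.dg (In.dg ?_)))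
    simp only [List.mem_cons, List.not_mem_nil, or_false] at hn
    rcases hn with rfl | rfl | rfl | rfl | rfl | rfl
    exacts [(a5.mulw h4).mulw h4, a80, a320, a1280, a144, h0]

end CL.Rec
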