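/-
Centralisers `2^{1+20}.U₆(2)` (job E6S-U6): outer involutions of `U₆(2).2`.
-/
import Cfsg.Agent.Spor.E6SC
import Cfsg.Agent.Spor.E6SUe
import Cfsg.Agent.Spor.RecMu

set_option autoImplicit false

namespace CL.E6S

open Subgroup CL.Even CL.Grp CL.Uni CL.Rec CL.IN Cfsg Module
open scoped commutatorElement

universe u

theorem u6_word : ∀ l : List ℕ, l.all cIso = true → ∀ v, (l.map fun n => ta (dec n)).prod.1 v = tvW l v
  | [], _, _ => rfl
  | a :: l, h, v => by
    rw [List.all_cons, Bool.and_eq_true] at h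
    show (ta (dec a)).1 ((l.map fun n => ta (dec n)).prod.1 v) = tv B6 (dec a) (tvW l v)
    rw [u6_word l h.2, tau_apply herm6 (iso_dec h.1).2]

/-- equality test for products of transvections -/
theorem u6_word_eq {l l' : List ℕ} (h : (l.all cIso && l'.all cIso &&
    (List.finRange 6).all fun j => Nat.beq (ctvW l (4 ^ j.1)) (ctvW l' (4 ^ j.1))) = true) :
    (l.map fun n => ta (dec n)).prod = (l'.map fun n => ta (dec n)).prod := by
  simp only [Bool.and_eq_true, List.all_eq_true (l := List.finRange 6), Nat.beq_eq] at h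
  refine Subtype.ext (LinearEquiv.toLinearMap_injective ((Pi.basisFun K4 (Fin 6)).ext fun j => ?_))
  have e : Pi.basisFun K4 (Fin 6) j = dec (4 ^ j.1) := by rw [Pi.basisFun_apply]; revert j; decide
  rw [LinearEquiv.coe_coe, LinearEquiv.coe_coe, u6_word l h.1.1, u6_word l' h.1.2, e, ← dec_ctvW, ← dec_ctvW,
    h.2 j (List.mem_finRange j)]

variable {Γ : Type u} [Group Γ] {ι : SU6 →* Γ} {γ : Γ} {f : V6 → V6} (R : Rp ι γ K4.bar f)
include R

theorem u6_sq (h : UA ι) (h2 : γ * γ = 1) (v : V6) : f (f v) = v := by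
  obtain ⟨c, hc⟩ := herm6.eq_smul_of_fix_isotropic (by rw [finrank6]; omega)
    (g := ⟨⟨fun x => f (f x), fun x y => by rw [R.add, R.add]⟩, fun c x => by
      simp only [R.smul, herm6.bar_bar, RingHom.id_apply]⟩) fun v hv => by
    by_cases h0 : v = 0
    · exact ⟨0, by simp [h0, R.zero]⟩
    · obtain ⟨c, -, e⟩ := h.τ_inj (R.iso_map (R.iso_map ⟨h0, hv⟩)) ⟨h0, hv⟩ (by
        rw [← R.act _ (R.iso_map ⟨h0, hv⟩), ← R.act _ ⟨h0, hv⟩,
          show γ * (γ * τ ι v * γ⁻¹) * γ⁻¹ = γ * γ * τ ι v * (γ * γ)⁻¹ by group, h2]; group)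
      exact ⟨c, e⟩
  replace hc : ∀ v, f (f v) = c • v := hc
  have h1 : (1 : V6) ≠ 0 := by decide
  have h3 : f 1 ≠ 0 := fun e => h1 (R.injective (e.trans R.zero.symm))
  have h4 : K4.bar c = c := smul_left_injective K4 h3 (by
    show K4.bar c • f 1 = c • f 1
    rw [← R.smul, ← hc, hc])
  have h5 : c ≠ 0 := fun e => h3 (R.injective (by rw [hc, e, zero_smul, R.zero]))
  rw [hc, eq_one_of_fixed K4.isBar h5 h4, one_smul]

theorem u6_real {x y : V6} (hx : f x = x) (hy : f y = y) : (B6 x y = 0 ∨ B6 x y = 1) ∧ B6 y x = B6 x y := by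
  have := R.iso x y
  rw [hx, hy] at this
  exact ⟨(by decide : ∀ a : K4, a = K4.bar a → a = 0 ∨ a = 1) _ this, (herm6.symm x y).symm.trans this.symm⟩

/-- a real pair with product one in the complement of a non-degenerate real family -/
theorem u6_part (h2 : ∀ v, f (f v) = v) {n : ℕ} (hn : n < 6) (y : Fin n → V6) (σ : Fin n → Fin n)
    (hy : ∀ i, f (y i) = y i) (hd : ∀ i j, B6 (y i) (y (σ j)) = if i = j then 1 else 0) :
    ∃ p p', f p = p ∧ f p' = p' ∧ B6 p p' = 1 ∧ ∀ i, B6 (y i) p = 0 ∧ B6 (y i) p' = 0 := by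
  have h1 : ∀ x, (∀ i, B6 (y i) x = 0) → f (x + f x) = x + f x ∧ ∀ i, B6 (y i) (x + f x) = 0 := fun x hx =>
    ⟨by rw [R.add, h2, add_comm], fun i => by rw [map_add, hx, zero_add, ← hy i, R.B_zero, hx]⟩
  obtain ⟨p, p0, hp, hp'⟩ : ∃ p, p ≠ 0 ∧ f p = p ∧ ∀ i, B6 (y i) p = 0 := by
    have h3 := herm6.finrank_add_finrank_perp (Submodule.span K4 (Set.range y))
    have h4 := finrank_range_le_card (R := K4) y
    rw [Set.finrank, Fintype.card_fin] at h4
    obtain ⟨x, hx, x0⟩ := Submodule.exists_mem_ne_zero_of_ne_bot (p := perp B6 (Submodule.span K4 (Set.range y)))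
      fun e => by rw [e, finrank_bot, finrank6] at h3; omega
    have h5 : ∀ i, B6 (y i) x = 0 := fun i => mem_perp_span.1 hx _ ⟨i, rfl⟩
    by_cases e : x + f x = 0
    · exact ⟨x, x0, by rw [← add_zero (f x), ← vadd_self K4.isBar x, ← add_assoc, add_comm (f x), e, zero_add], h5⟩
    · exact ⟨_, e, h1 x h5⟩
  obtain ⟨z, hz⟩ := herm6.exists_eq_one p0
  obtain ⟨h3, h4⟩ := h1 (K4.w • (z - ∑ j, B6 (y j) z • y (σ j))) fun i => by simp [hd]
  refine ⟨p, _, hp, h3, ?_, fun i => ⟨hp' i, h4 i⟩⟩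
  have h5 : B6 p (K4.w • (z - ∑ j, B6 (y j) z • y (σ j))) = K4.w := by simp [hz, fun i => herm6.flip_zero (hp' i)]
  have h6 := R.iso p (K4.w • (z - ∑ j, B6 (y j) z • y (σ j)))
  rw [hp] at h6
  rw [map_add, h6, h5]; rfl

theorem u6_on (h2 : ∀ v, f (f v) = v) {x : V6} (hx : f x = x) (h1 : B6 x x = 1) (n : ℕ) (hn : n ≤ 5) :
    ∃ b : Fin (n + 1) → V6, (∀ i, f (b i) = b i) ∧ ∀ i j, B6 (b i) (b j) = if i = j then 1 else 0 := by
  induction n with
  | zero => exact ⟨![x], by simpa, by simpa⟩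
  | succ n ih =>
    obtain ⟨b, h3, h4⟩ := ih (by omega)
    have key : ∀ (p : V6) (c : Fin (n + 1) → V6), f p = p → B6 p p = 1 → (∀ i, f (c i) = c i) →
        (∀ i j, B6 (c i) (c j) = if i = j then 1 else 0) → (∀ i, B6 (c i) p = 0) →
        ∃ b : Fin (n + 2) → V6, (∀ i, f (b i) = b i) ∧ ∀ i j, B6 (b i) (b j) = if i = j then 1 else 0 :=
      fun p c a1 a2 a3 a4 a5 => ⟨Fin.cons p c, Fin.forall_fin_succ.2 ⟨a1, a3⟩, fun i j => by
        refine Fin.cases ?_ (fun i => ?_) i <;> refine Fin.cases ?_ (fun j => ?_) j <;>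
          simp [a2, a4, a5, fun i => herm6.flip_zero (a5 i), Fin.succ_ne_zero, (Fin.succ_ne_zero _).symm]⟩
    obtain ⟨p, p', hp, hp', e, h5⟩ := u6_part R h2 (by omega) b id h3 h4
    rcases (u6_real R hp hp).1 with e1 | e1
    swap
    · exact key p b hp e1 h3 h4 fun i => (h5 i).1
    rcases (u6_real R hp' hp').1 with e2 | e2
    swap
    · exact key p' b hp' e2 h3 h4 fun i => (h5 i).2
    have o : (1 : K4) + 1 = 0 := rfl
    refine key (p + b 0) (Fin.cons (p' + b 0) (Fin.tail b)) (by rw [R.add, hp, h3]) ?_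
      (Fin.forall_fin_succ.2 ⟨by rw [Fin.cons_zero, R.add, hp', h3], fun i => h3 _⟩) (fun i j => ?_) fun i => ?_
    · simp [e1, h4, h5, fun i => herm6.flip_zero (h5 i).1]
    · refine Fin.cases ?_ (fun i => ?_) i <;> refine Fin.cases ?_ (fun j => ?_) j <;>
        simp [Fin.tail, e2, h4, h5, fun i => herm6.flip_zero (h5 i).2, Fin.succ_ne_zero, (Fin.succ_ne_zero _).symm]
    · refine Fin.cases ?_ (fun i => ?_) i <;>
        simp [Fin.tail, h4, h5, fun i => herm6.flip_zero (h5 i).2, herm6.flip_one e, o, Fin.succ_ne_zero]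

theorem u6_comm {v : V6} (hv : Iso v) (e : f v = v) : Commute γ (τ ι v) :=
  mul_inv_eq_iff_eq_mul.1 (by rw [R.act v hv, e])

theorem u6_A (h2 : ∀ v, f (f v) = v) (h0 : ∀ x, f x = x → B6 x x = 0) :
    ∃ p p', Fr p p' ∧ ∀ i, Commute γ (τ ι (p i)) ∧ Commute γ (τ ι (p' i)) := by
  have fl := fun {x y : V6} => herm6.flip_zero (x := x) (y := y)
  obtain ⟨a, a', a1, a2, a3, -⟩ := u6_part R h2 (n := 0) (by omega) Fin.elim0 id (fun i => i.elim0) fun i => i.elim0
  have a4 := herm6.flip_one a3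
  obtain ⟨b, b', b1, b2, b3, b4⟩ := u6_part R h2 (by omega) ![a, a'] ![1, 0] (by simp [Fin.forall_fin_succ, *])
    (by simp [Fin.forall_fin_succ, *])
  simp only [Fin.forall_fin_succ, Matrix.cons_val_zero, Matrix.cons_val_succ, IsEmpty.forall_iff, and_true] at b4
  obtain ⟨⟨b4, b5⟩, b6, b7⟩ := b4
  have b8 := herm6.flip_one b3
  obtain ⟨c, c', c1, c2, c3, c4⟩ := u6_part R h2 (by omega) ![a, a', b, b'] ![1, 0, 3, 2]
    (by simp [Fin.forall_fin_succ, *]) (by simp [Fin.forall_fin_succ, fl b4, fl b5, fl b6, fl b7, *])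
  simp only [Fin.forall_fin_succ, Matrix.cons_val_zero, Matrix.cons_val_succ, IsEmpty.forall_iff, and_true] at c4
  obtain ⟨⟨c4, c5⟩, ⟨c6, c7⟩, ⟨c8, c9⟩, c10, c11⟩ := c4
  have hy : ∀ x y, f x = x → f y = y → B6 x y = 1 → Hy x y := fun x y hx hy e =>
    ⟨⟨fun k => by simp [k] at e, h0 x hx⟩, ⟨fun k => by simp [k] at e, h0 y hy⟩, by rw [e]; exact one_ne_zero⟩
  have F : Fr ![a, b, c] ![a', b', c'] := ⟨by simp [Fin.forall_fin_succ, *],
    by simp [Fin.forall_fin_succ, fl b4, fl c4, fl c8, *], by simp [Fin.forall_fin_succ, fl b6, fl c6, fl c10, *],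
    by simp [Fin.forall_fin_succ, fl b7, fl c7, fl c11, *]⟩
  refine ⟨_, _, F, fun i => ⟨u6_comm R (F.hy i).1 ?_, u6_comm R (F.hy i).2.1 ?_⟩⟩ <;> fin_cases i <;> assumption

theorem u6_B (h2 : γ * γ = 1) {b : Fin 6 → V6} (h3 : ∀ i, f (b i) = b i)
    (h4 : ∀ i j, B6 (b i) (b j) = if i = j then 1 else 0) : ∃ p p', Fr p p' ∧
    (∀ i, γ * (τ ι (p i) * τ ι (p' i)) * γ = (τ ι (p i) * τ ι (p' i))⁻¹) ∧
      ∃ s, Iso s ∧ Commute γ (τ ι s) ∧ τ ι s ∈ ⁅centralizer ({γ} : Set Γ), centralizer ({γ} : Set Γ)⁆ := by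
  have h5 : ∀ i j : Fin 6, B6 (Pi.single i 1) (Pi.single j 1) = if i = j then 1 else 0 := fun i j => by
    rw [stdB_single_left, Pi.single_apply]
  obtain ⟨L, hL, h6⟩ := herm6.exists_mem_UG_family _ b (linearIndependent_of_orthonormal h5)
    (linearIndependent_of_orthonormal h4) fun i j => (h5 i j).trans (h4 i j).symm
  have h7 : ∀ v : V6, L v = ∑ i, v i • b i := fun v => by
    conv_lhs => rw [pi_eq_sum_univ' v]
    simp only [map_sum, map_smul, h6]
  have h8 : ∀ v : V6, f (L v) = L fun i => K4.bar (v i) := fun v => by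
    rw [h7, h7]
    exact (map_sum (AddMonoidHom.mk' f R.add) _ _).trans
      (Finset.sum_congr rfl fun i _ => (R.smul _ _).trans (by rw [h3]))
  have iso : ∀ {v}, Iso v → Iso (L v) := fun hv => ⟨fun e => hv.1 (L.map_eq_zero_iff.1 e), (hL _ _).trans hv.2⟩
  let Φ : SU6 →* SU6 := MonoidHom.mk' (fun g => ⟨L * g.1 * L⁻¹, conj_mem_SUG hL g.2⟩) fun g k => Subtype.ext (by
    simp only [coe_mul]; group)
  have hT : ∀ l : List ℕ, l.all cIso = true →
      (l.map fun n => τ ι (L (dec n))).prod = ι (Φ (l.map fun n => ta (dec n)).prod) := fun l hl => by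
    rw [map_list_prod, map_list_prod, List.map_map, List.map_map]
    exact congrArg _ (List.map_congr_left fun n hn => congrArg ι
      (Subtype.ext (tau_conj herm6 (iso_dec (List.all_eq_true.1 hl n hn)).2 hL).symm))
  have hW : ∀ l l' : List ℕ, (l.all cIso && l'.all cIso &&
      (List.finRange 6).all fun j => Nat.beq (ctvW l (4 ^ j.1)) (ctvW l' (4 ^ j.1))) = true →
      (l.map fun n => τ ι (L (dec n))).prod = (l'.map fun n => τ ι (L (dec n))).prod := fun l l' h => by
    rw [hT, hT, u6_word_eq h] <;> simp only [Bool.and_eq_true] at h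
    exacts [h.1.2, h.1.1]
  have act : ∀ m n, cIso m = true → (fun i => K4.bar (dec m i)) = dec n → γ * τ ι (L (dec m)) * γ⁻¹ = τ ι (L (dec n)) :=
    fun m n h e => by rw [R.act _ (iso (iso_dec h)), h8, e]
  have cm : ∀ m, cIso m = true → (fun i => K4.bar (dec m i)) = dec m → τ ι (L (dec m)) ∈ centralizer ({γ} : Set Γ) :=
    fun m h e => mem_centralizer_singleton_iff.2 (mul_inv_eq_iff_eq_mul.1 (act m m h e)).symm
  have iv : ∀ a b c, cIso a = true → cIso b = true → (fun i => K4.bar (dec a i)) = dec a →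
      (fun i => K4.bar (dec b i)) = dec c → ([a, c].map fun n => τ ι (L (dec n))).prod =
      ([b, a].map fun n => τ ι (L (dec n))).prod →
      γ * (τ ι (L (dec a)) * τ ι (L (dec b))) * γ = (τ ι (L (dec a)) * τ ι (L (dec b)))⁻¹ := fun a b c i1 i2 e1 e2 e3 => by
    simp only [List.map_cons, List.map_nil, List.prod_cons, List.prod_nil, mul_one] at e3
    rw [mul_inv_rev, τ_inv, τ_inv, ← e3, ← act b c i2 e2]
    conv_rhs => rw [← act a a i1 e1]
    rw [inv_eq_of_mul_eq_one_right h2]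
    simp only [mul_assoc, ← mul_assoc γ γ, h2, one_mul]
  refine ⟨fun i => L (sp i), fun i => L (sp' i), ⟨fun i => ⟨iso (ue.std.hy i).1, iso (ue.std.hy i).2.1,
    by rw [hL]; exact (ue.std.hy i).2.2⟩, fun i j => (hL _ _).trans (ue.std.pp i j),
    fun i j e => (hL _ _).trans (ue.std.pq i j e), fun i j => (hL _ _).trans (ue.std.qq i j)⟩, fun i => ?_,
    L (dec 1365), iso (iso_dec (by decide)), (mem_centralizer_singleton_iff.1 (cm 1365 (by decide) (by decide))).symm, ?_⟩
  · fin_cases i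
    · exact iv 5 9 13 (by decide) (by decide) (by decide) (by decide) (hW _ _ (by decide +kernel))
    · exact iv 80 144 208 (by decide) (by decide) (by decide) (by decide) (hW _ _ (by decide +kernel))
    · exact iv 1280 2304 3328 (by decide) (by decide) (by decide) (by decide) (hW _ _ (by decide +kernel))
  · have := hW [1365] [5, 1025, 340, 5, 340, 1025, 80, 1040, 325, 80, 325, 1040, 1280, 320, 1045, 1280, 1045, 320]
      (by decide +kernel)
    simp only [List.map_cons, List.map_nil, List.prod_cons, List.prod_nil, mul_one] at this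
    rw [this]
    simpa only [commutatorElement_def, mul_inv_rev, τ_inv, mul_assoc] using mul_mem (mul_mem
      (commutator_mem_commutator (cm 5 (by decide) (by decide))
        (mul_mem (cm 1025 (by decide) (by decide)) (cm 340 (by decide) (by decide))))
      (commutator_mem_commutator (cm 80 (by decide) (by decide))
        (mul_mem (cm 1040 (by decide) (by decide)) (cm 325 (by decide) (by decide)))))
      (commutator_mem_commutator (cm 1280 (by decide) (by decide))
        (mul_mem (cm 320 (by decide) (by decide)) (cm 1045 (by decide) (by decide))))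

omit R in
theorem u6 (h : UA ι) : U6 ι := by
  intro γ hγ h2
  obtain ⟨f, R⟩ := h.rep hγ h2
  have h3 := u6_sq R h h2
  by_cases e : ∀ x, f x = x → B6 x x = 0
  · obtain ⟨p, p', F, k⟩ := u6_A R h3 e
    exact ⟨p, p', F, Or.inl k⟩
  · push Not at e
    obtain ⟨x, hx, e⟩ := e
    obtain ⟨b, h4, h5⟩ := u6_on R h3 hx ((u6_real R hx hx).1.resolve_left e) 5 le_rfl
    obtain ⟨p, p', F, k⟩ := u6_B R h2 h4 h5
    exact ⟨p, p', F, Or.inr k⟩

end CL.E6S
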