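/-
Centralisers `2^{1+20}.U₆(2)` (job E6S-MB): irreducibility of the module and a quaternion subspace.
-/
import Cfsg.Agent.Spor.E6SU6
import Cfsg.Agent.Spor.E6SUw

set_option autoImplicit false

namespace CL.E6S

open Subgroup CL.Even CL.Grp CL.Uni CL.Rec CL.IN Cfsg Module

universe u

namespace Mb

variable {a b : Fin 6 → ZMod 3} {g k : SU6}

theorem vv (v : V20) : v + v = 0 := funext fun i => (by decide : ∀ x : ZMod 2, x + x = 0) (v i)

theorem dg_mul (h : IsDg a g) (h' : IsDg b k) : IsDg (a + b) (g * k) :=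
  ⟨by simp only [Pi.add_apply, Finset.sum_add_distrib, h.1, h'.1, add_zero], fun v j => by
    show g.1 (k.1 v) j = _
    rw [h.2, h'.2, ← mul_assoc, Pi.add_apply,
      (by decide : ∀ x y : ZMod 3, K4.w ^ (x + y).val = K4.w ^ x.val * K4.w ^ y.val)]⟩

theorem dg_comm (h : IsDg a g) (h' : IsDg b k) : g * k = k * g :=
  Subtype.ext (LinearEquiv.ext fun v => funext fun j => by rw [(dg_mul h h').2, (dg_mul h' h).2, add_comm])

theorem dg_cube (h : IsDg a g) : g * (g * g) = 1 := Subtype.ext (LinearEquiv.ext fun v => funext fun j => by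
  rw [(dg_mul h (dg_mul h h)).2, Pi.add_apply, Pi.add_apply,
    (by decide : ∀ x : ZMod 3, K4.w ^ (x + (x + x)).val = 1), one_mul]; rfl)

theorem dg_word {l : List ℕ} (h : l.all cIso = true ∧ ∑ j, a j = 0 ∧
    ∀ i j : Fin 6, dec (ctvW l (4 ^ i.1)) j = K4.w ^ (a j).val * dec (4 ^ i.1) j) :
    IsDg a (l.map fun n => ta (dec n)).prod := ⟨h.2.1, fun v j => by
  have e : ∀ i : Fin 6, Pi.single i 1 = dec (4 ^ i.1) := by decide
  conv_lhs => rw [pi_eq_sum_univ' v, map_sum]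
  conv_rhs => rw [pi_eq_sum_univ' v]
  simp only [map_smul]
  simp only [e, u6_word l h.1, ← dec_ctvW, Finset.sum_apply, Pi.smul_apply, h.2.2, smul_eq_mul,
    Finset.mul_sum, mul_left_comm]⟩

theorem swap_apply {i j : Fin 6} (h : i ≠ j) (v : V6) :
    (ta (Pi.single i 1 + Pi.single j 1)).1 v = v ∘ Equiv.swap i j := by
  rw [ta_apply (by revert i j; unfold Iso; simp only [stdB_apply]; decide)]
  funext m
  have e : ∀ x y : K4, x + (x + y) = y ∧ y + (x + y) = x := by decide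
  simp only [map_add, LinearMap.add_apply, stdB_single_left, Pi.add_apply, Pi.smul_apply, Function.comp_apply,
    Equiv.swap_apply_def, Pi.single_apply]
  split_ifs with h1 h2 <;> simp_all

theorem four {X : Submodule (ZMod 2) V20} (hc : Nat.card X = 4) {u w x : V20} (hu : u ∈ X) (hw : w ∈ X) (u0 : u ≠ 0)
    (w0 : w ≠ 0) (uw : u ≠ w) (hx : x ∈ X) : x = 0 ∨ x = u ∨ x = w ∨ x = u + w := by
  have h1 : u + w ≠ 0 := fun e => uw (by rw [← add_zero u, ← vv w, ← add_assoc, e, zero_add])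
  have := Set.eq_of_subset_of_ncard_le (s := {0, u, w, u + w}) (t := X) (by
    simp [Set.insert_subset_iff, hu, hw, X.add_mem hu hw]) (by
    rw [← Nat.card_coe_set_eq, Set.ncard_insert_of_notMem (by simp [u0.symm, w0.symm, h1.symm]),
      Set.ncard_insert_of_notMem (by simp [uw, w0]), Set.ncard_pair (by simp [u0])]
    exact hc.le)
  exact this.ge hx

theorem sep {S S' : Finset (Fin 6)} (h : S.card = 3 ∧ 0 ∈ S) (h' : S'.card = 3 ∧ 0 ∈ S') (n : S ≠ S') :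
    ∃ a : Fin 6 → ZMod 3, ∑ j, a j = 0 ∧ ∑ j ∈ S, a j = 0 ∧ ∑ j ∈ S', a j ≠ 0 := by
  obtain ⟨i, h1, h2⟩ : ∃ i ∈ S, i ∉ S' := by
    by_contra! e
    exact n (Finset.eq_of_subset_of_card_le e (by omega))
  exact ⟨Pi.single 0 1 - Pi.single i 1, by simp [Finset.sum_sub_distrib],
    by simp [Finset.sum_sub_distrib, Pi.single_apply, h.2, h1], by simp [Finset.sum_sub_distrib, Pi.single_apply, h'.2, h2]⟩

variable {Γ : Type u} [Group Γ] {ι : SU6 →* Γ} {ρ : Γ →* Module.End (ZMod 2) V20} {S : Finset (Fin 6)} {u : V20}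

theorem ρι (g k : SU6) (v : V20) : ρ (ι (g * k)) v = ρ (ι g) (ρ (ι k) v) := by rw [map_mul, ρ_mul]

theorem mem (h : IsDg a g) (hu : u ∈ US ι ρ S) : ρ (ι g) u ∈ US ι ρ S := fun b k h' e => by
  rw [← ρι, dg_comm h' h, ρι, hu b k h' e]

theorem cube (h : IsDg a g) (v : V20) : ρ (ι g) (ρ (ι g) (ρ (ι g) v)) = v := by
  rw [← ρι g g v, ← ρι, dg_cube h, map_one, ρ_one]

theorem swap_mem {i j : Fin 6} (n : i ≠ j) (hu : u ∈ US ι ρ S) :
    ρ (ι (ta (Pi.single i 1 + Pi.single j 1))) u ∈ US ι ρ (S.image (Equiv.swap i j)) := fun b k h e => by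
  have h1 : IsDg (b ∘ Equiv.swap i j) (ta (Pi.single i 1 + Pi.single j 1) * k * ta (Pi.single i 1 + Pi.single j 1)) :=
    ⟨(Equiv.sum_comp _ b).trans h.1, fun v m => by
      show (ta _).1 (k.1 ((ta _).1 v)) m = _
      rw [swap_apply n, swap_apply n, Function.comp_apply, h.2]; simp⟩
  rw [Finset.sum_image (Equiv.injective _).injOn] at e
  conv_rhs => rw [← hu _ _ h1 e, ← ρι, ← mul_assoc, ← mul_assoc, ta_sq, one_mul, ρι]

/-- `1 + D + D²` -/
noncomputable def ee (ι : SU6 →* Γ) (ρ : Γ →* Module.End (ZMod 2) V20) (g : SU6) : Module.End (ZMod 2) V20 :=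
  1 + ρ (ι g) + ρ (ι g) * ρ (ι g)

theorem ee_apply (v : V20) : ee ι ρ g v = v + ρ (ι g) v + ρ (ι g) (ρ (ι g) v) := rfl

theorem ee_fix (h : ρ (ι g) u = u) : ee ι ρ g u = u := by rw [ee_apply, h, h, vv, zero_add]

theorem ee_mem (h : IsDg a g) (hu : u ∈ US ι ρ S) : ee ι ρ g u ∈ US ι ρ S :=
  add_mem (add_mem hu (mem h hu)) (mem h (mem h hu))

variable (w : WT ι ρ)
include w

theorem nofix (h : IsDg a g) (n : ∑ j ∈ S, a j ≠ 0) (hu : u ∈ US ι ρ S) (e : ρ (ι g) u = u) : u = 0 :=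
  w.fix u fun b k h' => by
    rcases (by decide : ∀ x y : ZMod 3, x ≠ 0 → y = 0 ∨ y + x = 0 ∨ y + (x + x) = 0) _ (∑ j ∈ S, b j) n with k | k | k
    · exact hu _ _ h' k
    · have := hu _ _ (dg_mul h' h) (by simpa only [Pi.add_apply, Finset.sum_add_distrib] using k)
      rwa [ρι, e] at this
    · have := hu _ _ (dg_mul h' (dg_mul h h)) (by simpa only [Pi.add_apply, Finset.sum_add_distrib] using k)
      rwa [ρι, ρι, e, e] at this

theorem ee_zero (h : IsDg a g) (n : ∑ j ∈ S, a j ≠ 0) (hu : u ∈ US ι ρ S) : ee ι ρ g u = 0 :=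
  nofix w h n (ee_mem h hu) (by rw [ee_apply, map_add, map_add, cube h]; abel)

theorem cases (hS : S.card = 3) (h : IsDg a g) (n : ∑ j ∈ S, a j ≠ 0) (hu : u ∈ US ι ρ S) (u0 : u ≠ 0) {x : V20}
    (hx : x ∈ US ι ρ S) : x = 0 ∨ x = u ∨ x = ρ (ι g) u ∨ x = u + ρ (ι g) u :=
  four (w.card S hS) hu (mem h hu) u0 (fun e => u0 (by rw [← cube (ι := ι) (ρ := ρ) h u, e, map_zero, map_zero]))
    (fun e => u0 (nofix w h n hu e.symm)) hx

theorem irr (U : Submodule (ZMod 2) V20) (hU : ∀ g, ∀ v ∈ U, ρ (ι g) v ∈ U) : U = ⊥ ∨ U = ⊤ := by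
  refine or_iff_not_imp_left.2 fun h0 => ?_
  obtain ⟨v, hv, v0⟩ := Submodule.exists_mem_ne_zero_of_ne_bot h0
  obtain ⟨f, hf, rfl⟩ := w.span v
  obtain ⟨S, hS, n⟩ := Finset.exists_ne_zero_of_sum_ne_zero v0
  have hS' := (Finset.mem_filter.1 hS).2
  have h1 : ∀ T : Finset (Finset (Fin 6)), (∀ S' ∈ T, (S'.card = 3 ∧ 0 ∈ S') ∧ S' ≠ S) → ∀ f' : Finset (Fin 6) → V20,
      (∀ S', f' S' ∈ US ι ρ S') → f S + ∑ S' ∈ T, f' S' ∈ U → f S ∈ U := fun T => by
    induction T using Finset.induction_on with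
    | empty => simp
    | insert S' T h2 ih =>
      intro h3 f' h4 h5
      obtain ⟨a, a1, a2, a3⟩ := sep hS' (h3 S' (Finset.mem_insert_self _ _)).1 (h3 S' (Finset.mem_insert_self _ _)).2.symm
      obtain ⟨g, hg⟩ := w.ex a a1
      refine ih (fun s hs => h3 s (Finset.mem_insert_of_mem hs)) (fun s => ee ι ρ g (f' s)) (fun s => ee_mem hg (h4 s)) ?_
      have h6 : ee ι ρ g (f S + ∑ s ∈ insert S' T, f' s) ∈ U := add_mem (add_mem h5 (hU g _ h5)) (hU g _ (hU g _ h5))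
      rwa [Finset.sum_insert h2, map_add, map_add, ee_fix (hf S a g hg a2), ee_zero w hg a3 (h4 S'), zero_add,
        map_sum] at h6
  have h2 : f S ∈ U := h1 (Finset.erase _ S) (fun s hs => ⟨(Finset.mem_filter.1 (Finset.mem_of_mem_erase hs)).2,
    Finset.ne_of_mem_erase hs⟩) f hf (by rwa [Finset.add_sum_erase _ _ hS])
  have h3 : US ι ρ S ≤ U := fun x hx => by
    obtain ⟨a, a1, -, a3⟩ := sep (S := if S = {0, 1, 2} then {0, 1, 3} else {0, 1, 2})
      (by split_ifs <;> decide) hS' (by split_ifs with e; exacts [by rw [e]; decide, Ne.symm e])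
    obtain ⟨g, hg⟩ := w.ex a a1
    rcases cases w hS'.1 hg a3 (hf S) n hx with rfl | rfl | rfl | rfl
    exacts [U.zero_mem, h2, hU g _ h2, U.add_mem h2 (hU g _ h2)]
  have h4 : ∀ σ : Equiv.Perm (Fin 6), US ι ρ (S.image σ) ≤ U := fun σ => by
    induction σ using Equiv.Perm.swap_induction_on with
    | one => simpa using h3
    | swap_mul σ i j n ih =>
      intro x hx
      have h5 := swap_mem n hx
      rw [Finset.image_image, ← Equiv.Perm.coe_mul, Equiv.swap_mul_self_mul] at h5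
      have h6 := hU (ta (Pi.single i 1 + Pi.single j 1)) _ (ih h5)
      rwa [← ρι, ta_sq, map_one, ρ_one] at h6
  refine eq_top_iff.2 fun v _ => ?_
  obtain ⟨f, hf, rfl⟩ := w.span v
  refine U.sum_mem fun T hT => ?_
  let e : {x // x ∈ S} ≃ {x // x ∈ T} := Fintype.equivOfCardEq (by simp [hS'.1, (Finset.mem_filter.1 hT).2.1])
  refine h4 e.extendSubtype ((congrArg (US ι ρ) (Finset.eq_of_subset_of_card_le (fun x hx => ?_) ?_)).ge (hf T))
  · obtain ⟨y, hy, rfl⟩ := Finset.mem_image.1 hx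
    exact e.extendSubtype_mem y hy
  · rw [Finset.card_image_of_injective _ (Equiv.injective _), hS'.1, (Finset.mem_filter.1 hT).2.1]

variable {B : LinearMap.BilinForm (ZMod 2) V20} {q : V20 → ZMod 2}

theorem q8_std (o : OM ρ B q) : ∃ v w, q v = 1 ∧ q w = 1 ∧ q (v + w) = 1 ∧
    ∀ γ, γ * γ = 1 → (∀ i, Commute γ (tf ι sp sp' i)) → ρ γ v = v ∧ ρ γ w = w := by
  obtain ⟨t0, h0, e0⟩ : ∃ t, IsDg ![1, 2, 0, 0, 0, 0] t ∧ tf ι sp sp' 0 = ι t :=
    ⟨_, dg_word (l := [5, 9]) (by decide), by simp [tf, τ, sp, sp', vc, cd]⟩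
  obtain ⟨t1, h1, e1⟩ : ∃ t, IsDg ![0, 0, 1, 2, 0, 0] t ∧ tf ι sp sp' 1 = ι t :=
    ⟨_, dg_word (l := [80, 144]) (by decide), by simp [tf, τ, sp, sp', vc, cd]⟩
  obtain ⟨t2, h2, e2⟩ : ∃ t, IsDg ![0, 0, 0, 0, 1, 2] t ∧ tf ι sp sp' 2 = ι t :=
    ⟨_, dg_word (l := [1280, 2304]) (by decide), by simp [tf, τ, sp, sp', vc, cd]⟩
  have : Nontrivial (US ι ρ {0, 2, 4}) := Finite.one_lt_card_iff_nontrivial.1 (by rw [w.card _ (by decide)]; omega)
  obtain ⟨⟨v, hv⟩, v0⟩ := exists_ne (0 : US ι ρ {0, 2, 4})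
  replace v0 : v ≠ 0 := fun e => v0 (Subtype.ext e)
  have hc := fun x => cases w (S := {0, 2, 4}) (x := x) (by decide) h0 (by decide) hv v0
  have h3 : v + ρ (ι t0) v = ρ (ι t0) (ρ (ι t0) v) := by
    rw [← add_zero (v + _), ← vv (ρ (ι t0) (ρ (ι t0) v)), ← add_assoc, ← ee_apply, ee_zero w h0 (by decide) hv, zero_add]
  have h4 : B v (ρ (ι t0) v) = 1 := by
    refine ((by decide : ∀ x : ZMod 2, x = 0 ∨ x = 1) _).resolve_left fun e => v0 (o.hN v fun y => ?_)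
    obtain ⟨f, hf, rfl⟩ := w.span y
    rw [map_sum]
    refine Finset.sum_eq_zero fun S hS => ?_
    by_cases k : {0, 2, 4} = S
    · subst k
      rcases hc _ (hf _) with k | k | k | k <;> simp [k, e, o.B_self]
    · obtain ⟨a, a1, a2, a3⟩ := sep (by decide) (Finset.mem_filter.1 hS).2 k
      obtain ⟨g, hg⟩ := w.ex a a1
      have k1 : ∀ x, B v (ρ (ι g) x) = B v x := fun x => by rw [← o.B_map (ι g) v x, hv a g hg a2]
      have k2 := congrArg (B v) (ee_zero w hg a3 (hf S))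
      rwa [ee_apply, map_add, map_add, k1, k1, k1, (by decide : ∀ x : ZMod 2, x + x + x = x), map_zero] at k2
  have h5 : q v = 1 := by
    have := o.hq v (ρ (ι t0) v)
    rw [h3, o.inv, o.inv, h4] at this
    exact (by decide : ∀ x : ZMod 2, x = x + x + 1 → x = 1) _ this
  refine ⟨v, ρ (ι t0) v, h5, by rw [o.inv, h5], by rw [h3, o.inv, o.inv, h5], fun γ h6 h7 => ?_⟩
  have c : ∀ {t}, Commute γ (ι t) → ∀ x, ρ γ (ρ (ι t) x) = ρ (ι t) (ρ γ x) := fun c x => by rw [← ρ_mul, c.eq, ρ_mul]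
  have c0 := e0 ▸ h7 0
  have c1 := e1 ▸ h7 1
  have c2 := e2 ▸ h7 2
  have h8 : ρ γ v ∈ US ι ρ {0, 2, 4} := by
    have g1 := dg_mul h0 (dg_mul h1 h1)
    have g2 := dg_mul h0 (dg_mul h2 h2)
    have k1 : ρ (ι (t0 * (t1 * t1))) (ρ γ v) = ρ γ v := by
      rw [← c (by simp only [map_mul]; exact c0.mul_right (c1.mul_right c1)), hv _ _ g1 (by decide)]
    have k2 : ρ (ι (t0 * (t2 * t2))) (ρ γ v) = ρ γ v := by
      rw [← c (by simp only [map_mul]; exact c0.mul_right (c2.mul_right c2)), hv _ _ g2 (by decide)]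
    obtain ⟨f, hf, e⟩ := w.span (ρ γ v)
    rw [← ee_fix k1, ← ee_fix k2, e, map_sum, map_sum, Finset.sum_eq_single {0, 2, 4} (fun S hS n => ?_)
      fun n => absurd (by decide) n]
    · exact ee_mem g1 (ee_mem g2 (hf _))
    · rcases (by decide : ∀ S : Finset (Fin 6), S.card = 3 ∧ 0 ∈ S → S ≠ {0, 2, 4} →
        ∑ j ∈ S, (![1, 2, 0, 0, 0, 0] + (![0, 0, 1, 2, 0, 0] + ![0, 0, 1, 2, 0, 0]) : Fin 6 → ZMod 3) j ≠ 0 ∨
        ∑ j ∈ S, (![1, 2, 0, 0, 0, 0] + (![0, 0, 0, 0, 1, 2] + ![0, 0, 0, 0, 1, 2]) : Fin 6 → ZMod 3) j ≠ 0) S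
        (Finset.mem_filter.1 hS).2 n with k | k
      · exact ee_zero w g1 k (ee_mem g2 (hf S))
      · rw [ee_zero w g2 k (hf S), map_zero]
  have h9 : ρ γ (ρ γ v) = v := by rw [← ρ_mul, h6, ρ_one]
  have h10 : ρ γ v = v := by
    rcases hc _ h8 with k | k | k | k
    · exact absurd (by rw [← h9, k, map_zero]) v0
    · exact k
    · rw [k, c c0, k] at h9
      exact absurd (nofix w h0 (S := {0, 2, 4}) (by decide) hv (by rw [← h9, cube h0, h9])) v0
    · rw [k, h3, c c0, c c0, k, h3, cube h0] at h9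
      exact absurd (nofix w h0 (S := {0, 2, 4}) (by decide) hv h9) v0
  exact ⟨h10, by rw [c c0, h10]⟩

end Mb

variable {Γ : Type u} [Group Γ] {ι : SU6 →* Γ} {ρ : Γ →* Module.End (ZMod 2) V20}
  {B : LinearMap.BilinForm (ZMod 2) V20} {q : V20 → ZMod 2}

theorem mb (_h : UA ι) (o : OM ρ B q) (w : WT ι ρ) : MB ι ρ q := ⟨Mb.irr w, fun p p' F => by
  obtain ⟨g, hg⟩ := (uw ue).frT _ _ _ _ ue.std F
  obtain ⟨v, x, h1, h2, h3, h4⟩ := Mb.q8_std w o
  refine ⟨ρ (ι g) v, ρ (ι g) x, by rw [o.inv, h1], by rw [o.inv, h2], by rw [← map_add, o.inv, h3], fun γ h5 h6 => ?_⟩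
  have h7 := h4 ((ι g)⁻¹ * γ * ι g) (by
    calc _ = (ι g)⁻¹ * (γ * γ) * ι g := by group
      _ = 1 := by rw [h5]; group) fun i => by
    have := h6 i
    rw [tf, ← (hg i).1.τ_eq (F.hy i).1, ← (hg i).2.τ_eq (F.hy i).2.1, ← τ_conj g (ue.std.hy i).1,
      ← τ_conj g (ue.std.hy i).2.1] at this
    simpa [mul_assoc] using this.map (MulAut.conj (ι g)⁻¹)
  simp only [ρ_mul] at h7
  exact ⟨by conv_rhs => rw [← h7.1, ρ_ρ_inv], by conv_rhs => rw [← h7.2, ρ_ρ_inv]⟩⟩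

end CL.E6S
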