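/-
Centralisers `2^{1+20}.U₆(2)`, job UP1: involutions of `SU₆(2)`.
-/
import Cfsg.Agent.Spor.E6SD

set_option autoImplicit false

namespace CL.E6S

open Subgroup CL.Even CL.Grp CL.Uni CL.Rec CL.IN Cfsg Module

namespace Up1

/-- `g + 1` -/
noncomputable def nn (g : SU6) : V6 →ₗ[K4] V6 := (g.1 : V6 →ₗ[K4] V6) + LinearMap.id

theorem nn_apply (g : SU6) (x : V6) : nn g x = g.1 x + x := rfl

theorem vv (x : V6) : x + x = 0 := vadd_self K4.isBar x

theorem eq_nn (g : SU6) (x : V6) : g.1 x = x + nn g x := by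
  rw [nn_apply, add_comm (g.1 x), ← add_assoc, vv, zero_add]

theorem nn_eq_zero {g : SU6} {x : V6} : nn g x = 0 ↔ g.1 x = x := by
  rw [eq_nn, add_eq_left]

theorem ex {g : SU6} (h1 : g ≠ 1) : ∃ x, B6 (nn g x) x ≠ 0 := by
  by_contra! hc
  have := eq_zero_of_self_eq_zero K4.isBar.ne_id (B6.comp (nn g)) hc
  exact h1 (Subtype.ext (LinearEquiv.ext fun x => nn_eq_zero.1
    (herm6.nondeg _ fun y => by simpa using congrArg (fun f => f x y) this)))

variable {g : SU6} (h2 : g * g = 1)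
include h2

theorem gg (x : V6) : g.1 (g.1 x) = x := by simpa using congrArg (fun g : SU6 => g.1 x) h2

theorem adj (x y : V6) : B6 (nn g x) y = B6 x (nn g y) := by
  have : B6 (g.1 x) y = B6 x (g.1 y) := by rw [← SUG_le_UG g.2 x (g.1 y), gg h2]
  simp only [nn_apply, map_add, LinearMap.add_apply, this]

theorem nn_nn (x : V6) : nn g (nn g x) = 0 := by
  rw [nn_apply, nn_apply, map_add, gg h2, add_comm x, vv]

theorem perp (x y : V6) : B6 (nn g x) (nn g y) = 0 := by rw [adj h2, nn_nn h2, map_zero]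

theorem ex1 (h1 : g ≠ 1) : ∃ x, B6 (nn g x) x = 1 :=
  let ⟨x, hx⟩ := ex h1
  ⟨x, eq_one_of_fixed K4.isBar hx (by rw [herm6.symm, adj h2])⟩

theorem sq (x : V6) : ta (nn g x) * g * (ta (nn g x) * g) = 1 := by
  have e := tau_conj' herm6 (perp h2 x x) g
  rw [nn_eq_zero.1 (nn_nn h2 x), mul_inv_eq_iff_eq_mul] at e
  rw [mul_assoc, ← mul_assoc g, e, mul_assoc, h2, mul_one, tau_mul_self]

theorem nn_mul (x y : V6) : nn (ta (nn g x) * g) y = nn g y + B6 (nn g x) y • nn g x := by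
  rw [nn_apply, show (ta (nn g x) * g).1 y = (ta (nn g x)).1 (g.1 y) from rfl, tau_apply herm6 (perp h2 x x), tv,
    eq_nn g y, map_add, perp h2, add_zero, add_assoc y, add_comm y, add_assoc, vv, add_zero]

theorem step {x : V6} (hx : B6 (nn g x) x = 1) : ∃ c : K4, Hy (nn g x) (x + c • nn g x) ∧
    (ta (nn g x) * g).1 (nn g x) = nn g x ∧ (ta (nn g x) * g).1 (x + c • nn g x) = x + c • nn g x := by
  obtain ⟨c, hc⟩ := herm6.exists_add_smul_self_eq (perp h2 x x) (hx ▸ one_ne_zero : B6 (nn g x) x ≠ 0) (map_zero _)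
  have e : B6 (nn g x) (x + c • nn g x) = 1 := by rw [map_add, map_smul, perp h2, smul_zero, add_zero, hx]
  refine ⟨c, ⟨⟨fun e => ?_, perp h2 x x⟩, ⟨fun e' => ?_, hc⟩, e ▸ one_ne_zero⟩, nn_eq_zero.1 ?_, nn_eq_zero.1 ?_⟩
  · simp [e] at hx
  · simp [e'] at e
  · rw [nn_mul h2, nn_nn h2, perp h2, zero_smul, add_zero]
  · rw [nn_mul h2, e, one_smul, map_add, map_smul, nn_nn h2, smul_zero, add_zero, vv]

theorem gen (R : Submodule K4 V6) (hR : ∀ y, nn g y ∈ R) : g ∈ AS R := by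
  induction hK : LinearMap.ker (nn g) using WellFoundedGT.induction generalizing g with
  | ind K ih =>
  by_cases h1 : g = 1
  · exact h1 ▸ one_mem _
  obtain ⟨x, hx⟩ := ex1 h2 h1
  obtain ⟨c, ⟨a1, -, a2⟩, -, a3⟩ := step h2 hx
  have lt : LinearMap.ker (nn g) < LinearMap.ker (nn (ta (nn g x) * g)) := by
    refine lt_of_le_of_ne (fun y hy => ?_) fun e => a2 ?_
    · rw [LinearMap.mem_ker] at hy ⊢
      rw [nn_mul h2, adj h2, hy, map_zero, zero_smul, add_zero]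
    · rw [adj h2, LinearMap.mem_ker.1 (e.ge (nn_eq_zero.2 a3)), map_zero]
  have := ih _ (hK ▸ lt) (sq h2 x) (fun y => by rw [nn_mul h2]; exact add_mem (hR y) (R.smul_mem _ (hR x))) rfl
  rw [← one_mul g, ← tau_mul_self herm6 (nn g x), mul_assoc]
  exact mul_mem (subset_closure ⟨_, hR x, a1, rfl⟩) this

end Up1

open Up1

theorem up_inv1 : ∀ g : SU6, g * g = 1 → g ≠ 1 → ∃ p p', Hy p p' ∧ (ta p * g).1 p = p ∧ (ta p * g).1 p' = p' ∧
    ta p * g * (ta p * g) = 1 := fun g h2 h1 => by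
  obtain ⟨x, hx⟩ := ex1 h2 h1
  obtain ⟨c, a1, a2, a3⟩ := step h2 hx
  exact ⟨_, _, a1, a2, a3, Up1.sq h2 x⟩

theorem up_inv2 : ∀ (g : SU6) p p', g * g = 1 → g ≠ 1 → Hy p p' → g.1 p = p → g.1 p' = p' → ∃ s s', Hy s s' ∧
    B6 p s = 0 ∧ B6 p s' = 0 ∧ B6 p' s = 0 ∧ B6 p' s' = 0 ∧ (ta s * g).1 s = s ∧ (ta s * g).1 s' = s' :=
  fun g p p' h2 h1 ⟨hp, hp', e⟩ e1 e2 => by
  obtain ⟨x, hx⟩ := ex1 h2 h1
  have b1 : ∀ y, B6 p (nn g y) = 0 := fun y => by rw [← adj h2, nn_eq_zero.2 e1, LinearMap.map_zero₂]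
  have b2 : ∀ y, B6 p' (nn g y) = 0 := fun y => by rw [← adj h2, nn_eq_zero.2 e2, LinearMap.map_zero₂]
  obtain ⟨y, y1, y2, y3⟩ : ∃ y, B6 p y = 0 ∧ B6 p' y = 0 ∧ B6 (nn g y) y = 1 := by
    refine ⟨x - (B6 p' x / B6 p' p) • p - (B6 p x / B6 p p') • p', ?_, ?_, ?_⟩
    · simp only [map_sub, map_smul, smul_eq_mul, hp.2, div_mul_cancel₀ _ e, mul_zero, sub_zero, sub_self]
    · simp only [map_sub, map_smul, smul_eq_mul, hp'.2, div_mul_cancel₀ _ (herm6.flip_ne e), mul_zero, sub_self]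
    · simp only [map_sub (nn g), map_smul (nn g), nn_eq_zero.2 e1, nn_eq_zero.2 e2, smul_zero, sub_zero]
      simp only [map_sub, map_smul, hx, herm6.flip_zero (b1 x), herm6.flip_zero (b2 x), smul_zero, sub_zero]
  obtain ⟨c, a1, a2, a3⟩ := step h2 y3
  exact ⟨_, _, a1, b1 y, by rw [map_add, map_smul, y1, b1, smul_zero, add_zero], b2 y,
    by rw [map_add, map_smul, y2, b2, smul_zero, add_zero], a2, a3⟩

theorem up_inv3 (ue : UE) : ∀ g : SU6, g * g = 1 → ∃ W, Pl W ∧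
    g ∈ closure {k | ∃ s ∈ W, Iso s ∧ (∀ v, g.1 v = v → B6 v s = 0) ∧ k = ta s} := fun g h2 => by
  obtain ⟨W, hW, le⟩ := ue.plE (LinearMap.range (nn g)) (by rintro _ ⟨x, rfl⟩ _ ⟨y, rfl⟩; exact Up1.perp h2 x y)
  refine ⟨W, hW, closure_mono ?_ (gen h2 (LinearMap.range (nn g)) fun y => ⟨y, rfl⟩)⟩
  rintro _ ⟨_, ⟨x, rfl⟩, hs, rfl⟩
  exact ⟨_, le ⟨x, rfl⟩, hs, fun v hv => by rw [← adj h2, nn_eq_zero.2 hv, LinearMap.map_zero₂], rfl⟩

theorem up_memAS (ue : UE) : ∀ W (g : SU6), Pl W → (g ∈ AS W ↔ ∀ w ∈ W, g.1 w = w) := fun W g hW => by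
  refine ⟨fun hg => ?_, fun hg => ?_⟩
  · induction hg using closure_induction with
    | mem _ h =>
      obtain ⟨s, hs, i, rfl⟩ := h
      exact fun w hw => by rw [tau_apply herm6 i.2, tv, hW.2 s hs w hw, zero_smul, add_zero]
    | one => exact fun _ _ => rfl
    | mul a b _ _ ha hb => exact fun w hw => (congrArg a.1 (hb w hw)).trans (ha w hw)
    | inv a _ ha => exact fun w hw => a.1.symm_apply_eq.2 (ha w hw).symm
  have hR : ∀ y, nn g y ∈ W := fun y => ue.plM W _ hW fun w hw => by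
    rw [nn_apply, map_add, ← SUG_le_UG g.2 w y, hg w hw, add_self K4.isBar]
  refine gen (Subtype.ext (LinearEquiv.ext fun y => ?_)) W hR
  change g.1 (g.1 y) = y
  rw [eq_nn g y, map_add, hg _ (hR y), eq_nn g y, add_assoc, vv, add_zero]

end CL.E6S
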