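/-
Centralisers `2^{1+20}.U₆(2)` (job E6S-MC): fixed spaces of involutions.
-/
import Cfsg.Agent.Spor.E6SC
import Cfsg.Agent.Spor.E6SUw
import Cfsg.Agent.Spor.E6SUe
import Cfsg.Agent.Spor.E6SUp1

set_option autoImplicit false

namespace CL.E6S

open Subgroup CL.Even CL.Grp CL.Uni CL.Rec CL.IN Cfsg Module

universe u

variable {Γ : Type u} [Group Γ] {ι : SU6 →* Γ} {ρ : Γ →* Module.End (ZMod 2) V20}

namespace Mc

theorem vv (x : V20) : x + x = 0 := funext fun _ => CharTwo.add_self_eq_zero _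

theorem fix_comm {a t : Γ} {v : V20} (e : Commute a t) (h : ρ a v = v) : ρ a (ρ t v) = ρ t v := by
  rw [← ρ_mul, e.eq, ρ_mul, h]

theorem dec3 {a t : Γ} {v : V20} (ha : a * a = 1) (ht : t ^ 3 = 1) (e : a * t * a = t⁻¹) (h : ρ a v = v) :
    ∃ w x, v = w + (x + ρ a x) ∧ ρ t w = w ∧ ρ a w = w ∧ ∀ γ, Commute γ t → ρ γ v = v → ρ γ w = w := by
  have t3 : t * t * t = 1 := by rw [← ht, pow_three']
  have e1 : a * t = t * t * a := by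
    rw [eq_inv_of_mul_eq_one_left t3, ← e, mul_assoc, ha, mul_one]
  have h1 : ρ a (ρ t v) = ρ t (ρ t v) := by rw [← ρ_mul, e1, ρ_mul, ρ_mul, h]
  have h2 : ρ a (ρ t (ρ t v)) = ρ t v := by rw [← h1, ← ρ_mul, ha, ρ_one]
  refine ⟨v + (ρ t v + ρ t (ρ t v)), ρ t v, by rw [h1, add_assoc, vv, add_zero], ?_, ?_, fun γ c hγ => ?_⟩
  · rw [map_add, map_add, ← ρ_mul t t (ρ t v), ← ρ_mul (t * t), t3, ρ_one]; abel
  · rw [map_add, map_add, h, h1, h2, add_comm (ρ t v)]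
  · rw [map_add, map_add, hγ, fix_comm c hγ, fix_comm c (fix_comm c hγ)]

theorem count {a : Γ} {P : V20 → Prop} {n : ℕ} (hP : Nat.card {v // P v} ≤ n)
    (h : ∀ v, ρ a v = v → ∃ w x, P w ∧ v = w + (x + ρ a x)) : Nat.card {v // ρ a v = v} ^ 2 ≤ n * 2 ^ 20 := by
  choose w x h1 h2 using fun v : {v // ρ a v = v} => h v v.2
  have e1 := Nat.card_le_card_of_injective (β := {v // P v} × LinearMap.range (1 + ρ a))
    (fun v => (⟨w v, h1 v⟩, ⟨x v + ρ a (x v), x v, rfl⟩)) fun u v e => Subtype.ext (by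
      rw [h2 u, h2 v, show w u = w v from congrArg (·.1.1) e,
        show x u + ρ a (x u) = x v + ρ a (x v) from congrArg (·.2.1) e])
  have e2 := (LinearMap.ker (1 + ρ a)).card_eq_card_quotient_mul_card
  rw [Nat.card_congr (LinearMap.quotKerEquivRange _).toEquiv, card_V20,
    ← Nat.card_congr (Equiv.subtypeEquivRight (p := fun v => ρ a v = v) fun v => by
      change _ ↔ v + ρ a v = 0
      exact ⟨fun e => by rw [e, vv], fun e => add_left_cancel (e.trans (vv v).symm)⟩)] at e2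
  rw [Nat.card_prod] at e1
  rw [sq, e2, mul_comm _ (Nat.card (LinearMap.range _)), ← mul_assoc]
  exact Nat.mul_le_mul_right _ (e1.trans (Nat.mul_le_mul_right _ hP))

theorem inv_of {a : Γ} {p p' : V6} (ha : a * a = 1) (h1 : Commute (τ ι p * a) (τ ι p))
    (h2 : Commute (τ ι p * a) (τ ι p')) : a * (τ ι p * τ ι p') * a = (τ ι p * τ ι p')⁻¹ := by
  have e := (h1.mul_right h2).eq
  calc _ = (τ ι p)⁻¹ * (τ ι p * a * (τ ι p * τ ι p')) * a := by group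
    _ = τ ι p' * τ ι p * (a * a) := by rw [e]; group
    _ = _ := by rw [ha, mul_one, mul_inv_rev, τ_inv, τ_inv]

theorem ι_comm {g : SU6} {p : V6} (hp : Iso p) (e : g.1 p = p) : Commute (ι g) (τ ι p) :=
  mul_inv_eq_iff_eq_mul.1 ((τ_conj g hp).trans (by rw [e]))

theorem fr_comm {r r' : Fin 3 → V6} (h : Fr r r') {i j : Fin 3} (e : i ≠ j) :
    Commute (τ ι (r i)) (tf ι r r' j) ∧ Commute (τ ι (r' i)) (tf ι r r' j) :=
  ⟨(τ_comm (h.hy i).1 (h.hy j).1 (h.pp i j)).mul_right (τ_comm (h.hy i).1 (h.hy j).2.1 (h.pq i j e)),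
    (τ_comm (h.hy i).2.1 (h.hy j).1 (B6_comm.1 (h.pq j i e.symm))).mul_right (τ_comm (h.hy i).2.1 (h.hy j).2.1 (h.qq i j))⟩

theorem tf_comm {r r' : Fin 3 → V6} (h : Fr r r') {i j : Fin 3} (e : i ≠ j) : Commute (tf ι r r' i) (tf ι r r' j) :=
  (fr_comm h e).1.mul_left (fr_comm h e).2

theorem tf_conj {p p' r r' : Fin 3 → V6} (h : Fr p p') (h' : Fr r r') {g : SU6} {i : Fin 3}
    (e : Pr (g.1 (p i)) (r i) ∧ Pr (g.1 (p' i)) (r' i)) : ι g * tf ι p p' i * (ι g)⁻¹ = tf ι r r' i := by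
  rw [← conj_mul, τ_conj g (h.hy i).1, τ_conj g (h.hy i).2.1, e.1.τ_eq (h'.hy i).1, e.2.τ_eq (h'.hy i).2.1]

theorem fix_of_inv {δ t : Γ} {v : V20} (ht : t ^ 3 = 1) (e : δ * t * δ = t⁻¹) (h1 : ρ δ v = v)
    (h2 : ρ δ (ρ t v) = ρ t v) : ρ t v = v := by
  have h3 : ρ t (ρ t v) = v := by
    rw [← h2]
    conv_lhs => rw [← h1, ← ρ_mul δ, ← ρ_mul (δ * t), e, ρ_ρ_inv]
  conv_rhs => rw [← ρ_one (ρ := ρ) v, ← ht, pow_three, ρ_mul, ρ_mul, h3]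

end Mc

open Mc

theorem mc (h : UA ι) (uc : UC ι) (ma : MA ι ρ) : MC ι ρ := by
  refine ⟨fun p hp => ?_, fun a ha a2 a1 hc => ?_, fun p p' a v hf a2 e hv => ?_, fun γ p p' g4 hy c1 c2 hγ => ?_⟩
  · obtain ⟨p', h1, h2⟩ := herm6.exists_hyperbolic hp.1 hp.2
    have hy : Hy p p' := ⟨hp, ⟨fun e => by simp [e] at h2, h1⟩, h2 ▸ one_ne_zero⟩
    have := count (a := τ ι p) (ma.cnt1 p p' hy) fun v hv =>
      let ⟨w, x, e1, e2, _⟩ := dec3 (τ_sq p) (τ_cube hy) (inv_of (τ_sq p) (by simp [τ_sq]) (by simp [τ_sq])) hv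
      ⟨w, x, e2, e1⟩
    have := (Nat.pow_le_pow_iff_left (n := 2) (by omega)).1 (this.trans_eq (show _ = (2 ^ 14) ^ 2 by norm_num))
    omega
  · obtain ⟨g, g2, rfl⟩ := h.lift ha a2
    obtain ⟨p, p', hy, f1, f2, f3⟩ := up_inv1 g g2 fun e => a1 (by rw [e, map_one])
    by_cases e : ta p * g = 1
    · exact ⟨p, hy.1, by rw [eq_inv_of_mul_eq_one_right e, map_inv]; exact τ_inv p⟩
    obtain ⟨s, s', hs, b1, b2, b3, b4, f4, f5⟩ := up_inv2 _ p p' f3 e hy f1 f2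
    obtain ⟨r, r', hf, rfl, rfl, rfl, rfl⟩ := ue.fr2 p p' s s' hy hs b1 b2 b3 b4
    have i0 := inv_of (ι := ι) a2 (map_mul ι _ _ ▸ ι_comm hy.1 f1)
      (map_mul ι _ _ ▸ ι_comm hy.2.1 f2)
    have k : τ ι (r 1) * ι g = τ ι (r 0) * ι (ta (r 1) * (ta (r 0) * g)) := by
      rw [map_mul, map_mul, ← mul_assoc, ← mul_assoc]
      change _ = τ ι (r 0) * τ ι (r 1) * τ ι (r 0) * _
      rw [(τ_comm hy.1 hs.1 b1).eq, mul_assoc (τ ι (r 1)), τ_sq, mul_one]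
    have i1 := inv_of (ι := ι) a2 (k ▸ (τ_comm hy.1 hs.1 b1).mul_left (ι_comm hs.1 f4))
      (k ▸ (τ_comm hy.1 hs.2.1 b2).mul_left (ι_comm hs.2.1 f5))
    have := count (a := ι g) (ma.cnt2 r r' hf) fun v hv => by
      obtain ⟨w, x, e1, e2, e3, -⟩ := dec3 a2 (τ_cube hy) i0 hv
      obtain ⟨w', x', e4, e5, -, e6⟩ := dec3 a2 (τ_cube hs) i1 e3
      exact ⟨w', x' + x, ⟨e6 _ (tf_comm hf (by decide)) e2, e5⟩, by rw [e1, e4, map_add]; abel⟩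
    have := (Nat.pow_le_pow_iff_left (n := 2) (by omega)).1 (this.trans_eq (show _ = (2 ^ 12) ^ 2 by norm_num))
    omega
  · obtain ⟨w, x, e1, e2, e3, -⟩ := dec3 a2 (τ_cube (hf.hy 0)) (e 0) hv
    obtain ⟨w', x', e4, e5, e6, e7⟩ := dec3 a2 (τ_cube (hf.hy 1)) (e 1) e3
    obtain ⟨w'', x'', e8, e9, -, e10⟩ := dec3 a2 (τ_cube (hf.hy 2)) (e 2) e6
    obtain rfl := ma.fr0 p p' w'' hf fun i => by
      fin_cases i
      exacts [e10 _ (tf_comm hf (by decide)) (e7 _ (tf_comm hf (by decide)) e2), e10 _ (tf_comm hf (by decide)) e5, e9]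
    exact ⟨x'' + x' + x, by rw [e1, e4, e8, map_add, map_add]; abel⟩
  obtain ⟨v, hv, v0⟩ : ∃ v, ρ (τ ι p * τ ι p') v = v ∧ v ≠ 0 := by
    obtain ⟨v, h1, h2⟩ := ma.mg
    obtain ⟨r, r', hf, rfl, rfl⟩ := ue.fr1 p p' hy
    obtain ⟨g, hg⟩ := Uw.frT (ue.std.perm (Equiv.swap 0 1)) hf
    refine ⟨ρ (ι g) v, ?_, fun e => h2 ?_⟩
    · change ρ (tf ι r r' 0) _ = _
      rw [← tf_conj (ue.std.perm (Equiv.swap 0 1)) hf (hg 0), ρ_mul, ρ_inv_ρ, ρ_mul]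
      change ρ _ (ρ (τ ι (vc .d1) * τ ι (vc .c1)) v) = _
      rw [ρ_mul, h1 _ (by simp), h1 _ (by simp)]
    · rw [← ρ_inv_ρ (ρ := ρ) (ι g) v, e]; simp
  have z : ∀ r r', Fr r r' → r 0 = p → r' 0 = p' → ρ (tf ι r r' 1) v = v → ρ (tf ι r r' 2) v = v → False := by
    rintro r r' hf rfl rfl h1 h2
    refine v0 (ma.fr0 r r' v hf fun i => ?_)
    fin_cases i
    exacts [hv, h1, h2]
  obtain ⟨s, f, R, -⟩ := h.exists_rp γ
  refine uc.cen γ p p' g4 hy c1 c2 fun x hx b1 b2 => ?_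
  have hx' := R.iso_map hx
  have b3 : B6 p (f x) = 0 := ((h.pr_of_comm R hy.1 c1).B_left _).1 (R.B_zero.2 b1)
  have b4 : B6 p' (f x) = 0 := ((h.pr_of_comm R hy.2.1 c2).B_left _).1 (R.B_zero.2 b2)
  have d : ∀ w, ρ (τ ι p * τ ι p') w = w → ρ (τ ι (f x) * τ ι x) w = w := fun w hw => by
    have := hγ _ (fix_comm ((τ_comm hy.1 hx b1).mul_left (τ_comm hy.2.1 hx b2)) hw)
    rw [← R.act x hx, ρ_mul, ρ_mul, ρ_mul, ← this, ρ_inv_ρ, ← ρ_mul (τ ι x), τ_sq, ρ_one, hγ w hw]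
  by_cases e : Pr x (f x)
  · exact mul_inv_eq_iff_eq_mul.1 ((R.act x hx).trans (e.τ_eq hx').symm)
  exfalso
  by_cases b : B6 (f x) x = 0
  · obtain ⟨r, r', hf, rfl, rfl, rfl, e2⟩ := ue.fr3 p p' x (f x) hy hx hx' b1 b3 b2 b4 (B6_comm.1 b) e
    have c := τ_comm (ι := ι) hx' hx b
    have d2 : τ ι (f (r 1)) * τ ι (r 1) * (τ ι (f (r 1)) * τ ι (r 1)) = 1 := by
      rw [c.symm.mul_mul_mul_comm, τ_sq, τ_sq, mul_one]
    refine z r r' hf rfl rfl (fix_of_inv (τ_cube (hf.hy 1)) (inv_of d2 ?_ ?_) (d v hv)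
      (d _ (fix_comm (tf_comm hf (by decide)) hv))) (fix_of_inv (τ_cube (hf.hy 2)) (inv_of d2 ?_ ?_) (d v hv)
        (d _ (fix_comm (tf_comm hf (by decide)) hv)))
    · rw [c.eq, ← mul_assoc, τ_sq, one_mul]; exact c
    · rw [c.eq, ← mul_assoc, τ_sq, one_mul, ← e2]
      exact τ_comm (hf.hy 2).1 (hf.hy 1).2.1 (hf.pq 2 1 (by decide))
    · rw [e2, ← mul_assoc, τ_sq, one_mul]; exact c.symm
    · rw [e2, ← mul_assoc, τ_sq, one_mul]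
      exact τ_comm (hf.hy 1).1 (hf.hy 2).2.1 (hf.pq 1 2 (by decide))
  · obtain ⟨r, r', hf, rfl, rfl, e1, e2⟩ := ue.fr2 p p' (f x) x hy ⟨hx', hx, b⟩ b3 b1 b4 b2
    rw [← e1, ← e2] at d
    obtain ⟨g, hg⟩ := Uw.frT hf (hf.perm (Equiv.swap 1 2))
    have c0 : ι g * tf ι r r' 0 * (ι g)⁻¹ = tf ι r r' 0 := tf_conj hf (hf.perm (Equiv.swap 1 2)) (hg 0)
    have c1 : ι g * tf ι r r' 1 * (ι g)⁻¹ = tf ι r r' 2 := tf_conj hf (hf.perm (Equiv.swap 1 2)) (hg 1)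
    refine z r r' hf rfl rfl (d v hv) ?_
    rw [← c1, ρ_mul, ρ_mul, d _ (fix_comm (Commute.inv_right (mul_inv_eq_iff_eq_mul.1 c0).symm) hv), ρ_ρ_inv]

end CL.E6S
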