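/-
Centralisers `2^{1+20}.U₆(2)` and `2^{1+20}.U₆(2).2`: the ten nodes satisfy the relations of `Y₃₃₃`.
-/
import Cfsg.Agent.Spor.E6SC

set_option autoImplicit false

namespace CL.E6S

open Subgroup CL.Even CL.Grp CL.Uni CL.Rec CL.IN Cfsg Module Dat

universe u

variable {G Γ : Type u} [Group G] [Group Γ] {S : Dat G Γ}

local notation "lab" => Spor.coxLabel Spor.Bimonster.edges

theorem nd_iso (n : Nd) : Iso (vc n) := iso_dec (by cases n <;> decide)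

theorem nd_npr : ∀ m ∈ Spor.Bimonster.Gen.b3 :: I7, ∀ n ∈ Spor.Bimonster.Gen.b3 :: I7, m ≠ n → ¬ Pr (vc m) (vc n) := by
  unfold Pr; decide +kernel

theorem nd_lab : ∀ m ∈ Spor.Bimonster.Gen.b3 :: I7, ∀ n ∈ Spor.Bimonster.Gen.b3 :: I7,
    (lab m n = 2 → m ≠ n ∧ cB (cd m) (cd n) = 0) ∧ (lab m n = 3 → m ≠ n ∧ cB (cd m) (cd n) ≠ 0) := by decide +kernel

theorem nd_sym : ∀ m ∈ I10, ∀ n ∈ I10, lab m n = lab n m := by decide +kernel

theorem nd_tool (h : S.B4) {u u' y y' z : G} (C : S.Ch u u') (h1 : S.Sy u y) (h2 : S.Sy u y') (c1 : Commute y u')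
    (c2 : Commute y' u') (hz : z ∈ S.D) (cy : Commute y z) (cy' : Commute y' z) {p p' : V6} (ip : Iso p) (ip' : Iso p')
    (r1 : S.r z y = τ S.ι p) (r2 : S.r z y' = τ S.ι p') (np : ¬ Pr p p') :
    (B6 p p' = 0 → S.Sy y y') ∧ (B6 p p' ≠ 0 → S.OP y y') := by
  refine ⟨fun e => h.l8.sy _ _ _ _ C h1 h2 c1 c2 (fun e' => np (h.ua.τ_inj ip ip' (by rw [← r1, ← r2, e'])))
    (by_contra fun nc => np (h.ua.τ_inj ip ip' ?_)), fun e => h.l8.op _ _ _ _ C h1 h2 c1 c2 fun c =>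
      e ((h.ua.τ_comm_iff ip ip').1 (r1 ▸ r2 ▸ h.toSt.r_comm hz cy cy' c))⟩
  have k := h.toSt.r_pow hz (cy.mul_left cy') 3
  rw [(h.l8.op _ _ _ _ C h1 h2 c1 c2 nc).2.2.1, h.toSt.r_one hz, h.r_mul hz cy cy', r1, r2, pow_succ, pow_two,
    (τ_comm ip ip' e).symm.mul_mul_mul_comm, τ_sq, τ_sq, one_mul, one_mul, eq_comm, mul_eq_one_iff_eq_inv, τ_inv] at k
  exact k

theorem exists_nds (h : S.B4) {z : G} (hz : z ∈ S.D) : ∃ k l e, S.Nds k l e ∧ k .d3 = z := by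
  obtain ⟨z', C⟩ := h.exists_ch hz
  obtain ⟨φ, hφ⟩ := h.toSt.ch_hom C
  obtain ⟨v, v1, v2⟩ := h.ma.mg
  obtain ⟨e, e1, rfl⟩ := h.π_surj hz v
  let k : Nd → G := fun n => match n with
    | .d3 => z | .c3 => z' | .b3 => e * φ (τ S.ι (vc .b3)) * e⁻¹ | .f2 => 1 | .f3 => 1 | n => φ (τ S.ι (vc n))
  have hk : ∀ n ∈ I7, k n = φ (τ S.ι (vc n)) := by simp [k]
  refine ⟨k, φ (τ S.ι (vc .b3)), e, ⟨C, fun n hn => hk n hn ▸ (hφ _).1, fun n hn => hk n hn ▸ (hφ _).2.1,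
    fun n hn => hk n hn ▸ (hφ _).2.2, (hφ _).1, (hφ _).2.1, (hφ _).2.2, e1, rfl, fun n hn => ?_, v2, rfl, rfl⟩, rfl⟩
  rw [hk n (by revert n; decide)]
  exact h.lb.fix z _ e (C.tv _ _ (hφ _).1 (hφ _).2.1 (nd_iso n) (hφ _).2.2).1 e1 (by rw [(hφ _).2.2, v1 n hn])

theorem nd (h : S.B4) {k : Nd → G} {l e : G} (N : S.Nds k l e) : S.Cx k := by
  have s := h.toSt
  have hz := N.ch.op.1
  let R : Nd → Nd → Prop := fun m n => (lab m n = 2 → S.Sy (k m) (k n)) ∧ (lab m n = 3 → S.OP (k m) (k n))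
  have Rs : ∀ m ∈ I10, ∀ n ∈ I10, R m n → R n m := fun m hm n hn r =>
    ⟨fun e => s.sy_symm (r.1 ((nd_sym m hm n hn).trans e)), fun e => s.op_symm (r.2 ((nd_sym m hm n hn).trans e))⟩
  have t7 := fun n hn => N.ch.tv _ _ (N.cz n hn) (N.cz' n hn) (nd_iso n) (N.rn n hn)
  have tl := N.ch.tv _ _ N.lz N.lz' (nd_iso _) N.rl
  have ez := s.cQ hz N.eQ
  have sb : S.Sy (k .d3) (k .b3) := N.b3 ▸ s.sy_conj' tl.1 ez
  have rb : S.r (k .d3) (k .b3) = τ S.ι (vc .b3) := by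
    rw [N.b3, s.r_conj hz ez N.lz, s.r_Q hz N.eQ, N.rl, one_mul, inv_one, mul_one]
  have R7 : ∀ m ∈ I7, ∀ n ∈ I7, R m n := fun m hm n hn => by
    have k1 := nd_lab m (.tail _ hm) n (.tail _ hn)
    have k2 := fun e => nd_tool h N.ch (t7 m hm).1 (t7 n hn).1 (N.cz' m hm) (N.cz' n hn) hz (N.cz m hm) (N.cz n hn)
      (nd_iso m) (nd_iso n) (N.rn m hm) (N.rn n hn) (nd_npr m (.tail _ hm) n (.tail _ hn) e)
    exact ⟨fun e => (k2 (k1.1 e).1).1 (cB_eq_zero.1 (k1.1 e).2),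
      fun e => (k2 (k1.2 e).1).2 fun e' => (k1.2 e).2 (cB_eq_zero.2 e')⟩
  have s7 : ∀ m n, m ∈ I7 ∧ n ∈ I7 ∧ lab m n = 2 → S.Sy (k m) (k n) := fun m n e => (R7 m e.1 n e.2.1).1 e.2.2
  have sl : ∀ n ∈ ([.d1, .c1, .d2, .c2] : List Nd), S.Sy (k n) (k .b3) := fun n hn => by
    have k1 : n ∈ I7 ∧ n ≠ .b3 ∧ cB (cd n) (cd .b3) = 0 := by revert n; decide +kernel
    exact N.b3 ▸ s.sy_conj' ((nd_tool h N.ch (t7 n k1.1).1 tl.1 (N.cz' n k1.1) N.lz' hz (N.cz n k1.1) N.lz (nd_iso n)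
      (nd_iso _) (N.rn n k1.1) N.rl (nd_npr n (.tail _ k1.1) _ (.head _) k1.2.1)).1 (cB_eq_zero.1 k1.2.2)) (N.ce n hn)
  have cB := h.lc _ _ ((R7 .d1 (by decide) .c1 (by decide)).2 (by decide))
  have cC := h.lc _ _ ((R7 .d2 (by decide) .c2 (by decide)).2 (by decide))
  have tb : ∀ {u u'}, S.Ch u u' → S.Sy u (k .b3) → S.Sy u' (k .b3) → ∀ n ∈ I7, S.Sy u (k n) → S.Sy u' (k n) → R .b3 n :=
    fun C h1 h2 n hn h3 h4 => by
      have k1 := nd_lab .b3 (.head _) n (.tail _ hn)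
      have k2 := fun e => nd_tool h C h1 h3 h2.2.2.1.symm h4.2.2.1.symm hz sb.2.2.1.symm (N.cz n hn)
        (nd_iso _) (nd_iso n) rb (N.rn n hn) (nd_npr _ (.head _) n (.tail _ hn) e)
      exact ⟨fun e => (k2 (k1.1 e).1).1 (cB_eq_zero.1 (k1.1 e).2),
        fun e => (k2 (k1.2 e).1).2 fun e' => (k1.2 e).2 (cB_eq_zero.2 e')⟩
  have Rb : ∀ n ∈ I7, R .b3 n := by
    have k1 : ∀ n ∈ ([.d1, .c1, .d2, .c2] : List Nd), R .b3 n := fun n hn =>
      ⟨fun _ => s.sy_symm (sl n hn), fun e => absurd e (by revert n; decide)⟩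
    simp only [List.forall_mem_cons]
    exact ⟨tb cB (sl _ (by decide)) (sl _ (by decide)) _ (by decide) (s7 _ _ (by decide)) (s7 _ _ (by decide)),
      tb cC (sl _ (by decide)) (sl _ (by decide)) _ (by decide) (s7 _ _ (by decide)) (s7 _ _ (by decide)),
      k1 _ (by decide), k1 _ (by decide),
      tb cB (sl _ (by decide)) (sl _ (by decide)) _ (by decide) (s7 _ _ (by decide)) (s7 _ _ (by decide)),
      k1 _ (by decide), k1 _ (by decide), by simp⟩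
  have Rc : ∀ n ∈ I7, R .c3 n := fun n hn => ⟨fun _ => (t7 n hn).2, fun e => absurd e (by revert n; decide)⟩
  have Rd : ∀ n ∈ I7, R .d3 n := fun n hn => ⟨fun _ => (t7 n hn).1, fun e => absurd e (by revert n; decide)⟩
  have bc : R .b3 .c3 := ⟨fun e => absurd e (by decide), fun _ => h.l8.op _ _ _ _ cB (sl _ (by decide))
    (s.sy_symm (t7 _ (by decide)).2) (sl _ (by decide)).2.2.1.symm (t7 _ (by decide)).2.2.2.1 fun c => by
      have e1 := s.ch_ext N.ch sb.2.2.1.symm c N.lz N.lz' (rb.trans N.rl.symm)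
      rw [N.b3, mul_inv_eq_iff_eq_mul] at e1
      have e2 := s.fix_of_comm hz N.lz N.eQ (Commute.symm e1)
      rw [N.rl] at e2
      exact N.mg (by rw [e2, add_self_zmod2, map_zero])⟩
  have bd : R .d3 .b3 := ⟨fun _ => sb, fun e => absurd e (by decide)⟩
  have cd : R .d3 .c3 := ⟨fun e => absurd e (by decide), fun _ => N.ch.op⟩
  have dg : ∀ n, R n n := fun n => by
    have : lab n n = 1 := if_pos rfl
    exact ⟨fun e => by omega, fun e => by omega⟩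
  have sp : ∀ n ∈ I10, n ∈ I7 ∨ n = .b3 ∨ n = .c3 ∨ n = .d3 := by decide
  have all : ∀ m ∈ I10, ∀ n ∈ I10, R m n := fun m hm n hn => by
    rcases sp m hm with h1 | rfl | rfl | rfl <;> rcases sp n hn with h2 | rfl | rfl | rfl
    exacts [R7 m h1 n h2, Rs _ hn _ hm (Rb m h1), Rs _ hn _ hm (Rc m h1), Rs _ hn _ hm (Rd m h1), Rb n h2, dg _, bc,
      Rs _ hn _ hm bd, Rc n h2, Rs _ hn _ hm bc, dg _, Rs _ hn _ hm cd, Rd n h2, bd, cd, dg _]
  exact ⟨fun m hm n hn => (all m hm n hn).1, fun m hm n hn => (all m hm n hn).2⟩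

theorem cox_of_cx (h : S.St) {k : Nd → G} (C : S.Cx k) : Cox k := fun m hm n hn => by
  have hD : ∀ n ∈ I10, k n ∈ S.D := fun n hn => by
    obtain ⟨m, hm, e⟩ : ∃ m ∈ I10, lab n m = 2 := by revert n; decide
    exact (C.sy n hn m hm e).1
  have k1 : ∀ m ∈ I10, ∀ n ∈ I10, m = n ∨ lab m n = 2 ∨ lab m n = 3 := by decide +kernel
  rcases k1 m hm n hn with rfl | e | e
  · rw [show lab m m = 1 from if_pos rfl, pow_one, h.sq (hD m hm)]
  · rw [e, (C.sy m hm n hn e).2.2.1.mul_pow, pow_two, pow_two, h.sq (hD m hm), h.sq (hD n hn), one_mul]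
  · rw [e, (C.op m hm n hn e).2.2.1]

end CL.E6S
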