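/-
Centralisers `2^{1+20}.U₆(2)` and `2^{1+20}.U₆(2).2`: pure vectors, part A.
-/
import Cfsg.Agent.Spor.E6SC
import Cfsg.Agent.Spor.E6SUe
import Cfsg.Agent.Spor.E6SUw

set_option autoImplicit false

namespace CL.E6S

open Subgroup CL.Even CL.Grp CL.Uni CL.Rec CL.IN Cfsg Module

universe u

variable {Γ : Type u} [Group Γ] {ι : SU6 →* Γ} {ρ : Γ →* Module.End (ZMod 2) V20}
  {B : LinearMap.BilinForm (ZMod 2) V20} {q : V20 → ZMod 2}

namespace Pa

theorem im_im (g : SU6) (W : Submodule K4 V6) : im g⁻¹ (im g W) = W := by rw [← im_mul, inv_mul_cancel, im_one]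

theorem back (g : SU6) {W : Submodule K4 V6} {a : Γ} (ha : a ∈ AW ι (im g W)) : (ι g)⁻¹ * a * ι g ∈ AW ι W := by
  have := conj_mem_AW g⁻¹ ha
  rwa [im_im, map_inv, inv_inv] at this

theorem pv_im {W : Submodule K4 V6} {v : V20} (g : SU6) (h : PV ι ρ W v) : PV ι ρ (im g W) (ρ (ι g) v) := by
  refine ⟨fun e => h.1 (by rw [← ρ_inv_ρ (ρ := ρ) (ι g) v, e, map_zero]), fun a ha => ?_⟩
  have := congrArg (ρ (ι g)) (h.2 _ (back g ha))
  rwa [ρ_mul, ρ_mul, ρ_ρ_inv] at this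

theorem p0_im (o : OM ρ B q) {W : Submodule K4 V6} {v : V20} (g : SU6) (h : P0 ι ρ B q W v) :
    P0 ι ρ B q (im g W) (ρ (ι g) v) where
  pl := h.pl.im g
  pv := pv_im g h.pv
  uniq v' hv := by
    have := pv_im g⁻¹ hv
    rw [im_im] at this
    rw [← h.uniq _ this, map_inv, ρ_ρ_inv]
  q0 := (o.inv _ _).trans h.q0
  inj b hb a ha e := by
    have := h.inj (ρ (ι g)⁻¹ b) (by rwa [← o.B_map (ι g), ρ_ρ_inv]) _ (back g ha) (by rw [ρ_mul, ρ_mul, ρ_ρ_inv, e])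
    calc a = ι g * ((ι g)⁻¹ * a * ι g) * (ι g)⁻¹ := by group
      _ = 1 := by rw [this]; group

theorem fix_AW {W : Submodule K4 V6} {v : V20} (h : ∀ s ∈ W, Iso s → ρ (τ ι s) v = v) : ∀ a ∈ AW ι W, ρ a v = v := by
  intro a ha
  rw [AW_eq] at ha
  induction ha using closure_induction with
  | mem k hk => obtain ⟨s, h1, h2, rfl⟩ := hk; exact h s h1 h2
  | one => exact ρ_one v
  | mul a b _ _ h1 h2 => rw [ρ_mul, h2, h1]
  | inv a _ h1 => rw [← h1, ρ_inv_ρ, h1]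

theorem nofix (mb : MB ι ρ q) {v : V20} (h : ∀ s, Iso s → ρ (τ ι s) v = v) : v = 0 := by
  have h1 : ∀ g : SU6, ρ (ι g) v = v := fun g => fix_AW (W := ⊤) (fun s _ => h s) _ ⟨g, by
    rw [AS, show {g | ∃ v ∈ (⊤ : Submodule K4 V6), Iso v ∧ g = ta v} = {g : SU6 | ∃ v, Iso v ∧ g = ta v} by simp,
      closure_ta]
    exact mem_top g, rfl⟩
  by_contra h0
  rcases mb.irr (Submodule.span (ZMod 2) {v}) (fun g w hw => by
    obtain ⟨c, rfl⟩ := Submodule.mem_span_singleton.1 hw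
    rwa [map_smul, h1]) with e | e
  · exact h0 (Submodule.span_singleton_eq_bot.1 e)
  · have := finrank_span_singleton (K := ZMod 2) h0
    rw [e, finrank_top] at this
    simp at this

theorem decomp {W W' : Submodule K4 V6} (hW : Pl W) (hW' : Pl W') {p s : V6} (n : p ∉ W) (hp : p ∈ W')
    (h : ∀ w ∈ W, B6 p w = 0 → w ∈ W') (hs : s ∈ W') : ∃ l ∈ W, ∃ c : K4, s = l + c • p := by
  obtain ⟨w, hw, h1⟩ : ∃ w ∈ W, B6 w p ≠ 0 := by
    by_contra! e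
    exact n (ue.plM W p hW e)
  have h2 : B6 p w ≠ 0 := fun e => h1 (B6_comm.1 e)
  refine ⟨s - (B6 w s / B6 w p) • p, ue.plM W _ hW fun x hx => ?_, _, (sub_add_cancel _ _).symm⟩
  have h3 : x - (B6 p x / B6 p w) • w ∈ W' := h _ (W.sub_mem hx (W.smul_mem _ hw)) (by
    rw [map_sub, map_smul, smul_eq_mul, div_mul_cancel₀ _ h2, sub_self])
  have h4 := hW'.2 _ h3 _ (W'.sub_mem hs (W'.smul_mem (B6 w s / B6 w p) hp))
  have h5 : B6 w (s - (B6 w s / B6 w p) • p) = 0 := by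
    rw [map_sub, map_smul, smul_eq_mul, div_mul_cancel₀ _ h1, sub_self]
  rwa [map_sub B6, LinearMap.sub_apply, LinearMap.map_smulₛₗ₂, h5, smul_zero, sub_zero] at h4

theorem im_tt {W : Submodule K4 V6} (hW : Pl W) {p l : V6} {c : K4} (hc : c ≠ 0) (hl : l ∈ W) (hp : Iso p)
    (hs : Iso (l + c • p)) (e : B6 p (l + c • p) = 0) : im (ta p * ta (l + c • p)) W = W := by
  refine Submodule.eq_of_le_of_finrank_eq ?_ (finrank_im _ _)
  rintro _ ⟨x, hx, rfl⟩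
  have h1 : B6 (l + c • p) x = K4.bar c * B6 p x := by
    rw [map_add, LinearMap.add_apply, hW.2 l hl x hx, zero_add, LinearMap.map_smulₛₗ₂, smul_eq_mul]
  have h2 : (ta p).1 ((ta (l + c • p)).1 x) = x + (K4.bar c * B6 p x) • l := by
    rw [ta_apply hs, ta_apply hp, map_add (B6 p), map_smul, e, smul_zero, add_zero, h1, smul_add, smul_smul, add_assoc,
      add_assoc, ← add_smul, (by decide : ∀ c d : K4, c ≠ 0 → K4.bar c * d * c + d = 0) c _ hc, zero_smul, add_zero]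
  exact h2 ▸ W.add_mem hx (W.smul_mem _ hl)

variable (o : OM ρ B q) {W0 : Submodule K4 V6} {v0 : V20} (h0 : P0 ι ρ B q W0 v0)
include o h0

theorem ex {W : Submodule K4 V6} (hW : Pl W) : ∃ v, P0 ι ρ B q W v := by
  obtain ⟨g, rfl⟩ := (uw ue).plT _ _ h0.pl hW
  exact ⟨_, p0_im o g h0⟩

theorem p0 {W : Submodule K4 V6} (hW : Pl W) {v : V20} (h : PV ι ρ W v) : P0 ι ρ B q W v := by
  obtain ⟨u, hu⟩ := ex o h0 hW
  exact hu.uniq v h ▸ hu

theorem fix_im {W : Submodule K4 V6} (hW : Pl W) {v : V20} (h : PV ι ρ W v) {g : SU6} (e : im g W = W) :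
    ρ (ι g) v = v := (p0 o h0 hW h).uniq _ (e ▸ pv_im g h)

theorem move (mb : MB ι ρ q) {W : Submodule K4 V6} (hW : Pl W) {v : V20} (h : PV ι ρ W v) {p : V6} (hp : Iso p)
    (n : p ∉ W) : ρ (τ ι p) v ≠ v := fun e => h.1 (nofix mb fun s hs => by
  by_cases h1 : s ∈ W
  · exact h.2 _ (τ_mem_AW h1 hs)
  obtain ⟨g, h2, h3⟩ := (uw ue).plO W p s hW hp hs n h1
  have h4 := fix_im o h0 hW h h2
  rw [← h3.τ_eq hs, ← τ_conj g hp, ρ_mul, ρ_mul, ← h4, ρ_inv_ρ, e])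

theorem perp1 (h : UA ι) {W W' : Submodule K4 V6} (hW : Pl W) (hW' : Pl W') {v v' : V20} (h1 : PV ι ρ W v)
    (h2 : PV ι ρ W' v') (e : W ⊓ W' ≠ ⊥) : B v v' = 0 := by
  obtain ⟨p, hp, h3⟩ := Submodule.exists_mem_ne_zero_of_ne_bot e
  have h4 := hW.iso hp.1 h3
  by_contra h5
  exact h.τ_ne_one h4 ((p0 o h0 hW' h2).inj v h5 _ (τ_mem_AW hp.2 h4) (h1.2 _ (τ_mem_AW hp.1 h4)))

end Pa

open Pa in
theorem pa (h : UA ι) (o : OM ρ B q) (mb : MB ι ρ q) {W0 : Submodule K4 V6} {v0 : V20} (h0 : P0 ι ρ B q W0 v0) :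
    PA ι ρ B q where
  ex _ := ex o h0
  im _ _ g _ := pv_im g
  line W W' v p hW hW' hv hp n hp' hl := by
    refine ⟨fun e => move o h0 mb hW hv hp n (eq_of_add_eq_zero_zmod2 e).symm, fix_AW fun s hs hs' => ?_⟩
    obtain ⟨l, h1, c, rfl⟩ := decomp hW hW' n hp' hl hs
    by_cases hc : c = 0
    · rw [hc, zero_smul, add_zero] at hs hs' ⊢
      have h2 := hv.2 _ (τ_mem_AW (ι := ι) h1 hs')
      rw [map_add, ← ρ_mul, (τ_comm hs' hp (hW'.2 _ hs _ hp')).eq, ρ_mul, h2]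
    · have h2 := congrArg (ρ (τ ι p)) (fix_im o h0 hW hv (im_tt hW hc h1 hp hs' (hW'.2 _ hp' _ hs)))
      rw [map_mul, ← ρ_mul, ← mul_assoc] at h2
      rw [show τ ι p * ι (ta p) = 1 from τ_sq p, one_mul] at h2
      rw [map_add, ← h2, ← ρ_mul, show τ ι (l + c • p) * ι (ta (l + c • p)) = 1 from τ_sq _, ρ_one, add_comm]
      rfl
  inj W W' v hW hW' h1 h2 := by
    refine (Submodule.eq_of_le_of_finrank_eq (fun p hp => by_contra fun n => ?_) (hW'.1.trans hW.1.symm)).symm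
    have h3 := hW'.iso hp fun e => n (e ▸ W.zero_mem)
    exact move o h0 mb hW h1 h3 n (h2.2 _ (τ_mem_AW hp h3))
  perp W W' v v' hW hW' h1 h2 := by
    refine ⟨fun e h3 => h2.1 (o.hN _ fun y => ?_), perp1 o h0 h hW hW' h1 h2⟩
    have h4 : ∀ X u, Pl X → PV ι ρ X u → B u v' = 0 := fun X u hX hu => by
      by_cases h5 : X ⊓ W' = ⊥
      · obtain ⟨g, h6, h7⟩ := (uw ue).plD W W' X W' hW hW' hX hW' h3 h5
        rw [← (p0 o h0 hX hu).uniq _ (h6 ▸ pv_im g h1), ← fix_im o h0 hW' h2 h7, o.B_map, e]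
      · exact perp1 o h0 h hX hW' hu h2 h5
    set T : Set V20 := {u | ∃ X, Pl X ∧ PV ι ρ X u} with hT
    have h8 : ∀ g : SU6, Submodule.span (ZMod 2) T ≤ (Submodule.span (ZMod 2) T).comap (ρ (ι g)) := fun g =>
      Submodule.span_le.2 (by
        rintro u ⟨X, h5, h6⟩
        exact Submodule.subset_span (s := T) ⟨_, h5.im g, pv_im g h6⟩)
    have h9 : Submodule.span (ZMod 2) T ≤ LinearMap.ker (B.flip v') := Submodule.span_le.2 (by
      rintro u ⟨X, h6, h7⟩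
      exact h4 X u h6 h7)
    rcases mb.irr (Submodule.span (ZMod 2) T) (fun g w hw => h8 g hw) with h5 | h5
    · exact absurd ((Submodule.mem_bot _).1 (h5.le (Submodule.subset_span (s := T) ⟨W, hW, h1⟩))) h1.1
    · rw [o.B_symm]
      exact h9 (h5.ge Submodule.mem_top)

end CL.E6S
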