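/-
Centralisers `2^{1+20}.U₆(2)` (job E6S-UP2): the order of the group of a plane and the length of its orbits on planes.
-/
import Cfsg.Agent.Spor.E6SD

set_option autoImplicit false

namespace CL.E6S

open Subgroup CL.Even CL.Grp CL.Uni CL.Rec CL.IN Cfsg Module

theorem up2_span {K V : Type*} [Field K] [AddCommGroup V] [Module K V] [FiniteDimensional K V] (T : Submodule K V)
    (n : ℕ) : ∀ U : Submodule K V, U ≤ T → finrank K T ≤ finrank K U + n →
      ∃ y : Fin n → V, U ⊔ Submodule.span K (Set.range y) = T := by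
  induction n with
  | zero => exact fun U h1 h2 => ⟨Fin.elim0, by simpa using Submodule.eq_of_le_of_finrank_le h1 h2⟩
  | succ n ih =>
    intro U h1 h2
    rcases h1.eq_or_lt with rfl | h3
    · exact ⟨0, sup_eq_left.2 (Submodule.span_le.2 (Set.range_subset_iff.2 fun _ => U.zero_mem))⟩
    · obtain ⟨v, hv, hv'⟩ := SetLike.exists_of_lt h3
      have h4 : U < U ⊔ K ∙ v := lt_of_le_of_ne le_sup_left fun e =>
        hv' (e ▸ Submodule.mem_sup_right (Submodule.mem_span_singleton_self v))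
      have h5 := Submodule.finrank_lt_finrank_of_lt h4
      obtain ⟨y, hy⟩ := ih (U ⊔ K ∙ v) (sup_le h1 ((Submodule.span_singleton_le_iff_mem _ _).2 hv)) (by omega)
      exact ⟨Fin.cons v y, by rw [Fin.range_cons, Submodule.span_insert, ← sup_assoc, hy]⟩

theorem up2_count {α β γ : Type*} [Finite β] (S : α → Prop) (f : α → γ) (φ : ∀ a, S a → β)
    (h : ∀ a ha b hb, φ a ha = φ b hb → f a = f b) : {x | ∃ a, S a ∧ x = f a}.ncard ≤ Nat.card β := by
  rw [← Nat.card_coe_set_eq]
  refine Nat.card_le_card_of_injective (fun x : {x | ∃ a, S a ∧ x = f a} => φ x.2.choose x.2.choose_spec.1)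
    fun x y e => Subtype.ext ?_
  rw [x.2.choose_spec.2, y.2.choose_spec.2]
  exact h _ _ _ _ e

/-- the hermitian form of an element fixing a plane pointwise -/
noncomputable def up2H (g : SU6) (x y : V6) : K4 := B6 x (g.1 y + y)

section
variable (ue : UE) {W : Submodule K4 V6} (hW : Pl W) {g g' : SU6} (hg : ∀ w ∈ W, g.1 w = w) (hg' : ∀ w ∈ W, g'.1 w = w)
include ue hW hg

theorem up2_mem (x : V6) : g.1 x + x ∈ W := ue.plM W _ hW fun w hw => by
  have := SUG_le_UG g.2 w x
  rw [hg w hw] at this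
  rw [map_add, this, add_self K4.isBar]

theorem up2_sq (x : V6) : g.1 (g.1 x) = x := by
  have := hg _ (up2_mem ue hW hg x)
  rw [map_add, add_comm (g.1 x) x] at this
  exact add_right_cancel this

theorem up2_herm (x y : V6) : K4.bar (up2H g x y) = up2H g y x := by
  have := SUG_le_UG g.2 y (g.1 x)
  rw [up2_sq ue hW hg] at this
  rw [up2H, up2H, herm6.symm, map_add, map_add, LinearMap.add_apply, this]

include hg'

theorem up2_mem' (x : V6) : g.1 x + g'.1 x ∈ W := by
  have := W.add_mem (up2_mem ue hW hg x) (up2_mem ue hW hg' x)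
  rwa [add_add_add_comm, vadd_self K4.isBar x, add_zero] at this

theorem up2_key {n : ℕ} {y : Fin n → V6} {U : Submodule K4 V6} (hU : U ≤ W)
    (h : ∀ i j, i ≤ j → up2H g (y i) (y j) = up2H g' (y i) (y j)) :
    ∀ x ∈ U ⊔ Submodule.span K4 (Set.range y), ∀ z ∈ U ⊔ Submodule.span K4 (Set.range y),
      B6 z (g.1 x + g'.1 x) = 0 := by
  have h1 : ∀ i j, up2H g (y i) (y j) = up2H g' (y i) (y j) := fun i j => (le_total i j).elim (h i j) fun e => by
    rw [← up2_herm ue hW hg, ← up2_herm ue hW hg', h j i e]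
  have h2 : U ⊔ Submodule.span K4 (Set.range y) ≤ (perp B6 (U ⊔ Submodule.span K4 (Set.range y))).comap
      ((g.1 : V6 →ₗ[K4] V6) + (g'.1 : V6 →ₗ[K4] V6)) := by
    refine sup_le (fun x hx => ?_) (Submodule.span_le.2 (Set.range_subset_iff.2 fun j => ?_))
    · show g.1 x + g'.1 x ∈ perp B6 _
      rw [hg x (hU hx), hg' x (hU hx), vadd_self K4.isBar]
      exact Submodule.zero_mem _
    · show g.1 (y j) + g'.1 (y j) ∈ perp B6 _
      rw [perp_sup]
      refine ⟨mem_perp.2 fun w hw => hW.2 w (hU hw) _ (up2_mem' ue hW hg hg' _), mem_perp_span.2 ?_⟩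
      rintro _ ⟨i, rfl⟩
      have := h1 i j
      rw [up2H, up2H, map_add, map_add, add_left_inj] at this
      rw [map_add, this, add_self K4.isBar]
  exact fun x hx => mem_perp.1 (h2 hx)

end

theorem up2_card : Nat.card {c : K4 // K4.bar c = c} = 2 ∧ Nat.card K4 = 4 := by
  rw [Nat.card_eq_fintype_card, Nat.card_eq_fintype_card]
  exact ⟨by decide, rfl⟩

theorem up_cardAS (ue : UE) (hm : ∀ W (g : SU6), Pl W → (g ∈ AS W ↔ ∀ w ∈ W, g.1 w = w)) :
    ∀ W, Pl W → Nat.card (AS W) ≤ 512 := by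
  intro W hW
  obtain ⟨y, hy⟩ := up2_span ⊤ 3 W le_top (by rw [finrank_top, finrank6, hW.1])
  have hf : ∀ g : AS W, ∀ w ∈ W, g.1.1 w = w := fun g => (hm W g hW).1 g.2
  let φ : AS W → ({c : K4 // K4.bar c = c} × {c : K4 // K4.bar c = c} × {c : K4 // K4.bar c = c}) × K4 × K4 × K4 :=
    fun g => ((⟨_, up2_herm ue hW (hf g) (y 0) (y 0)⟩, ⟨_, up2_herm ue hW (hf g) (y 1) (y 1)⟩,
      ⟨_, up2_herm ue hW (hf g) (y 2) (y 2)⟩), up2H g (y 0) (y 1), up2H g (y 0) (y 2), up2H g (y 1) (y 2))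
  have h1 : Function.Injective φ := fun g g' e => by
    simp only [φ, Prod.mk.injEq, Subtype.mk.injEq] at e
    have h2 := up2_key ue hW (hf g) (hf g') (y := y) le_rfl fun i j hij => by
      fin_cases i <;> fin_cases j <;> simp_all
    rw [hy] at h2
    refine Subtype.ext (Subtype.ext (LinearEquiv.ext fun x => ?_))
    have h3 := herm6.nondeg' _ fun z => h2 x trivial z trivial
    rw [← add_zero (g.1.1 x), ← vadd_self K4.isBar (g'.1.1 x), ← add_assoc, h3, zero_add]
  have := Nat.card_le_card_of_injective φ h1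
  simpa only [Nat.card_prod, up2_card.1, up2_card.2] using this

theorem up_orb (ue : UE) (hm : ∀ W (g : SU6), Pl W → (g ∈ AS W ↔ ∀ w ∈ W, g.1 w = w)) :
    ∀ W W', Pl W → Pl W' → W ⊓ W' ≠ ⊥ → {X | ∃ g ∈ AS W, X = im g W'}.ncard ≤ 16 := by
  intro W W' hW hW' h0
  obtain ⟨y, hy⟩ := up2_span W' 2 (W ⊓ W') inf_le_right (by
    have := Submodule.finrank_eq_zero.not.2 h0
    rw [hW'.1]; omega)
  have hf : ∀ g ∈ AS W, ∀ w ∈ W, g.1 w = w := fun g => (hm W g hW).1
  have key : ∀ g ∈ AS W, ∀ g' ∈ AS W, (∀ i j, i ≤ j → up2H g (y i) (y j) = up2H g' (y i) (y j)) →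
      im g' W' ≤ im g W' := by
    rintro g hg g' hg' h _ ⟨x, hx, rfl⟩
    have h2 := up2_key ue hW (hf g hg) (hf g' hg') (y := y) (U := W ⊓ W') inf_le_left h
    rw [hy] at h2
    refine ⟨x + (g.1 x + g'.1 x), W'.add_mem hx (ue.plM W' _ hW' (h2 x hx)), ?_⟩
    show g.1 _ = g'.1 x
    rw [map_add, hf g hg _ (up2_mem' ue hW (hf g hg) (hf g' hg') x), ← add_assoc, vadd_self K4.isBar, zero_add]
  have := up2_count (β := ({c : K4 // K4.bar c = c} × {c : K4 // K4.bar c = c}) × K4) (· ∈ AS W) (fun g => im g W')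
    (fun g hg => ((⟨_, up2_herm ue hW (hf g hg) (y 0) (y 0)⟩, ⟨_, up2_herm ue hW (hf g hg) (y 1) (y 1)⟩),
      up2H g (y 0) (y 1))) fun g hg g' hg' e => by
      simp only [Prod.mk.injEq, Subtype.mk.injEq] at e
      have h : ∀ i j, i ≤ j → up2H g (y i) (y j) = up2H g' (y i) (y j) := fun i j hij => by
        fin_cases i <;> fin_cases j <;> simp_all
      exact le_antisymm (key g' hg' g hg fun i j hij => (h i j hij).symm) (key g hg g' hg' h)
  simpa only [Nat.card_prod, up2_card.1, up2_card.2] using this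

end CL.E6S
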