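/-
Centralisers `2^{1+20}.U₆(2)` (job E6S-PB): pure vectors, part B.
-/
import Cfsg.Agent.Spor.E6SC
import Cfsg.Agent.Spor.E6SUe
import Cfsg.Agent.Spor.E6SUp1
import Cfsg.Agent.Spor.E6SUp2

set_option autoImplicit false

namespace CL.E6S

open Subgroup CL.Even CL.Grp CL.Uni CL.Rec CL.IN Cfsg Module

universe u

namespace Pb

variable {W W' W'' : Submodule K4 V6} {p : V6}

theorem vv (v : V20) : v + v = 0 := funext fun i => (by decide : ∀ x : ZMod 2, x + x = 0) (v i)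

theorem third (hW : Pl W) (hp : Iso p) : ∃ X, Pl X ∧ p ∈ X ∧ ∀ w ∈ W, B6 p w = 0 → w ∈ X := by
  obtain ⟨X, h1, h2⟩ := ue.plE ((W ⊓ perp B6 (K4 ∙ p)) ⊔ K4 ∙ p) fun u hu v hv => by
    obtain ⟨a, ha, _, hb, rfl⟩ := Submodule.mem_sup.1 hu
    obtain ⟨b, rfl⟩ := Submodule.mem_span_singleton.1 hb
    obtain ⟨c, hc, _, hd, rfl⟩ := Submodule.mem_sup.1 hv
    obtain ⟨d, rfl⟩ := Submodule.mem_span_singleton.1 hd
    simp [hW.2 a ha.1 c hc.1, hp.2, mem_perp_singleton.1 hc.2, herm6.flip_zero (mem_perp_singleton.1 ha.2)]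
  exact ⟨X, h1, h2 (Submodule.mem_sup_right (Submodule.mem_span_singleton_self p)),
    fun w hw e => h2 (Submodule.mem_sup_left ⟨hw, mem_perp_singleton.2 e⟩)⟩

theorem rk_ge (L : Submodule K4 V6) (h : p ≠ 0) : finrank K4 L ≤ finrank K4 ↥(L ⊓ perp B6 (K4 ∙ p)) + 1 := by
  have h1 := Submodule.finrank_sup_add_finrank_inf_eq L (perp B6 (K4 ∙ p))
  have h2 := herm6.finrank_perp_singleton h
  have h3 := (L ⊔ perp B6 (K4 ∙ p)).finrank_le
  omega

theorem rk_lt (hW : Pl W) {X : Submodule K4 V6} (h : ¬ W ≤ X) : finrank K4 ↥(W ⊓ X) ≤ 2 := by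
  have := Submodule.finrank_lt_finrank_of_lt (inf_lt_left.2 h)
  rw [hW.1] at this
  omega

theorem ne_le (hW : Pl W) (hW' : Pl W') (h : W ≠ W') : ¬ W ≤ W' := fun e =>
  h (Submodule.eq_of_le_of_finrank_eq e (hW.1.trans hW'.1.symm))

theorem not_le_perp (hW : Pl W) (h : p ∉ W) : ¬ W ≤ perp B6 (K4 ∙ p) := fun e =>
  h (ue.plM W p hW fun _ hw => herm6.flip_zero (mem_perp_singleton.1 (e hw)))

/-- a plane that meets `W` in a line which does not contain `p` -/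
theorem opp (hW : Pl W) (hp : p ∈ W) (p0 : p ≠ 0) : ∃ X p', Pl X ∧ p' ≠ 0 ∧ B6 p' p ≠ 0 ∧ p ∉ X ∧
    W ⊓ perp B6 (K4 ∙ p') ≤ X ∧ ∀ x ∈ X, B6 p x = 0 → x ∈ W ∧ B6 p' x = 0 := by
  obtain ⟨p', h1, h2⟩ := herm6.exists_hyperbolic p0 (hW.2 p hp p hp)
  have h3 : p' ≠ 0 := fun e => by simp [e] at h2
  obtain ⟨X, h4, h5, h6⟩ := third hW ⟨h3, h1⟩
  have h7 : W ⊓ perp B6 (K4 ∙ p') ≤ X := fun x hx => h6 x hx.1 (mem_perp_singleton.1 hx.2)
  refine ⟨X, p', h4, h3, by simp [herm6.flip_one h2], fun e => by simp [h4.2 p e p' h5] at h2, h7, fun x hx e => ?_⟩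
  have h8 : W ⊓ perp B6 (K4 ∙ p') = X ⊓ perp B6 (K4 ∙ p) := Submodule.eq_of_le_of_finrank_le
    (le_inf h7 fun y hy => mem_perp_singleton.2 (hW.2 p hp y hy.1)) (by
      have := rk_ge W h3
      have := rk_lt h4 (X := perp B6 (K4 ∙ p)) fun e => by simp [mem_perp_singleton.1 (e h5)] at h2
      have := hW.1
      omega)
  exact (h8.ge ⟨hx, mem_perp_singleton.2 e⟩).imp_right mem_perp_singleton.1

theorem eq_span {L : Submodule K4 V6} (h : finrank K4 L ≤ 1) (hp : p ∈ L) (p0 : p ≠ 0) : (K4 ∙ p) = L :=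
  Submodule.eq_of_le_of_finrank_le ((Submodule.span_singleton_le_iff_mem _ _).2 hp) (by rwa [finrank_span_singleton p0])

theorem sup_eq (hW : Pl W) (hW' : Pl W') (h : (K4 ∙ p) = W ⊓ W') (p0 : p ≠ 0) : W ⊔ W' = perp B6 (K4 ∙ p) := by
  have hp := h.le (Submodule.mem_span_singleton_self p)
  refine Submodule.eq_of_le_of_finrank_le (sup_le (fun x hx => mem_perp_singleton.2 (hW.2 p hp.1 x hx))
    fun x hx => mem_perp_singleton.2 (hW'.2 p hp.2 x hx)) ?_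
  have h1 := Submodule.finrank_sup_add_finrank_inf_eq W W'
  have h2 := herm6.finrank_perp_singleton p0
  rw [← h, finrank_span_singleton p0, hW.1, hW'.1] at h1
  rw [finrank6] at h2
  omega

variable {Γ : Type u} [Group Γ] {ι : SU6 →* Γ} {ρ : Γ →* Module.End (ZMod 2) V20}
  {B : LinearMap.BilinForm (ZMod 2) V20} {q : V20 → ZMod 2} (o : OM ρ B q) (pa : PA ι ρ B q) {v v' : V20}
include pa

theorem uniq (hW : Pl W) (h : PV ι ρ W v) (h' : PV ι ρ W v') : v = v' := by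
  obtain ⟨u, hu⟩ := pa.ex W hW
  rw [hu.uniq v h, hu.uniq v' h']

theorem q0 (hW : Pl W) (h : PV ι ρ W v) : q v = 0 := by
  obtain ⟨u, hu⟩ := pa.ex W hW
  rw [hu.uniq v h, hu.q0]

theorem ne (hW : Pl W) (h : PV ι ρ W v) (h' : PV ι ρ W' v') (h'' : PV ι ρ W'' (v + v')) : W ≠ W' := by
  rintro rfl
  exact h''.1 (by rw [uniq pa hW h h', vv])

theorem two (hW : Pl W) (hW' : Pl W') (hW'' : Pl W'') (h : PV ι ρ W v) (h' : PV ι ρ W' v')
    (h'' : PV ι ρ W'' (v + v')) (e : finrank K4 ↥(W ⊓ W'') = 2) : finrank K4 ↥(W ⊓ W') = 2 := by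
  obtain ⟨s, h1, h2⟩ := SetLike.not_le_iff_exists.1 (ne_le hW'' hW fun k => by rw [k, inf_idem, hW.1] at e; omega)
  have h3 : Iso s := hW''.iso h1 fun k => h2 (k ▸ W.zero_mem)
  have h4 : W ⊓ W'' = W ⊓ perp B6 (K4 ∙ s) := Submodule.eq_of_le_of_finrank_le
    (inf_le_inf_left _ fun x hx => mem_perp_singleton.2 (hW''.2 s h1 x hx)) (e ▸ rk_lt hW (not_le_perp hW h2))
  have h5 := add_left_cancel (uniq pa hW'' h'' (pa.line W W'' v s hW hW'' h h3 h2 h1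
    fun w hw k => (h4.ge ⟨hw, mem_perp_singleton.2 k⟩).2))
  have h6 := pa.inj _ _ _ (hW.im (ta s)) hW' (pa.im W v (ta s) hW h) (h5 ▸ h')
  refine le_antisymm (rk_lt hW (ne_le hW hW' (ne pa hW h h' h''))) (e ▸ Submodule.finrank_mono fun x hx => ⟨hx.1, ?_⟩)
  exact h6.le ⟨x, hx.1, ta_fix h3 (hW''.2 s h1 x hx.2)⟩

include o

theorem meet (hW : Pl W) (hW' : Pl W') (hW'' : Pl W'') (h : PV ι ρ W v) (h' : PV ι ρ W' v')
    (h'' : PV ι ρ W'' (v + v')) : finrank K4 ↥(W ⊓ W') = 2 ∨ finrank K4 ↥(W ⊓ W') = 1 := by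
  have h1 := o.hq v v'
  rw [q0 pa hW h, q0 pa hW' h', q0 pa hW'' h'', zero_add, zero_add] at h1
  have h2 := Submodule.finrank_eq_zero.not.2 ((pa.perp W W' v v' hW hW' h h').1 h1.symm)
  have h3 := rk_lt hW (ne_le hW hW' (ne pa hW h h' h''))
  omega

theorem sum (hW : Pl W) (hW' : Pl W') (hW'' : Pl W'') (h : PV ι ρ W v) (h' : PV ι ρ W' v')
    (h'' : PV ι ρ W'' (v + v')) : finrank K4 ↥(W ⊓ W') = 2 := by
  refine (meet o pa hW hW' hW'' h h' h'').elim id fun e1 => ?_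
  refine (meet o pa hW hW'' hW' h h'' (by rwa [← add_assoc, vv, zero_add])).elim (two pa hW hW' hW'' h h' h'')
    fun e2 => ?_
  refine (meet o pa hW' hW'' hW h' h'' (by rwa [add_left_comm, vv, add_zero])).elim
    (fun e => inf_comm W W' ▸ two pa hW' hW hW'' h' h (by rwa [add_comm]) e) fun e3 => False.elim ?_
  obtain ⟨p, hp, p0⟩ := Submodule.exists_mem_ne_zero_of_ne_bot (p := W ⊓ W') fun e => by
    rw [e, finrank_bot] at e1; omega
  have ip := hW.iso hp.1 p0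
  have hp' : p ∈ W'' := by_contra fun n => by
    obtain ⟨X, h1, h2, h3⟩ := third hW'' ip
    refine (pa.line W'' X _ p hW'' h1 h'' ip n h2 h3).1 ?_
    rw [map_add, h.2 _ (τ_mem_AW hp.1 ip), h'.2 _ (τ_mem_AW hp.2 ip), vv]
  have s1 := eq_span e1.le hp p0
  have s2 := eq_span e2.le ⟨hp.1, hp'⟩ p0
  have s3 := eq_span e3.le ⟨hp.2, hp'⟩ p0
  have key : ∀ u ∈ W, ∀ u' ∈ W', u + u' ∈ W'' → B6 u u' = 0 := fun u hu u' hu' hy => by
    by_cases n : u' ∈ W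
    · exact hW.2 u hu u' n
    obtain ⟨s, h1, h2⟩ := SetLike.not_le_iff_exists.1 fun e : W ⊓ perp B6 (K4 ∙ u') ≤ K4 ∙ p => by
      have := Submodule.finrank_mono e
      have := rk_ge W (p := u') fun k => n (k ▸ W.zero_mem)
      have := finrank_span_singleton (K := K4) p0
      have := hW.1
      omega
    have is : Iso s := hW.iso h1.1 fun k => h2 (k ▸ Submodule.zero_mem _)
    have h3 := herm6.flip_zero (mem_perp_singleton.1 h1.2)
    obtain ⟨X, a1, a2, a3⟩ := third hW' is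
    obtain ⟨X', b1, b2, b3⟩ := third hW'' is
    have h4 := pa.line W'' X' _ s hW'' b1 h'' is (fun k => h2 (s2.ge ⟨h1.1, k⟩)) b2 b3
    rw [map_add, h.2 _ (τ_mem_AW h1.1 is), add_add_add_comm, vv, zero_add] at h4
    obtain rfl := pa.inj _ _ _ a1 b1 (pa.line W' X _ s hW' a1 h' is (fun k => h2 (s1.ge ⟨h1.1, k⟩)) a2 a3) h4
    have h5 := a3 u' hu' h3
    exact a1.2 u ((X.add_mem_iff_left h5).1 (b3 _ hy (by rw [map_add, hW.2 s h1.1 u hu, h3, add_zero]))) u' h5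
  obtain ⟨y, h1, h2⟩ := SetLike.not_le_iff_exists.1 (ne_le hW'' hW' fun k => by rw [k, inf_idem, hW'.1] at e3; omega)
  obtain ⟨u, hu, u', hu', rfl⟩ := Submodule.mem_sup.1
    ((sup_eq hW hW' s1 p0).ge (mem_perp_singleton.2 (hW''.2 p hp' y h1)))
  refine h2 (W'.add_mem (ue.plM W' u hW' fun x hx => herm6.flip_zero ?_) hu')
  obtain ⟨a, ha, y, hy, rfl⟩ := Submodule.mem_sup.1
    ((sup_eq hW hW'' s2 p0).ge (mem_perp_singleton.2 (hW'.2 p hp.2 x hx)))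
  have h3 : a + (a + y) ∈ W'' := by rwa [← add_assoc, vadd_self K4.isBar, zero_add]
  generalize a + y = x at hx h3
  have h4 : ∀ c : K4, c * B6 u x + K4.bar c * B6 a u' = 0 := fun c => by
    have := key _ (W.add_mem hu (W.smul_mem c ha)) _ (W'.add_mem hu' (W'.smul_mem c hx))
      (by rw [add_add_add_comm, ← smul_add]; exact W''.add_mem h1 (W''.smul_mem c h3))
    simpa [key u hu u' hu' h1, key a ha x hx h3, add_comm] using this
  exact (by decide : ∀ a b : K4, (∀ c : K4, c * a + K4.bar c * b = 0) → a = 0) _ _ h4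

end Pb

variable {Γ : Type u} [Group Γ] {ι : SU6 →* Γ} {ρ : Γ →* Module.End (ZMod 2) V20}
  {B : LinearMap.BilinForm (ZMod 2) V20} {q : V20 → ZMod 2}

theorem pb (_h : UA ι) (o : OM ρ B q) (pa : PA ι ρ B q) : PB ι ρ B where
  sum _ _ _ _ _ := Pb.sum o pa
  col W W' v v' hW hW' h h' e := by
    obtain ⟨p, hp, p0⟩ := Submodule.exists_mem_ne_zero_of_ne_bot (p := W ⊓ W') fun k => by
      rw [k, finrank_bot] at e; omega
    obtain ⟨X, p', h1, h2, -, h3, h4, h5⟩ := Pb.opp hW' hp.2 p0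
    obtain ⟨w, hw⟩ := pa.ex X h1
    have ip := hW.iso hp.1 p0
    refine ⟨_, τ_mem_AW hp.1 ip, w, (pa.perp X W w v h1 hW hw.pv h).2 fun k => ?_,
      Pb.uniq pa hW' h' (pa.line X W' w p h1 hW' hw.pv ip h3 hp.2 fun x hx k => (h5 x hx k).1)⟩
    have h6 := Pb.rk_ge (W ⊓ W') h2
    have h7 := Submodule.finrank_mono (show W ⊓ W' ⊓ perp B6 (K4 ∙ p') ≤ X ⊓ W from fun x hx => ⟨h4 ⟨hx.1.2, hx.2⟩, hx.1.1⟩)
    rw [k, finrank_bot] at h7
    omega
  far W W' v v' hW hW' h h' e := by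
    obtain ⟨p, hp, p0⟩ := Submodule.exists_mem_ne_zero_of_ne_bot (p := W ⊓ W') fun k => by
      rw [k, finrank_bot] at e; omega
    obtain ⟨X, p', h1, h2, h0, h3, h4, h5⟩ := Pb.opp hW hp.1 p0
    obtain ⟨w, hw⟩ := pa.ex X h1
    refine ⟨X, w, h1, hw.pv, le_antisymm (Pb.rk_lt hW fun k => h3 (k hp.1)) ?_, fun k =>
      (pa.perp X W' w v' h1 hW' hw.pv h').1 k (eq_bot_iff.2 fun x hx => ?_)⟩
    · have h6 := Pb.rk_ge W h2
      have h7 := Submodule.finrank_mono (le_inf inf_le_left h4)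
      have := hW.1
      omega
    · obtain ⟨h6, h7⟩ := h5 x hx.1 (hW'.2 p hp.2 x hx.2)
      obtain ⟨c, rfl⟩ := Submodule.mem_span_singleton.1 ((Pb.eq_span e.le hp p0).ge ⟨h6, hx.2⟩)
      simp only [map_smul, smul_eq_mul, mul_eq_zero, h0, or_false] at h7
      simp [h7]
  orb W W' v' hW hW' e h' := by
    classical
    refine le_trans (le_trans (Set.ncard_le_ncard ?_ ((Set.toFinite _).image _)) (Set.ncard_image_le (Set.toFinite _)
      (f := fun X => if k : Pl X then (pa.ex X k).choose else 0))) (up_orb ue (up_memAS ue) W W' hW hW' e)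
    rintro _ ⟨_, ⟨g, hg, rfl⟩, rfl⟩
    exact ⟨_, ⟨g, hg, rfl⟩, by
      simp only [dif_pos (hW'.im g)]
      exact ((pa.ex _ (hW'.im g)).choose_spec.uniq _ (pa.im W' v' g hW' h')).symm⟩

end CL.E6S
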