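/-
Centralisers `2^{1+20}.U₆(2)` and `2^{1+20}.U₆(2).2`: the spider relation.
-/
import Cfsg.Agent.Spor.E6SC

set_option autoImplicit false

namespace CL.E6S

open Subgroup CL.Even CL.Grp CL.Uni CL.Rec CL.IN Cfsg Module

universe u

namespace Spd

theorem prod_dec (L : List ℕ) (hL : ∀ n ∈ L, cIso n = true) (m : ℕ) :
    (L.map fun n => ta (dec n)).prod.1 (dec m) = dec (L.foldr ctv m) := by
  induction L with
  | nil => rfl
  | cons n L ih =>
    rw [List.map_cons, List.prod_cons, List.foldr_cons, dec_ctv, ← ih fun a ha => hL a (List.mem_cons_of_mem _ ha)]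
    exact ta_apply (iso_dec (hL n List.mem_cons_self)) _

theorem perm_codes : ∀ j : Fin 6, ((thL ++ w5L).map cd).foldr ctv (4 ^ j.1) = [272, 1088].foldr ctv (4 ^ j.1) := by
  decide +kernel

theorem perm_eq : ((thL ++ w5L).map fun n => ta (vc n)).prod = ta (dec 272) * ta (dec 1088) := by
  refine Subtype.ext (LinearEquiv.toLinearMap_injective ((Pi.basisFun K4 (Fin 6)).ext fun j => ?_))
  have h0 : ∀ j : Fin 6, Pi.single j 1 = dec (4 ^ j.1) := by decide +kernel
  have h1 := prod_dec ((thL ++ w5L).map cd) (by decide +kernel) (4 ^ j.1)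
  have h2 := prod_dec [272, 1088] (by decide +kernel) (4 ^ j.1)
  rw [List.map_map, perm_codes j, ← h2, List.map_cons, List.map_cons, List.map_nil, List.prod_cons, List.prod_cons,
    List.prod_nil, mul_one] at h1
  rw [Pi.basisFun_apply, h0]
  exact h1

theorem br_conj {G : Type*} [Group G] {x y : G} (h : BM.Br x y) : y * x * y * (y * x)⁻¹ = x := by
  rw [show y * x * y = x * y * x from h.symm]; group

variable {G Γ : Type u} [Group G] [Group Γ] {S : Dat G Γ} {k : Nd → G} {l e : G}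

theorem sy (C : S.Cx k) (m n : Nd) (h : m ∈ Dat.I10 ∧ n ∈ Dat.I10 ∧ Spor.coxLabel Spor.Bimonster.edges m n = 2) :
    S.Sy (k m) (k n) := C.sy m h.1 n h.2.1 h.2.2

theorem cm (C : S.Cx k) (m n : Nd) (h : m ∈ Dat.I10 ∧ n ∈ Dat.I10 ∧ Spor.coxLabel Spor.Bimonster.edges m n = 2) :
    Commute (k m) (k n) := (sy C m n h).2.2.1

theorem op (C : S.Cx k) (m n : Nd) (h : m ∈ Dat.I10 ∧ n ∈ Dat.I10 ∧ Spor.coxLabel Spor.Bimonster.edges m n = 3) :
    S.OP (k m) (k n) := C.op m h.1 n h.2.1 h.2.2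

theorem not_comm (h : S.St) (N : S.Nds k l e) (C : S.Cx k) (w : WD k) : ¬ Commute (k .c3) (wd k thL) := fun c => by
  have hz := N.ch.op.1
  have he := h.cQ hz N.eQ
  have hb : S.r (k .d3) (k .b3) = τ S.ι (vc .b3) := by
    rw [N.b3, h.r_conj hz he N.lz, h.r_Q hz N.eQ, N.rl, one_mul, inv_one, mul_one]
  obtain ⟨h1, h2⟩ := h.r_prod hz k (thL ++ w5L) fun n hn => cm C n .d3 (by revert n; decide)
  have h3 : ((thL ++ w5L).map fun n => S.r (k .d3) (k n)).prod = ϖ S.ι := by
    rw [ϖ, τ, τ, ← map_mul, ← perm_eq, map_list_prod, List.map_map]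
    refine congrArg List.prod (List.map_congr_left fun n hn => ?_)
    rcases (by revert n; decide : n = .b3 ∨ n ∈ Dat.I7) with rfl | h4
    exacts [hb, N.rn n h4]
  rw [h3] at h2
  rw [List.map_append, List.prod_append] at h1 h2
  have h4 : Commute (wd k thL * wd k w5L) (k .c3) := c.symm.mul_left (Commute.list_prod_left _ _ fun x hx => by
    obtain ⟨n, hn, rfl⟩ := List.mem_map.1 hx
    exact cm C n .c3 (by clear hx; revert n; decide))
  have h5 := w.w0
  change Commute (wd k thL * wd k w5L) _ at h1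
  change S.r _ (wd k thL * wd k w5L) = _ at h2
  generalize wd k thL * wd k w5L = g at h1 h2 h4 h5
  have h6 := h.r_comm hz h1 (cm C .b3 .d3 (by decide)) h5
  rw [h2, hb] at h6
  have h7 := h.ch_comm N.ch h1 h4 N.lz N.lz' (by rwa [h2, N.rl])
  have h8 : Commute l (e⁻¹ * (g * e * g⁻¹)) := by
    have h9 := h5.eq
    rw [N.b3] at h9
    calc l * (e⁻¹ * (g * e * g⁻¹)) = e⁻¹ * (e * l * e⁻¹ * g) * e * g⁻¹ := by group
      _ = e⁻¹ * g * e * (l * g⁻¹) := by rw [← h9]; group
      _ = _ := by rw [← h7.inv_left.eq]; group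
  have h9 := h.fix_of_comm hz N.lz (mul_mem (inv_mem N.eQ) (h.conjQ hz h1 N.eQ)) h8
  rw [h.π_mul hz (inv_mem N.eQ) (h.conjQ hz h1 N.eQ), h.π_inv hz N.eQ, ← h.ρ_π hz h1 N.eQ, h2, N.rl, map_add] at h9
  apply N.mg
  rw [map_add, ← ρ_mul, h6.eq, ρ_mul]
  exact (fun a b c d : V20 => fun h : b + a = d + c => (eq_of_add_eq_zero_zmod2 (by
    rw [show c + a + (d + b) = b + a + (d + c) by abel, h, add_self_zmod2]) : c + a = d + b)) _ _ _ _ h9

theorem hex_nc (h : S.St) (C : S.Cx k) (w : WD k) (i : Fin 6) : ¬ Commute (hex k i) (hex k (i + 1)) := by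
  fin_cases i
  · exact h.op_not_comm (op C .c1 .b1 (by decide))
  · exact h.op_not_comm (op C .b1 .a (by decide))
  · exact h.op_not_comm (op C .a .b2 (by decide))
  · exact h.op_not_comm (op C .b2 .c2 (by decide))
  · exact fun c => h.op_not_comm (op C .c2 .b2 (by decide)) (w.xib.2.eq_of_comm c.symm ▸ w.xic .b2 (by decide))
  · exact fun c => h.op_not_comm (op C .c1 .b1 (by decide)) (w.xib.1.eq_of_comm c ▸ w.xic .b1 (by decide))

theorem hex_c (C : S.Cx k) (w : WD k) (i j : Fin 6) (n : ¬ (j = i + 1 ∨ i = j + 1)) : Commute (hex k i) (hex k j) := by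
  fin_cases i <;> fin_cases j <;> first
    | exact absurd (by decide) n
    | exact Commute.refl _
    | exact cm C _ _ (by decide)
    | exact w.xic _ (by decide)
    | exact (w.xic _ (by decide)).symm

end Spd

variable {G Γ : Type u} [Group G] [Group Γ] {S : Dat G Γ}

open Spd in
theorem sp_eq (h : S.B4) (u : U9 S.ι) {k : Nd → G} {l e : G} (N : S.Nds k l e) (C : S.Cx k) (w : WD k) :
    BM.spider k = 1 := by
  have s := h.toSt
  have nc := not_comm s N C w
  have h1 : S.Sy (k .b1) (wd k thL) := br_conj w.thb ▸ s.sy_conj' (sy C .b1 .b3 (by decide))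
    ((cm C .b3 .b1 (by decide)).mul_left (w.thc .b1 (by decide)))
  have T := h.lc _ _ (h.l8.op _ _ _ _ (h.lc _ _ (op C .b1 .c1 (by decide))) (sy C .b1 .c3 (by decide)) h1
    (cm C .c3 .c1 (by decide)) (w.thc .c1 (by decide)) nc)
  have hz := T.op.1
  have h0 : S.Sy (k .c3) (wd k xiL) := br_conj w.xib.1 ▸ s.sy_conj' (sy C .c3 .c1 (by decide))
    ((cm C .c1 .c3 (by decide)).mul_left (w.xic .c3 (by decide)))
  have h2 : ∀ i, S.Sy (k .c3) (hex k i) := fun i => by
    fin_cases i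
    exacts [sy C .c3 .c1 (by decide), sy C .c3 .b1 (by decide), sy C .c3 .a (by decide), sy C .c3 .b2 (by decide),
      sy C .c3 .c2 (by decide), h0]
  have h3 : ∀ i, Commute (hex k i) (k .c3) := fun i => (h2 i).2.2.1.symm
  have h4 : ∀ i, Commute (hex k i) (wd k thL) := fun i => by
    fin_cases i
    exacts [(w.thc .c1 (by decide)).symm, (w.thc .b1 (by decide)).symm, (w.thc .a (by decide)).symm,
      (w.thc .b2 (by decide)).symm, (w.thc .c2 (by decide)).symm, w.xit]
  have h5 : ∀ L : List (Fin 6), Commute (L.map (hex k)).prod (wd k thL) := fun L =>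
    Commute.list_prod_left _ _ fun x hx => by
      obtain ⟨n, -, rfl⟩ := List.mem_map.1 hx
      exact h4 n
  choose v h6 h7 using fun i => h.lb.tv _ _ (h2 i)
  have h8 : ∀ i j, B6 (v i) (v j) = 0 ↔ Commute (hex k i) (hex k j) := fun i j => by
    rw [← s.ua.τ_comm_iff (h6 i) (h6 j), ← h7, ← h7]
    exact ⟨s.ch_comm T (h3 i) (h4 i) (h3 j) (h4 j), s.r_comm hz (h3 i) (h3 j)⟩
  have h9 := u v h6 (fun i j => by
    rw [Ne, h8]
    refine ⟨fun c => by_contra fun n => c (hex_c C w i j n), ?_⟩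
    rintro (rfl | rfl)
    exacts [hex_nc s C w _, fun c => hex_nc s C w _ c.symm]) fun c => by
      obtain ⟨a1, a2⟩ := s.r_prod hz (hex k) [0, 1, 2, 3, 4, 3, 2, 1, 0] fun n _ => h3 n
      simp only [← h7] at c
      have a3 : Commute (wd k xiL) (wd k s5L) :=
        s.ch_comm T (h3 5) (h4 5) a1 (h5 [0, 1, 2, 3, 4, 3, 2, 1, 0]) (a2 ▸ c)
      obtain ⟨g, a4, a5⟩ := w.cnj
      exact nc (a4 ▸ a5 ▸ a3.conj g)
  obtain ⟨a1, a2⟩ := s.r_prod hz (hex k) xL fun n _ => h3 n
  simp only [← h7] at h9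
  obtain ⟨g, a3⟩ := w.spd
  rw [s.ch_eq_one T a1 (h5 _) (a2.trans h9)] at a3
  calc BM.spider k = g⁻¹ * (g * BM.spider k * g⁻¹) * g := by group
    _ = 1 := by rw [a3]; group

end CL.E6S
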