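/-
Centralisers `2^{1+20}.U₆(2)` and `2^{1+20}.U₆(2).2` (helper9), part TW: the `Y₃₃₃` group in any universe.
-/
import Cfsg.Agent.Spor.E6SD
import Cfsg.Agent.Spor.InE60
import Cfsg.Agent.Spor.Y3Main
import Cfsg.Agent.Spor.InMxT
import Cfsg.Agent.Spor.InMxF
import Cfsg.Agent.Spor.InMxA

set_option autoImplicit false

namespace CL.E6S

open Subgroup CL.Even CL.Grp CL.Uni CL.Rec CL.IN Cfsg Module Cfsg.Spor CL.BM Cfsg.Lie

universe u v

theorem tw_model (F : Type v) [Field F] [Fintype F] (hF : Fintype.card F = 4) : ∃ m : Nd → twistedE6 F 2,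
    Rel I2 m ∧ m .f2 = 1 ∧ m .f3 = 1 ∧ Gp I2 m = ⊤ := by
  have c3 : Nat.card Fˣ = 3 := by rw [Nat.card_units, Nat.card_eq_fintype_card, hF]
  obtain ⟨ω, hω⟩ := IsCyclic.exists_ofOrder_eq_natCard (α := Fˣ)
  rw [c3] at hω
  have h1 : (ω : F) ^ 3 = 1 := by rw [← hω, ← Units.val_pow_eq_pow_val, pow_orderOf_eq_one, Units.val_one]
  have h2 : (ω : F) - 1 ≠ 0 := fun e => by
    rw [show ω = 1 from Units.ext (sub_eq_zero.1 e), orderOf_one] at hω
    omega
  obtain ⟨y, k1, k2, k3⟩ := Y3E.exists_nodes (⟨ω, mul_left_cancel₀ h2 (by linear_combination h1), by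
    rw [Nat.card_eq_fintype_card, hF]⟩ : Mx.F4 F)
  let m : Nd → twistedE6 F 2 := fun n => if e60Ix n < 10 then y (e60Ix n) else 1
  have sq : ∀ n, m n ^ 2 = 1 := fun n => by
    by_cases e : e60Ix n < 10
    · simpa [m, e, Y3E.lab, pow_two] using k1 _ e _ e
    · simp [m, e]
  simp only [Y3E.ex, List.forall_mem_cons, List.map_cons, List.map_nil, List.prod_cons, List.prod_nil, mul_one,
    ← mul_assoc] at k2
  obtain ⟨s0, s1, s2, s3, s4, s5, s6, -⟩ := k2
  refine ⟨m, ⟨fun u hu v hv => ?_, s0, s1, s2, s3, s4, s5, s6⟩, rfl, rfl, k3 _ fun i hi => ?_⟩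
  · have l : ∀ u ∈ I2, ∀ v ∈ I2, (e60Ix u < 10 → e60Ix v < 10 →
        coxLabel Bimonster.edges u v = Y3E.lab (e60Ix u) (e60Ix v)) ∧ (e60Ix u < 10 → ¬ e60Ix v < 10 →
        coxLabel Bimonster.edges u v = 2) ∧ (¬ e60Ix u < 10 → e60Ix v < 10 → coxLabel Bimonster.edges u v = 2) := by
      decide
    by_cases a : e60Ix u < 10 <;> by_cases b : e60Ix v < 10
    · rw [(l u hu v hv).1 a b]; simpa [m, a, b] using k1 _ a _ b
    · rw [(l u hu v hv).2.1 a b]; simpa [m, a, b] using sq u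
    · rw [(l u hu v hv).2.2 a b]; simpa [m, a, b] using sq v
    · simp [m, a, b]
  · obtain ⟨n, hn, rfl⟩ := (by decide : ∀ i < 10, ∃ n ∈ I2, e60Ix n = i) i hi
    simpa [m, hi] using mem_Gp (k := m) hn

theorem tw_card (F : Type v) [Field F] [Fintype F] (hF : Fintype.card F = 4) :
    Nat.card (twistedE6 F 2) = 76532479683774853939200 := by
  have := Cfsg.Agent.S1066.result (K := F) Nat.prime_two.isPrimePow hF
  norm_num at this
  omega

theorem tw_map {K L : Type*} [Group K] [Group L] (e : K ≃* L) {k : Nd → K} (h : Rel I2 k) (h2 : k .f2 = 1)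
    (h3 : k .f3 = 1) (h4 : Gp I2 k = ⊤) : Rel I2 (fun n => e (k n)) ∧ e (k .f2) = 1 ∧ e (k .f3) = 1 ∧
    Gp I2 (fun n => e (k n)) = ⊤ :=
  ⟨h.map e.toMonoidHom, by rw [h2, map_one], by rw [h3, map_one], by
    have := Gp_map (I := I2) (k := k) e.toMonoidHom
    rw [h4, map_top_of_surjective _ e.surjective] at this
    exact this.symm⟩

theorem tw_cent {K L : Type*} [Group K] [Group L] (e : K ≃* L) (x : K) :
    Nat.card (centralizer ({x} : Set K)) = Nat.card (centralizer ({e x} : Set L)) :=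
  Nat.card_congr (e.toEquiv.subtypeEquiv fun g => by
    simp only [mem_centralizer_singleton_iff, MulEquiv.toEquiv_eq_coe, EquivLike.coe_coe]
    rw [← map_mul, ← map_mul, e.injective.eq_iff])

/-- **The group with the relations of `Y₃₃₃`, in any universe.** -/
theorem tw {K : Type u} [Group K] [Finite K] [Nontrivial K] {k : Nd → K} (h : Rel I2 k) (h2 : k .f2 = 1)
    (h3 : k .f3 = 1) (h4 : Gp I2 k = ⊤) : IsSimpleGroup K ∧ Nat.card K = 76532479683774853939200 ∧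
    Nat.card (centralizer ({k .d2} : Set K)) = 2 ^ 21 * 9196830720 ∧
    ∀ (F : Type v) [Field F] [Fintype F], Fintype.card F = 4 → Nonempty (K ≃* Cfsg.Lie.twistedE6 F 2) := by
  let e : K ≃* Shrink.{0} K := (Shrink.mulEquiv : Shrink.{0} K ≃* K).symm
  obtain ⟨a1, a2, a3, a4⟩ := tw_map e h h2 h3 h4
  have : Nontrivial (Shrink.{0} K) := e.symm.toEquiv.nontrivial
  have E := (e6_of CL.Y3.y3Thm (fmThm CL.Y3.y3Thm) (omThm CL.Y3.y3Thm)).1 _ _ a1 a2 a3 a4
  have := E.simple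
  refine ⟨e.isSimpleGroup, (Nat.card_congr e.toEquiv).trans E.card, (tw_cent e _).trans E.cardP, fun F _ _ hF => ?_⟩
  obtain ⟨m, m1, m2, m3, m4⟩ := tw_model F hF
  have hc := tw_card F hF
  have : Finite (twistedE6 F 2) := Nat.finite_of_card_ne_zero (by rw [hc]; norm_num)
  have := (Cfsg.Agent.S1070.result (K := F) Nat.prime_two.isPrimePow hF).1
  let f : twistedE6 F 2 ≃* Shrink.{0} (twistedE6 F 2) :=
    (Shrink.mulEquiv : Shrink.{0} (twistedE6 F 2) ≃* twistedE6 F 2).symm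
  obtain ⟨b1, b2, b3, b4⟩ := tw_map f m1 m2 m3 m4
  have : IsSimpleGroup (Shrink.{0} (twistedE6 F 2)) := f.symm.isSimpleGroup
  obtain ⟨g, -⟩ := e60_iso' CL.Y3.y3Thm ((Nat.card_congr f.toEquiv).symm.trans hc) b1 b2 b3 b4 a1 a2 a3 a4
  exact ⟨e.trans (g.symm.trans f.symm)⟩

end CL.E6S
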