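/-
Centralisers `2^{1+20}.U₆(2)` (job E6S-U1a): a 2-group fixes a plane.
-/
import Cfsg.Agent.Spor.E6SC
import Cfsg.Agent.Spor.E6SUe
import Cfsg.Agent.Cls.UniStab

set_option autoImplicit false

namespace CL.E6S

open Subgroup CL.Even CL.Grp CL.Uni CL.Rec CL.IN Cfsg Module

universe u

variable {Γ : Type u} [Group Γ] {ι : SU6 →* Γ}

theorem Rp.exists_plane {γ : Γ} {s : K4 →+* K4} {f : V6 → V6} (R : Rp ι γ s f)
    (_hs : s = RingHom.id K4 ∨ s = K4.bar) {W : Submodule K4 V6} (hW : Pl W) :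
    ∃ W', Pl W' ∧ (∀ v, v ∈ W' ↔ ∃ w ∈ W, f w = v) ∧ cj γ (AW ι W) = AW ι W' := by
  have hs : Function.Surjective s := Finite.surjective_of_injective s.injective
  let W' : Submodule K4 V6 :=
    { carrier := f '' W
      zero_mem' := ⟨0, W.zero_mem, R.zero⟩
      add_mem' := by rintro _ _ ⟨u, hu, rfl⟩ ⟨v, hv, rfl⟩; exact ⟨_, W.add_mem hu hv, R.add u v⟩
      smul_mem' := by
        rintro c _ ⟨u, hu, rfl⟩
        obtain ⟨c, rfl⟩ := hs c
        exact ⟨_, W.smul_mem c hu, R.smul c u⟩ }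
  refine ⟨W', ⟨?_, ?_⟩, fun _ => Iff.rfl, ?_⟩
  · have h1 : Nat.card W' = Nat.card W := Nat.card_image_of_injective R.injective W
    rw [Module.natCard_eq_pow_finrank (K := K4), Module.natCard_eq_pow_finrank (K := K4) (V := W), hW.1] at h1
    exact Nat.pow_right_injective (by rw [Nat.card_eq_fintype_card, K4.card]; norm_num) h1
  · rintro _ ⟨u, hu, rfl⟩ _ ⟨v, hv, rfl⟩
    exact R.B_zero.2 (hW.2 u hu v hv)
  · rw [AW_eq, AW_eq, MonoidHom.map_closure]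
    congr 1
    ext a
    constructor
    · rintro ⟨_, ⟨v, h1, h2, rfl⟩, rfl⟩
      exact ⟨f v, ⟨v, h1, rfl⟩, R.iso_map h2, R.act v h2⟩
    · rintro ⟨_, ⟨v, h1, rfl⟩, h2, rfl⟩
      have h3 : Iso v := hW.iso h1 fun e => h2.1 (by rw [e, R.zero])
      exact ⟨_, ⟨v, h1, h3, rfl⟩, R.act v h3⟩

theorem card_planes : Nat.card {W : Submodule K4 V6 // Pl W} = 891 := by
  have h := herm6.card_ti_mul 3
  rw [finrank6, Nat.card_congr (Equiv.subtypeEquivRight (q := Pl)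
    (p := fun W : Submodule K4 V6 => finrank K4 W = 3 ∧ W ≤ perp B6 W) fun W => and_congr_right fun _ =>
      ⟨fun h u hu v hv => mem_perp.1 (h hv) u hu, fun h v hv => mem_perp.2 fun u hu => h u hu v hv⟩)] at h
  have e1 : ∏ i : Fin 3, ((2 ^ 2) ^ 3 - (2 ^ 2) ^ (i : ℕ)) = 181440 := by decide
  have e2 : ∏ i ∈ Finset.range 3, (2 ^ 2) ^ i * isoCount 2 (6 - 2 * i) = 161663040 := by decide
  rw [e1, e2] at h
  exact Nat.eq_of_mul_eq_mul_right (by norm_num) (h.trans (by norm_num))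

theorem UA.AW_inj (h : UA ι) {W W' : Submodule K4 V6} (hW : Pl W) (hW' : Pl W') (e : AW ι W = AW ι W') : W = W' :=
  Submodule.eq_of_le_of_finrank_eq (fun v hv => by
    by_cases h0 : v = 0
    · exact h0 ▸ W'.zero_mem
    · exact h.mem_of_τ_mem ue hW' (hW.iso hv h0) (e ▸ τ_mem_AW hv (hW.iso hv h0))) (hW.1.trans hW'.1.symm)

theorem u1a (h : UA ι) : U1a ι := by
  intro A hA
  have := h.fin
  let inst : MulAction A {K : Subgroup Γ // ∃ W, Pl W ∧ AW ι W = K} :=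
    { smul := fun a K => ⟨cj a K, by
        obtain ⟨W, hW, e⟩ := K.2
        obtain ⟨s, f, R, hs⟩ := h.exists_rp a
        obtain ⟨W', h1, -, h2⟩ := R.exists_plane hs hW
        exact ⟨W', h1, by rw [← e, h2]⟩⟩
      one_smul := fun K => Subtype.ext (cj_one K.1)
      mul_smul := fun a b K => Subtype.ext (cj_mul _ _ K.1) }
  have hc : Nat.card {K : Subgroup Γ // ∃ W, Pl W ∧ AW ι W = K} = 891 := by
    rw [← card_planes]
    refine (Nat.card_eq_of_bijective (fun W => ⟨AW ι W.1, W.1, W.2, rfl⟩) ⟨fun W W' e => Subtype.ext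
      (h.AW_inj W.2 W'.2 (congrArg Subtype.val e)), ?_⟩).symm
    rintro ⟨_, W, hW, rfl⟩
    exact ⟨⟨W, hW⟩, rfl⟩
  obtain ⟨⟨_, W, hW, rfl⟩, hf⟩ := hA.nonempty_fixed_point_of_prime_not_dvd_card
    {K : Subgroup Γ // ∃ W, Pl W ∧ AW ι W = K} (by rw [hc]; norm_num)
  exact ⟨W, hW, fun a ha => congrArg Subtype.val (hf ⟨a, ha⟩)⟩

end CL.E6S
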