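/-
Centralisers `2^{1+20}.U₆(2)` (helper9): no offenders on the hermitian `3 × 3` matrices over the field with four
elements.
-/
import Cfsg.Agent.Spor.E6SB

set_option autoImplicit false

namespace CL.E6S.U1

open Subgroup CL.Rec Module

abbrev U3 : Type := Fin 3 → K4

abbrev Fm : Type := U3 →ₛₗ[K4.bar] U3 →ₗ[K4] K4

abbrev Fx : Type := {c : K4 // K4.bar c = c}

theorem card_Fx : Nat.card Fx = 2 := by rw [Nat.card_eq_fintype_card]; decide

theorem card_K4 : Nat.card K4 = 4 := by rw [Nat.card_eq_fintype_card]; rfl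

theorem add_self (x : U3) : x + x = 0 := funext fun i => (by decide : ∀ c : K4, c + c = 0) (x i)

theorem fm_ext {h h' : Fm} (s : ∀ x y, K4.bar (h x y) = h y x) (s' : ∀ x y, K4.bar (h' x y) = h' y x) {a b c : U3}
    (sp : ∀ x, ∃ r s t : K4, x = r • a + s • b + t • c) (e1 : h a a = h' a a) (e2 : h b b = h' b b)
    (e3 : h c c = h' c c) (e4 : h a b = h' a b) (e5 : h a c = h' a c) (e6 : h b c = h' b c) : h = h' := by
  have e7 : h b a = h' b a := by rw [← s, ← s', e4]
  have e8 : h c a = h' c a := by rw [← s, ← s', e5]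
  have e9 : h c b = h' c b := by rw [← s, ← s', e6]
  refine LinearMap.ext₂ fun x y => ?_
  obtain ⟨r, s, t, rfl⟩ := sp x
  obtain ⟨r', s', t', rfl⟩ := sp y
  simp only [map_add, LinearMap.add_apply, LinearMap.map_smulₛₗ, LinearMap.smul_apply, e1, e2, e3, e4, e5, e6, e7, e8,
    e9]

theorem finrank_ker {φ : U3 →ₗ[K4] K4} {x : U3} (hx : φ x = 1) : finrank K4 (LinearMap.ker φ) = 2 := by
  have := φ.finrank_range_add_finrank_ker
  rw [LinearMap.range_eq_top.2 fun c => ⟨c • x, by simp [hx]⟩] at this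
  simp at this
  omega

theorem span3 {φ : U3 →ₗ[K4] K4} {x z z' : U3} (hx : φ x = 1) (hz : φ z = 0) (hz' : φ z' = 0)
    (li : LinearIndependent K4 ![z, z']) (y : U3) : ∃ r s : K4, y = r • z + s • z' + φ y • x := by
  have h1 : Submodule.span K4 (Set.range ![z, z']) = LinearMap.ker φ :=
    Submodule.eq_of_le_of_finrank_eq (Submodule.span_le.2 (by rintro _ ⟨i, rfl⟩; fin_cases i <;> simpa))
      (by rw [finrank_span_eq_card li, finrank_ker hx]; rfl)
  have h2 : y - φ y • x ∈ LinearMap.ker φ := by simp [hx]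
  rw [← h1, Matrix.range_cons_cons_empty, Submodule.mem_span_pair] at h2
  obtain ⟨r, s, e⟩ := h2
  exact ⟨r, s, by rw [e, sub_add_cancel]⟩

theorem rank_one {n : U3 →ₗ[K4] U3} (h0 : n ≠ 0) (h2 : ∀ x, n (n x) = 0) :
    ∃ (φ : U3 →ₗ[K4] K4) (z x : U3), z ≠ 0 ∧ φ x = 1 ∧ φ z = 0 ∧ ∀ y, n y = φ y • z := by
  obtain ⟨x, hx⟩ : ∃ x, n x ≠ 0 := by
    by_contra! e
    exact h0 (LinearMap.ext e)
  have h1 := n.finrank_range_add_finrank_ker
  have h3 := Submodule.finrank_mono (show LinearMap.range n ≤ LinearMap.ker n by rintro _ ⟨y, rfl⟩; exact h2 y)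
  have h4 : Submodule.span K4 {n x} = LinearMap.range n :=
    Submodule.eq_of_le_of_finrank_le (Submodule.span_le.2 (by rintro _ rfl; exact ⟨x, rfl⟩))
      (by rw [finrank_span_singleton hx]; simp at h1; omega)
  obtain ⟨i, hi⟩ := Function.ne_iff.1 hx
  have key : ∀ y, n y = ((n x i)⁻¹ * n y i) • n x := fun y => by
    obtain ⟨c, hc⟩ := Submodule.mem_span_singleton.1 (h4 ▸ ⟨y, rfl⟩ : n y ∈ Submodule.span K4 {n x})
    rw [← hc, Pi.smul_apply, smul_eq_mul, mul_comm c, inv_mul_cancel_left₀ hi]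
  exact ⟨(n x i)⁻¹ • (LinearMap.proj i).comp n, n x, x, hx, by simpa using inv_mul_cancel₀ hi, by simp [h2], key⟩

theorem card_le_mul {E T : Type*} [Group E] [Finite E] [Finite T] (K : Subgroup E) (ψ : E → T)
    (h : ∀ g g', ψ g = ψ g' → g⁻¹ * g' ∈ K) : Nat.card E ≤ Nat.card K * Nat.card T := by
  rw [card_eq_card_quotient_mul_card_subgroup K, mul_comm]
  refine Nat.mul_le_mul_left _ (Nat.card_le_card_of_injective (fun a : E ⧸ K => ψ a.out) fun a b e => ?_)
  rw [← a.out_eq, ← b.out_eq]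
  exact QuotientGroup.eq.2 (h _ _ e)

/-- the action on the quotient by the plane and the forms of the kernel -/
structure Dt {E : Type*} [Group E] (n : E → U3 →ₗ[K4] U3) (h : E → Fm) : Prop where
  sq : ∀ g : E, g * g = 1
  one : n 1 = 0
  mul : ∀ g k x, n (g * k) x = n g x + n k x + n g (n k x)
  herm : ∀ k, n k = 0 → ∀ x y, K4.bar (h k x y) = h k y x
  inj : ∀ k k', n k = 0 → n k' = 0 → h k = h k' → k = k'
  inv : ∀ g k, n k = 0 → ∀ x y, h k (x + n g x) (y + n g y) = h k x y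

/-- a semilinear involution that centralises everything -/
structure Ot {E : Type*} [Group E] (n : E → U3 →ₗ[K4] U3) (h : E → Fm) (F : U3 → U3) : Prop where
  add : ∀ x y, F (x + y) = F x + F y
  smul : ∀ (c : K4) x, F (c • x) = K4.bar c • F x
  sq : ∀ x, F (F x) = x
  comm : ∀ g x, F (n g x) = n g (F x)
  inv : ∀ k, n k = 0 → ∀ x y, h k (F x) (F y) = K4.bar (h k x y)

namespace Dt

variable {E : Type*} [Group E] {n : E → U3 →ₗ[K4] U3} {h : E → Fm} (D : Dt n h)
include D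

theorem nn (g : E) (x : U3) : n g (n g x) = 0 := by
  have := D.mul g g x
  rw [D.sq, D.one, add_self, zero_add] at this
  exact this.symm

theorem inv_eq (g : E) : g⁻¹ = g := inv_eq_of_mul_eq_one_right (D.sq g)

theorem comm (g k : E) (x : U3) : n g (n k x) = n k (n g x) := by
  have e : g * k = k * g := by rw [← D.inv_eq (g * k), mul_inv_rev, D.inv_eq, D.inv_eq]
  have := D.mul g k x
  rw [e, D.mul, add_comm (n k x)] at this
  exact (add_left_cancel this).symm

/-- the kernel -/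
def K : Subgroup E where
  carrier := {g | n g = 0}
  one_mem' := D.one
  mul_mem' := fun {a b} ha hb => LinearMap.ext fun x => by rw [D.mul, show n a = 0 from ha, show n b = 0 from hb]; simp
  inv_mem' := fun {a} ha => (D.inv_eq a).symm ▸ ha

theorem mem_K {g k : E} (e : n g = n k) : g⁻¹ * k ∈ D.K := LinearMap.ext fun x => by
  rw [D.inv_eq, D.mul, e, add_self, D.nn]; simp

theorem card_K {T : Type*} [Finite T] {a b c : U3} (sp : ∀ x, ∃ r s t : K4, x = r • a + s • b + t • c) (ψ : D.K → T)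
    (e : ∀ k k' : D.K, ψ k = ψ k' → h k a a = h k' a a ∧ h k b b = h k' b b ∧ h k c c = h k' c c ∧
      h k a b = h k' a b ∧ h k a c = h k' a c ∧ h k b c = h k' b c) : Nat.card D.K ≤ Nat.card T :=
  Nat.card_le_card_of_injective ψ fun k k' e' => by
    obtain ⟨e1, e2, e3, e4, e5, e6⟩ := e k k' e'
    exact Subtype.ext (D.inj _ _ k.2 k'.2 (fm_ext (D.herm _ k.2) (D.herm _ k'.2) sp e1 e2 e3 e4 e5 e6))

section
variable {g : E} {φ : U3 →ₗ[K4] K4} {z : U3} (hg : ∀ y, n g y = φ y • z)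
include hg

theorem perp {k : E} (hk : n k = 0) {x x0 : U3} (hx : φ x = 0) (h0 : φ x0 ≠ 0) : h k x z = 0 := by
  have := D.inv g k hk x x0
  rw [hg, hg, hx, zero_smul, add_zero, map_add, map_smul, add_eq_left, smul_eq_mul] at this
  exact (mul_eq_zero.1 this).resolve_left h0

theorem trace {k : E} (hk : n k = 0) (hz : φ z = 0) {x0 : U3} (h0 : φ x0 ≠ 0) :
    K4.bar (φ x0 * h k x0 z) = φ x0 * h k x0 z := by
  have := D.inv g k hk x0 x0
  simp only [hg, map_add, LinearMap.add_apply, LinearMap.map_smulₛₗ, LinearMap.smul_apply, smul_eq_mul,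
    D.perp hg hk hz h0, RingHom.id_apply, mul_zero, add_zero] at this
  rw [map_mul, D.herm k hk]
  exact (by decide : ∀ a b c : K4, a + b + c = a → b = c) _ _ _ this

theorem cross {x0 : U3} (hx : φ x0 = 1) (hz : z ≠ 0) (k : E) : n k z = 0 ∧ ∀ y, φ (n k y) = 0 := by
  have key : ∀ y, φ (n k y) • z = φ y • n k z := fun y => by rw [← hg, D.comm, hg, map_smul]
  have h1 : ∀ y, φ y • n k z = 0 := fun y => by
    by_cases e : φ (n k y) = 0
    · rw [← key, e, zero_smul]
    · have h2 := congrArg (n k) (key y)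
      rw [map_smul, map_smul, D.nn, smul_zero] at h2
      rw [(smul_eq_zero.1 h2).resolve_left e, smul_zero]
  exact ⟨by simpa [hx] using h1 x0, fun y => (smul_eq_zero.1 ((key y).trans (h1 y))).resolve_right hz⟩

end

theorem outer [Finite E] (h0 : ∀ g, n g = 0) {F : U3 → U3} (O : Ot n h F) : Nat.card E ≤ 64 := by
  have new : ∀ X : Submodule K4 U3, finrank K4 X < 3 → ∃ r, F r = r ∧
      finrank K4 X < finrank K4 ↥(X ⊔ Submodule.span K4 {r}) := fun X hX => by
    obtain ⟨x, hx⟩ : ∃ x, x ∉ X := by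
      by_contra! e
      rw [show X = ⊤ from eq_top_iff.2 fun x _ => e x] at hX
      simp at hX
    have fx : ∀ y, F (y + F y) = y + F y := fun y => by rw [O.add, O.sq, add_comm]
    obtain ⟨r, h1, h2⟩ : ∃ r, F r = r ∧ r ∉ X := by
      by_contra! e
      refine hx ?_
      have := X.add_mem (X.smul_mem K4.v (e _ (fx x))) (e _ (fx (K4.w • x)))
      rwa [O.smul, show K4.v • (x + F x) + (K4.w • x + K4.bar K4.w • F x) = x from funext fun i =>
        (by decide : ∀ a b : K4, K4.v * (a + b) + (K4.w * a + K4.bar K4.w * b) = a) (x i) (F x i)] at this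
    exact ⟨r, h1, Submodule.finrank_lt_finrank_of_lt (left_lt_sup.2 fun e =>
      h2 (e (Submodule.mem_span_singleton_self r)))⟩
  have up : ∀ (X : Submodule K4 U3) r, finrank K4 ↥(X ⊔ Submodule.span K4 {r}) ≤ finrank K4 X + 1 := fun X r =>
    (Submodule.finrank_add_le_finrank_add_finrank _ _).trans
      (Nat.add_le_add_left (by simpa using finrank_span_le_card (R := K4) {r}) _)
  obtain ⟨a, a1, a2⟩ := new ⊥ (by simp)
  have a3 := up ⊥ a
  rw [finrank_bot] at a2 a3
  obtain ⟨b, b1, b2⟩ := new (⊥ ⊔ Submodule.span K4 {a}) (by omega)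
  have b3 := up (⊥ ⊔ Submodule.span K4 {a}) b
  obtain ⟨c, c1, c2⟩ := new (⊥ ⊔ Submodule.span K4 {a} ⊔ Submodule.span K4 {b}) (by omega)
  have top := Submodule.eq_top_of_finrank_eq (S := ⊥ ⊔ Submodule.span K4 {a} ⊔ Submodule.span K4 {b} ⊔
    Submodule.span K4 {c}) (le_antisymm (Submodule.finrank_le _) (by simp only [finrank_fin_fun]; omega))
  have sp : ∀ x, ∃ r s t : K4, x = r • a + s • b + t • c := fun x => by
    obtain ⟨_, h1, _, h2, rfl⟩ := Submodule.mem_sup.1 (top ▸ Submodule.mem_top : x ∈ _)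
    obtain ⟨_, h3, _, h4, rfl⟩ := Submodule.mem_sup.1 h1
    rw [bot_sup_eq] at h3
    obtain ⟨r, rfl⟩ := Submodule.mem_span_singleton.1 h3
    obtain ⟨s, rfl⟩ := Submodule.mem_span_singleton.1 h4
    obtain ⟨t, rfl⟩ := Submodule.mem_span_singleton.1 h2
    exact ⟨r, s, t, rfl⟩
  have fx : ∀ (k : D.K) {x y}, F x = x → F y = y → K4.bar (h k x y) = h k x y := fun k x y hx hy => by
    rw [← O.inv k k.2, hx, hy]
  have := D.card_K (T := Fx × Fx × Fx × Fx × Fx × Fx) sp (fun k => (⟨_, fx k a1 a1⟩, ⟨_, fx k b1 b1⟩, ⟨_, fx k c1 c1⟩,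
    ⟨_, fx k a1 b1⟩, ⟨_, fx k a1 c1⟩, ⟨_, fx k b1 c1⟩)) fun k k' e => by simpa using e
  rw [show D.K = ⊤ from eq_top_iff.2 fun g _ => h0 g, card_top] at this
  simpa only [Nat.card_prod, card_Fx] using this

theorem main [Finite E] (hc : 256 ≤ Nat.card E) (ho : 512 ≤ Nat.card E ∨ ∃ F, Ot n h F) :
    (∀ g, n g = 0) ∧ 512 ≤ Nat.card E := by
  by_cases h0 : ∀ g, n g = 0
  · exact ⟨h0, ho.resolve_right fun ⟨F, O⟩ => by have := D.outer h0 O; omega⟩
  exfalso
  obtain ⟨g, hg0⟩ := not_forall.1 h0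
  obtain ⟨φ, z, x, z0, hx, hz, hg⟩ := rank_one hg0 (D.nn g)
  have hx0 : φ x ≠ 0 := hx ▸ one_ne_zero
  have cr := D.cross hg hx z0
  have tr : ∀ k : D.K, K4.bar (h k x z) = h k x z := fun k => by simpa [hx] using D.trace hg k.2 hz hx0
  have ext : ∀ {z' : U3}, (∀ y, ∃ r s : K4, y = r • z + s • z' + φ y • x) → ∀ k k' : E, n k z' = n k' z' →
      n k x = n k' x → n k = n k' := fun sp k k' e1 e2 => LinearMap.ext fun y => by
    obtain ⟨r, s, e⟩ := sp y
    rw [e]
    simp only [map_add, map_smul, (cr _).1, e1, e2]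
  have sp' : ∀ {z' : U3}, (∀ y, ∃ r s : K4, y = r • z + s • z' + φ y • x) →
      ∀ y, ∃ r s t : K4, y = r • x + s • z + t • z' := fun sp y =>
    let ⟨r, s, e⟩ := sp y; ⟨φ y, r, s, by rw [add_assoc, add_comm]; exact e⟩
  by_cases h1 : ∃ (g' : E) (φ' : U3 →ₗ[K4] K4) (z' x' : U3), φ' x' = 1 ∧ φ' z' = 0 ∧ (∀ y, n g' y = φ' y • z') ∧
      LinearIndependent K4 ![z, z']
  · obtain ⟨g', φ', z', x', hx', hz', hg', li⟩ := h1
    have z0' : z' ≠ 0 := li.ne_zero 1
    have e1 : φ z' = 0 := by simpa [hg', hx'] using (cr g').2 x'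
    have e2 : φ' z = 0 := by simpa [hg', z0'] using (cr g').1
    have sp := span3 hx hz e1 li
    have e3 : φ' x ≠ 0 := fun e => by
      obtain ⟨r, s, e'⟩ := sp x'
      rw [e'] at hx'
      simp [e, e2, hz'] at hx'
    have k1 := D.card_K (T := Fx × Fx × Fx) (sp' sp) (fun k => (⟨_, D.herm k k.2 x x⟩, ⟨_, tr k⟩,
      ⟨_, D.trace hg' k.2 hz' e3⟩)) fun k k' e => by
        simp only [Prod.mk.injEq, Subtype.mk.injEq, mul_eq_mul_left_iff, e3, or_false] at e
        simp only [e, D.perp hg k.2 hz hx0, D.perp hg k'.2 hz hx0, D.perp hg' k.2 hz' e3, D.perp hg' k'.2 hz' e3,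
          D.perp hg' k.2 e2 e3, D.perp hg' k'.2 e2 e3, and_self]
    choose r s e using sp
    have k2 := card_le_mul D.K (fun k => (r (n k x), s (n k x))) fun k k' e' => D.mem_K (ext (fun y => ⟨_, _, e y⟩) k k'
      (by rw [(D.cross hg' hx' z0' _).1, (D.cross hg' hx' z0' _).1])
      (by rw [e (n k x), e (n k' x), (cr _).2, (cr _).2, (Prod.mk.inj e').1, (Prod.mk.inj e').2]))
    simp only [Nat.card_prod, card_Fx, card_K4] at k1 k2
    omega
  have h2 : ∀ k, ∃ χ : U3 →ₗ[K4] K4, ∀ y, n k y = χ y • z := fun k => by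
    by_cases e : n k = 0
    · exact ⟨0, fun y => by simp [e]⟩
    obtain ⟨φ', z', x', -, hx', hz', hg'⟩ := rank_one e (D.nn k)
    obtain ⟨c, rfl⟩ : ∃ c : K4, c • z = z' := by
      by_contra! e'
      exact h1 ⟨k, φ', z', x', hx', hz', hg', (LinearIndependent.pair_iff' z0).2 e'⟩
    exact ⟨c • φ', fun y => by rw [hg', smul_smul, mul_comm]; rfl⟩
  choose χ hχ using h2
  obtain ⟨z', e1, e2⟩ : ∃ z' ∈ LinearMap.ker φ, z' ∉ Submodule.span K4 {z} := by
    by_contra! e
    have := Submodule.finrank_mono (show LinearMap.ker φ ≤ _ from e)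
    rw [finrank_ker hx, finrank_span_singleton z0] at this
    omega
  have sp := span3 hx hz e1 ((LinearIndependent.pair_iff' z0).2 fun c e => e2 (Submodule.mem_span_singleton.2 ⟨c, e⟩))
  have p1 : ∀ k : D.K, h k z z' = 0 := fun k => by rw [← D.herm k k.2, D.perp hg k.2 e1 hx0, map_zero]
  by_cases h3 : ∀ k, χ k z' = 0
  · have k1 := D.card_K (T := Fx × Fx × Fx × K4) (sp' sp) (fun k => (⟨_, D.herm k k.2 x x⟩, ⟨_, D.herm k k.2 z' z'⟩,
      ⟨_, tr k⟩, h k x z')) fun k k' e => by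
        simp only [Prod.mk.injEq, Subtype.mk.injEq] at e
        simp only [e, D.perp hg k.2 hz hx0, D.perp hg k'.2 hz hx0, p1, and_self]
    have k2 := card_le_mul D.K (fun k => χ k x) fun k k' e' => D.mem_K (ext sp k k' (by rw [hχ, hχ, h3, h3])
      (by rw [hχ, hχ, show χ k x = χ k' x from e']))
    simp only [Nat.card_prod, card_Fx, card_K4] at k1 k2
    omega
  obtain ⟨g', hg'⟩ := not_forall.1 h3
  have p2 : ∀ k : D.K, h k x z = 0 := fun k => by
    have := D.perp (hχ g') k.2 (x := χ g' z' • x - χ g' x • z') (by simp [mul_comm]) hg'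
    simpa [LinearMap.map_smulₛₗ, D.perp hg k.2 e1 hx0, hg'] using this
  have k1 := D.card_K (T := Fx × Fx × K4) (sp' sp) (fun k => (⟨_, D.herm k k.2 x x⟩, ⟨_, D.herm k k.2 z' z'⟩,
    h k x z')) fun k k' e => by
      simp only [Prod.mk.injEq, Subtype.mk.injEq] at e
      simp only [e, D.perp hg k.2 hz hx0, D.perp hg k'.2 hz hx0, p1, p2, and_self]
  have k0 : ∀ k k' : E, (χ k z', χ k x) = (χ k' z', χ k' x) → k⁻¹ * k' ∈ D.K := fun k k' e' =>
    D.mem_K (ext sp k k' (by rw [hχ, hχ, (Prod.mk.inj e').1]) (by rw [hχ, hχ, (Prod.mk.inj e').2]))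
  have k2 := card_le_mul D.K _ k0
  simp only [Nat.card_prod, card_Fx, card_K4] at k1 k2
  obtain ⟨F, O⟩ := ho.resolve_left (by omega)
  obtain ⟨k, hk⟩ : ∃ k, (χ k z', χ k x) = (0, K4.w) := by
    by_contra! e
    have k3 := card_le_mul (T := {t : K4 × K4 // t ≠ (0, K4.w)}) D.K (fun k => ⟨_, e k⟩) fun k k' e' =>
      k0 k k' (congrArg Subtype.val e')
    rw [show Nat.card {t : K4 × K4 // t ≠ (0, K4.w)} = 15 by rw [Nat.card_eq_fintype_card]; decide] at k3
    omega
  have k4 : ∀ y, n k y = K4.w • n g y := fun y => by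
    obtain ⟨r, s, e⟩ := sp y
    rw [hg]
    conv_lhs => rw [e]
    simp only [map_add, map_smul, (cr _).1, hχ k z', hχ k x, (Prod.mk.inj hk).1, (Prod.mk.inj hk).2]
    rw [smul_comm K4.w]
    simp
  have k5 := O.comm k x
  rw [k4, k4, O.smul, ← O.comm, hg, hx, one_smul] at k5
  have k6 : F z = 0 := funext fun i =>
    (by decide : ∀ a : K4, K4.bar K4.w * a = K4.w * a → a = 0) _ (congrFun k5 i)
  have k7 : F 0 = 0 := by simpa using O.smul 0 0
  exact z0 (by rw [← O.sq z, k6, k7])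

end Dt

end CL.E6S.U1
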