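/-
Centralisers `2^{1+20}.U₆(2)` (helper9): elementary abelian subgroups of order `512` in `U₆(2).2`.
-/
import Cfsg.Agent.Spor.E6SU1c
import Cfsg.Agent.Spor.E6SUe
import Cfsg.Agent.Spor.E6SUp1
import Cfsg.Agent.Spor.E6SUp2

set_option autoImplicit false

namespace CL.E6S

open Subgroup CL.Even CL.Grp CL.Uni CL.Rec CL.IN Cfsg Module U1

universe u

variable {Γ : Type u} [Group Γ] {ι : SU6 →* Γ}

theorem v6_add_self (x : V6) : x + x = 0 := vadd_self herm6.bar x

theorem UA.rp_sq (h : UA ι) {γ : Γ} {f : V6 → V6} (R : Rp ι γ K4.bar f) (h2 : γ * γ = 1) (x : V6) : f (f x) = x := by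
  let L : V6 →ₗ[K4] V6 :=
    { toFun := fun x => f (f x)
      map_add' := fun x y => by rw [R.add, R.add]
      map_smul' := fun c x => by rw [R.smul, R.smul, herm6.bar_bar]; rfl }
  obtain ⟨c, hc⟩ := herm6.eq_smul_of_fix_isotropic (by rw [finrank6]; omega) (g := L) fun v hv => by
    by_cases h0 : v = 0
    · exact ⟨0, by simp [h0]⟩
    · have hi : Iso v := ⟨h0, hv⟩
      obtain ⟨c, -, e⟩ := h.τ_inj (R.iso_map (R.iso_map hi)) hi (by
        rw [← R.act _ (R.iso_map hi), ← R.act _ hi, ← mul_assoc, ← mul_assoc, h2, mul_assoc, ← mul_inv_rev, h2]; simp)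
      exact ⟨c, e⟩
  have hc' : ∀ v, f (f v) = c • v := hc
  have h1 : f 1 ≠ 0 := fun e => one_ne_zero (congrFun (R.injective (e.trans R.zero.symm)) 0)
  have h3 : c = K4.bar c := smul_left_injective K4 h1 (by
    show c • f 1 = K4.bar c • f 1
    rw [← hc' (f 1), ← R.smul, ← hc' 1])
  have h4 : c ≠ 0 := fun e => h1 (R.injective (by rw [hc', e, zero_smul, R.zero]))
  rw [hc', eq_one_of_fixed herm6.bar h4 h3.symm, one_smul]

theorem u1b (h : UA ι) : U1b ι := by
  intro A W hW hA h2 hc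
  have := h.fin
  have := herm6.finite_equiv
  have st : ∀ a ∈ A, ∀ {s f}, Rp ι a s f → ∀ w ∈ W, f w ∈ W := fun a ha s f R w hw => by
    by_cases h0 : w = 0
    · rw [h0, R.zero]; exact zero_mem _
    · have hi := hW.iso hw h0
      exact h.mem_of_τ_mem ue hW (R.iso_map hi) (R.act w hi ▸ hA a ha ▸ ⟨_, τ_mem_AW hw hi, rfl⟩)
  have cm : ∀ a ∈ A, ∀ b ∈ A, a * b * a⁻¹ = b := fun a ha b hb => by
    rw [mul_assoc, inv_eq_of_mul_eq_one_right (h2 a ha), ← inv_eq_of_mul_eq_one_right (h2 _ (mul_mem hb ha)),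
      mul_inv_rev, mul_inv_cancel_left, inv_eq_of_mul_eq_one_right (h2 b hb)]
  have cf : ∀ a ∈ A, ∀ {s f}, Rp ι a s f → ∀ k : SU6, k * k = 1 → ι k ∈ A → ∀ x, k.1 (f x) = f (k.1 x) :=
    fun a ha s f R k k1 k2 => by
      obtain ⟨k', e1, e2⟩ := R.conj k
      rw [cm a ha _ k2] at e1
      rw [h.ι_inj k1 (Subtype.ext (LinearEquiv.ext fun x => ?_)) e1]
      · intro x; rw [e2, h.ι_inj k1 _ e1]
        refine Subtype.ext (LinearEquiv.ext fun x => ?_)
        obtain ⟨x, rfl⟩ := R.surjective x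
        exact (congrArg k'.1 (e2 x)).trans ((e2 _).trans (congrArg f (congrArg (fun g : SU6 => g.1 x) k1)))
      · obtain ⟨x, rfl⟩ := R.surjective x
        exact (congrArg k'.1 (e2 x)).trans ((e2 _).trans (congrArg f (congrArg (fun g : SU6 => g.1 x) k1)))
  let E : Subgroup SU6 :=
    { carrier := {g | g * g = 1 ∧ ι g ∈ A}
      one_mem' := ⟨mul_one 1, map_one ι ▸ one_mem A⟩
      mul_mem' := fun {a b} ha hb => ⟨by
        have : Commute b a := Subtype.ext (LinearEquiv.ext (cf _ ha.2 (rp_ι a) b hb.1 hb.2))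
        rw [this.mul_mul_mul_comm, ha.1, hb.1, mul_one], map_mul ι a b ▸ mul_mem ha.2 hb.2⟩
      inv_mem' := fun {a} ha => (inv_eq_of_mul_eq_one_right ha.1).symm ▸ ha }
  have cE : Nat.card E = Nat.card (A ⊓ ι.range : Subgroup Γ) := Nat.card_eq_of_bijective
    (fun g => ⟨ι g, g.2.2, g, rfl⟩) ⟨fun g k e => Subtype.ext (h.ι_inj g.2.1 k.2.1 (congrArg Subtype.val e)),
      fun a => let ⟨g, h1, h3⟩ := h.lift a.2.2 (h2 a a.2.1); ⟨⟨g, h1, h3 ▸ a.2.1⟩, Subtype.ext h3⟩⟩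
  have c2 := U6.idx2 (X := A) (K := ι.range) fun a ha b hb => h.idx (h2 a ha) (h2 b hb) (h2 _ (mul_mem ha hb))
  obtain ⟨e⟩ : Nonempty ((V6 ⧸ W) ≃ₗ[K4] U3) := FiniteDimensional.nonempty_linearEquiv_of_finrank_eq (by
    have := W.finrank_quotient_add_finrank
    rw [finrank6, hW.1] at this
    simp only [finrank_fin_fun]; omega)
  let c : V6 →ₗ[K4] U3 := e.toLinearMap.comp W.mkQ
  have c0 : ∀ {x}, c x = 0 ↔ x ∈ W := by simp [c]
  obtain ⟨s, hs⟩ := c.exists_rightInverse_of_surjective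
    (LinearMap.range_eq_top.2 (e.surjective.comp W.mkQ_surjective))
  have cs : ∀ y, c (s y) = y := fun y => congrArg (fun g : U3 →ₗ[K4] U3 => g y) hs
  have dc : ∀ x, ∃ w ∈ W, s (c x) = x + w := fun x =>
    ⟨s (c x) - x, c0.1 (by rw [map_sub, cs, sub_self]), by abel⟩
  have cfs : ∀ a ∈ A, ∀ {t f}, Rp ι a t f → ∀ x, c (f (s (c x))) = c (f x) := fun a ha t f R x => by
    obtain ⟨w, hw, e⟩ := dc x
    rw [e, R.add, map_add, c0.2 (st a ha R w hw), add_zero]
  let n : E → U3 →ₗ[K4] U3 := fun g => c.comp (((g.1.1 : V6 →ₗ[K4] V6) + LinearMap.id).comp s)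
  let H : E → Fm := fun g => (B6.comp (((g.1.1 : V6 →ₗ[K4] V6) + LinearMap.id).comp s)).compl₂ s
  have n1 : ∀ g y, y + n g y = c (g.1.1 (s y)) := fun g y => by
    show y + c (g.1.1 (s y) + s y) = _
    rw [map_add, cs, add_comm _ y, ← add_assoc, U1.add_self, zero_add]
  have n2 : ∀ (g : E) x, c (g.1.1 x) = c x + n g (c x) := fun g x => by rw [n1, cfs _ g.2.2 (rp_ι g)]
  have k1 : ∀ g, n g = 0 → ∀ x, g.1.1 x + x ∈ W := fun g e x => c0.1 (by
    rw [map_add, n2, e, LinearMap.zero_apply, add_zero, U1.add_self])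
  have k2 : ∀ g, n g = 0 → ∀ w ∈ W, g.1.1 w = w := fun g e w hw => herm6.ext_left fun y => by
    have := hW.2 _ (st _ g.2.2 (rp_ι g) w hw) _ (k1 g e y)
    rw [map_add, B6_map] at this
    exact (by decide : ∀ a b : K4, a + b = 0 → b = a) _ _ this
  have k3 : ∀ g, n g = 0 → ∀ x y, H g (c x) (c y) = B6 (g.1.1 x + x) y := fun g e x y => by
    obtain ⟨w, hw, e1⟩ := dc x
    obtain ⟨w', hw', e2⟩ := dc y
    show B6 (g.1.1 (s (c x)) + s (c x)) (s (c y)) = _
    rw [e1, e2, map_add g.1.1, k2 g e w hw, add_add_add_comm, v6_add_self w, add_zero, map_add,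
      hW.2 _ (k1 g e x) _ hw', add_zero]
  have D : Dt n H := ⟨fun g => Subtype.ext g.2.1, LinearMap.ext fun y => c0.2 (by
      show s y + s y ∈ W; rw [v6_add_self]; exact zero_mem W),
    fun g k y => add_left_cancel (a := y) (by
      rw [n1, show (g * k : E).1.1 (s y) = g.1.1 (k.1.1 (s y)) from rfl, n2, ← n1, map_add]; abel),
    fun k e x y => by
      have := hW.2 _ (k1 k e (s y)) _ (k1 k e (s x))
      show K4.bar (B6 (k.1.1 (s x) + s x) (s y)) = B6 (k.1.1 (s y) + s y) (s x)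
      simp only [map_add, LinearMap.add_apply, B6_map, herm6.symm] at this ⊢
      exact (by decide : ∀ a b d : K4, a + b + (d + a) = 0 → b + a = d + a) _ _ _ this,
    fun k k' e e' e'' => Subtype.ext (Subtype.ext (LinearEquiv.ext fun x => add_right_cancel (b := x)
      (herm6.ext_left fun y => by rw [← k3 k e, ← k3 k' e', e'']))),
    fun g k e x y => by
      rw [n1, n1, k3 k e, cf _ g.2.2 (rp_ι g) k k.2.1 k.2.2, ← map_add, B6_map]; rfl⟩
  have ot : ¬ A ≤ ι.range → ∃ F, Ot n H F := fun hr => by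
    obtain ⟨a, ha, hn⟩ := SetLike.not_le_iff_exists.1 hr
    obtain ⟨f, R⟩ := h.rep hn (h2 a ha)
    refine ⟨fun y => c (f (s y)), fun x y => by rw [map_add, R.add, map_add],
      fun d x => by rw [map_smul, R.smul, map_smul], fun x => by rw [cfs a ha R, h.rp_sq R (h2 a ha), cs],
      fun g x => add_left_cancel (a := c (f (s x))) ?_, fun k e x y => ?_⟩
    · rw [← n2, cf a ha R g g.2.1 g.2.2, ← cfs a ha R (g.1.1 (s x)), ← n1, map_add s, R.add, map_add]
    · rw [k3 k e, cf a ha R k k.2.1 k.2.2, ← R.add, R.iso]; rfl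
  have m1 := D.main (by omega) (by
    by_cases hr : A ≤ ι.range
    · exact .inl (by rwa [cE, inf_eq_left.2 hr])
    exact .inr (ot hr))
  have hr : A ≤ ι.range := by
    by_contra hr
    obtain ⟨F, O⟩ := ot hr
    have := D.outer m1.1 O
    omega
  have h3 : A ⊓ ι.range ≤ AW ι W := fun a ha => by
    obtain ⟨g, g1, rfl⟩ := h.lift ha.2 (h2 a ha.1)
    exact ⟨g, (up_memAS ue W g hW).2 (k2 ⟨g, g1, ha.1⟩ (m1.1 _)), rfl⟩
  have h4 : Nat.card (AW ι W) ≤ 512 := (Nat.card_le_card_of_surjective _ (ι.subgroupMap_surjective (AS W))).trans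
    (up_cardAS ue (up_memAS ue) W hW)
  have h5 := eq_of_le_of_card_ge h3 (by rw [inf_eq_left.2 hr]; omega)
  rwa [inf_eq_left.2 hr] at h5

end CL.E6S
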