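/-
Centralisers `2^{1+20}.U₆(2)` and `2^{1+20}.U₆(2).2`: the centre of `W(E₇)` and the hexagon word in `U₆(2)`.
-/
import Cfsg.Agent.Spor.E6SC

set_option autoImplicit false

namespace CL.E6S

open Subgroup CL.Even CL.Grp CL.Uni CL.Rec CL.IN Cfsg Module

universe u

namespace U89

/-- evaluate first -/
def frc {α : Type} (x : K4) (f : K4 → α) : α :=
  match x with
  | .o => f .o | .i => f .i | .w => f .w | .v => f .v

theorem frc_eq {α : Type} (x : K4) (f : K4 → α) : frc x f = f x := by cases x <;> rfl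

variable {n : ℕ}

/-- the action of a word on the coefficients -/
def run (G : Fin n → Fin n → K4) : List (Fin n) → (Fin n → K4) → Fin n → K4
  | [], c => c
  | k :: l, c => frc (c k + ∑ i, G k i * c i) fun x => run G l (Function.update c k x)

/-- the vector with given coefficients -/
def L (w : Fin n → V6) (c : Fin n → K4) : V6 := ∑ i, c i • w i

variable {w : Fin n → V6} {G : Fin n → Fin n → K4}

theorem B_L (hG : ∀ i j, B6 (w i) (w j) = G i j) (k : Fin n) (c : Fin n → K4) :
    B6 (w k) (L w c) = ∑ i, G k i * c i := by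
  simp only [L, map_sum, map_smul, hG, smul_eq_mul, mul_comm]

theorem L_single (i : Fin n) (s : K4) : L w (fun j => if i = j then s else 0) = s • w i := by
  simp [L, ite_smul]

theorem run_spec (hw : ∀ i, Iso (w i)) (hG : ∀ i j, B6 (w i) (w j) = G i j) (l : List (Fin n)) (c : Fin n → K4) :
    ((l.map fun i => ta (w i)).prod).1 (L w (run G l c)) = L w c := by
  induction l generalizing c with
  | nil => rfl
  | cons k l ih =>
    have h1 : L w (Function.update c k (c k + ∑ i, G k i * c i)) = (ta (w k)).1 (L w c) := by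
      rw [ta_apply (hw k), B_L hG, ← L_single, L, L, L, ← Finset.sum_add_distrib]
      refine Finset.sum_congr rfl fun j _ => ?_
      rw [← add_smul]
      by_cases e : k = j
      · subst e; simp
      · simp [e, Function.update_of_ne (Ne.symm e)]
    rw [run, frc_eq, List.map_cons, List.prod_cons]
    show (ta (w k)).1 (((l.map fun i => ta (w i)).prod).1 _) = _
    rw [ih, h1]
    exact congrArg (fun g : SU6 => g.1 (L w c)) (ta_sq (w k))

theorem scal {w : Fin 6 → V6} {G : Fin 6 → Fin 6 → K4} (hG : ∀ i j, B6 (w i) (w j) = G i j) (H : Fin 6 → Fin 6 → K4)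
    (hH : ∀ i j, ∑ k, H i k * G k j = if i = j then 1 else 0) {g : SU6} {s : K4} (hs : ∀ i, g.1 (w i) = s • w i)
    (v : V6) : g.1 v = s • v := by
  have li : LinearIndependent K4 w := Fintype.linearIndependent_iff.2 fun c hc i => by
    have h1 : ∀ k, ∑ j, G k j * c j = 0 := fun k => by rw [← B_L hG, L, hc, map_zero]
    have h2 : ∑ k, H i k * ∑ j, G k j * c j = c i := by
      simp only [Finset.mul_sum, ← mul_assoc]
      rw [Finset.sum_comm]
      simp only [← Finset.sum_mul, hH, ite_mul, one_mul, zero_mul, Finset.sum_ite_eq, Finset.mem_univ, if_true]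
    rw [← h2]; simp [h1]
  let b := basisOfLinearIndependentOfCardEqFinrank li (by rw [finrank6]; rfl)
  have : (g.1 : V6 →ₗ[K4] V6) = s • LinearMap.id := b.ext fun i => by simpa [b] using hs i
  exact LinearMap.congr_fun this v

theorem resc {u v u' : V6} (h : B6 u v ≠ 0) (p : Pr u' u) : ∃ v', Pr v' v ∧ B6 u' v' = 1 :=
  have k := mt (p.B_left v).1 h
  ⟨(B6 u' v)⁻¹ • v, ⟨_, inv_ne_zero k, rfl⟩, by rw [map_smul, smul_eq_mul, inv_mul_cancel₀ k]⟩

theorem bflip {u v : V6} {c : K4} (h : B6 u v = c) : B6 v u = K4.bar c := by rw [← h, herm6.symm]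

variable {Γ : Type u} [Group Γ] {ι : SU6 →* Γ}

theorem prod_τ (w : Fin n → V6) (l : List (Fin n)) :
    (l.map fun i => τ ι (w i)).prod = ι (l.map fun i => ta (w i)).prod := by
  rw [map_list_prod, List.map_map]; rfl

/-- the Gram matrix of `E₇` -/
def G7 (i j : Fin 7) : K4 := if (i, j) ∈ e7 ∨ (j, i) ∈ e7 then 1 else 0

/-- the Gram matrix of the hexagon -/
def G6 (κ : K4) (i j : Fin 6) : K4 :=
  if i = 5 ∧ j = 0 then κ else if i = 0 ∧ j = 5 then K4.cj κ else if j = i + 1 ∨ i = j + 1 then 1 else 0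

theorem c7 : ∀ i j, run G7 (List.replicate 9 [0, 1, 2, 3, 4, 5, 6]).flatten (fun j => if i = j then 1 else 0) j =
    if i = j then 1 else 0 := by decide +kernel

theorem c6 : ∀ κ : K4, κ ≠ 0 → κ ≠ 1 → ∀ i j, run (G6 κ) xL (fun j => if i = j then K4.cj κ else 0) j =
    if i = j then 1 else 0 := by decide +kernel

end U89

open U89

variable {Γ : Type u} [Group Γ] {ι : SU6 →* Γ}

theorem u8 (h : UA ι) : U8 ι := by
  intro v hv hB
  obtain ⟨w1, p1, b1⟩ := resc ((hB 0 1).2 (by decide)) (Pr.refl _)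
  obtain ⟨w2, p2, b2⟩ := resc ((hB 0 2).2 (by decide)) (Pr.refl _)
  obtain ⟨w3, p3, b3⟩ := resc ((hB 0 3).2 (by decide)) (Pr.refl _)
  obtain ⟨w4, p4, b4⟩ := resc ((hB 1 4).2 (by decide)) p1
  obtain ⟨w5, p5, b5⟩ := resc ((hB 2 5).2 (by decide)) p2
  obtain ⟨w6, p6, b6⟩ := resc ((hB 4 6).2 (by decide)) p4
  obtain ⟨w, hp, he⟩ : ∃ w : Fin 7 → V6, (∀ i, Pr (w i) (v i)) ∧ ∀ e ∈ e7, B6 (w e.1) (w e.2) = 1 :=
    ⟨![v 0, w1, w2, w3, w4, w5, w6], fun i => by
      fin_cases i
      exacts [Pr.refl _, p1, p2, p3, p4, p5, p6], by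
      simp only [e7, List.forall_mem_cons]
      exact ⟨b1, b2, b3, b4, b5, b6, by simp⟩⟩
  have hG : ∀ i j, B6 (w i) (w j) = G7 i j := fun i j => by
    unfold G7
    split_ifs with e
    · exact e.elim (he _) fun e => (bflip (he _ e)).trans (map_one _)
    · exact ((hp i).B_left _).2 (((hp j).B_right _).2 (not_not.1 fun k => e ((hB i j).1 k)))
  have hw : ∀ i, Iso (w i) := fun i => (hp i).iso (hv i)
  have h0 : ∀ l, (∀ i j, run G7 l (fun j => if i = j then 1 else 0) j = if i = j then 1 else 0) →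
      (l.map fun i => τ ι (w i)).prod = 1 := fun l hl => (prod_τ w l).trans ((h.ker _).2 ⟨1,
    scal (w := fun i => w i.castSucc) (fun i j => hG _ _)
      ![![.o, .o, .o, .i, .o, .o], ![.o, .o, .o, .o, .i, .o], ![.o, .o, .o, .o, .o, .i], ![.i, .o, .o, .o, .i, .i],
        ![.o, .i, .o, .i, .o, .o], ![.o, .o, .i, .i, .o, .o]] (by decide +kernel) fun i => by
      have := run_spec hw hG l fun j => if i.castSucc = j then 1 else 0
      rwa [funext (hl _), L_single, map_smul, one_smul] at this⟩)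
  have h1 := h0 _ c7
  rw [List.map_flatten, List.map_replicate, List.prod_flatten, List.map_replicate, List.prod_replicate] at h1
  simpa only [List.map_cons, List.map_nil, List.prod_cons, List.prod_nil, mul_one, fun i => (hp i).τ_eq (ι := ι) (hv i),
    mul_assoc] using h1

theorem u9 (h : UA ι) : U9 ι := by
  intro v hv hB hn
  obtain ⟨w1, p1, b1⟩ := resc ((hB 0 1).2 (by decide)) (Pr.refl _)
  obtain ⟨w2, p2, b2⟩ := resc ((hB 1 2).2 (by decide)) p1
  obtain ⟨w3, p3, b3⟩ := resc ((hB 2 3).2 (by decide)) p2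
  obtain ⟨w4, p4, b4⟩ := resc ((hB 3 4).2 (by decide)) p3
  obtain ⟨w5, p5, b5⟩ := resc ((hB 4 5).2 (by decide)) p4
  obtain ⟨w, hp, he⟩ : ∃ w : Fin 6 → V6, (∀ i, Pr (w i) (v i)) ∧ ∀ i, i ≠ 5 → B6 (w i) (w (i + 1)) = 1 :=
    ⟨![v 0, w1, w2, w3, w4, w5], fun i => by
      fin_cases i
      exacts [Pr.refl _, p1, p2, p3, p4, p5], fun i hi => by
      fin_cases i
      exacts [b1, b2, b3, b4, b5, absurd rfl hi]⟩
  have hG : ∀ i j, B6 (w i) (w j) = G6 (B6 (w 5) (w 0)) i j := fun i j => by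
    unfold G6
    split_ifs with e1 e2 e
    · rw [e1.1, e1.2]
    · rw [e2.1, e2.2]; exact bflip rfl
    · rcases e with rfl | rfl
      · exact he _ fun e => e1 ⟨e, by rw [e]; rfl⟩
      · exact (bflip (he _ fun e => e2 ⟨by rw [e]; rfl, e⟩)).trans (map_one _)
    · exact ((hp i).B_left _).2 (((hp j).B_right _).2 (not_not.1 fun k => e ((hB i j).1 k)))
  have hw : ∀ i, Iso (w i) := fun i => (hp i).iso (hv i)
  have h0 : B6 (w 5) (w 0) ≠ 0 := mt (fun k => ((hp 0).B_right _).1 (((hp 5).B_left _).1 k)) ((hB 5 0).2 (by decide))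
  simp only [← fun i => (hp i).τ_eq (ι := ι) (hv i)] at hn ⊢
  generalize B6 (w 5) (w 0) = κ at hG h0
  have h1 : κ ≠ 1 := by
    rintro rfl
    have k1 := run_spec hw hG [0, 1, 2, 3] ![1, 1, 1, 1, 1, 0]
    rw [show run (G6 1) [0, 1, 2, 3] ![1, 1, 1, 1, 1, 0] = fun j => if 4 = j then 1 else 0 by decide +kernel,
      L_single, one_smul] at k1
    have k2 := τ_comm (ι := ι) (hw 5) (iso_map (([0, 1, 2, 3] : List (Fin 6)).map fun i => ta (w i)).prod (hw 4))
      (by rw [k1, B_L hG]; decide +kernel)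
    rw [← τ_conj _ (hw 4), ← prod_τ] at k2
    exact hn (by simpa only [List.map_cons, List.map_nil, List.prod_cons, List.prod_nil, mul_one, mul_inv_rev, τ_inv,
      mul_assoc] using k2)
  rw [prod_τ]
  refine (h.ker _).2 ⟨K4.cj κ, scal hG (fun i j => if (i.val + j.val) % 2 = 0 then 0 else if i < j then κ else K4.cj κ)
    ?_ fun i => ?_⟩
  · clear hG; revert κ; decide +kernel
  · have := run_spec hw hG xL fun j => if i = j then K4.cj κ else 0
    rwa [funext (c6 κ h0 h1 i), L_single, L_single, one_smul] at this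

end CL.E6S
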