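/-
Centralisers `2^{1+20}.U₆(2)` (job E6S-UC): counting, generation and a centraliser in `U₆(2).2`.
-/
import Cfsg.Agent.Spor.E6SC
import Cfsg.Agent.Spor.E6SUw
import Cfsg.Agent.Spor.E6SUe

set_option autoImplicit false

namespace CL.E6S

open Subgroup CL.Even CL.Grp CL.Uni CL.Rec CL.IN Cfsg Module

universe u

variable {Γ : Type u} [Group Γ] {ι : SU6 →* Γ}

theorem uc_card (h : UA ι) : Nat.card ι.range = 9196830720 := by
  have h1 : ι.ker = center SU6 := Subgroup.ext fun g =>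
    (h.ker g).trans (herm6.mem_center_SUG (by rw [finrank6]; omega) g).symm
  have h2 := ι.ker.card_mul_index
  have h3 := herm6.card_SUG
  rw [index_ker, h1, herm6.card_center_SUG (by rw [finrank6]; omega), finrank6] at h2
  rw [finrank6, ← h2, show guOrder 2 6 = 9 * 9196830720 by decide, show Nat.gcd 6 (2 + 1) = 3 by decide, ← mul_assoc]
    at h3
  exact Nat.eq_of_mul_eq_mul_left (by norm_num) h3

theorem uc_cnt (p : V6) (hp : Iso p) : {γ | ∃ v, Iso v ∧ B6 p v ≠ 0 ∧ γ = τ ι v}.ncard ≤ 512 := by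
  classical
  obtain ⟨g, rfl⟩ := (uw ue).ptT (dec 5) p (iso_dec (by decide)) hp
  have h1 : ((List.range 4096).filter fun n => Nat.beq (cB n n) 0 && Nat.beq (cB 5 n) 1).length = 512 := by
    decide +kernel
  rw [← h1, ← List.length_map (f := fun n => τ ι (g.1 (dec n)))]
  refine le_trans ?_ (List.toFinset_card_le _)
  rw [← Set.ncard_coe_finset]
  refine Set.ncard_le_ncard ?_ (Finset.finite_toSet _)
  rintro _ ⟨v, hv, h2, rfl⟩
  obtain ⟨v, rfl⟩ := g.1.surjective v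
  rw [B6_map] at h2
  obtain ⟨n, hn, e⟩ := exists_dec ((B6 (dec 5) v)⁻¹ • v)
  simp only [List.coe_toFinset, List.mem_map, List.mem_filter, List.mem_range, Set.mem_ofPred_eq, Bool.and_eq_true,
    Nat.beq_eq]
  refine ⟨n, ⟨hn, cB_eq_zero.2 (by rw [e]; simp [(B6_map g v v).symm.trans hv.2]), ?_⟩, ?_⟩
  · refine (by decide : ∀ a < 4, kd a = 1 → a = 1) _ (cB_lt _ _) ?_
    rw [kd_cB, e, map_smul, smul_eq_mul, inv_mul_cancel₀ h2]
  · rw [e, map_smul]
    exact Pr.τ_eq ⟨_, inv_ne_zero h2, rfl⟩ hv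

theorem uc_gen (h : UA ι) (p p' : V6) (hp : Iso p) (hp' : Iso p') (hne : τ ι p ≠ τ ι p') :
    centralizer {τ ι p} ⊔ centralizer {τ ι p'} = ⊤ := by
  have mc := fun {a b : Γ} => mem_centralizer_singleton_iff (g := a) (k := b)
  have h1 : ∀ s, Iso s → ¬ Pr s p → (B6 p p' = 0 ↔ B6 p s = 0) →
      centralizer {τ ι s} ≤ centralizer {τ ι p} ⊔ centralizer {τ ι p'} := fun s hs n e x hx => by
    obtain ⟨g, h2, h3⟩ := (uw ue).ptS p p' s hp hp' hs (fun e => hne (e.τ_eq hp).symm) n e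
    have h4 : ι g ∈ centralizer {τ ι p} ⊔ centralizer {τ ι p'} :=
      mem_sup_left (mc.2 (mul_inv_eq_iff_eq_mul.1 (by rw [τ_conj g hp, h2])))
    rw [← h3.τ_eq hs, ← τ_conj g hp', mc] at hx
    have h5 : (ι g)⁻¹ * x * ι g ∈ centralizer {τ ι p} ⊔ centralizer {τ ι p'} := mem_sup_right (mc.2 (by
      calc _ = (ι g)⁻¹ * (x * (ι g * τ ι p' * (ι g)⁻¹)) * ι g := by group
        _ = _ := by rw [hx]; group))
    simpa [mul_assoc] using mul_mem (mul_mem h4 h5) (inv_mem h4)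
  have h2 : (centralizer {τ ι p} ⊔ centralizer {τ ι p'}).comap ι = ⊤ := eq_top_of_ta fun v hv => by
    by_cases e : B6 p v = 0
    · exact mem_sup_left (mc.2 (τ_comm hp hv e).eq.symm)
    by_cases e' : B6 p p' = 0
    · obtain ⟨r, r', F, rfl, rfl⟩ := ue.fr1 p v ⟨hp, hv, e⟩
      exact h1 (r 1) (F.hy 1).1 (fun k => (F.hy 1).2.2 ((k.B_left _).2 (F.pq 0 1 (by decide))))
        (iff_of_true e' (F.pp 0 1)) (mc.2 (τ_comm (F.hy 1).1 hv (F.pq 1 0 (by decide))).eq.symm)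
    · exact h1 v hv (fun k => e ((k.B_right _).2 hp.2)) (iff_of_false e' e) (mc.2 rfl)
  refine eq_top_iff.2 fun γ _ => ?_
  obtain ⟨s, f, R, -⟩ := h.exists_rp γ
  obtain ⟨g, hg⟩ := (uw ue).ptT p (f p) hp (R.iso_map hp)
  have h3 : (ι g)⁻¹ * γ ∈ centralizer {τ ι p} := mc.2 (by
    have := (R.act p hp).trans (hg ▸ (τ_conj g hp).symm)
    calc _ = (ι g)⁻¹ * (γ * τ ι p * γ⁻¹) * γ := by group
      _ = _ := by rw [this]; group)
  simpa using mul_mem (h2.ge (mem_top g) : ι g ∈ _) (mem_sup_left h3)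

theorem uc_two {γ : Γ} {s : K4 →+* K4} {f : V6 → V6} (R : Rp ι γ s f) {x y x' y' : V6} {α β : K4} (c : K4)
    (h1 : f x = α • x) (h2 : f y = β • y) (h3 : B6 x' x ≠ 0) (h4 : B6 x' y = 0) (h5 : B6 y' y ≠ 0) (h6 : B6 y' x = 0)
    (h7 : x + c • y ≠ 0 → Pr (f (x + c • y)) (x + c • y)) : s c * β = α * c := by
  obtain ⟨l, -, e⟩ := h7 fun e => h3 (by simpa [h4] using congrArg (B6 x') e)
  rw [R.add, R.smul, h1, h2] at e
  have e1 := congrArg (B6 x') e
  have e2 := congrArg (B6 y') e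
  simp only [map_add, map_smul, smul_eq_mul, h4, h6, mul_zero, add_zero, zero_add, ← mul_assoc] at e1 e2
  rw [mul_right_cancel₀ h3 e1, mul_right_cancel₀ h5 e2]

theorem uc_cen (h : UA ι) (γ : Γ) (p p' : V6) (g4 : γ ^ 4 = 1) (hy : Hy p p') (c1 : Commute γ (τ ι p)) (c2 : Commute γ (τ ι p'))
    (c3 : ∀ s, Iso s → B6 p s = 0 → B6 p' s = 0 → Commute γ (τ ι s)) : γ = 1 := by
  obtain ⟨r, r', F, rfl, rfl⟩ := ue.fr1 p p' hy
  have fl := fun {x y : V6} => herm6.flip_zero (x := x) (y := y)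
  have pq := fun i j e => fl (F.pq i j e)
  have qp := fun i => herm6.flip_ne (F.hy i).2.2
  have key : ∀ s f, Rp ι γ s f → ∃ d : Fin 3 ⊕ Fin 3 → K4, (∀ i, d i ≠ 0 ∧ f (Sum.elim r r' i) = d i • Sum.elim r r' i) ∧
      (∀ c, s c * d (.inl 2) = d (.inl 1) * c) ∧ d (.inr 2) = d (.inr 1) ∧ d (.inr 2) = d (.inl 1) := fun s f R => by
    have h1 : ∀ i, Pr (f (Sum.elim r r' i)) (Sum.elim r r' i) := by
      rintro (i | i)
      · refine h.pr_of_comm R (F.hy i).1 ?_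
        by_cases e : i = 0
        exacts [e ▸ c1, c3 _ (F.hy i).1 (F.pp _ _) (pq _ _ e)]
      · refine h.pr_of_comm R (F.hy i).2.1 ?_
        by_cases e : i = 0
        exacts [e ▸ c2, c3 _ (F.hy i).2.1 (F.pq _ _ (Ne.symm e)) (F.qq _ _)]
    choose d h2 h3 using h1
    have h4 : ∀ x, x ≠ 0 → B6 x x = 0 → B6 (r 0) x = 0 → B6 (r' 0) x = 0 → Pr (f x) x := fun x a b c d =>
      h.pr_of_comm R ⟨a, b⟩ (c3 x ⟨a, b⟩ c d)
    refine ⟨d, fun i => ⟨h2 i, h3 i⟩, fun c => uc_two R c (h3 (.inl 1)) (h3 (.inl 2)) (qp 1) (pq 2 1 (by decide)) (qp 2)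
      (pq 1 2 (by decide)) fun e => h4 _ e ?_ ?_ ?_, ?_, ?_⟩
    · simp [F.pp]
    · simp [F.pp]
    · simp [pq 1 0 (by decide), pq 2 0 (by decide)]
    · simpa using uc_two R 1 (h3 (.inr 1)) (h3 (.inr 2)) (F.hy 1).2.2 (F.pq 1 2 (by decide)) (F.hy 2).2.2
        (F.pq 2 1 (by decide)) fun e => h4 _ e (by simp [F.qq]) (by simp [F.pq 0 1 (by decide), F.pq 0 2 (by decide)])
          (by simp [F.qq])
    · simpa using uc_two R 1 (h3 (.inl 1)) (h3 (.inr 2)) (qp 1) (F.qq 1 2) (F.hy 2).2.2 (F.pp 2 1)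
        fun e => h4 _ e (by simp [F.pp, F.qq, F.pq 1 2 (by decide), pq 1 2 (by decide)])
          (by simp [F.pp, F.pq 0 2 (by decide)]) (by simp [F.qq, pq 1 0 (by decide)])
  by_cases e : γ ∈ ι.range
  · obtain ⟨g, rfl⟩ := e
    obtain ⟨d, h1, h2, h3, h4⟩ := key _ _ (rp_ι g)
    have h5 : d (.inl 2) = d (.inl 1) := by simpa using h2 1
    let b := basisOfLinearIndependentOfCardEqFinrank (Uw.fr_li F) (by simp)
    have hb : ∀ i, g.1 (b i) = d i • b i := fun i => by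
      simpa only [b, coe_basisOfLinearIndependentOfCardEqFinrank] using (h1 i).2
    have h6 : LinearMap.toMatrix b b (g.1 : V6 →ₗ[K4] V6) = Matrix.diagonal d := by
      ext i j
      rw [LinearMap.toMatrix_apply, LinearEquiv.coe_coe, hb, map_smul, Basis.repr_self, Matrix.diagonal_apply]
      by_cases e : i = j <;> simp [e, Finsupp.single_apply, Ne.symm]
    have h7 := (mem_SUG.1 g.2).2
    rw [dt_apply, ← LinearMap.det_toMatrix b, h6, Matrix.det_diagonal, Fintype.prod_sum_type, Fin.prod_univ_three,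
      Fin.prod_univ_three, ← h3, h4, h5] at h7
    have h8 := B6_map g (r 0) (r' 0)
    rw [show g.1 (r 0) = _ from (h1 (.inl 0)).2, show g.1 (r' 0) = _ from (h1 (.inr 0)).2, map_smul,
      LinearMap.map_smulₛₗ, LinearMap.smul_apply, smul_eq_mul, smul_eq_mul, ← mul_assoc] at h8
    obtain ⟨e1, e2⟩ := (by decide : ∀ l l' m : K4, l' * K4.bar l = 1 → l * m * m * (l' * m * m) = 1 → l = m ∧ l' = m)
      _ _ _ (mul_right_cancel₀ (F.hy 0).2.2 (h8.trans (one_mul _).symm)) h7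
    have h9 : ∀ i, d i = d (.inl 1) := by
      simp only [Sum.forall, Fin.forall_fin_succ, IsEmpty.forall_iff, and_true]
      exact ⟨⟨e1, rfl, h5⟩, e2, h3.symm.trans h4, h4⟩
    exact (h.ker g).2 ⟨d (.inl 1), LinearMap.congr_fun (b.ext (f₁ := (g.1 : V6 →ₗ[K4] V6))
      (f₂ := d (.inl 1) • LinearMap.id) fun i => by rw [← h9 i]; exact hb i)⟩
  · obtain ⟨s, f, R, rfl | rfl⟩ := h.exists_rp γ
    · refine absurd (h.mem_of_sq R.mem_G0 (h.mem_of_inv (h.sq_mem γ) ?_)) e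
      rw [← g4]; simp only [pow_succ, pow_zero, one_mul, mul_assoc]
    obtain ⟨d, h1, h2, -⟩ := key _ _ R
    have h3 := h2 K4.w
    rw [show d (.inl 2) = d (.inl 1) by simpa using h2 1, mul_comm] at h3
    exact absurd (mul_left_cancel₀ (h1 _).1 h3) (by decide)

theorem uc (h : UA ι) : UC ι := ⟨uc_card h, uc_cnt, uc_gen h, uc_cen h⟩

end CL.E6S
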