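/-
Centralisers `2^{1+20}.U₆(2)`, step WD: identities in the Coxeter group of type `Y₃₃₃` (helper28).
-/
import Cfsg.Agent.Spor.E6SD
import Cfsg.Agent.Spor.InY551

set_option autoImplicit false
set_option maxRecDepth 100000

namespace CL.E6S

open Subgroup CL.IN CL.TC Cfsg Cfsg.Spor

universe u

/-- the node with number `i` -/
def wdNd (i : ℕ) : Nd := Dat.I10.getD i .a

/-- the number of a node -/
def wdIx (n : Nd) : ℕ := Dat.I10.idxOf n

/-- the labels -/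
def wdLab (i j : ℕ) : ℕ := coxLabel Bimonster.edges (wdNd i) (wdNd j)

theorem wdNd_mem (i : ℕ) : wdNd i ∈ Dat.I10 := by
  by_cases h : i < 10
  · revert i; decide
  · rw [wdNd, List.getD_eq_default _ _ (by simpa using h)]; decide

/-- the certificate `ps` proves `l = l'` -/
def wdOk (l l' : List Nd) (ps : List ℕ) : Prop := (l.map wdIx).map wdNd = l ∧ (l'.map wdIx).map wdNd = l' ∧
  ps.foldl (mvAt wdLab) (l.map wdIx ++ (l'.map wdIx).reverse) = []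

instance (l l' : List Nd) (ps : List ℕ) : Decidable (wdOk l l' ps) := by unfold wdOk; infer_instance

variable {G : Type u} [Group G] {k : Nd → G}

theorem wd_append (l l' : List Nd) : wd k (l ++ l') = wd k l * wd k l' := by simp [wd]

theorem wd_single (n : Nd) : wd k [n] = k n := by simp [wd]

theorem wd_flatMap {ι : Type} (f : ι → List Nd) (l : List ι) : wd k (l.flatMap f) = (l.map fun i => wd k (f i)).prod := by
  induction l with
  | nil => rfl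
  | cons i l ih => rw [List.flatMap_cons, wd_append, ih, List.map_cons, List.prod_cons]

theorem Cox.wd_eq (h : Cox k) {l l' : List Nd} (ps : List ℕ) (e : wdOk l l' ps) : wd k l = wd k l' := by
  have h2 : ∀ i j, (k (wdNd i) * k (wdNd j)) ^ wdLab i j = 1 := fun i j => h _ (wdNd_mem i) _ (wdNd_mem j)
  have h1 : ∀ i, k (wdNd i) * k (wdNd i) = 1 := fun i => by simpa [wdLab, coxLabel] using h2 i i
  have h3 := ev_eq_one_of_moves (g := fun i => k (wdNd i)) h1 h2 ps e.2.2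
  have h4 : ∀ w : List ℕ, ev (fun i => k (wdNd i)) w = wd k (w.map wdNd) := fun w => by
    rw [ev, wd, List.map_map]; rfl
  rwa [ev_append, ev_reverse h1, mul_inv_eq_one, h4, h4, e.1, e.2.1] at h3

theorem Cox.wd_comm (h : Cox k) {l l' : List Nd} (ps : List ℕ) (e : wdOk (l ++ l') (l' ++ l) ps) :
    Commute (wd k l) (wd k l') := by
  have := h.wd_eq ps e
  rwa [wd_append, wd_append] at this

theorem Cox.wd_comm1 (h : Cox k) {l : List Nd} {n : Nd} (ps : List ℕ) (e : wdOk (l ++ [n]) ([n] ++ l) ps) :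
    Commute (wd k l) (k n) := wd_single (k := k) n ▸ h.wd_comm ps e

theorem Cox.wd_br (h : Cox k) {l : List Nd} {n : Nd} (ps : List ℕ) (e : wdOk (l ++ [n] ++ l) ([n] ++ l ++ [n]) ps) :
    BM.Br (wd k l) (k n) := by
  have := h.wd_eq ps e
  simp only [wd_append, wd_single] at this
  exact this

theorem Cox.wd_sq (h : Cox k) {l : List Nd} (ps : List ℕ) (e : wdOk (l ++ l) [] ps) : wd k l * wd k l = 1 :=
  (wd_append l l).symm.trans (h.wd_eq ps e)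

theorem Cox.wd_cnj (h : Cox k) {w l l' : List Nd} (ps : List ℕ) (e : wdOk (w ++ l) (l' ++ w) ps) :
    wd k w * wd k l * (wd k w)⁻¹ = wd k l' := by
  have := h.wd_eq ps e
  rwa [wd_append, wd_append, ← mul_inv_eq_iff_eq_mul] at this

/-- the words of the hexagon -/
def wdHex : Fin 6 → List Nd := ![[.c1], [.b1], [.a], [.b2], [.c2], xiL]

theorem wd_spd (h : Cox k) : ∃ w, w * BM.spider k * w⁻¹ = (xL.map (hex k)).prod := by
  have e1 : hex k = fun i => wd k (wdHex i) := funext fun i => by fin_cases i <;> simp [hex, wdHex, wd_single]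
  have e2 : BM.spider k = wd k ((List.range 10).flatMap fun _ => [.a, .b1, .c1, .a, .b2, .c2, .a, .b3, .c3]) := by
    rw [wd_flatMap, List.map_const', List.prod_replicate, List.length_range, BM.spider]
    simp only [wd, List.map_cons, List.map_nil, List.prod_cons, List.prod_nil, mul_one, mul_assoc]
  rw [e1, e2, ← wd_flatMap]
  exact ⟨_, h.wd_cnj (w := [.b3, .a, .b1])
    [141, 147, 146, 145, 144, 142, 140, 139, 146, 158, 157, 159, 165, 164, 163, 162, 160, 158, 156, 155, 154, 153,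
    152, 151, 150, 149, 147, 145, 144, 142, 141, 140, 138, 137, 139, 143, 142, 140, 138, 137, 136, 135, 134, 136,
    148, 147, 146, 145, 144, 143, 142, 141, 140, 139, 137, 135, 133, 132, 137, 136, 148, 146, 145, 144, 143, 149,
    148, 146, 150, 149, 152, 151, 154, 153, 165, 164, 163, 162, 161, 160, 159, 158, 157, 156, 155, 154, 152, 150,
    148, 147, 145, 144, 142, 141, 140, 138, 137, 135, 134, 133, 131, 130, 132, 140, 138, 137, 136, 135, 133, 131,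
    130, 129, 110, 109, 108, 109, 108, 107, 123, 122, 121, 120, 119, 118, 123, 122, 125, 124, 127, 126, 139, 138,
    137, 136, 134, 133, 132, 131, 130, 129, 128, 127, 125, 123, 121, 120, 128, 127, 126, 129, 141, 139, 138, 142,
    153, 164, 163, 165, 171, 170, 169, 168, 166, 164, 162, 161, 160, 159, 158, 157, 156, 154, 152, 151, 149, 148,
    147, 146, 145, 143, 141, 140, 139, 137, 136, 134, 133, 132, 131, 130, 128, 127, 125, 124, 123, 121, 119, 117,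
    116, 115, 114, 113, 112, 111, 110, 108, 107, 106, 111, 110, 109, 108, 107, 106, 105, 104, 102, 101, 111, 109,
    108, 107, 106, 105, 104, 102, 101, 100, 110, 109, 107, 111, 110, 113, 112, 115, 114, 126, 125, 124, 123, 122,
    127, 126, 141, 140, 139, 138, 137, 136, 134, 142, 141, 154, 152, 151, 150, 149, 155, 154, 152, 156, 155, 158,
    157, 160, 159, 171, 170, 169, 168, 167, 166, 165, 164, 163, 162, 161, 160, 158, 156, 154, 153, 151, 150, 148,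
    147, 146, 145, 143, 142, 140, 139, 138, 136, 135, 133, 132, 131, 130, 128, 127, 125, 124, 123, 121, 120, 119,
    118, 117, 116, 115, 113, 111, 109, 108, 106, 105, 104, 102, 101, 100, 99, 95, 94, 93, 92, 91, 90, 94, 93, 92,
    90, 89, 88, 92, 90, 89, 88, 87, 87, 86, 86, 85, 85, 84, 87, 91, 90, 88, 86, 85, 84, 83, 84, 83, 82, 84, 89, 88,
    87, 86, 85, 83, 82, 81, 80, 79, 78, 79, 78, 77, 78, 77, 76, 79, 77, 76, 75, 74, 73, 72, 73, 74, 72, 71, 70, 71,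
    70, 69, 71, 70, 69, 68, 70, 69, 68, 67, 72, 71, 69, 68, 67, 66, 66, 65, 65, 64, 64, 63, 62, 61, 61, 60, 61, 60,
    59, 59, 58, 59, 58, 57, 62, 61, 60, 63, 67, 66, 64, 62, 61, 59, 58, 57, 56, 57, 56, 55, 64, 62, 61, 60, 58, 57,
    56, 55, 54, 53, 54, 53, 52, 53, 52, 51, 50, 51, 50, 49, 53, 52, 50, 49, 48, 47, 46, 45, 49, 48, 47, 45, 44, 43,
    47, 45, 44, 43, 42, 42, 41, 41, 40, 40, 39, 42, 49, 48, 46, 45, 43, 41, 40, 39, 38, 39, 38, 37, 39, 47, 46, 44,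
    43, 42, 41, 40, 38, 37, 36, 35, 34, 33, 34, 33, 32, 33, 32, 31, 41, 39, 38, 37, 36, 35, 34, 32, 31, 30, 29, 28,
    27, 30, 29, 27, 26, 25, 31, 30, 29, 27, 26, 25, 24, 24, 23, 23, 22, 22, 21, 25, 24, 22, 21, 20, 20, 19, 23, 21,
    20, 19, 18, 17, 17, 16, 16, 15, 17, 16, 15, 14, 16, 15, 14, 13, 12, 11, 13, 11, 10, 9, 9, 8, 8, 7, 7, 6, 5, 6,
    4, 3, 2, 1, 0] (by decide +kernel)⟩

theorem wdThm {G : Type u} [Group G] {k : Nd → G} (h : Cox k) : WD k where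
  th2 := h.wd_sq [20, 19, 18, 17, 16, 15, 14, 13, 12, 11, 10, 9, 8, 7, 6, 5, 4, 3, 2, 1, 0] (by decide +kernel)
  thc := by
    simp only [List.forall_mem_cons, List.not_mem_nil, false_imp_iff, implies_true, and_true]
    exact ⟨h.wd_comm1
      [42, 41, 39, 38, 36, 35, 33, 32, 30, 29, 27, 26, 24, 23, 22, 21, 20, 19, 18, 17, 16, 15, 14, 13, 12, 11, 10,
      9, 8, 7, 6, 5, 4, 3, 2, 1, 0] (by decide +kernel),
      h.wd_comm1
      [42, 40, 39, 37, 36, 34, 33, 32, 31, 29, 28, 26, 25, 23, 22, 21, 20, 19, 18, 17, 16, 15, 14, 13, 12, 11, 10,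
      9, 8, 7, 6, 5, 4, 3, 2, 1, 0] (by decide +kernel),
      h.wd_comm1
      [31, 30, 29, 28, 33, 31, 30, 35, 34, 36, 41, 40, 39, 38, 37, 35, 33, 32, 31, 29, 27, 26, 25, 24, 22, 21, 20,
      19, 18, 17, 16, 15, 15, 14, 15, 14, 13, 14, 13, 12, 15, 14, 12, 11, 10, 9, 8, 9, 8, 7, 6, 5, 4, 3, 2, 1, 0] (by decide +kernel),
      h.wd_comm1
      [25, 24, 26, 38, 37, 39, 42, 40, 38, 36, 35, 34, 33, 32, 31, 30, 29, 27, 25, 23, 22, 21, 20, 19, 19, 18, 19,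
      18, 17, 16, 15, 14, 13, 12, 11, 10, 9, 8, 7, 6, 6, 5, 6, 5, 4, 3, 2, 1, 0] (by decide +kernel),
      h.wd_comm1
      [28, 27, 29, 35, 34, 36, 42, 41, 40, 39, 37, 35, 33, 32, 30, 28, 26, 25, 24, 23, 22, 21, 20, 19, 18, 17, 16,
      16, 15, 16, 15, 14, 13, 12, 11, 10, 9, 9, 8, 9, 8, 7, 6, 5, 4, 3, 2, 1, 0] (by decide +kernel)⟩
  thb := h.wd_br
    [64, 43, 41, 40, 39, 38, 43, 41, 40, 45, 44, 46, 51, 50, 49, 48, 47, 45, 43, 42, 41, 39, 37, 36, 35, 34, 32, 31,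
    45, 44, 43, 42, 40, 51, 49, 48, 46, 45, 44, 42, 41, 39, 38, 37, 35, 34, 32, 31, 30, 36, 43, 50, 49, 47, 46, 44,
    42, 41, 40, 39, 37, 35, 34, 32, 31, 30, 29, 32, 31, 33, 45, 44, 46, 49, 47, 45, 43, 42, 41, 40, 39, 38, 37, 36,
    34, 32, 30, 29, 28, 34, 33, 41, 43, 47, 46, 45, 44, 42, 40, 39, 38, 37, 35, 34, 32, 31, 30, 28, 27, 29, 44, 43,
    47, 45, 44, 42, 41, 40, 38, 37, 35, 34, 33, 32, 30, 28, 27, 26, 35, 34, 33, 32, 31, 30, 37, 35, 34, 33, 32, 38,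
    37, 35, 34, 39, 38, 40, 46, 45, 44, 43, 41, 39, 37, 36, 35, 33, 31, 29, 28, 27, 26, 25, 27, 29, 41, 40, 39, 38,
    37, 36, 34, 42, 41, 45, 43, 42, 40, 39, 38, 36, 35, 33, 32, 31, 30, 28, 26, 25, 24, 30, 29, 37, 43, 42, 41, 40,
    38, 36, 35, 34, 33, 31, 30, 28, 27, 26, 24, 23, 22, 20, 19, 18, 20, 19, 18, 17, 16, 15, 15, 14, 16, 15, 14, 13,
    16, 14, 13, 12, 16, 15, 14, 12, 11, 10, 9, 8, 7, 6, 5, 4, 3, 2, 1, 0] (by decide +kernel)
  w0 := wd_append (k := k) thL w5L ▸ h.wd_comm1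
    [72, 36, 35, 35, 34, 34, 33, 33, 32, 43, 42, 41, 40, 39, 43, 42, 45, 46, 44, 43, 41, 47, 46, 45, 50, 49, 48, 47,
    46, 44, 53, 52, 51, 49, 55, 53, 51, 50, 48, 47, 53, 57, 56, 54, 52, 51, 58, 56, 55, 54, 52, 50, 49, 48, 46, 45,
    43, 42, 40, 38, 37, 36, 35, 34, 32, 31, 36, 35, 40, 39, 38, 46, 45, 44, 43, 47, 46, 45, 44, 42, 41, 40, 39, 37,
    36, 34, 32, 31, 30, 32, 38, 37, 36, 43, 42, 41, 40, 39, 38, 37, 35, 33, 31, 30, 29, 33, 46, 45, 47, 49, 48, 46,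
    44, 43, 42, 41, 40, 38, 44, 48, 47, 46, 52, 51, 53, 52, 50, 49, 48, 47, 45, 43, 42, 40, 39, 37, 36, 34, 32, 31,
    30, 29, 28, 34, 33, 32, 31, 35, 41, 40, 42, 46, 45, 44, 52, 53, 51, 50, 49, 48, 47, 46, 45, 43, 41, 39, 38, 36,
    34, 33, 32, 30, 29, 28, 27, 36, 35, 34, 38, 36, 39, 45, 44, 43, 42, 40, 38, 37, 35, 33, 32, 31, 30, 29, 27, 26,
    29, 28, 31, 30, 33, 32, 40, 39, 44, 43, 41, 40, 38, 37, 36, 35, 34, 33, 31, 29, 27, 26, 25, 27, 34, 33, 41, 40,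
    39, 38, 37, 42, 45, 43, 41, 40, 39, 38, 36, 35, 34, 32, 31, 30, 28, 26, 25, 24, 30, 29, 28, 31, 30, 38, 37, 36,
    35, 33, 37, 36, 39, 38, 40, 43, 42, 41, 39, 37, 35, 34, 32, 31, 29, 27, 26, 25, 24, 23, 29, 28, 27, 26, 30, 35,
    42, 40, 39, 38, 36, 34, 33, 31, 29, 28, 27, 25, 24, 23, 22, 31, 30, 29, 33, 31, 34, 41, 40, 39, 38, 37, 35, 33,
    32, 30, 28, 27, 26, 25, 24, 22, 21, 20, 19, 18, 17, 16, 16, 15, 16, 15, 14, 13, 14, 13, 12, 15, 14, 12, 11, 10,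
    9, 8, 9, 8, 7, 6, 5, 4, 3, 2, 1, 0] (by decide +kernel)
  xi2 := h.wd_sq [12, 11, 10, 9, 8, 7, 6, 5, 4, 3, 2, 1, 0] (by decide +kernel)
  xic := by
    simp only [List.forall_mem_cons, List.not_mem_nil, false_imp_iff, implies_true, and_true]
    exact ⟨h.wd_comm1
      [19, 18, 17, 16, 15, 21, 19, 18, 17, 22, 21, 19, 23, 22, 24, 25, 23, 21, 20, 18, 16, 14, 13, 12, 12, 11, 12,
      11, 10, 12, 11, 10, 9, 13, 12, 10, 9, 8, 13, 12, 11, 10, 8, 7, 6, 5, 4, 3, 2, 1, 0] (by decide +kernel),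
      h.wd_comm1
      [26, 24, 22, 21, 20, 19, 17, 15, 14, 13, 12, 11, 10, 9, 8, 7, 6, 5, 4, 3, 2, 1, 0] (by decide +kernel),
      h.wd_comm1
      [25, 24, 23, 21, 20, 18, 17, 16, 14, 13, 12, 11, 10, 9, 8, 7, 6, 5, 4, 3, 2, 1, 0] (by decide +kernel),
      h.wd_comm1
      [16, 23, 26, 24, 22, 21, 20, 19, 17, 15, 14, 13, 12, 11, 11, 10, 9, 8, 7, 6, 5, 4, 4, 3, 2, 1, 0] (by decide +kernel)⟩
  xit := h.wd_comm
    [46, 45, 44, 44, 43, 43, 42, 46, 45, 44, 43, 42, 41, 33, 32, 31, 34, 33, 32, 31, 30, 29, 28, 29, 28, 27, 28, 27,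
    26, 27, 26, 25, 26, 24, 23, 22, 24, 23, 22, 21, 23, 22, 21, 20, 22, 21, 20, 19, 23, 22, 21, 20, 19, 18, 17, 16,
    12, 11, 10, 9, 8, 7, 6, 5, 4, 3, 2, 1, 0] (by decide +kernel)
  xib := ⟨h.wd_br
    [27, 26, 26, 25, 26, 25, 24, 23, 27, 26, 25, 24, 23, 22, 29, 27, 26, 25, 24, 31, 30, 29, 27, 26, 34, 33, 32, 31,
    30, 29, 27, 25, 23, 21, 20, 19, 19, 18, 19, 18, 17, 16, 19, 18, 17, 16, 15, 14, 13, 12, 11, 14, 13, 12, 11, 10,
    9, 12, 10, 9, 8, 11, 10, 8, 7, 6, 5, 4, 4, 3, 2, 1, 0] (by decide +kernel), h.wd_br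
    [27, 26, 26, 25, 25, 24, 27, 26, 25, 24, 23, 22, 29, 27, 26, 25, 24, 30, 29, 27, 26, 34, 33, 32, 31, 30, 29, 27,
    25, 23, 21, 20, 19, 19, 18, 19, 18, 17, 19, 18, 17, 16, 15, 14, 13, 12, 11, 10, 12, 11, 10, 9, 12, 10, 9, 8, 11,
    10, 8, 7, 6, 5, 4, 3, 2, 1, 0] (by decide +kernel)⟩
  cnj := ⟨_, h.wd_cnj (w := [.b3, .a, .b2, .b1, .a, .b3])
    [20, 19, 20, 19, 18, 17, 17, 16, 20, 19, 18, 17, 16, 15, 14, 13, 16, 14, 13, 12, 15, 14, 12, 11, 10, 9, 8, 8, 7,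
    9, 8, 7, 6, 5, 4, 4, 3, 2, 1, 0] (by decide +kernel),
    wd_single (k := k) .c3 ▸ h.wd_cnj [18, 17, 16, 15, 14, 13, 12, 5, 4, 3, 2, 1, 0] (by decide +kernel)⟩
  spd := wd_spd h

end CL.E6S
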