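/-
Centralisers `2^{1+20}.U₆(2)` and `2^{1+20}.U₆(2).2`: the relations of the ten nodes.
-/
import Cfsg.Agent.Spor.E6SC

set_option autoImplicit false

namespace CL.E6S

open Subgroup CL.Even CL.Grp CL.Uni CL.Rec CL.IN Cfsg Module Spor

universe u

variable {G Γ : Type u} [Group G] [Group Γ] {S : Dat G Γ}

theorem wi_aux (h : S.B4) (u : U8 S.ι) {k : Nd → G} (C : S.Cx k) (x x' : Nd) (y : Fin 7 → Nd)
    (e : x ∈ Dat.I10 ∧ x' ∈ Dat.I10 ∧ coxLabel Bimonster.edges x x' = 3 ∧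
      (∀ i, y i ∈ Dat.I10 ∧ coxLabel Bimonster.edges x (y i) = 2) ∧ ∀ i j,
      ((i, j) ∈ e7 ∨ (j, i) ∈ e7) ∧ coxLabel Bimonster.edges (y i) (y j) = 3 ∨
      ¬ ((i, j) ∈ e7 ∨ (j, i) ∈ e7) ∧ (i = j ∨ coxLabel Bimonster.edges (y i) (y j) = 2))
    (c : Commute ((k (y 0) * k (y 1) * k (y 2) * k (y 3) * k (y 4) * k (y 5) * k (y 6)) ^ 9) (k x')) :
    (k (y 0) * k (y 1) * k (y 2) * k (y 3) * k (y 4) * k (y 5) * k (y 6)) ^ 9 = 1 := by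
  obtain ⟨e1, e2, e3, e4, e5⟩ := e
  have s := h.toSt
  have o := C.op x e1 x' e2 e3
  have hy := fun i => C.sy x e1 _ (e4 i).1 (e4 i).2
  have hc : ∀ i, Commute (k (y i)) (k x) := fun i => (hy i).2.2.1.symm
  choose v v1 v2 using fun i => h.lb.tv _ _ (hy i)
  have c1 := (hc 0).mul_left (hc 1)
  have c2 := c1.mul_left (hc 2)
  have c3 := c2.mul_left (hc 3)
  have c4 := c3.mul_left (hc 4)
  have c5 := c4.mul_left (hc 5)
  have c6 := c5.mul_left (hc 6)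
  refine s.ch_eq_one (h.lc _ _ o) (c6.pow_left 9) c ?_
  rw [s.r_pow o.1 c6, s.r_mul o.1 c5 (hc 6), s.r_mul o.1 c4 (hc 5), s.r_mul o.1 c3 (hc 4), s.r_mul o.1 c2 (hc 3),
    s.r_mul o.1 c1 (hc 2), s.r_mul o.1 (hc 0) (hc 1)]
  simp only [v2]
  refine u v v1 fun i j => ?_
  obtain ⟨a, b⟩ | ⟨a, b⟩ := e5 i j
  · refine iff_of_true (fun e0 => ?_) a
    have p := C.op _ (e4 i).1 _ (e4 j).1 b
    have q := (hc i).mul_left (hc j)
    have r2 : S.r (k x) (k (y i) * k (y j)) ^ 2 = 1 := by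
      rw [s.r_mul o.1 (hc i) (hc j), v2, v2, (τ_comm (v1 i) (v1 j) e0).mul_pow, pow_two, pow_two, τ_sq, τ_sq, mul_one]
    have r3 : S.r (k x) (k (y i) * k (y j)) ^ 3 = 1 := by rw [← s.r_pow o.1 q, p.2.2.1, s.r_one o.1]
    rw [pow_succ, r2, one_mul] at r3
    have := s.eq_one_of_cube o.1 ((s.r_ker o.1 q).1 r3) p.2.2.1
    exact p.2.2.2.1 (by rw [eq_inv_of_mul_eq_one_left this, s.inv_eq p.2.1])
  · refine iff_of_false (not_not.2 ?_) a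
    obtain rfl | b := b
    · exact (v1 i).2
    · exact (s.ua.τ_comm_iff (v1 i) (v1 j)).1 (v2 i ▸ v2 j ▸ s.r_comm o.1 (hc i) (hc j)
        (C.sy _ (e4 i).1 _ (e4 j).1 b).2.2.1)

set_option synthInstance.maxSize 2048 in
theorem wi (h : S.B4) (u : U8 S.ι) {k : Nd → G} (C : S.Cx k) (c : Cox k) (w : WE k) (hs : BM.spider k = 1)
    (f2 : k .f2 = 1) (f3 : k .f3 = 1) : Rel I2 k := by
  have a1 := wi_aux h u C .d3 .c3 ![.a, .b1, .b2, .b3, .c1, .c2, .d1] (by decide) (w.e1 ▸ w.c1)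
  have a2 := wi_aux h u C .d3 .c3 ![.a, .b2, .b1, .b3, .c2, .c1, .d2] (by decide) (w.e2 ▸ w.c2)
  have a3 := wi_aux h u C .d2 .c2 ![.a, .b3, .b1, .b2, .c3, .c1, .d3] (by decide) (w.e3 ▸ w.c3)
  refine ⟨fun m hm n hn => ?_, hs, a1, w.e1.symm.trans a1, a2.trans f2.symm, w.e2.symm.trans (a2.trans f2.symm),
    a3.trans f3.symm, w.e3.symm.trans (a3.trans f3.symm)⟩
  have d : ∀ m ∈ I2, ∀ n ∈ I2, (m ∈ Dat.I10 ∧ n ∈ Dat.I10) ∨ ((m = .f2 ∨ m = .f3) ∧ (n = .f2 ∨ n = .f3)) ∨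
      coxLabel Bimonster.edges m n = 2 ∧ ((m = .f2 ∨ m = .f3) ∧ n ∈ Dat.I10 ∨ (n = .f2 ∨ n = .f3) ∧ m ∈ Dat.I10) := by
    decide
  have f : ∀ n : Nd, n = .f2 ∨ n = .f3 → k n = 1 := by rintro n (rfl | rfl) <;> assumption
  have q : ∀ n ∈ Dat.I10, k n ^ 2 = 1 := fun n hn => by simpa [coxLabel, pow_two] using c n hn n hn
  obtain ⟨a, b⟩ | ⟨a, b⟩ | ⟨e, ⟨a, b⟩ | ⟨a, b⟩⟩ := d m hm n hn
  · exact c m a n b
  · rw [f m a, f n b, one_mul, one_pow]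
  · rw [e, f m a, one_mul, q n b]
  · rw [e, f n a, mul_one, q m b]

end CL.E6S
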