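/-
Centralisers `2^{1+20}.U₆(2)` (helper9): diagonal and permutation matrices.
-/
import Cfsg.Agent.Spor.E6SC

set_option autoImplicit false

namespace CL.E6S

open Subgroup CL.Even CL.Grp CL.Uni CL.Rec CL.IN Cfsg Module Matrix

universe u

abbrev Z6 : Type := Fin 6 → ZMod 3

theorem w_pow_add : ∀ a b : ZMod 3, K4.w ^ (a + b).val = K4.w ^ a.val * K4.w ^ b.val := by decide

theorem su_ext {g k : SU6} (e : ∀ v j, g.1 v j = k.1 v j) : g = k :=
  Subtype.ext (LinearEquiv.ext fun v => funext (e v))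

theorem exists_su (M : Matrix (Fin 6) (Fin 6) K4) (hd : M.det = 1) (hu : ∀ u v, B6 (M *ᵥ u) (M *ᵥ v) = B6 u v) :
    ∃ g : SU6, ∀ v, g.1 v = M *ᵥ v := by
  obtain ⟨g, h1, h2⟩ := herm6.exists_mem_UG (toLin' M) hu
  exact ⟨⟨g, mem_SUG.2 ⟨h1, by rw [dt_apply, h2, LinearMap.det_toLin', hd]⟩⟩, fun v => congrArg (· v) h2⟩

theorem exists_isDg (a : Z6) (h : ∑ j, a j = 0) : ∃ g, IsDg a g := by
  obtain ⟨g, hg⟩ := exists_su (diagonal fun j => K4.w ^ (a j).val) (by
    rw [det_diagonal, ← show K4.w ^ (∑ j, a j).val = 1 by rw [h]; rfl]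
    simp only [Fin.sum_univ_six, Fin.prod_univ_six, w_pow_add]) fun u v => by
    simp only [stdB_apply, mulVec_diagonal]
    exact Finset.sum_congr rfl fun j _ =>
      (by decide : ∀ (a : ZMod 3) (x y : K4), K4.bar (K4.w ^ a.val * x) * (K4.w ^ a.val * y) = K4.bar x * y) _ _ _
  exact ⟨g, h, fun v j => by rw [hg, mulVec_diagonal]⟩

/-- `g` permutes the coordinates -/
def IsPm (s : Equiv.Perm (Fin 6)) (g : SU6) : Prop := ∀ v j, g.1 v j = v (s j)

theorem exists_isPm (s : Equiv.Perm (Fin 6)) : ∃ g, IsPm s g := by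
  obtain ⟨g, hg⟩ := exists_su (s.permMatrix K4) (by
    rw [det_permutation]; rcases Int.units_eq_one_or (Equiv.Perm.sign s) with e | e <;> rw [e] <;> rfl) fun u v => by
    simp only [stdB_apply, permMatrix_mulVec]
    exact Equiv.sum_comp s fun j => K4.bar (u j) * v j
  exact ⟨g, fun v j => by rw [hg, permMatrix_mulVec]; rfl⟩

theorem IsPm.mul {s t : Equiv.Perm (Fin 6)} {g k : SU6} (h : IsPm s g) (h' : IsPm t k) : IsPm (t * s) (g * k) :=
  fun v j => (h _ j).trans (h' v _)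

theorem iso_single {i j : Fin 6} (e : i ≠ j) : Iso (Pi.single i 1 + Pi.single j 1) := by
  revert i j; unfold Iso; simp only [stdB_apply]; decide

theorem isPm_ta {i j : Fin 6} (e : i ≠ j) : IsPm (Equiv.swap i j) (ta (Pi.single i 1 + Pi.single j 1)) := fun v k => by
  rw [ta_apply (iso_single e), map_add, LinearMap.add_apply, stdB_single_left, stdB_single_left]
  by_cases h1 : k = i
  · simp [h1, e, ← add_assoc, (by decide : ∀ c : K4, c + c = 0)]
  by_cases h2 : k = j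
  · simp [h2, e.symm, add_comm (v i), ← add_assoc, (by decide : ∀ c : K4, c + c = 0)]
  simp [h1, h2, Equiv.swap_apply_of_ne_of_ne]

theorem isDg_one : IsDg 0 1 := ⟨rfl, fun _ _ => (one_mul _).symm⟩

namespace IsDg
variable {a b : Z6} {g k : SU6} (h : IsDg a g)
include h

theorem unique (h' : IsDg a k) : g = k := su_ext fun v j => (h.2 v j).trans (h'.2 v j).symm

theorem mul (h' : IsDg b k) : IsDg (a + b) (g * k) :=
  ⟨by simp only [Pi.add_apply, Finset.sum_add_distrib, h.1, h'.1, add_zero], fun v j =>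
    (h.2 (k.1 v) j).trans (by rw [h'.2, Pi.add_apply, w_pow_add, mul_assoc])⟩

theorem inv : IsDg (-a) g⁻¹ := by
  obtain ⟨k, hk⟩ := exists_isDg (-a) (by simp [h.1])
  rwa [inv_eq_of_mul_eq_one_right ((h.mul hk).unique (add_neg_cancel a ▸ isDg_one))]

theorem conj {s : Equiv.Perm (Fin 6)} (hk : IsPm s k) : IsDg (a ∘ s) (k * g * k⁻¹) :=
  ⟨(Equiv.sum_comp s a).trans h.1, fun v j => (hk _ j).trans ((h.2 ((k⁻¹).1 v) _).trans (by
    rw [← hk ((k⁻¹).1 v), show k.1 ((k⁻¹).1 v) = v from k.1.apply_symm_apply v]; rfl))⟩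

theorem comm (h' : IsDg b k) : Commute g k := (h.mul h').unique (add_comm b a ▸ h'.mul h)

theorem cube : g * g * g = 1 := ((h.mul h).mul h).unique (by
  rw [show a + a + a = 0 from funext fun j => (by decide : ∀ x : ZMod 3, x + x + x = 0) (a j)]; exact isDg_one)

end IsDg

open Classical in
/-- the diagonal matrix -/
noncomputable def dg (a : Z6) : SU6 := if h : ∑ j, a j = 0 then (exists_isDg a h).choose else 1

theorem isDg_dg {a : Z6} (h : ∑ j, a j = 0) : IsDg a (dg a) := by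
  rw [dg, dif_pos h]; exact (exists_isDg a h).choose_spec

variable {Γ : Type u} [Group Γ] {ι : SU6 →* Γ}

theorem UA.dg_eq_one (h : UA ι) {a : Z6} {g : SU6} (hg : IsDg a g) : ι g = 1 ↔ ∀ j, a j = a 0 := by
  rw [h.ker]
  refine ⟨fun ⟨c, hc⟩ j => ?_, fun e => ⟨_, fun v => funext fun j => (hg.2 v j).trans (by rw [e j]; rfl)⟩⟩
  exact (by decide : ∀ x y : ZMod 3, K4.w ^ x.val * 1 = K4.w ^ y.val * 1 → x = y) _ _
    ((hg.2 1 j).symm.trans (((congrFun (hc 1) j).trans (congrFun (hc 1) 0).symm).trans (hg.2 1 0)))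

end CL.E6S
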