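/-
Centralisers `2^{1+20}.U₆(2)` (helper9): the weights of the diagonal group on the 20-dimensional module.
-/
import Cfsg.Agent.Spor.E6SDg

set_option autoImplicit false

namespace CL.E6S

open Subgroup CL.Even CL.Grp CL.Uni CL.Rec CL.IN Cfsg Module Matrix

universe u

namespace Wt

def LA : Fin 15 → Z6 := ![![1,2,0,0,0,0], ![1,0,2,0,0,0], ![1,0,0,2,0,0], ![1,0,0,0,2,0], ![1,0,0,0,0,2], ![0,1,2,0,0,0],
  ![0,1,0,2,0,0], ![0,1,0,0,2,0], ![0,1,0,0,0,2], ![0,0,1,2,0,0], ![0,0,1,0,2,0], ![0,0,1,0,0,2], ![0,0,0,1,2,0],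
  ![0,0,0,1,0,2], ![0,0,0,0,1,2]]

def LB : Fin 15 → Z6 := ![![1,1,2,2,0,0], ![1,1,2,0,2,0], ![1,1,2,0,0,2], ![1,2,1,2,0,0], ![1,2,1,0,2,0], ![1,2,1,0,0,2],
  ![1,2,2,1,0,0], ![1,2,0,1,2,0], ![1,2,0,1,0,2], ![1,2,2,0,1,0], ![1,2,0,2,1,0], ![1,2,0,0,1,2], ![1,2,2,0,0,1],
  ![1,2,0,2,0,1], ![1,2,0,0,2,1]]

def S3 : Fin 10 → Finset (Fin 6) :=
  ![{0,1,2}, {0,1,3}, {0,1,4}, {0,1,5}, {0,2,3}, {0,2,4}, {0,2,5}, {0,3,4}, {0,3,5}, {0,4,5}]

def chi (S : Finset (Fin 6)) : Z6 := fun j => if j ∈ S then 1 else 0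

theorem chi_dot (S : Finset (Fin 6)) (a : Z6) : chi S ⬝ᵥ a = ∑ j ∈ S, a j := by simp [chi, dotProduct]

def cf (l a : Z6) : ZMod 2 := if ∑ j, a j = 0 ∧ l ⬝ᵥ a = 0 then 1 else 0

theorem cf_sum (a : Z6) : ∑ i, cf (LA i) a + ∑ i, cf (LB i) a + ∑ i, cf (chi (S3 i)) a + cf 0 a =
    if ∀ j, a j = a 0 then 1 else 0 := by
  have : ∀ a0 a1 a2 a3 a4 a5 : ZMod 3, let a : Z6 := ![a0, a1, a2, a3, a4, a5]
      ∑ i, cf (LA i) a + ∑ i, cf (LB i) a + ∑ i, cf (chi (S3 i)) a + cf 0 a = if ∀ j, a j = a 0 then 1 else 0 := by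
    decide +kernel
  rw [show a = ![a 0, a 1, a 2, a 3, a 4, a 5] from funext fun j => by fin_cases j <;> rfl]
  exact this _ _ _ _ _ _

theorem odd_sum (p : Z6 → Prop) [DecidablePred p] (h0 : p 0) (hn : ∀ a, p a → p (-a)) :
    ∑ a, (if p a then (1 : ZMod 2) else 0) = 1 := by
  rw [← Finset.add_sum_erase _ _ (Finset.mem_univ 0), if_pos h0, Finset.sum_involution (fun a _ => -a), add_zero]
  · intro a _
    simp only [show p (-a) ↔ p a from ⟨fun e => neg_neg a ▸ hn _ e, hn a⟩]; split_ifs <;> rfl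
  · exact fun a ha _ e => (Finset.mem_erase.1 ha).1
      (funext fun j => (by decide : ∀ x : ZMod 3, -x = x → x = 0) _ (congrFun e j))
  · exact fun a ha => by simpa using ha
  · exact fun a _ => neg_neg a

variable {Γ : Type u} [Group Γ] (ι : SU6 →* Γ) (ρ : Γ →* Module.End (ZMod 2) V20)

noncomputable def Dg (a : Z6) : Module.End (ZMod 2) V20 := ρ (ι (dg a))

def UL (l : Z6) : Submodule (ZMod 2) V20 where
  carrier := {v | ∀ a, ∑ j, a j = 0 → l ⬝ᵥ a = 0 → Dg ι ρ a v = v}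
  zero_mem' := fun _ _ _ => map_zero _
  add_mem' := fun h1 h2 a h h' => by rw [map_add, h1 a h h', h2 a h h']
  smul_mem' := fun c _ h1 a h h' => by rw [map_smul, h1 a h h']

noncomputable def PL (l : Z6) : Module.End (ZMod 2) V20 := ∑ a, cf l a • Dg ι ρ a

noncomputable def UP (l : Z6) : Submodule (ZMod 2) V20 := UL ι ρ l ⊓ LinearMap.ker (PL ι ρ 0)

variable {ι ρ}

theorem US_eq (S : Finset (Fin 6)) : US ι ρ S = UL ι ρ (chi S) := Submodule.ext fun _ =>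
  ⟨fun h a h1 h2 => h a _ (isDg_dg h1) (chi_dot S a ▸ h2), fun h a _ hg h2 =>
    hg.unique (isDg_dg hg.1) ▸ h a hg.1 ((chi_dot S a).trans h2)⟩

theorem Dg_add {a b : Z6} (ha : ∑ j, a j = 0) (hb : ∑ j, b j = 0) (v : V20) :
    Dg ι ρ (a + b) v = Dg ι ρ a (Dg ι ρ b v) := by
  have := (isDg_dg ha).mul (isDg_dg hb)
  rw [Dg, (isDg_dg this.1).unique this, map_mul, ρ_mul]; rfl

theorem PL_apply (l : Z6) (v : V20) : PL ι ρ l v = ∑ a, cf l a • Dg ι ρ a v := by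
  simp only [PL, LinearMap.sum_apply, LinearMap.smul_apply]

theorem Dg_PL {b : Z6} (hb : ∑ j, b j = 0) (l : Z6) (v : V20) : Dg ι ρ b (PL ι ρ l v) = PL ι ρ l (Dg ι ρ b v) := by
  rw [PL_apply, PL_apply, map_sum]
  refine Finset.sum_congr rfl fun a _ => ?_
  rw [map_smul, cf]
  split_ifs with e
  · rw [← Dg_add hb e.1, add_comm, Dg_add e.1 hb]
  · rw [zero_smul, zero_smul]

theorem PL_mem (l : Z6) (v : V20) : PL ι ρ l v ∈ UL ι ρ l := fun b hb hl => by
  rw [PL_apply, map_sum, ← Equiv.sum_comp (Equiv.addLeft b)]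
  symm
  rw [← Equiv.sum_comp (Equiv.addLeft b), ← Equiv.sum_comp (Equiv.addLeft b)]
  refine Finset.sum_congr rfl fun a _ => ?_
  simp only [Equiv.coe_addLeft, map_smul, cf, Pi.add_apply, Finset.sum_add_distrib, hb, dotProduct_add, hl, zero_add]
  split_ifs with e
  · rw [Dg_add hb (by simp only [Pi.add_apply, Finset.sum_add_distrib, hb, e.1, add_zero])]
  · rw [zero_smul, zero_smul]

theorem PL_mem' {m : Z6} (l : Z6) {v : V20} (hv : v ∈ UL ι ρ m) : PL ι ρ l v ∈ UL ι ρ m := fun b hb hl => by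
  rw [Dg_PL hb, hv b hb hl]

theorem PL_self {l : Z6} {v : V20} (hv : v ∈ UL ι ρ l) : PL ι ρ l v = v := by
  rw [PL_apply, Finset.sum_congr rfl (g := fun a => cf l a • v), ← Finset.sum_smul]
  · unfold cf
    rw [odd_sum _ (by simp) fun a e => by simp [e.1, e.2], one_smul]
  · intro a _
    rw [cf]
    split_ifs with e
    · rw [hv a e.1 e.2]
    · rw [zero_smul, zero_smul]

theorem zero_le (l : Z6) : UL ι ρ 0 ≤ UL ι ρ l := fun _ h a h1 _ => h a h1 (zero_dotProduct a)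

theorem mem_zero {l m : Z6} {k k' : Fin 6} (h1 : l k = l k') (h2 : m k = m k' + 1) {v : V20} (hl : v ∈ UL ι ρ l)
    (hm : v ∈ UL ι ρ m) : v ∈ UL ι ρ 0 := fun a ha _ => by
  let c : Z6 := Pi.single k (m ⬝ᵥ a) - Pi.single k' (m ⬝ᵥ a)
  have hc : ∑ j, c j = 0 := by simp [c]
  have hc' : ∑ j, (a - c) j = 0 := by simp [ha, hc]
  rw [← sub_add_cancel a c, Dg_add hc' hc, hl c hc (by simp [c, h1]), hm _ hc' (by simp [c, h2, add_mul])]

theorem bound {n : ℕ} (l : Fin n → Z6) (hc : ∀ i j, i ≠ j → ∃ k k', l i k = l i k' ∧ l j k = l j k' + 1) :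
    finrank (ZMod 2) (UL ι ρ 0) + ∑ i, finrank (ZMod 2) (UP ι ρ (l i)) ≤ 20 := by
  have := LinearMap.finrank_le_finrank_of_injective (f := (UL ι ρ 0).subtype.coprod
    (∑ i, (UP ι ρ (l i)).subtype.comp (LinearMap.proj i : (∀ i, UP ι ρ (l i)) →ₗ[ZMod 2] _)))
    ((injective_iff_map_eq_zero _).2 fun x hx => ?_)
  · rwa [finrank_prod, finrank_pi_fintype, finrank_fin_fun] at this
  have h1 : (x.1 : V20) + ∑ i, (x.2 i : V20) = 0 := by simpa using hx
  have h2 : (x.1 : V20) = 0 := by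
    have := congrArg (PL ι ρ 0) h1
    rwa [map_add, PL_self x.1.2, map_sum, Finset.sum_eq_zero fun i _ => (x.2 i).2.2, add_zero, map_zero] at this
  suffices ∀ i, (x.2 i : V20) = 0 from Prod.ext (Subtype.ext h2) (funext fun i => Subtype.ext (this i))
  intro i
  have h3 := congrArg (PL ι ρ (l i)) h1
  rw [map_zero, map_add, map_sum, ← Finset.add_sum_erase _ _ (Finset.mem_univ i), PL_self (x.2 i).2.1,
    PL_self (zero_le _ x.1.2), h2, zero_add] at h3
  have h4 : (x.2 i : V20) ∈ UL ι ρ 0 := by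
    rw [eq_neg_of_add_eq_zero_left h3]
    refine neg_mem (sum_mem fun j hj => ?_)
    obtain ⟨k, k', e1, e2⟩ := hc i j (Finset.ne_of_mem_erase hj).symm
    exact mem_zero e1 e2 (PL_mem _ _) (PL_mem' _ (x.2 j).2.1)
  exact (PL_self h4).symm.trans (x.2 i).2.2

theorem two_le {l : Z6} (h : ¬ UL ι ρ l ≤ UL ι ρ 0) : 2 ≤ finrank (ZMod 2) (UP ι ρ l) := by
  obtain ⟨v, h1, h2⟩ := SetLike.not_le_iff_exists.1 h
  have h3 : v - PL ι ρ 0 v ∈ UP ι ρ l := ⟨sub_mem h1 (zero_le l (PL_mem 0 v)), by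
    show PL ι ρ 0 _ = 0
    rw [map_sub, PL_self (PL_mem 0 v), sub_self]⟩
  have h4 : v - PL ι ρ 0 v ∉ UL ι ρ 0 := fun e => h2 (by simpa using add_mem e (PL_mem 0 v))
  generalize v - PL ι ρ 0 v = u at h3 h4
  obtain ⟨a, ha, e⟩ : ∃ a, ∑ j, a j = 0 ∧ Dg ι ρ a u ≠ u := by
    by_contra! e
    exact h4 fun a ha _ => e a ha
  have h5 : Dg ι ρ a u ∈ UP ι ρ l := ⟨fun b hb hl => by rw [← Dg_add hb ha, add_comm, Dg_add ha hb, h3.1 b hb hl], by
    show PL ι ρ 0 _ = 0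
    rw [← Dg_PL ha, show PL ι ρ 0 u = 0 from h3.2, map_zero]⟩
  have h6 : u ≠ 0 := fun e => h4 (e ▸ zero_mem _)
  refine LinearIndependent.fintype_card_le_finrank (b := ![(⟨u, h3⟩ : UP ι ρ l), ⟨_, h5⟩])
    ((LinearIndependent.pair_iff' fun e => h6 (congrArg Subtype.val e)).2 fun c e' => ?_)
  replace e' : c • u = Dg ι ρ a u := congrArg Subtype.val e'
  rcases (by decide : ∀ c : ZMod 2, c = 0 ∨ c = 1) c with rfl | rfl
  · exact h6 (by rw [← ρ_inv_ρ (ρ := ρ) (ι (dg a)) u, show ρ (ι (dg a)) u = _ from e'.symm, zero_smul, map_zero])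
  · exact e (e'.symm.trans (one_smul _ _))

theorem perm {l m : Z6} (hc : ∀ c, Fintype.card {j // m j = c} = Fintype.card {j // l j = c})
    (h : UL ι ρ m ≤ UL ι ρ 0) : UL ι ρ l ≤ UL ι ρ 0 := fun v hv a ha _ => by
  let s : Equiv.Perm (Fin 6) := Equiv.ofFiberEquiv (f := m) (g := l) fun c => Fintype.equivOfCardEq (hc c)
  have hs : ∀ j, l (s j) = m j := Equiv.ofFiberEquiv_map _
  obtain ⟨g, hg⟩ := exists_isPm s
  have h1 : ∀ a : Z6, ∑ j, a j = 0 → ∀ v, Dg ι ρ (a ∘ s) (ρ (ι g) v) = ρ (ι g) (Dg ι ρ a v) := fun a ha v => by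
    have := (isDg_dg ha).conj hg
    rw [Dg, (isDg_dg this.1).unique this, ← ρ_mul, ← map_mul, inv_mul_cancel_right, map_mul, ρ_mul]; rfl
  have h2 := h (show ρ (ι g) v ∈ UL ι ρ m from fun b hb hm => by
    have := h1 (b ∘ s.symm) ((Equiv.sum_comp s.symm b).trans hb) v
    rw [Function.comp_assoc, s.symm_comp_self, Function.comp_id] at this
    rw [this, hv (b ∘ s.symm) ((Equiv.sum_comp s.symm b).trans hb) (by
      rw [← hm, dotProduct, ← Equiv.sum_comp s]; simp [hs, dotProduct])])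
    (a ∘ s) ((Equiv.sum_comp s a).trans ha) (zero_dotProduct _)
  rw [h1 a ha] at h2
  rw [← ρ_inv_ρ (ρ := ρ) (ι g) (Dg ι ρ a v), h2, ρ_inv_ρ]

theorem decomp (h : UA ι) (v : V20) : v = ∑ i, PL ι ρ (LA i) v + ∑ i, PL ι ρ (LB i) v + ∑ i, PL ι ρ (chi (S3 i)) v +
    PL ι ρ 0 v := by
  simp only [PL_apply]
  rw [Finset.sum_comm, Finset.sum_comm (s := (Finset.univ : Finset (Fin 15))),
    Finset.sum_comm (s := (Finset.univ : Finset (Fin 10)))]
  simp only [← Finset.sum_smul]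
  rw [← Finset.sum_add_distrib, ← Finset.sum_add_distrib, ← Finset.sum_add_distrib]
  simp only [← add_smul, cf_sum]
  rw [Finset.sum_congr rfl (g := fun a : Z6 => (if ∀ j, a j = a 0 then (1 : ZMod 2) else 0) • v), ← Finset.sum_smul,
    odd_sum _ (fun _ => rfl) fun a e j => congrArg Neg.neg (e j), one_smul]
  intro a _
  split_ifs with e
  · rw [Dg, (h.dg_eq_one (isDg_dg (by rw [Finset.sum_congr rfl fun j _ => e j]; generalize a 0 = x; revert x; decide))).2 e,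
      ρ_one]
  · rw [zero_smul, zero_smul]

theorem kill {l : Fin 15 → Z6} (hc : ∀ i j, i ≠ j → ∃ k k', l i k = l i k' ∧ l j k = l j k' + 1)
    (hf : ∀ i j c, Fintype.card {k // l i k = c} = Fintype.card {k // l j k = c}) (i : Fin 15) :
    UL ι ρ (l i) ≤ UL ι ρ 0 := by
  by_contra e
  have h1 := bound (ι := ι) (ρ := ρ) l hc
  have h2 := Finset.card_nsmul_le_sum Finset.univ _ 2 fun j _ => two_le (l := l j) fun e' => e (perm (hf j i) e')
  simp at h2
  omega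

end Wt

open Wt

variable {Γ : Type u} [Group Γ] {ι : SU6 →* Γ} {ρ : Γ →* Module.End (ZMod 2) V20}
  {B : LinearMap.BilinForm (ZMod 2) V20} {q : V20 → ZMod 2}

theorem wt (h : UA ι) (o : OM ρ B q) : WT ι ρ := by
  have hA := kill (ι := ι) (ρ := ρ) (l := LA) (by decide +kernel) (by decide +kernel)
  have hB := kill (ι := ι) (ρ := ρ) (l := LB) (by decide +kernel) (by decide +kernel)
  have h1 : ∀ i, 2 ≤ finrank (ZMod 2) (Wt.UP ι ρ (chi (S3 i))) := fun i => two_le fun e => by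
    have : ∀ v, v ∈ UL ι ρ 0 := fun v => by
      rw [decomp (ρ := ρ) h v]
      exact add_mem (add_mem (add_mem (sum_mem fun j _ => hA j (PL_mem _ _)) (sum_mem fun j _ => hB j (PL_mem _ _)))
        (sum_mem fun j _ => perm ((by decide +kernel : ∀ i j c, Fintype.card {k // chi (S3 i) k = c} =
          Fintype.card {k // chi (S3 j) k = c}) i j) e (PL_mem _ _))) (PL_mem _ _)
    have h2 : ∑ j, LA 0 j = 0 := by decide
    exact absurd ((h.dg_eq_one (isDg_dg h2)).1 (o.faith _ fun v => this v _ h2 (zero_dotProduct _)) 1) (by decide)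
  have h2 := bound (ι := ι) (ρ := ρ) (fun i => chi (S3 i)) (by decide +kernel)
  have h3 := Finset.card_nsmul_le_sum Finset.univ _ 2 fun j _ => h1 j
  have h4 : UL ι ρ 0 = ⊥ := Submodule.finrank_eq_zero.1 (by simp at h3; omega)
  have h5 : ∀ l v, UL ι ρ l ≤ UL ι ρ 0 → PL ι ρ l v = 0 := fun l v e => (Submodule.mem_bot _).1 (h4 ▸ e (PL_mem l v))
  have h6 : ∀ i, Nat.card (US ι ρ (S3 i)) = 4 := fun i => by
    rw [← Finset.add_sum_erase _ _ (Finset.mem_univ i)] at h2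
    have := Finset.card_nsmul_le_sum (Finset.univ.erase i) _ 2 fun j _ => h1 j
    have h7 : finrank (ZMod 2) (Wt.UP ι ρ (chi (S3 i))) = 2 := by have := h1 i; simp at *; omega
    rw [US_eq, show UL ι ρ (chi (S3 i)) = Wt.UP ι ρ (chi (S3 i)) from
      (inf_eq_left.2 fun v _ => h5 0 v le_rfl).symm, Module.natCard_eq_pow_finrank (K := ZMod 2), h7, Nat.card_zmod]
    rfl
  refine ⟨exists_isDg, fun S hS => ?_, fun v => ⟨fun S => PL ι ρ (chi S) v, fun S => (US_eq S).ge (PL_mem _ _), ?_⟩,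
    fun v hv => (Submodule.mem_bot (ZMod 2)).1 (h4.le fun a ha _ => hv a _ (isDg_dg ha))⟩
  · obtain ⟨i, rfl | rfl⟩ := (by decide +kernel : ∀ S : Finset (Fin 6), S.card = 3 → ∃ i, S = S3 i ∨ S = (S3 i)ᶜ) S hS
    · exact h6 i
    · rw [← h6 i]
      congr 2
      ext v
      refine forall₃_congr fun a g hg => imp_congr_left ?_
      have := Finset.sum_add_sum_compl (S3 i) a
      rw [hg.1] at this
      rw [eq_neg_of_add_eq_zero_right this, neg_eq_zero]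
  · rw [show (Finset.univ.filter fun S : Finset (Fin 6) => S.card = 3 ∧ 0 ∈ S) = Finset.univ.image S3 by decide +kernel,
      Finset.sum_image (by decide +kernel)]
    have := decomp (ρ := ρ) h v
    rwa [Finset.sum_eq_zero fun i _ => h5 _ v (hA i), Finset.sum_eq_zero fun i _ => h5 _ v (hB i), h5 0 v le_rfl, add_zero,
      add_zero, zero_add] at this

end CL.E6S
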