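/-
A search over character values at an involution with fixed values and congruence pruning.
-/
import Cfsg.Agent.Spor.MOEnum

set_option autoImplicit false

namespace CL.Spor.MO

/-- Lists of degrees with moduli and candidate values. -/
inductive LM
  | nil
  | cons (d m : ℕ) (l : EL) (tl : LM)

noncomputable def mkF (r u B c w wt NC : ℕ) (neg : Bool) (n : ℕ) : EL → (EL → Bool) → Bool :=
  Nat.rec (fun l k => k l) (fun j ih l k => Bool.rec (ih l k)
    (fN (Nat.add (Nat.sub (Nat.mul u j) B) (Nat.sub B (Nat.mul u j))) fun a => fN (Nat.mul a a) fun aa =>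
      fN (Nat.mul wt aa) fun s => fN (Nat.sub (Nat.add r (Nat.mul u j)) B) fun x =>
      fN (Bool.rec (Nat.mul w aa) (Nat.sub NC (Nat.mul w aa)) neg) fun q => ih (EL.cons s x q l) k)
    (Nat.beq (Nat.mod (Nat.mul u j) 4) c)) n

theorem mkF_succ (r u B c w wt NC : ℕ) (neg : Bool) (j : ℕ) (l : EL) (k : EL → Bool) :
    mkF r u B c w wt NC neg (j + 1) l k = Bool.rec (mkF r u B c w wt NC neg j l k)
    (fN (Nat.add (Nat.sub (Nat.mul u j) B) (Nat.sub B (Nat.mul u j))) fun a => fN (Nat.mul a a) fun aa =>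
      fN (Nat.mul wt aa) fun s => fN (Nat.sub (Nat.add r (Nat.mul u j)) B) fun x =>
      fN (Bool.rec (Nat.mul w aa) (Nat.sub NC (Nat.mul w aa)) neg) fun q => mkF r u B c w wt NC neg j (EL.cons s x q l) k)
    (Nat.beq (Nat.mod (Nat.mul u j) 4) c) := rfl

theorem mkF_sound (r u B c w wt NC : ℕ) (neg : Bool) (k : EL → Bool) (n : ℕ) : ∀ l,
    mkF r u B c w wt NC neg n l k = true → ∃ l', k l' = true ∧ (∀ a b c, l.mem a b c → l'.mem a b c) ∧
      ∀ j < n, u * j % 4 = c → ∀ a, a = u * j - B + (B - u * j) →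
        l'.mem (wt * (a * a)) (r + u * j - B) (if neg then NC - w * (a * a) else w * (a * a)) := by
  induction n with
  | zero => exact fun l h => ⟨l, h, fun _ _ _ => id, by simp⟩
  | succ n ih =>
    intro l h
    by_cases hc : u * n % 4 = c
    · have h1 : Nat.beq (Nat.mod (Nat.mul u n) 4) c = true := Nat.beq_eq.mpr hc
      simp only [mkF_succ, h1, fN_eq] at h
      obtain ⟨l', k1, k2, k3⟩ := ih _ h
      refine ⟨l', k1, fun a b c hm => k2 a b c (Or.inr hm), fun j hj hj' a ha => ?_⟩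
      rcases (Nat.lt_add_one_iff.mp hj).eq_or_lt with rfl | hlt
      · exact k2 _ _ _ (Or.inl ⟨by rw [ha]; rfl, rfl, by rw [ha]; cases neg <;> rfl⟩)
      · exact k3 j hlt hj' a ha
    · have h1 : Nat.beq (Nat.mod (Nat.mul u n) 4) c = false := by
        rw [← Bool.not_eq_true, Nat.beq_eq]
        exact hc
      simp only [mkF_succ, h1] at h
      obtain ⟨l', k1, k2, k3⟩ := ih _ h
      refine ⟨l', k1, k2, fun j hj hj' a ha => ?_⟩
      rcases (Nat.lt_add_one_iff.mp hj).eq_or_lt with rfl | hlt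
      exacts [(hc hj').elim, k3 j hlt hj' a ha]

/-- The bound for the value at an involution inverting an element of order 11. -/
def bd (d : ℕ) : ℕ := (d + 10 * (d % 11)) / 11 - d % 11 / 10 * 10

/-- The sign of a character in the block relation is negative. -/
def ng (p e d : ℕ) : Bool := d % p != 1 && d % p != p - e

def sn (p e d : ℕ) : ℤ := if ng p e d then -1 else 1

/-- The number of characters represented by a degree. -/
def wn (p e d : ℕ) : ℕ := if d % p = 1 ∨ d % p = p - 1 then 1 else (p - 1) / e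

def qw (p e M NC : ℕ) (x : ℕ × ℤ) : ℕ :=
  if ng p e x.1 then NC - M / x.1 * (x.2.natAbs * x.2.natAbs) else M / x.1 * (x.2.natAbs * x.2.natAbs)

noncomputable def fW (p e M idx r NC m0 : ℕ) (c : List ℕ) : (ℕ → LM → Bool) → Bool :=
  List.rec (fun k => k m0 LM.nil) (fun d _ ih k => ih fun m L => fN d fun d => fN (d / Nat.gcd d idx) fun u =>
    fN (min (bd d) r / u) fun R => fN (u * R) fun B => fN ((if ng p e d then 3 * d + B else d + B) % 4) fun c =>
    fN (M / d) fun w => fN (wn p e d) fun wt => fN (Nat.gcd m (w * (u * u))) fun m' =>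
    mkF r u B c w wt NC (ng p e d) (2 * R + 1) EL.nil fun l => k m' (LM.cons d m l L)) c

theorem fW_cons (p e M idx r NC m0 d : ℕ) (c : List ℕ) (k : ℕ → LM → Bool) : fW p e M idx r NC m0 (d :: c) k =
    fW p e M idx r NC m0 c fun m L => fN d fun d => fN (d / Nat.gcd d idx) fun u =>
    fN (min (bd d) r / u) fun R => fN (u * R) fun B => fN ((if ng p e d then 3 * d + B else d + B) % 4) fun c =>
    fN (M / d) fun w => fN (wn p e d) fun wt => fN (Nat.gcd m (w * (u * u))) fun m' =>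
    mkF r u B c w wt NC (ng p e d) (2 * R + 1) EL.nil fun l => k m' (LM.cons d m l L) := rfl

/-- Admissible values. -/
def Adm (idx r : ℕ) (x : ℕ × ℤ) : Prop :=
  0 < x.1 ∧ x.2.natAbs ≤ bd x.1 ∧ x.2.natAbs ≤ r ∧ (4 : ℤ) ∣ x.1 - x.2 ∧ (x.1 : ℤ) ∣ idx * x.2

def Cov (p e M r NC Rl : ℕ) : LM → List (ℕ × ℤ) → Prop
  | .nil, [] => True
  | .cons d m l E, x :: L => d = x.1 ∧
      l.mem (wn p e d * (x.2.natAbs * x.2.natAbs)) (sn p e d * x.2 + r).toNat (qw p e M NC x) ∧
      m ∣ NC ∧ m ∣ (L.map (qw p e M NC)).sum + Rl ∧ Cov p e M r NC Rl E L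
  | _, _ => False

theorem dvd_qw {p e M NC idx r m : ℕ} {x : ℕ × ℤ} (hx : Adm idx r x) (h : m ∣ NC)
    (h' : m ∣ M / x.1 * (x.1 / Nat.gcd x.1 idx * (x.1 / Nat.gcd x.1 idx))) : m ∣ qw p e M NC x := by
  have h1 := Int.natCast_dvd.mp (div_gcd_dvd hx.1 hx.2.2.2.2)
  have h2 := h'.trans (Nat.mul_dvd_mul_left _ (Nat.mul_dvd_mul h1 h1))
  unfold qw
  split_ifs
  exacts [Nat.dvd_sub h h2, h2]

theorem fW_sound (p e M idx r NC m0 Rl : ℕ) (h0 : m0 ∣ NC) (h0' : m0 ∣ Rl) (L : List (ℕ × ℤ))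
    (hL : ∀ x ∈ L, Adm idx r x) : ∀ k : ℕ → LM → Bool, fW p e M idx r NC m0 (L.map Prod.fst) k = true →
      ∃ m E, k m E = true ∧ m ∣ NC ∧ m ∣ (L.map (qw p e M NC)).sum + Rl ∧ Cov p e M r NC Rl E L := by
  induction L with
  | nil => exact fun k h => ⟨m0, .nil, h, h0, by simpa using h0', trivial⟩
  | cons x L ih =>
    intro k h
    rw [List.map_cons, fW_cons] at h
    obtain ⟨m, E, k1, k2, k3, k4⟩ := ih (fun y hy => hL y (by simp [hy])) _ h
    simp only [fN_eq] at k1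
    obtain ⟨l, k5, -, k6⟩ := mkF_sound _ _ _ _ _ _ _ _ _ _ _ k1
    have hx := hL x (by simp)
    have g1 := (Nat.gcd_dvd_left m _).trans k2 (c := NC) (a := Nat.gcd m (M / x.1 * (x.1 / Nat.gcd x.1 idx *
      (x.1 / Nat.gcd x.1 idx))))
    refine ⟨_, _, k5, g1, ?_, rfl, ?_, k2, k3, k4⟩
    · rw [List.map_cons, List.sum_cons, add_assoc]
      exact Nat.dvd_add (dvd_qw hx g1 (Nat.gcd_dvd_right _ _)) ((Nat.gcd_dvd_left _ _).trans k3)
    obtain ⟨d, a⟩ := x
    obtain ⟨h1, h2, h3, h4, h5⟩ := hx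
    simp only at h1 h2 h3 h4 h5 k6 ⊢
    replace h5 := div_gcd_dvd h1 h5
    have hu : 0 < d / Nat.gcd d idx := Nat.div_pos (Nat.gcd_le_left _ h1) (Nat.gcd_pos_of_pos_left _ h1)
    generalize d / Nat.gcd d idx = u at h5 hu k6
    have hs : sn p e d = 1 ∨ sn p e d = -1 := by unfold sn; split_ifs <;> simp
    obtain ⟨w, hw⟩ := h5.mul_left (sn p e d)
    have h7 : u * w.natAbs = a.natAbs := by
      have := congrArg Int.natAbs hw
      rcases hs with h | h <;> simpa [h, Int.natAbs_mul] using this.symm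
    have h6 : w.natAbs ≤ min (bd d) r / u := by
      rw [Nat.le_div_iff_mul_le hu, mul_comm]
      omega
    have h8 := Nat.mul_div_le (min (bd d) r) u
    generalize min (bd d) r / u = R at h6 k6 h8
    have h9 : ((u * (w + R).toNat : ℕ) : ℤ) = sn p e d * a + (u * R : ℕ) := by
      rw [hw]
      push_cast
      rw [Int.toNat_of_nonneg (by omega)]
      ring
    have := k6 (w + R).toNat (by omega) ?_ a.natAbs (by rcases hs with h | h <;> rw [h] at h9 <;> omega)
    · rwa [show r + u * (w + R).toNat - u * R = (sn p e d * a + r).toNat by omega] at this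
    · unfold sn at h9
      split_ifs at h9 ⊢ <;> omega

/-- Search over the values attached to a list of degrees. -/
noncomputable def sAll (K : ℕ) (P : List (ℕ × ℕ) → ℕ → ℕ → ℕ → Bool) (L : LM) :
    ℕ → ℕ → List (ℕ × ℕ) → ℕ → ℕ → ℕ → Bool :=
  LM.rec (fun _ _ acc sq lu Q => P acc sq lu Q) (fun d m l _ ih pd pu acc sq lu Q =>
    fN (Bool.rec 0 pu (Nat.beq d pd)) fun lo =>
    EL.rec true (fun aa u q _ ih' => Bool.rec ih' (Bool.rec ih' (Bool.rec false ih' (Bool.rec true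
      (ih d u ((d, u) :: acc) (Nat.add sq aa) (Nat.add lu u) (Nat.add Q q)) (Nat.beq (Nat.mod (Nat.add Q q) m) 0)))
      (Nat.ble lo u)) (Nat.ble (Nat.add sq aa) K)) l) L

theorem sAll_cons (K : ℕ) (P : List (ℕ × ℕ) → ℕ → ℕ → ℕ → Bool) (d m : ℕ) (l : EL) (L : LM) (pd pu : ℕ)
    (acc : List (ℕ × ℕ)) (sq lu Q : ℕ) : sAll K P (.cons d m l L) pd pu acc sq lu Q =
    fN (Bool.rec 0 pu (Nat.beq d pd)) fun lo =>
    EL.rec true (fun aa u q _ ih' => Bool.rec ih' (Bool.rec ih' (Bool.rec false ih' (Bool.rec true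
      (sAll K P L d u ((d, u) :: acc) (Nat.add sq aa) (Nat.add lu u) (Nat.add Q q))
      (Nat.beq (Nat.mod (Nat.add Q q) m) 0))) (Nat.ble lo u)) (Nat.ble (Nat.add sq aa) K)) l := rfl

theorem sAll_sound (p e M r NC Rl K n : ℕ) (P : List (ℕ × ℕ) → ℕ → ℕ → ℕ → Bool) (L : List (ℕ × ℤ)) :
    ∀ (E : LM) (pd pu : ℕ) (acc : List (ℕ × ℕ)) (sq lu Q : ℕ), Cov p e M r NC Rl E L →
    (∀ y ∈ L, y.1 = pd → pu ≤ (sn p e y.1 * y.2 + r).toNat) →
    L.Pairwise (fun x y => y.1 = x.1 → sn p e x.1 * x.2 ≤ sn p e y.1 * y.2) →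
    sq + (L.map fun x => wn p e x.1 * (x.2.natAbs * x.2.natAbs)).sum ≤ K →
    Q + (L.map (qw p e M NC)).sum + Rl = NC * n → sAll K P E pd pu acc sq lu Q = true →
    P ((L.map fun x => (x.1, (sn p e x.1 * x.2 + r).toNat)).reverse ++ acc)
      (sq + (L.map fun x => wn p e x.1 * (x.2.natAbs * x.2.natAbs)).sum)
      (lu + (L.map fun x => (sn p e x.1 * x.2 + r).toNat).sum) (Q + (L.map (qw p e M NC)).sum) = true := by
  induction L with
  | nil =>
    intro E pd pu acc sq lu Q hE _ _ _ _ h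
    cases E
    · simpa [sAll] using h
    · exact hE.elim
  | cons x L ih =>
    intro E pd pu acc sq lu Q hE h0 h1 h3 hQ h
    cases E with
    | nil => exact hE.elim
    | cons d m l E =>
      obtain ⟨rfl, k1, k2, k3, k4⟩ := hE
      rw [List.map_cons, List.sum_cons] at h3 hQ
      rw [List.pairwise_cons] at h1
      simp only [sAll_cons, fN_eq] at h
      have h4 := el_sound _ _ _ _ _ k1 (by omega) (by
        cases hb : Nat.beq x.1 pd
        · exact Nat.zero_le _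
        · exact h0 x (by simp) (Nat.beq_eq.mp hb)) h
      rw [show Nat.beq (Nat.mod (Nat.add Q (qw p e M NC x)) m) 0 = true from Nat.beq_eq.mpr (Nat.mod_eq_zero_of_dvd
        ((Nat.dvd_add_left k3).mp ((k2.mul_right n).trans (by rw [← hQ]; simp [add_assoc]))))] at h4
      have := ih E _ _ _ _ _ _ k4 (fun y hy he => Int.toNat_le_toNat (by have := h1.1 y hy he; omega)) h1.2
        (by simpa [add_assoc] using h3) (by simpa [add_assoc] using hQ) h4
      simpa [add_assoc] using this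

/-- The test at the end of the search. -/
noncomputable def leaf (p e K r dl B t o wm wp Z ul : ℕ) (P : List (ℕ × ℤ) → Bool) (acc : List (ℕ × ℕ))
    (sq lu Q : ℕ) : Bool :=
  fN (Nat.add (Nat.sub lu B) (Nat.sub B lu)) fun l => fN (Nat.mul l l) fun ll =>
    Bool.rec true (Bool.rec true (!(l ≤ bd dl && (dl + sn p e dl * ((lu : ℤ) - B)) % 4 == 0 && l % ul == 0) ||
      P ((dl, -(sn p e dl * ((lu : ℤ) - B))) :: acc.map fun x => (x.1, sn p e x.1 * ((x.2 : ℤ) - r))))
      (Nat.ble (Nat.add sq (Nat.mul t ll)) K))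
      (Nat.beq (Nat.add (Nat.add Q o) (Nat.mul wp ll)) (Nat.add Z (Nat.mul wm ll)))

theorem leaf_sound {p e K r d B t o wm wp Z ul : ℕ} {P : List (ℕ × ℤ) → Bool} {acc : List (ℕ × ℕ)} {sq lu Q : ℕ}
    (h : leaf p e K r d B t o wm wp Z ul P acc sq lu Q = true) {a : ℤ} (e3 : (lu : ℤ) - B = -(sn p e d * a))
    (h1 : Q + o + wp * (a.natAbs * a.natAbs) = Z + wm * (a.natAbs * a.natAbs))
    (h2 : sq + t * (a.natAbs * a.natAbs) ≤ K) (h3 : a.natAbs ≤ bd d) (h4 : (4 : ℤ) ∣ d - a) (h5 : ul ∣ a.natAbs) :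
    P ((d, a) :: acc.map fun x => (x.1, sn p e x.1 * ((x.2 : ℤ) - r))) = true := by
  have hs' : sn p e d = 1 ∨ sn p e d = -1 := by unfold sn; split_ifs <;> simp
  have e4 : Nat.add (Nat.sub lu B) (Nat.sub B lu) = a.natAbs := by
    simp only [Nat.add_eq, Nat.sub_eq]
    rcases hs' with h | h <;> rw [h] at e3 <;> omega
  have e5 : sn p e d * -(sn p e d * a) = -a := by rcases hs' with h | h <;> simp [h]
  have e6 : Nat.beq (Nat.add (Nat.add Q o) (Nat.mul wp (Nat.mul a.natAbs a.natAbs)))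
    (Nat.add Z (Nat.mul wm (Nat.mul a.natAbs a.natAbs))) = true := Nat.beq_eq.mpr h1
  have e7 : Nat.ble (Nat.add sq (Nat.mul t (Nat.mul a.natAbs a.natAbs))) K = true := Nat.ble_eq.mpr h2
  have e8 : (decide (a.natAbs ≤ bd d) && ((d : ℤ) + -a) % 4 == 0 && a.natAbs % ul == 0) = true := by
    simpa using ⟨⟨h3, h4⟩, Nat.mod_eq_zero_of_dvd h5⟩
  simp only [leaf, fN_eq, e3, e4, e5, e6, e7, e8] at h
  simpa using h

/-- All admissible systems of values for the degrees `c ++ [dl]` satisfy `P`. -/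
noncomputable def tAll (g p e K : ℕ) (c : List ℕ) (dl sq0 : ℕ) (lin0 Q0 : ℤ) (P : List (ℕ × ℤ) → Bool) : Bool :=
  fN (isq (K - sq0)) fun r => fN (g / K) fun idx => fN (g / p) fun M => fN (M * K * K) fun NC =>
  fN (((c ++ [dl]).filter (ng p e)).length + 1) fun n => fN (NC * n) fun Z => fN (M / dl) fun wl =>
  fN (dl / Nat.gcd dl idx) fun ul => fN (c.length * r + lin0.natAbs) fun B => fN (lin0 + lin0.natAbs).toNat fun l0 =>
  fN (Q0 + NC).toNat fun q0 => fN (wn p e dl) fun t => fN (if ng p e dl then NC else 0) fun o =>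
  fN (if ng p e dl then wl else 0) fun wm => fN (if ng p e dl then 0 else wl) fun wp =>
  Nat.blt (K - sq0) ((r + 1) * (r + 1)) && decide (0 ≤ Q0 + NC) &&
  fW p e M idx r NC (Nat.gcd NC (wl * (ul * ul))) c fun _ E =>
  sAll K (leaf p e K r dl B t o wm wp Z ul P) E 0 0 [] sq0 l0 q0

theorem sum_qw (p e M NC : ℕ) (L : List (ℕ × ℤ)) (h : ∀ x ∈ L, M / x.1 * (x.2.natAbs * x.2.natAbs) ≤ NC) :
    (((L.map (qw p e M NC)).sum : ℕ) : ℤ) = (L.map fun x => sn p e x.1 * (x.2 * x.2 * (M / x.1 : ℕ))).sum +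
      NC * (((L.map Prod.fst).filter (ng p e)).length : ℕ) := by
  induction L with
  | nil => simp
  | cons x L ih =>
    have h1 := h x (by simp)
    have h2 : ((x.2.natAbs * x.2.natAbs : ℕ) : ℤ) = x.2 * x.2 := Int.natAbs_mul_self
    simp only [List.map_cons, List.sum_cons, Nat.cast_add, ih fun y hy => h y (by simp [hy]), List.filter_cons, qw, sn]
    split_ifs
    · simp only [Nat.cast_sub h1, Nat.cast_mul (M / x.1), h2, List.length_cons, Nat.cast_add, Nat.cast_one]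
      ring
    · simp only [Nat.cast_mul (M / x.1), h2]
      ring

theorem sum_enc' (p e r : ℕ) (L : List (ℕ × ℤ)) (h : ∀ x ∈ L, x.2.natAbs ≤ r) :
    (((L.map fun x => (sn p e x.1 * x.2 + r).toNat).sum : ℕ) : ℤ) =
      (L.map fun x => sn p e x.1 * x.2).sum + L.length * r := by
  induction L with
  | nil => simp
  | cons x L ih =>
    have := h x (by simp)
    simp only [List.map_cons, List.sum_cons, Nat.cast_add, ih fun y hy => h y (by simp [hy]), List.length_cons]
    rw [Int.toNat_of_nonneg (by unfold sn; split_ifs <;> omega)]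
    push_cast
    ring

theorem exists_sorted (κ : ℕ × ℤ → ℤ) (c : List ℕ) : ∀ m : Multiset (ℕ × ℤ), m.map Prod.fst = c →
    ∃ L : List (ℕ × ℤ), (L : Multiset _) = m ∧ L.map Prod.fst = c ∧ L.Pairwise fun x y => y.1 = x.1 → κ x ≤ κ y := by
  induction c with
  | nil => exact fun m h => ⟨[], by simpa [eq_comm] using h, rfl, .nil⟩
  | cons d c ih =>
    intro m h
    obtain ⟨y, hy, hy'⟩ := Multiset.mem_map.mp (h ▸ (by simp : d ∈ ((d :: c : List ℕ) : Multiset ℕ)))
    obtain ⟨x, hx, hx'⟩ := (m.filter (·.1 = d)).toFinset.exists_min_image κ ⟨y, by simp [hy, hy']⟩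
    simp only [Multiset.mem_toFinset, Multiset.mem_filter] at hx hx'
    obtain ⟨m, rfl⟩ := Multiset.exists_cons_of_mem hx.1
    rw [Multiset.map_cons, hx.2, ← Multiset.cons_coe, Multiset.cons_inj_right] at h
    obtain ⟨L, k1, k2, k3⟩ := ih m h
    refine ⟨x :: L, by rw [← k1, Multiset.cons_coe], by rw [List.map_cons, k2, hx.2],
      List.pairwise_cons.mpr ⟨fun z hz e => hx' z ⟨?_, e.trans hx.2⟩, k3⟩⟩
    exact Multiset.mem_cons_of_mem (k1 ▸ hz)

theorem tAll_sound {g p e K dl sq0 : ℕ} {c : List ℕ} {lin0 Q0 : ℤ} {P : List (ℕ × ℤ) → Bool}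
    (h : tAll g p e K c dl sq0 lin0 Q0 P = true) {m : Multiset (ℕ × ℤ)} (hm : m.map Prod.fst = (c ++ [dl] : List ℕ))
    (h1 : ∀ x ∈ m, 0 < x.1 ∧ 0 < wn p e x.1 ∧ x.2.natAbs ≤ bd x.1 ∧ (4 : ℤ) ∣ x.1 - x.2 ∧ (x.1 : ℤ) ∣ (g / K : ℕ) * x.2)
    (h2 : lin0 + (m.map fun x => sn p e x.1 * x.2).sum = 0)
    (h3 : Q0 + (m.map fun x => sn p e x.1 * (x.2 * x.2 * (g / p / x.1 : ℕ))).sum = 0)
    (h4 : sq0 + (m.map fun x => wn p e x.1 * (x.2.natAbs * x.2.natAbs)).sum ≤ K) :
    ∃ l : List (ℕ × ℤ), (l : Multiset _) = m ∧ P l = true := by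
  obtain ⟨L, rfl, k2, k3⟩ := exists_sorted (fun x => sn p e x.1 * x.2) _ m hm
  obtain ⟨L, l', rfl, rfl, k4⟩ := List.map_eq_append_iff.mp k2
  obtain ⟨⟨d, a⟩, rfl, rfl⟩ : ∃ x, l' = [x] ∧ x.1 = dl := by simpa using k4
  simp only [tAll, fN_eq, Bool.and_eq_true, Nat.blt_eq, decide_eq_true_eq] at h
  generalize isq (K - sq0) = r at h
  simp only [Multiset.map_coe, Multiset.sum_coe, Multiset.mem_coe] at h1 h2 h3 h4
  have hs : ∀ x ∈ L ++ [(d, a)], x.2.natAbs * x.2.natAbs ≤ K - sq0 := fun x hx => by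
    have := List.single_le_sum (by simp) _
      (List.mem_map_of_mem (f := fun x : ℕ × ℤ => wn p e x.1 * (x.2.natAbs * x.2.natAbs)) hx)
    have := Nat.le_mul_of_pos_left (x.2.natAbs * x.2.natAbs) (h1 x hx).2.1
    omega
  have hA : ∀ x ∈ L ++ [(d, a)], Adm (g / K) r x := fun x hx =>
    ⟨(h1 x hx).1, (h1 x hx).2.2.1, Nat.lt_add_one_iff.mp (Nat.mul_self_lt_mul_self_iff.mp
      ((hs x hx).trans_lt h.1.1)), (h1 x hx).2.2.2⟩
  have e2 := sum_qw p e (g / p) (g / p * K * K) _ fun x hx => by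
    have := (hs x hx).trans ((Nat.sub_le K sq0).trans (Nat.le_mul_self K))
    rw [mul_assoc]
    exact Nat.mul_le_mul (Nat.div_le_self _ _) this
  have hl := hA (d, a) (by simp)
  obtain ⟨-, E, k5, -, -, k6⟩ := fW_sound _ _ _ _ _ _ _ (qw p e (g / p) (g / p * K * K) (d, a))
    (Nat.gcd_dvd_left _ _) (dvd_qw hl (Nat.gcd_dvd_left _ _) (Nat.gcd_dvd_right _ _)) L
    (fun x hx => hA x (by simp [hx])) _ h.2
  have e1 := sum_enc' p e _ L fun x hx => (hA x (by simp [hx])).2.2.1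
  simp only [List.map_append, List.sum_append, List.map_cons, List.map_nil, List.sum_cons, List.sum_nil,
    add_zero] at h2 h3 h4 e2
  have hQ : (Q0 + (g / p * K * K : ℕ)).toNat + (L.map (qw p e (g / p) (g / p * K * K))).sum +
      qw p e (g / p) (g / p * K * K) (d, a) =
      g / p * K * K * (((L.map Prod.fst ++ [d]).filter (ng p e)).length + 1) := by
    rw [← Int.natCast_inj, add_assoc, Nat.cast_add, e2, Int.toNat_of_nonneg h.1.2]
    push_cast at h3 ⊢
    linear_combination h3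
  have := leaf_sound (sAll_sound _ _ _ _ _ _ _ _ _ L E _ _ _ _ _ _ k6 (fun _ _ _ => Nat.zero_le _)
    (List.pairwise_append.mp k3).1 (by omega) hQ k5) (a := a) ?_ ?_ (by simpa [add_assoc] using h4) hl.2.1 hl.2.2.2.1
    (Int.natCast_dvd.mp (div_gcd_dvd hl.1 hl.2.2.2.2))
  rotate_left
  · rw [List.length_map]
    push_cast at e1 ⊢
    rw [Int.toNat_of_nonneg (by have := neg_abs_le lin0; omega)]
    omega
  · have := hs (d, a) (by simp)
    have : g / p / d * (a.natAbs * a.natAbs) ≤ g / p * K * K := by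
      rw [mul_assoc]
      exact Nat.mul_le_mul (Nat.div_le_self _ _) (this.trans ((Nat.sub_le K sq0).trans (Nat.le_mul_self K)))
    simp only [← hQ, qw]
    split_ifs <;> omega
  refine ⟨_, ?_, this⟩
  simp only [List.append_nil, List.map_reverse, List.map_map]
  rw [List.map_congr_left (g := id) fun x hx => ?_, List.map_id, Multiset.coe_eq_coe]
  · exact (List.reverse_perm L).cons _ |>.trans (List.perm_append_singleton _ _).symm
  have := (hA x (by simp [hx])).2.2.1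
  refine Prod.ext rfl ?_
  simp only [Function.comp, id]
  rw [Int.toNat_of_nonneg (by unfold sn; split_ifs <;> omega)]
  unfold sn
  split_ifs <;> ring

end CL.Spor.MO
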