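/-
Simple groups of order 244823040: the principal 5-block at an involution inverting an element of order 11.
-/
import Cfsg.Agent.Spor.MO24A
import Cfsg.Agent.Spor.MOEnum2

set_option autoImplicit false
set_option maxRecDepth 100000

namespace CL.Spor.MO

def KT24 : List ℕ :=
  [10, 20, 30, 40, 60, 70, 80, 90, 120, 140, 160, 180, 210, 240, 270, 280, 320, 360, 420, 480, 540, 560, 630, 640,
  720, 840, 960, 1080, 1120, 1260, 1280, 1440, 1680, 1890, 1920, 2160, 2240, 2520, 2560, 2880, 3360, 3780, 3840,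
  4320, 4480, 5040, 5120, 5760, 6720, 7560, 7680, 8640, 8960, 10080, 11520, 13440, 15120, 15360, 17280, 17920,
  20160, 23040, 26880, 30240, 34560, 35840, 40320]

def T24 : List (ℕ × List (ℕ × ℤ) × ℤ × ℤ) :=
  [(640, [(1771, 11), (2024, 4)], 4, -4), (960, [(1771, 11), (2024, 4)], 4, -4), (1280, [(1771, -9), (2024, 24)],
  -16, 16), (1280, [(1771, 11), (2024, 4)], 4, -4), (1920, [(1771, -9), (2024, 24)], -16, 16), (1920, [(1771, 11),
  (2024, 4)], 4, -4), (2560, [(1771, -9), (2024, 4)], -36, -24), (2560, [(1771, -9), (2024, 24)], -16, 16), (2560,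
  [(1771, 11), (2024, 4)], 4, -4), (2560, [(1771, 31), (2024, -16)], 24, -24), (2880, [(1771, -9), (2024, 4)], -36,
  -24), (2880, [(1771, 11), (2024, 24)], 24, 36), (2880, [(1771, 31), (2024, -16)], 24, -24), (3840, [(506, 6),
  (759, 19)], -36, -24), (3840, [(1771, -9), (2024, -36)], 44, 16), (3840, [(1771, -9), (2024, 4)], -36, -24),
  (3840, [(1771, -9), (2024, 24)], -16, 16), (3840, [(1771, 11), (2024, -36)], 4, -44), (3840, [(1771, 11), (2024,
  -16)], -16, -44), (3840, [(1771, 11), (2024, 4)], 4, -4), (3840, [(1771, 11), (2024, 24)], 24, 36), (3840, [(1771,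
  31), (2024, -16)], 24, -24), (3840, [(1771, 31), (2024, 4)], 44, 16), (3840, [(1771, 31), (2024, 44)], 4, 16),
  (5120, [(1771, -29), (2024, 24)], -56, -4), (5120, [(1771, 11), (2024, -16)], -16, -44), (5120, [(1771, 11),
  (2024, 24)], 24, 36), (5760, [(1771, -29), (2024, 44)], -36, 36), (5760, [(1771, -9), (2024, 4)], -36, -24),
  (5760, [(1771, 11), (2024, 24)], 24, 36), (5760, [(1771, 31), (2024, -16)], 24, -24), (7680, [(506, -34), (759,
  39)], -56, 16), (7680, [(506, 26), (759, -21)], 64, 16), (7680, [(506, 26), (759, 39)], -56, -44), (7680, [(1771,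
  -29), (2024, 24)], -56, -4), (7680, [(1771, -29), (2024, 44)], -36, 36), (7680, [(1771, -9), (2024, -56)], -16,
  -64), (7680, [(1771, -9), (2024, -36)], 44, 16), (7680, [(1771, -9), (2024, -16)], -56, -64), (7680, [(1771, -9),
  (2024, 4)], -36, -24), (7680, [(1771, -9), (2024, 4)], 44, 56), (7680, [(1771, -9), (2024, 24)], -16, 16), (7680,
  [(1771, -9), (2024, 44)], 4, 56), (7680, [(1771, 11), (2024, -36)], 4, -44), (7680, [(1771, 11), (2024, -16)],
  -16, -44), (7680, [(1771, 11), (2024, 4)], 4, -4), (7680, [(1771, 11), (2024, 24)], 24, 36), (7680, [(1771, 31),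
  (2024, -36)], 4, -64), (7680, [(1771, 31), (2024, -16)], 24, -24), (7680, [(1771, 31), (2024, 4)], 44, 16), (7680,
  [(1771, 31), (2024, 44)], 4, 16), (7680, [(1771, 51), (2024, -16)], 64, -4), (7680, [(1771, 51), (2024, 64)], -16,
  -4), (8640, [(1771, -29), (2024, 44)], -36, 36), (11520, [(1771, -29), (2024, 44)], -36, 36), (11520, [(1771, -9),
  (2024, 4)], -36, -24), (11520, [(1771, 11), (2024, -36)], -36, -84), (11520, [(1771, 11), (2024, 24)], 24, 36),
  (11520, [(1771, 31), (2024, -16)], 24, -24), (11520, [(1771, 51), (2024, 4)], 84, 36), (13440, [(1771, -49),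
  (2024, 64)], -56, 56), (15360, [(506, 26), (759, 39)], -56, -44), (15360, [(1771, -29), (2024, -16)], 64, 76),
  (15360, [(1771, -29), (2024, 24)], -56, -4), (15360, [(1771, -29), (2024, 64)], -16, 76), (15360, [(1771, 11),
  (2024, -16)], -16, -44), (15360, [(1771, 11), (2024, 24)], 24, 36), (15360, [(1771, 51), (2024, -56)], 24, -84),
  (15360, [(1771, 51), (2024, -16)], 64, -4), (15360, [(1771, 51), (2024, 64)], -16, -4), (17280, [(1771, -29),
  (2024, 44)], -36, 36), (17920, [(1771, -49), (2024, 64)], -56, 56), (23040, [(506, -34), (759, 39)], 24, 96),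
  (23040, [(1771, -89), (2024, -16)], 24, 96), (23040, [(1771, -69), (2024, 64)], -96, 36), (23040, [(1771, -49),
  (2024, -36)], 84, 96), (23040, [(1771, -49), (2024, 24)], -96, -24), (23040, [(1771, -49), (2024, 84)], -36, 96),
  (23040, [(1771, -29), (2024, -16)], -96, -84), (23040, [(1771, -29), (2024, 44)], -36, 36), (23040, [(1771, -9),
  (2024, 4)], -36, -24), (23040, [(1771, -9), (2024, 4)], 84, 96), (23040, [(1771, -9), (2024, 64)], 24, 96),
  (23040, [(1771, 11), (2024, -36)], -36, -84), (23040, [(1771, 11), (2024, 24)], -96, -84), (23040, [(1771, 11),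
  (2024, 24)], 24, 36), (23040, [(1771, 31), (2024, -16)], 24, -24), (23040, [(1771, 31), (2024, 44)], 84, 96),
  (23040, [(1771, 51), (2024, -56)], 24, -84), (23040, [(1771, 51), (2024, 4)], 84, 36), (23040, [(1771, 51), (2024,
  64)], -96, -84), (23040, [(1771, 71), (2024, -36)], 84, -24), (23040, [(1771, 71), (2024, 84)], -36, -24), (26880,
  [(1771, -49), (2024, 64)], -56, 56), (34560, [(1771, -29), (2024, 44)], -36, 36), (34560, [(1771, 31), (2024,
  -76)], -36, -144), (34560, [(1771, 91), (2024, -16)], 144, 36), (40320, [(1771, 91), (2024, -76)], 84, -84)]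

theorem c24_4 : ∀ K ∈ A24, K % 10 = 0 → K % 11 ≠ 0 → K % 23 ≠ 0 → K < 44300 → K ∈ KT24 := by
  decide +kernel

theorem c24_5 : ∀ q ∈ caseL A24 244823040 5, q.2 % 23 = 0 ∨ q.2 % 11 = 0 ∨ q.2 % 2 ≠ 0 ∨
    degAll F24 244823040 5 q.1 q.2 (if q.2 % 2 = 0 then 2 * 5 else 1) (fun c F => KT24.all fun K =>
      valAll 244823040 5 q.1 q.2 K c F fun l => !(l.all fun x => Nat.ble x.2.natAbs (bd x.1)) || (q.1 == 4 &&
        T24.any fun r => r.1 == K && l.isPerm (r.2.1 ++ [(5544, r.2.2.1), (5796, r.2.2.2)]))) = true := by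
  decide +kernel

theorem c24_6 : ∀ r ∈ T24, r.2.1.map Prod.fst = [506, 759] ∨ r.2.1.map Prod.fst = [1771, 2024] := by
  decide +kernel

end CL.Spor.MO
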