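/-
Simple groups of order 244823040: values at an involution inverting an element of order 11.
-/
import Cfsg.Agent.Spor.MO24C
import Cfsg.Agent.Spor.MO24E

set_option autoImplicit false
set_option maxRecDepth 100000

namespace CL.Spor.MO

/-- The small degrees are those of the Mathieu group. -/
def good24 (c : List ℕ) (F : ℤ) (m : List ℕ) : Bool :=
  Nat.blt 276 F.natAbs && c.filter (· ≤ 276) == [45, 45, 231, 231, 252] &&
    (((fd 23 11 c F).filter (· % 11 ≠ 0) ++ 5796 :: m).filter (· ≤ 276)).isPerm [23, 45, 45, 252]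

/-- The relation coming from the 3-block of a character of degree 45. -/
def rel45 (z l : List (ℕ × ℤ)) : Bool :=
  z.all fun x => x.1 != 45 || z.any fun y => y.1 == 990 && l.any fun w => w.1 == 1035 && x.2 + y.2 == w.2

/-- The search in the principal 11-block. -/
noncomputable def t11 (K : ℕ) (X : List (ℕ × ℤ)) (b : ℤ) (z : List (ℕ × ℤ)) (m : List ℕ × ℕ)
    (P : List (ℕ × ℤ) → Bool) : Bool :=
  tAll 244823040 11 10 K m.1 m.2 (sqs (X ++ (z ++ [(5796, b)])))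
    (1 + (((5796, b) :: z.filter (·.1 % 11 ≠ 0)).map fun x => sn 11 10 x.1 * x.2).sum)
    (22256640 - (K * K : ℕ) + (((5796, b) :: z.filter (·.1 % 11 ≠ 0)).map fun x =>
      sn 11 10 x.1 * (x.2 * x.2 * (22256640 / x.1 : ℕ))).sum) P

/-- The search in the principal 23-block. -/
noncomputable def t23 (K : ℕ) (X : List (ℕ × ℤ)) (a b : ℤ) (m : List ℕ × ℕ) (P : List (ℕ × ℤ) → Bool) : Bool :=
  tAll 244823040 23 11 K m.1 m.2 (sqs (X ++ [(5796, b), (252, b - a), (5544, a)])) (1 - (b - a) + a)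
    (10644480 - (b - a) * (b - a) * 42240 + a * a * 1920) P

theorem c24_9 : ∀ w ∈ S24, (fd 23 11 w.2.1.1 w.2.1.2).count 5544 ≤ 2 ∧ 2772 ∉ w.2.1.1 ∧
    (252 :: 5544 :: (w.2.2.1.1 ++ [w.2.2.1.2])).Perm (w.2.1.2.natAbs :: w.2.1.1) ∧
    ∀ m ∈ w.2.2.2, 5796 ∉ m.1 ++ [m.2] := by
  decide +kernel

theorem c24_10 : ∀ w ∈ S24, ∀ r ∈ T24, r.2.1.map Prod.fst = w.1 → (r.2.2.2 - r.2.2.1).natAbs ≤ 22 →
    (252 : ℤ) ∣ (244823040 / r.1 : ℕ) * (r.2.2.2 - r.2.2.1) →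
    t23 r.1 r.2.1 r.2.2.1 r.2.2.2 w.2.2.1 (fun l => l.all fun x => x.1 != w.2.1.2.natAbs || w.2.2.2.all fun m =>
      t11 r.1 r.2.1 r.2.2.2 ((252, r.2.2.2 - r.2.2.1) :: (5544, r.2.2.1) :: (l ++ [x])) m fun l' =>
        good24 w.2.1.1 w.2.1.2 (m.1 ++ [m.2]) || (Nat.ble ((fd 23 11 w.2.1.1 w.2.1.2).count 45) 2 &&
          !rel45 ((252, r.2.2.2 - r.2.2.1) :: (5544, r.2.2.1) :: (l ++ [x])) l')) = true := by
  decide +kernel

end CL.Spor.MO
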