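/-
A faster form of the search for the degrees in a principal block of defect one.
-/
import Cfsg.Agent.Spor.MOEnum

set_option autoImplicit false

namespace CL.Spor.MO

/-- Evaluate a list before continuing. -/
noncomputable def fL (l : List ℕ) : (List ℕ → Bool) → Bool :=
  List.rec (fun k => k []) (fun c _ ih k => fN c fun c => ih fun l => k (c :: l)) l

theorem fL_eq (l : List ℕ) : ∀ k : List ℕ → Bool, fL l k = k l := by
  induction l with
  | nil => exact fun _ => rfl
  | cons c l ih => exact fun k => (fN_eq c fun c => fL l fun l => k (c :: l)).trans (ih _)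

noncomputable def dJ (g p k : ℕ) (f : List ℕ → List ℕ → ℕ → ℕ → ℕ → Bool) (acc : List ℕ) (a b q : ℕ) (cs : List ℕ) : Bool :=
  List.rec true (fun c cs ih => Bool.rec true (Bool.rec false ih (fN (Nat.add q (Nat.mul c c)) fun q =>
    Bool.rec (fN (Nat.add b c) fun b => f (c :: cs) (c :: acc) a b q) (fN (Nat.add a c) fun a => f (c :: cs) (c :: acc) a b q)
      (Nat.beq (Nat.mod c p) 1))) (Nat.ble (Nat.add q (Nat.mul k (Nat.mul c c))) g)) cs

noncomputable def dF (g p : ℕ) (P : List ℕ → ℕ → ℕ → ℕ → Bool) (k : ℕ) : List ℕ → List ℕ → ℕ → ℕ → ℕ → Bool :=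
  Nat.rec (fun _ => P) (fun k ih cs acc a b q => fN (Nat.succ k) fun k => dJ g p k ih acc a b q cs) k

theorem dAll_of_dF {g p : ℕ} {P : List ℕ → ℕ → ℕ → ℕ → Bool} {P' : List ℕ → ℤ → ℕ → Bool}
    (hP : ∀ acc a b q, P acc a b q = true → P' acc (a - b) q = true) (k : ℕ) : ∀ (cs acc : List ℕ) (a b q : ℕ),
    dF g p P k cs acc a b q = true → dAll g p P' k cs acc (a - b) q = true := by
  induction k with
  | zero => exact fun _ => hP
  | succ k ih =>
    intro cs acc a b q h
    replace h : dJ g p (k + 1) (dF g p P k) acc a b q cs = true :=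
      (fN_eq (k + 1) fun k' => dJ g p k' (dF g p P k) acc a b q cs).symm.trans h
    rw [dAll]
    induction cs with
    | nil => rfl
    | cons c cs ih' =>
      rw [dIn, Bool.or_eq_true, Bool.and_eq_true, Nat.blt_eq, or_iff_not_imp_left, not_lt]
      intro h1
      have h2 : Nat.ble (Nat.add q (Nat.mul (k + 1) (Nat.mul c c))) g = true := Nat.ble_eq.mpr h1
      change (Bool.rec true (Bool.rec false (dJ g p (k + 1) (dF g p P k) acc a b q cs) (fN _ _)) _ : Bool) = true at h
      rw [h2, fN_eq, fN_eq, fN_eq] at h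
      by_cases h3 : c % p = 1
      · rw [show Nat.beq (Nat.mod c p) 1 = true from Nat.beq_eq.mpr h3] at h
        cases h4 : dF g p P k (c :: cs) (c :: acc) (Nat.add a c) b (Nat.add q (Nat.mul c c))
        · simp only [h4] at h
          exact absurd h (by simp)
        · simp only [h4] at h
          refine ⟨?_, ih' h⟩
          rw [sg, if_pos h3, show (a : ℤ) - b + 1 * c = (a + c : ℕ) - b by push_cast; ring]
          exact ih _ _ _ _ _ h4
      · rw [show Nat.beq (Nat.mod c p) 1 = false by rw [← Bool.not_eq_true, Nat.beq_eq]; exact h3] at h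
        cases h4 : dF g p P k (c :: cs) (c :: acc) a (Nat.add b c) (Nat.add q (Nat.mul c c))
        · simp only [h4] at h
          exact absurd h (by simp)
        · simp only [h4] at h
          refine ⟨?_, ih' h⟩
          rw [sg, if_neg h3, show (a : ℤ) - b + -1 * c = a - (b + c : ℕ) by push_cast; ring]
          exact ih _ _ _ _ _ h4

/-- A faster form of `degAll`. -/
noncomputable def degF (D : List ℕ) (g p e v lo : ℕ) (P : List ℕ → ℤ → Bool) : Bool :=
  fN (g / (p * v)) fun M => fL (D.filter fun d => g / (p * v) % d == 0 && Nat.blt lo d && (d % p == 1 || d % p == p - 1))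
    fun cs => dF g p (fun acc a b q => Bool.rec true (!(Nat.blt lo ((a : ℤ) - b).natAbs && ((a : ℤ) - b - e) % p == 0 &&
      Nat.ble (q + (p - 1) / e * (((a : ℤ) - b).natAbs * ((a : ℤ) - b).natAbs)) g && D.elem ((a : ℤ) - b).natAbs) ||
        P acc.reverse (a - b)) (Nat.beq (Nat.mod M (Nat.add (Nat.sub a b) (Nat.sub b a))) 0)) (e - 1) cs [] 1 0 1

theorem degAll_of_degF {D : List ℕ} {g p e v lo : ℕ} {P : List ℕ → ℤ → Bool} (h : degF D g p e v lo P = true) :
    degAll D g p e v lo P = true := by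
  rw [degF, fN_eq, fL_eq] at h
  refine dAll_of_dF (fun acc a b q h => ?_) _ _ _ 1 0 1 h
  rw [show Nat.add (Nat.sub a b) (Nat.sub b a) = ((a : ℤ) - b).natAbs by simp only [Nat.add_eq, Nat.sub_eq]; omega] at h
  by_cases h1 : g / (p * v) % ((a : ℤ) - b).natAbs = 0
  · rw [show Nat.beq (Nat.mod (g / (p * v)) ((a : ℤ) - b).natAbs) 0 = true from Nat.beq_eq.mpr h1] at h
    simpa [h1] using h
  · simp [h1]

/-- All lists with vanishing signed sum satisfy `P`. -/
noncomputable def dG (g p k : ℕ) (cs : List ℕ) (s : ℤ) (q : ℕ) (P : List ℕ → Bool) : Bool :=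
  fN s.toNat fun a => fN (-s).toNat fun b => fN q fun q => fN k fun k =>
    dF g p (fun acc a b _ => Bool.rec true (P acc) (Nat.beq a b)) k cs [] a b q

theorem dG_sound {g p k : ℕ} {cs : List ℕ} {s : ℤ} {q : ℕ} {P : List ℕ → Bool} (h : dG g p k cs s q P = true)
    (hcs : cs.Pairwise (· < ·)) {L : List ℕ} (hL : L.Pairwise (· ≤ ·)) (hl : L.length = k) (h1 : ∀ d ∈ L, d ∈ cs)
    (h2 : s + (L.map fun d => sg p d * d).sum = 0) (h3 : q + (L.map fun d => d * d).sum ≤ g) : P L.reverse = true := by
  simp only [dG, fN_eq] at h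
  have h4 := dAll_of_dF (P' := fun acc s _ => s != 0 || P acc) (fun acc a b _ h => by
    by_cases k : a = b
    · simpa [k] using h
    · simp [sub_eq_zero, k]) _ _ _ _ _ _ h
  rw [Int.toNat_sub_toNat_neg, ← hl] at h4
  simpa [h2] using dAll_sound _ _ _ L _ _ _ _ hcs hL h1 h3 h4

end CL.Spor.MO
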