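/-
Involutions centralised by an element of order `p`, and the check for one degree.
-/
import Cfsg.Agent.Spor.MOLink2

set_option autoImplicit false
set_option linter.unusedSectionVars false

open Cfsg Finset CL.Char

namespace CL.Spor.MO

variable {G : Type*} [Group G] [Finite G]

/-- As `yL`, for an involution that is also centralised by an element of order `r`. -/
def yL2 (A : List ℕ) (g p N r : ℕ) : List ℕ :=
  A.filter fun K => Nat.blt K g && (A.filter fun h => N % h == 0 && N / h % 2 == 1 && h % (p * r) == 0).any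
    fun h => K % h == 0 && K / h % p == 1

/-- Either `r = 1`, or an element of prime order `r` dividing `e` centralises a Sylow 2-subgroup of the centraliser. -/
def rok (e v r : ℕ) : Prop :=
  r = 1 ∨ (r.Prime ∧ r ∣ e ∧ ∃ n, ¬ 2 ^ n ∣ v ∧ ∀ k < n, ∀ j < k, 2 ^ j % r ≠ 2 ^ k % r)

/-- No value at an involution with centraliser order `K` is possible for a character of degree `d` in the block. -/
def oneK (g p e K d : ℕ) : Bool :=
  (List.range (d / (2 * p))).all fun j => !(((g / K : ℕ) * ((d : ℤ) - 4 * p * (j + 1))) % d == 0 &&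
    Nat.blt (((d : ℤ) - 4 * p * (j + 1)).natAbs * ((d : ℤ) - 4 * p * (j + 1)).natAbs) K &&
    (e != p - 1 || Nat.ble ((((d : ℤ) - 4 * p * (j + 1)).natAbs - 1) * (((d : ℤ) - 4 * p * (j + 1)).natAbs - 1))
      ((p - 2) * (K - 1 - ((d : ℤ) - 4 * p * (j + 1)).natAbs * ((d : ℤ) - 4 * p * (j + 1)).natAbs))))

def oneL (D : List ℕ) (g p e v : ℕ) (sel : ℕ → Bool) : List ℕ :=
  D.filter fun d => g / (p * v) % d == 0 && (d % p == 1 || d % p == p - 1 || d % p == e || d % p == p - e) && sel d &&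
    Nat.blt (if v % 2 = 0 then 2 * p else 1) d

/-- No character of the block has a degree selected by `sel`. -/
def one (A D : List ℕ) (g p e v r : ℕ) (sel R : ℕ → Bool) : Bool :=
  (oneL D g p e v sel).isEmpty || (v % 2 == 0 &&
    (yL2 A g p (e * (p * v)) r).all fun K => R K || (oneL D g p e v sel).all (oneK g p e K))

/-- No block with parameters `e`, `v` survives. -/
noncomputable def ychk2 (A D : List ℕ) (g p e v r : ℕ) (qs : List ℕ) (R : ℕ → Bool) : Bool :=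
  degAll D g p e v (if v % 2 = 0 then 2 * p else 1) fun c F => rq p e v c F qs || (v % 2 == 0 &&
    (yL2 A g p (e * (p * v)) r).all fun K => R K || valAll g p e v K c F fun _ => false)

/-- An element of prime order `r` dividing the index of `C` centralises a given involution of `C`. -/
theorem dvd_cc_of_normal (C : Subgroup G) [C.Normal] {y : G} (hy : y ∈ C) (h2 : orderOf y = 2) {r : ℕ} (hr : r.Prime)
    (hi : r ∣ C.index) (h : ∀ k, 2 ^ k ∣ Nat.card C → ∀ j < k, 2 ^ j % r ≠ 2 ^ k % r) : r ∣ cc y := by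
  have : Fact (Nat.Prime 2) := ⟨Nat.prime_two⟩
  obtain ⟨P, hP⟩ := (IsPGroup.of_card (n := 1) (by rw [Nat.card_zpowers, ← Subgroup.orderOf_coe, h2, pow_one]) :
    IsPGroup 2 (Subgroup.zpowers (⟨y, hy⟩ : C))).exists_le_sylow
  have h1 : C.index = C.relIndex (Subgroup.normalizer (((P : Subgroup C).map C.subtype : Subgroup G) : Set G)) := by
    rw [← Subgroup.relIndex_sup_right, P.normalizer_sup_eq_top, Subgroup.relIndex_top_right]
  obtain ⟨a, ha, har⟩ := exists_mem_orderOf_prime _ hr (hi.trans (h1 ▸ Subgroup.relIndex_dvd_card _ _))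
  obtain ⟨k, hk⟩ := (P.isPGroup'.map C.subtype).exists_card_eq
  have h3 := card_modEq_inf_centralizer hr har ha
  obtain ⟨j, hj, hj'⟩ := (Nat.dvd_prime_pow Nat.prime_two).mp (hk ▸ Subgroup.card_dvd_of_le
    (inf_le_left : (P : Subgroup C).map C.subtype ⊓ Subgroup.centralizer {a} ≤ _))
  rw [hk, hj'] at h3
  obtain rfl : j = k := le_antisymm hj (not_lt.mp fun hlt =>
    h k (hk ▸ Subgroup.card_dvd_of_le (Subgroup.map_subtype_le _)) j hlt h3.symm)
  have h4 := inf_eq_left.mp (Subgroup.eq_of_le_of_card_ge inf_le_left (hk.trans hj'.symm).le)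
    ⟨_, hP (Subgroup.mem_zpowers _), rfl⟩
  exact har ▸ orderOf_dvd_card_of_mem (Subgroup.mem_centralizer_singleton_iff.mpr
    (Subgroup.mem_centralizer_singleton_iff.mp h4).symm)

namespace PBk

variable {g p : ℕ} (b : PBk G g p)

theorem card_S : b.S.card = b.e - 1 + (p - 1) / b.e := by
  classical
  have := congrArg Multiset.card (b.map_S (fun _ => ()) fun _ _ => rfl)
  rw [Multiset.card_map, Multiset.card_add, Multiset.card_map, Multiset.card_replicate, ← card_def, ← card_def, X0,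
    card_erase_of_mem b.B.one_mem, b.B.card_X] at this
  exact this

theorem lo_lt [IsSimpleGroup G] {χ : IrrCharacter G} (h : χ ∈ b.S) : (if b.v % 2 = 0 then 2 * p else 1) < dg χ := by
  split_ifs with hv
  · have := b.B.two_mul_lt b.nc b.pp b.p2 b.hx (b.hv ▸ (Nat.dvd_of_mod_eq_zero hv).mul_left p)
    rcases b.mem_S_iff.mp h with h | h
    · exact this.2 χ (b.mem_X0.mp h).2 (b.mem_X0.mp h).1
    · exact b.B.deg_Y χ h ▸ this.1
  · exact lt_of_le_of_ne (degree_pos χ) fun e => b.one_notMem (eq_irrOne_of_degree_one b.perf e.symm ▸ h)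

theorem deg_dvd {χ : IrrCharacter G} (h : χ ∈ b.S) : dg χ ∣ g / (p * b.v) := by
  rcases b.mem_S_iff.mp h with h | h
  · exact b.index_eq ▸ b.B.X_dvd b.hx (b.mem_X0.mp h).2
  · exact b.B.deg_Y χ h ▸ b.index_eq ▸ b.B.f_dvd b.pp b.hx

theorem dvd_sub_val {χ : IrrCharacter G} (h : χ ∈ b.S) {y : G} (hy : orderOf y = 2) (hp : p ∣ cc y)
    {T : IrrCharacter G → ℤ} (hT : ∀ χ : IrrCharacter G, (χ : G → ℂ) y = T χ) : (p : ℤ) ∣ dg χ - T χ := by
  obtain ⟨z, hz, hz'⟩ := exists_mem_orderOf_prime _ b.pp hp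
  have hzc := (Subgroup.mem_centralizer_singleton_iff.mp hz).symm
  have hX : ∀ χ ∈ b.B.X, (p : ℤ) ∣ dg χ - T χ := fun χ hχ => by
    simpa using Int.dvd_sub (b.B.deg_X χ hχ) (modEq_of_commute b.pp hz' hzc χ.2.isCharacter (hT χ)
      (b.B.X_sing χ hχ _ (by
        rw [orderOf_mul_of_commute_prime hzc hy hz' ((Nat.coprime_primes Nat.prime_two b.pp).mpr b.p2.symm)]
        exact dvd_mul_left _ _)))
  rcases b.mem_S_iff.mp h with h | h
  · exact hX χ (b.mem_X0.mp h).2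
  · have h1 := b.B.rel χ h y (hy ▸ fun h => b.p2 ((Nat.prime_dvd_prime_iff_eq b.pp Nat.prime_two).mp h))
    simp only [hT] at h1
    have h2 : b.B.ε * T χ = ∑ χ ∈ b.B.X, b.B.s χ * T χ := by exact_mod_cast h1
    have h3 : (p : ℤ) ∣ b.B.ε * (dg χ - T χ) := by
      rw [mul_sub, b.B.deg_Y χ h, b.B.deg_rel b.pp, h2, ← sum_sub_distrib]
      exact dvd_sum fun ψ hψ => by rw [← mul_sub]; exact (hX ψ hψ).mul_left _
    rcases b.B.hε with e | e <;> rw [e] at h3
    · rwa [one_mul] at h3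
    · rwa [neg_one_mul, dvd_neg] at h3

theorem exists_odd_deg : ∃ χ ∈ b.S, dg χ % 2 = 1 := by
  by_contra h
  have h1 : ∀ χ ∈ b.S, (2 : ℤ) ∣ dg χ := fun χ hχ => by
    have : ¬ dg χ % 2 = 1 := fun e => h ⟨χ, hχ, e⟩
    omega
  obtain ⟨μ, hμ⟩ := b.B.Y_nonempty b.pp
  have h2 := b.B.deg_rel b.pp
  rw [b.sum_X, b.B.s_one, charDegree_irrOne, ← b.B.deg_Y μ hμ] at h2
  have h3 := (h1 μ (b.mem_S_iff.mpr (Or.inr hμ))).mul_left b.B.ε
  have h4 : (2 : ℤ) ∣ ∑ χ ∈ b.X0, b.B.s χ * dg χ :=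
    dvd_sum fun χ hχ => (h1 χ (b.mem_S_iff.mpr (Or.inl hχ))).mul_left _
  omega

theorem exists_sel (b : PBk G g 11) (he : b.e = 10) :
    ∃ χ ∈ b.S, (sg 11 (dg χ) * dg χ) % 23 ≠ 0 ∧ (sg 11 (dg χ) * dg χ) % 23 ≠ 1 := by
  by_contra h
  have h1 := b.lin_top he (u := 1) (by simp)
  simp only [← IsIrrCharacter.cast_charDegree (Subtype.prop _)] at h1
  have h2 : 1 + ∑ χ ∈ b.S, sg 11 (dg χ) * dg χ = 0 := by exact_mod_cast h1
  have h3 := sum_int_mod b.S 23 fun χ => sg 11 (dg χ) * dg χ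
  have h4 := sum_le_card_nsmul b.S (fun χ => (sg 11 (dg χ) * dg χ) % 23) 1 fun χ hχ => by
    have : ¬ ((sg 11 (dg χ) * dg χ) % 23 ≠ 0 ∧ (sg 11 (dg χ) * dg χ) % 23 ≠ 1) := fun e => h ⟨χ, hχ, e⟩
    omega
  have h5 : 0 ≤ ∑ χ ∈ b.S, (sg 11 (dg χ) * dg χ) % 23 := sum_nonneg fun _ _ => Int.emod_nonneg _ (by norm_num)
  rw [b.card_S, he] at h4
  norm_num at h4
  omega

variable [IsSimpleGroup G]

theorem exists_y2 {A : List ℕ} (hA : ∀ d, d ∣ g → d ∈ A) (hv : b.v % 2 = 0) {r : ℕ} (hr : rok b.e b.v r) :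
    ∃ y : G, orderOf y = 2 ∧ cc y ∈ yL2 A g p (b.e * (p * b.v)) r := by
  set N := Subgroup.normalizer ((Subgroup.zpowers b.x : Subgroup G) : Set G) with hN
  have hle : Subgroup.centralizer ({b.x} : Set G) ≤ N := by
    rw [← centralizer_zpowers_eq]
    exact Subgroup.centralizer_le_normalizer _
  have : ((Subgroup.centralizer ({b.x} : Set G)).subgroupOf N).Normal := by
    rw [← centralizer_zpowers_eq]
    exact Subgroup.normal_subgroupOf_centralizer_normalizer _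
  have hc : Nat.card ((Subgroup.centralizer ({b.x} : Set G)).subgroupOf N) = p * b.v :=
    (Nat.card_congr (Subgroup.subgroupOfEquivOfLe hle).toEquiv).trans b.hv
  obtain ⟨y, h1, h2, h3⟩ := exists_invol_normal ((Subgroup.centralizer ({b.x} : Set G)).subgroupOf N)
    (hc ▸ (Nat.dvd_of_mod_eq_zero hv).mul_left p)
  have h4 : b.x ∈ Subgroup.centralizer ({(y : G)} : Set G) := Subgroup.mem_centralizer_singleton_iff.mpr
    (Subgroup.mem_centralizer_singleton_iff.mp (Subgroup.mem_subgroupOf.mp h1)).symm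
  obtain ⟨k, k1, k2⟩ := exists_card_eq_mul_normalizer b.pp b.hx b.sq h4
  have h5 : Nat.card (N ⊓ Subgroup.centralizer ({(y : G)} : Set G) : Subgroup G) =
      Nat.card (Subgroup.centralizer ({y} : Set N)) := by
    rw [← Nat.card_congr (Subgroup.subgroupOfEquivOfLe inf_le_left).toEquiv]
    congr 2
    ext z
    simp [Subgroup.mem_subgroupOf, Subgroup.mem_centralizer_singleton_iff, Subtype.ext_iff]
  have h6 := (Subgroup.centralizer ({y} : Set N)).index_mul_card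
  have h7 : p ∣ Nat.card (N ⊓ Subgroup.centralizer ({(y : G)} : Set G) : Subgroup G) :=
    b.hx ▸ orderOf_dvd_card_of_mem ⟨Subgroup.le_normalizer (Subgroup.mem_zpowers _), h4⟩
  have h9 : p * r ∣ Nat.card (N ⊓ Subgroup.centralizer ({(y : G)} : Set G) : Subgroup G) := by
    rcases hr with rfl | ⟨r1, r2, n, r3, r4⟩
    · rwa [mul_one]
    have h10 := ((Subgroup.centralizer ({b.x} : Set G)).subgroupOf N).index_mul_card
    rw [hc, b.B.card_N, b.hv] at h10
    have h11 := Nat.le_of_dvd b.e_bd.1 r2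
    refine ((Nat.coprime_primes b.pp r1).mpr (h11.trans_lt b.e_bd.2).ne').mul_dvd_of_dvd_of_dvd h7
      (h5 ▸ dvd_cc_of_normal _ h1 h2 r1 ?_ fun k hk => r4 k (not_le.mp fun hn => r3 ?_))
    · rwa [Nat.eq_of_mul_eq_mul_right (Nat.mul_pos b.pp.pos (Nat.pos_of_ne_zero b.v_ne_zero)) h10]
    · exact (((Nat.coprime_primes Nat.prime_two b.pp).mpr b.p2.symm).pow_left n).dvd_of_dvd_mul_left
        ((pow_dvd_pow 2 hn).trans (hc ▸ hk))
  have h8 := b.cc_lt (y := y) (by rintro h; rw [← Subgroup.orderOf_coe, h] at h2; simp at h2)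
  rw [b.B.card_N, ← h5] at h6
  refine ⟨y, by rw [Subgroup.orderOf_coe, h2], ?_⟩
  simp only [yL2, List.mem_filter, Bool.and_eq_true, Nat.blt_eq, List.any_eq_true, beq_iff_eq]
  refine ⟨hA _ h8.2, h8.1, _, ⟨hA _ (b.card ▸ Subgroup.card_subgroup_dvd_card (N ⊓ _)), ⟨?_, ?_⟩,
    Nat.mod_eq_zero_of_dvd h9⟩, ?_, ?_⟩
  · rw [← b.hv, ← h6, Nat.mul_mod_left]
  · rw [← b.hv, ← h6, Nat.mul_div_cancel _ Nat.card_pos, Nat.odd_iff.mp h3]
  · rw [k2, Nat.mul_mod_left]
  · rw [k2, Nat.mul_div_cancel _ Nat.card_pos, k1]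

theorem oneK_false {χ : IrrCharacter G} (h : χ ∈ b.S) {y : G} (hy : orderOf y = 2) (hp : p ∣ cc y) :
    oneK g p b.e (cc y) (dg χ) = false := by
  classical
  obtain ⟨T, hT, h4⟩ := exists_invol_values b.perf hy
  have h1 : χ ≠ irrOne G := fun e => b.one_notMem (e ▸ h)
  have h2 := int_abs_lt_degree b.nc h1 (by rintro rfl; simp at hy) (hT χ)
  obtain ⟨k, hk⟩ : ((4 * p : ℕ) : ℤ) ∣ dg χ - T χ := by
    push_cast
    refine IsCoprime.mul_dvd ?_ (h4 χ) (b.dvd_sub_val h hy hp hT)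
    exact_mod_cast Nat.isCoprime_iff_coprime.mpr (((Nat.coprime_primes Nat.prime_two b.pp).mpr b.p2.symm).pow_left 2)
  have hp0 := b.pp.pos
  push_cast at hk
  obtain ⟨j, rfl⟩ : ∃ j : ℕ, k = j + 1 := ⟨(k - 1).toNat, by
    have : 0 < k := (mul_pos_iff_of_pos_left (by positivity : (0 : ℤ) < 4 * p)).mp (by rw [← hk]; omega)
    omega⟩
  have ha : (dg χ : ℤ) - 4 * p * (j + 1) = T χ := by omega
  have hT1 : T (irrOne G) = 1 := by exact_mod_cast (hT _).symm.trans (irrOne_apply y)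
  have h5 := sum_sq_le_card_centralizer hT (insert (irrOne G) b.S)
  rw [sum_insert b.one_notMem, hT1, ← add_sum_erase _ _ h] at h5
  have h6 : 0 ≤ ∑ ψ ∈ b.S.erase χ, T ψ ^ 2 := sum_nonneg fun _ _ => sq_nonneg _
  have h7 : (((T χ).natAbs * (T χ).natAbs : ℕ) : ℤ) = T χ ^ 2 := by rw [Int.natAbs_mul_self, pow_two]
  have hidx : (Subgroup.centralizer ({y} : Set G)).index = g / cc y := by
    have := (Subgroup.centralizer ({y} : Set G)).index_mul_card
    rw [b.card] at this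
    exact (Nat.div_eq_of_eq_mul_left Nat.card_pos this.symm).symm
  rw [← Bool.not_eq_true, oneK, List.all_eq_true]
  intro hh
  have h8 := hh j (List.mem_range.mpr ((Nat.le_div_iff_mul_le (by omega)).mpr (by zify; linarith)))
  rw [ha, Bool.not_eq_true', ← Bool.not_eq_true] at h8
  refine h8 ?_
  simp only [Bool.and_eq_true, beq_iff_eq, Nat.blt_eq, Bool.or_eq_true, bne_iff_ne, Nat.ble_eq]
  refine ⟨⟨Int.emod_eq_zero_of_dvd (hidx ▸ degree_dvd_index_mul χ (hT χ)), by omega⟩, or_iff_not_imp_left.mpr fun he => ?_⟩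
  rw [not_not] at he
  have h9 := b.lin_top he (u := y) (hy ▸ fun h => b.p2 ((Nat.prime_dvd_prime_iff_eq b.pp Nat.prime_two).mp h))
  simp only [hT] at h9
  have h10 : 1 + ∑ ψ ∈ b.S, sg p (dg ψ) * T ψ = 0 := by exact_mod_cast h9
  have h11 := sq_sum_le_card_mul_sum_sq (s := b.S.erase χ) (f := fun ψ => sg p (dg ψ) * T ψ)
  have h12 : ∀ d, sg p d = 1 ∨ sg p d = -1 := fun d => by unfold sg; split_ifs <;> simp
  have h13 := b.two_lt
  rw [← add_sum_erase _ _ h] at h10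
  rw [card_erase_of_mem h, b.card_S, he, Nat.div_self (by omega), show p - 1 - 1 + 1 - 1 = p - 2 by omega,
    sum_congr rfl (f := fun ψ => (sg p (dg ψ) * T ψ) ^ 2) (g := fun ψ => T ψ ^ 2) fun ψ _ => by
      rcases h12 (dg ψ) with e | e <;> simp [e]] at h11
  generalize ∑ ψ ∈ b.S.erase χ, sg p (dg ψ) * T ψ = s at h10 h11
  have h14 : (T χ).natAbs - 1 ≤ s.natAbs := by rcases h12 (dg χ) with e | e <;> rw [e] at h10 <;> omega
  refine (Nat.mul_le_mul h14 h14).trans (Int.ofNat_le.mp ?_)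
  rw [Int.natAbs_mul_self, ← pow_two, Nat.cast_mul]
  have h15 : ∑ ψ ∈ b.S.erase χ, T ψ ^ 2 ≤ ((cc y - 1 - (T χ).natAbs * (T χ).natAbs : ℕ) : ℤ) := by
    generalize (T χ).natAbs * (T χ).natAbs = n at h7
    generalize T χ ^ 2 = m at h5 h7
    have h16 : 1 + (m + ∑ ψ ∈ b.S.erase χ, T ψ ^ 2) ≤ cc y := h5
    omega
  exact h11.trans (mul_le_mul_of_nonneg_left h15 (by positivity))

theorem deg_true' {D : List ℕ} {P : List ℕ → ℤ → Bool} {e v : ℕ} (he : b.e = e) (hv : b.v = v)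
    (h : degAll D g p e v (if v % 2 = 0 then 2 * p else 1) P = true) (hD : D.Pairwise (· < ·))
    (hD' : ∀ χ ∈ b.S, dg χ ∈ D) : P b.c b.F = true := by
  classical
  subst he hv
  have hs : ∀ {M : Type} [AddCommMonoid M] (f : ℕ → M), (b.c.map f).sum = ∑ χ ∈ b.X0, f (dg χ) :=
    fun f => (b.sum_c f).symm
  refine degAll_sound h hD (Multiset.pairwise_sort _ _) ?_ (fun d hd => ?_) ?_ ?_ ?_
  · rw [c, Multiset.length_sort, Multiset.card_map, ← card_def, X0, card_erase_of_mem b.B.one_mem, b.B.card_X]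
  · rw [c, Multiset.mem_sort, Multiset.mem_map] at hd
    obtain ⟨χ, hχ, rfl⟩ := hd
    have h1 := b.mem_S_iff.mpr (Or.inl hχ)
    exact ⟨hD' χ h1, b.deg_dvd h1, b.lo_lt h1, (b.s_eq (b.mem_X0.mp hχ).2).2⟩
  · rw [hs, F, b.B.deg_rel b.pp, b.sum_X, b.B.s_one, charDegree_irrOne,
      sum_congr rfl fun χ hχ => by rw [(b.s_eq (b.mem_X0.mp hχ).2).1]]
    simp
  · obtain ⟨μ, hμ⟩ := b.B.Y_nonempty b.pp
    have h1 := b.mem_S_iff.mpr (Or.inr hμ)
    rw [natAbs_F]
    refine ⟨b.B.deg_Y μ hμ ▸ hD' μ h1, b.B.deg_Y μ hμ ▸ b.deg_dvd h1, b.B.deg_Y μ hμ ▸ b.lo_lt h1, ?_⟩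
    have := b.B.deg_f
    rcases b.B.hε with h | h <;> rw [h] at this <;> rw [F, h]
    · simpa using this
    · rw [← dvd_neg, show -(-1 * (b.B.f : ℤ) - b.e) = b.B.f - -1 * b.B.e by ring]
      exact this
  · have := b.B.sum_sq_le
    rw [b.sum_X, charDegree_irrOne, b.card_Y, b.card] at this
    simpa [hs, natAbs_F, pow_two] using this

theorem one_false {A D : List ℕ} (hA : ∀ d, d ∣ g → d ∈ A) (hD' : ∀ χ : IrrCharacter G, χ ≠ irrOne G → dg χ ∈ D)
    {r : ℕ} (hr : rok b.e b.v r) {sel R : ℕ → Bool} (hs : ∃ χ ∈ b.S, sel (dg χ) = true)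
    (hR : ∀ y : G, orderOf y = 2 → R (cc y) = false) : ¬ one A D g p b.e b.v r sel R = true := fun h => by
  obtain ⟨χ, h1, h2⟩ := hs
  have h3 : dg χ ∈ oneL D g p b.e b.v sel := by
    simp only [oneL, List.mem_filter, Bool.and_eq_true, Bool.or_eq_true, beq_iff_eq, Nat.blt_eq]
    have := b.mod_of_mem h1
    exact ⟨hD' χ fun e => b.one_notMem (e ▸ h1), ⟨⟨Nat.mod_eq_zero_of_dvd (b.deg_dvd h1), by tauto⟩, h2⟩, b.lo_lt h1⟩
  rw [one, Bool.or_eq_true, List.isEmpty_iff, Bool.and_eq_true, beq_iff_eq] at h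
  rcases h with h | h
  · simp [h] at h3
  obtain ⟨y, hy, h4⟩ := b.exists_y2 hA h.1 hr
  have h5 := List.all_eq_true.mp h.2 _ h4
  rw [hR y hy, Bool.false_or] at h5
  simp only [yL2, List.mem_filter, Bool.and_eq_true, List.any_eq_true, beq_iff_eq] at h4
  obtain ⟨-, -, k, ⟨-, -, k1⟩, k2, -⟩ := h4
  have h6 := List.all_eq_true.mp h5 _ h3
  rw [b.oneK_false h1 hy ((dvd_mul_right p r).trans ((Nat.dvd_of_mod_eq_zero k1).trans (Nat.dvd_of_mod_eq_zero k2)))]
    at h6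
  simp at h6

theorem ychk2_false {A D qs : List ℕ} (hA : ∀ d, d ∣ g → d ∈ A) (hD : D.Pairwise (· < ·))
    (hD' : ∀ χ : IrrCharacter G, χ ≠ irrOne G → dg χ ∈ D) (hq : ∀ q ∈ qs, q.Prime ∧ q ≠ p) {r : ℕ}
    (hr : rok b.e b.v r) {R : ℕ → Bool} (hR : ∀ y : G, orderOf y = 2 → R (cc y) = false) :
    ¬ ychk2 A D g p b.e b.v r qs R = true := fun h => by
  have h1 := b.deg_true rfl rfl h hD hD'
  rw [b.rq_false hq, Bool.false_or, Bool.and_eq_true, beq_iff_eq] at h1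
  obtain ⟨y, hy, h2⟩ := b.exists_y2 hA h1.1 hr
  obtain ⟨T, hT, -⟩ := exists_invol_values b.perf hy
  have h3 := List.all_eq_true.mp h1.2 _ h2
  rw [hR y hy, Bool.false_or] at h3
  obtain ⟨-, -, k⟩ := b.val_true hy hT h3
  simp at k

end PBk

end CL.Spor.MO
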