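/-
Simple groups of order 244823040: centralisers of elements of order 23 and 11.
-/
import Cfsg.Agent.Spor.MO24A
import Cfsg.Agent.Spor.MOY2
import Cfsg.Agent.Spor.MOEnum3

set_option autoImplicit false
set_option maxRecDepth 100000

namespace CL.Spor.MO

theorem c24_1 : ∀ q ∈ caseL A24 244823040 23, q = (11, 1) ∨
    ychkR A24 D24 244823040 23 q.1 q.2 [] (fun _ => false) = true ∨ (q.1 % 11 = 0 ∧ q.2 % 1024 ≠ 0 ∧
      one A24 D24 244823040 23 q.1 q.2 11 (· % 2 == 1) (fun _ => false) = true) := by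
  have : ∀ q ∈ caseL A24 244823040 23, q = (11, 1) ∨ (q.1 = 2 ∧
      ychkR A24 D24 244823040 23 q.1 q.2 [] (fun _ => false) = true) ∨ (q.1 % 11 = 0 ∧ q.2 % 1024 ≠ 0 ∧
      one A24 D24 244823040 23 q.1 q.2 11 (· % 2 == 1) (fun _ => false) = true) := by
    decide +kernel
  exact fun q hq => (this q hq).imp_right (Or.imp_left And.right)

theorem c24_3a : ∀ d ∈ E24, d ∈ U24 ∨ ∀ K ∈ K24, ∀ e ∈ [2, 3, 6], oneK 244823040 7 e K d = true := by
  decide +kernel

/-- The prime acting trivially on a Sylow 2-subgroup of the centraliser. -/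
def r11 (e v : ℕ) : ℕ := if e % 5 = 0 ∧ v % 16 ≠ 0 then 5 else 1

theorem c24_11 : ∀ q ∈ caseL A24 244823040 11, q.2 % 23 = 0 ∨ q.2 % 7 = 0 ∨ q = (10, 1) ∨
    (q.1 = 10 ∧ one A24 E24 244823040 11 q.1 q.2 (r11 q.1 q.2)
      (fun d => (sg 11 d * d) % 23 != 0 && (sg 11 d * d) % 23 != 1) (fun K => K % 23 == 0 || K24.elem K) = true) ∨
    ychk2 A24 E24 244823040 11 q.1 q.2 (r11 q.1 q.2) [3, 5] (fun K => K % 23 == 0 || K24.elem K) = true := by
  have : ∀ q ∈ caseL A24 244823040 11, q.2 % 23 = 0 ∨ q.2 % 7 = 0 ∨ q = (10, 1) ∨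
      (q.1 = 10 ∧ one A24 E24 244823040 11 q.1 q.2 (r11 q.1 q.2)
        (fun d => (sg 11 d * d) % 23 != 0 && (sg 11 d * d) % 23 != 1) (fun K => K % 23 == 0 || K24.elem K) = true) ∨
      degF E24 244823040 11 q.1 q.2 (if q.2 % 2 = 0 then 2 * 11 else 1) (fun c F => rq 11 q.1 q.2 c F [3, 5] ||
        (q.2 % 2 == 0 && (yL2 A24 244823040 11 (q.1 * (11 * q.2)) (r11 q.1 q.2)).all fun K =>
          (K % 23 == 0 || K24.elem K) || valAll 244823040 11 q.1 q.2 K c F fun _ => false)) = true := by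
    decide +kernel
  exact fun q hq => (this q hq).imp_right (Or.imp_right (Or.imp_right (Or.imp_right degAll_of_degF)))

end CL.Spor.MO
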