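/-
An involution inverting an element of order 11 (helper18 for helper82).
-/
import Cfsg.Agent.Spor.MO23C
import Cfsg.Agent.Cls.SL2Dihedral

set_option autoImplicit false

open Cfsg Finset CL.Char
open scoped Classical

namespace CL.Spor.MO

variable {G : Type*} [Group G] [Finite G]

theorem dih_sum (f : DihedralGroup 11 → ℂ) : ∑ x, f x = ∑ i, f (.r i) + ∑ i, f (.sr i) := by
  rw [← DihedralGroup.equivSum.symm.sum_comp, Fintype.sum_sum_type]
  rfl

/-- the sign character -/
def dihSgn : DihedralGroup 11 →* ℂˣ :=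
  MonoidHom.mk' (fun x => match x with | .r _ => 1 | .sr _ => -1) fun a b => by
    rcases a with a | a <;> rcases b with b | b <;> simp

theorem dih_bound {θ : DihedralGroup 11 → ℂ} (h : IsCharacter (DihedralGroup 11) θ) {d ε T : ℤ} (h1 : θ (.r 0) = d)
    (hε : ∀ i, i ≠ 0 → θ (.r i) = ε) (hT : θ (.sr 0) = T) : 11 * T.natAbs ≤ d + 10 * ε := by
  have c : ∀ i : ZMod 11, ∃ j : ZMod 11, DihedralGroup.r j * .sr 0 * (DihedralGroup.r j)⁻¹ = .sr i := by decide
  have e1 : ∑ i, θ (.sr i) = 11 * T := by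
    rw [sum_congr rfl (g := fun _ => (T : ℂ)) fun i _ => by
      obtain ⟨j, hj⟩ := c i
      rw [← hj, h.isClassFunction, hT]]
    simp
  have e2 : ∑ i, θ (.r i) = d + 10 * ε := by
    rw [← add_sum_erase _ _ (mem_univ 0), h1, sum_congr rfl fun i hi => hε i (ne_of_mem_erase hi)]
    simp
  obtain ⟨m, hm⟩ := h.exists_nat_classInner isCharacter_one
  obtain ⟨n, hn⟩ := h.exists_nat_classInner (isCharacter_unitsHom dihSgn)
  rw [classInner_def, DihedralGroup.nat_card, dih_sum] at hm hn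
  simp only [dihSgn, MonoidHom.mk'_apply, Units.val_one, Units.val_neg, map_one, map_neg, mul_one, mul_neg,
    sum_neg_distrib, e1, e2] at hm hn
  have a1 : d + 10 * ε + 11 * T = 22 * m := by
    have : ((d + 10 * ε + 11 * T : ℤ) : ℂ) = ((22 * m : ℤ) : ℂ) := by push_cast at hm ⊢; linear_combination 22 * hm
    exact_mod_cast this
  have a2 : d + 10 * ε - 11 * T = 22 * n := by
    have : ((d + 10 * ε - 11 * T : ℤ) : ℂ) = ((22 * n : ℤ) : ℂ) := by push_cast at hn ⊢; linear_combination 22 * hn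
    exact_mod_cast this
  omega

theorem exists_t [IsSimpleGroup G] (b : PBk G 244823040 11) (bv : b.v = 1) (be : b.e = 10) :
    ∃ (t : G) (T : IrrCharacter G → ℤ), orderOf t = 2 ∧ (∀ χ : IrrCharacter G, (χ : G → ℂ) t = T χ) ∧
      t * b.x * t⁻¹ = b.x⁻¹ ∧ 5 ∣ cc t ∧
      ∀ χ : IrrCharacter G, (T χ).natAbs ≤ (dg χ + 10 * (dg χ % 11)) / 11 - dg χ % 11 / 10 * 10 := by
  have hC : cc b.x = 11 := by rw [b.hv, bv]
  have hN := b.B.card_N
  rw [hC, show b.B.e = 10 from be] at hN
  set N := Subgroup.normalizer ((Subgroup.zpowers b.x : Subgroup G) : Set G) with hN'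
  have x11 : b.x ^ 11 = 1 := orderOf_dvd_iff_pow_eq_one.1 b.hx.dvd
  have inv : ∀ s ∈ N, orderOf s = 2 → s * b.x * s⁻¹ = b.x⁻¹ := fun s hs h2 => by
    obtain ⟨i, hi⟩ := CL.SL2.exists_pow_val b.hx ((Subgroup.mem_normalizer_iff.1 hs b.x).1 (Subgroup.mem_zpowers _))
    have ss : s * s = 1 := by rw [← pow_two, ← h2, pow_orderOf_eq_one]
    have e : b.x ^ (i * i).val = b.x ^ (1 : ZMod 11).val := by
      rw [ZMod.val_mul, ← pow_eq_pow_mod _ x11, pow_mul, ← hi, conj_pow, ← hi,
        show s * (s * b.x * s⁻¹) * s⁻¹ = s * s * b.x * (s * s)⁻¹ by group, ss]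
      simp [show (1 : ZMod 11).val = 1 from rfl]
    have k : ∀ i : ZMod 11, i * i = 1 → i = 1 ∨ i = -1 := by decide
    rcases k i (CL.SL2.pow_val_inj b.hx e) with rfl | rfl
    · have : orderOf s ∣ cc b.x := orderOf_dvd_card_of_mem (Subgroup.mem_centralizer_singleton_iff.2 (by
        rw [show (1 : ZMod 11).val = 1 from rfl, pow_one] at hi
        exact mul_inv_eq_iff_eq_mul.1 hi))
      rw [h2, hC] at this
      omega
    · rw [hi, CL.SL2.pow_val_neg x11, show (1 : ZMod 11).val = 1 from rfl, pow_one]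
  obtain ⟨t, tN, ht⟩ := exists_mem_orderOf_prime N Nat.prime_two (by rw [hN]; norm_num)
  obtain ⟨T, hT, -⟩ := exists_invol_values b.perf ht
  have tt : t * t = 1 := by rw [← pow_two, ← ht, pow_orderOf_eq_one]
  refine ⟨t, T, ht, hT, inv t tN ht, ?_, fun χ => ?_⟩
  · have h1 := CL.Char.card_isConj_eq_index (⟨t, tN⟩ : N)
    have h2 : Nat.card {s : N // IsConj (⟨t, tN⟩ : N) s} ≤ cc b.x := Nat.card_le_card_of_injective
      (fun s => ⟨t * s.1, Subgroup.mem_centralizer_singleton_iff.2 (by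
        obtain ⟨c, hc⟩ := isConj_iff.1 s.2
        have h3 : orderOf (s.1 : G) = 2 := by
          rw [Subgroup.orderOf_coe, ← hc, ← MulAut.conj_apply, MulEquiv.orderOf_eq, Subgroup.orderOf_mk, ht]
        have h4 := inv _ s.1.2 h3
        have h5 := inv t tN ht
        rw [← mul_inv_eq_iff_eq_mul, show t * s.1 * b.x * (t * s.1)⁻¹ = t * (s.1 * b.x * (s.1 : G)⁻¹) * t⁻¹ by group,
          h4, ← conj_inv, h5, inv_inv])⟩)
      fun s s' e => Subtype.ext (Subtype.ext (mul_left_cancel (congrArg Subtype.val e)))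
    have h3 := (Subgroup.centralizer ({⟨t, tN⟩} : Set N)).index_mul_card
    have h4 : Nat.card (Subgroup.centralizer ({⟨t, tN⟩} : Set N)) ∣ cc t := by
      rw [← Subgroup.card_map_of_injective N.subtype_injective]
      refine Subgroup.card_dvd_of_le ?_
      rintro _ ⟨y, hy, rfl⟩
      exact Subgroup.mem_centralizer_singleton_iff.2
        (congrArg Subtype.val (Subgroup.mem_centralizer_singleton_iff.1 hy))
    have h5 := b.cc_mod (by omega) ht
    rw [h1, hC] at h2
    rw [hN] at h3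
    generalize (Subgroup.centralizer ({⟨t, tN⟩} : Set N)).index = i at h2 h3
    generalize Nat.card (Subgroup.centralizer ({⟨t, tN⟩} : Set N)) = k at h3 h4
    obtain ⟨l, hl⟩ := h4
    have : k = 10 ∨ 11 ∣ k := by interval_cases i <;> omega
    rcases this with rfl | ⟨k, rfl⟩
    · omega
    · rw [mul_assoc] at hl; omega
  · have key : ∀ ε : ℤ, (∀ u, 11 ∣ orderOf u → (χ : G → ℂ) u = ε) → 11 * (T χ).natAbs ≤ (dg χ : ℤ) + 10 * ε :=
      fun ε hε => dih_bound (χ.2.isCharacter.comp (CL.SL2.dihedralHom b.x t x11 tt (inv t tN ht)))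
        (by simp [χ.2.cast_charDegree]) (fun i hi => hε _ (by
          rw [CL.SL2.dihedralHom_r, Nat.Coprime.orderOf_pow (by rw [b.hx]; revert i; decide), b.hx])) (by simp [CL.SL2.dihedralHom_sr, hT])
    by_cases h1 : χ = irrOne G
    · have := key 1 fun u _ => by rw [h1, irrOne_apply, Int.cast_one]
      rw [h1, charDegree_irrOne] at this ⊢
      omega
    by_cases h2 : 11 ∣ dg χ
    · have := key 0 fun u hu => by rw [b.val_zero h2 hu, Int.cast_zero]
      omega
    · have := key _ fun u hu => b.val_top be (b.mem_S bv h1 h2) hu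
      have h3 := b.deg_mod bv h1
      rw [be] at h3
      unfold sg at this
      split_ifs at this <;> omega

end CL.Spor.MO
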