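/-
Blocks of defect one for the prime 3 in a group of order 244823040: triples of characters.
-/
import Cfsg.Agent.Spor.MO23C
import Cfsg.Agent.Spor.MOLink2
import Cfsg.Agent.Blk.CycEx
import Cfsg.Agent.S4499

set_option autoImplicit false

open Cfsg Finset CL.Char
open scoped Classical

namespace CL.Spor.MO

variable {G : Type*} [Group G] [Finite G]

/-- The degrees divisible by 9 but not by 27. -/
def N9 : List ℕ := [45, 252, 495, 990, 1035, 2277, 2772, 3312, 4554, 5544, 5796, 6336, 9108, 11385, 12672]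

def n9 (d : ℕ) : Bool := d % 9 == 0 && d % 27 != 0

def v2 (p e d : ℕ) : ℤ :=
  if d % p = 0 then 0 else if d % p = 1 then ((p - 1) / e : ℕ) else if d % p = p - 1 then -((p - 1) / e : ℕ)
  else if d % p = e then -1 else 1

def sum3 (a b c : ℕ) : Bool :=
  a + b == c && v2 23 11 a + v2 23 11 b == v2 23 11 c && v2 11 10 a + v2 11 10 b == v2 11 10 c

def okD (a b c : ℕ) : Bool := sum3 a b c || sum3 a c b || sum3 b c a || (a == b && b == c)

def stp (E : List ℕ) (k : List ℕ → ℕ → Bool) (bad : ℕ → Bool) (x : ℕ) (R : List ℕ) (B : ℕ) : Bool :=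
  (E.any fun y => E.any fun z => okD x y z && !bad y && !bad z && Nat.ble (y * y + z * z) B &&
    k R (B - (y * y + z * z))) ||
  R.any fun y => !bad y && ((E.any fun z => okD x y z && !bad z && Nat.ble (z * z) B && k (R.erase y) (B - z * z)) ||
    (R.erase y).any fun z => okD x y z && !bad z && k ((R.erase y).erase z) B)

def part (E : List ℕ) : ℕ → List ℕ → ℕ → Bool
  | _, [], _ => true
  | 0, _ :: _, _ => false
  | n + 1, x :: R, B => stp E (part E n) (fun _ => false) x R B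

def chk3 (q : ℕ) (V X : List ℕ) : Bool :=
  stp (N9.filter (· % q == 0)) (part (N9.filter (· % q == 0)) V.length) (· % 5 == 0) 5544 ((V.filter n9).erase 5544)
    (244823040 - (1 + ((V ++ X).map fun d => d * d).sum))

/-- The data available after the principal blocks for 23, 11 and 5 are known. -/
structure M24A (G : Type*) [Group G] where
  a : PBk G 244823040 23
  b : PBk G 244823040 11
  c : PBk G 244823040 5
  av : a.v = 1
  ae : a.e = 11
  bv : b.v = 1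
  be : b.e = 10
  ce : c.e = 4
  n9 : ∀ ψ : IrrCharacter G, 9 ∣ dg ψ → ¬ 27 ∣ dg ψ → dg ψ ∈ N9
  c9 : ∀ ψ ∈ c.S, 9 ∣ dg ψ → dg ψ = 5544 ∨ dg ψ = 5796

theorem n9_iff {d : ℕ} : n9 d = true ↔ 9 ∣ d ∧ ¬ 27 ∣ d := by
  simp [n9, Nat.dvd_iff_mod_eq_zero]

/-- `a + b = c` on the 3-regular elements. -/
def TrS (a b c : IrrCharacter G) : Prop :=
  ∀ u, ¬ 3 ∣ orderOf u → (a : G → ℂ) u + (b : G → ℂ) u = (c : G → ℂ) u

/-- The relations between the three members of a block of defect one. -/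
def TrT (a b c : IrrCharacter G) : Prop :=
  ((TrS a b c ∨ TrS a c b ∨ TrS b c a) ∧ ∀ u, 3 ∣ orderOf u →
    ((a : G → ℂ) u = 0 ↔ (b : G → ℂ) u = 0) ∧ ((a : G → ℂ) u = 0 ↔ (c : G → ℂ) u = 0)) ∨
  ∀ u, ¬ 3 ∣ orderOf u → (a : G → ℂ) u = (b : G → ℂ) u ∧ (b : G → ℂ) u = (c : G → ℂ) u

section
variable {a b c : IrrCharacter G}
omit [Finite G]

theorem TrS.symm (h : TrS a b c) : TrS b a c := fun u hu => (add_comm _ _).trans (h u hu)

theorem TrS.deg (h : TrS a b c) : dg a + dg b = dg c := by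
  have := h 1 (by simp)
  simp only [← CL.Blk.charDegree_cast_irr] at this
  exact_mod_cast this

theorem TrT.swap (h : TrT a b c) : TrT a c b :=
  h.imp (fun h => ⟨h.1.elim (fun k => .inr (.inl k)) fun k => k.elim .inl fun k => .inr (.inr k.symm),
    fun u hu => (h.2 u hu).symm⟩) fun h u hu => ⟨(h u hu).1.trans (h u hu).2, (h u hu).2.symm⟩

theorem TrT.swap' (h : TrT a b c) : TrT b a c :=
  h.imp (fun h => ⟨h.1.elim (fun k => .inl k.symm) fun k => .inr k.symm,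
    fun u hu => ⟨(h.2 u hu).1.symm, (h.2 u hu).1.symm.trans (h.2 u hu).2⟩⟩)
    fun h u hu => ⟨(h u hu).1.symm, (h u hu).1.trans (h u hu).2⟩

theorem trT_deg (h : ∀ u, ¬ 3 ∣ orderOf u → (a : G → ℂ) u = (b : G → ℂ) u ∧ (b : G → ℂ) u = (c : G → ℂ) u) :
    dg a = dg b ∧ dg b = dg c := by
  have := h 1 (by simp)
  simp only [← CL.Blk.charDegree_cast_irr] at this
  exact_mod_cast this

end

theorem trT_of_sign {a b c : IrrCharacter G} {s t r : ℤ} (hs : s = 1 ∨ s = -1) (ht : t = 1 ∨ t = -1)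
    (hr : r = 1 ∨ r = -1)
    (h : ∀ u, ¬ 3 ∣ orderOf u → s * (a : G → ℂ) u + (t * (b : G → ℂ) u + r * (c : G → ℂ) u) = 0)
    (h' : ∀ u, 3 ∣ orderOf u → s * (a : G → ℂ) u = t * (b : G → ℂ) u ∧ s * (a : G → ℂ) u = r * (c : G → ℂ) u) :
    TrT a b c := by
  have n0 : ∀ {x y : ℤ} {z w : ℂ}, x = 1 ∨ x = -1 → y = 1 ∨ y = -1 → x * z = y * w → (z = 0 ↔ w = 0) := by
    intro x y z w hx hy k
    have h1 : (x : ℂ) ≠ 0 := by rcases hx with rfl | rfl <;> simp
    have h2 : (y : ℂ) ≠ 0 := by rcases hy with rfl | rfl <;> simp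
    rw [← mul_eq_zero_iff_left h1, k, mul_eq_zero_iff_left h2]
  refine .inl ⟨?_, fun u hu => ⟨n0 hs ht (h' u hu).1, n0 hs hr (h' u hu).2⟩⟩
  have h1 := h 1 (by simp)
  simp only [← CL.Blk.charDegree_cast_irr] at h1
  have h2 : s * dg a + (t * dg b + r * dg c) = 0 := by exact_mod_cast h1
  have := a.2.charDegree_pos
  rcases hs with rfl | rfl <;> rcases ht with rfl | rfl <;> rcases hr with rfl | rfl <;> push_cast at h
  · omega
  · exact .inl fun u hu => by linear_combination h u hu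
  · exact .inr (.inl fun u hu => by linear_combination h u hu)
  · exact .inr (.inr fun u hu => by linear_combination -h u hu)
  · exact .inr (.inr fun u hu => by linear_combination h u hu)
  · exact .inr (.inl fun u hu => by linear_combination -h u hu)
  · exact .inl fun u hu => by linear_combination -h u hu
  · omega

open CL.Blk in
theorem exists_trT {M : Ideal AlgInt} (hM : IsPModular 3 M) (hG : Nat.card G = 244823040) {χ : IrrCharacter G}
    (h : n9 (dg χ) = true) : (∀ ξ ∈ blockOf M (χ : G → ℂ), n9 (dg ξ) = true) ∧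
      ∃ ψ φ, χ ≠ ψ ∧ χ ≠ φ ∧ ψ ≠ φ ∧ blockOf M (χ : G → ℂ) = {χ, ψ, φ} ∧ TrT χ ψ φ := by
  have := Fact.mk Nat.prime_three
  have := Fintype.ofFinite G
  have := Fintype.ofFinite (Multiplicative (ZMod 3) →* ℂˣ)
  have hB := tr_isPBlock_blockOf (M := M) χ
  have hχ := tr_mem_blockOf_self hM χ
  generalize blockOf M (χ : G → ℂ) = B at *
  have f3 : (Nat.card G).factorization 3 = 3 := by rw [hG]; decide +kernel
  have fz : ∀ (ξ : IrrCharacter G) k, 3 ^ k ∣ dg ξ ↔ k ≤ (dg ξ).factorization 3 := fun ξ k =>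
    Nat.prime_three.pow_dvd_iff_le_factorization ξ.2.charDegree_pos.ne'
  have fn : ∀ ξ : IrrCharacter G, n9 (dg ξ) = true ↔ (dg ξ).factorization 3 = 2 := fun ξ => by
    rw [n9_iff, show 9 = 3 ^ 2 from rfl, show 27 = 3 ^ 3 from rfl, fz, fz]; omega
  have hd : blockDefect 3 B = 1 := by
    obtain ⟨ψ, hψ, e⟩ := exists_minExp_eq (p := 3) ⟨χ, hχ⟩
    have h1 := (fz ψ _).1 (Cfsg.Agent.S4499.result 3 M hM (by rw [hG]; norm_num) B hB χ hχ
      (by rw [f3]; exact (n9_iff.1 h).1) ψ hψ)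
    have h2 := minExp_le (p := 3) hχ
    have h3 := minExp_add_blockDefect (p := 3) ⟨χ, hχ⟩
    have := (fn χ).1 h
    omega
  obtain ⟨D, hD⟩ := exists_isDefectGroup hM hB
  obtain ⟨e, he⟩ := Pair.exists_isMax_of_isDefectGroup hM hB hD
  have cD : Nat.card D = 3 := by rw [card_defectGroup hM hB hD, hd, pow_one]
  obtain ⟨E, ψ, s, I, k, -⟩ := exists_cyData (A := Multiplicative (ZMod 3)) hM hB he (isCyclic_of_prime_card cD)
    (fun e => by rw [e, Subgroup.card_bot] at cD; omega) inferInstance (by rw [cD]; simp)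
  have := Fintype.ofFinite E
  have := Fintype.ofFinite (cyJ E)
  refine ⟨fun ξ hξ => (fn ξ).2 (by
    have := factorization_charDegree_add_blockDefect (p := 3) hξ
    rw [k.height hξ] at this
    omega), ?_⟩
  suffices h : ∃ a b c, a ≠ b ∧ a ≠ c ∧ b ≠ c ∧ B = {a, b, c} ∧ TrT a b c by
    obtain ⟨a, b, c, h1, h2, h3, rfl, t⟩ := h
    rcases hχ with rfl | rfl | rfl
    · exact ⟨b, c, h1, h2, h3, rfl, t⟩
    · exact ⟨a, c, h1.symm, h3, h2, Set.insert_comm _ _ _, t.swap'⟩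
    · exact ⟨a, b, h2.symm, h3.symm, h1, by rw [Set.pair_comm b, Set.insert_comm], t.swap.swap'⟩
  have hJ := k.card_J
  rw [show Nat.card (Multiplicative (ZMod 3)) = 3 by simp] at hJ
  rcases (Nat.dvd_prime Nat.prime_two).1 k.card_dvd with hE | hE <;> rw [hE] at hJ
  · obtain ⟨_, -⟩ := Nat.card_eq_one_iff_unique.1 hE
    obtain ⟨O, O', hO, hu⟩ := Nat.card_eq_two_iff.1 hJ
    refine ⟨ψ (.inl 1), ψ (.inr O), ψ (.inr O'), k.inj.ne Sum.inl_ne_inr, k.inj.ne Sum.inl_ne_inr,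
      k.inj.ne (Sum.inr_injective.ne hO), ?_, .inr fun u hu => ⟨?_, k.regY O O' hu⟩⟩
    · rw [← k.range]
      refine Set.Subset.antisymm ?_ (by rintro _ (rfl | rfl | rfl) <;> exact ⟨_, rfl⟩)
      rintro _ ⟨i | i, rfl⟩
      · rw [Subsingleton.elim i 1]; simp
      · rcases hu.ge (Set.mem_univ i) with rfl | rfl <;> simp
    · have h1 := k.rel O hu
      have h2 := k.rel O (x := 1) (by simp)
      simp only [Fintype.sum_subsingleton _ (1 : E), ← charDegree_cast_irr] at h1 h2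
      have h3 : s (.inr O) * dg (ψ (.inr O)) + s (.inl 1) * dg (ψ (.inl 1)) = 0 := by exact_mod_cast h2
      have := (ψ (.inl 1)).2.charDegree_pos
      rcases k.sgn (.inr O) with e | e <;> rcases k.sgn (.inl 1) with e' | e' <;> rw [e, e'] at h1 h3 <;>
        push_cast at h1
      · omega
      · linear_combination -h1
      · linear_combination h1
      · omega
  · obtain ⟨_, ⟨O⟩⟩ := Nat.card_eq_one_iff_unique.1 hJ
    obtain ⟨i, i', hi, hu⟩ := Nat.card_eq_two_iff.1 hE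
    have hu' : (univ : Finset E) = {i, i'} := by rw [← coe_inj, coe_univ, ← hu]; simp
    refine ⟨ψ (.inr O), ψ (.inl i), ψ (.inl i'), k.inj.ne Sum.inr_ne_inl, k.inj.ne Sum.inr_ne_inl,
      k.inj.ne (Sum.inl_injective.ne hi), ?_, trT_of_sign (k.sgn _) (k.sgn _) (k.sgn _)
        (fun u hu => by rw [← k.rel O hu, hu', sum_pair hi]) fun u hu => ?_⟩
    · rw [← k.range]
      refine Set.Subset.antisymm ?_ (by rintro _ (rfl | rfl | rfl) <;> exact ⟨_, rfl⟩)
      rintro _ ⟨j | j, rfl⟩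
      · rcases hu.ge (Set.mem_univ j) with rfl | rfl <;> simp
      · rw [Subsingleton.elim j O]; simp
    · have h1 := k.singX i hu
      have h2 := k.singX i' hu
      have h3 := k.sum' hu
      rw [Fintype.sum_subsingleton _ O, ← k.singY O hu] at h3
      rw [hE] at h1 h2 h3
      push_cast at h1 h2 h3
      exact ⟨by linear_combination (h3 - h1) / 2, by linear_combination (h3 - h2) / 2⟩

theorem PBk.v2_rel {p : ℕ} (b : PBk G 244823040 p) (hv : b.v = 1) {e : ℕ} (he : b.e = e)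
    (hp : p = 23 ∧ e = 11 ∨ p = 11 ∧ e = 10) {x y z : IrrCharacter G} (hx : x ≠ irrOne G) (hy : y ≠ irrOne G)
    (hz : z ≠ irrOne G) (h : TrS x y z) : v2 p e (dg x) + v2 p e (dg y) = v2 p e (dg z) := by
  have := Fintype.ofFinite G
  have key : ∀ χ : IrrCharacter G, χ ≠ irrOne G → ∑ μ ∈ b.B.Y, (classInner (χ : G → ℂ) (irrOne G) +
      ∑ ξ ∈ b.X0, sg p (dg ξ) * classInner (χ : G → ℂ) ξ - b.F.sign * classInner (χ : G → ℂ) μ) = v2 p e (dg χ) := by
    intro χ h1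
    simp only [classInner_irr, if_neg h1, mul_ite, mul_one, mul_zero, sum_ite_eq, zero_add, sum_sub_distrib, sum_const,
      b.card_Y, he, b.sign_F]
    by_cases hX : χ ∈ b.X0
    · have h2 := (b.mem_X0.1 hX).2
      rw [if_pos hX, if_neg (b.B.disj χ h2), v2, sg]
      rcases (b.s_eq h2).2 with k | k <;> rw [k] <;> rcases hp with ⟨rfl, rfl⟩ | ⟨rfl, rfl⟩ <;> norm_num
    by_cases hY : χ ∈ b.B.Y
    · rw [if_neg hX, if_pos hY, v2, b.B.deg_Y χ hY]
      rcases b.f_mod with ⟨k, k'⟩ | ⟨k, k'⟩ <;> rw [k, k', he] <;> rcases hp with ⟨rfl, rfl⟩ | ⟨rfl, rfl⟩ <;> norm_num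
    · rw [if_neg hX, if_neg hY, v2, if_pos (Nat.mod_eq_zero_of_dvd (by_contra fun k =>
        (b.mem_S_iff.1 (b.mem_S hv h1 k)).elim hX hY))]
      simp
  have h0 : ∀ μ ∈ b.B.Y, _ := fun μ hμ => b.comb (θ := (x : G → ℂ) + (y : G → ℂ) - (z : G → ℂ)) (z := 0)
    (fun u hu => sub_eq_zero.2 (h u fun k => by
      have h1 : orderOf u ∣ cc u := orderOf_dvd_card_of_mem (Subgroup.mem_centralizer_singleton_iff.mpr rfl)
      rw [b.cc_sing hv hu] at h1
      have := k.trans h1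
      omega)) hμ
  have h1 := sum_congr rfl h0
  have h2 : (v2 p e (dg x) + v2 p e (dg y) - v2 p e (dg z) : ℂ) = 0 := by
    rw [← key x hx, ← key y hy, ← key z hz, ← sum_add_distrib, ← sum_sub_distrib, ← sum_const_zero (s := b.B.Y), ← h1]
    refine sum_congr rfl fun μ _ => ?_
    simp only [classInner_sub_left, classInner_add_left, mul_sub, mul_add, sum_sub_distrib, sum_add_distrib]
    ring
  exact_mod_cast sub_eq_zero.1 h2

/-- The degrees prime to `q`. -/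
noncomputable def mR (q : ℕ) (U : Finset (IrrCharacter G)) : Multiset ℕ :=
  (U.val.map fun ψ => dg ψ).filter (¬ q ∣ ·)

/-- The sum of the squares of the degrees divisible by `q`. -/
noncomputable def sB (q : ℕ) (U : Finset (IrrCharacter G)) : ℕ := ∑ ψ ∈ U, if q ∣ dg ψ then dg ψ * dg ψ else 0

omit [Finite G] in
theorem mR_erase {q : ℕ} {U : Finset (IrrCharacter G)} {χ : IrrCharacter G} (h : χ ∈ U) :
    mR q U = (if q ∣ dg χ then 0 else {dg χ}) + mR q (U.erase χ) ∧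
      sB q U = (if q ∣ dg χ then dg χ * dg χ else 0) + sB q (U.erase χ) := by
  refine ⟨?_, (add_sum_erase _ _ h).symm⟩
  rw [mR, ← Multiset.cons_erase (show χ ∈ U.val from h), Multiset.map_cons, Multiset.filter_cons, ite_not]
  rfl

namespace M24A

variable (D : M24A G)
include D

theorem okD_of {x y z : IrrCharacter G} (hx : MO.n9 (dg x) = true) (hy : MO.n9 (dg y) = true)
    (hz : MO.n9 (dg z) = true) (h : TrT x y z) : okD (dg x) (dg y) (dg z) = true := by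
  have n1 : ∀ {x : IrrCharacter G}, MO.n9 (dg x) = true → x ≠ irrOne G := fun k =>
    ne_irrOne fun e => by rw [e] at k; exact absurd k (by decide)
  have s : ∀ {x y z : IrrCharacter G}, MO.n9 (dg x) = true → MO.n9 (dg y) = true → MO.n9 (dg z) = true →
      TrS x y z → sum3 (dg x) (dg y) (dg z) = true := fun hx hy hz h => by
    simp only [sum3, Bool.and_eq_true, beq_iff_eq]
    exact ⟨⟨h.deg, D.a.v2_rel D.av D.ae (.inl ⟨rfl, rfl⟩) (n1 hx) (n1 hy) (n1 hz) h⟩,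
      D.b.v2_rel D.bv D.be (.inr ⟨rfl, rfl⟩) (n1 hx) (n1 hy) (n1 hz) h⟩
  rcases h with ⟨h | h | h, -⟩ | h
  · simp [okD, s hx hy hz h]
  · simp [okD, s hx hz hy h]
  · simp [okD, s hy hz hx h]
  · simp [okD, (trT_deg h).1, (trT_deg h).2]

theorem mem_N9 {x : IrrCharacter G} (h : MO.n9 (dg x) = true) : dg x ∈ N9 := D.n9 x (n9_iff.1 h).1 (n9_iff.1 h).2

/-- A partner of the character of degree 5544 in the principal 5-block has degree prime to 5. -/
theorem not_bad {χ ψ φ : IrrCharacter G} (h : χ ∈ D.c.S) (hd : dg χ = 5544) (hψ : MO.n9 (dg ψ) = true)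
    (hφ : MO.n9 (dg φ) = true) (t : TrT χ ψ φ) : ¬ 5 ∣ dg ψ := fun h5 => by
  have ok := D.okD_of (by rw [hd]; decide) hψ hφ t
  rcases t with ⟨t, t'⟩ | t
  · have v1 : ∀ u, 5 ∣ orderOf u → (χ : G → ℂ) u = -1 := fun u hu => by
      rw [D.c.val_top D.ce h hu, hd]; simp [sg]
    have v0 := fun u hu => D.c.val_zero h5 (u := u) hu
    have r : ∀ u, 5 ∣ orderOf u → ¬ 3 ∣ orderOf u := fun u hu k => by
      simpa [v1 u hu] using (t' u k).1.2 (v0 u hu)
    obtain ⟨c, c0, hc⟩ : ∃ c : ℂ, c ≠ 0 ∧ ∀ u, 5 ∣ orderOf u → (φ : G → ℂ) u = c := by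
      rcases t with t | t | t
      · exact ⟨-1, by simp, fun u hu => by linear_combination v1 u hu + v0 u hu - t u (r u hu)⟩
      · exact ⟨1, by simp, fun u hu => by linear_combination v0 u hu - v1 u hu + t u (r u hu)⟩
      · exact ⟨-1, by simp, fun u hu => by linear_combination v1 u hu - v0 u hu + t u (r u hu)⟩
    have h1 := D.c9 φ (mem_erase.2 ⟨ne_irrOne fun e => by rw [e] at hφ; exact absurd hφ (by decide),
      mem_union.2 (D.c.B.mem_of_const φ c c0 hc)⟩) (n9_iff.1 hφ).1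
    rw [hd] at ok
    exact (by decide : ∀ y ∈ N9, ∀ z ∈ [5544, 5796], okD 5544 y z = true → ¬ 5 ∣ y) _ (D.mem_N9 hψ) _
      (by simpa using h1) ok h5
  · rw [← (trT_deg t).1, hd] at h5
    omega

variable {M : Ideal AlgInt} (hM : IsPModular 3 M)
include hM

theorem stp_true {q : ℕ} {k : List ℕ → ℕ → Bool} {bad : ℕ → Bool} {U : Finset (IrrCharacter G)}
    {χ : IrrCharacter G} {R : List ℕ} {B : ℕ} (hχ : χ ∈ U) (hq : ¬ q ∣ dg χ)
    (hU : ∀ ξ ∈ U, MO.n9 (dg ξ) = true ∧ ∀ η ∈ blockOf M (ξ : G → ℂ), η ∈ U)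
    (hR : mR q U = (dg χ :: R : List ℕ)) (hB : sB q U ≤ B)
    (hk : ∀ (U' : Finset (IrrCharacter G)) (R' : List ℕ) B', (∀ ξ ∈ U', MO.n9 (dg ξ) = true ∧
      ∀ η ∈ blockOf M (ξ : G → ℂ), η ∈ U') → mR q U' = R' → sB q U' ≤ B' → R'.length ≤ R.length → k R' B' = true)
    (hb : ∀ ψ φ : IrrCharacter G, MO.n9 (dg ψ) = true → MO.n9 (dg φ) = true → TrT χ ψ φ → bad (dg ψ) = false) :
    stp (N9.filter (· % q == 0)) k bad (dg χ) R B = true := by
  obtain ⟨ψ, φ, h1, h2, h3, e, t, hw⟩ : ∃ ψ φ, χ ≠ ψ ∧ χ ≠ φ ∧ ψ ≠ φ ∧ blockOf M (χ : G → ℂ) = {χ, ψ, φ} ∧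
      TrT χ ψ φ ∧ (q ∣ dg ψ → q ∣ dg φ) := by
    obtain ⟨-, ψ, φ, h1, h2, h3, e, t⟩ := exists_trT hM D.a.card (hU χ hχ).1
    by_cases hw : q ∣ dg φ
    · exact ⟨ψ, φ, h1, h2, h3, e, t, fun _ => hw⟩
    · exact ⟨φ, ψ, h2, h1, h3.symm, by rw [e, Set.pair_comm], t.swap, fun k => absurd k hw⟩
  have hψ : ψ ∈ U := (hU χ hχ).2 ψ (by simp [e])
  have hφ : φ ∈ U := (hU χ hχ).2 φ (by simp [e])
  have ok := D.okD_of (hU χ hχ).1 (hU ψ hψ).1 (hU φ hφ).1 t
  have b1 := hb ψ φ (hU ψ hψ).1 (hU φ hφ).1 t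
  have b2 := hb φ ψ (hU φ hφ).1 (hU ψ hψ).1 t.swap
  have mE : ∀ ξ ∈ U, q ∣ dg ξ → dg ξ ∈ N9.filter (· % q == 0) := fun ξ hξ k =>
    List.mem_filter.2 ⟨D.mem_N9 (hU ξ hξ).1, by simpa using Nat.mod_eq_zero_of_dvd k⟩
  obtain ⟨a1, s1⟩ := mR_erase (q := q) hχ
  obtain ⟨a2, s2⟩ := mR_erase (q := q) (mem_erase.2 ⟨h1.symm, hψ⟩)
  obtain ⟨a3, s3⟩ := mR_erase (q := q) (mem_erase.2 ⟨h3.symm, mem_erase.2 ⟨h2.symm, hφ⟩⟩)
  have hk' := fun R' B' => hk (((U.erase χ).erase ψ).erase φ) R' B' fun ξ hξ => by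
    simp only [mem_erase] at hξ ⊢
    refine ⟨(hU ξ hξ.2.2.2).1, fun η hη => ?_⟩
    have : η ∉ blockOf M (χ : G → ℂ) := fun k => by
      have k' := CL.Blk.tr_mem_blockOf_self hM ξ
      rw [CL.Blk.tr_eq_blockOf hM (CL.Blk.tr_isPBlock_blockOf ξ) hη,
        ← CL.Blk.tr_eq_blockOf hM (CL.Blk.tr_isPBlock_blockOf χ) k, e] at k'
      simp [hξ.1, hξ.2.1, hξ.2.2.1] at k'
    simp only [e, Set.mem_insert_iff, Set.mem_singleton_iff, not_or] at this
    exact ⟨this.2.2, this.2.1, this.1, (hU ξ hξ.2.2.2).2 η hη⟩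
  rw [hR, if_neg hq, Multiset.singleton_add, ← Multiset.cons_coe, Multiset.cons_inj_right, a2, a3] at a1
  rw [s1, if_neg hq, zero_add, s2, s3] at hB
  generalize mR q (((U.erase χ).erase ψ).erase φ) = m at a1 hk'
  generalize sB q (((U.erase χ).erase ψ).erase φ) = n at hB hk'
  simp only [stp, Bool.or_eq_true, List.any_eq_true, Bool.and_eq_true, Bool.not_eq_true', Nat.ble_eq]
  by_cases q1 : q ∣ dg ψ
  · have q2 := hw q1
    simp only [if_pos q1, if_pos q2, zero_add] at a1 hB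
    exact .inl ⟨_, mE ψ hψ q1, _, mE φ hφ q2, ⟨⟨⟨ok, b1⟩, b2⟩, by omega⟩, hk' _ _ a1.symm (by omega) le_rfl⟩
  rw [if_neg q1, Multiset.singleton_add] at a1
  have m1 : dg ψ ∈ R := by rw [← Multiset.mem_coe, a1]; simp
  have e1 := congrArg (·.erase (dg ψ)) a1
  simp only [Multiset.coe_erase, Multiset.erase_cons_head] at e1
  refine .inr ⟨_, m1, b1, ?_⟩
  by_cases q2 : q ∣ dg φ
  · simp only [if_neg q1, if_pos q2, zero_add] at e1 hB
    exact .inl ⟨_, mE φ hφ q2, ⟨⟨ok, b2⟩, by omega⟩, hk' _ _ e1.symm (by omega) List.length_erase_le⟩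
  · rw [if_neg q2, Multiset.singleton_add] at e1
    have e2 := congrArg (·.erase (dg φ)) e1
    simp only [Multiset.coe_erase, Multiset.erase_cons_head] at e2
    simp only [if_neg q1, if_neg q2, zero_add] at hB
    exact .inr ⟨_, by rw [← Multiset.mem_coe, e1]; simp, ⟨ok, b2⟩,
      hk' _ _ e2.symm hB (List.length_erase_le.trans List.length_erase_le)⟩

theorem part_true {q : ℕ} (n : ℕ) : ∀ (U : Finset (IrrCharacter G)) (R : List ℕ) (B : ℕ),
    (∀ ξ ∈ U, MO.n9 (dg ξ) = true ∧ ∀ η ∈ blockOf M (ξ : G → ℂ), η ∈ U) → mR q U = R → sB q U ≤ B → R.length ≤ n →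
      part (N9.filter (· % q == 0)) n R B = true := by
  induction n with
  | zero =>
    rintro U (_ | ⟨x, R⟩) B - - - h
    · rfl
    · simp at h
  | succ n ih =>
    rintro U (_ | ⟨x, R⟩) B hU hR hB h
    · rfl
    obtain ⟨h1, hq⟩ := Multiset.mem_filter.1 (show x ∈ mR q U by simp [hR])
    obtain ⟨χ, hχ, rfl⟩ := Multiset.mem_map.1 h1
    exact D.stp_true hM hχ hq hU hR hB (fun U' R' B' h1 h2 h3 h4 => ih U' R' B' h1 h2 h3
      (h4.trans (by simpa using h))) fun _ _ _ _ _ => rfl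

omit hM

theorem chk3_true {χ : IrrCharacter G} (h : χ ∈ D.c.S) (hd : dg χ = 5544) {q : ℕ} (hq : ¬ q ∣ 5544) {V X : List ℕ}
    (hV : ((univ.erase (irrOne G)).val.map fun ψ => dg ψ).filter (¬ q ∣ ·) = V)
    (hX : Sub (fun ψ : IrrCharacter G => dg ψ) X) (hX' : ∀ d ∈ X, q ∣ d ∧ ¬ 9 ∣ d) : chk3 q V X = true := by
  obtain ⟨M, hM⟩ := CL.Blk.exists_isPModular Nat.prime_three
  let U : Finset (IrrCharacter G) := (univ.erase (irrOne G)).filter fun ψ => MO.n9 (dg ψ) = true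
  have mU : ∀ ξ, ξ ∈ U ↔ MO.n9 (dg ξ) = true := fun ξ => ⟨fun k => (mem_filter.1 k).2, fun k => mem_filter.2
    ⟨mem_erase.2 ⟨ne_irrOne fun e => by rw [e] at k; exact absurd k (by decide), mem_univ _⟩, k⟩⟩
  have hR : mR q U = (V.filter MO.n9 : List ℕ) := by
    rw [mR, filter_val, show ((V.filter MO.n9 : List ℕ) : Multiset ℕ) = Multiset.filter (MO.n9 · = true) V by simp,
      ← hV, Multiset.filter_comm (fun d => MO.n9 d = true), Multiset.filter_map (p := fun d => MO.n9 d = true)]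
    rfl
  have hχ : χ ∈ U := (mU χ).2 (by rw [hd]; decide)
  have m1 : 5544 ∈ V.filter MO.n9 := by
    rw [← Multiset.mem_coe, ← hR]
    exact Multiset.mem_filter.2 ⟨Multiset.mem_map.2 ⟨χ, hχ, hd⟩, hq⟩
  have key := D.stp_true hM (q := q) (k := part (N9.filter (· % q == 0)) V.length) (bad := (· % 5 == 0))
    (R := (V.filter MO.n9).erase 5544) (B := 244823040 - (1 + ((V ++ X).map fun d => d * d).sum)) hχ (hd ▸ hq)
    (fun ξ hξ => ⟨(mU ξ).1 hξ, fun η hη => (mU η).2 ((exists_trT hM D.a.card ((mU ξ).1 hξ)).1 η hη)⟩)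
    (by rw [hR, hd]; exact Multiset.coe_eq_coe.2 (List.perm_cons_erase m1)) ?_
    (fun U' R' B' h1 h2 h3 h4 => D.part_true hM _ U' R' B' h1 h2 h3
      (h4.trans (List.length_erase_le.trans (List.length_filter_le _ _))))
    fun ψ φ h1 h2 t => by simpa [← Nat.dvd_iff_mod_eq_zero] using D.not_bad h hd h1 h2 t
  · rwa [hd] at key
  have h1 := sum_charDegree_sq (G := G)
  rw [← add_sum_erase _ _ (mem_univ (irrOne G)), charDegree_irrOne, D.a.card] at h1
  have h2 : (V.map fun d => d * d).sum = ∑ ψ ∈ univ.erase (irrOne G), if q ∣ dg ψ then 0 else dg ψ * dg ψ := by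
    rw [← Multiset.sum_coe, ← Multiset.map_coe, ← hV, Multiset.filter_map, Multiset.map_map, ← filter_val]
    exact (sum_filter _ _).trans (sum_congr rfl fun _ _ => ite_not _ _ _)
  have h3 : (X.map fun d => d * d).sum ≤
      ∑ ψ ∈ univ.erase (irrOne G), if q ∣ dg ψ ∧ ¬ 9 ∣ dg ψ then dg ψ * dg ψ else 0 := by
    have := hX.sum_le fun d => if q ∣ d ∧ ¬ 9 ∣ d then d * d else 0
    rw [← add_sum_erase _ _ (mem_univ (irrOne G)), List.map_congr_left fun d hd => if_pos (hX' d hd)] at this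
    exact Nat.le_of_add_le_add_left this
  have h4 : sB q U + (V.map fun d => d * d).sum + (X.map fun d => d * d).sum ≤
      ∑ ψ ∈ univ.erase (irrOne G), dg ψ ^ 2 := by
    rw [h2, sB, sum_filter]
    refine (Nat.add_le_add_left h3 _).trans ?_
    rw [← sum_add_distrib, ← sum_add_distrib]
    refine sum_le_sum fun ψ _ => ?_
    simp only [n9_iff, sq]
    split_ifs <;> first | omega | tauto
  rw [List.map_append, List.sum_append]
  omega

theorem partners {χ : IrrCharacter G} (h : MO.n9 (dg χ) = true) (hp : ¬ 23 ∣ dg χ)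
    (h1 : (fd 23 11 D.a.c D.a.F).count (dg χ) ≤ 2) : ∃ ψ φ : IrrCharacter G, MO.n9 (dg ψ) = true ∧
      MO.n9 (dg φ) = true ∧ TrT χ ψ φ ∧ dg ψ ≤ dg φ ∧ ¬ (dg ψ = dg χ ∧ dg φ = dg χ) := by
  obtain ⟨M, hM⟩ := CL.Blk.exists_isPModular Nat.prime_three
  obtain ⟨k, ψ, φ, n1, n2, n3, e, t⟩ := exists_trT hM D.a.card h
  have hn : ¬ (dg ψ = dg χ ∧ dg φ = dg χ) := fun ⟨e1, e2⟩ => by
    have m : ∀ ξ : IrrCharacter G, dg ξ = dg χ → ξ ∈ D.a.S.filter fun ξ => dg χ = dg ξ := fun ξ k =>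
      mem_filter.2 ⟨D.a.mem_S D.av (ne_irrOne fun e => by rw [← k, e] at h; exact absurd h (by decide)) (k ▸ hp), k.symm⟩
    have := D.a.map_dg
    rw [D.ae] at this
    rw [fd, ← Multiset.coe_count, ← this, Multiset.count_map, ← filter_val] at h1
    exact absurd (two_lt_card_iff.2 ⟨χ, ψ, φ, m χ rfl, m ψ e1, m φ e2, n1, n2, n3⟩) (not_lt.2 h1)
  rcases le_total (dg ψ) (dg φ) with l | l
  · exact ⟨ψ, φ, k ψ (by simp [e]), k φ (by simp [e]), t, l, hn⟩
  · exact ⟨φ, ψ, k φ (by simp [e]), k ψ (by simp [e]), t.swap, l, fun k => hn k.symm⟩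

theorem tri_5544 {χ : IrrCharacter G} (h : χ ∈ D.c.S) (hd : dg χ = 5544)
    (h1 : (fd 23 11 D.a.c D.a.F).count 5544 ≤ 2) (h2 : 2772 ∉ fd 23 11 D.a.c D.a.F) :
    ∃ ψ φ : IrrCharacter G, dg ψ = 252 ∧ dg φ = 5796 ∧
      ∀ u, ¬ 3 ∣ orderOf u → (ψ : G → ℂ) u + (χ : G → ℂ) u = (φ : G → ℂ) u := by
  have h9 : MO.n9 (dg χ) = true := by rw [hd]; decide
  obtain ⟨ψ, φ, n1, n2, t, l, hn⟩ := D.partners h9 (by omega) (hd ▸ h1)
  have ok := D.okD_of h9 n1 n2 t
  have nb := D.not_bad h hd n1 n2 t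
  rw [hd] at ok hn
  have e : dg ψ = 252 ∧ dg φ = 5796 := by
    refine ((by decide : ∀ y ∈ N9, ∀ z ∈ N9, okD 5544 y z = true → y ≤ z → ¬ 5 ∣ y → ¬ (y = 5544 ∧ z = 5544) →
      y = 2772 ∨ y = 252 ∧ z = 5796) _ (D.mem_N9 n1) _ (D.mem_N9 n2) ok l nb hn).resolve_left fun e => h2 ?_
    have := D.a.map_dg
    rw [D.ae] at this
    rw [fd, ← Multiset.mem_coe, ← this]
    exact Multiset.mem_map.2 ⟨ψ, D.a.mem_S D.av (ne_irrOne (by omega)) (by omega), e⟩
  refine ⟨ψ, φ, e.1, e.2, ?_⟩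
  rcases t with ⟨t | t | t, -⟩ | t
  · exact t.symm
  · have := t.deg; omega
  · have := t.deg; omega
  · have := trT_deg t; omega

theorem tri_45 {χ : IrrCharacter G} (hd : dg χ = 45) (h1 : (fd 23 11 D.a.c D.a.F).count 45 ≤ 2) :
    ∃ ψ φ : IrrCharacter G, dg ψ = 990 ∧ dg φ = 1035 ∧
      ∀ u, ¬ 3 ∣ orderOf u → (χ : G → ℂ) u + (ψ : G → ℂ) u = (φ : G → ℂ) u := by
  have h9 : MO.n9 (dg χ) = true := by rw [hd]; decide
  obtain ⟨ψ, φ, n1, n2, t, l, hn⟩ := D.partners h9 (by omega) (hd ▸ h1)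
  have ok := D.okD_of h9 n1 n2 t
  rw [hd] at ok hn
  have e := (by decide : ∀ y ∈ N9, ∀ z ∈ N9, okD 45 y z = true → y ≤ z → ¬ (y = 45 ∧ z = 45) →
      y = 990 ∧ z = 1035) _ (D.mem_N9 n1) _ (D.mem_N9 n2) ok l hn
  refine ⟨ψ, φ, e.1, e.2, ?_⟩
  rcases t with ⟨t | t | t, -⟩ | t
  · exact t
  · have := t.deg; omega
  · have := t.deg; omega
  · have := trT_deg t; omega

end M24A

end CL.Spor.MO
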