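/-
Relations for the values at an involution (helper18 for helper82).
-/
import Cfsg.Agent.Spor.MOLink2
import Cfsg.Agent.Spor.MOEnum2
import Cfsg.Agent.S4703

set_option autoImplicit false
set_option linter.unusedSectionVars false

open Cfsg Finset CL.Char

namespace CL.Spor.MO

variable {G : Type*} [Group G] [Finite G] [IsSimpleGroup G]

theorem deg21 (hG : Nat.card G = 244823040) {χ : IrrCharacter G} (h : χ ≠ irrOne G) : 21 ≤ dg χ := by
  have : Fact (Nat.Prime 23) := ⟨by norm_num⟩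
  obtain ⟨P⟩ : Nonempty (Sylow 23 G) := inferInstance
  have hP : Nat.card P = 23 := by
    rw [P.card_eq_multiplicity, hG, show 244823040 = 23 ^ 1 * 10644480 from rfl,
      Nat.factorization_mul (by norm_num) (by norm_num), Finsupp.add_apply, Nat.Prime.factorization_pow this.out,
      Nat.factorization_eq_zero_of_not_dvd (by norm_num)]
    simp
  have hnn : ¬ (P : Subgroup G).Normal := fun hn => by
    rcases hn.eq_bot_or_eq_top with e | e <;> rw [show Nat.card P = Nat.card (P : Subgroup G) from rfl, e] at hP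
    · simp at hP
    · rw [Subgroup.card_top, hG] at hP; omega
  have hZ : Subgroup.center G = ⊥ := (Subgroup.Normal.eq_bot_or_eq_top inferInstance).resolve_right fun e =>
    hnn ⟨fun n hn g => by
      rwa [Subgroup.mem_center_iff.1 (e ▸ Subgroup.mem_top n : n ∈ Subgroup.center G) g, mul_inv_cancel_right]⟩
  rcases Cfsg.Agent.S4703.result (by rw [hZ]; simp) 23 (by norm_num) P hP hnn χ χ.2 (fun g hg => by
    have := χ.2.mem_charKer.2 hg
    rwa [χ.2.charKer_eq_bot_of_simple fun e => h (Subtype.ext e), Subgroup.mem_bot] at this) with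
    ⟨⟨F, _, _, hF, ⟨e⟩⟩, -⟩ | e
  · have h1 := Subgroup.card_eq_card_quotient_mul_card_subgroup (Subgroup.center G)
    rw [Nat.card_congr e.toEquiv, hZ, Subgroup.card_bot, mul_one, hG] at h1
    have h2 : Nat.card (Matrix.ProjectiveSpecialLinearGroup (Fin 2) F) ≤ Nat.card (Matrix (Fin 2) (Fin 2) F) :=
      (Nat.card_le_card_of_surjective _ QuotientGroup.mk_surjective).trans
        (Nat.card_le_card_of_injective _ Subtype.val_injective)
    rw [← h1, Matrix, Nat.card_fun, Nat.card_fun, Nat.card_eq_fintype_card (α := F), hF] at h2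
    simp at h2
  · exact e

/-- The linear and quadratic relations for the values at an involution, one exceptional character being kept. -/
theorem PBk.exists_Z {g p : ℕ} (b : PBk G g p) (hv : b.v = 1) {y : G} (hy : orderOf y = 2) {T : IrrCharacter G → ℤ}
    (hT : ∀ χ : IrrCharacter G, (χ : G → ℂ) y = T χ) : ∃ (a : ℤ) (k : ℕ) (m : Multiset (ℕ × ℤ)),
    (b.e % 2 = 1 → k = 0) ∧ (y * b.x * y⁻¹ = b.x⁻¹ → k = 1) ∧
    m = (b.F.natAbs, a) ::ₘ b.X0.val.map (fun χ => (dg χ, T χ)) ∧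
    b.S.val.map (fun χ => (dg χ, T χ)) = m + Multiset.replicate ((p - 1) / b.e - 1) (b.F.natAbs, a) ∧
    (∀ x ∈ m, 0 < x.1 ∧ 0 < wn p b.e x.1 ∧ (4 : ℤ) ∣ x.1 - x.2 ∧ (x.1 : ℤ) ∣ (g / cc y : ℕ) * x.2) ∧
    1 + (m.map fun x => sn p b.e x.1 * x.2).sum = 0 ∧
    ((g / p : ℕ) : ℤ) - (k * cc y * (k * cc y) : ℕ) +
      (m.map fun x => sn p b.e x.1 * (x.2 * x.2 * (g / p / x.1 : ℕ))).sum = 0 ∧
    (m.map fun x => wn p b.e x.1 * (x.2.natAbs * x.2.natAbs)).sum =
      ((b.S.val.map fun χ => (dg χ, T χ)).map fun x => x.2.natAbs * x.2.natAbs).sum := by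
  classical
  have := Fintype.ofFinite G
  have hy2 : y * y = 1 := by rw [← pow_two, ← hy, pow_orderOf_eq_one]
  have hyp : ¬ p ∣ orderOf y := hy ▸ fun h => b.p2 ((Nat.prime_dvd_prime_iff_eq b.pp Nat.prime_two).mp h)
  obtain ⟨μ, hμ⟩ := b.B.Y_nonempty b.pp
  have hY : ∀ ν ∈ b.B.Y, (dg ν, T ν) = (b.F.natAbs, T μ) := fun ν hν => Prod.ext (b.natAbs_F ▸ b.B.deg_Y ν hν)
    (by exact_mod_cast (hT ν).symm.trans ((b.B.Y_reg hν hμ hyp).trans (hT μ)))
  have hT1 : T (irrOne G) = 1 := by exact_mod_cast (hT _).symm.trans (irrOne_apply y)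
  have hidx : (Subgroup.centralizer ({y} : Set G)).index = g / cc y := by
    have := (Subgroup.centralizer ({y} : Set G)).index_mul_card
    rw [b.card] at this
    exact (Nat.div_eq_of_eq_mul_left Nat.card_pos this.symm).symm
  obtain ⟨k, hk, hk1, hk2⟩ := b.B.exists_invSet b.pp b.p2 b.hx b.sq b.hv y
  have e1 : b.e ≠ 1 := b.B.e_ne_one b.perf b.pp b.hx b.sq
  have e2 := b.e_bd
  have e3 := b.pp.eq_two_or_odd.resolve_left b.p2
  have t0 : 0 < (p - 1) / b.e := Nat.div_pos (by omega) e2.1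
  have sX : ∀ χ ∈ b.X0, sn p b.e (dg χ) = b.B.s χ ∧ wn p b.e (dg χ) = 1 := fun χ hχ => by
    obtain ⟨h1, h2⟩ := b.s_eq (b.mem_X0.mp hχ).2
    refine ⟨?_, if_pos h2⟩
    rw [h1, sn, ng, sg]
    by_cases h3 : dg χ % p = 1
    · simp [h3]
    · rw [if_neg h3, if_pos (by simp only [Bool.and_eq_true, bne_iff_ne]; omega)]
  have sY : sn p b.e b.F.natAbs = -b.B.ε ∧ wn p b.e b.F.natAbs = (p - 1) / b.e := by
    rw [b.natAbs_F, sn, ng, wn]
    constructor
    · rcases b.f_mod with ⟨h1, h2⟩ | ⟨h1, h2⟩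
      · rw [h1, if_pos (by simp only [Bool.and_eq_true, bne_iff_ne]; omega)]
      · rw [h1, if_neg (by simp only [Bool.and_eq_true, bne_iff_ne]; omega), neg_neg]
    · split_ifs with h
      · rw [show b.e = p - 1 by have := b.f_mod; omega, Nat.div_self (by omega)]
      · rfl
  have h4 : ∀ χ : IrrCharacter G, 0 < dg χ ∧ (4 : ℤ) ∣ dg χ - T χ ∧ (dg χ : ℤ) ∣ (g / cc y : ℕ) * T χ := fun χ => by
    obtain ⟨m, -, hm⟩ := invol_value χ.2.isCharacter b.perf (t := y) (by rw [pow_two, hy2])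
    exact ⟨degree_pos χ, ⟨m, by
      have : T χ = (dg χ : ℤ) - 4 * m := by exact_mod_cast (hT χ).symm.trans hm
      omega⟩, hidx ▸ degree_dvd_index_mul χ (hT χ)⟩
  have hs : ∀ {M : Type} [AddCommMonoid M] (f : ℕ × ℤ → M),
      (((b.F.natAbs, T μ) ::ₘ b.X0.val.map (fun χ => (dg χ, T χ))).map f).sum =
        f (b.F.natAbs, T μ) + ∑ χ ∈ b.X0, f (dg χ, T χ) := by
    intro M _ f
    rw [Multiset.map_cons, Multiset.sum_cons, Multiset.map_map]
    rfl
  refine ⟨T μ, k, _, hk2, fun hi => ?_, rfl, ?_, fun x hx => ?_, ?_, ?_, ?_⟩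
  · have : 0 < (invSet b.x y).card := card_pos.2 ⟨y, mem_filter.2 ⟨mem_univ _, IsConj.refl y, hi⟩⟩
    rw [hk1] at this
    have := Nat.pos_of_mul_pos_left this
    omega
  · rw [b.map_S _ hY, Multiset.cons_add, ← Multiset.add_cons, ← Multiset.replicate_succ, Nat.sub_add_cancel t0]
  · rcases Multiset.mem_cons.1 hx with rfl | hx
    · have := h4 μ
      rw [show dg μ = b.F.natAbs from congrArg Prod.fst (hY μ hμ)] at this
      exact ⟨this.1, sY.2 ▸ t0, this.2⟩
    · obtain ⟨χ, hχ, rfl⟩ := Multiset.mem_map.1 hx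
      exact ⟨(h4 χ).1, (sX χ hχ).2 ▸ one_pos, (h4 χ).2⟩
  · have := b.B.rel μ hμ y hyp
    rw [b.sum_X, b.B.s_one] at this
    simp only [hT, hT1] at this
    rw [hs, sY.1, sum_congr rfl fun χ hχ => by rw [(sX χ hχ).1]]
    have h5 : b.B.ε * T μ = 1 * 1 + ∑ χ ∈ b.X0, b.B.s χ * T χ := by exact_mod_cast this
    linear_combination -h5
  · have h1 := b.B.q2 b.pp b.p2 b.hx b.sq hy2 hy2 hμ
    have hi := b.index_eq
    rw [hv, mul_one] at hi
    have h2 : ∀ d : ℕ, d ∣ g / p → 0 < d → ((g / p / d : ℕ) : ℂ) = (g / p : ℕ) / d :=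
      fun d h1 h2 => Nat.cast_div h1 (Nat.cast_ne_zero.mpr h2.ne')
    have h3 : (g : ℂ) = (g / p : ℕ) * p := by
      have := (Subgroup.centralizer ({b.x} : Set G)).index_mul_card
      rw [b.card, b.hv, hi, hv, mul_one] at this
      exact_mod_cast this.symm
    have h4 : (p : ℂ) * p ≠ 0 := by simpa using b.pp.ne_zero
    rw [b.sum_X, b.B.s_one, charDegree_irrOne, hk1, b.card, b.hv, hv] at h1
    simp only [hT, hT1] at h1
    rw [hs, sY.1, natAbs_F, ← Int.cast_inj (α := ℂ)]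
    apply mul_left_cancel₀ h4
    simp only [Int.cast_mul, Int.cast_sub, Int.cast_add, Int.cast_natCast, Int.cast_sum]
    rw [h2 _ (hi ▸ b.B.f_dvd b.pp b.hx) (b.B.f_pos b.pp), sum_congr rfl (g := fun χ =>
      ((g / p : ℕ) : ℂ) * (b.B.s χ * (T χ * T χ / dg χ))) fun χ hχ => by
        rw [h2 _ (hi ▸ b.B.X_dvd b.hx (b.mem_X0.mp hχ).2) (degree_pos χ), (sX χ hχ).1]
        ring, ← mul_sum]
    generalize ((g / p : ℕ) : ℂ) = M at h3 ⊢
    rw [h3] at h1
    push_cast at h1 ⊢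
    linear_combination h1
  · rw [hs, b.map_S _ hY, Multiset.map_add, Multiset.sum_add, Multiset.map_replicate, Multiset.sum_replicate,
      Multiset.map_map, sY.2, sum_congr rfl fun χ hχ => by rw [(sX χ hχ).2, one_mul], add_comm]
    rfl

theorem cc_term {d : ℕ} {a : ℤ} (h1 : 21 ≤ d) (h2 : a.natAbs ≤ bd d) :
    3220 * (sn 11 10 d * (a * a * (22256640 / d : ℕ))) ≤ 3 * 22256640 * ((a.natAbs * a.natAbs : ℕ) + 4900) := by
  rw [Int.natAbs_mul_self]
  have h3 := mul_self_nonneg a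
  by_cases h : d % 11 = 1
  · rw [show sn 11 10 d = 1 by simp [sn, ng, h], one_mul, ← Int.natAbs_mul_self]
    rw [bd, h] at h2
    generalize a.natAbs = n at h2
    have h4 : 23 * n ≤ 3 * d := by omega
    have h5 : 22256640 / d * d ≤ 22256640 := Nat.div_mul_le_self _ _
    generalize 22256640 / d = w at h5
    have h6 : 23 * n * w ≤ 3 * 22256640 := by nlinarith
    have h7 : (140 : ℤ) * n ≤ n * n + 4900 := by nlinarith [sq_nonneg ((n : ℤ) - 70)]
    have h8 : (23 : ℤ) * n * w ≤ 3 * 22256640 := by exact_mod_cast h6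
    push_cast
    nlinarith [Int.natCast_nonneg n]
  · rw [show sn 11 10 d = -1 by simp [sn, ng, h]]
    have := mul_nonneg h3 (Int.natCast_nonneg (22256640 / d))
    linarith

theorem cc_lt_44300 (b : PBk G 244823040 11) (bv : b.v = 1) (be : b.e = 10) {t : G} (ht : orderOf t = 2)
    {T : IrrCharacter G → ℤ} (hT : ∀ χ : IrrCharacter G, (χ : G → ℂ) t = T χ) (hi : t * b.x * t⁻¹ = b.x⁻¹)
    (hb : ∀ χ : IrrCharacter G, (T χ).natAbs ≤ bd (dg χ)) : cc t < 44300 := by
  obtain ⟨a, k, m, -, h1, h2, h3, -, -, h4, -⟩ := b.exists_Z bv ht hT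
  rw [be] at h3 h4
  rw [show (11 - 1) / 10 - 1 = 0 from rfl, Multiset.replicate_zero, add_zero] at h3
  have h5 : m.card = 10 := by
    classical
    have h6 := b.B.card_X
    have h7 := card_erase_add_one b.B.one_mem
    rw [h2, Multiset.card_cons, Multiset.card_map, card_val, PBk.X0]
    exact (by convert h7 : _ = b.B.X.card).trans (h6.trans be)
  have h6 := (Sub.of_eq b.one_notMem (h3.trans m.coe_toList.symm)).sq_le hT
  rw [← Multiset.sum_coe, ← Multiset.map_coe, Multiset.coe_toList] at h6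
  have h7 := Multiset.sum_map_le_sum_map (s := m)
    (fun x => 3220 * (sn 11 10 x.1 * (x.2 * x.2 * (22256640 / x.1 : ℕ))))
    (fun x => 3 * 22256640 * (((x.2.natAbs * x.2.natAbs : ℕ) : ℤ) + 4900)) fun x hx => by
      obtain ⟨χ, hχ, rfl⟩ := Multiset.mem_map.1 (h3 ▸ hx)
      exact cc_term (deg21 b.card fun e => b.one_notMem (e ▸ hχ)) (hb χ)
  rw [Multiset.sum_map_mul_left, Multiset.sum_map_mul_left, Multiset.sum_map_add, Multiset.map_const',
    Multiset.sum_replicate, h5] at h7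
  have h8 : (m.map fun x => ((x.2.natAbs * x.2.natAbs : ℕ) : ℤ)).sum =
      ((m.map fun x => x.2.natAbs * x.2.natAbs).sum : ℕ) := by
    rw [Nat.cast_multiset_sum, Multiset.map_map]; rfl
  rw [h1 hi, show 244823040 / 11 = 22256640 from rfl, one_mul] at h4
  rw [h8] at h7
  generalize (m.map fun x => x.2.natAbs * x.2.natAbs).sum = s at h6 h7
  generalize (m.map fun x => sn 11 10 x.1 * (x.2 * x.2 * (22256640 / x.1 : ℕ))).sum = u at h4 h7
  generalize cc t = K at h4 h6
  by_contra h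
  have h9 : (44300 : ℤ) ≤ K := by omega
  have h10 : (s : ℤ) ≤ K := by omega
  push_cast at h4 h7
  simp only [nsmul_eq_mul, Nat.cast_ofNat] at h7
  have h11 : (44300 : ℤ) * K ≤ K * K := mul_le_mul_of_nonneg_right h9 (Int.natCast_nonneg K)
  linarith

/-- Lists without common members can be joined. -/
theorem Sub.append {α : Type*} {φ : IrrCharacter G → α} {l l' : List α} (h : Sub φ l) (h' : Sub φ l')
    (hd : ∀ a ∈ l, a ∉ l') : Sub φ (l ++ l') := by
  classical
  have := Multiset.union_le_iff.mpr ⟨h, h'⟩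
  rwa [← Multiset.add_eq_union_iff_disjoint.2 (Multiset.disjoint_left.2 fun h1 h2 => hd _ h1 h2),
    Multiset.coe_add] at this

/-- The members of `B₀(q)`: those of degree prime to `p` lie in `B₀(p)`. -/
theorem PBk.split {g p q : ℕ} (a : PBk G g p) (b : PBk G g q) (av : a.v = 1) (bv : b.v = 1) {α : Type*}
    (φ : IrrCharacter G → α) (κ : α → ℕ) (hκ : ∀ χ, κ (φ χ) = dg χ) :
    b.S.val.map φ = (a.S.val.map φ).filter (fun x => κ x % q ≠ 0) + (b.S.val.map φ).filter (fun x => κ x % p = 0) := by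
  conv_lhs => rw [← Multiset.filter_add_not (fun x => κ x % p = 0) (b.S.val.map φ), add_comm]
  congr 1
  rw [Multiset.filter_map, Multiset.filter_map, ← filter_val, ← filter_val]
  congr 2
  ext χ
  simp only [mem_filter, Function.comp, hκ, ← Nat.dvd_iff_mod_eq_zero, ne_eq]
  exact ⟨fun h => ⟨a.mem_S av (fun e => b.one_notMem (e ▸ h.1)) h.2, b.not_dvd h.1⟩,
    fun h => ⟨b.mem_S bv (fun e => a.one_notMem (e ▸ h.1)) h.2, a.not_dvd h.1⟩⟩

open scoped Classical in
/-- The degrees not divisible by `p q`. -/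
theorem PBk.filter_mul {g p q : ℕ} (a : PBk G g p) (b : PBk G g q) (av : a.v = 1) (bv : b.v = 1) (h : p ≠ q) :
    ((univ.erase (irrOne G)).val.map fun χ => dg χ).filter (¬ p * q ∣ ·) =
      a.S.val.map (fun χ => dg χ) + (b.S.val.map fun χ => dg χ).filter (· % p = 0) := by
  rw [← a.filter_eq av, ← b.filter_eq bv, Multiset.filter_filter]
  conv_lhs => rw [← Multiset.filter_add_not (¬ p ∣ ·) (Multiset.filter _ _), Multiset.filter_filter,
    Multiset.filter_filter]
  congr 1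
  · exact Multiset.filter_congr fun d _ => ⟨fun k => k.1, fun k => ⟨k, fun e => k (Dvd.dvd.trans (Dvd.intro _ rfl) e)⟩⟩
  · refine Multiset.filter_congr fun d _ => ?_
    rw [not_not, ← Nat.dvd_iff_mod_eq_zero]
    exact and_congr_right fun k => not_congr ⟨fun e => Dvd.dvd.trans (Dvd.intro_left _ rfl) e,
      ((Nat.coprime_primes a.pp b.pp).2 h).mul_dvd_of_dvd_of_dvd k⟩

end CL.Spor.MO
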