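/-
Simple groups of order 244823040: the Sylow 23- and 11-subgroups are self-centralising.
-/
import Cfsg.Agent.Spor.MO24B
import Cfsg.Agent.Spor.MO24C
import Cfsg.Agent.Spor.MOZ
import Cfsg.Agent.Spor.MOInv
import Cfsg.Agent.Spor.MOTri

set_option autoImplicit false
set_option maxRecDepth 100000

open Cfsg Finset CL.Char

namespace CL.Spor.MO

variable {G : Type*} [Group G] [Finite G] [IsSimpleGroup G]

theorem exists_ab (hG : Nat.card G = 244823040) : ∃ (a : PBk G 244823040 23) (b : PBk G 244823040 11),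
    a.v = 1 ∧ a.e = 11 ∧ b.v = 1 ∧ b.e = 10 ∧ ∀ χ : IrrCharacter G, χ ≠ irrOne G → dg χ ∈ F24 := by
  have hc := not_comm_of_card hG (by norm_num)
  obtain ⟨a⟩ := nonempty_blk (p := 23) hG hc (by norm_num) (by norm_num) (by norm_num) (by norm_num)
  obtain ⟨b⟩ := nonempty_blk (p := 11) hG hc (by norm_num) (by norm_num) (by norm_num) (by norm_num)
  obtain ⟨s⟩ := nonempty_blk (p := 7) hG hc (by norm_num) (by norm_num) (by norm_num) (by norm_num)
  have hD : ∀ χ : IrrCharacter G, χ ≠ irrOne G → dg χ ∈ D24 := fun χ h =>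
    c24_0 _ (a.mem_of_deg mem_A24 h) (deg21 hG h)
  obtain ⟨ae, av⟩ : a.e = 11 ∧ a.v = 1 := by
    rcases c24_1 _ (a.mem_caseL mem_A24) with h | h | ⟨h1, h2, h⟩
    · simpa using h
    · exact (a.ychkR_false mem_A24 (by decide +kernel) hD (by simp) (fun _ _ => rfl) h).elim
    · exact (a.one_false mem_A24 hD (.inr ⟨by norm_num, Nat.dvd_of_mod_eq_zero h1, 10,
        fun k => h2 (Nat.mod_eq_zero_of_dvd k), by decide⟩) (by simpa using a.exists_odd_deg) (fun _ _ => rfl) h).elim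
  have hE : ∀ χ : IrrCharacter G, χ ≠ irrOne G → dg χ ∈ E24 := fun χ h =>
    (by decide +kernel : ∀ d ∈ D24, d % 23 = 0 ∨ d % 23 = 1 ∨ d % 23 = 23 - 1 ∨ d % 23 = 11 ∨ d % 23 = 23 - 11 →
      d ∈ E24) _ (hD χ h) (ae ▸ a.deg_mod av h)
  have sE : E24.Pairwise (· < ·) := by decide +kernel
  have s23 := a.v_mod s (by norm_num) (by omega)
  have s11 : s.v % 11 ≠ 0 := fun h => by
    have := s.deg_true rfl rfl (((c24_2 _ (s.mem_caseL mem_A24)).resolve_left s23).resolve_left (not_not.mpr h)) sE hE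
    simp [s.rq_false (qs := [3, 5, 11]) (by decide)] at this
  have hK : ∀ y : G, orderOf y = 2 → (cc y % 23 == 0 || K24.elem (cc y)) = false := fun y hy => by
    rw [Bool.or_eq_false_iff, ← Bool.not_eq_true (K24.elem _), List.elem_iff]
    refine ⟨by simpa using a.cc_mod (by omega) hy, fun h => ?_⟩
    have h7 := (by decide : ∀ K ∈ K24, 7 ∣ K) _ h
    have he : s.e ∈ [2, 3, 6] := (by decide : ∀ e ∈ List.range 7, e ∣ 7 - 1 → e ≠ 1 → e ∈ [2, 3, 6]) _
      (List.mem_range.mpr s.e_bd.2) s.B.e_dvd (s.B.e_ne_one s.perf s.pp s.hx s.sq)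
    have := s.deg_true' rfl rfl ((((c24_3 _ (s.mem_caseL mem_A24)).resolve_left s23).resolve_left s11).resolve_left
      (not_not.mpr (Nat.mod_eq_zero_of_dvd (s.dvd_v Nat.prime_two (by norm_num) hy h7)))) (by decide +kernel)
      fun χ hχ => (c24_3a _ (hE χ fun e => s.one_notMem (e ▸ hχ))).resolve_right fun k => by
        simpa [s.oneK_false hχ hy h7] using k _ h _ he
    rw [s.rq_false (by decide), Bool.false_or] at this
    obtain ⟨T, hT, -⟩ := exists_invol_values s.perf hy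
    obtain ⟨-, -, k⟩ := s.val_true hy hT (List.all_eq_true.mp this _ h)
    simp at k
  have hr : rok b.e b.v (r11 b.e b.v) := by
    unfold r11
    split_ifs with h
    · exact .inr ⟨by norm_num, Nat.dvd_of_mod_eq_zero h.1, 4, fun k => h.2 (Nat.mod_eq_zero_of_dvd k), by decide⟩
    · exact .inl rfl
  obtain ⟨be, bv⟩ : b.e = 10 ∧ b.v = 1 := by
    rcases ((c24_11 _ (b.mem_caseL mem_A24)).resolve_left (a.v_mod b (by norm_num) (by omega))).resolve_left
      (s.v_mod b (by norm_num) s11) with h | ⟨h1, h⟩ | h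
    · simpa using h
    · exact (b.one_false mem_A24 hE hr (by simpa using b.exists_sel h1) hK h).elim
    · exact (b.ychk2_false mem_A24 sE hE (by decide) hr hK h).elim
  exact ⟨a, b, av, ae, bv, be, fun χ h => (by decide +kernel : ∀ d ∈ E24,
    d % 11 = 0 ∨ d % 11 = 1 ∨ d % 11 = 11 - 1 ∨ d % 11 = 10 ∨ d % 11 = 11 - 10 → d ∈ F24) _ (hE χ h)
      (be ▸ b.deg_mod bv h)⟩

theorem exists_M24A (hG : Nat.card G = 244823040) : ∃ (D : M24A G) (t : G) (T : IrrCharacter G → ℤ),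
    (∀ χ : IrrCharacter G, χ ≠ irrOne G → dg χ ∈ F24) ∧ orderOf t = 2 ∧ (∀ χ : IrrCharacter G, (χ : G → ℂ) t = T χ) ∧
    t * D.b.x * t⁻¹ = D.b.x⁻¹ ∧ (∀ χ : IrrCharacter G, (T χ).natAbs ≤ bd (dg χ)) ∧ ∃ r ∈ T24, cc t = r.1 ∧
    D.c.S.val.map (fun χ => (dg χ, T χ)) = (r.2.1 ++ [(5544, r.2.2.1), (5796, r.2.2.2)] : List _) := by
  obtain ⟨a, b, av, ae, bv, be, hF⟩ := exists_ab hG
  obtain ⟨c⟩ := nonempty_blk (p := 5) hG a.nc (by norm_num) (by norm_num) (by norm_num) (by norm_num)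
  obtain ⟨t, T, ht, hT, hi, h5, hb⟩ := exists_t b bv be
  have h2 := two_dvd_cc ht
  have h1 := c.deg_true rfl rfl ((((c24_5 _ (c.mem_caseL mem_A24)).resolve_left
    (a.v_mod c (by norm_num) (by omega))).resolve_left (b.v_mod c (by norm_num) (by omega))).resolve_left
    (not_not.mpr (Nat.mod_eq_zero_of_dvd (c.dvd_v Nat.prime_two (by norm_num) ht h5)))) (by decide +kernel) hF
  obtain ⟨l, k1, k2⟩ := c.val_true ht hT (List.all_eq_true.mp h1 _ (c24_4 _ (mem_A24 _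
    (hG ▸ Subgroup.card_subgroup_dvd_card _)) (by omega) (b.cc_mod (by omega) ht) (a.cc_mod (by omega) ht)
    (cc_lt_44300 b bv be ht hT hi hb)))
  rw [show (l.all fun x => Nat.ble x.2.natAbs (bd x.1)) = true from List.all_eq_true.mpr fun x hx => by
    obtain ⟨χ, -, rfl⟩ := Multiset.mem_map.mp (k1.symm ▸ Multiset.mem_coe.mpr hx)
    exact Nat.ble_eq.mpr (hb χ)] at k2
  simp only [Bool.not_true, Bool.false_or, Bool.and_eq_true, beq_iff_eq, List.any_eq_true, List.isPerm_iff] at k2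
  obtain ⟨ce, r, hr, hK, k3⟩ := k2
  have k4 := k1.trans (Multiset.coe_eq_coe.mpr k3)
  refine ⟨⟨a, b, c, av, ae, bv, be, ce, fun ψ h9 h27 => (by decide +kernel : ∀ d ∈ F24, 9 ∣ d → ¬ 27 ∣ d → d ∈ N9) _
    (hF ψ fun e => by simp [e, charDegree_irrOne] at h9) h9 h27, fun ψ hψ h9 => ?_⟩, t, T, hF, ht, hT, hi, hb, r, hr,
    hK.symm, k4⟩
  have := Multiset.mem_map_of_mem Prod.fst (k4 ▸ Multiset.mem_map_of_mem (fun χ => (dg χ, T χ)) hψ)
  rw [Multiset.map_coe, List.map_append] at this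
  rcases c24_6 r hr with h | h <;> simp [h] at this <;> omega

omit [IsSimpleGroup G] in
theorem M24A.tri_5544' (D : M24A G) {χ : IrrCharacter G} (h : χ ∈ D.c.S) (hd : dg χ = 5544)
    (h1 : (fd 23 11 D.a.c D.a.F).count 5544 ≤ 2) (h2 : 2772 ∉ D.a.c) :
    ∃ ψ φ : IrrCharacter G, dg ψ = 252 ∧ dg φ = 5796 ∧
      ∀ u, ¬ 3 ∣ orderOf u → (ψ : G → ℂ) u + (χ : G → ℂ) u = (φ : G → ℂ) u := by
  have h9 : MO.n9 (dg χ) = true := by rw [hd]; decide
  obtain ⟨ψ, φ, n1, n2, t, l, hn⟩ := D.partners h9 (by omega) (hd ▸ h1)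
  have ok := D.okD_of h9 n1 n2 t
  have nb := D.not_bad h hd n1 n2 t
  rw [hd] at ok hn
  rcases (by decide : ∀ y ∈ N9, ∀ z ∈ N9, okD 5544 y z = true → y ≤ z → ¬ 5 ∣ y → ¬ (y = 5544 ∧ z = 5544) →
      y = 2772 ∧ z = 2772 ∨ y = 252 ∧ z = 5796) _ (D.mem_N9 n1) _ (D.mem_N9 n2) ok l nb hn with e | e
  · have hY : ∀ ξ : IrrCharacter G, dg ξ = 2772 → ξ ∈ D.a.B.Y := fun ξ k =>
      D.a.mem_Y (D.a.mem_S D.av (ne_irrOne (by omega)) (by omega)) (k ▸ h2)
    rcases t with ⟨t | t | t, -⟩ | t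
    · have := t.deg; omega
    · have := t.deg; omega
    · have h3 := t D.c.x (by rw [D.c.hx]; norm_num)
      rw [D.c.val_top D.ce h D.c.hx.symm.dvd, hd,
        ← D.a.B.Y_reg (hY ψ e.1) (hY φ e.2) (by rw [D.c.hx]; norm_num)] at h3
      obtain ⟨m, hm⟩ := exists_int_of_mul_nat_of_isIntegral (a := 2) (b := 1) (n := sg 5 5544) (by norm_num) two_ne_zero
        (by rw [← h3]; push_cast; ring) (by simpa using isChar_isIntegral ψ.2.isCharacter D.c.x)
      rw [hm] at h3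
      have : m + m = sg 5 5544 := by exact_mod_cast h3
      simp only [sg] at this
      omega
    · have := trT_deg t; omega
  refine ⟨ψ, φ, e.1, e.2, ?_⟩
  rcases t with ⟨t | t | t, -⟩ | t
  · exact t.symm
  · have := t.deg; omega
  · have := t.deg; omega
  · have := trT_deg t; omega

end CL.Spor.MO
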