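/-
Simple groups of order 244823040: the structure of the principal blocks.
-/
import Cfsg.Agent.Spor.MO24F
import Cfsg.Agent.Spor.MO24G

set_option autoImplicit false
set_option maxRecDepth 100000

open Cfsg Finset CL.Char

namespace CL.Spor.MO

variable {G : Type*} [Group G] [Finite G] [IsSimpleGroup G]

namespace M24A

variable (D : M24A G)

omit [IsSimpleGroup G] in
theorem mem_X0 {χ : IrrCharacter G} {d : ℕ} (h : dg χ = d) (h1 : d ≠ 1) (h2 : d % 23 = 1 ∨ d % 23 = 22) :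
    χ ∈ D.a.X0 :=
  (D.a.mem_S_iff.mp (D.a.mem_S D.av (ne_irrOne (h ▸ h1)) (by omega))).resolve_right fun k => by
    have := D.a.f_mod
    rw [D.ae, ← D.a.B.deg_Y χ k] at this
    omega

theorem sub {T : IrrCharacter G → ℤ} {X z n : List (ℕ × ℤ)} (hX : Sub (fun χ => (dg χ, T χ)) X)
    (hX' : ∀ x ∈ X, 253 ∣ x.1) (hz : D.a.S.val.map (fun χ => (dg χ, T χ)) = z)
    (hn : (n : Multiset _) ≤ (D.b.S.val.map fun χ => (dg χ, T χ)).filter fun x => x.1 % 23 = 0) :
    Sub (fun χ => (dg χ, T χ)) (X ++ (z ++ n)) := by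
  have h1 : ∀ x ∈ z, ¬ 23 ∣ x.1 := fun x hx => by
    obtain ⟨χ, k, rfl⟩ := Multiset.mem_map.mp (hz.symm ▸ Multiset.mem_coe.mpr hx)
    exact D.a.not_dvd k
  have h2 : ∀ x ∈ n, x.1 % 23 = 0 ∧ ¬ 11 ∣ x.1 := fun x hx => by
    obtain ⟨k1, k2⟩ := Multiset.mem_filter.mp (Multiset.mem_of_le hn (Multiset.mem_coe.mpr hx))
    obtain ⟨χ, k, rfl⟩ := Multiset.mem_map.mp k1
    exact ⟨k2, D.b.not_dvd k⟩
  refine hX.append ((Sub.of_eq D.a.one_notMem hz).append ((hn.trans (Multiset.filter_le _ _)).trans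
    ((Multiset.coe_toList _).symm.le.trans (Sub.of_eq D.b.one_notMem (Multiset.coe_toList _).symm))) fun x k1 k2 => ?_)
    fun x k1 k2 => ?_
  · have := h1 x k1
    have := h2 x k2
    omega
  · have := hX' x k1
    rcases List.mem_append.mp k2 with k | k
    · have := h1 x k
      omega
    · have := h2 x k
      omega

theorem mem_R24 (hF : ∀ χ : IrrCharacter G, χ ≠ irrOne G → dg χ ∈ F24) {χ : IrrCharacter G} (h : χ ∈ D.c.S)
    (hd : dg χ = 5544) : (D.a.c, D.a.F) ∈ R24 := by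
  have h1 := D.a.deg_true D.ae D.av c24_7 (by decide +kernel) hF
  rw [D.chk3_true h hd (by norm_num) ((D.a.filter_eq D.av).trans (D.ae ▸ D.a.map_dg)) Sub.nil (by simp),
    ssum_true D.a D.b D.av D.bv D.a D.av, List.elem_iff.mpr (hd ▸ D.a.mem_c (D.mem_X0 hd (by omega) (by omega))),
    show (D.a.c.elem 252 || Nat.blt 2 ((fd 23 11 D.a.c D.a.F).count 5544) || D.a.c.elem 2772) = true by
      simp only [Bool.or_eq_true, List.elem_iff, Nat.blt_eq]
      by_contra hn
      obtain ⟨ψ, -, k, -⟩ := D.tri_5544' h hd (by omega) (by tauto)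
      exact hn (.inl (.inl (k ▸ D.a.mem_c (D.mem_X0 k (by omega) (by omega)))))] at h1
  simpa using h1

theorem mem_S24 (hF : ∀ χ : IrrCharacter G, χ ≠ irrOne G → dg χ ∈ F24) {χ : IrrCharacter G} (h : χ ∈ D.c.S)
    (hd : dg χ = 5544) {X : List ℕ} (hX : Sub (fun ψ : IrrCharacter G => dg ψ) X)
    (hX' : X = [506, 759] ∨ X = [1771, 2024]) {m : Multiset ℕ}
    (hm : (D.b.S.val.map fun ψ => dg ψ).filter (· % 23 = 0) = 5796 ::ₘ m) :
    ∃ w ∈ S24, w.1 = X ∧ w.2.1 = (D.a.c, D.a.F) ∧ ∃ y ∈ w.2.2.2, m = (y.1 ++ [y.2] : List ℕ) := by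
  classical
  have hA : D.a.S.val.map (fun ψ => dg ψ) = fd 23 11 D.a.c D.a.F := D.ae ▸ D.a.map_dg
  have h1 := D.a.split D.b D.av D.bv (fun ψ => dg ψ) id fun _ => rfl
  simp only [id, hm, hA, Multiset.filter_coe] at h1
  have h2 := D.a.filter_mul D.b D.av D.bv (by norm_num)
  rw [hm, hA, ← Multiset.sort_eq m (· ≤ ·), ← Multiset.coe_reverse (m.sort _), Multiset.cons_coe,
    Multiset.coe_add] at h2
  have h3 : ∀ d ∈ X, 253 ∣ d ∧ ¬ 9 ∣ d := by rcases hX' with rfl | rfl <;> decide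
  have h4 := (hX.append (l' := fd 23 11 D.a.c D.a.F ++ 5796 :: (m.sort (· ≤ ·)).reverse)
    (h2.symm.le.trans (Multiset.filter_le _ _)) fun d k1 k2 => by
      rw [← Multiset.mem_coe, ← h2] at k2
      exact Multiset.of_mem_filter k2 (h3 d k1).1).deg_sq_le
  have h5 := dG_sound (c24_8 X (by simpa using hX') _ (D.mem_R24 hF h hd)) (by decide +kernel)
    (L := m.sort (· ≤ ·)) (Multiset.pairwise_sort _ _) ?_ (fun d k => ?_) ?_ ?_
  · rw [D.chk3_true h hd (by norm_num) h2 hX h3] at h5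
    simp only [Bool.not_true, Bool.false_or, List.any_eq_true, Bool.and_eq_true, beq_iff_eq, List.isPerm_iff] at h5
    obtain ⟨w, k1, ⟨k2, k3⟩, y, k4, k5⟩ := h5
    exact ⟨w, k1, k2, k3, y, k4, by rw [← Multiset.coe_eq_coe.mpr k5, Multiset.coe_reverse, Multiset.sort_eq]⟩
  · have := congrArg Multiset.card h1
    rw [Multiset.card_map, ← card_def, D.b.card_S, D.be] at this
    simp only [Multiset.card_add, Multiset.coe_card, Multiset.card_cons, Multiset.length_sort] at this ⊢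
    omega
  · obtain ⟨k1, k2⟩ := Multiset.mem_filter.mp (hm.symm ▸ Multiset.mem_cons_of_mem ((Multiset.mem_sort _).mp k))
    obtain ⟨ψ, k3, rfl⟩ := Multiset.mem_map.mp k1
    exact (by decide +kernel : ∀ d ∈ F24, d % 23 = 0 → ¬ 11 ∣ d → d ∈ M24L) _
      (hF ψ fun e => D.b.one_notMem (e ▸ k3)) k2 (D.b.not_dvd k3)
  · have k1 := D.b.lin_top D.be (u := 1) (by simp)
    simp only [← IsIrrCharacter.cast_charDegree (Subtype.prop _)] at k1
    have k2 : 1 + ((D.b.S.val.map fun ψ => dg ψ).map fun d => sg 11 d * d).sum = 0 := by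
      rw [Multiset.map_map]
      exact_mod_cast k1
    rw [h1, Multiset.map_add, Multiset.sum_add, Multiset.map_cons, Multiset.sum_cons, ← Multiset.sort_eq m (· ≤ ·),
      Multiset.map_coe, Multiset.map_coe, Multiset.sum_coe, Multiset.sum_coe] at k2
    simp only [show sg 11 5796 = -1 by decide] at k2 ⊢
    omega
  · simp only [List.map_append, List.sum_append, List.map_cons, List.sum_cons, List.map_reverse, List.sum_reverse,
      List.map_nil, List.sum_nil, D.a.card] at h4 ⊢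
    omega

end M24A

theorem nonempty_M24B (hG : Nat.card G = 244823040) : Nonempty (M24B G) := by
  classical
  obtain ⟨D, t, T, hF, ht, hT, hi, hb, ⟨K, X, a, b⟩, hr, hK, hc⟩ := exists_M24A hG
  simp only at hK hc
  obtain ⟨χ, hχ, e1⟩ : ∃ χ ∈ D.c.S, (dg χ, T χ) = (5544, a) := Multiset.mem_map.mp (by rw [hc]; simp)
  obtain ⟨η, -, e2⟩ : ∃ χ ∈ D.c.S, (dg χ, T χ) = (5796, b) := Multiset.mem_map.mp (by rw [hc]; simp)
  have d1 : dg χ = 5544 := congrArg Prod.fst e1
  have d2 : dg η = 5796 := congrArg Prod.fst e2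
  have hX : Sub (fun χ => (dg χ, T χ)) X :=
    (Multiset.coe_le.mpr (List.sublist_append_left _ _).subperm).trans
      (Sub.of_eq D.c.one_notMem hc)
  have hX' : ∀ x ∈ X, 253 ∣ x.1 := fun x hx => by
    have := List.mem_map_of_mem (f := Prod.fst) hx
    rcases c24_6 _ hr with h | h <;> simp only [h] at this <;> simp at this <;> omega
  have hN : ∀ ψ : IrrCharacter G, dg ψ % 23 = 0 → ¬ 11 ∣ dg ψ →
      (dg ψ, T ψ) ∈ (D.b.S.val.map fun χ => (dg χ, T χ)).filter fun x => x.1 % 23 = 0 := fun ψ k1 k2 =>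
    Multiset.mem_filter.mpr ⟨Multiset.mem_map_of_mem _ (D.b.mem_S D.bv (ne_irrOne (by omega)) k2), k1⟩
  obtain ⟨m2, hm2⟩ := Multiset.exists_cons_of_mem (e2 ▸ hN η (by omega) (by omega))
  have hm : (D.b.S.val.map fun ψ => dg ψ).filter (· % 23 = 0) = 5796 ::ₘ m2.map Prod.fst := by
    rw [← Multiset.map_cons Prod.fst ((5796, b) : ℕ × ℤ), ← hm2, Multiset.filter_map, Multiset.filter_map,
      Multiset.map_map]
    rfl
  obtain ⟨⟨_, _, ⟨c1, dl⟩, ms⟩, hw, rfl, rfl, y, hy, hy'⟩ := D.mem_S24 hF hχ d1 hX.fst (c24_6 _ hr) hm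
  obtain ⟨k1, k2, k3, k4⟩ := c24_9 _ hw
  simp only at hy k1 k2 k3 k4
  obtain ⟨ψ, φ, d3, d4, k5⟩ := D.tri_5544' hχ d1 k1 k2
  have e3 : (dg ψ, T ψ) = (252, b - a) := by
    have h1 := hm2 ▸ hN φ (by omega) (by omega)
    have h2 := (Multiset.mem_cons.mp h1).resolve_right fun k => k4 y hy (by
      rw [← Multiset.mem_coe, ← hy', ← d4]
      exact Multiset.mem_map_of_mem Prod.fst k)
    have h3 := k5 t (by rw [ht]; norm_num)
    simp only [hT] at h3
    have h4 : T ψ + T χ = T φ := by exact_mod_cast h3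
    simp only [Prod.mk.injEq] at h2 e1 ⊢
    omega
  obtain ⟨u, k, m, h1, -, h2, h3, h4, h5, h6, h7⟩ := D.a.exists_Z D.av ht hT
  rw [D.ae] at h1 h3 h4 h5 h6 h7
  obtain rfl := h1 rfl
  have hbd : ∀ {p : ℕ} (c : PBk G 244823040 p), ∀ x ∈ c.S.val.map fun χ => (dg χ, T χ), x.2.natAbs ≤ bd x.1 :=
    fun c x hx => by
      obtain ⟨χ, -, rfl⟩ := Multiset.mem_map.mp hx
      exact hb χ
  have h8 : ∀ ξ ∈ D.a.X0, (dg ξ, T ξ) ∈ m := fun ξ k => h2 ▸ Multiset.mem_cons_of_mem (Multiset.mem_map_of_mem _ k)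
  obtain ⟨m, rfl⟩ := Multiset.exists_cons_of_mem (e3 ▸ h8 ψ (D.mem_X0 d3 (by omega) (by omega)))
  obtain ⟨m, rfl⟩ := Multiset.exists_cons_of_mem
    ((Multiset.mem_cons.mp (e1 ▸ h8 χ (D.mem_X0 d1 (by omega) (by omega)))).resolve_left (by simp))
  have h9 : m.map Prod.fst = (c1 ++ [dl] : List ℕ) := by
    have := congrArg (Multiset.map Prod.fst) h2
    rw [Multiset.map_cons, Multiset.map_cons, Multiset.map_cons, Multiset.map_map] at this
    rw [← Multiset.cons_inj_right 5544, ← Multiset.cons_inj_right 252, Multiset.cons_coe, Multiset.cons_coe,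
      Multiset.coe_eq_coe.mpr k3, ← Multiset.cons_coe, ← D.a.map_X0]
    exact this
  have h10 : (D.a.F.natAbs, u) ∈ m := by
    have := D.a.f_mod
    rw [D.ae, ← D.a.natAbs_F] at this
    have h : (D.a.F.natAbs, u) ∈ (252, b - a) ::ₘ (5544, a) ::ₘ m := h2 ▸ Multiset.mem_cons_self _ _
    simp only [Multiset.mem_cons, Prod.mk.injEq] at h
    exact (h.resolve_left (by omega)).resolve_left (by omega)
  have h11 := (h4 _ (Multiset.mem_cons_self _ _)).2.2.2
  have h12 := (D.sub hX hX' (Multiset.coe_toList _).symm (n := [(5796, b)]) (by simp [hm2])).sq_le hT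
  rw [List.map_append, List.map_append, List.sum_append, List.sum_append, Multiset.sum_map_toList, ← h7] at h12
  simp only [Multiset.map_cons, Multiset.sum_cons, show sn 23 11 252 = -1 by decide, show sn 23 11 5544 = 1 by decide,
    show wn 23 11 252 = 1 by decide, show wn 23 11 5544 = 1 by decide] at h5 h6 h12
  obtain ⟨l, rfl, h13⟩ := tAll_sound (c24_10 _ hw _ hr rfl
    (by simpa [bd] using hbd D.a (252, b - a) (by simp [h3])) (hK ▸ h11)) h9
    (fun x hx => by
      have := h4 x (by simp [hx])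
      exact ⟨this.1, this.2.1, hbd D.a x (by simp [h3, hx]), this.2.2.1, hK ▸ this.2.2.2⟩)
    (by linear_combination h5) (by norm_num at h6 ⊢; linear_combination h6) (by simp [sqs] at h12 ⊢; omega)
  have h14 := List.all_eq_true.mp h13 _ h10
  simp only [bne_self_eq_false, Bool.false_or] at h14
  have hz : D.a.S.val.map (fun χ => (dg χ, T χ)) =
      ((252, b - a) :: (5544, a) :: (l ++ [(D.a.F.natAbs, u)]) : List _) := by
    rw [h3, Multiset.cons_add, Multiset.cons_add]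
    rfl
  generalize (252, b - a) :: (5544, a) :: (l ++ [(D.a.F.natAbs, u)]) = z at h14 hz
  obtain ⟨u', k, m, -, g1, -, g3, g4, g5, g6, -⟩ := D.b.exists_Z D.bv ht hT
  rw [D.be] at g3 g4 g5 g6
  obtain rfl := g1 hi
  have g7 := D.a.split D.b D.av D.bv (fun χ => (dg χ, T χ)) Prod.fst fun _ => rfl
  rw [hm2, hz, Multiset.filter_coe] at g7
  obtain rfl : m = _ := (by simpa using g3.symm : m = _).trans g7
  have g8 := (D.sub hX hX' hz (n := (5796, b) :: m2.toList) (by simp [hm2, ← Multiset.cons_coe])).sq_le hT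
  simp only [Multiset.map_add, Multiset.sum_add, Multiset.map_cons, Multiset.sum_cons, Multiset.map_coe,
    Multiset.sum_coe] at g5 g6
  obtain ⟨l', rfl, g9⟩ := tAll_sound (List.all_eq_true.mp h14 y hy) hy'
    (fun x hx => by
      have := g4 x (by simp [hx])
      exact ⟨this.1, this.2.1, hbd D.b x (by simp [g7, hx]), this.2.2.1, hK ▸ this.2.2.2⟩)
    (by rw [List.map_cons, List.sum_cons]; linear_combination g5)
    (by rw [List.map_cons, List.sum_cons, ← hK]; norm_num at g6 ⊢; linear_combination g6)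
    (by simp [sqs, wn] at g8 ⊢; omega)
  simp only [Bool.or_eq_true, Bool.and_eq_true, Nat.ble_eq, good24, Nat.blt_eq, beq_iff_eq, List.isPerm_iff] at g9
  rcases g9 with ⟨⟨g9, g10⟩, g11⟩ | ⟨g9, g10⟩
  · refine ⟨⟨D.a, D.b, D.av, D.bv, D.be, g9, g10, (List.Perm.filter _ (Multiset.coe_eq_coe.mp ?_)).trans g11⟩⟩
    rw [fd, ← D.be, ← D.b.map_dg, D.a.split D.b D.av D.bv (fun ψ => dg ψ) id fun _ => rfl, D.a.map_dg, D.ae]
    simp only [id, hm, hy', Multiset.filter_coe, Multiset.cons_coe, Multiset.coe_add, fd]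
  refine absurd g10 ?_
  simp only [rel45, Bool.not_eq_true', Bool.not_eq_false, List.all_eq_true, Bool.or_eq_true, bne_iff_ne,
    List.any_eq_true, Bool.and_eq_true, beq_iff_eq, or_iff_not_imp_left, not_not]
  intro x hx d5
  obtain ⟨ξ, -, rfl⟩ := Multiset.mem_map.mp (hz.symm ▸ Multiset.mem_coe.mpr hx)
  obtain ⟨ψ, φ, d6, d7, k6⟩ := D.tri_45 d5 g9
  have k7 := k6 t (by rw [ht]; norm_num)
  simp only [hT] at k7
  refine ⟨(dg ψ, T ψ), Multiset.mem_coe.mp (hz ▸ Multiset.mem_map_of_mem _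
    (D.a.mem_S D.av (ne_irrOne (by omega)) (by omega))), d6, (dg φ, T φ),
    (Multiset.mem_cons.mp (hm2 ▸ hN φ (by omega) (by omega))).resolve_left (by simp [d7]), d7, by exact_mod_cast k7⟩

universe u

theorem h24 : H24.{u} := fun _ _ _ hG =>
  have := hG.1
  (nonempty_M24B hG.2).elim M24B.char24

end CL.Spor.MO
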