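/-
The minimal vectors of the Conway–Wales lattice: the computations in the code modulo 4.
-/
import Cfsg.Agent.Spor.RuCode

set_option autoImplicit false
set_option maxRecDepth 100000

namespace CL.Ru

open CL.Mx Cfsg.Spor Finset

/-- the columns of the generators modulo `4` -/
def clo (q : ℕ) : ℕ := lane 64
  0x7598a1000404cd0000404cd7598a10002888587d410a3000d410a30288858700822beb1601010a00601010a822beb100030a0016871ed0006871ed0030a0010089505794020006004020006895057900b1723634608880004608880b1723630047c0532901304100901304147c05320001d89a1e80124e00e80124e01d89a100968e4fc2000102002000102968e4fc001e650040102a00000102a001e650040096060640021b0a000021b0a9606064003f80004004e49000004e4903f8000400c2a50212818b42002818b42c2a50210014f3480490401500490401514f34800062e9a09011400000011400062e9a090040a15c7941603800941603840a15c700928250c080d86000080d860928250c000840400052c80a00052c80a08404000020842f0840110000840110020842f000006000033062960033062960060000000100098924900600924900601000980009a8000844209200844209209a80000012a03042800c60002800c6012a03040000012682402d00002402d00000126800605580989080c40089080c4605580900c9b00490044614000044614c9b0049005814633060310800060310858146330026a6822581818900581818926a6822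 q

def chi (q : ℕ) : ℕ := lane 64
  0x708021000404c400000000970802100020080068000030005410a002008006008220c21401000a0020001008220c2100000a0002030410004841ac0000a00000090017000200000040000060900170001060203040080000420808010602030044c0010001204000900100144c00100001009a0c00004000280120e01009a000068645000000020020001000686450000c610040100a000000020000c61004008006060002180000000030a8006060002a0000400064000000480902a000040000800010810a4200200810000800010014c3400010001000480400514c34000022e1808001000000010400022e18080040a00c2840200000101403840a00c2001200408000000000080d8601200408000040000010080000042c00a0040000000080090800000000040110000800900000400000200090003106206004000000010001882410060010080000100018000980000800008200044201009800000012200040000000002800c6012200040000010480000400002402900000104800205400080080400009000842054000008190008000021000004440481900080058102300202100000401008581023000022000000081010058100880220000 q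

theorem col_ok : allL (fun q => allL (fun j => decide (rc (rowv j) q % 2 = 1 ↔ tb (clo q) j) &&
    decide (rc (rowv j) q / 2 % 2 = 1 ↔ tb (chi q) j)) (rangeL 64)) (rangeL 56) = true := by decide +kernel

/-- two bits as a residue modulo `4` -/
def e4 (l h : Bool) : ZMod 4 := l.toNat + 2 * h.toNat

theorem cast_e4 (r : ℤ) : (r : ZMod 4) = e4 (decide (r % 2 = 1)) (decide (r / 2 % 2 = 1)) := by
  rw [← ZMod.intCast_mod r 4, show r % 2 = r % 4 % 2 by omega, show r / 2 % 2 = r % 4 / 2 % 2 by omega]
  have : r % 4 = 0 ∨ r % 4 = 1 ∨ r % 4 = 2 ∨ r % 4 = 3 := by omega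
  rcases this with h | h | h | h <;> rw [Nat.cast_ofNat, h] <;> rfl

theorem cast_rowv (j : ℕ) {q : ℕ} (hq : q < 56) :
    (rc (rowv j) q : ZMod 4) = e4 ((clo q).testBit j) ((chi q).testBit j) := by
  by_cases hj : j < 64
  · have := col_ok
    simp only [allL_iff, rangeL_eq, List.mem_range, Bool.and_eq_true, decide_eq_true_eq, tb_eq] at this
    rw [cast_e4]
    simp only [this q hq j hj, Bool.decide_eq_true]
  · simp [rowv, show ¬ j < 28 by omega, show ¬ j < 56 by omega, rc_zero, clo, chi, hj, e4]

/-- the high bits of the sum of the columns -/
noncomputable def accH (A : List ℕ) : ℕ → ℕ → ℕ :=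
  List.rec (motive := fun _ => ℕ → ℕ → ℕ) (fun _ hi => hi) (fun q _ ih lo hi => force (clo q) fun l =>
    force (Nat.xor lo l) fun lo' => force (Nat.xor (Nat.xor hi (chi q)) (Nat.land lo l)) (ih lo')) A

theorem accH_spec (A : List ℕ) (lo hi j : ℕ) : ∃ b, e4 b ((accH A lo hi).testBit j) =
    e4 (lo.testBit j) (hi.testBit j) + (A.map fun q => e4 ((clo q).testBit j) ((chi q).testBit j)).sum := by
  induction A generalizing lo hi with
  | nil => exact ⟨_, (add_zero _).symm⟩
  | cons q t ih =>
    obtain ⟨b, h⟩ := ih (lo ^^^ clo q) (hi ^^^ chi q ^^^ (lo &&& clo q))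
    refine ⟨b, ?_⟩
    rw [show accH (q :: t) lo hi = force (clo q) fun l => force (lo ^^^ l) fun lo' =>
      force (hi ^^^ chi q ^^^ (lo &&& l)) (accH t lo') from rfl, force_eq, force_eq, force_eq, h, List.map_cons,
      List.sum_cons, ← add_assoc, Nat.testBit_xor, Nat.testBit_xor, Nat.testBit_xor, Nat.testBit_and]
    exact congrArg (· + _) ((show ∀ a b c d, e4 (a ^^ c) ((b ^^ d) ^^ (a && c)) = e4 a b + e4 c d by decide) _ _ _ _)

/-- the positions with a carry -/
def tp (x : RuVec) (q : ℕ) : Bool := decide (rc x q / 2 % 2 = 1)

theorem xorL_eq {x : RuVec} (hx : x ∈ ruLattice) {a : ℕ} (ha : ∀ q < 56, rc x q % 2 = (a.testBit q).toNat) :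
    xorL (((List.range 56).filter (tp x)).map clo) = accH ((List.range 56).filter a.testBit) 0 0 := by
  apply Nat.eq_of_testBit_eq
  intro j
  have key : ∀ l : List ℕ, (∀ q ∈ l, q < 56) → (l.map fun q => ((rc x q * rc (rowv j) q : ℤ) : ZMod 4)).sum =
      ((l.filter a.testBit).map fun q => e4 ((clo q).testBit j) ((chi q).testBit j)).sum +
        e4 false ((xorL ((l.filter (tp x)).map clo)).testBit j) := by
    intro l hl
    induction l with
    | nil => simp [e4]
    | cons q t ih =>
      have hq := hl q List.mem_cons_self
      rw [List.map_cons, List.sum_cons, ih fun y hy => hl y (List.mem_cons_of_mem _ hy), Int.cast_mul,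
        cast_rowv j hq, cast_e4, ha q hq, List.filter_cons, List.filter_cons, ← tp]
      cases a.testBit q <;> cases tp x q <;>
        simp only [List.map_cons, List.sum_cons, xorL_cons, Nat.testBit_xor, if_true, Bool.false_eq_true,
          if_false] <;>
        generalize (List.map _ _ : List (ZMod 4)).sum = S <;> generalize (xorL _).testBit j = b <;>
        generalize (clo q).testBit j = c <;> generalize (chi q).testBit j = d <;> revert S b c d <;> decide
  have h0 := key _ fun q => List.mem_range.mp
  obtain ⟨b, hb⟩ := accH_spec ((List.range 56).filter a.testBit) 0 0 j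
  rw [← List.sum_toFinset _ List.nodup_range, List.toFinset_range, ← Int.cast_sum, ← herm_re,
    (ZMod.intCast_zmod_eq_zero_iff_dvd _ 4).mpr (four_dvd_ip hx (rowv_mem j))] at h0
  rw [Nat.zero_testBit, show e4 false false = 0 from rfl, zero_add] at hb
  rw [← hb] at h0
  exact (show ∀ b c d, 0 = e4 b c + e4 false d → d = c by decide) _ _ _ h0

noncomputable def filL (p : ℕ → Bool) (l : List ℕ) : List ℕ :=
  List.rec (motive := fun _ => List ℕ) [] (fun x _ ih => Bool.rec ih (x :: ih) (p x)) l

theorem filL_eq (p : ℕ → Bool) (l : List ℕ) : filL p l = l.filter p := by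
  induction l with
  | nil => rfl
  | cons x t ih =>
    rw [show filL p (x :: t) = Bool.rec (filL p t) (x :: filL p t) (p x) from rfl, ih, List.filter_cons]
    cases p x <;> rfl

theorem length_filter (p : ℕ → Bool) :
    (((List.range 56).filter p).length : ℤ) = ∑ q ∈ range 56, if p q then 1 else 0 := by
  rw [sum_boole, ← List.toFinset_card_of_nodup (List.nodup_range.filter _)]
  congr 2
  ext; simp

/-- the words of weight at most `16` -/
noncomputable def lowL : List ℕ := forceL (mapL (ctr 19) (rangeL 19)) fun X => force (low 524288) fun M =>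
  bitsL 19 (Nat.xor M (Nat.land M ((addAll (fun q => selP q dL X) (rangeL 56) [M, M, M, M, 0, M]).getD 6 0))) 0 []

theorem mem_lowL {n : ℕ} (hn : n < 2 ^ 19) (h : ((List.range 56).filter (xs dL n).testBit).length ≤ 16) :
    n ∈ lowL := by
  have hM : (low 524288).testBit n = true := by simpa using hn
  rw [lowL, forceL_eq, force_eq, bitsL_eq, List.append_nil]
  refine List.mem_map.mpr ⟨n, List.mem_filter.mpr ⟨List.mem_range.mpr hn, ?_⟩, zero_add n⟩
  rw [testBit_xor', testBit_land, hM, ← testBit_valAt, valAt_addAll, Nat.testBit_lt_two_pow]
  · rfl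
  rw [rangeL_eq, rangeL_eq, mapL_eq, show (fun q => (selP q dL ((List.range 19).map (ctr 19))).testBit n) =
    (xs dL n).testBit from funext fun q => testBit_selP q n _ _ n rfl fun k hk => by
      have hk' : k < 19 := by simpa using hk
      rw [List.getD_eq_getElem _ _ hk, List.getElem_map, List.getElem_range, testBit_ctr hk' hn]]
  simp only [valAt_cons, hM, Nat.zero_testBit, show valAt [] n = 0 from rfl, Bool.toNat_true, Bool.toNat_false]
  omega

noncomputable def okN (n : ℕ) : Bool := force (xsel (quads dL) n) fun a => forceL (filL (tb a) (rangeL 56)) fun A =>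
  Bool.rec (Bool.rec (noSol ((16 - A.length) / 4) A.length (mapL clo A) (mapL clo (filL (fun q => !tb a q) (rangeL 56)))
    (accH A 0 0)) true (Nat.beq A.length 16)) true (Nat.beq a 0)

noncomputable def bnd (n : ℕ) : ℕ := force (xsel (quads dL) n) fun a => forceL (filL (tb a) (rangeL 56)) fun A =>
  Bool.rec 0 (force (accH A 0 0) (gauss 16 (mapL clo A))) (Nat.beq A.length 16)

theorem okN_ok : allL okN lowL = true := by decide +kernel

theorem bnd_ok : (mapF bnd lowL).sum = 16128 := by decide +kernel

theorem zero_ok : forceL (mapL clo (rangeL 56)) (fun l => tailsB (noXor 3) l 0) = true := by decide +kernel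

end CL.Ru
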