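/-
An extension of an odd group centralised by the involution `t` by `HN`, containing `C(t)`, is the whole simple group.
-/
import Cfsg.Agent.Spor.HNSDefs
import Cfsg.Agent.Spor.HNRE1
import Cfsg.Agent.Spor.HNRE2
import Cfsg.Agent.Spor.HNMain

set_option autoImplicit false

namespace CL.HNS

open Subgroup Cfsg.Spor

universe u

namespace Lf

variable {H S : Type*} [Group H] [Group S]

/-- `2`-elements. -/
def Two (x : H) : Prop := ∃ k : ℕ, x ^ (2 ^ k) = 1

theorem Two.of_sq {x : H} (h : x * x = 1) : Two x := ⟨1, by rw [pow_one, pow_two, h]⟩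

theorem Two.one : Two (1 : H) := ⟨0, one_pow _⟩

theorem Two.conj {x : H} (h : Two x) (g : H) : Two (g * x * g⁻¹) := by
  obtain ⟨k, hk⟩ := h
  exact ⟨k, by rw [conj_pow, hk, mul_one, mul_inv_cancel]⟩

variable [Finite H] {π : H →* S}

omit [Finite H] in
theorem cop (ho : Odd (Nat.card π.ker)) {o : H} (h : o ∈ π.ker) (k : ℕ) : (2 ^ k).gcd (orderOf o) = 1 :=
  Nat.Coprime.pow_left k (Nat.coprime_two_left.2 (Odd.of_dvd_nat ho (orderOf_dvd_natCard _ h)))

theorem cent2 [IsSimpleGroup S] (hs : Function.Surjective π) (ho : Odd (Nat.card π.ker)) {t : H}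
    (ht : ∀ o ∈ π.ker, Commute t o) (h1 : π t ≠ 1) {x : H} (hx : Two x) {o : H} (h : o ∈ π.ker) : Commute x o := by
  have hN : ((centralizer (π.ker : Set H)).map π).Normal := Normal.map inferInstance π hs
  have htop : (centralizer (π.ker : Set H)).map π = ⊤ :=
    (hN.eq_bot_or_eq_top).resolve_left fun hb => h1 <| by
      have : π t ∈ (centralizer (π.ker : Set H)).map π := ⟨t, fun o ho => (ht o ho).eq.symm, rfl⟩
      rwa [hb, mem_bot] at this
  obtain ⟨e, he, hex⟩ : π x ∈ (centralizer (π.ker : Set H)).map π := htop ▸ mem_top _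
  have hy : e⁻¹ * x ∈ π.ker := by rw [MonoidHom.mem_ker, map_mul, map_inv, hex, inv_mul_cancel]
  set y := e⁻¹ * x with hyd
  have hxe : x = e * y := by rw [hyd]; group
  have hc : Commute e y := (he y hy).symm
  obtain ⟨k, hk⟩ := hx
  rw [hxe, hc.mul_pow] at hk
  have h2 : y ^ 2 ^ k ∈ centralizer (π.ker : Set H) := by
    rw [eq_inv_of_mul_eq_one_right hk]; exact inv_mem (pow_mem he _)
  have h3 : y ∈ centralizer (π.ker : Set H) :=
    zpowers_le.2 h2 (mem_zpowers_pow_iff.2 (cop ho hy k))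
  have h4 : x ∈ centralizer (π.ker : Set H) := hxe ▸ mul_mem he h3
  exact (h4 o h).symm

theorem uniq (ho : Odd (Nat.card π.ker)) (hc : ∀ x, Two x → ∀ o ∈ π.ker, Commute x o) {x y : H} (hx : Two x)
    (hy : Two y) (h : π x = π y) : x = y := by
  have hm : x⁻¹ * y ∈ π.ker := by rw [MonoidHom.mem_ker, map_mul, map_inv, h, inv_mul_cancel]
  set o := x⁻¹ * y with hod
  have hyo : y = x * o := by rw [hod]; group
  have hco := hc x hx o hm
  obtain ⟨k, hk⟩ := hx
  obtain ⟨l, hl⟩ := hy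
  have h1 : y ^ 2 ^ (k + l) = 1 := by rw [add_comm, pow_add, pow_mul, hl, one_pow]
  have h2 : x ^ 2 ^ (k + l) = 1 := by rw [pow_add, pow_mul, hk, one_pow]
  rw [hyo, hco.mul_pow, h2, one_mul] at h1
  have h3 : o ∈ zpowers (o ^ 2 ^ (k + l)) := mem_zpowers_pow_iff.2 (cop ho hm _)
  rw [h1, zpowers_one_eq_bot, mem_bot] at h3
  rw [hyo, h3, mul_one]

theorem liftQ (hs : Function.Surjective π) (Q : Subgroup S) (hQ : Nat.card Q = 512) :
    ∃ Q' : Subgroup H, (∀ x ∈ Q', Two x ∧ π x ∈ Q) ∧ ∀ q ∈ Q, ∃ x ∈ Q', π x = q := by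
  have : Fact (Nat.Prime 2) := ⟨Nat.prime_two⟩
  obtain ⟨P⟩ : Nonempty (Sylow 2 (Q.comap π)) := inferInstance
  have hf : Function.Surjective (π.subgroupComap Q) := π.subgroupComap_surjective_of_surjective Q hs
  have hQ2 : IsPGroup 2 (⊤ : Subgroup Q) := (IsPGroup.of_card (n := 9) hQ).to_subgroup _
  have htop : ((P.mapSurjective hf : Sylow 2 Q) : Subgroup Q) = ⊤ :=
    ((P.mapSurjective hf).is_maximal' hQ2 le_top).symm
  refine ⟨(P : Subgroup (Q.comap π)).map (Q.comap π).subtype, ?_, fun q hq => ?_⟩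
  · rintro _ ⟨x, hx, rfl⟩
    obtain ⟨k, hk⟩ := P.isPGroup' ⟨x, hx⟩
    exact ⟨⟨k, by simpa [Subtype.ext_iff] using hk⟩, x.2⟩
  · have : (⟨q, hq⟩ : Q) ∈ ((P.mapSurjective hf : Sylow 2 Q) : Subgroup Q) := htop ▸ mem_top _
    obtain ⟨x, hx, hxq⟩ := this
    exact ⟨x, ⟨x, hx, rfl⟩, congrArg Subtype.val hxq⟩

theorem edat [IsSimpleGroup S] (hs : Function.Surjective π) (ho : Odd (Nat.card π.ker)) {t : H} (ht2 : t * t = 1)
    (ht : ∀ o ∈ π.ker, Commute t o) {r i : S} {K Q : Subgroup S} (h : HNR.EDat (π t) r i K Q) :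
    ∃ (r' i' : H) (K' Q' : Subgroup H), HNR.EDat t r' i' K' Q' := by
  have h1 : π t ≠ 1 := fun e => by have := h.ot; rw [e, orderOf_one] at this; omega
  have U : ∀ {x y : H}, Two x → Two y → π x = π y → x = y :=
    fun hx hy e => uniq ho (fun x hx o hm => cent2 hs ho ht h1 hx hm) hx hy e
  have := Finite.of_surjective π hs
  obtain ⟨Q', hQ, hl⟩ := liftQ hs Q h.card
  have M : ∀ {y : H}, Two y → π y ∈ Q → y ∈ Q' := fun hy hq => by
    obtain ⟨x, hx, e⟩ := hl _ hq
    rwa [← U (hQ x hx).1 hy e]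
  obtain ⟨r', hr', rfl⟩ := hl r h.mr
  obtain ⟨i', hi', rfl⟩ := hl i h.mi
  have T : Two t := .of_sq ht2
  have R : Two r' := (hQ _ hr').1
  have I : Two i' := (hQ _ hi').1
  have ht' : t ∈ Q' := M T h.mt
  have hr2 : r' * r' = 1 := U (hQ _ (mul_mem hr' hr')).1 .one (by
    rw [map_mul, map_one, ← pow_two, ← h.or, pow_orderOf_eq_one])
  have hnorm : ∀ k ∈ K.comap π, ∀ q ∈ Q', k * q * k⁻¹ ∈ Q' := fun k hk q hq =>
    M ((hQ q hq).1.conj k) (by rw [map_mul, map_mul, map_inv]; exact h.norm _ hk _ (hQ q hq).2)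
  have C : ∀ {g x : H}, Two x → Commute (π g) (π x) → Commute g x := fun {g x} hx hc =>
    mul_inv_eq_iff_eq_mul.1 (U (hx.conj g) hx (by rw [map_mul, map_mul, map_inv, hc.eq, mul_inv_cancel_right]))
  have hcr : ∀ k ∈ K.comap π, Commute k r' := fun k hk => C R (h.cr _ hk)
  have J : ∀ {x y : H}, Two x → Two y → IsConj (π x) (π y) → IsConj x y := fun {x y} hx hy hc => by
    obtain ⟨c, hc⟩ := isConj_iff.1 hc
    obtain ⟨c, rfl⟩ := hs c
    exact isConj_iff.2 ⟨c, U (hx.conj c) hy (by rw [map_mul, map_mul, map_inv, hc])⟩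
  have JK : ∀ {x y : H}, Two x → Two y → (∃ k ∈ K, k * π x * k⁻¹ = π y) → ∃ k ∈ K.comap π, k * x * k⁻¹ = y :=
    fun {x y} hx hy ⟨c, hK, hc⟩ => by
      obtain ⟨c, rfl⟩ := hs c
      exact ⟨c, hK, U (hx.conj c) hy (by rw [map_mul, map_mul, map_inv, hc])⟩
  have : Fact (Nat.Prime 2) := ⟨Nat.prime_two⟩
  refine ⟨r', i', K.comap π, Q', ?_⟩
  refine
    { ot := orderOf_eq_prime (by rw [pow_two, ht2]) fun e => h1 (by rw [e, map_one])
      or := orderOf_eq_prime (by rw [pow_two, hr2]) fun e => by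
        have := h.or; rw [e, map_one, orderOf_one] at this; omega
      cr := hcr
      ct := fun g h1 h2 => h.ct _ (h1.map π) (h2.map π)
      nd := ?_
      odd := by rw [index_comap_of_surjective _ hs]; exact h.odd
      le := fun x hx => h.le (hQ x hx).2
      norm := hnorm
      card := ?_
      mt := ht'
      mr := hr'
      mi := hi'
      sq := fun q hq => (h.sq _ (hQ q hq).2).imp
        (fun e => U (hQ _ (mul_mem hq hq)).1 .one (by rw [map_mul, e, map_one]))
        (fun e => U (hQ _ (mul_mem hq hq)).1 R (by rw [map_mul, e]))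
      cent := fun q hq hc => (h.cent _ (hQ q hq).2 fun q' hq' => by
          obtain ⟨x, hx, rfl⟩ := hl q' hq'
          exact (hc x hx).map π).imp
        (fun e => U (hQ q hq).1 .one (by rw [e, map_one])) (fun e => U (hQ q hq).1 R e)
      gen := fun x hx => ?_
      tri := ?_
      tr := JK T (hQ _ (mul_mem ht' hr')).1 (by rw [map_mul]; exact h.tr)
      isq := U (hQ _ (mul_mem hi' hi')).1 R (by rw [map_mul, h.isq])
      four := fun q hq e => JK I (hQ q hq).1 (h.four _ (hQ q hq).2 (by rw [← map_mul, e]))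
      normi := fun k hk e => (h.normi _ hk (e.imp (fun e => by simpa using congrArg π e)
          (fun e => by simpa using congrArg π e))).imp
        (fun e => U (T.conj k) T (by simpa using e))
        (fun e => U (T.conj k) (hQ _ (mul_mem ht' hr')).1 (by simpa using e))
      comm := fun d hd e => ?_
      cls := fun d hd e => ?_ }
  · have hC : centralizer ({t} : Set H) = (centralizer ({π t} : Set S)).comap π := by
      ext g
      rw [mem_comap, mem_centralizer_singleton_iff, mem_centralizer_singleton_iff]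
      exact ⟨fun e => by rw [← map_mul, e, map_mul], fun e => (C T e).eq⟩
    rintro ⟨m, hm⟩
    apply h.nd
    refine ⟨m, ?_⟩
    have a1 := (K.comap π).card_mul_index
    have a2 := (centralizer ({t} : Set H)).card_mul_index
    have a3 := K.card_mul_index
    have a4 := (centralizer ({π t} : Set S)).card_mul_index
    rw [hm, hC, index_comap_of_surjective _ hs, ← a1, index_comap_of_surjective _ hs, mul_assoc] at a2
    have a5 := Nat.eq_of_mul_eq_mul_left Nat.card_pos a2
    rw [← a5, ← a4, ← mul_assoc] at a3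
    exact (Nat.eq_of_mul_eq_mul_right (Nat.pos_of_ne_zero index_ne_zero_of_finite) a3).symm
  · rw [← h.card]
    refine Nat.card_congr (Equiv.ofBijective (fun x : Q' => (⟨π x, (hQ _ x.2).2⟩ : Q)) ⟨fun x y e => ?_, fun q => ?_⟩)
    · exact Subtype.ext (U (hQ _ x.2).1 (hQ _ y.2).1 (congrArg Subtype.val e))
    · obtain ⟨x, hx, e⟩ := hl _ q.2
      exact ⟨⟨x, hx⟩, Subtype.ext e⟩
  · have : ∀ y ∈ closure {d | ∃ k ∈ K, k * π t * k⁻¹ = d},
        ∃ x ∈ closure {d | ∃ k ∈ K.comap π, k * t * k⁻¹ = d}, x ∈ Q' ∧ π x = y := by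
      intro y hy
      induction hy using closure_induction with
      | mem y hy =>
        obtain ⟨k, hk, rfl⟩ := hy
        obtain ⟨k, rfl⟩ := hs k
        exact ⟨k * t * k⁻¹, subset_closure ⟨k, hk, rfl⟩, hnorm k hk t ht', by simp⟩
      | one => exact ⟨1, one_mem _, one_mem _, map_one π⟩
      | mul y z _ _ hy hz =>
        obtain ⟨a, a1, a2, rfl⟩ := hy
        obtain ⟨b, b1, b2, rfl⟩ := hz
        exact ⟨a * b, mul_mem a1 b1, mul_mem a2 b2, map_mul π a b⟩
      | inv y _ hy =>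
        obtain ⟨a, a1, a2, rfl⟩ := hy
        exact ⟨a⁻¹, inv_mem a1, inv_mem a2, map_inv π a⟩
    obtain ⟨y, y1, y2, e⟩ := this _ (h.gen (hQ x hx).2)
    rwa [← U (hQ y y2).1 (hQ x hx).1 e]
  · obtain ⟨k, hk, k', hk', e⟩ := h.tri
    obtain ⟨k, rfl⟩ := hs k
    obtain ⟨k', rfl⟩ := hs k'
    exact ⟨k, hk, k', hk', U (hQ _ (mul_mem ht' (hnorm k hk t ht'))).1 (T.conj k') (by simpa using e)⟩
  · obtain ⟨k, hk, hc⟩ := h.comm (π d) hd (by rw [← map_mul, e, map_one])
    obtain ⟨k, rfl⟩ := hs k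
    exact ⟨k, hk, C (T.conj k) (by simpa using hc)⟩
  · have D : Two d := .of_sq e
    have DR : Two (d * r') := .of_sq (by
      rw [mul_assoc, ← mul_assoc r', ← (hcr d hd).eq, mul_assoc, hr2, mul_one, e])
    rcases h.cls (π d) hd (by rw [← map_mul, e, map_one]) with a | a | a | ⟨a, b⟩
    · exact .inl (U D .one (by rw [a, map_one]))
    · exact .inr (.inl (JK T D a))
    · exact .inr (.inr (.inl (J R D a)))
    · exact .inr (.inr (.inr ⟨J T D a, J R DR (by rw [map_mul]; exact b)⟩))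

end Lf

theorem lift : Lift.{u} := by
  intro G _ _ _ H π t hs ho ht2 ht hx hc
  obtain ⟨r, i, K, Q, h⟩ := HNR.e2
  have := HNM.simple
  rw [← hx] at h
  have h1 : π t ≠ 1 := fun e => by have := h.ot; rw [e, orderOf_one] at this; omega
  obtain ⟨r', i', K', Q', h'⟩ := Lf.edat hs ho ht2 ht h
  have hsur := (HNR.e1 G H H.subtype t r' i' K' Q' H.subtype_injective h' (by rwa [range_subtype])).1
  let e : H ≃* G := MulEquiv.ofBijective H.subtype ⟨H.subtype_injective, hsur⟩
  have : IsSimpleGroup H := e.isSimpleGroup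
  have hk : π.ker = ⊥ := (π.normal_ker.eq_bot_or_eq_top).resolve_right fun e => h1 (by
    have : t ∈ π.ker := e ▸ mem_top t
    exact this)
  exact ⟨e.symm.trans (MulEquiv.ofBijective π ⟨(MonoidHom.ker_eq_bot_iff π).1 hk, hs⟩)⟩

end CL.HNS
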