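/-
Extensions of the Mathieu group M23 by the 11-dimensional Golay code and cocode modules.
-/
import Cfsg.Agent.Spor.M23H2D
import Cfsg.Agent.Spor.M23Pres

set_option autoImplicit false

namespace CL.M23H

open CL.TZ CL.TZV CL.TC Cfsg CL.M23P
open CL.PG hiding frc frc_eq Rep Good tb St
open CL.Spor (Rep pf pmul pone gIdx gPt GC ofMask toMask golayBasis)
open scoped Pointwise

/-! ### Scalar products -/

theorem dot_eq (m : ℕ) (v : Vec) : dot m v = ∑ p ∈ ofMask m, v p := by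
  rw [dot, Finset.sum_range, Spor.ofMask, Finset.sum_filter]
  exact (Spor.gEquiv.sum_comp (fun i : Fin 24 => if m.testBit i then v (gPt i) else 0)).symm.trans (by simp)

theorem sum_eq_card (B : Finset GolayPt) (v : Vec) : ∑ p ∈ B, v p = ((support₂ v ∩ B).card : ZMod 2) := by
  simpa [Spor.wordOf] using Spor.sum_mul_eq_card_inter v (Spor.wordOf B)

theorem sum_code {B : Finset GolayPt} (hB : B ∈ GC) {v : Vec} (hv : v ∈ golayCode) : ∑ p ∈ B, v p = 0 := by
  rw [sum_eq_card, ZMod.natCast_eq_zero_iff_even]; exact Spor.GC_even_inter (Spor.mem_golayCode_iff.1 hv) hB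

theorem mem_code {v : Vec} : v ∈ golayCode ↔ ∀ b ∈ golayBasis, dot b v = 0 :=
  ⟨fun h b hb => (dot_eq _ _).trans (sum_code (Spor.golayBasis_mem b hb) h), fun h => Spor.mem_golayCode_iff.2
    (Spor.mem_GC_of_even_basis fun b hb => by rw [← ZMod.natCast_eq_zero_iff_even, ← sum_eq_card, ← dot_eq, h b hb])⟩

theorem lin_dot (v : Vec) : Lin fun m => dot m v := fun a b => by
  simp only [dot, ← Finset.sum_add_distrib]
  refine Finset.sum_congr rfl fun i _ => ?_
  rw [show Nat.xor a b = a ^^^ b from rfl, Nat.testBit_xor]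
  cases a.testBit i <;> cases b.testBit i <;> simp [CharTwo.add_self_eq_zero]

theorem dot_pow {i : ℕ} (h : i < 24) (v : Vec) : dot (2 ^ i) v = v (gPt i) := by
  rw [dot_eq, Spor.ofMask_two_pow h, Finset.sum_singleton]

theorem sum_add (B : Finset GolayPt) (v : Vec) :
    ∑ p ∈ B, (v + Pi.single none 1 : Vec) p = ∑ p ∈ B, v p + if none ∈ B then 1 else 0 := by
  simp [Finset.sum_add_distrib]

theorem sum_K0 {B : Finset GolayPt} (hB : B ∈ GC) (hn : none ∉ B) {v : Vec}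
    (hv : v ∈ golayCode ∨ v + Pi.single none 1 ∈ golayCode) : ∑ p ∈ B, v p = 0 :=
  hv.elim (sum_code hB) fun h => by simpa only [sum_add, if_neg hn, add_zero] using sum_code hB h

theorem MK_spec : ∀ m ∈ MK, ofMask m ∈ GC ∧ (ofMask m).card = 16 ∧ none ∉ ofMask m := fun m hm => by
  have : ∀ m ∈ MK, Spor.isCode m = true ∧ Spor.pc24 m = 16 ∧ ¬ m.testBit 23 = true := by decide +kernel
  exact ⟨Spor.ofMask_mem_GC_of_isCode (this m hm).1, (Spor.card_ofMask m).trans (this m hm).2.1,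
    mt Spor.mem_ofMask.1 (this m hm).2.2⟩

theorem mem_K0 {v : Vec} : (v ∈ golayCode ∨ v + Pi.single none 1 ∈ golayCode) ↔ ∀ m ∈ MK, dot m v = 0 := by
  refine ⟨fun h m hm => (dot_eq _ _).trans (sum_K0 (MK_spec m hm).1 (MK_spec m hm).2.2 h), fun h => ?_⟩
  have : ∀ v : Vec, (∀ m ∈ 13062145 :: MK, dot m v = 0) → v ∈ golayCode := fun v h =>
    mem_code.2 (implies_spec (lin_dot v) (by decide +kernel) h)
  refine (Spor.zmod2_cases (dot 13062145 v)).imp (fun e => this _ (List.forall_mem_cons.2 ⟨e, h⟩))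
    fun e => this _ (List.forall_mem_cons.2 ⟨?_, fun m hm => ?_⟩)
  · rw [dot_eq, sum_add, ← dot_eq, e, if_pos (Spor.mem_ofMask.2 (by decide +kernel))]; rfl
  · rw [dot_eq, sum_add, ← dot_eq, h m hm, if_neg (MK_spec m hm).2.2, add_zero]

/-! ### Lifts -/

variable {E : Type*} [Group E]

theorem tab {ρ : E →* M24} {gs : List E} (hg : gs.map ρ = mg) (d : ℕ) : Rep (T d) (ρ (letG (1 :: gs) d))⁻¹ := by
  have r : ∀ A B : ℕ, (Spor.inM24 A && Spor.inM24 B && Nat.beq (pmul A B) pone) = true →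
      Rep B (Spor.m24 A)⁻¹ ∧ Rep A (Spor.m24 A)⁻¹⁻¹ := fun A B h => by
    simp only [Bool.and_eq_true, Nat.beq_eq] at h
    exact ⟨(Spor.rep_m24 h.1.1).inv_of_mul (Spor.rep_m24 h.1.2) h.2 ▸ Spor.rep_m24 h.1.2,
      (inv_inv (Spor.m24 A)).symm ▸ Spor.rep_m24 h.1.1⟩
  have o : Rep pone (1 : M24)⁻¹ := by rw [inv_one]; exact Spor.rep_one
  have o' : Rep pone (1 : M24)⁻¹⁻¹ := by rw [inv_one]; exact o
  rw [map_letG, List.map_cons, hg, map_one]
  by_cases h : d < 10
  · interval_cases d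
    exacts [o, o', (r _ (T 2) (by decide +kernel)).1, (r _ (T 2) (by decide +kernel)).2, (r _ (T 4) (by decide +kernel)).1,
      (r _ (T 4) (by decide +kernel)).2, (r _ (T 6) (by decide +kernel)).1, (r _ (T 6) (by decide +kernel)).2,
      (r _ (T 8) (by decide +kernel)).1, (r _ (T 8) (by decide +kernel)).2]
  · rw [T, nth_eq, List.getD_eq_default _ _ (not_lt.1 h), letG, List.getD_eq_default _ _ (show 5 ≤ _ by omega)]
    split_ifs
    exacts [o, o']

theorem nth_RL {p : List ℕ → Prop} : (∀ i < RL.length, p (nth [] RL i)) ↔ ∀ r ∈ RL, p r := by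
  simp only [List.forall_mem_iff_getElem, nth_eq]
  exact forall₂_congr fun i hi => by rw [List.getD_eq_getElem _ _ hi]

theorem rels_lift {ρ : E →* M24} {gs : List E} (hg : gs.map ρ = mg) : ∀ r ∈ RL, ρ (wordG gs r) = 1 := fun r hr =>
  (map_wordG ρ gs r).trans (hg ▸ rels_mg r hr)

theorem len_lift {ρ : E →* M24} {gs : List E} (hg : gs.map ρ = mg) : gs.length = 4 :=
  (List.length_map ρ).symm.trans (congrArg _ hg)

/-- extensions by the code module split -/
theorem code_split (S : Sys E CC M0) (h : S.σ.range = St) : ∃ H : Subgroup E, H ⊓ S.σ.ker = ⊥ ∧ H ⊔ S.σ.ker = ⊤ := by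
  obtain ⟨gs, hg⟩ := exists_lifts h.ge
  obtain ⟨e, he, gs', h1, h2⟩ := lifts (S := S) (tab hg) (by decide) (rels_lift hg) ids (L := L1) (len_lift hg).symm d1
  exact split _ h.le (h1.trans hg) (nth_RL.1 fun i hi => (S.zero (h2 i hi)).2 fun m _ => by simp [vec_zero he, dot])

/-- lifts in normal form -/
def Nf {C M : List ℕ} (S : Sys E C M) (gs : List E) : Prop :=
  gs.map S.σ = mg ∧ ∀ i < RL.length, S.Val (wordG gs (nth [] RL i)) (wd (u i))

/-- non-split extensions by the cocode module have lifts in normal form -/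
theorem exists_nf (S : Sys E [] MK) (h : S.σ.range = St) (hn : ∀ H : Subgroup E, H ⊓ S.σ.ker = ⊥ → H ⊔ S.σ.ker ≠ ⊤) :
    ∃ gs, Nf S gs := by
  obtain ⟨gs, hg⟩ := exists_lifts h.ge
  obtain ⟨e, he, gs', h1, h2⟩ := lifts (S := S) (tab hg) (by decide) (rels_lift hg) ids (L := L2) (len_lift hg).symm d2
  simp only [vec_sc he (show lam < 2 ^ 528 by decide +kernel)] at h2
  rcases Spor.zmod2_cases (e lam) with e0 | e1
  · obtain ⟨H, a, b⟩ := split _ h.le (h1.trans hg) (nth_RL.1 fun i hi => (S.zero (h2 i hi)).2 fun m _ => by simp [e0, dot])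
    exact absurd b (hn H a)
  · exact ⟨gs', h1.trans hg, fun i hi => by simpa [e1] using h2 i hi⟩

/-- extensions with lifts in normal form do not split -/
theorem Nf.not_split {S : Sys E [] MK} {gs : List E} (h : Nf S gs) (hr : St ≤ S.σ.range) (H : Subgroup E)
    (h1 : H ⊓ S.σ.ker = ⊥) : H ⊔ S.σ.ker ≠ ⊤ := fun h2 => by
  obtain ⟨gs', a, b⟩ := lifts_of_split hr h1 h2
  exact not_lifts (tab h.1) (len_lift h.1).le h.2 d3 (a.trans h.1.symm) b

theorem equiv_of_cover {D : Type*} [Group D] {ρ : D →* M24} {N K : Subgroup D} (h1 : N ≤ K)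
    (h2 : ∀ x ∈ K, ρ x = 1 → x ∈ N) (h3 : K.map ρ = St) (p : D →* E) (π : E →* M24) (hπ : π.range ≤ St)
    (hp : ∀ d, π (p d) = ρ d) (ha : ∀ n ∈ N, p n = 1 → n = 1) (hb : ∀ x, π x = 1 → ∃ n ∈ N, p n = x) : Nonempty (K ≃* E) := by
  refine ⟨MulEquiv.ofBijective (p.comp K.subtype) ⟨(injective_iff_map_eq_one _).2 fun x hx => Subtype.ext
    (ha _ (h2 _ x.2 ((hp _).symm.trans ((congrArg π hx).trans (map_one π)))) hx), fun x => ?_⟩⟩
  obtain ⟨k, hk, e⟩ : π x ∈ K.map ρ := h3 ▸ hπ ⟨x, rfl⟩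
  obtain ⟨n, hn, e'⟩ := hb (x * (p k)⁻¹) (by rw [map_mul, map_inv, hp, e, mul_inv_cancel])
  exact ⟨⟨n * k, mul_mem (h1 hn) hk⟩, (map_mul p n k).trans (by rw [e', inv_mul_cancel_right])⟩

/-- extensions with lifts in normal form are isomorphic -/
theorem Nf.equiv {E' : Type*} [Group E'] {C M : List ℕ} {S : Sys E C M} {S' : Sys E' C M} {gs : List E} {gs' : List E'}
    (h : Nf S gs) (h' : Nf S' gs') (r : S.σ.range ≤ St) (r' : S'.σ.range ≤ St) : Nonempty (E ≃* E') := by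
  let D := (S.σ.comp (MonoidHom.fst E E')).eqLocus (S'.σ.comp (MonoidHom.snd E E'))
  let p := (MonoidHom.fst E E').comp D.subtype
  let p' := (MonoidHom.snd E E').comp D.subtype
  have hp : ∀ d, S'.σ (p' d) = S.σ (p d) := fun d => d.2.symm
  let N : Subgroup D :=
    { carrier := {z | ∃ w, S.Val (p z) w ∧ S'.Val (p' z) w}
      mul_mem' := fun ⟨_, a, b⟩ ⟨_, c, d⟩ => ⟨_, S.mul a c, S'.mul b d⟩
      one_mem' := ⟨0, S.one, S'.one⟩
      inv_mem' := fun ⟨_, a, b⟩ => ⟨_, S.inv a, S'.inv b⟩ }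
  have : N.Normal := ⟨fun _ ⟨_, a, b⟩ g => ⟨_, S.conj (p g) a, hp g ▸ S'.conj (p' g) b⟩⟩
  have hN : N ≤ (S.σ.comp p).ker := fun _ ⟨w, a, _⟩ => (S.ker _).2 ⟨w, a⟩
  obtain ⟨l, hl, hl'⟩ : ∃ l : List D, l.map p = gs ∧ l.map p' = gs' := by
    have := h.1.trans h'.1.symm
    clear h h'
    induction gs generalizing gs' with
    | nil => exact ⟨[], rfl, (List.map_eq_nil_iff.1 this.symm).symm⟩
    | cons a gs ih =>
      obtain ⟨b, t, rfl, e1, e2⟩ := List.map_eq_cons_iff.1 this.symm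
      obtain ⟨l, a1, a2⟩ := ih e2.symm
      exact ⟨⟨(a, b), e1.symm⟩ :: l, congrArg _ a1, congrArg _ a2⟩
  obtain ⟨K, h1, -, h2, h3⟩ := cover (S.σ.comp p) N hN (gs := l) (by rw [← h.1, ← hl, List.map_map]; rfl)
    (nth_RL.1 fun i hi => ⟨_, by rw [map_wordG, hl]; exact h.2 i hi, by rw [map_wordG, hl']; exact h'.2 i hi⟩)
  obtain ⟨f⟩ := equiv_of_cover h1 h2 h3 p S.σ r (fun _ => rfl)
    (fun n ⟨w, a, b⟩ e => Subtype.ext (Prod.ext e ((S'.zero b).2 ((S.zero a).1 e)))) fun x hx => by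
      obtain ⟨w, a⟩ := (S.ker x).1 hx
      obtain ⟨y, b⟩ := (S'.ex w).2 ((S.ex w).1 ⟨x, a⟩)
      exact ⟨⟨(x, y), hx.trans ((S'.ker y).2 ⟨w, b⟩).symm⟩, ⟨w, a, b⟩, rfl⟩
  obtain ⟨f'⟩ := equiv_of_cover h1 h2 h3 p' S'.σ r' hp
    (fun n ⟨w, a, b⟩ e => Subtype.ext (Prod.ext ((S.zero a).2 ((S'.zero b).1 e)) e)) fun y hy => by
      obtain ⟨w, b⟩ := (S'.ker y).1 hy
      obtain ⟨x, a⟩ := (S.ex w).2 ((S'.ex w).1 ⟨y, b⟩)
      exact ⟨⟨(x, y), ((S.ker x).2 ⟨w, a⟩).trans hy.symm⟩, ⟨w, a, b⟩, rfl⟩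
  exact ⟨f.symm.trans f'⟩

/-! ### The systems of the two modules -/

variable (N : Subgroup E) [hN : N.Normal] (φ : E ⧸ N ≃* Spor.M23)

/-- the map to `M24` -/
def sig : E →* M24 := (Subgroup.inclusion (show Spor.M23 ≤ M24 from inf_le_left)).comp (φ.toMonoidHom.comp (QuotientGroup.mk' N))

theorem sig_ker : (sig N φ).ker = N := by
  ext a
  exact (map_eq_one_iff _ (Subgroup.inclusion_injective (inf_le_left : Spor.M23 ≤ M24))).trans
    ((map_eq_one_iff φ φ.injective).trans (QuotientGroup.eq_one_iff a))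

theorem sig_range : (sig N φ).range = St := by
  rw [sig, MonoidHom.range_comp, MonoidHom.range_eq_top.2 (φ.surjective.comp (QuotientGroup.mk'_surjective N)),
    ← MonoidHom.range_eq_map, Subgroup.inclusion_range]
  exact Spor.M23_subgroupOf

/-- the code module -/
def code (ψ : Additive N →+ Vec) (hinj : Function.Injective ψ)
    (hrange : ∀ w, w ∈ Set.range ψ ↔ (w ∈ golayCode ∧ w none = 0))
    (hψ : ∀ (g : E) (n : N), ψ (Additive.ofMul ⟨g * n * g⁻¹, hN.conj_mem n n.2 g⟩)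
      = ψ (Additive.ofMul n) ∘ ⇑(((φ (QuotientGroup.mk g) : Spor.M23) : Equiv.Perm GolayPt)⁻¹)) : Sys E CC M0 where
  σ := sig N φ
  Val a v := ∃ h : a ∈ N, ψ (Additive.ofMul ⟨a, h⟩) = v
  mul := fun ⟨a, e⟩ ⟨b, f⟩ => ⟨mul_mem a b, e ▸ f ▸ map_add ψ (Additive.ofMul ⟨_, a⟩) (Additive.ofMul ⟨_, b⟩)⟩
  inv := fun ⟨a, e⟩ => ⟨inv_mem a, e ▸ (map_neg ψ (Additive.ofMul ⟨_, a⟩)).trans (CharTwo.neg_eq _)⟩
  conj := fun g _ _ ⟨a, e⟩ => ⟨_, e ▸ hψ g ⟨_, a⟩⟩
  one := ⟨one_mem _, map_zero ψ⟩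
  ker a := ⟨fun h => ⟨_, (sig_ker N φ).le h, rfl⟩, fun ⟨_, h, _⟩ => (sig_ker N φ).ge h⟩
  ex v := by
    rw [show CC = golayBasis ++ [2 ^ 23] from rfl, List.forall_mem_append, List.forall_mem_singleton, ← mem_code,
      dot_pow (by norm_num), Spor.gPt_23, ← hrange]
    exact ⟨fun ⟨_, _, e⟩ => ⟨_, e⟩, fun ⟨n, e⟩ => ⟨_, n.toMul.2, e⟩⟩
  zero := fun {a v} ⟨h, e⟩ => by
    rw [show M0 = (List.range 24).map (2 ^ ·) from rfl, List.forall_mem_map, ← e]
    refine ⟨fun e i _ => ?_, fun e => congrArg Subtype.val (congrArg Additive.toMul ((map_eq_zero_iff ψ hinj).1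
      (funext (Spor.forall_pt.2 fun i hi => (dot_pow hi _).symm.trans (e i (List.mem_range.2 hi))))))⟩
    subst e
    rw [show ψ (Additive.ofMul ⟨1, h⟩) = 0 from map_zero ψ]; simp [dot]

/-- the cocode module -/
def cocode (θ : Vec →+ Additive N) (hsurj : Function.Surjective θ)
    (hker : ∀ w, θ w = 0 ↔ (w ∈ golayCode ∨ w + Pi.single none 1 ∈ golayCode))
    (hθ : ∀ (g : E) (w : Vec), ((θ (w ∘ ⇑(((φ (QuotientGroup.mk g) : Spor.M23) : Equiv.Perm GolayPt)⁻¹))).toMul : E)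
      = g * ((θ w).toMul : E) * g⁻¹) : Sys E [] MK where
  σ := sig N φ
  Val a v := ((θ v).toMul : E) = a
  mul := fun {_ _ v w} e f => e ▸ f ▸ congrArg (fun x : Additive N => (x.toMul : E)) (map_add θ v w)
  inv := fun {_ v} e => e ▸ congrArg (fun x : Additive N => (x.toMul : E)) ((congrArg θ (CharTwo.neg_eq v).symm).trans
    (map_neg θ v))
  conj := fun g _ v e => e ▸ hθ g v
  one := congrArg (fun x : Additive N => (x.toMul : E)) (map_zero θ)
  ker a := ⟨fun h => (hsurj (Additive.ofMul ⟨a, (sig_ker N φ).le h⟩)).imp fun _ e =>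
    congrArg (fun x : Additive N => (x.toMul : E)) e, fun ⟨v, e⟩ => (sig_ker N φ).ge (e ▸ (θ v).toMul.2)⟩
  ex v := ⟨fun _ _ h => (nomatch h), fun _ => ⟨_, rfl⟩⟩
  zero := fun {_ v} e => by
    rw [← mem_K0, ← hker, ← e]
    exact ⟨fun h => congrArg Additive.ofMul (Subtype.ext h), fun h => by rw [h]; rfl⟩

/-! ### The non-split extension inside a wreath product -/

theorem St_none (g : St) : g • (none : GolayPt) = none := Spor.gPt_23 ▸ g.2

/-- the code words of weight 16 off the extra point -/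
def XX : SubMulAction St (Finset GolayPt) where
  carrier := {B | B ∈ GC ∧ B.card = 16 ∧ none ∉ B}
  smul_mem' g _ h := ⟨(Spor.M24_smul_GC g.1.2).2 h.1, (Finset.card_smul_finset _ _).trans h.2.1,
    fun hn => h.2.2 (St_none g⁻¹ ▸ Finset.inv_smul_mem_iff.2 hn)⟩

/-- the wreath product -/
abbrev Wr : Type := (XX → Multiplicative (ZMod 2)) ⋊[mulAutArrow] St

/-- the map to `M24` -/
def rho : Wr →* M24 := St.subtype.comp SemidirectProduct.rightHom

/-- the cocode in the base group -/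
def Th : Multiplicative Vec →* Wr := SemidirectProduct.inl.comp
  { toFun := fun w B => Multiplicative.ofAdd (∑ p ∈ B.1, w.toAdd p)
    map_one' := funext fun _ => congrArg Multiplicative.ofAdd Finset.sum_const_zero
    map_mul' := fun _ _ => funext fun _ => congrArg Multiplicative.ofAdd Finset.sum_add_distrib }

theorem Th_conj (g : Wr) (w : Vec) :
    Th (Multiplicative.ofAdd fun p => w ((rho g)⁻¹ • p)) = g * Th (Multiplicative.ofAdd w) * g⁻¹ := by
  rw [eq_mul_inv_iff_mul_eq]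
  refine SemidirectProduct.ext (funext fun B => ?_) ((one_mul _).trans (mul_one _).symm)
  refine Eq.trans (mul_comm _ _) (congrArg₂ _ (congrArg g.left ((congrArg (· • B) inv_one).trans (one_smul St B))) ?_)
  exact congrArg Multiplicative.ofAdd (Finset.sum_image (MulAction.injective g.right⁻¹).injOn).symm

theorem Th_eq_one {w : Vec} : Th (Multiplicative.ofAdd w) = 1 ↔ (w ∈ golayCode ∨ w + Pi.single none 1 ∈ golayCode) :=
  ⟨fun h => mem_K0.2 fun m hm => (dot_eq _ _).trans (congrFun (congrArg SemidirectProduct.left h) ⟨_, MK_spec m hm⟩),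
    fun h => congrArg SemidirectProduct.inl (funext fun B => sum_K0 B.2.1 B.2.2.2 h)⟩

/-- a bit -/
def bz (b : Bool) : Multiplicative (ZMod 2) := Multiplicative.ofAdd (if b then 1 else 0)

theorem bz_xor (a b : Bool) : bz (xor a b) = bz a * bz b := by revert a b; decide

theorem bz_inv (a : Bool) : (bz a)⁻¹ = bz a := by revert a; decide

/-- lifts of the generators -/
noncomputable def gen (i : ℕ) : Wr := ⟨fun B => bz (PG.tb (FF i) (Nat.mod (toMask B.1) 4096)),
  ⟨mg.getD i 1, by simpa only [letG_even] using letG_mem mg_mem (2 * i)⟩⟩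

/-- lifts of the generators -/
noncomputable def gw : List Wr := [gen 0, gen 1, gen 2, gen 3]

theorem gw_getD (i : ℕ) : gw.getD i 1 = gen i := by
  by_cases h : i < 4
  · interval_cases i <;> rfl
  · rw [List.getD_eq_default _ _ (not_lt.1 h)]
    refine SemidirectProduct.ext (funext fun B => ?_) (Subtype.ext (List.getD_eq_default _ _ (not_lt.1 h)).symm)
    show 1 = bz _
    rw [FF, nth_eq, List.getD_eq_default _ _ (not_lt.1 h), PG.tb_eq, Nat.zero_testBit]; rfl

/-- the value of a word at a mask -/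
noncomputable def fw (w : List ℕ) : ℕ → Bool :=
  List.rec (motive := fun _ => ℕ → Bool) (fun _ => false) (fun c _ ih m => frc (T (Nat.add c 2)) fun t =>
    frc (Spor.actMask (pf t) m) fun m' =>
      xor (PG.tb (FF (Nat.div c 2)) (Nat.mod (cond (Nat.beq (Nat.mod c 2) 0) m m') 4096)) (ih m')) w

theorem left_word (w : List ℕ) (B : XX) : (wordG gw w).left B = bz (fw w (toMask B.1)) := by
  induction w generalizing B with
  | nil => rfl
  | cons c w ih =>
    have r : Rep (T (Nat.add c 2)) (rho (letG gw c))⁻¹ := by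
      have := tab (ρ := rho) (gs := gw) rfl (c + 2)
      rwa [letG, Nat.add_mod_right, Nat.add_div_right _ two_pos, List.getD_cons_succ] at this
    have e : toMask ((letG gw c).right⁻¹ • B).1 = _ := r.toMask_smul B.1
    have ih := ih ((letG gw c).right⁻¹ • B)
    rw [e] at ih
    rw [wordG_cons]
    refine (congrArg₂ (· * ·) ?_ ih).trans (bz_xor _ _).symm
    rw [← e, letG, gw_getD]
    by_cases h : c % 2 = 0
    · rw [if_pos h, show Nat.mod c 2 = 0 from h]; rfl
    · rw [if_neg h, show Nat.mod c 2 = 1 from Nat.mod_two_ne_zero.1 h]; exact bz_inv _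

theorem fw_ok : allR (fun x => frc (Spor.enc x) fun m => cond (Nat.beq (Spor.pc24 m) 16 && !PG.tb m 23) (allR (fun i =>
    fw (nth [] RL i) m == Nat.beq (Nat.mod (Spor.pc24 (Nat.land (u i) m)) 2) 1) 0 22) true) 0 4096 = true := by
  decide +kernel

theorem word_gw (i : ℕ) (hi : i < RL.length) : Th (Multiplicative.ofAdd (wd (u i))) = wordG gw (nth [] RL i) := by
  refine SemidirectProduct.ext (funext fun B => ?_) (Subtype.ext (nth_RL.2 (rels_lift (ρ := rho) rfl) i hi).symm)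
  obtain ⟨B, h1, h2, h3⟩ := B
  obtain ⟨x, hx, rfl⟩ := Spor.mem_GC_iff_enc.1 h1
  have := allR_zero fw_ok x hx
  rw [Spor.card_ofMask] at h2
  rw [frc_eq, h2, PG.tb_eq, show (Spor.enc x).testBit 23 = false from Bool.eq_false_iff.2 (mt (Spor.mem_ofMask (p := none)).2 h3)] at this
  rw [left_word, Spor.toMask_ofMask_of_lt (Spor.enc_lt hx), beq_iff_eq.1 (allR_zero this i hi)]
  refine congrArg Multiplicative.ofAdd ((sum_eq_card (ofMask (Spor.enc x)) (wd (u i))).trans ?_)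
  rw [show support₂ (wd (u i)) = ofMask (u i) by ext p; simp [wd], ← Spor.ofMask_and, Spor.card_ofMask, ← ZMod.natCast_mod _ 2]
  show (((Nat.mod (Spor.pc24 (Nat.land (u i) (Spor.enc x))) 2 : ℕ) : ZMod 2)) = _
  rcases Nat.mod_two_eq_zero_or_one (Spor.pc24 (Nat.land (u i) (Spor.enc x))) with h | h <;>
    rw [show Nat.mod _ 2 = _ from h] <;> rfl

/-- the non-split extension by the cocode module -/
theorem exists_nonsplit : ∃ (E : Type) (_ : Group E) (_ : Finite E) (N : Subgroup E) (_ : N.Normal)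
    (φ : E ⧸ N ≃* Spor.M23) (θ : Vec →+ Additive N), Function.Surjective θ ∧
    (∀ w, θ w = 0 ↔ (w ∈ golayCode ∨ w + Pi.single none 1 ∈ golayCode)) ∧
    (∀ (g : E) (w : Vec), ((θ (w ∘ ⇑(((φ (QuotientGroup.mk g) : Spor.M23) : Equiv.Perm GolayPt)⁻¹))).toMul : E)
      = g * ((θ w).toMul : E) * g⁻¹) ∧ ∀ H : Subgroup E, H ⊓ N = ⊥ → H ⊔ N ≠ ⊤ := by
  have : Th.range.Normal := ⟨fun _ ⟨w, e⟩ g => ⟨_, e ▸ Th_conj g w.toAdd⟩⟩
  obtain ⟨K, h1, h0, h2, h3⟩ := cover rho Th.range (fun _ ⟨_, e⟩ => e ▸ rfl) (gs := gw) rfl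
    (nth_RL.1 fun i hi => ⟨_, word_gw i hi⟩)
  let π : K →* Spor.M23 := (Spor.equivM23.toMonoidHom.comp SemidirectProduct.rightHom).comp K.subtype
  have hπ : Function.Surjective π := Spor.equivM23.surjective.comp (g := Spor.equivM23)
    (f := fun x : K => x.1.right) fun g => by
      obtain ⟨x, hx, e⟩ : g.1 ∈ K.map rho := h3.ge g.2
      exact ⟨⟨x, hx⟩, Subtype.ext e⟩
  let θ : Vec →+ Additive π.ker :=
    { toFun := fun w => Additive.ofMul ⟨⟨Th (Multiplicative.ofAdd w), h1 ⟨_, rfl⟩⟩, map_one Spor.equivM23⟩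
      map_zero' := congrArg Additive.ofMul (Subtype.ext (Subtype.ext (map_one Th)))
      map_add' := fun v w => congrArg Additive.ofMul (Subtype.ext (Subtype.ext (map_mul Th _ _))) }
  have a : Function.Surjective θ := fun n => by
    obtain ⟨w, e⟩ := h2 _ n.toMul.1.2 (congrArg Subtype.val ((map_eq_one_iff _ Spor.equivM23.injective).1 n.toMul.2))
    exact ⟨w.toAdd, congrArg Additive.ofMul (Subtype.ext (Subtype.ext e))⟩
  have b : ∀ w, θ w = 0 ↔ _ := fun w => Iff.trans ⟨fun h => congrArg (fun x : Additive π.ker => x.toMul.1.1) h,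
    fun h => congrArg Additive.ofMul (Subtype.ext (Subtype.ext h))⟩ Th_eq_one
  have c : ∀ (g : K) (w : Vec), ((θ (w ∘ ⇑(((QuotientGroup.quotientKerEquivOfSurjective π hπ (QuotientGroup.mk g) :
      Spor.M23) : Equiv.Perm GolayPt)⁻¹))).toMul : K) = g * ((θ w).toMul : K) * g⁻¹ := fun g w =>
    Subtype.ext (Th_conj g.1 w)
  have : Finite Wr := Finite.of_equiv _ SemidirectProduct.equivProd.symm
  refine ⟨K, inferInstance, inferInstance, π.ker, inferInstance, _, θ, a, b, c, fun H hH => ?_⟩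
  obtain ⟨l, hl⟩ : ∃ l : List K, l.map K.subtype = gw := ⟨gw.attachWith _ h0, by simp⟩
  have := Nf.not_split (S := cocode _ _ θ a b c) (gs := l) ⟨by
      rw [← show gw.map rho = mg from rfl, ← hl, List.map_map]; rfl,
    fun i hi => Subtype.ext ((word_gw i hi).trans (hl ▸ (map_wordG K.subtype l _).symm))⟩ (sig_range _ _).ge H
  rw [show (cocode _ _ θ a b c).σ.ker = _ from sig_ker _ _] at this
  exact this hH

end CL.M23H
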