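/-
Tools for subgroups of `M24` of a given order: Sylow counts, orbits of overgroups of a known subgroup.
-/
import Cfsg.Agent.Spor.M24Class
import Cfsg.Agent.Spor.M24Stab

set_option autoImplicit false

namespace CL.Spor

open Cfsg MulAction
open scoped Pointwise

section gen
variable {G : Type*} [Group G] [Finite G]

/-- A subgroup whose order is divisible by that of a Sylow subgroup contains a conjugate of it. -/
theorem exists_conj_ge {p : ℕ} (hp : p.Prime) {P K H : Subgroup G} (hP : Fus.SylIn p P K) (hH : H ≤ K)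
    (hd : Nat.card P ∣ Nat.card H) : ∃ y ∈ K, P ≤ H.map (MulAut.conj y).toMonoidHom := by
  have := Fact.mk hp
  obtain ⟨k, hk⟩ := IsPGroup.iff_card.1 hP.isPGroup
  obtain ⟨Z, hZ⟩ := Sylow.exists_subgroup_card_pow_prime (G := H) p (hk ▸ hd)
  have h1 : Nat.card (Z.map H.subtype) = p ^ k := by
    rw [Subgroup.card_map_of_injective H.subtype_injective, hZ]
  obtain ⟨y, hy, h2⟩ := hP.exists_map_conj_le (IsPGroup.of_card h1) ((Subgroup.map_subtype_le Z).trans hH)
  refine ⟨y, hy, ?_⟩
  rw [← Subgroup.eq_of_le_of_card_ge h2 (by rw [card_map_conj, h1, hk])]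
  exact Subgroup.map_mono (Subgroup.map_subtype_le Z)

/-- Sylow's count inside a subgroup. -/
theorem normalizer_count {p : ℕ} (hp : p.Prime) {X H K : Subgroup G} (hX : Fus.SylIn p X H) (hH : H ≤ K) {c : ℕ}
    (hN : Nat.card (K ⊓ Subgroup.normalizer (X : Set G) : Subgroup G) = c) :
    ∃ k n, k ∣ c ∧ n % p = 1 % p ∧ Nat.card H = n * k ∧ (k = c → K ⊓ Subgroup.normalizer (X : Set G) ≤ H) := by
  have := Fact.mk hp
  have h1 := hX.toSylow.card_eq_index_normalizer
  have h2 : Subgroup.normalizer (hX.toSylow : Set H) = (Subgroup.normalizer (X : Set G)).subgroupOf H :=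
    (Subgroup.subgroupOf_normalizer_eq hX.le).symm
  have h3 : H ⊓ Subgroup.normalizer (X : Set G) ≤ K ⊓ Subgroup.normalizer (X : Set G) := inf_le_inf_right _ hH
  refine ⟨Nat.card (H ⊓ Subgroup.normalizer (X : Set G) : Subgroup G), Nat.card (Sylow p H),
    hN ▸ Subgroup.card_dvd_of_le h3, card_sylow_modEq_one p H, ?_, fun e => ?_⟩
  · rw [h1, h2, ← card_subgroupOf', Subgroup.index_mul_card]
  · rw [← Subgroup.eq_of_le_of_card_ge h3 (by rw [hN, e])]
    exact inf_le_left

/-- Elements of order 7 lie in every subgroup of index at most 6. -/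
theorem mem_of_pow_seven {L K : Subgroup G} (h : L ≤ K) (hc : Nat.card K ≤ 6 * Nat.card L) {a : G} (ha : a ∈ K)
    (h7 : a ^ 7 = 1) : a ∈ L := by
  have h1 : L.relIndex K * Nat.card L = Nat.card K := by
    rw [Subgroup.relIndex, ← Subgroup.index_mul_card (L.subgroupOf K), card_subgroupOf', inf_of_le_right h]
  have h2 : L.relIndex K ≤ 6 := Nat.le_of_mul_le_mul_right (h1 ▸ hc) Nat.card_pos
  have h3 := Subgroup.pow_mem_of_relIndex_ne_zero_of_dvd (n := 120) (Subgroup.FiniteIndex.index_ne_zero (H := L.subgroupOf K)) ha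
    fun m h0 hm => by have := hm.trans h2; interval_cases m <;> norm_num
  rw [show 120 = 7 * 17 + 1 from rfl, pow_succ, pow_mul, h7, one_pow, one_mul] at h3
  exact h3.1

omit [Finite G] in
theorem eq_stabilizer_of_map_conj {X : Type*} [MulAction G X] {H : Subgroup G} {y : G} {x : X}
    (h : H.map (MulAut.conj y).toMonoidHom = stabilizer G x) : H = stabilizer G (y⁻¹ • x) := by
  ext g
  have : y * g * y⁻¹ ∈ stabilizer G x ↔ g ∈ H := by
    rw [← h]; exact Subgroup.mem_map_iff_mem (f := (MulAut.conj y).toMonoidHom) (MulAut.conj y).injective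
  rw [← this, mem_stabilizer_iff, mem_stabilizer_iff, mul_smul, mul_smul, smul_eq_iff_eq_inv_smul]

omit [Finite G] in
theorem map_conj_le_of_mem {H K : Subgroup G} (h : H ≤ K) {y : G} (hy : y ∈ K) :
    H.map (MulAut.conj y).toMonoidHom ≤ K := by
  rintro _ ⟨g, hg, rfl⟩
  exact K.mul_mem (K.mul_mem hy (h hg)) (K.inv_mem hy)

end gen

/-- All unions of sublists of a list of masks. -/
def subU (l : List ℕ) : List ℕ :=
  List.rec (motive := fun _ => List ℕ) [0] (fun a _ ih => ih ++ ih.map (Nat.lor a)) l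

/-- The union of a list of masks. -/
def orAll (l : List ℕ) : ℕ := List.rec (motive := fun _ => ℕ) 0 (fun a _ ih => Nat.lor a ih) l

theorem exists_subU {U : Finset GolayPt} (l : List ℕ) (h : ∀ a ∈ l, ofMask a ⊆ U ∨ Disjoint (ofMask a) U) :
    ∃ m ∈ subU l, ofMask m = U ∩ ofMask (orAll l) := by
  induction l with
  | nil => exact ⟨0, List.mem_singleton.2 rfl, by simp [orAll]⟩
  | cons a l ih =>
    obtain ⟨m, hm, e⟩ := ih fun b hb => h b (List.mem_cons_of_mem _ hb)
    have e1 : ofMask (orAll (a :: l)) = ofMask a ∪ ofMask (orAll l) := ofMask_or _ _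
    rcases h a List.mem_cons_self with h1 | h1
    · refine ⟨Nat.lor a m, List.mem_append_right _ (List.mem_map_of_mem hm), ?_⟩
      rw [e1, Finset.inter_union_distrib_left, Finset.inter_eq_right.2 h1, ← e]
      exact ofMask_or _ _
    · refine ⟨m, List.mem_append_left _ hm, ?_⟩
      rw [e1, Finset.inter_union_distrib_left, Finset.disjoint_iff_inter_eq_empty.1 h1.symm, Finset.empty_union, e]

/-- The test on the candidates for an orbit. -/
def candOK (S bs : List ℕ) (b F n : ℕ) (L : List ℕ) : Bool :=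
  and (and (and (Nat.blt b 24) (allL (fun c => Nat.blt c 24) bs))
      (and (Nat.beq (orAll (bs.map (orbMask S))) 16777215) (not (Nat.testBit F b))))
    (allL (fun m => or (or (not (Nat.testBit m b)) (not (Nat.beq (pc24 (Nat.land m F)) 0)))
      (or (not (Nat.beq (Nat.mod n (pc24 m)) 0)) (anyL (fun x => Nat.beq m x) L))) (subU (bs.map (orbMask S))))

/-- The orbit of a point under an overgroup of known elements is a union of their orbits. -/
theorem orbit_cases {H : Subgroup M24} {S : List ℕ} (hS : ∀ P ∈ S, Good H P) {F n : ℕ} (hF : H ≤ fixS (ofMask F))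
    (hn : Nat.card H = n) (bs : List ℕ) (b : ℕ) (L : List ℕ) (h : candOK S bs b F n L = true) :
    ∃ m ∈ L, H ≤ stabilizer M24 (ofMask m) ∧ n = pc24 m * Nat.card (H ⊓ stabilizer M24 (gPt b) : Subgroup M24) := by
  classical
  simp only [candOK, Bool.and_eq_true, allL_iff, Nat.blt_eq, Nat.beq_eq, Bool.or_eq_true, Bool.not_eq_true',
    anyL_iff] at h
  obtain ⟨⟨⟨hb, hbs⟩, hfull, hFb⟩, hL⟩ := h
  set U : Finset GolayPt := Finset.univ.filter fun p => p ∈ orbit H (gPt b) with hU
  have mU : ∀ p, p ∈ U ↔ p ∈ orbit H (gPt b) := fun p => by simp [hU]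
  have inv : ∀ g ∈ H, ∀ p ∈ U, g • p ∈ U := fun g hg p hp => by
    obtain ⟨k, hk, rfl⟩ := mem_orbit_subgroup_iff.1 ((mU p).1 hp)
    exact (mU _).2 (mem_orbit_subgroup_iff.2 ⟨g * k, H.mul_mem hg hk, mul_smul _ _ _⟩)
  obtain ⟨m, hm, e⟩ := exists_subU (U := U) (bs.map (orbMask S)) fun a ha => by
    obtain ⟨c, hc, rfl⟩ := List.mem_map.1 ha
    by_cases h1 : gPt c ∈ U
    · refine .inl fun p hp => ?_
      obtain ⟨k, hk, rfl⟩ := mem_orbit_subgroup_iff.1 (orbMask_sub hS (hbs c hc) p hp)
      exact inv k hk _ h1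
    · refine .inr (Finset.disjoint_left.2 fun p hp hp' => h1 ?_)
      obtain ⟨k, hk, rfl⟩ := mem_orbit_subgroup_iff.1 (orbMask_sub hS (hbs c hc) p hp)
      simpa using inv k⁻¹ (H.inv_mem hk) _ hp'
  rw [hfull, ofMask_full, Finset.inter_univ] at e
  have hc : n = pc24 m * Nat.card (H ⊓ stabilizer M24 (gPt b) : Subgroup M24) := by
    rw [← hn, card_eq_ncard_orbit_mul H (gPt b), ← card_ofMask, e, ← Set.ncard_coe_finset]
    congr 2
    ext p
    exact (mU p).symm
  have hst : H ≤ stabilizer M24 (ofMask m) := fun g hg => by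
    rw [mem_stabilizer_iff, e]
    refine Finset.eq_of_subset_of_card_le (fun p hp => ?_) (Finset.card_smul_finset g U).ge
    obtain ⟨q, hq, rfl⟩ := Finset.mem_smul_finset.1 hp
    exact inv g hg q hq
  rcases hL m hm with (h1 | h1) | h1 | ⟨x, hx, rfl⟩
  · have : gPt b ∈ ofMask m := e ▸ (mU _).2 (mem_orbit_self _)
    rw [mem_ofMask, gIdx_gPt hb, h1] at this
    exact absurd this (by simp)
  · exfalso
    have h2 : (ofMask (m &&& F)).card ≠ 0 := by rw [card_ofMask]; exact Nat.ne_of_beq_eq_false h1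
    obtain ⟨p, hp⟩ := Finset.card_ne_zero.1 h2
    rw [ofMask_and, Finset.mem_inter, e] at hp
    obtain ⟨k, hk, e1⟩ := mem_orbit_subgroup_iff.1 ((mU p).1 hp.1)
    have h3 : gPt b = p := by
      have := mem_fixS.1 (hF (H.inv_mem hk)) p hp.2
      rw [← this, ← e1, inv_smul_smul]
    have := hp.2
    rw [← h3, mem_ofMask, gIdx_gPt hb, hFb] at this
    exact absurd this (by simp)
  · exact absurd (show n % pc24 m = 0 from Nat.mod_eq_zero_of_dvd ⟨_, hc⟩) (Nat.ne_of_beq_eq_false h1)
  · exact ⟨_, hx, hst, hc⟩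

theorem SChain.card_le_of_stab {K H : Subgroup M24} {levels : List (ℕ × List ℕ)} (h : SChain K levels) (hK : H ≤ K)
    {m : ℕ} (hm : H ≤ stabilizer M24 (ofMask m)) (al : List ℕ) : Nat.card H ≤ ubC (pruneSet m m) levels al :=
  (Subgroup.card_le_of_le (le_inf hK hm)).trans (h.card_inf_le (pruneOK_set m m) al)

theorem SChain.eq_of_stab {K H : Subgroup M24} {levels : List (ℕ × List ℕ)} (h : SChain K levels) (hK : H ≤ K)
    {m : ℕ} (hm : H ≤ stabilizer M24 (ofMask m)) (al : List ℕ) (hc : ubC (pruneSet m m) levels al ≤ Nat.card H) :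
    H = K ⊓ stabilizer M24 (ofMask m) :=
  Subgroup.eq_of_le_of_card_ge (le_inf hK hm) ((h.card_inf_le (pruneOK_set m m) al).trans hc)

theorem le_card_of_slp {X : List ℕ} {H : Subgroup M24} (hX : ∀ P ∈ X, Good H P) (prog : List (ℕ × ℕ × ℕ))
    (S base : List ℕ) {n : ℕ}
    (h : (slpOK prog X && subL S (X ++ prog.map (·.2.2)) && Nat.beq (ordLB base S) n) = true) : n ≤ Nat.card H :=
  (le_card_gen_of_slp hX prog S base h).trans (Subgroup.card_le_of_le (gen_le hX))

theorem fixS_23 : (fixS (ofMask 8388608) : Subgroup M24) = stabilizer M24 (gPt 23) := by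
  ext g
  rw [mem_fixS, show 8388608 = 2 ^ 23 from rfl, ofMask_two_pow (by norm_num)]
  simp

theorem stab_of_singleton {H : Subgroup M24} {k : ℕ} (hk : k < 24) (h : H ≤ stabilizer M24 (ofMask (2 ^ k))) :
    H ≤ stabilizer M24 (gPt k) := fun g hg => by
  have := mem_stabilizer_iff.1 (h hg)
  rwa [ofMask_two_pow hk, Finset.smul_finset_singleton, Finset.singleton_inj] at this

end CL.Spor
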