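/-
Centralisers `(2² × 2^{1+8}).(3 × U₄(2)).2`: the cases of `Fi₂₃` and `2².U₆(2).S₃` (job FC-TA+TB1, helper25).
-/
import Cfsg.Agent.Spor.FcD2
import Cfsg.Agent.Spor.FcFA2
import Cfsg.Agent.Spor.Fi22Model
import Cfsg.Agent.S1714

set_option autoImplicit false

namespace CL.Fc

open Subgroup CL.Even CL.Grp CL.U6 CL.MT Cfsg
open scoped commutatorElement

universe u v

variable {G : Type u} {Γ : Type v} [Group G] [Group Γ]

theorem ta_normal (y : G) : ((zpowers y).subgroupOf (centralizer {y})).Normal := ⟨fun x hx c => by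
  have h : Commute (c : G) x := by
    obtain ⟨k, hk⟩ := mem_zpowers_iff.mp (mem_subgroupOf.mp hx)
    rw [← hk]; exact Commute.zpow_right (mem_cent_singleton.mp c.2) k
  rw [mem_subgroupOf, coe_mul, coe_mul, coe_inv, conj_eq_of_commute h]
  exact hx⟩

theorem ta_ker {y : G} (hy : orderOf y = 2) [((zpowers y).subgroupOf (centralizer {y})).Normal]
    (d : centralizer ({y} : Set G)) :
    QuotientGroup.mk' ((zpowers y).subgroupOf (centralizer {y})) d = 1 ↔ (d : G) = 1 ∨ (d : G) = y :=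
  (QuotientGroup.eq_one_iff d).trans (mem_zpowers_two hy)

/-- commuting images give a commutator in the kernel -/
theorem ta_comm {X : Type*} [Group X] {D : Subgroup G} (φ : D →* X) {y : G}
    (hk : ∀ d, φ d = 1 ↔ (d : G) = 1 ∨ (d : G) = y) {a b : D} (h : Commute (φ a) (φ b)) :
    (a : G) * b * (a : G)⁻¹ = b ∨ (a : G) * b * (a : G)⁻¹ = y * b := by
  rcases (hk (a * b * a⁻¹ * b⁻¹)).mp (by simp [h.eq]) with e | e
  · exact Or.inl (mul_inv_eq_one.mp e)
  · exact Or.inr (mul_inv_eq_iff_eq_mul.mp e)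

namespace TM

variable (S : TM G Γ)

theorem ta_conj_w {h : G} (hh : h ∈ S.H) :
    h * (S.c * S.v * S.c⁻¹) * h⁻¹ = S.c * S.v * S.c⁻¹ ∨ h * (S.c * S.v * S.c⁻¹) * h⁻¹ = S.v * (S.c * S.v * S.c⁻¹) := by
  rcases S.mem_V.mp (S.nV (S.hH.mp hh).1 S.wV) with e | e | e | e
  · exact absurd (conj_eq_one_iff.mp e) S.w1
  · exact absurd (by simpa using e.trans (conj_eq_of_commute (S.hH.mp hh).2).symm) S.cv
  · exact Or.inl e
  · exact Or.inr e

theorem ta_sw : ∃ s ∈ S.H, s * (S.c * S.v * S.c⁻¹) * s⁻¹ = S.v * (S.c * S.v * S.c⁻¹) := by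
  obtain ⟨s, hs, h⟩ := S.sw
  exact ⟨s, hs, (S.ta_conj_w hs).resolve_left fun e => h (mul_inv_eq_iff_eq_mul.mp e)⟩

theorem ta_zv1 : S.z * S.v ≠ 1 := fun e => S.zV (by rw [eq_inv_of_mul_eq_one_left e]; exact inv_mem S.vV)

theorem ta_ord : orderOf (S.z * S.v) = 2 := orderOf_eq_prime (by rw [pow_two, S.Zsq S.zvZ]) S.ta_zv1

theorem ta_ordv : orderOf S.v = 2 := orderOf_eq_prime (by rw [pow_two, S.Zsq S.vZ]) S.v1

/-- `z` is a commutator in `C(Z)`. -/
theorem ta_zD : S.z ∈ ⁅𝒞(S.Z), 𝒞(S.Z)⁆ := by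
  obtain ⟨j, hj, e⟩ := S.exists_root
  have hJ : S.J ≤ 𝒞(S.Z) := fun j hj e he => (S.Zc he hj).eq
  have : ¬ ∀ k ∈ S.J, Commute j k := fun h => S.z1 (e ▸ S.Zsq (S.mem_Z_of_comm hj h))
  push Not at this
  obtain ⟨k, hk, h⟩ := this
  have h1 := (S.conj_J hj hk).resolve_left h
  have : S.z = ⁅j, k⁆ := by rw [commutatorElement_def, h1, conj_eq_of_commute (S.Jz hk)]
  exact this ▸ commutator_mem_commutator (hJ hj) (hJ hk)

theorem ta_nD [Finite G] {h x : G} (hh : Commute h S.z) (hx : x ∈ ⁅𝒞(S.Z), 𝒞(S.Z)⁆) :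
    h * x * h⁻¹ ∈ ⁅𝒞(S.Z), 𝒞(S.Z)⁆ := by
  have h1 : centralizer {S.z} ≤ 𝒩(S.Z) := le_norm_of_cj_le fun g hg => by
    rintro _ ⟨e, he, rfl⟩
    exact S.big.nZ (mem_cent_singleton.mp hg) he
  exact conj_mem (le_norm_commutator (le_norm_cent h1) (le_norm_cent h1) (mem_cent_singleton.mpr hh)) hx

/-- a Sylow subgroup centralising `z` and `v` -/
theorem tb1_syl [Finite G] : ∃ T, IsSylowIn 2 T ⊤ ∧ T ≤ centralizer {S.z} ∧ S.J ≤ T ∧ T ≤ centralizer {S.v} := by
  obtain ⟨T, t1, t2, t3, -⟩ := S.big.exists_syl (D := ⊤) (U := ⊥) le_top IsPGroup.of_bot bot_le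
  have hV : S.V ≤ T := S.VZ.trans (S.ZJ.trans t3)
  obtain ⟨⟨e, he⟩, h1⟩ := ne_bot_iff_exists_ne_one.mp (inf_cent_ne_bot (U := S.V) (t1.isPGroup.to_le hV) t1.isPGroup
    (le_norm_of_cj_le fun g hg => by
      rintro _ ⟨e, he, rfl⟩
      exact S.nV (mem_cent_singleton.mp (t2 hg)) he) fun h => S.v1 (by simpa [h] using S.vV))
  obtain ⟨h, h2, rfl⟩ := S.conjV he.1 (by simpa using h1)
  refine ⟨cj h⁻¹ T, t1.conj_smul_of_mem (g := h⁻¹) (mem_top _), fun t ht => ?_, fun j hj => ?_,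
    fun t ht => ?_⟩
  · have := mem_cent_singleton.mp (t2 (mem_cj.mp ht))
    rw [← conj_eq_of_commute h2, inv_inv] at this
    exact mem_cent_singleton.mpr (commute_of_conj this)
  · exact mem_cj.mpr (t3 (by simpa using S.nJ h2 hj))
  · have : Commute (h⁻¹⁻¹ * t * h⁻¹) (h * S.v * h⁻¹) := he.2 _ (mem_cj.mp ht)
    rw [inv_inv] at this
    exact mem_cent_singleton.mpr (commute_of_conj this)

end TM

theorem ta (h : FMn.{u, v}) : TA.{u, v} := by
  intro G Γ _ _ _ S hI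
  have := ta_normal (S.z * S.v)
  set φ := QuotientGroup.mk' ((zpowers (S.z * S.v)).subgroupOf (centralizer {S.z * S.v})) with hφ
  have hs : Function.Surjective φ := QuotientGroup.mk'_surjective _
  have hk := ta_ker S.ta_ord
  rw [← hφ] at hk
  obtain ⟨hz, hw, K, S', e1, e2, e3, e4, e5⟩ := S.exists_FM (Or.inr rfl) φ hs hk
  have hH : ∀ {k}, k ∈ S.H → k ∈ centralizer ({S.z * S.v} : Set G) := fun hk =>
    mem_cent_singleton.mpr ((S.hH.mp hk).1.mul_right (S.hH.mp hk).2)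
  have key : ∀ k : centralizer ({S.z * S.v} : Set G), (k : G) ∈ S.H → Commute (φ k) (φ ⟨_, hw⟩) →
      Commute (k : G) (S.c * S.v * S.c⁻¹) := fun k hk' hc => by
    rcases ta_comm φ hk hc with e | e
    · exact mul_inv_eq_iff_eq_mul.mp e
    · rcases S.ta_conj_w hk' with e' | e'
      · exact mul_inv_eq_iff_eq_mul.mp e'
      · exact absurd (right_eq_mul.mp (mul_right_cancel (e'.symm.trans e))) S.z1
  rcases h _ K S' with h1 | ⟨-, ⟨ε⟩, h2⟩ | ⟨b, hb, h1⟩
  · exact absurd h1 (e5 hI)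
  · have h3 : 𝒞(S'.Z) ≤ (𝒞(S.Z).subgroupOf _).map φ := fun x hx => by
      obtain ⟨k, hk', rfl⟩ : x ∈ (S.H.subgroupOf _).map φ := e3 ▸ S'.hH (hx _ S'.zZ).symm
      have h4 := key k hk' (e2 ▸ (hx _ S'.aZ).symm)
      exact ⟨k, fun e he => (S.comm_Z (S.hH.mp hk').1 (S.comm_V (S.hH.mp hk').2 h4) e he).symm, rfl⟩
    have h2' := commutator_mono h3 h3 h2
    rw [← map_commutator] at h2'
    obtain ⟨d, hd, h4⟩ := h2'
    have h5 : (d : G) ∈ ⁅𝒞(S.Z), 𝒞(S.Z)⁆ := by
      have := mem_map_of_mem (centralizer ({S.z * S.v} : Set G)).subtype hd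
      rw [map_commutator, subgroupOf_map_subtype] at this
      exact commutator_mono inf_le_left inf_le_left this
    have h6 : S.v ∈ ⁅𝒞(S.Z), 𝒞(S.Z)⁆ := by
      rcases (hk (d * ⟨_, hw⟩⁻¹)).mp (by rw [map_mul, map_inv, h4, e2, mul_inv_cancel]) with e | e
      · have := S.ta_nD S.cz.inv_left h5
        rw [mul_inv_eq_one.mp e] at this
        simpa [mul_assoc] using this
      · obtain ⟨k, k1, k2⟩ := S.conjV (mul_mem S.vV S.wV) S.vw1
        have h7 := (mul_mem_cancel_left S.ta_zD).mp (mul_assoc S.z _ _ ▸ mul_inv_eq_iff_eq_mul.mp e ▸ h5 :)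
        have := S.ta_nD k1.inv_left h7
        rw [← k2] at this
        simpa [mul_assoc] using this
    have := CL.Fi22P.simple
    have hX := ε.isSimpleGroup
    have hc : Nat.card _ = 64561751654400 := (Nat.card_congr ε.toEquiv).trans CL.Fi22P.card
    have hq := CL.PG.isQuasisimple_of_simple hc (by norm_num)
    have h8 : φ.ker ≤ commutator _ := fun x hx => by
      rcases (hk x).mp hx with e | e
      · rw [show x = 1 from Subtype.ext e]; exact one_mem _
      · have h9 := commutator_mono (cent_le_cent_singleton S.zvZ) (cent_le_cent_singleton S.zvZ) (mul_mem S.ta_zD h6)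
        rw [← map_subtype_commutator] at h9
        obtain ⟨x', hx', e'⟩ := h9
        rwa [show x = x' from Subtype.ext (e.trans e'.symm)]
    have h9 : center _ = φ.ker := le_antisymm (fun x hx => by
      rcases hX.eq_bot_or_eq_top_of_normal (center _) inferInstance with e | e
      · have : φ x ∈ center _ := mem_center_iff.mpr fun g => by
          obtain ⟨g, rfl⟩ := hs g
          rw [← map_mul, ← map_mul, mem_center_iff.mp hx g]
        rwa [e, mem_bot] at this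
      · have := hq.2.toNontrivial
        exact absurd (e ▸ QuotientGroup.subsingleton_quotient_top :) (not_subsingleton _)) fun x hx => by
      rcases (hk x).mp hx with e | e
      · rw [show x = 1 from Subtype.ext e]; exact one_mem _
      · exact mem_center_iff.mpr fun g => Subtype.ext (by simpa [e] using mem_cent_singleton.mp g.2)
    refine Cfsg.Agent.S1714.result _ S.ta_ord ⟨⟨?_⟩, ?_⟩ ⟨ε⟩ ⟨S.c, ?_, fun e => ?_⟩
    · rw [← comap_map_eq_self h8, _root_.commutator_def, map_commutator, map_top_of_surjective _ hs, ← _root_.commutator_def,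
        hq.1.commutator_eq_top, comap_top]
    · exact ((QuotientGroup.quotientMulEquivOfEq h9).trans
        (QuotientGroup.quotientKerEquivOfSurjective φ hs)).isSimpleGroup
    · exact mem_cent_singleton.mpr (S.Zc (S.big.nZ S.cz S.zvZ) (S.ZJ S.zvZ))
    · rw [← conj_mul, conj_eq_of_commute S.cz] at e
      exact S.cv (mul_left_cancel e)
  · obtain ⟨s, hs', e⟩ := S.ta_sw
    have h2 : Commute (φ ⟨s, hH hs'⟩) S'.z := S'.Hz (e3 ▸ ⟨_, hs', rfl⟩)
    have h3 : Commute (φ ⟨s, hH hs'⟩) S'.a := by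
      rcases hb with rfl | rfl
      exacts [h1 _, by simpa using (h1 _).mul_right h2.inv_right]
    rw [conj_eq_of_commute (show Commute s _ from key ⟨s, hH hs'⟩ hs' (e2 ▸ h3))] at e
    exact absurd (right_eq_mul.mp e) S.v1

/-- `C(v)` normalises `V` -/
theorem tb1_nv (h : FMn.{u, v}) [Finite G] (S : TM G Γ) (hI : Isl S.z (S.z * S.v)) (hN : ¬ Isl S.z S.v) {g e : G}
    (hg : Commute g S.v) (he : e ∈ S.V) : g * e * g⁻¹ ∈ S.V := by
  have := ta_normal S.v
  set φ := QuotientGroup.mk' ((zpowers S.v).subgroupOf (centralizer {S.v})) with hφ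
  have hs : Function.Surjective φ := QuotientGroup.mk'_surjective _
  have hk := ta_ker S.ta_ordv
  rw [← hφ] at hk
  obtain ⟨hz, hw, K, S', e1, e2, e3, e4, e5⟩ := S.exists_FM (Or.inl rfl) φ hs hk
  rcases h _ K S' with h1 | ⟨⟨x, hx, h1⟩, -⟩ | ⟨b, rfl | rfl, h1⟩
  · exact absurd h1 (e5 hN)
  · obtain ⟨k, hk', rfl⟩ : x ∈ (S.H.subgroupOf _).map φ := e3 ▸ hx
    refine absurd (mul_inv_eq_one.mp (mul_inv_eq_one.mpr (mul_inv_eq_iff_eq_mul.mp (mul_inv_eq_one.mp ?_)))) h1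
    rw [e2, ← map_inv, ← map_inv, ← map_mul, ← map_mul, ← map_mul, hk]
    exact (S.ta_conj_w hk').imp (fun e => mul_inv_eq_one.mpr e) fun e => mul_inv_eq_iff_eq_mul.mpr e
  · have h2 : g * (S.c * S.v * S.c⁻¹) * g⁻¹ ∈ S.V := by
      rcases ta_comm φ hk (a := ⟨g, mem_cent_singleton.mpr hg⟩) (b := ⟨_, hw⟩) (e2 ▸ h1 _) with e | e
      exacts [e.symm ▸ S.wV, e.symm ▸ mul_mem S.vV S.wV]
    rcases S.mem_V.mp he with rfl | rfl | rfl | rfl
    · simp
    · rw [conj_eq_of_commute hg]; exact he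
    · exact h2
    · rw [← conj_mul, conj_eq_of_commute hg]; exact mul_mem S.vV h2
  · exfalso
    have h2 : Isl S.z (S.c * S.v * S.c⁻¹ * S.z) := by
      have := hI.conj S.cz
      rwa [← conj_mul, conj_eq_of_commute S.cz, ← (S.Zc (S.VZ S.wV) S.zJ).eq] at this
    refine hN fun k k1 k2 => ?_
    rcases ta_comm φ hk (a := ⟨k, mem_cent_singleton.mpr k1⟩) (b := ⟨_, hw⟩ * ⟨_, hz⟩)
      (by rw [map_mul, ← e1, ← e2]; exact h1 _) with e | e
    · exact h2 k (mul_inv_eq_iff_eq_mul.mp e) k2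
    · obtain ⟨s, hs', e'⟩ := S.ta_sw
      have h3 : k * s * S.z * (k * s)⁻¹ = k * S.z * k⁻¹ := by rw [mul_assoc k, (S.Hz hs').eq]; group
      rw [← h3] at k2 ⊢
      refine h2 _ (mul_inv_eq_iff_eq_mul.mp ?_) k2
      have e : k * (S.c * S.v * S.c⁻¹ * S.z) * k⁻¹ = S.v * (S.c * S.v * S.c⁻¹ * S.z) := e
      calc _ = k * (s * (S.c * S.v * S.c⁻¹) * s⁻¹ * (s * S.z * s⁻¹)) * k⁻¹ := by group
        _ = k * S.v * k⁻¹ * (k * (S.c * S.v * S.c⁻¹ * S.z) * k⁻¹) := by
          rw [e', conj_eq_of_commute (S.Hz hs')]; group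
        _ = _ := by rw [e, conj_eq_of_commute k1, ← mul_assoc, S.Zsq S.vZ, one_mul]

theorem tb1 (h : FMn.{u, v}) (h' : VSN.{u, v}) : TB1.{u, v} := by
  intro G Γ _ _ _ S hI hN
  have : (S.V.subgroupOf (centralizer {S.v})).Normal := ⟨fun x hx c => tb1_nv h S hI hN (mem_cent_singleton.mp c.2) hx⟩
  have hJ : S.J ≤ centralizer {S.v} := fun j hj => mem_cent_singleton.mpr (S.Zc S.vZ hj).symm
  have hz := hJ S.zJ
  let φ := QuotientGroup.mk' (S.V.subgroupOf (centralizer {S.v}))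
  have hk : ∀ c, φ c = 1 ↔ (c : G) ∈ S.V := fun c => QuotientGroup.eq_one_iff c
  obtain ⟨K, r, -, -, -, h4⟩ := S.big.exists_BM φ (QuotientGroup.mk'_surjective _) hz (fun d hd => S.VZ ((hk d).mp hd))
    (fun e => S.zV ((hk _).mp e))
    (fun e he => (S.mem_Z.mp he).imp (hk e).mpr fun h1 => by
      have h2 := (hk (e * ⟨_, hz⟩)).mpr h1
      have h3 := (hk (⟨_, hz⟩ * ⟨_, hz⟩)).mpr (by simp [S.zz])
      rw [map_mul] at h2 h3
      exact mul_right_cancel (h2.trans h3.symm))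
    (fun c hc h1 => S.hH.mpr ⟨h1, mem_cent_singleton.mp hc⟩) (fun j hj => ⟨1, one_mem _, by simpa using hJ hj⟩)
    (fun γ hγ => by
      obtain ⟨c, hc, e, h⟩ := S.exists_lift hγ
      exact ⟨c, hc, mem_cent_singleton.mpr (h _ S.vZ), e⟩)
  have L := h4 (by
    by_contra! h5
    exact hN fun g h6 h7 => h5 g (mem_cent_singleton.mpr h6) h7)
  have nz : ∀ e ∈ S.Z, IsConj S.z e → e = S.z := fun e he h1 => by
    obtain ⟨k, rfl⟩ := isConj_iff.mp h1
    exact S.big.nz k he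
  obtain ⟨T, t1, t2, t3, t4⟩ := S.tb1_syl
  exact h' G _ K S.z S.v S.V hz φ _ _ r
    { zz := S.zz
      sq := fun e he => S.Zsq (S.VZ he)
      card := S.card_V.le
      yV := S.vV
      y1 := S.v1
      Vz := fun e he => S.Zc (S.VZ he) S.zJ
      conjV := fun e he h1 => S.conjV he h1
      nV := S.nV
      surj := QuotientGroup.mk'_surjective _
      ker := hk
      ls := L
      nz := fun e he h1 => mul_eq_left.mp (nz _ (mul_mem S.zZ (S.VZ he)) h1)
      ny := fun e he h1 => by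
        by_cases h0 : e = 1
        · exact S.zV (nz _ S.vZ (by simpa [h0] using h1.symm) ▸ S.vV)
        · obtain ⟨k, k1, rfl⟩ := S.conjV he h0
          obtain ⟨n, n1, n2⟩ := S.big.burnside t1 t2 t3 (p := S.v) (q := S.z * S.v)
            (fun t ht => mem_cent_singleton.mp (t4 ht))
            (fun t ht => (Commute.mul_right (mem_cent_singleton.mp (t2 ht)) (mem_cent_singleton.mp (t4 ht))).eq)
            (h1.trans (isConj_iff.mpr ⟨k, by rw [← conj_mul, conj_eq_of_commute k1]⟩).symm)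
          exact S.zV ((mul_mem_cancel_right S.vV).mp (n2 ▸ S.nV n1 S.vV))
      odd := by
        have h1 : Odd T.index := Nat.not_even_iff_odd.mp fun e => t1.2.2 (by simpa using e.two_dvd)
        exact h1.of_dvd_nat (index_dvd_of_le (le_inf t2 t4))
      root := by
        obtain ⟨j, hj, e⟩ := S.exists_root
        exact ⟨⟨j, hJ hj⟩, ⟨_, hj, rfl⟩, e⟩
      hu := ⟨_, Or.inr rfl, fun g h1 h2 => by
        have h3 : Commute g S.z := mul_inv_eq_iff_eq_mul.mp (hI g h1 h2.symm)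
        simpa using h3.inv_right.mul_right h1⟩
      hw := fun g h1 h2 => Or.inl (hI g h1 h2.symm)
      core := fun g h1 h3 => S.big.core h1 h3 }

end CL.Fc
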