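/-
Centralisers `(2^k × 2^{1+8}).U₄(2)`: the quotient `G / V = Aut U₆(2)` (job FC-TB2, helper93).
-/
import Cfsg.Agent.Spor.FcD2
import Cfsg.Agent.S0815

set_option autoImplicit false

namespace CL.Fc

open Subgroup CL.Even CL.Grp CL.U6 CL.MT Cfsg

universe u v w

variable {G : Type u} {Γ : Type v} [Group G] [Group Γ]

namespace TM

variable (S : TM G Γ)

theorem tb2_conj [hV : S.V.Normal] {e : G} (he : e ∈ S.V) (h1 : e ≠ 1) (g : G) :
    g * e * g⁻¹ = S.v ∨ g * e * g⁻¹ = S.c * S.v * S.c⁻¹ ∨ g * e * g⁻¹ = S.v * (S.c * S.v * S.c⁻¹) :=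
  (S.mem_V.mp (hV.conj_mem e he g)).resolve_left fun h => h1 (conj_eq_one_iff.mp h)

/-- squares of elements of `C(v)` centralise `V` -/
theorem tb2_sq [S.V.Normal] {a : G} (ha : Commute a S.v) : a * a ∈ 𝒞(S.V) := fun e he => by
  refine (S.comm_V (ha.mul_left ha) ?_ e he).symm
  rcases S.tb2_conj S.wV S.w1 a with h | h | h
  · exact absurd (by simpa using h.trans (conj_eq_of_commute ha).symm) S.cv
  · exact Commute.mul_left (mul_inv_eq_iff_eq_mul.mp h) (mul_inv_eq_iff_eq_mul.mp h)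
  · refine mul_inv_eq_iff_eq_mul.mp ?_
    calc _ = a * (a * (S.c * S.v * S.c⁻¹) * a⁻¹) * a⁻¹ := by group
      _ = _ := by rw [h, ← conj_mul, conj_eq_of_commute ha, h, ← mul_assoc, S.Zsq S.vZ, one_mul]

/-- No element moving `v` as `c` does centralises `C(V)` modulo `V`. -/
theorem tb2_not [Finite G] {g : G} (hg : ∀ k ∈ 𝒞(S.V), g * k * g⁻¹ * k⁻¹ ∈ S.V)
    (h1 : g * S.v * g⁻¹ = S.c * S.v * S.c⁻¹) : False := by
  have hJ : S.J ≤ 𝒞(S.V) := fun j hj e he => S.Zc (S.VZ he) hj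
  have hz : Commute g S.z := mul_inv_eq_iff_eq_mul.mp
    (S.big.nz g ((mul_mem_cancel_right (inv_mem S.zZ)).mp (S.VZ (hg _ (hJ S.zJ)))))
  have hH : S.c⁻¹ * g ∈ S.H := S.hH.mpr ⟨S.cz.inv_left.mul_left hz, mul_inv_eq_iff_eq_mul.mp (by
    calc _ = S.c⁻¹ * (g * S.v * g⁻¹) * S.c := by group
      _ = _ := by rw [h1]; group)⟩
  have h3 : S.c⁻¹ * g ∈ S.J := (S.r_eq hH).mp (S.md.cent_LL fun γ hγ => by
    obtain ⟨k, hk, rfl, h4⟩ := S.exists_lift hγ
    have h5 : S.c⁻¹ * g * k * (S.c⁻¹ * g)⁻¹ * k⁻¹ ∈ S.J := by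
      have := mul_mem (S.nJ S.cz.inv_left (S.ZJ (S.VZ (hg k fun e he => (h4 e (S.VZ he)).symm))))
        (S.nJ S.cz.inv_left (S.cJ (S.Hz hk) fun e he => h4 e (S.VZ he)))
      convert this using 1
      group
    have h6 := S.r_J h5
    rw [S.r_mul (mul_mem (mul_mem hH hk) (inv_mem hH)) (inv_mem hk), S.r_conj hH hk, S.r_inv hk] at h6
    exact mul_inv_eq_iff_eq_mul.mp (mul_inv_eq_one.mp h6))
  obtain ⟨j, hj, h4⟩ := S.cnt
  have h5 := S.VZ (hg _ (hJ (S.norm (inv_mem hH) hj)))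
  have h6 : (S.c⁻¹ * g)⁻¹ * j * (S.c⁻¹ * g)⁻¹⁻¹ * j⁻¹ ∈ S.Z := by
    rcases S.conj_J (inv_mem h3) hj with e | e
    · rw [conj_eq_of_commute e, mul_inv_cancel]; exact one_mem _
    · rw [e]; exact S.normZ (S.JH hj) S.zZ
  refine h4 ?_
  convert mul_mem h5 h6 using 1
  group

/-- An element centralising `C(V)` modulo `V` centralises an involution of `V`. -/
theorem tb2_fix [Finite G] [hV : S.V.Normal] {g : G} (hg : ∀ k ∈ 𝒞(S.V), g * k * g⁻¹ * k⁻¹ ∈ S.V) :
    ∃ e ∈ S.V, e ≠ 1 ∧ g * e * g⁻¹ = e := by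
  by_contra! h
  rcases S.tb2_conj S.vV S.v1 g with e | e | e
  · exact h _ S.vV S.v1 e
  · exact S.tb2_not hg e
  refine S.tb2_not (g := g⁻¹) (fun x hx => ?_) ?_
  · have := inv_mem (hg _ ((inferInstance : (𝒞(S.V)).Normal).conj_mem x hx g⁻¹))
    convert this using 1
    group
  · rcases S.tb2_conj S.wV S.w1 g with e' | e' | e'
    · conv_lhs => rw [← e']
      group
    · exact absurd e' (h _ S.wV S.w1)
    · exact absurd (by simpa using e'.trans e.symm) S.cv

theorem tb2_index [Finite G] : 3 ≤ (centralizer ({S.v} : Set G)).index := by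
  have h0 : (centralizer ({S.v} : Set G)).index ≠ 0 := index_ne_zero_of_finite
  have h1 : (centralizer ({S.v} : Set G)).index ≠ 1 := fun h =>
    S.cv (conj_eq_of_commute (mem_cent_singleton.mp ((index_eq_one.mp h).ge (mem_top S.c))))
  have h2 : (centralizer ({S.v} : Set G)).index ≠ 2 := fun h => by
    have h3 := conj_eq_of_commute (mem_cent_singleton.mp (mul_self_mem_of_index_two h S.c))
    refine S.w1 (mul_eq_left.mp (S.cc.symm.trans (Eq.trans ?_ h3)))
    group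
  omega

end TM

theorem tb2 : TB2.{u, v, w} := by
  intro G Γ K _ _ _ _ _ S hV hK hI
  let π := QuotientGroup.mk' S.V
  let C := centralizer ({S.v} : Set G)
  have hπ : Function.Surjective π := QuotientGroup.mk'_surjective _
  have hJ : S.J ≤ C := fun j hj => mem_cent_singleton.mpr (S.Zc S.vZ hj).symm
  have hz : S.z ∈ C := hJ S.zJ
  have hNC : 𝒞(S.V) ≤ C := cent_le_cent_singleton S.vV
  have hVN : S.V ≤ 𝒞(S.V) := fun a ha e he => S.Zc (S.VZ he) (S.ZJ (S.VZ ha))
  let φ : C →* C.map π := π.subgroupMap C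
  have hs : Function.Surjective φ := π.subgroupMap_surjective C
  have hφ : ∀ d : C, (φ d : G ⧸ S.V) = π d := fun _ => rfl
  have hk : ∀ d : C, φ d = 1 ↔ (d : G) ∈ S.V := fun d => by
    rw [Subtype.ext_iff, hφ]; exact QuotientGroup.eq_one_iff _
  obtain ⟨K', r, -, -, -, h4⟩ := S.big.exists_BM φ hs hz (fun d hd => S.VZ ((hk d).mp hd))
    (fun e => S.zV ((hk _).mp e))
    (fun e he => (S.mem_Z.mp he).imp (hk e).mpr fun h => by
      have h1 := (hk (e * ⟨S.z, hz⟩)).mpr h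
      rw [map_mul] at h1
      rw [eq_inv_of_mul_eq_one_left h1, ← map_inv]
      exact congrArg φ (Subtype.ext (S.Zinv S.zZ)))
    (fun c hc h => S.hH.mpr ⟨h, mem_cent_singleton.mp hc⟩)
    (fun j hj => ⟨1, one_mem _, by rw [mul_one]; exact hJ hj⟩)
    (fun γ hγ => by
      obtain ⟨c, hc, e, h⟩ := S.exists_lift hγ
      exact ⟨c, hc, mem_cent_singleton.mpr (h _ S.vZ), e⟩)
  have L := h4 (by
    by_contra! h5
    exact hI fun g h6 h7 => h5 g (mem_cent_singleton.mpr h6) h7)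
  obtain ⟨G₀, h1, ⟨e⟩, h3⟩ := L.main hK
  have hsimp : IsSimpleGroup (PSU 6 K 2) := CL.Uni.isSimpleGroup_PSU (by rw [hK]; rfl) (by norm_num) (by norm_num)
  have hs0 : IsSimpleGroup G₀ := e.isSimpleGroup
  let N := (𝒞(S.V)).map π
  have hN : N.Normal := Normal.map inferInstance π hπ
  have hNC' : N ≤ C.map π := map_mono hNC
  have hm : ∀ g, π g ∈ N ↔ g ∈ 𝒞(S.V) := fun g => by
    rw [← mem_comap, comap_map_eq_self (by rwa [QuotientGroup.ker_mk'])]
  have h5 : G₀ ≤ N.subgroupOf (C.map π) := by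
    refine subgroupOf_eq_top.mp ((IsSimpleGroup.eq_bot_or_eq_top_of_normal
      ((N.subgroupOf (C.map π)).subgroupOf G₀) inferInstance).resolve_left fun h => ?_)
    have h6 : ∀ a ∈ G₀, a * a = 1 := fun a ha => by
      obtain ⟨a, rfl⟩ := hs a
      have : (⟨φ a, ha⟩ * ⟨φ a, ha⟩ : G₀) ∈ (N.subgroupOf (C.map π)).subgroupOf G₀ :=
        ⟨_, S.tb2_sq (mem_cent_singleton.mp a.2), rfl⟩
      rw [h] at this
      exact congrArg Subtype.val (mem_bot.mp this)
    obtain ⟨a, ha⟩ := exists_ne (1 : G₀)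
    exact ha (Subtype.ext (mem_bot.mp (h3 ▸ fun b hb => Md.comm_of_sq h6 hb a.2)))
  have h6 : (N.subgroupOf (C.map π)).index ≠ 1 := fun h => by
    obtain ⟨s, hs, h7⟩ := S.sw
    have : φ ⟨s, mem_cent_singleton.mpr (S.hH.mp hs).2⟩ ∈ N.subgroupOf (C.map π) := (index_eq_one.mp h).ge (mem_top _)
    exact h7 (Commute.symm ((hm s).mp this _ S.wV))
  have h7 : G₀.index ≤ 2 := by
    rw [L.md.card_eq] at h1
    rcases L.md.index_LL with h | ⟨h, -⟩ <;> omega
  have h8 := relIndex_mul_index h5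
  have h9 : G₀.index ≠ 0 := index_ne_zero_of_finite
  have h10 : (N.subgroupOf (C.map π)).index ≠ 0 := index_ne_zero_of_finite
  have h11 : (N.subgroupOf (C.map π)).index = 2 ∧ G₀.relIndex (N.subgroupOf (C.map π)) = 1 := by
    generalize G₀.relIndex (N.subgroupOf (C.map π)) = a at *
    generalize (N.subgroupOf (C.map π)).index = b at *
    have ha : 1 ≤ a := Nat.pos_of_ne_zero fun h => h9 (by rw [← h8, h, zero_mul])
    have hb : 2 ≤ b := by omega
    constructor <;> nlinarith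
  obtain rfl : G₀ = N.subgroupOf (C.map π) := le_antisymm h5 (relIndex_eq_one.mp h11.2)
  have e' : N ≃* PSU 6 K 2 := (subgroupOfEquivOfLe hNC').symm.trans e
  have hinj : Function.Injective (MulAut.conjNormal (H := N)) := (injective_iff_map_eq_one _).mpr fun g hg => by
    have k : ∀ g : G, MulAut.conjNormal (H := N) (π g) = 1 → g ∈ C → π g = 1 := fun g hg hC =>
      congrArg Subtype.val (mem_bot.mp (h3 ▸ fun b hb => Subtype.ext (by
        have := congrArg Subtype.val (DFunLike.congr_fun hg ⟨b, hb⟩)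
        exact (mul_inv_eq_iff_eq_mul.mp this).symm) : φ ⟨g, hC⟩ ∈ ⊥))
    obtain ⟨g, rfl⟩ := hπ g
    obtain ⟨x, hx, hx1, h12⟩ := S.tb2_fix (g := g) fun a ha => by
      have := congrArg Subtype.val (DFunLike.congr_fun hg ⟨π a, (hm a).mpr ha⟩)
      refine (QuotientGroup.eq_one_iff _).mp (show π _ = 1 from ?_)
      rw [map_mul, map_mul, map_mul, map_inv, map_inv]
      exact mul_inv_eq_one.mpr this
    obtain ⟨h, -, rfl⟩ := S.conjV hx hx1
    have h13 := k (h⁻¹ * g * h) (by rw [map_mul, map_mul, map_mul, map_mul, hg, map_inv, map_inv]; group)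
      (mem_cent_singleton.mpr (mul_inv_eq_iff_eq_mul.mp (by
        calc _ = h⁻¹ * (g * (h * S.v * h⁻¹) * g⁻¹) * h := by group
          _ = _ := by rw [h12]; group)))
    rw [map_mul, map_mul, map_inv] at h13
    simpa using conj_eq_one_iff.mp (show (π h)⁻¹ * π g * (π h)⁻¹⁻¹ = 1 by rw [inv_inv, h13])
  have hc : Nat.card (MulAut N) ≤ Nat.card (G ⧸ S.V) := by
    have : Fact (Nat.Prime 2) := ⟨Nat.prime_two⟩
    rw [Nat.card_congr (MulAut.congr e').toEquiv, Cfsg.Agent.S0815.result 2 1 le_rfl (by norm_num) (by rw [hK]; rfl) 6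
      (by norm_num) (by norm_num), ← Nat.card_congr e'.toEquiv, ← N.card_mul_index, ← relIndex_mul_index hNC',
      relIndex, h11.1, index_map_eq _ hπ (by rw [QuotientGroup.ker_mk']; exact hVN.trans hNC), mul_comm]
    exact Nat.mul_le_mul_left _ (by have : 3 ≤ C.index := S.tb2_index; norm_num; omega)
  exact ⟨(MulEquiv.ofBijective _ (hinj.bijective_of_nat_card_le hc)).trans (MulAut.congr e')⟩

end CL.Fc
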