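/-
Centralisers `(2^k × 2^{1+8}).U₄(2)` (helper9), part TMS (helper90): the structure `TM` from the hypotheses on
`C(z) = (2² × 2^{1+8}).(3 × U₄(2)).2`.
-/
import Cfsg.Agent.Spor.FcD2

set_option autoImplicit false

namespace CL.Fc

open Subgroup CL.Even CL.Grp CL.U6 CL.MT Cfsg
open scoped commutatorElement

universe u v

namespace TMS

variable {M : Type*} [Group M]

theorem mem_zp3 {c x : M} (hc : orderOf c = 3) (hx : x ∈ zpowers c) : x = 1 ∨ x = c ∨ x = c⁻¹ := by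
  classical
  have hfin : IsOfFinOrder c := orderOf_pos_iff.mp (by omega)
  have c3 : c ^ 3 = 1 := hc ▸ pow_orderOf_eq_one c
  rw [hfin.mem_zpowers_iff_mem_range_orderOf, hc] at hx
  obtain ⟨i, hi, rfl⟩ := Finset.mem_image.mp hx
  have := Finset.mem_range.mp hi
  interval_cases i
  · simp
  · simp
  · exact Or.inr (Or.inr (eq_inv_of_mul_eq_one_left (by rw [← pow_succ]; exact c3)))

theorem card_half [Finite M] {Z A : Subgroup M} {z : M} (hA : A ≤ Z) (hz : z ∈ Z) (h1 : z ∉ A)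
    (h : ∀ e ∈ Z, e ∈ A ∨ e * z ∈ A) : Nat.card A * 2 = Nat.card Z := by
  have h2 := (A.subgroupOf Z).card_mul_index
  rwa [card_subgroupOf_of_le hA, index_eq_two_iff.mpr ⟨⟨z, hz⟩, fun b => ?_⟩] at h2
  by_cases h3 : (b : M) ∈ A
  · exact Or.inr ⟨h3, fun e => h1 ((mul_mem_cancel_left h3).mp e)⟩
  · exact Or.inl ⟨(h b b.2).resolve_left h3, h3⟩

theorem index_cent_lt [Finite M] {c z : M} {J : Subgroup M} (hz : z ∈ J) (h : ∀ g, g * c * g⁻¹ * c⁻¹ ∈ J)
    (h' : ∀ g, g * c * g⁻¹ * c⁻¹ ≠ z) : (centralizer {c}).index < Nat.card J := by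
  classical
  let := Fintype.ofFinite (M ⧸ centralizer ({c} : Set M))
  let := Fintype.ofFinite J
  rw [index, Nat.card_eq_fintype_card, Nat.card_eq_fintype_card]
  refine Fintype.card_lt_of_injective_of_notMem (fun k => (⟨k.out * c * k.out⁻¹ * c⁻¹, h _⟩ : J)) (fun a b e => ?_)
    (b := ⟨z, hz⟩) fun ⟨k, e⟩ => h' _ (congrArg Subtype.val e)
  rw [← a.out_eq, ← b.out_eq, QuotientGroup.eq, mem_cent_singleton]
  have := congrArg (fun y : J => a.out⁻¹ * (y : M) * c * b.out) e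
  simpa [mul_assoc] using this.symm

/-- the norm of an element -/
def nm (c e : M) : M := e * (c * e * c⁻¹) * (c⁻¹ * e * c)

theorem nm_comm {c e : M} (c3 : c * c = c⁻¹) (h1 : Commute e (c * e * c⁻¹)) (h2 : Commute e (c⁻¹ * e * c)) :
    Commute (nm c e) c := by
  have c3' : c⁻¹ * c⁻¹ = c := by rw [← mul_inv_rev, c3, inv_inv]
  have : c * nm c e * c⁻¹ = c * e * c⁻¹ * (c * c * e * (c⁻¹ * c⁻¹)) * e := by rw [nm]; group
  rw [c3, c3', ← (h1.mul_right h2).eq, ← mul_assoc] at this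
  exact (mul_inv_eq_iff_eq_mul.mp this).symm

/-- The data in `M = C(z)`. -/
structure TD (z c v : M) (J E W : Subgroup M) : Prop where
  zE : z ∈ E
  dec : ∀ j ∈ J, ∃ e ∈ E, ∃ a, j = e * a ∧ a * a = 1 ∧ ∀ k ∈ J, Commute a k
  vJ : v ∈ J ⊓ 𝒞(J)
  mem_V : ∀ {e}, e ∈ W ↔ e = 1 ∨ e = v ∨ e = c * v * c⁻¹ ∨ e = v * (c * v * c⁻¹)
  v1 : v ≠ 1
  cv : c * v * c⁻¹ ≠ v
  cc : c * (c * v * c⁻¹) * c⁻¹ = v * (c * v * c⁻¹)
  zV : z ∉ W
  mem_Z : ∀ {e}, e ∈ J ⊓ 𝒞(J) ↔ e ∈ W ∨ e * z ∈ W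
  nV : W.Normal
  sw : ∃ s, Commute s v ∧ ¬ Commute s (c * v * c⁻¹)
  cJ : ∀ {h}, (∀ e ∈ W, Commute h e) → h * c * h⁻¹ * c⁻¹ ∈ J
  cnt : ∃ j ∈ J, c * j * c⁻¹ * j⁻¹ ∉ J ⊓ 𝒞(J)
  cover : ∀ h, ∃ k ∈ zpowers c, Commute (h * k) v
  ker : ∀ h ∈ J ⊔ zpowers c, Commute h v → h ∈ J
  sq : ∀ h, Commute h v → ∀ e ∈ J ⊓ 𝒞(J), Commute (h * h) e

/-- An element of order three does not lie in a 2-group. -/
theorem eq_one_of_mem {c x : M} (hc : orderOf c = 3) {J : Subgroup M} (hJ : IsPGroup 2 J) (hx : x ∈ zpowers c)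
    (h : x ∈ J) : x = 1 := by
  obtain ⟨n, hn⟩ := hJ ⟨x, h⟩
  have h1 : orderOf x ∣ 2 ^ n := orderOf_dvd_of_pow_eq_one (congrArg Subtype.val hn)
  have h2 : orderOf x ∣ 3 := hc ▸ orderOf_dvd_of_mem_zpowers hx
  exact orderOf_eq_one_iff.mp (Nat.eq_one_of_dvd_coprimes (Nat.Coprime.pow_left n (by norm_num)) h1 h2)

/-- The structure of `J = V × E`. -/
theorem prod_struct [Finite M] {J V E : Subgroup M} (hVE : IsInternalDirectProduct V E J) (hV2 : ∀ v ∈ V, v ^ 2 = 1)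
    (hE : IsExtraspecial 2 E) : (∀ j ∈ J, ∃ e ∈ E, ∃ a ∈ V, j = e * a) ∧ V ≤ J ⊓ 𝒞(J) ∧
      ∃ y ∈ E, y ≠ 1 ∧ (∀ j ∈ J, ∀ k ∈ J, ⁅j, k⁆ = 1 ∨ ⁅j, k⁆ = y) ∧ (∃ j ∈ J, ∃ k ∈ J, ⁅j, k⁆ = y) ∧
        ∀ e ∈ J ⊓ 𝒞(J), e ∈ V ∨ e * y ∈ V := by
  obtain ⟨hVJ, hEJ, hc, -, hs⟩ := hVE
  have vi : ∀ a ∈ V, a⁻¹ = a := fun a ha => inv_eq_of_mul_eq_one_right (by rw [← pow_two]; exact hV2 a ha)
  have vc : ∀ a ∈ V, ∀ b ∈ V, Commute a b := fun a ha b hb => by
    have := vi _ (mul_mem ha hb)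
    rw [mul_inv_rev, vi a ha, vi b hb] at this
    exact this.symm
  have h1 : ∀ j ∈ J, ∃ e ∈ E, ∃ a ∈ V, j = e * a := fun j hj => by
    rw [← hs, sup_eq_closure] at hj
    induction hj using closure_induction with
    | mem x hx =>
      rcases hx with hx | hx
      exacts [⟨1, one_mem _, x, hx, by simp⟩, ⟨x, hx, 1, one_mem _, by simp⟩]
    | one => exact ⟨1, one_mem _, 1, one_mem _, by simp⟩
    | mul x y _ _ hx hy =>
      obtain ⟨e, he, a, ha, rfl⟩ := hx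
      obtain ⟨f, hf, b, hb, rfl⟩ := hy
      exact ⟨_, mul_mem he hf, _, mul_mem ha hb, by rw [mul_assoc e, ← mul_assoc a, hc a ha f hf]; group⟩
    | inv x _ hx =>
      obtain ⟨e, he, a, ha, rfl⟩ := hx
      exact ⟨_, inv_mem he, _, inv_mem ha, by rw [mul_inv_rev, hc _ (inv_mem ha) _ (inv_mem he)]⟩
  have h2 : ∀ a ∈ V, ∀ j ∈ J, Commute a j := fun a ha j hj => by
    obtain ⟨e, he, b, hb, rfl⟩ := h1 j hj
    exact Commute.mul_right (hc a ha e he) (vc a ha b hb)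
  obtain ⟨y, y1, hy⟩ := (Nat.card_eq_two_iff' (1 : center E)).mp hE.2
  have hy' : ∀ e : E, e ∈ center E → (e : M) = 1 ∨ (e : M) = y := fun e he => by
    by_cases h : (⟨e, he⟩ : center E) = 1
    · exact Or.inl (congrArg (fun x : center E => ((x : E) : M)) h)
    · exact Or.inr (congrArg (fun x : center E => ((x : E) : M)) (hy _ h))
  have y1' : ((y : E) : M) ≠ 1 := fun e => y1 (Subtype.ext (Subtype.ext e))
  have h3 : ∀ e ∈ E, ∀ f ∈ E, ⁅e, f⁆ = 1 ∨ ⁅e, f⁆ = y := fun e he f hf =>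
    hy' ⁅(⟨e, he⟩ : E), (⟨f, hf⟩ : E)⁆ (hE.1.2.2 ▸ commutator_mem_commutator (mem_top _) (mem_top _))
  refine ⟨h1, fun a ha => ⟨hVJ ha, fun j hj => (h2 a ha j hj).eq.symm⟩, y, (y : E).2, y1', fun j hj k hk => ?_, ?_,
    fun x hx => ?_⟩
  · obtain ⟨e, he, a, ha, rfl⟩ := h1 j hj
    obtain ⟨f, hf, b, hb, rfl⟩ := h1 k hk
    have : ⁅e * a, f * b⁆ = ⁅e, f⁆ := by
      rw [commutatorElement_def, commutatorElement_def,
        show e * a * (f * b) * (e * a)⁻¹ * (f * b)⁻¹ = e * (a * (f * b) * a⁻¹) * e⁻¹ * b⁻¹ * f⁻¹ by group,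
        conj_eq_of_commute (h2 a ha _ hk), show e * (f * b) * e⁻¹ * b⁻¹ = e * f * (b * e⁻¹ * b⁻¹) by group,
        conj_eq_of_commute (h2 b hb _ (hEJ (inv_mem he)))]
    exact this ▸ h3 e he f hf
  · by_contra! h
    have : commutator E = ⊥ := eq_bot_iff.mpr (commutator_le.mpr fun e _ f _ => mem_bot.mpr (Subtype.ext
      ((h3 e e.2 f f.2).resolve_right (h _ (hEJ e.2) _ (hEJ f.2)))))
    exact y1 (Subtype.ext (mem_bot.mp ((hE.1.2.2.symm.trans this).le y.2)))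
  · obtain ⟨e, he, a, ha, rfl⟩ := h1 x hx.1
    have h4 : (⟨e, he⟩ : E) ∈ center E := mem_center_iff.mpr fun f => Subtype.ext (by
      have := (show Commute (f : M) (e * a) from hx.2 f (hEJ f.2)).mul_right (h2 _ (inv_mem ha) _ (hEJ f.2)).symm
      simpa using this.eq)
    rcases hy' _ h4 with h | h
    · exact Or.inl (by simpa [show e = 1 from h] using ha)
    · have y2 : ((y : E) : M) * (y : E) = 1 := by
        have := congrArg (fun x : center E => ((x : E) : M)) (hE.2 ▸ pow_card_eq_one' (x := y))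
        simpa [pow_two] using this
      refine Or.inr ?_
      rwa [show e = y from h, ← hc a ha _ (y : E).2, mul_assoc, y2, mul_one]

theorem core [Finite M] {z c : M} (hz : orderOf z = 2) (zc : ∀ h, Commute h z) {J V E : Subgroup M} [hn : J.Normal]
    (hJ : IsPGroup 2 J) (hVE : IsInternalDirectProduct V E J) (hV : Nat.card V = 4) (hV2 : ∀ v ∈ V, v ^ 2 = 1)
    (hE : IsExtraspecial 2 E) (hc : orderOf c = 3) [hN : (J ⊔ zpowers c).Normal]
    (hi : (J ⊔ zpowers c).index = 51840) (h1 : ∀ j ∈ J, Commute j c → j = 1 ∨ j = z)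
    (h2 : Nat.card (centralizer {c}) ≤ 6 * 25920) : ∃ v W, TD z c v J E W := by
  obtain ⟨dec, VZ, y, yE, y1, hy, ⟨j0, hj0, k0, hk0, hy0⟩, mZ⟩ := prod_struct hVE hV2 hE
  have zz := mul_self_of_orderOf_two hz
  have z1 : z ≠ 1 := fun e => by simp [e] at hz
  have c3 : c * c = c⁻¹ := eq_inv_of_mul_eq_one_left (by rw [← pow_three', ← hc, pow_orderOf_eq_one])
  have c3' : c⁻¹ * c⁻¹ = c := by rw [← mul_inv_rev, c3, inv_inv]
  have cJ : c ∉ J := fun e => by simp [eq_one_of_mem hc hJ (mem_zpowers c) e] at hc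
  obtain rfl : y = z := by
    refine (h1 y (hVE.2.1 yE) ?_).resolve_left y1
    have := hy _ (hn.conj_mem _ hj0 c) _ (hn.conj_mem _ hk0 c)
    rw [← conjugate_commutatorElement, hy0] at this
    exact (mul_inv_eq_iff_eq_mul.mp (this.resolve_left (by simpa using y1))).symm
  set Z := J ⊓ 𝒞(J) with hZ
  have Zn : Z.Normal := inferInstance
  have yZ : y ∈ Z := ⟨hVE.2.1 yE, fun j _ => (zc j).eq⟩
  have Zc : ∀ {e j}, e ∈ Z → j ∈ J → Commute e j := fun he hj => (show Commute _ _ from he.2 _ hj).symm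
  have yV : y ∉ V := fun e => y1 (mem_bot.mp (hVE.2.2.2.1 ▸ (⟨e, yE⟩ : y ∈ V ⊓ E)))
  have Z2 : ∀ {e}, e ∈ Z → e * e = 1 := fun {e} he => by
    rcases mZ e he with h | h
    · rw [← pow_two]; exact hV2 _ h
    · have := hV2 _ h
      rwa [(zc e).mul_pow, pow_two y, zz, mul_one, pow_two] at this
  have Zi : ∀ {e}, e ∈ Z → e⁻¹ = e := fun he => inv_eq_of_mul_eq_one_right (Z2 he)
  have Z' : ∀ {e}, e ∈ Z → ∀ g, g⁻¹ * e * g ∈ Z := fun he g => Zn.conj_mem' _ he g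
  have dich : ∀ h, h * c * h⁻¹ * c⁻¹ ∈ J ∨ h * c * h⁻¹ * c⁻¹⁻¹ ∈ J := fun h => by
    obtain ⟨j, hj, k, hk, e⟩ := mem_sup_of_normal_left.mp (hN.conj_mem c (mem_sup_right (mem_zpowers c)) h)
    rw [← e]
    rcases mem_zp3 hc hk with rfl | rfl | rfl
    · exact absurd (by simpa [mul_assoc, ← e] using hn.conj_mem' _ hj h) (by
        rw [mul_one] at e; rw [e]; simpa [mul_assoc] using cJ)
    · exact Or.inl (by simpa using hj)
    · exact Or.inr (by simpa using hj)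
  have act : ∀ {a b e}, a * b⁻¹ ∈ J → e ∈ Z → a * e * a⁻¹ = b * e * b⁻¹ := fun {a b e} h he => by
    rw [← conj_eq_of_commute (Zc (Zn.conj_mem _ he b) h).symm]; group
  have act' : ∀ {a b e}, a * b⁻¹ ∈ J → e ∈ Z → a⁻¹ * e * a = b⁻¹ * e * b := fun {a b e} h he => by
    have := act (a := a⁻¹) (b := b⁻¹) (by simpa [mul_assoc] using hn.conj_mem' _ (inv_mem h) a) he
    simpa using this
  have nmul : ∀ {e f}, e ∈ Z → f ∈ Z → nm c (e * f) = nm c e * nm c f := fun {e f} he hf => by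
    rw [nm, nm, nm, ← (Zc (mul_mem hf (Zn.conj_mem _ hf c)) (Z' he c).1).mul_mul_mul_comm,
      ← (Zc hf (Zn.conj_mem _ he c).1).mul_mul_mul_comm]
    group
  have nz : nm c y = y := by
    rw [nm, conj_eq_of_commute (zc c), zz, one_mul, mul_assoc, ← (zc c).eq, inv_mul_cancel_left]
  let W : Subgroup M :=
    { carrier := {e | e ∈ Z ∧ nm c e = 1}
      mul_mem' := fun ha hb => ⟨mul_mem ha.1 hb.1, by rw [nmul ha.1 hb.1, ha.2, hb.2, one_mul]⟩
      one_mem' := ⟨one_mem _, by simp [nm]⟩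
      inv_mem' := fun ha => by rw [Zi ha.1]; exact ha }
  have WZ : W ≤ Z := fun _ h => h.1
  have yW : y ∉ W := fun h => y1 (nz.symm.trans h.2)
  have Wn : W.Normal := ⟨fun e he h => ⟨Zn.conj_mem _ he.1 h, by
    have e1 : nm c (h * e * h⁻¹) = h * nm (h⁻¹ * c * h⁻¹⁻¹) e * h⁻¹ := by rw [nm, nm]; group
    rw [e1, conj_eq_one_iff, ← he.2, nm, nm]
    rcases dich h⁻¹ with k | k
    · rw [act k he.1, act' k he.1]
    · rw [act k he.1, act' k he.1, inv_inv, mul_assoc, mul_assoc e, (Zc (Z' he.1 c) (Zn.conj_mem _ he.1 c).1).eq]⟩⟩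
  have ZW : ∀ e ∈ Z, e ∈ W ∨ e * y ∈ W := fun e he => by
    rcases h1 _ (mul_mem (mul_mem he (Zn.conj_mem _ he c)) (Z' he c)).1
      (nm_comm c3 (Zc he (Zn.conj_mem _ he c).1) (Zc he (Z' he c).1)) with k | k
    · exact Or.inl ⟨he, k⟩
    · exact Or.inr ⟨mul_mem he yZ, by rw [nmul he yZ, nz, nm, k, zz]⟩
  have cW : Nat.card W = 4 := by
    have := (card_half WZ yZ yW ZW).trans (card_half VZ yZ yV mZ).symm
    omega
  have := Finite.one_lt_card_iff_nontrivial.mp (by omega : 1 < Nat.card W)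
  obtain ⟨⟨v, vW⟩, v1⟩ := exists_ne (1 : W)
  replace v1 : v ≠ 1 := fun e => v1 (Subtype.ext e)
  have fpf : ∀ {e}, e ∈ W → e ≠ 1 → ¬ Commute e c := fun he e1 k =>
    (h1 _ he.1.1 k).elim e1 fun e => yW (e ▸ he)
  have cv : c * v * c⁻¹ ≠ v := fun e => fpf vW v1 (mul_inv_eq_iff_eq_mul.mp e).symm
  have wW := Wn.conj_mem _ vW c
  have c2 : c⁻¹ * v * c = v * (c * v * c⁻¹) := by
    rw [← Zi (mul_mem vW.1 wW.1)]; exact eq_inv_of_mul_eq_one_right vW.2
  have w1 : c * v * c⁻¹ ≠ 1 := by simpa using v1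
  have vw1 : v * (c * v * c⁻¹) ≠ 1 := fun e => cv (by rw [eq_inv_of_mul_eq_one_right e, Zi vW.1])
  have mW : ∀ {e}, e ∈ W ↔ e = 1 ∨ e = v ∨ e = c * v * c⁻¹ ∨ e = v * (c * v * c⁻¹) := fun {e} => by
    classical
    refine ⟨fun he => ?_, by rintro (rfl | rfl | rfl | rfl); exacts [one_mem _, vW, wW, mul_mem vW wW]⟩
    by_contra! h
    have := Set.ncard_le_ncard (s := ((({e, 1, v, c * v * c⁻¹, v * (c * v * c⁻¹)} : Finset M)) : Set M))
      (t := (W : Set M)) (by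
        simp only [Finset.coe_insert, Finset.coe_singleton, Set.insert_subset_iff, Set.singleton_subset_iff]
        exact ⟨he, one_mem W, vW, wW, mul_mem vW wW⟩)
    rw [Set.ncard_coe_finset, ← Nat.card_coe_set_eq, SetLike.coe_sort_coe, cW] at this
    generalize c * v * c⁻¹ = w at *
    simp [Finset.card_insert_of_notMem, h.1, h.2.1, h.2.2.1, h.2.2.2, v1, v1.symm, w1, w1.symm, cv.symm,
      vw1.symm] at this
  have cmW : ∀ {h}, Commute h v → Commute h (c * v * c⁻¹) → ∀ e ∈ W, Commute h e := fun a b e he => by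
    rcases mW.mp he with rfl | rfl | rfl | rfl
    exacts [Commute.one_right _, a, b, a.mul_right b]
  have hcJ : ∀ {h}, (∀ e ∈ W, Commute h e) → h * c * h⁻¹ * c⁻¹ ∈ J := fun {h} k => (dich h).resolve_right fun k1 => by
    have := act k1 vW.1
    rw [show h * c * h⁻¹ * v * (h * c * h⁻¹)⁻¹ = h * (c * (h⁻¹ * v * h⁻¹⁻¹) * c⁻¹) * h⁻¹ by group,
      conj_eq_of_commute (k v vW).inv_left, conj_eq_of_commute (k _ wW), inv_inv, c2] at this
    exact v1 (right_eq_mul.mp this)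
  have cover : ∀ h, ∃ k ∈ zpowers c, Commute (h * k) v := fun h => by
    have k : ∀ k, h⁻¹ * v * h = k * v * k⁻¹ → Commute (h * k) v := fun k e => mul_inv_eq_iff_eq_mul.mp (by
      rw [show h * k * v * (h * k)⁻¹ = h * (k * v * k⁻¹) * h⁻¹ by group, ← e]; group)
    rcases mW.mp (Wn.conj_mem' _ vW h) with e | e | e | e
    · exact absurd (by simpa [mul_assoc, inv_mul_eq_iff_eq_mul] using e) v1
    · exact ⟨1, one_mem _, k 1 (by simpa using e)⟩
    · exact ⟨c, mem_zpowers c, k c e⟩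
    · exact ⟨c⁻¹, inv_mem (mem_zpowers c), k _ (by rw [e, inv_inv, c2])⟩
  refine ⟨v, W, yE, fun j hj => ?_, vW.1, mW, v1, cv, ?_, yW, fun {e} => ⟨ZW e, fun h => ?_⟩, Wn, ?_, hcJ, ?_, cover,
    fun h hh k => ?_, fun h k e he => ?_⟩
  · obtain ⟨e, he, a, ha, rfl⟩ := dec j hj
    exact ⟨e, he, a, rfl, Z2 (VZ ha), fun k hk => Zc (VZ ha) hk⟩
  · rw [← c2, show c * (c * v * c⁻¹) * c⁻¹ = c * c * v * (c⁻¹ * c⁻¹) by group, c3, c3']
  · exact h.elim (fun h => h.1) fun h => (mul_mem_cancel_right yZ).mp h.1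
  · by_contra! h
    have k1 := index_cent_lt (c := c) yZ.1 (fun g => by
      obtain ⟨k, hk, e⟩ := cover g
      have k2 : Commute k c := by obtain ⟨n, rfl⟩ := hk; exact (Commute.refl c).zpow_left n
      have := hcJ (cmW e (h _ e))
      rwa [show g * k * c * (g * k)⁻¹ = g * (k * c * k⁻¹) * g⁻¹ by group, conj_eq_of_commute k2] at this) fun g e => by
      have k2 : (g * c * g⁻¹) ^ 3 = 1 := by rw [conj_pow, ← hc, pow_orderOf_eq_one]; simp
      rw [mul_inv_eq_iff_eq_mul.mp e, (zc c).symm.mul_pow, ← hc, pow_orderOf_eq_one, hc, pow_three, zz] at k2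
      exact y1 (by simpa using k2)
    have k2 := relIndex_mul_index (le_sup_left : J ≤ J ⊔ zpowers c)
    rw [relIndex_sup_left, relIndex, show J.subgroupOf (zpowers c) = ⊥ from eq_bot_iff.mpr fun x hx =>
      mem_bot.mpr (Subtype.ext (eq_one_of_mem hc hJ x.2 hx)), index_bot, Nat.card_zpowers, hc, hi] at k2
    have k3 := J.card_mul_index
    have k4 := (centralizer ({c} : Set M)).card_mul_index
    rw [← k2, ← k4] at k3
    nlinarith
  · by_contra! h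
    have k1 : ∀ j ∈ J, j ∈ Z := fun j hj => by
      have e1 := h j hj
      have e2 := h _ (hn.conj_mem' _ hj c)
      have a1 : Commute j (c * j * c⁻¹) := by simpa using (Zc e1 hj).symm.mul_right (Commute.refl j)
      have a2 : Commute j (c⁻¹ * j * c) := by
        have := (Zc e2 hj).symm.inv_right.mul_right (Commute.refl j)
        simpa [mul_assoc] using this
      have a3 : nm c j ∈ Z := by
        rcases h1 _ (mul_mem (mul_mem hj (hn.conj_mem _ hj c)) (hn.conj_mem' _ hj c)) (nm_comm c3 a1 a2) with k | k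
        · rw [nm, k]; exact one_mem _
        · rw [nm, k]; exact yZ
      have a4 : j * j ∈ Z := ⟨mul_mem hj hj, fun k hk => by
        rcases hy j hj k hk with e | e
        · exact ((commutatorElement_eq_one_iff_commute.mp e).mul_left
            (commutatorElement_eq_one_iff_commute.mp e)).eq.symm
        · have e' : j * k = y * k * j := by rw [← e, commutatorElement_def]; group
          rw [mul_assoc j, e', ← mul_assoc j, ← mul_assoc j, (zc j).eq, mul_assoc y, e', ← mul_assoc y, ← mul_assoc y,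
            zz]
          group⟩
      have a5 := mul_mem (mul_mem (inv_mem a4) (Zn.conj_mem _ (inv_mem e1) j)) (mul_mem a3 e2)
      rw [nm] at a5
      have a6 : (j * j)⁻¹ * (j * (c * j * c⁻¹ * j⁻¹)⁻¹ * j⁻¹) * (j * (c * j * c⁻¹) * (c⁻¹ * j * c) *
          (c * (c⁻¹ * j * c) * c⁻¹ * (c⁻¹ * j * c)⁻¹)) = c⁻¹ * j * c * j * (c⁻¹ * j * c)⁻¹ := by group
      rwa [a6, ← a2.eq, mul_inv_cancel_right] at a5
    exact y1 (hy0 ▸ commutatorElement_eq_one_iff_commute.mpr (Zc (k1 _ hj0) hk0))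
  · obtain ⟨j, hj, x, hx, rfl⟩ := mem_sup_of_normal_left.mp hh
    have k1 : Commute x v := by simpa using (Zc vW.1 (inv_mem hj)).symm.mul_left k
    rcases mem_zp3 hc hx with rfl | rfl | rfl
    · simpa using hj
    · exact absurd k1.symm (fpf vW v1)
    · exact absurd (by simpa using k1.inv_left.symm) (fpf vW v1)
  · have k1 : Commute (h * h) (c * v * c⁻¹) := by
      rcases mW.mp (Wn.conj_mem _ wW h) with e | e | e | e
      · exact absurd (by simpa using e) v1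
      · exact absurd (by simpa using e.trans (conj_eq_of_commute k).symm) cv
      · exact (show Commute _ _ from mul_inv_eq_iff_eq_mul.mp e).mul_left (mul_inv_eq_iff_eq_mul.mp e)
      · refine mul_inv_eq_iff_eq_mul.mp ?_
        rw [show h * h * (c * v * c⁻¹) * (h * h)⁻¹ = h * (h * (c * v * c⁻¹) * h⁻¹) * h⁻¹ by group, e,
          show h * (v * (c * v * c⁻¹)) * h⁻¹ = h * v * h⁻¹ * (h * (c * v * c⁻¹) * h⁻¹) by group, e,
          conj_eq_of_commute k, ← mul_assoc, Z2 vW.1, one_mul]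
    have k2 := cmW (k.mul_left k) k1
    rcases ZW e he with k3 | k3
    · exact k2 e k3
    · simpa [mul_assoc, zz] using (k2 _ k3).mul_right (zc _)

/-- The centraliser of `c`. -/
theorem cent_c [Finite M] {z c : M} (hz : orderOf z = 2) (zc : ∀ h, Commute h z) {J : Subgroup M} [hn : J.Normal]
    (hJ : IsPGroup 2 J) (zJ : z ∈ J) (hc : orderOf c = 3) {P : Type*} [Group P] [IsSimpleGroup P]
    (hP : Nat.card P = 25920) [((zpowers c ⊔ zpowers z).subgroupOf (centralizer ({c} : Set M))).Normal]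
    (e : (centralizer ({c} : Set M) ⧸ (zpowers c ⊔ zpowers z).subgroupOf (centralizer ({c} : Set M))) ≃* P) :
    (∀ j ∈ J, Commute j c → j = 1 ∨ j = z) ∧ Nat.card (centralizer {c}) ≤ 6 * 25920 := by
  have zn : (zpowers z).Normal := ⟨fun x hx g => by
    obtain ⟨n, rfl⟩ := hx
    rw [conj_eq_of_commute ((zc g).zpow_right n)]; exact zpow_mem_zpowers z n⟩
  refine ⟨fun j hj h => ?_, ?_⟩
  · let f := e.toMonoidHom.comp (QuotientGroup.mk' _)
    have hf : Function.Surjective f := e.surjective.comp (QuotientGroup.mk'_surjective _)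
    have h1 : IsPGroup 2 ((J.subgroupOf (centralizer {c})).map f) := (hJ.comap_subtype).map f
    rcases ((hn.subgroupOf (centralizer {c})).map f hf).eq_bot_or_eq_top with k | k
    · have h2 : f ⟨j, mem_cent_singleton.mpr h⟩ = 1 := mem_bot.mp (k ▸ mem_map_of_mem f hj)
      have h3 : j ∈ zpowers c ⊔ zpowers z :=
        mem_subgroupOf.mp ((QuotientGroup.eq_one_iff _).mp (e.map_eq_one_iff.mp h2))
      obtain ⟨a, ha, b, hb, rfl⟩ := mem_sup_of_normal_right.mp h3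
      rw [eq_one_of_mem hc hJ ha ((mul_mem_cancel_right (zpowers_le.mpr zJ hb)).mp hj), one_mul]
      exact (mem_zpowers_two hz).mp hb
    · have : Finite P := Nat.finite_of_card_ne_zero (by omega)
      rw [k] at h1
      obtain ⟨n, hn⟩ := IsPGroup.iff_card.mp h1
      rw [card_top, hP] at hn
      exact absurd (Nat.Prime.dvd_of_dvd_pow Nat.prime_three (hn ▸ (by norm_num : 3 ∣ 25920))) (by norm_num)
  · have c3 : c ^ 3 = 1 := hc ▸ pow_orderOf_eq_one c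
    have z2 : z ^ 2 = 1 := hz ▸ pow_orderOf_eq_one z
    have h1 : zpowers c ⊔ zpowers z ≤ zpowers (c * z) := sup_le (zpowers_le.mpr ⟨(4 : ℕ), by
      simp only [zpow_natCast]
      rw [(zc c).mul_pow, pow_succ, c3, show 4 = 2 * 2 from rfl, pow_mul, z2]; simp⟩) (zpowers_le.mpr ⟨(3 : ℕ), by
      simp only [zpow_natCast]
      rw [(zc c).mul_pow, c3, pow_succ, z2]; simp⟩)
    have h2 : orderOf (c * z) ≤ 6 := orderOf_le_of_pow_eq_one (by norm_num) (by
      rw [(zc c).mul_pow, show c ^ 6 = (c ^ 3) ^ 2 by group, show z ^ 6 = (z ^ 2) ^ 3 by group, c3, z2]; simp)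
    have h3 := card_le_of_le h1
    have h4 := ((zpowers c ⊔ zpowers z).subgroupOf (centralizer ({c} : Set M))).card_mul_index
    rw [card_subgroupOf_of_le (sup_le (zpowers_le.mpr (mem_cent_singleton.mpr rfl))
      (zpowers_le.mpr (mem_cent_singleton.mpr (zc c).eq.symm))), index, Nat.card_congr e.toEquiv, hP] at h4
    rw [Nat.card_zpowers] at h3
    omega

end TMS

open TMS in
/-- The structure `TM` from the hypotheses on the centraliser of the involution. -/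
theorem exists_TM (h : GMC.{u, v}) {G : Type u} [Group G] [Finite G] (z : G) (hz : orderOf z = 2)
    {F : Type v} [Field F] [Fintype F] (hF : Fintype.card F = 3)
    (V E : Subgroup ↥(Subgroup.centralizer ({z} : Set G))) (hVE : Cfsg.IsInternalDirectProduct V E (Cfsg.pCore 2 ↥(Subgroup.centralizer ({z} : Set G)))) (hV : Nat.card ↥V = 4) (hV2 : ∀ v ∈ V, v ^ 2 = 1)
    (hE : Cfsg.IsExtraspecial 2 ↥E) (hEc : Nat.card ↥E = 2 ^ 9)
    (hCJ : Subgroup.centralizer ((Cfsg.pCore 2 ↥(Subgroup.centralizer ({z} : Set G))) : Set ↥(Subgroup.centralizer ({z} : Set G))) ≤ Cfsg.pCore 2 ↥(Subgroup.centralizer ({z} : Set G)))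
    (zc c : ↥(Subgroup.centralizer ({z} : Set G))) (hzc : (zc : G) = z) (hc : orderOf c = 3)
    [hJc : (Cfsg.pCore 2 ↥(Subgroup.centralizer ({z} : Set G)) ⊔ Subgroup.zpowers c).Normal] (e : (↥(Subgroup.centralizer ({z} : Set G)) ⧸ (Cfsg.pCore 2 ↥(Subgroup.centralizer ({z} : Set G)) ⊔ Subgroup.zpowers c)) ≃* MulAut (Cfsg.PSp 2 F))
    [hcz : ((Subgroup.zpowers c ⊔ Subgroup.zpowers zc).subgroupOf (Subgroup.centralizer ({c} : Set ↥(Subgroup.centralizer ({z} : Set G))))).Normal]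
    (e' : (↥(Subgroup.centralizer ({c} : Set ↥(Subgroup.centralizer ({z} : Set G)))) ⧸ (Subgroup.zpowers c ⊔ Subgroup.zpowers zc).subgroupOf (Subgroup.centralizer ({c} : Set ↥(Subgroup.centralizer ({z} : Set G))))) ≃* Cfsg.PSp 2 F) :
    ∃ S : TM G (MulAut (Cfsg.PSp 2 F)), S.z = z := by
  obtain ⟨m, hm, σ, hσ⟩ := md_aut hF
  obtain ⟨m', hm', hl⟩ := md_psp hF
  have : IsSimpleGroup (Cfsg.PSp 2 F) := by
    have := hm'.simple
    rw [show LL m' = ⊤ from eq_top_iff.mpr fun γ _ => hm'.mem_LL.mpr (hl γ)] at this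
    exact topEquiv.symm.isSimpleGroup
  let M := centralizer ({z} : Set G)
  let J := pCore 2 M
  have cm : ∀ x : M, Commute (x : G) z := fun x => mem_cent_singleton.mp x.2
  have mc : ∀ {x}, Commute x z → x ∈ M := fun h => mem_cent_singleton.mpr h
  have cc : ∀ {a b : M}, Commute (a : G) b ↔ Commute a b := fun {a b} => Subtype.ext_iff (a1 := a * b) (a2 := b * a).symm
  have hz' : orderOf zc = 2 := by rw [← orderOf_coe, hzc, hz]
  have zc' : ∀ x, Commute x zc := fun x => cc.mp (hzc ▸ cm x)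
  obtain ⟨h1, h2⟩ := cent_c hz' zc' (pCore_isPGroup 2 M) (hCJ fun x _ => (zc' x).eq) hc (hm'.card_lin hl) e'
  obtain ⟨v, W, D⟩ := core hz' zc' (pCore_isPGroup 2 M) hVE hV hV2 hE hc
    ((Nat.card_congr e.toEquiv).trans (hm.card_out hσ)) h1 h2
  have mp : ∀ {A : Subgroup M} {x : M}, (x : G) ∈ A.map M.subtype ↔ x ∈ A := fun {A x} =>
    mem_map_iff_mem (f := M.subtype) M.subtype_injective
  have hZ : J.map M.subtype ⊓ 𝒞(J.map M.subtype) = (J ⊓ 𝒞(J)).map M.subtype := by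
    refine le_antisymm ?_ ?_
    · rintro _ ⟨⟨x, hx, rfl⟩, k⟩
      exact mp.mpr ⟨hx, fun j hj => Subtype.ext (k j (mp.mpr hj))⟩
    · rintro _ ⟨x, hx, rfl⟩
      refine ⟨mp.mpr hx.1, ?_⟩
      rintro _ ⟨j, hj, rfl⟩
      exact congrArg Subtype.val (hx.2 j hj)
  let H : Subgroup G := M ⊓ centralizer {(v : G)}
  have nJ : ∀ {x j}, Commute x z → j ∈ J.map M.subtype → x * j * x⁻¹ ∈ J.map M.subtype := by
    rintro x _ hx ⟨j, hj, rfl⟩
    exact mp (x := ⟨x, mc hx⟩ * j * ⟨x, mc hx⟩⁻¹).mpr (Normal.conj_mem inferInstance _ hj _)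
  have hv : ∀ x : H, Commute (inclusion inf_le_left x : M) v := fun x => cc.mp (mem_cent_singleton.mp x.2.2)
  obtain ⟨S, s1, s2, s3, s4, -⟩ := h G _ z H (J.map M.subtype) (E.map M.subtype) m
    ((e.toMonoidHom.comp (QuotientGroup.mk' _)).comp (inclusion inf_le_left)) hm hz
    (CL.PG.isExtraspecial_congr (E.equivMapOfInjective _ M.subtype_injective) hE)
    ((card_map_of_injective M.subtype_injective).trans hEc) (hzc ▸ mp.mpr D.zE) (map_mono hVE.2.1)
    (by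
      rintro _ ⟨j, hj, rfl⟩
      exact ⟨j.2, mem_cent_singleton.mpr (congrArg Subtype.val (D.vJ.2 j hj))⟩)
    (fun x hx => cm ⟨x, hx.1⟩) (fun x hx j hj => nJ (cm ⟨x, hx.1⟩) hj)
    (by
      rintro _ ⟨j, hj, rfl⟩
      obtain ⟨a, ha, b, rfl, h3, h4⟩ := D.dec j hj
      refine ⟨a, mp.mpr ha, b, rfl, congrArg Subtype.val h3, ?_⟩
      rintro _ ⟨k, hk, rfl⟩
      exact cc.mpr (h4 k hk))
    (fun x hx k => mp (x := ⟨x, hx.1⟩).mpr (hCJ fun j hj => Subtype.ext (k j (mp.mpr hj)).eq.symm))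
    (fun γ => by
      obtain ⟨x, hx⟩ := (e.surjective.comp (QuotientGroup.mk'_surjective _)) γ
      obtain ⟨k, hk, h3⟩ := D.cover x
      refine ⟨⟨(x * k : M), (x * k).2, mem_cent_singleton.mpr (cc.mpr h3)⟩, ?_⟩
      rw [← hx]
      exact congrArg e (QuotientGroup.mk_mul_of_mem x (mem_sup_right hk)))
    (fun x => (e.map_eq_one_iff.trans (QuotientGroup.eq_one_iff _)).trans
      ⟨fun k => mp.mpr (D.ker _ k (hv x)), fun k => mem_sup_left (mp.mp k)⟩)
    (by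
      rw [hZ]
      rintro x hx _ ⟨a, ha, rfl⟩
      exact cc.mpr (D.sq _ (hv ⟨x, hx⟩) a ha))
  rw [hZ] at s4
  refine ⟨{ S with
    v := v
    c := c
    V := W.map M.subtype
    hH := fun {x} => by rw [s1, s2]; exact ⟨fun k => ⟨cm ⟨x, k.1⟩, mem_cent_singleton.mp k.2⟩,
      fun k => ⟨mc k.1, mem_cent_singleton.mpr k.2⟩⟩
    mem_V := fun {x} => ⟨?_, ?_⟩
    v1 := fun k => D.v1 (Subtype.ext k)
    cv := fun k => D.cv (Subtype.ext k)
    cc := congrArg Subtype.val D.cc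
    zV := fun k => D.zV (mp.mp (by rwa [hzc, ← s1]))
    mem_Z := fun {x} => ⟨?_, ?_⟩
    cz := s1 ▸ cm c
    nJ := fun hx hj => by rw [s3] at hj ⊢; exact nJ (s1 ▸ hx) hj
    nV := ?_
    sw := ?_
    cJ := fun {x} hx k => ?_
    cnt := ?_ }, s1⟩
  · rintro ⟨a, ha, rfl⟩
    rcases D.mem_V.mp ha with rfl | rfl | rfl | rfl <;> simp
  · rintro (rfl | rfl | rfl | rfl)
    exacts [one_mem _, mp.mpr (D.mem_V.mpr (by simp)), mp (x := c * v * c⁻¹).mpr (D.mem_V.mpr (by simp)),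
      mp (x := v * (c * v * c⁻¹)).mpr (D.mem_V.mpr (by simp))]
  · rw [s4, s1, ← hzc]
    rintro ⟨a, ha, rfl⟩
    exact (D.mem_Z.mp ha).imp mp.mpr (mp (x := a * zc)).mpr
  · rw [s4, s1, ← hzc]
    rintro (⟨a, ha, rfl⟩ | ⟨a, ha, k⟩)
    · exact mp.mpr (D.mem_Z.mpr (Or.inl ha))
    · rw [← mul_inv_eq_iff_eq_mul.mpr k]
      exact mp (x := a * zc⁻¹).mpr (D.mem_Z.mpr (Or.inr (by simpa using ha)))
  · rintro x _ hx ⟨a, ha, rfl⟩
    rw [s1] at hx
    exact mp (x := ⟨x, mc hx⟩ * a * ⟨x, mc hx⟩⁻¹).mpr (D.nV.conj_mem _ ha _)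
  · obtain ⟨s, k1, k2⟩ := D.sw
    exact ⟨s, s2 ▸ ⟨s.2, mem_cent_singleton.mpr (cc.mpr k1)⟩, fun k => k2 (cc.mp k)⟩
  · rw [s1] at hx
    rw [s3]
    exact mp (x := ⟨x, mc hx⟩ * c * ⟨x, mc hx⟩⁻¹ * c⁻¹).mpr (D.cJ fun a ha => cc.mp (k a (mp.mpr ha)))
  · obtain ⟨j, hj, k⟩ := D.cnt
    exact ⟨j, s3 ▸ mp.mpr hj, fun k1 => k (mp (x := c * j * c⁻¹ * j⁻¹).mp (s4 ▸ k1))⟩

end CL.Fc
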