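/-
The group `3.M22.2` acting on the natural module of `O⁺₁₂(2)`: an overgroup with the same Sylow 3-subgroup
normalises the centre of `3.M22`.
-/
import Cfsg.Agent.Spor.J4B2a
import Cfsg.Agent.Spor.J4A2

set_option autoImplicit false
set_option maxRecDepth 100000

namespace CL.J4.Rec

open Cfsg CL.Spor Subgroup MulAction
open CL.F24 (ap idc cX ap_nil ap_cons ap_lt ap_idc all2 all2_spec XAdd QSp pol pol_comm)

variable {L V : Type*} [Group L] [AddCommGroup V] [DistribMulAction L V]

/-- The orbit of length 693. -/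
def mO1 : ℕ := nat_lit 0x2cc0c8006400100480c000018a000006c800802148200000101c000011008a0002606ca1064001166020a0804aa010026680c8000c80010810161008011c408108a0a0806860001824808401a0800000a2000001c0400110000a0000101ca200011a10081106280110100000110a80c0110a0000000cc040000186600001100826000c8000011010aa40c0404c0010044c004820042100001106000c00000c8082400640840100000a2068600640010204c064000001000a01101106000004c040604aa00640001420a0a080ca61101ac2c08a004c0001081016110a010442010006011c00002600011a101c01040841011c11000000640000010001a4a001040260668004c0001420a0a200c2c01002a6c1c8004c00110c0012110a011c02818021026082400000000108a04060110002602cc0260001020000011a00064060000160200a20000c0421248020a0000020a080c0aa40001800001010011a60200000101601100a200000000a101608a00012101c11062041cc2000010001001201020108000a24800018011001088240110c00000000cc202041c0406400110c0000011600008660000c00180014482000141004101024800a20280126000116110010020102482000000000101aa4a0100200061004824008a080c00841101a4060408104c001166020a2004201101a02818a000c80110c0012100801040000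
/-- The orbit of length 1386. -/
def mO2 : ℕ := nat_lit 0xc22126e18ae1011a6e21eee064e1111826e16ec0a6c1111e0102111e001e64e1ec818240e8a110088ec14e61a441011c886126e1e2611016010801161002ae60e6414e6186811106ca616ae04e61111e4ce1eee02ea1100e1114111e01024ce1100401160018c6e0010e111e00146e210014111e11122ea1eee06881eee00116c8e1e261eee0010e44a12ea1a2e1011aa2e1a6c1eac0111e00181112111ee2616ca1e8a16ae0111ee4c18681e8a1101cea218ae1eee01114100e0018111eea21ae81a441e8a1110ace414e61248001042c2164e1a2e1101601080014101aace011181002111ec8e110040102101ae6a01002001e111e8ae1eee0eee04a41101aec818861ea21110ace414ce12c21011c482026e1a2e10012110c00141002ec606ec0ec816ca1111eeee0e641ae81001eec81c221c8e1101c111e10041118ae81eee08ec1e4c11112eac0ca61ce41111ece416e2144a11106111e010e10048ec1111e0108100ee4c1111e11140108e641110c01020018cea022c1eee0eee0110c101c10161114ca611106100e10166ca10012111e111e22c1cea02ea18ae10012111e1008111e688111121106110aa6c1110a011a010eca61e4c1c6e0c8e11008001e011c101ca6c1111e111e01044a41011c1118011a6ca1e6416e21e6a00104ae81ae60ea2110088ec14ce1ace00104ec6064e1e2610012110c0116101aeee0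

theorem bfs1 : bfs [cX, cY, cF, cS] 700 [18] 262144 = mO1 := by decide +kernel
theorem bfs2 : bfs [cX, cY, cF, cS] 1400 [5] 32 = mO2 := by decide +kernel

theorem sing_cases : all2 (fun a => or (or (Nat.beq a 0) (Nat.beq (qn a) 1))
    (or (Nat.testBit mO1 a) (Nat.testBit mO2 a))) 12 0 = true := by decide +kernel

theorem cnt_sing : cnt64 (fun a => and (not (Nat.beq a 0)) (Nat.beq (qn a) 0)) 64 = 2079 := by decide +kernel

theorem nb_perp : all2 (fun a => or (not (and (Nat.testBit mO1 a) (Nat.testBit mO1 (Nat.xor 18 a))))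
    (and (Nat.beq (bn 35 a) 0) (Nat.beq (bn 18 a) 0))) 12 0 = true := by decide +kernel

theorem nb_span : all2 (fun a => or (not (allL (fun w => Nat.beq (bn a w) 0)
    [35, 49, 72, 140, 200, 260, 520, 776, 1088, 2056]))
    (or (or (Nat.beq a 0) (Nat.beq a 18)) (or (Nat.beq a 35) (Nat.beq a 49)))) 12 0 = true := by decide +kernel

theorem all_of_basis {e : ℕ → V} (he : XAdd e) {P : V → Prop} (h0 : P 0) (hadd : ∀ u v, P u → P v → P (u + v)) :
    ∀ {l : List ℕ}, (∀ b ∈ l, P (e b)) → ∀ n, P (e (ap l n))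
  | [], _, n => by rw [ap_nil, he.zero]; exact h0
  | c :: l, h, n => by
    rw [ap_cons, he]
    refine hadd _ _ ?_ (all_of_basis he h0 hadd (fun b hb => h b (by simp [hb])) _)
    rcases Nat.mod_two_eq_zero_or_one n with e | e <;> rw [e]
    · rw [mul_zero, he.zero]; exact h0
    · rw [mul_one]; exact h c (by simp)

section
variable {q : V → ZMod 2} {x y f s k : L} {e : ℕ → V} (H : Hy L V q x y f s k) (C : Co q x y f e)
  (aS : Ac e s (ap cS))
include H C

theorem e_ne {a : ℕ} (ha : a < 4096) (h0 : a ≠ 0) : e a ≠ 0 := fun h =>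
  h0 (C.inj a ha 0 (by norm_num) (h.trans C.add.zero.symm))

theorem tree {g u u' : L} (hu : ∀ v : V, u • v = u' • v → v = 0)
    (h : ∀ a < 4096, mO1.testBit a = true → g • e a = u • e a ∨ g • e a = u' • e a) (h18 : g • e 18 = u • e 18) :
    g = u := by
  have st : ∀ a b : ℕ, a < 4096 → b < 4096 → a ≠ 0 → mO1.testBit b = true → mO1.testBit (a ^^^ b) = true →
      g • e a = u • e a → g • e b = u • e b := fun a b ha hb h0 h1 h2 h3 => by
    refine (h b hb h1).elim id fun h4 => ?_
    rcases h _ (xor_lt12 ha hb) h2 with h5 | h5 <;> rw [C.add, smul_add, smul_add, h3] at h5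
    · exact add_left_cancel h5
    · rw [h4] at h5
      exact absurd (hu _ (add_right_cancel h5)) (e_ne H C ha h0)
  have h72 := st 18 72 (by norm_num) (by norm_num) (by norm_num) (by decide +kernel) (by decide +kernel) h18
  have hb : ∀ b ∈ [18, 35, 72, 140, 200, 260, 520, 776, 1088, 2056, 190, 257], g • e b = u • e b := by
    simp only [List.mem_cons, List.not_mem_nil, or_false, forall_eq_or_imp, forall_eq]
    refine ⟨h18, ?_, h72, ?_, ?_, ?_, ?_, ?_, ?_, ?_, ?_, ?_⟩
    iterate 8 exact st 18 _ (by norm_num) (by norm_num) (by norm_num) (by decide +kernel) (by decide +kernel) h18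
    iterate 2 exact st 72 _ (by norm_num) (by norm_num) (by norm_num) (by decide +kernel) (by decide +kernel) h72
  refine (inv_mul_eq_one.1 (H.faith _ fun v => ?_)).symm
  obtain ⟨a, -, rfl⟩ := C.surj v
  have := all_of_basis C.add (P := fun v => g • v = u • v) (by simp) (fun a b ha hb => by
    rw [smul_add, smul_add, ha, hb]) hb (ap [2240, 3275, 224, 252, 3274, 1033, 248, 20, 192, 188, 504, 764] a)
  rw [← ap_mm, show mm [18, 35, 72, 140, 200, 260, 520, 776, 1088, 2056, 190, 257]
    [2240, 3275, 224, 252, 3274, 1033, 248, 20, 192, 188, 504, 764] = idc by decide +kernel, C.top] at this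
  rw [mul_smul, this, inv_smul_smul]

include aS

theorem reach {Y : Subgroup L} (hx : x ∈ Y) (hy : y ∈ Y) (hf : f ∈ Y) (hs : s ∈ Y) {a n : ℕ} (b : ℕ)
    (h : (bfs [cX, cY, cF, cS] n [a] (2 ^ a)).testBit b = true) : ∃ m ∈ Y, m • e a = e b := by
  refine bfs_spec (C := fun b => ∃ m ∈ Y, m • e a = e b) ?_ n [a] _ (by simpa using ⟨1, one_mem _, one_smul _ _⟩)
    (fun c hc => ?_) b h
  · simp only [List.mem_cons, List.not_mem_nil, or_false, forall_eq_or_imp, forall_eq]
    exact ⟨fun c ⟨m, hm, e⟩ => ⟨x * m, mul_mem hx hm, by rw [mul_smul, e, C.acX]⟩,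
      fun c ⟨m, hm, e⟩ => ⟨y * m, mul_mem hy hm, by rw [mul_smul, e, C.acY]⟩,
      fun c ⟨m, hm, e⟩ => ⟨f * m, mul_mem hf hm, by rw [mul_smul, e, C.acF]⟩,
      fun c ⟨m, hm, e⟩ => ⟨s * m, mul_mem hs hm, by rw [mul_smul, e, aS]⟩⟩
  · rw [Nat.testBit_two_pow, decide_eq_true_eq] at hc
    exact hc ▸ ⟨1, one_mem _, one_smul _ _⟩

variable {Y : Subgroup L} [Finite Y] (hx : x ∈ Y) (hy : y ∈ Y) (hf : f ∈ Y) (hs : s ∈ Y) (h81 : ¬ 81 ∣ Nat.card Y)
include hx hy hf hs h81

theorem not_fused {g : L} (hg : g ∈ Y) : g • e 18 ≠ e 5 := fun h5 => by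
  have r1 := fun b h => reach H C aS hx hy hf hs (a := 18) (n := 700) b h
  have r2 := fun b h => reach H C aS hx hy hf hs (a := 5) (n := 1400) b h
  rw [show 2 ^ 18 = 262144 from rfl, bfs1] at r1
  rw [show 2 ^ 5 = 32 from rfl, bfs2] at r2
  have h1 : ∀ a < 4096, e a ∈ orbit Y (e 18) ↔ (and (not (Nat.beq a 0)) (Nat.beq (qn a) 0)) = true := fun a ha => by
    rw [Bool.and_eq_true, Bool.not_eq_true', ← Bool.not_eq_true, Nat.beq_eq, Nat.beq_eq]
    refine ⟨fun ⟨m, hm⟩ => ⟨fun h => ?_, C.qn_eq H (by norm_num) ha hm⟩, fun ⟨h0, h1⟩ => ?_⟩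
    · rw [h, C.add.zero] at hm
      exact e_ne H C (a := 18) (by norm_num) (by norm_num) ((smul_eq_zero_iff_eq m).1 hm)
    · have := all2_spec sing_cases a ha
      simp only [Bool.or_eq_true, Nat.beq_eq, h0, h1, false_or, zero_ne_one] at this
      rcases this with h | h
      · obtain ⟨m, hm, e⟩ := r1 a h
        exact ⟨⟨m, hm⟩, e⟩
      · obtain ⟨m, hm, e⟩ := r2 a h
        exact ⟨⟨m * g, mul_mem hm hg⟩, by rw [← e, ← h5]; exact mul_smul m g _⟩
  have h2 : (orbit Y (e 18)).ncard = 2079 := by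
    classical
    rw [← cnt_sing, cnt64_eq, ← Finset.card_image_of_injOn (f := e) fun a ha b hb h =>
      C.inj a (by simpa using (Finset.mem_filter.1 ha).1) b (by simpa using (Finset.mem_filter.1 hb).1) h,
      ← Set.ncard_coe_finset]
    congr 1
    ext v
    obtain ⟨a, ha, rfl⟩ := C.surj v
    rw [h1 a ha, Finset.coe_image]
    refine ⟨fun h => ⟨a, by simpa using ⟨ha, by simpa using h⟩, rfl⟩, fun ⟨b, hb, h⟩ => ?_⟩
    have hb := Finset.mem_filter.1 hb
    rw [← C.inj b (by simpa using hb.1) a ha h]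
    exact hb.2
  have aW : Ac e (y ^ 3 * s ^ 2) (ap [58, 31, 887, 409, 726, 875, 92, 164, 568, 796, 1024, 2048]) := fun a => by
    rw [pow_three, pow_two, mul_smul, mul_smul, mul_smul, mul_smul, aS, aS, C.acY, C.acY, C.acY, ← ap_mm, ← ap_mm,
      ← ap_mm, ← ap_mm]
    exact congrArg (fun A => e (ap A a)) (by decide +kernel)
  have h3 : orderOf (y ^ 3 * s ^ 2) = 3 := by
    have := Fact.mk Nat.prime_three
    refine orderOf_eq_prime (H.faith _ fun v => ?_) fun h => ?_
    · obtain ⟨a, -, rfl⟩ := C.surj v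
      rw [pow_three (y ^ 3 * s ^ 2), mul_smul (y ^ 3 * s ^ 2), mul_smul (y ^ 3 * s ^ 2), aW, aW, aW, ← ap_mm, ← ap_mm,
        ← C.top a]
      exact congrArg (fun A => e (ap A a)) (by decide +kernel)
    · have := aW 1
      rw [h, one_smul] at this
      exact absurd (C.inj _ (by norm_num) _ (by decide +kernel) this) (by decide +kernel)
  have h4 : orbit Y (e 2276) = orbit Y (e 18) := orbit_eq_iff.2 ((h1 _ (by norm_num)).2 (by decide +kernel))
  have h6 : 3 ∣ Nat.card (stabilizer Y (e 2276)) := by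
    have hw : y ^ 3 * s ^ 2 ∈ Y := mul_mem (pow_mem hy 3) (pow_mem hs 2)
    have := orderOf_dvd_natCard (⟨⟨_, hw⟩, (aW 2276).trans (congrArg e (by decide +kernel))⟩ : stabilizer Y (e 2276))
    rwa [← orderOf_coe, ← orderOf_coe, h3] at this
  refine h81 ?_
  rw [← (stabilizer Y (e 2276)).card_mul_index, index_stabilizer, h4, h2]
  exact mul_dvd_mul h6 (by norm_num : 27 ∣ 2079)

theorem keep {g : L} (hg : g ∈ Y) {a b : ℕ} (ha : a < 4096) (hb : b < 4096) (h1 : mO1.testBit a = true)
    (h : g • e a = e b) : mO1.testBit b = true := by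
  obtain ⟨m, hm, e1⟩ := reach H C aS hx hy hf hs (a := 18) (n := 700) a (bfs1 ▸ h1)
  have h2 : (g * m) • e 18 = e b := by rw [mul_smul, e1, h]
  have h3 := all2_spec sing_cases b hb
  have h4 : qn b = 0 := C.qn_eq H (by norm_num) hb h2
  have h5 : b ≠ 0 := fun h0 => by
    rw [h0, C.add.zero] at h2
    exact e_ne H C (a := 18) (by norm_num) (by norm_num) ((smul_eq_zero_iff_eq _).1 h2)
  simp only [Bool.or_eq_true, Nat.beq_eq, h4, h5, false_or, zero_ne_one] at h3
  refine h3.resolve_right fun h6 => ?_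
  obtain ⟨n, hn, e2⟩ := reach H C aS hx hy hf hs (a := 5) (n := 1400) b (bfs2 ▸ h6)
  exact not_fused H C aS hx hy hf hs h81 (mul_mem (inv_mem hn) (mul_mem hg hm))
    (by rw [mul_smul, h2, ← e2, inv_smul_smul])

theorem line {g : L} (hg : g ∈ Y) (h : g • e 18 = e 18) : g • e 35 = e 35 ∨ g • e 35 = e 49 := by
  obtain ⟨a, ha, e1⟩ := C.surj (g • e 35)
  have h1 : ∀ w < 4096, mO1.testBit w = true → mO1.testBit (18 ^^^ w) = true → bn a w = 0 := fun w hw h1 h2 => by
    obtain ⟨b, hb, e2⟩ := C.surj (g⁻¹ • e w)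
    have h3 := all2_spec nb_perp b hb
    have h4 := keep H C aS hx hy hf hs h81 (inv_mem hg) hw hb h1 e2.symm
    have h5 := keep H C aS hx hy hf hs h81 (inv_mem hg) (xor_lt12 (by norm_num) hw) (xor_lt12 (by norm_num) hb) h2
      (b := 18 ^^^ b) (by rw [C.add, C.add, smul_add, e2, inv_smul_eq_iff.2 h.symm])
    simp only [Nat.xor_eq, h4, h5, Bool.and_self, Bool.not_true, Bool.false_or, Bool.and_eq_true, Nat.beq_eq] at h3
    refine cast_inj (bn_le _ _) (by norm_num) ?_
    rw [← C.pol a ha w hw, e1, ← smul_inv_smul g (e w), H.pol_smul, ← e2, C.pol 35 (by norm_num) b hb, h3.1]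
  have h2 := all2_spec nb_span a ha
  rw [(allL_iff _ _).2 fun w hw => Nat.beq_eq ▸ (h1 w (by revert w; decide) (by revert w; decide +kernel)
    (by revert w; decide +kernel))] at h2
  simp only [Bool.not_true, Bool.false_or, Bool.or_eq_true, Nat.beq_eq] at h2
  rcases h2 with (rfl | rfl) | rfl | rfl
  · rw [C.add.zero] at e1
    exact absurd ((smul_eq_zero_iff_eq _).1 e1.symm) (e_ne H C (by norm_num) (by norm_num))
  · exact absurd (C.inj _ (by norm_num) _ (by norm_num) (smul_left_cancel g (h.trans e1))) (by norm_num)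
  exacts [Or.inl e1.symm, Or.inr e1.symm]

theorem conj_co {g : L} (hg : g ∈ Y) : g * x * g⁻¹ = x ∨ g * x * g⁻¹ = x * x := by
  have r1 := fun b h => reach H C aS (Y := Y ⊓ centralizer {x}) ⟨hx, mem_centralizer_singleton_iff.2 rfl⟩
    ⟨hy, mem_centralizer_singleton_iff.2 H.xy⟩ ⟨hf, mem_centralizer_singleton_iff.2 H.xf⟩
    ⟨hs, mem_centralizer_singleton_iff.2 H.xs⟩ (a := 18) (n := 700) b h
  rw [show 2 ^ 18 = 262144 from rfl, bfs1] at r1
  have x1 : x • e 18 = e 35 := (C.acX 18).trans (congrArg e (by decide +kernel))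
  have x2 : (x * x) • e 18 = e 49 := by
    rw [mul_smul, x1]; exact (C.acX 35).trans (congrArg e (by decide +kernel))
  have h1 : ∀ a < 4096, mO1.testBit a = true →
      (g * x * g⁻¹) • e a = x • e a ∨ (g * x * g⁻¹) • e a = (x * x) • e a := fun a ha h1 => by
    obtain ⟨b, hb, e2⟩ := C.surj (g⁻¹ • e a)
    obtain ⟨m, hm, e3⟩ := r1 b (keep H C aS hx hy hf hs h81 (inv_mem hg) ha hb h1 e2.symm)
    obtain ⟨n, hn, e4⟩ := r1 a h1
    have c1 := mem_centralizer_singleton_iff.1 (mem_inf.1 hm).2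
    have c2 := mem_centralizer_singleton_iff.1 (mem_inf.1 hn).2
    have h2 := line H C aS hx hy hf hs h81 (mul_mem (mul_mem (inv_mem (mem_inf.1 hn).1) hg) (mem_inf.1 hm).1)
      (by rw [mul_smul, mul_smul, e3, e2, smul_inv_smul, ← e4, inv_smul_smul])
    have h3 : (g * x * g⁻¹) • e a = n • (n⁻¹ * g * m) • e 35 := by
      rw [mul_smul, mul_smul, ← e2, ← e3, ← mul_smul x, ← c1, mul_smul, x1, mul_smul, mul_smul, smul_inv_smul]
    rw [h3, ← e4, ← mul_smul x, ← c2, ← mul_smul (x * x), mul_assoc x, ← c2, ← mul_assoc x, ← c2, mul_assoc n x,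
      mul_smul n, mul_smul n, x1, x2]
    exact h2.imp (congrArg _) (congrArg _)
  have h2 : ∀ v : V, x • v = (x * x) • v → v = 0 := fun v h =>
    H.eq_zero_of_fix (smul_left_cancel x (by rw [← mul_smul, ← h]))
  exact (h1 18 (by norm_num) (by decide +kernel)).imp (tree H C h2 h1)
    (tree H C (fun v h => h2 v h.symm) fun a ha h => (h1 a ha h).symm)

end

theorem conj_hy {q : V → ZMod 2} {x y f s k : L} (H : Hy L V q x y f s k) {Y : Subgroup L} [Finite Y] (hx : x ∈ Y)
    (hy : y ∈ Y) (hf : f ∈ Y) (hs : s ∈ Y) (h81 : ¬ 81 ∣ Nat.card Y) {g : L} (hg : g ∈ Y) :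
    g * x * g⁻¹ ∈ zpowers x := by
  obtain ⟨x', h1, e, C, aS, -⟩ := H.coord
  rcases h1 with rfl | rfl
  · rcases conj_co H C aS hx hy hf hs h81 hg with h | h <;> rw [h]
    exacts [mem_zpowers _, mul_mem (mem_zpowers _) (mem_zpowers _)]
  · have h2 : g * (x * x) * g⁻¹ ∈ zpowers x := by
      have h3 := mul_mem (mem_zpowers x) (mem_zpowers x)
      rcases conj_co H.sq C aS (mul_mem hx hx) hy hf hs h81 hg with h | h <;> rw [h]
      exacts [h3, mul_mem h3 h3]
    have := pow_mem h2 2
    rwa [conj_pow, H.x4] at this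

end CL.J4.Rec
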