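/-
Standard generators of `3.M22.2` acting on a quadratic space of dimension twelve.
-/
import Cfsg.Agent.Spor.J4TMod

set_option autoImplicit false

namespace CL.J4.Rec

open Cfsg CL.Spor Subgroup MulAction
open CL.F24 (QSp)
open scoped Pointwise

variable {M L V : Type*} [Group M] [Group L] [AddCommGroup V] [DistribMulAction L V] {q : V → ZMod 2}

theorem hy_of (S : QSp L V q) (ρ : M →* L) (π : M →* M24) (x : L) (range : π.range = stabilizer M24 duad0)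
    (ker : ∀ g, π g = 1 → ∃ i : ℕ, ρ g = x ^ i) (ker' : ∀ g, ρ g = 1 → π g = 1)
    (hx : ∀ v : V, x • x • v = v + x • v) (nrm : ∀ g, ρ g * x * (ρ g)⁻¹ = x ∨ ρ g * x * (ρ g)⁻¹ = x⁻¹)
    (inv : ∃ k, ρ k * x * (ρ k)⁻¹ ≠ x) : ∃ y f s k : M, Hy L V q x (ρ y) (ρ f) (ρ s) (ρ k) := by
  have x3 : x ^ 3 = 1 := S.faith _ fun v => by
    rw [pow_three, mul_smul, mul_smul, hx (x • v), hx v, add_comm v, ← add_assoc, S.h2, zero_add]
  have xi : x⁻¹ = x * x := inv_eq_of_mul_eq_one_right (by rw [← pow_three, x3])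
  let Li : M → ℕ → Prop := fun g P => Commute (ρ g) x ∧ Rep P (π g)
  have mul : ∀ {a b P R}, Li a P → Li b R → Li (a * b) (pmul P R) := fun ha hb =>
    ⟨map_mul ρ _ _ ▸ ha.1.mul_left hb.1, map_mul π _ _ ▸ ha.2.mul hb.2⟩
  have pow : ∀ {a P}, Li a P → ∀ n : ℕ, Li (a ^ n) (ppow P n) := fun ha n =>
    ⟨map_pow ρ _ n ▸ ha.1.pow_left n, map_pow π _ n ▸ ha.2.pow n⟩
  have cg : ∀ {a P R}, Li a P → P = R → Li a R := fun ha e => e ▸ ha
  have lift : ∀ {P}, Good (stabilizer M24 duad0) P → ∃ g, Rep P (π g) := fun ⟨u, hu, hP⟩ => by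
    obtain ⟨g, rfl⟩ : u ∈ π.range := range ▸ hu
    exact ⟨g, hP⟩
  have sq : ∀ {P}, Good (stabilizer M24 duad0) P → ∃ g, Li g (pmul P P) := fun hP => by
    obtain ⟨g, hP⟩ := lift hP
    refine ⟨g * g, mul_inv_eq_iff_eq_mul.1 ?_, map_mul π g g ▸ hP.mul hP⟩
    rw [map_mul, show ρ g * ρ g * x * (ρ g * ρ g)⁻¹ = ρ g * (ρ g * x * (ρ g)⁻¹) * (ρ g)⁻¹ by group]
    rcases nrm g with e | e
    · rw [e, e]
    · rw [e, ← conj_inv, e, inv_inv]
  have one : ∀ {g}, Li g pone → ∃ i : ℕ, ρ g = x ^ i := fun hg => ker _ (hg.2.unique rep_one)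
  have cube : ∀ {g}, Li g pone → ρ g ^ 3 = 1 := fun hg => by
    obtain ⟨i, e⟩ := one hg
    rw [e, ← pow_mul, mul_comm, pow_mul, x3, one_pow]
  have cj : ∀ {g a P X}, Rep P (π g) → Li a X → Li (g * a * g⁻¹) (pconj P X) := fun {g a P X} hP ha => by
    refine ⟨?_, by rw [map_mul, map_mul, map_inv]; exact hP.conj ha.2⟩
    have h1 : Commute (ρ a) (ρ g⁻¹ * x * (ρ g⁻¹)⁻¹) := by
      rcases nrm g⁻¹ with e | e <;> rw [e]
      exacts [ha.1, ha.1.inv_right]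
    have h2 := h1.eq
    rw [map_inv] at h2
    rw [map_mul, map_mul, map_inv]
    show ρ g * ρ a * (ρ g)⁻¹ * x = x * (ρ g * ρ a * (ρ g)⁻¹)
    calc _ = ρ g * (ρ a * ((ρ g)⁻¹ * x * (ρ g)⁻¹⁻¹)) * (ρ g)⁻¹ := by group
      _ = _ := by rw [h2]; group
  have eq : ∀ {a b P}, Li a P → Li b P → ∀ {n : ℕ}, Nat.Coprime 3 n → ρ a ^ n = 1 → ρ b ^ n = 1 → ρ a = ρ b :=
    fun {a b P} ha hb n hn h1 h2 => by
      obtain ⟨i, e⟩ := ker (a * b⁻¹) (by rw [map_mul, map_inv, ha.2.unique hb.2, mul_inv_cancel])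
      rw [map_mul, map_inv, mul_inv_eq_iff_eq_mul] at e
      rw [e, (Commute.pow_left hb.1.symm i).mul_pow, h2, mul_one] at h1
      have h3 : (x ^ i) ^ 3 = 1 := by rw [← pow_mul, mul_comm, pow_mul, x3, one_pow]
      rw [e, (pow_eq_one_iff_of_coprime hn).1 ⟨h3, h1⟩, one_mul]
  have hg : ∀ P ∈ [pB, 962298451038133363011374430748423744, 969952412052033243847481939299780672,
      20821682377334554221177997099572887, 958883222083241794157167028519736768], Good (stabilizer M24 duad0) P :=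
    good_stab_all (m := 8388609) (good_top_of_all (by decide +kernel)) (by decide +kernel)
  simp only [List.mem_cons, List.not_mem_nil, or_false, forall_eq_or_imp, forall_eq] at hg
  obtain ⟨g4, g5, g6, g7, g8⟩ := hg
  obtain ⟨y', hy'⟩ := sq g5
  obtain ⟨f', hf'⟩ := sq g6
  obtain ⟨a, ha⟩ := sq g7
  obtain ⟨b, hb⟩ := sq g8
  obtain ⟨k, hB⟩ := lift g4
  have hy : Li (y' ^ 12) y0 := cg (pow hy' 12) (by decide +kernel)
  have hf : Li (f' ^ 6) pC := cg (pow hf' 6) (by decide +kernel)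
  have hs : Li ((a * b) ^ 9) s0 := cg (pow (mul ha hb) 9) (by decide +kernel)
  have y11 : ρ (y' ^ 12) ^ 11 = 1 := by
    rw [← map_pow, ← pow_mul, show 12 * 11 = 11 * 3 * 4 from rfl, pow_mul, pow_mul, map_pow, map_pow,
      cube (cg (pow hy' 11) (by decide +kernel)), one_pow]
  have f5 : ρ (f' ^ 6) ^ 5 = 1 := by
    rw [← map_pow, ← pow_mul, show 6 * 5 = 5 * 3 * 2 from rfl, pow_mul, pow_mul, map_pow, map_pow,
      cube (cg (pow hf' 5) (by decide +kernel)), one_pow]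
  have s4 : ρ ((a * b) ^ 9) ^ 4 = 1 := by
    rw [← map_pow, ← pow_mul, show 9 * 4 = 4 * 3 * 3 from rfl, pow_mul, pow_mul, map_pow, map_pow,
      cube (cg (pow (mul ha hb) 4) (by decide +kernel)), one_pow]
  generalize y' ^ 12 = y at *
  generalize f' ^ 6 = f at *
  generalize (a * b) ^ 9 = s at *
  have hk : ρ k * x * (ρ k)⁻¹ = x⁻¹ := (nrm k).resolve_left fun e => by
    have h1 : ∀ u ∈ gen [y0, pC, s0, pB], ∃ g, Commute (ρ g) x ∧ π g = u := by
      refine gen_induction ⟨1, by rw [map_one]; exact Commute.one_left x, map_one π⟩ fun P hP u ⟨g, h1, h2⟩ => ?_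
      obtain ⟨w, hw⟩ : ∃ w, Li w P := by
        simp only [List.mem_cons, List.not_mem_nil, or_false] at hP
        rcases hP with rfl | rfl | rfl | rfl
        exacts [⟨_, hy⟩, ⟨_, hf⟩, ⟨_, hs⟩, ⟨k, mul_inv_eq_iff_eq_mul.1 e, hB⟩]
      exact ⟨w * g, map_mul ρ _ _ ▸ hw.1.mul_left h1, by rw [map_mul, h2, hw.2.m24_eq]⟩
    obtain ⟨k1, e1⟩ := inv
    obtain ⟨g, h2, h3⟩ := h1 (π k1) (by rw [gen_D, ← range]; exact ⟨_, rfl⟩)
    obtain ⟨i, e2⟩ := ker (k1 * g⁻¹) (by rw [map_mul, map_inv, h3, mul_inv_cancel])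
    rw [map_mul, map_inv, mul_inv_eq_iff_eq_mul] at e2
    exact e1 (mul_inv_eq_iff_eq_mul.2 (e2 ▸ (((Commute.refl x).pow_left i).mul_left h2).eq))
  have cn : ∀ {g a : M} {n : ℕ}, ρ a ^ n = 1 → ρ (g * a * g⁻¹) ^ n = 1 := fun e => by
    rw [map_mul, map_mul, map_inv, conj_pow, e]; simp
  have pw : ∀ {a : M} {n i : ℕ}, ρ a ^ n = 1 → ρ (a ^ i) ^ n = 1 := fun e => by
    rw [map_pow, ← pow_mul, mul_comm, pow_mul, e, one_pow]
  have e1 := eq (cg (cj hf.2 hy) (by decide +kernel)) (pow hy 3) (by norm_num) (cn y11) (pw y11)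
  have e2 := eq (cg (cj hs.2 hf) (by decide +kernel)) (pow hf 2) (by norm_num) (cn f5) (pw f5)
  have e3 := eq (cg (cj hB hy) (by decide +kernel)) (pow hy 10) (by norm_num) (cn y11) (pw y11)
  have e4 := eq (cg (cj hB hs) (by decide +kernel)) hs (by norm_num) (cn s4) s4
  have e5 := eq (cg (cj hB hf) (by decide +kernel)) hf (by norm_num) (cn f5) f5
  simp only [map_mul, map_inv, map_pow, mul_inv_eq_iff_eq_mul] at e1 e2 e3 e4 e5
  refine ⟨y, f, s, k, S, hx, hy.1, hf.1, hs.1, by rw [mul_inv_eq_iff_eq_mul.1 hk, xi], y11, fun e => ?_, f5, s4, e1,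
    by rw [e2, pow_two], by rw [mul_assoc, e3, ← mul_assoc, ← pow_succ', y11, one_mul], e4, e5, ?_, ?_, ?_⟩
  · exact absurd (hy.2.eq_one_iff.1 (ker' y e)) (by decide +kernel)
  · simpa using one (cg (pow (mul (pow hy 3) (pow hs 2)) 3) (by decide +kernel))
  · simpa using one (cg (pow (mul hy (pow hs 2)) 5) (by decide +kernel))
  · simpa using one (cg (pow (mul (pow hy 2) hs) 6) (by decide +kernel))

end CL.J4.Rec
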