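/-
Groups of Janko-four type, elements of order eleven, part 1: general lemmas, the element `y0` of `M24`, and the
centraliser of `y` in `H`.
-/
import Cfsg.Agent.Spor.J4Ord
import Cfsg.Agent.Spor.J4T2
import Cfsg.Agent.Spor.J4R
import Cfsg.Agent.Spor.M24Class
import Cfsg.Agent.Spor.M12Sylow
import Cfsg.Agent.Inv.GL23
import Cfsg.Agent.Inv.AutTwo
import Cfsg.Agent.Rec.Gen
import Cfsg.Agent.Grp.Coprime
import Cfsg.Agent.Grp.Primitive

set_option autoImplicit false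

namespace CL.J4.El

open Cfsg CL.Spor Subgroup MulAction CL.Grp
open CL.F24 (ap idc ap_idc all2 all2_spec)
open scoped Pointwise

section General

variable {G : Type*} [Group G] [Finite G]

theorem conj_zp {p : ℕ} (hp : p.Prime) {K : Subgroup G} (h : ¬ p ^ 2 ∣ Nat.card K) {a b : G} (ha : a ∈ K) (hb : b ∈ K)
    (oa : orderOf a = p) (ob : orderOf b = p) : ∃ g ∈ K, g * a * g⁻¹ ∈ zpowers b := by
  obtain ⟨m, hm⟩ := ob ▸ K.orderOf_dvd_natCard hb
  refine exists_conj_mem_sylIn (k := 1) hp (sylIn_of_card (k := 1) (m := m) hp (zpowers_le.2 hb)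
    (by rw [Nat.card_zpowers, ob, pow_one]) (by rw [pow_one, hm]) fun e => h ?_) ha (by rw [oa, pow_one])
  rw [hm, sq]
  exact mul_dvd_mul_left p e

theorem card_mod {g : G} {r : ℕ} (hr : r.Prime) (hg : g ^ r = 1) {A : Subgroup G} (h : ∀ x ∈ A, g * x * g⁻¹ ∈ A) :
    Nat.card A ≡ Nat.card (A ⊓ centralizer {g} : Subgroup G) [MOD r] := by
  have : Fact r.Prime := ⟨hr⟩
  rw [← centralizer_zpowers_eq]
  refine card_modEq_card_inf_centralizer (fun ⟨_, k, rfl⟩ => ⟨1, Subtype.ext ?_⟩)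
    (zpowers_le.2 (mem_normalizer_fintype h))
  show (g ^ k) ^ r ^ 1 = 1
  rw [pow_one, ← zpow_natCast, ← zpow_mul, mul_comm, zpow_mul, zpow_natCast, hg, one_zpow]

theorem cover3 {O A B C : Subgroup G} (hO : Odd (Nat.card O)) (hA : A ≤ O) (hB : B ≤ O) (hC : C ≤ O)
    (h : ∀ x ∈ O, x ∈ A ∨ x ∈ B ∨ x ∈ C) : O ≤ A ∨ O ≤ B ∨ O ≤ C := by
  have key : ∀ K : Subgroup G, K ≤ O → ¬ O ≤ K → 3 * (K : Set G).ncard ≤ (O : Set G).ncard := fun K h1 h2 => by
    have h3 := card_mul_relIndex h1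
    have h4 : K.relIndex O ≠ 1 := fun e => h2 (relIndex_eq_one.1 e)
    have h5 : Odd (K.relIndex O) := (Nat.odd_mul.1 (h3 ▸ hO)).2
    show 3 * Nat.card K ≤ Nat.card O
    rw [← h3, mul_comm]
    exact Nat.mul_le_mul_left _ (by obtain ⟨k, hk⟩ := h5; omega)
  by_contra hn
  simp only [not_or] at hn
  have h1 := key A hA hn.1
  have h2 := key B hB hn.2.1
  have h3 := key C hC hn.2.2
  have h4 : (O : Set G) ⊆ ((A : Set G) \ {1}) ∪ (B ∪ C) := fun x hx => by
    by_cases e : x = 1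
    · exact Or.inr (Or.inl (e ▸ B.one_mem))
    · exact (h x hx).imp_left fun h => ⟨h, e⟩
  have h5 := Set.ncard_le_ncard h4
  have h6 := Set.ncard_union_le ((A : Set G) \ {1}) (B ∪ C)
  have h7 := Set.ncard_union_le (B : Set G) C
  have h8 := Set.ncard_sdiff_singleton_add_one (s := (A : Set G)) A.one_mem
  omega

omit [Finite G] in
/-- An element of order eleven with an automiser of order ten. -/
theorem autom {y f k : G} (hy : y ^ 11 = 1) (hf : f * y * f⁻¹ = y ^ 3) (hk : k * y * k⁻¹ = y ^ 10) {w : G}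
    (hw : w ∈ zpowers y) (h1 : w ≠ 1) : ∃ j < 5, ∃ l < 2, f ^ j * k ^ l * y * (f ^ j * k ^ l)⁻¹ = w := by
  have e : ∀ (g : G) (m j : ℕ), g * y * g⁻¹ = y ^ m → g ^ j * y * (g ^ j)⁻¹ = y ^ m ^ j := fun g m j h => by
    induction j with
    | zero => simp
    | succ j ih => rw [pow_succ', pow_succ', pow_mul, ← h, conj_pow, ← ih]; group
  obtain ⟨n, rfl⟩ := (isOfFinOrder_iff_pow_eq_one.2 ⟨11, by norm_num, hy⟩).mem_powers_iff_mem_zpowers.2 hw
  have h2 : ∀ n < 11, n ≠ 0 → ∃ j < 5, ∃ l < 2, (3 ^ j * 10 ^ l) % 11 = n := by decide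
  obtain ⟨j, hj, l, hl, h3⟩ := h2 (n % 11) (Nat.mod_lt _ (by norm_num)) fun h0 => h1 (by
    show y ^ n = 1
    rw [pow_eq_pow_mod n hy, h0, pow_zero])
  refine ⟨j, hj, l, hl, ?_⟩
  show _ = y ^ n
  rw [pow_eq_pow_mod n hy, ← h3, ← pow_eq_pow_mod _ hy, pow_mul, ← e f 3 j hf, conj_pow, ← e k 10 l hk]
  group

theorem norm_sup {i j g : G} (hi : g * i * g⁻¹ ∈ zpowers i ⊔ zpowers j) (hj : g * j * g⁻¹ ∈ zpowers i ⊔ zpowers j) :
    g ∈ normalizer ((zpowers i ⊔ zpowers j : Subgroup G) : Set G) :=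
  mem_normalizer_fintype fun _ hx => (sup_le (zpowers_le.2 hi) (zpowers_le.2 hj) :
    _ ≤ (zpowers i ⊔ zpowers j).comap (MulAut.conj g).toMonoidHom) hx

end General

/-! ### The element `y0` -/

theorem rep_y0 : Rep y0 (m24 y0) := (good_top (P := y0) (by decide +kernel)).rep

theorem rep_pB : Rep pB (m24 pB) := (good_top (P := pB) (by decide +kernel)).rep

theorem rep_pC : Rep pC (m24 pC) := (good_top (P := pC) (by decide +kernel)).rep

theorem ord_y0 : orderOf (m24 y0) = 11 := rep_y0.orderOf_prime (by norm_num) (by decide +kernel) (by decide +kernel)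

theorem ord_pB : orderOf (m24 pB) = 2 := rep_pB.orderOf_prime (by norm_num) (by decide +kernel) (by decide +kernel)

theorem ord_pC : orderOf (m24 pC) = 5 := rep_pC.orderOf_prime (by norm_num) (by decide +kernel) (by decide +kernel)

theorem cent_y0 : centralizer {m24 y0} = zpowers (m24 y0) := by
  obtain ⟨c, e⟩ := class_11 ord_y0
  refine (eq_of_le_of_card_ge (zpowers_le.2 (mem_centralizer_singleton_iff.2 rfl)) ?_).symm
  rw [← card_centralizer_conj c, e, card_C11, Nat.card_zpowers, ord_y0]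

theorem pC_y0 : m24 pC * m24 y0 * (m24 pC)⁻¹ = m24 y0 ^ 3 :=
  (rep_pC.isConj_eq rep_y0 (rep_y0.pow 3)).2 (by decide +kernel)

theorem pB_y0 : m24 pB * m24 y0 * (m24 pB)⁻¹ = m24 y0 ^ 10 :=
  (rep_pB.isConj_eq rep_y0 (rep_y0.pow 10)).2 (by decide +kernel)

theorem pB_pC : m24 pB * m24 pC = m24 pC * m24 pB := (rep_pB.commute_iff rep_pC).2 (by decide +kernel)

/-- No non-trivial 2-subgroup of `M24` is normalised by an element of order eleven. -/
theorem two_eq_bot {R : Subgroup M24} (h2 : IsPGroup 2 R) (hn : ∀ x ∈ R, m24 y0 * x * (m24 y0)⁻¹ ∈ R) : R = ⊥ := by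
  have key : ∀ S : Subgroup M24, S ≤ R → (∀ x ∈ S, m24 y0 * x * (m24 y0)⁻¹ ∈ S) →
      ∃ k, Nat.card S = 2 ^ k ∧ 2 ^ k % 11 = 1 := fun S hS h => by
    obtain ⟨k, hk⟩ := IsPGroup.iff_card.1 (h2.to_le hS)
    have h1 := card_mod (r := 11) (by norm_num) (ord_y0 ▸ pow_orderOf_eq_one _) h
    rw [cent_y0, inf_eq_bot_of_coprime (by
      rw [hk, Nat.card_zpowers, ord_y0]; exact Nat.Coprime.pow_left _ (by norm_num)), card_bot, hk] at h1
    exact ⟨k, hk, h1⟩
  have hy : m24 y0 ∈ stabilizer M24 (gPt 23) :=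
    (good_pt_all (S := [y0]) (good_top_of_all (by decide +kernel)) (by norm_num) (by decide +kernel) y0 (by simp)).m24_mem
  obtain ⟨k, h3, h4⟩ := key R le_rfl hn
  obtain ⟨j, h5, h6⟩ := key (stabilizer M24 (gPt 23) ⊓ R) inf_le_right fun x hx =>
    mem_inf.2 ⟨mul_mem (mul_mem hy (mem_inf.1 hx).1) (inv_mem hy), hn x hx.2⟩
  have h7 : 2 ^ j ∣ 10200960 := by rw [← h5, ← card_M23']; exact card_dvd_of_le inf_le_left
  have h8 : j < 8 := by
    by_contra h
    exact absurd ((pow_dvd_pow 2 (not_lt.1 h)).trans h7) (by norm_num)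
  have h9 : (stabilizer M24 (gPt 23)).index = 24 := by
    have := card_mul_index (stabilizer M24 (gPt 23))
    rw [card_M23', ← card_top, card_top_M24] at this
    omega
  have h10 := relIndex_le_of_le_right (H := stabilizer M24 (gPt 23)) (le_top (a := R)) (by
    rw [relIndex_top_right, h9]; norm_num)
  have h11 := card_inf_mul_relIndex (stabilizer M24 (gPt 23)) R
  rw [relIndex_top_right, h9] at h10
  have h12 : j = 0 := by interval_cases j <;> simp_all
  rw [h5, h12, h3, pow_zero, one_mul] at h11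
  have h13 : k < 5 := by
    by_contra h
    have := Nat.pow_le_pow_right (n := 2) (by norm_num) (not_lt.1 h)
    omega
  have h14 : k = 0 := by interval_cases k <;> simp_all
  rw [← card_eq_one, h3, h14, pow_zero]

/-! ### The centraliser of `y` in `H` -/

variable {G : Type*} [Group G]

theorem conj_eq {M : HM G} {X Y Z : HC} {g h w : G} (hX : M.RH X g) (hY : M.RH Y h) (hZ : M.RH Z w)
    (e : heq (hmul X Y) (hmul Z X) = true) {n : ℕ} (hn : n % 2 = 1) (h1 : h ^ n = 1) (h2 : w ^ n = 1) :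
    g * h * g⁻¹ = w := by
  rcases (hX.mul hY).unique' (hZ.mul hX) e with h3 | h3
  · rw [← h3, mul_inv_cancel_right]
  · have h4 : w * M.z = g * h * g⁻¹ := by
      rw [eq_mul_inv_iff_mul_eq, mul_assoc, ← M.mem_H.1 hX.mem, ← mul_assoc, h3, mul_assoc, M.z_mul, mul_one]
    have h5 : (w * M.z) ^ n = 1 := by rw [h4, conj_pow, h1]; group
    rw [Commute.mul_pow (M.mem_H.1 hZ.mem), h2, one_mul, M.zp_congr (n := 1) hn, pow_one] at h5
    exact absurd h5 M.z_ne

variable (M : NM G)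

theorem rhy : M.RH hy M.y := M.rh_y
theorem rhp : M.RH hp M.p := M.rh_p
theorem rhf : M.RH hf M.f := M.rh_f
theorem rhk : M.RH hk M.k := M.rh_k

theorem π_y : M.π ⟨M.y, (rhy M).mem⟩ = m24 y0 := (rhy M).rep.m24_eq.symm

theorem ord_y : orderOf M.y = 11 := by
  have : Fact (Nat.Prime 11) := ⟨by norm_num⟩
  refine orderOf_eq_prime M.y11 fun h => ?_
  have := π_y M
  rw [show (⟨M.y, (rhy M).mem⟩ : M.H) = 1 from Subtype.ext h, map_one] at this
  have h1 := ord_y0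
  rw [← this, orderOf_one] at h1
  cases h1

theorem ord_f : orderOf M.f = 5 := by
  have : Fact (Nat.Prime 5) := ⟨by norm_num⟩
  refine orderOf_eq_prime M.f5 fun h => ?_
  exact absurd ((rhf M).P_eq (h ▸ M.rh_one)) (by decide +kernel)

theorem ord_p : orderOf M.p = 3 :=
  orderOf_eq_prime M.p3 fun h => absurd ((rhp M).ap_eq (h ▸ M.rh_one) (b := 1) (by norm_num)) (by decide +kernel)

theorem f_y : M.f * M.y * M.f⁻¹ = M.y ^ 3 :=
  conj_eq (rhf M) (rhy M) ((rhy M).pow 3) (by decide +kernel) (n := 11) rfl M.y11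
    (by rw [← pow_mul, mul_comm, pow_mul, M.y11, one_pow])

theorem k_y : M.k * M.y * M.k⁻¹ = M.y ^ 10 :=
  conj_eq (rhk M) (rhy M) ((rhy M).pow 10) (by decide +kernel) (n := 11) rfl M.y11
    (by rw [← pow_mul, mul_comm, pow_mul, M.y11, one_pow])

theorem p_y : M.p * M.y = M.y * M.p :=
  mul_inv_eq_iff_eq_mul.1 (conj_eq (rhp M) (rhy M) (rhy M) (by decide +kernel) (n := 11) rfl M.y11 M.y11)

theorem k_p : M.k * M.p * M.k⁻¹ = M.p⁻¹ := by
  rw [conj_eq (rhk M) (rhp M) ((rhp M).pow 2) (by decide +kernel) (n := 3) rfl M.p3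
    (by rw [← pow_mul, mul_comm, pow_mul, M.p3, one_pow]), eq_inv_iff_mul_eq_one, ← pow_succ, M.p3]

theorem k_k : M.k * M.k = 1 :=
  NM.k0_sq ⟨_, rhk M, rfl⟩ (M.mem_Z.2 (((rhk M).mul (rhk M)).eq_one_or (by decide +kernel)))

theorem y_c {a : ℕ} (ha : a < 4096) : M.y * M.c a * M.y⁻¹ = M.c (ap hy.A a) := by
  rw [(rhy M).conj ha]
  show _ * M.z ^ (0 * _ + bn 0 _) = _
  rw [bn_zero_left, zero_mul, pow_zero, mul_one]

/-- The quaternion group centralised by `y`. -/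
def R : Subgroup G := zpowers (M.c 1024) ⊔ zpowers (M.c 2048)

/-- The group `SL₂(3)`. -/
def L : Subgroup G := R M ⊔ zpowers M.p

/-- The group `GL₂(3)`. -/
def K : Subgroup G := L M ⊔ zpowers M.k

theorem i_sq : M.c 1024 * M.c 1024 = M.z := by
  rw [M.c_sq (by norm_num), show qn 1024 = 1 by decide +kernel, pow_one]

theorem j_sq : M.c 2048 * M.c 2048 = M.z := by
  rw [M.c_sq (by norm_num), show qn 2048 = 1 by decide +kernel, pow_one]

theorem j_i : M.c 2048 * M.c 1024 * (M.c 2048)⁻¹ = (M.c 1024)⁻¹ := by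
  rw [M.c_conj (by norm_num) (by norm_num), M.c_inv (by norm_num), show qn 1024 = bn 2048 1024 by decide +kernel]

theorem i_j : M.c 1024 * M.c 2048 * (M.c 1024)⁻¹ = (M.c 2048)⁻¹ := by
  rw [M.c_conj (by norm_num) (by norm_num), M.c_inv (by norm_num), show qn 2048 = bn 1024 2048 by decide +kernel]

theorem i_mem : M.c 1024 ∈ R M := mem_sup_left (mem_zpowers _)

theorem j_mem : M.c 2048 ∈ R M := mem_sup_right (mem_zpowers _)

theorem z_mem : M.z ∈ R M := i_sq M ▸ mul_mem (i_mem M) (i_mem M)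

theorem c_mem {a : ℕ} (h : a = 0 ∨ a = 1024 ∨ a = 2048 ∨ a = 3072) : M.c a ∈ R M := by
  rcases h with rfl | rfl | rfl | rfl
  · exact M.c_zero ▸ one_mem _
  · exact i_mem M
  · exact j_mem M
  · rw [show 3072 = 1024 ^^^ 2048 from rfl, M.c_xor (by norm_num) (by norm_num)]
    exact mul_mem (mul_mem (i_mem M) (j_mem M)) (pow_mem (z_mem M) _)

variable {M} in
theorem bn_eq {X : HC} {g : G} (hX : M.RH X g) {b : ℕ} (hb : b < 4096)
    (h : g * M.c b * g⁻¹ ∈ zpowers (M.c b)) : bn b (ap X.A b) = 0 := by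
  obtain ⟨n, hn⟩ := h
  have h1 : M.c b * (g * M.c b * g⁻¹) * (M.c b)⁻¹ = g * M.c b * g⁻¹ := by rw [← hn]; group
  rw [hX.conj hb, ← mul_assoc, mul_assoc, ← M.zp_comm (inv_mem (M.c_mem b)), ← mul_assoc, M.c_conj hb (hX.lt hb),
    mul_left_inj, mul_eq_left, ← pow_zero M.z, M.zp_eq_iff] at h1
  have := bn_le b (ap X.A b)
  omega

theorem L_le : L M ≤ centralizer {M.y} ⊓ M.H := by
  have h : ∀ a < 4096, ap hy.A a = a → M.c a ∈ centralizer {M.y} ⊓ M.H := fun a ha e =>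
    ⟨mem_centralizer_singleton_iff.2 (mul_inv_eq_iff_eq_mul.1 ((y_c M ha).trans (by rw [e]))).symm, M.c_mem a⟩
  exact sup_le (sup_le (zpowers_le.2 (h _ (by norm_num) (by decide +kernel)))
    (zpowers_le.2 (h _ (by norm_num) (by decide +kernel))))
    (zpowers_le.2 ⟨mem_centralizer_singleton_iff.2 (p_y M), (rhp M).mem⟩)

theorem k_not_mem : M.k ∉ L M := fun h => by
  have h1 := k_y M
  rw [mem_centralizer_singleton_iff.1 (L_le M h).1, mul_inv_cancel_right, ← pow_one M.y, ← pow_mul,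
    pow_eq_pow_iff_modEq, ord_y] at h1
  exact absurd h1 (by decide)

variable [Finite G]

theorem mem_R (g : G) : g ∈ R M ↔ g ∈ zpowers (M.c 1024) ∨ g * (M.c 2048)⁻¹ ∈ zpowers (M.c 1024) :=
  CL.Inv.mem_sup_zpowers_iff (mem_normalizer_zpowers (j_i M ▸ inv_mem (mem_zpowers _)))
    (by rw [j_sq, ← i_sq]; exact mul_mem (mem_zpowers _) (mem_zpowers _)) g

omit [Finite G] in
theorem ord_i : orderOf (M.c 1024) = 2 * 2 :=
  orderOf_eq_prime_pow (p := 2) (n := 1) (by rw [pow_one, sq, i_sq]; exact M.z_ne)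
    (by rw [show 2 ^ (1 + 1) = 2 * 2 from rfl, pow_mul, sq (M.c 1024), i_sq, M.z_sq])

omit [Finite G] in
theorem j_not_mem : M.c 2048 ∉ zpowers (M.c 1024) := fun ⟨n, hn⟩ => by
  have h := j_i M
  rw [← hn, show ∀ u : G, u ^ n * u * (u ^ n)⁻¹ = u from fun u => by group, eq_inv_iff_mul_eq_one, i_sq] at h
  exact M.z_ne h

theorem equiv_R : Nonempty (R M ≃* QuaternionGroup 2) :=
  CL.Inv.nonempty_quaternion_subgroup (ord_i M) (by rw [j_sq, sq, i_sq]) (j_i M) (j_not_mem M) (mem_R M)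

theorem card_R : Nat.card (R M) = 8 := by
  rw [CL.Inv.card_eq_two_mul_of_mem_iff (j_not_mem M) (mem_R M), Nat.card_zpowers, ord_i]

theorem eq_z {r : G} (hr : r ∈ R M) (h : orderOf r = 2) : r = M.z := by
  obtain ⟨e⟩ := equiv_R M
  have h1 : ∀ a b : QuaternionGroup 2, a ^ 2 = 1 → b ^ 2 = 1 → a ≠ 1 → b ≠ 1 → a = b := by decide
  refine congrArg Subtype.val (e.injective (h1 (e ⟨r, hr⟩) (e ⟨_, z_mem M⟩) ?_ ?_ ?_ ?_))
  · rw [← map_pow, ← map_one e]; congr 1; exact Subtype.ext (h ▸ pow_orderOf_eq_one r)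
  · rw [← map_pow, ← map_one e]; congr 1; exact Subtype.ext M.z_sq
  · rw [ne_eq, map_eq_one_iff _ e.injective, mk_eq_one]; rintro rfl; simp at h
  · rw [ne_eq, map_eq_one_iff _ e.injective, mk_eq_one]; exact M.z_ne

theorem norm_R {X : HC} {g : G} (hX : M.RH X g) (h : ∀ b ∈ [1024, 2048], ap X.A b = 0 ∨ ap X.A b = 1024 ∨
    ap X.A b = 2048 ∨ ap X.A b = 3072) : g ∈ normalizer (R M : Set G) := by
  refine norm_sup ?_ ?_ <;> rw [hX.conj (by norm_num)]
  exacts [mul_mem (c_mem M (h _ (by simp))) (pow_mem (z_mem M) _), mul_mem (c_mem M (h _ (by simp))) (pow_mem (z_mem M) _)]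

theorem p_norm : zpowers M.p ≤ normalizer (R M : Set G) := zpowers_le.2 (norm_R M (rhp M) (by decide +kernel))

theorem K_norm : K M ≤ normalizer (R M : Set G) :=
  sup_le (sup_le le_normalizer (p_norm M)) (zpowers_le.2 (norm_R M (rhk M) (by decide +kernel)))

theorem card_L : Nat.card (L M) = 24 := by
  rw [L, sup_comm, card_sup_of_inf_eq_bot (p_norm M) (inf_eq_bot_of_coprime ?_)] <;>
    rw [Nat.card_zpowers, ord_p, card_R]
  norm_num

theorem mem_K (g : G) : g ∈ K M ↔ g ∈ L M ∨ g * M.k⁻¹ ∈ L M :=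
  CL.Inv.mem_sup_zpowers_iff (zpowers_le.1 (le_normalizer_sup' (le_sup_right.trans (K_norm M))
    (zpowers_le.2 (mem_normalizer_zpowers (k_p M ▸ inv_mem (mem_zpowers _)))))) (k_k M ▸ one_mem _) g

theorem card_K : Nat.card (K M) = 48 := by
  rw [CL.Inv.card_eq_two_mul_of_mem_iff (k_not_mem M) (mem_K M), card_L]

theorem cent_R {g : G} (hg : g ∈ K M) (hi : g * M.c 1024 = M.c 1024 * g) (hj : g * M.c 2048 = M.c 2048 * g) :
    g ∈ R M := by
  obtain ⟨r, hr, j, hj3, l, hl, rfl⟩ : ∃ r ∈ R M, ∃ j < 3, ∃ l < 2, g = r * (M.p ^ j * M.k ^ l) := by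
    have h : ∀ x ∈ L M, ∃ r ∈ R M, ∃ j < 3, x = r * M.p ^ j := fun x hx => by
      obtain ⟨r, hr, _, hs, rfl⟩ := (mem_sup_iff_of_le_normalizer (p_norm M)).1 hx
      obtain ⟨n, rfl⟩ := (mem_powers_iff_mem_zpowers.2 hs : _ ∈ Submonoid.powers M.p)
      exact ⟨r, hr, n % 3, Nat.mod_lt _ (by norm_num), by rw [← pow_eq_pow_mod n M.p3]⟩
    rcases (mem_K M g).1 hg with h1 | h1 <;> obtain ⟨r, hr, j, hj, e⟩ := h _ h1
    · exact ⟨r, hr, j, hj, 0, by norm_num, by rw [e, pow_zero, mul_one]⟩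
    · exact ⟨r, hr, j, hj, 1, by norm_num, by rw [← mul_assoc, ← e, pow_one, inv_mul_cancel_right]⟩
  have key : ∀ b < 4096, R M ≤ normalizer (zpowers (M.c b) : Set G) →
      r * (M.p ^ j * M.k ^ l) * M.c b = M.c b * (r * (M.p ^ j * M.k ^ l)) →
      bn b (ap (hmul (hpow hp j) (hpow hk l)).A b) = 0 := fun b hb h e => by
    refine bn_eq (((rhp M).pow j).mul ((rhk M).pow l)) hb ?_
    have h1 := (mem_normalizer_iff.1 (h (inv_mem hr)) _).1 (mem_zpowers (M.c b))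
    convert h1 using 1
    calc _ = r⁻¹ * (r * (M.p ^ j * M.k ^ l) * M.c b) * (M.p ^ j * M.k ^ l)⁻¹ := by group
      _ = _ := by rw [e]; group
  have h1 := key 1024 (by norm_num) (sup_le le_normalizer
    (zpowers_le.2 (mem_normalizer_zpowers (j_i M ▸ inv_mem (mem_zpowers _))))) hi
  have h2 := key 2048 (by norm_num) (sup_le
    (zpowers_le.2 (mem_normalizer_zpowers (i_j M ▸ inv_mem (mem_zpowers _)))) le_normalizer) hj
  have h3 : ∀ j < 3, ∀ l < 2, bn 1024 (ap (hmul (hpow hp j) (hpow hk l)).A 1024) = 0 →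
      bn 2048 (ap (hmul (hpow hp j) (hpow hk l)).A 2048) = 0 → j = 0 ∧ l = 0 := by decide +kernel
  obtain ⟨rfl, rfl⟩ := h3 j hj3 l hl h1 h2
  simpa using hr

theorem equiv_K : Nonempty (K M ≃* GL (Fin 2) (ZMod 3)) := by
  obtain ⟨e⟩ := equiv_R M
  have hRK : R M ≤ K M := le_sup_left.trans le_sup_left
  have hp' : M.p ∈ K M := mem_sup_left (mem_sup_right (mem_zpowers _))
  have hk' : M.k ∈ K M := mem_sup_right (mem_zpowers _)
  have := normal_subgroupOf_of_le_normalizer' (K_norm M)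
  refine CL.Inv.nonempty_equiv_GL23 (card_K M) ((R M).subgroupOf (K M)) ((subgroupOfEquivOfLe hRK).trans e)
    (fun g hg => cent_R M g.2 (congrArg Subtype.val (hg ⟨_, hRK (i_mem M)⟩ (i_mem M))).symm
      (congrArg Subtype.val (hg ⟨_, hRK (j_mem M)⟩ (j_mem M))).symm) (u := ⟨_, hp'⟩) (t := ⟨_, hk'⟩)
    (by rw [orderOf_mk, ord_p]; decide) (fun h => ?_) (Subtype.ext (k_k M)) (Subtype.ext (k_p M))
    fun h => k_not_mem M (mem_sup_left h)
  have := ord_p M
  rw [show M.p = 1 from congrArg Subtype.val h, orderOf_one] at this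
  cases this

omit [Finite G] in
theorem L_norm : L M ≤ normalizer (zpowers M.y : Set G) := fun _ h =>
  centralizer_le_normalizer _ (centralizer_zpowers_eq M.y ▸ (L_le M h).1)

theorem cent_y : centralizer {M.y} ⊓ M.H = zpowers M.y ⊔ L M := by
  refine le_antisymm (fun g ⟨h1, hg⟩ => ?_)
    (sup_le (zpowers_le.2 ⟨mem_centralizer_singleton_iff.2 rfl, (rhy M).mem⟩) (L_le M))
  have h1 := mem_centralizer_singleton_iff.1 h1
  have h2 : M.π ⟨g, hg⟩ ∈ centralizer {m24 y0} := by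
    rw [mem_centralizer_singleton_iff, ← π_y M, ← map_mul, ← map_mul]
    exact congrArg M.π (Subtype.ext h1)
  obtain ⟨n, hn⟩ := cent_y0 ▸ h2
  obtain ⟨a, ha, i, j, e⟩ := M.ker ((⟨M.y, (rhy M).mem⟩ ^ n)⁻¹ * ⟨g, hg⟩) (by
    rw [map_mul, map_inv, map_zpow, π_y, ← hn, inv_mul_cancel])
  have e : (M.y ^ n)⁻¹ * g = M.c a * M.p ^ i * M.z ^ j := e
  have h3 : M.y * (M.c a * M.p ^ i * M.z ^ j) = M.c a * M.p ^ i * M.z ^ j * M.y := by
    rw [← e, mul_assoc, h1]; group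
  have h4 : M.c (ap hy.A a) = M.c a := by
    rw [← y_c M ha, mul_inv_eq_iff_eq_mul, ← mul_left_inj (M.p ^ i * M.z ^ j), mul_assoc, ← mul_assoc (M.c a), h3,
      mul_assoc, ← M.zp_comm (rhy M).mem, mul_assoc, ← mul_assoc (M.p ^ i), (Commute.pow_left (p_y M) i).eq]
    group
  have h5 := ((M.c_eq_iff (m := 0) (n := 0) ((rhy M).lt ha) ha).1 (by rw [h4])).1
  have h6 : all2 (fun a => or (not (Nat.beq (ap hy.A a) a)) (Nat.beq (a % 1024) 0)) 12 0 = true := by decide +kernel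
  have h7 := all2_spec h6 a ha
  rw [h5, Nat.beq_refl] at h7
  have h8 : a % 1024 = 0 := Nat.eq_of_beq_eq_true h7
  rw [← mul_inv_cancel_left (M.y ^ n) g, e]
  exact mul_mem (mem_sup_left (zpow_mem_zpowers _ _)) (mem_sup_right (mul_mem (mul_mem
    (mem_sup_left (c_mem M (by omega))) (mem_sup_right (pow_mem (mem_zpowers _) _)))
    (mem_sup_left (pow_mem (z_mem M) _))))

theorem card_cent_y : Nat.card (centralizer {M.y} ⊓ M.H : Subgroup G) = 264 := by
  rw [cent_y, sup_comm, card_sup_of_inf_eq_bot (L_norm M) (inf_eq_bot_of_coprime ?_)] <;>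
    rw [Nat.card_zpowers, ord_y, card_L]
  norm_num

theorem eq_z' {s : G} (h1 : s ∈ centralizer {M.y} ⊓ M.H) (h : orderOf s = 2) : s = M.z := by
  obtain ⟨c, hc, h2⟩ := exists_conj_mem_sylIn (k := 1) Nat.prime_two (sylIn_of_card (k := 3) (m := 33) Nat.prime_two
    (le_sup_left.trans (L_le M)) (card_R M) (card_cent_y M) (by norm_num)) h1 h
  have h3 := eq_z M h2 ((orderOf_conj' c s).trans h)
  rwa [mul_inv_eq_iff_eq_mul, ← M.mem_H.1 hc.2, mul_right_inj] at h3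

end CL.J4.El
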