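/-
Groups of Janko-four type, elements of order eleven, part 2: the centraliser of `y`, and the intersection of `N` with
its conjugates under the centraliser of `y' = μ y0`.
-/
import Cfsg.Agent.Spor.J4E1
import Cfsg.Agent.Inv.ZStar
import Cfsg.Agent.Grp.CoresPi

set_option autoImplicit false

namespace CL.J4.El

open Cfsg CL.Spor Subgroup MulAction CL.Grp CL.J4.Ten
open CL.F24 (ap idc ap_idc all2 all2_spec)
open scoped Pointwise

variable {G : Type*} [Group G]

theorem pow_lt {r k n c : ℕ} (h : r ^ k ∣ c) (h' : ¬ r ^ n ∣ c) : k < n :=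
  not_le.1 fun e => h' ((pow_dvd_pow r e).trans h)

theorem mem_of_pow {K : Subgroup G} {x : G} {n : ℕ} (hx : (orderOf x).Coprime n) (h : x ^ n ∈ K) : x ∈ K :=
  zpowers_le.2 h (mem_zpowers_pow_iff.2 (by rw [Nat.gcd_comm]; exact hx))

theorem not_sq_dvd {r : ℕ} (hr : r.Prime) (h2 : r ≠ 2) (h3 : r ≠ 3) (h11 : r ≠ 11) : ¬ r ^ 2 ∣ 86775571046077562880 := by
  intro h
  have h1 : r ∣ 2 ^ 21 * 3 ^ 3 * 11 ^ 3 * 5 * 7 * 23 * 29 * 31 * 37 * 43 := (dvd_pow_self r two_ne_zero).trans h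
  simp only [hr.dvd_mul] at h1
  have e : ∀ q : ℕ, q.Prime → r ∣ q → r = q := fun q hq => (Nat.prime_dvd_prime_iff_eq hr hq).1
  rcases h1 with (((((((((h1 | h1) | h1) | h1) | h1) | h1) | h1) | h1) | h1) | h1)
  · exact h2 (e _ (by norm_num) (hr.dvd_of_dvd_pow h1))
  · exact h3 (e _ (by norm_num) (hr.dvd_of_dvd_pow h1))
  · exact h11 (e _ (by norm_num) (hr.dvd_of_dvd_pow h1))
  all_goals rw [e _ (by norm_num) h1] at h; norm_num at h

section X

variable (M : NM G)

/-- The odd core of the centraliser of `y`. -/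
def U : Subgroup G := pPrimeCoreOf 2 (centralizer {M.y})

theorem U_le : U M ≤ centralizer {M.y} := pPrimeCoreOf_le _ _

theorem U_norm : normalizer (zpowers M.y : Set G) ≤ normalizer (U M : Set G) := by
  refine le_trans ?_ (normalizer_le_normalizer_pPrimeCoreOf 2 _)
  rw [← centralizer_zpowers_eq]
  exact le_normalizer_centralizer' le_rfl

theorem X_norm : centralizer {M.y} ≤ normalizer (U M : Set G) := le_normalizer_pPrimeCoreOf 2 _

variable [Finite G]

theorem U_odd : (Nat.card (U M)).Coprime 2 := pPrimeCoreOf_coprime _ _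

theorem y_le : zpowers M.y ≤ U M :=
  le_pPrimeCoreOf (zpowers_le.2 (mem_centralizer_singleton_iff.2 rfl))
    (centralizer_zpowers_eq M.y ▸ centralizer_le_normalizer _) (by rw [Nat.card_zpowers, ord_y]; norm_num)

theorem U_inf : U M ⊓ M.H = zpowers M.y := by
  refine le_antisymm (fun g hg => ?_) (le_inf (y_le M) (zpowers_le.2 (rhy M).mem))
  obtain ⟨c, hc, l, hl, rfl⟩ := (mem_sup_iff_of_le_normalizer (L_norm M)).1 ((cent_y M).le ⟨U_le M hg.1, hg.2⟩)
  have h1 : l ∈ U M := (mul_mem_cancel_left (y_le M hc)).1 hg.1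
  have h2 : U M ⊓ R M = ⊥ := inf_eq_bot_of_coprime (card_R M ▸ (U_odd M).pow_right 3)
  have h3 : ∀ r ∈ R M, l * r = r * l := fun r hr => by
    have h4 := (mem_normalizer_iff.1 (X_norm M (L_le M (mem_sup_left hr)).1) _).1 (inv_mem h1)
    have h5 := (mem_normalizer_iff.1 (K_norm M (mem_sup_left hl)) _).1 hr
    have h6 : l * r * l⁻¹ * r⁻¹ ∈ U M ⊓ R M :=
      mem_inf.2 ⟨by simpa only [mul_assoc] using mul_mem h1 h4, mul_mem h5 (inv_mem hr)⟩
    rwa [h2, mem_bot, mul_inv_eq_one, mul_inv_eq_iff_eq_mul] at h6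
  have h7 : l ∈ U M ⊓ R M := ⟨h1, cent_R M (mem_sup_left hl) (h3 _ (i_mem M)) (h3 _ (j_mem M))⟩
  rw [h2, mem_bot] at h7
  rwa [h7, mul_one]

theorem card_X : Nat.card (centralizer {M.y}) = 24 * Nat.card (U M) := by
  have hz : M.z ∈ centralizer {M.y} := (L_le M (mem_sup_left (z_mem M))).1
  have h1 : IsIsolatedInvolution (⟨M.z, hz⟩ : centralizer ({M.y} : Set G)) :=
    ⟨(orderOf_mk _ _).trans M.ord_z, fun g h => Subtype.ext (eq_z' M ⟨(g * ⟨M.z, hz⟩ * g⁻¹).2,
      M.mem_H.2 (congrArg Subtype.val h.eq).symm⟩ ((orderOf_conj' _ _).trans M.ord_z))⟩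
  have h2 : centralizer {M.y} = (centralizer {M.y} ⊓ M.H) ⊔ U M := by
    refine le_antisymm (fun g hg => ?_) (sup_le inf_le_left (U_le M))
    obtain ⟨o, ho, c, hc, e⟩ := (mem_sup_iff_of_le_normalizer le_normalizer_of_normal).1
      ((CL.Inv.zstar_oddCore_sup_centralizer h1).ge (mem_top ⟨g, hg⟩))
    rw [show g = o * c from congrArg Subtype.val e]
    exact mul_mem (mem_sup_right ⟨o, ho, rfl⟩) (mem_sup_left ⟨c.2,
      M.mem_H.2 (congrArg Subtype.val (mem_centralizer_singleton_iff.1 hc))⟩)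
  have h3 := card_sup_mul_card_inf (inf_le_left.trans (X_norm M) : centralizer {M.y} ⊓ M.H ≤ _)
  rw [← h2, inf_assoc, inf_comm M.H, U_inf, inf_eq_right.2 ((y_le M).trans (U_le M)), Nat.card_zpowers, ord_y,
    card_cent_y] at h3
  omega

theorem sq_dvd_U {r : ℕ} (hr : r.Prime) (h : r ∣ Nat.card (U M)) (h11 : r ≠ 11) : r ^ 2 ∣ Nat.card G := by
  have : Fact r.Prime := ⟨hr⟩
  have h2 : IsPGroup 2 (R M) := .of_card (n := 3) (card_R M)
  have := h2.isNilpotent
  obtain ⟨S, hS, hn⟩ := exists_isSylowIn_le_normalizer r (le_sup_left.trans ((L_le M).trans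
    (inf_le_left.trans (X_norm M)))) (card_R M ▸ (U_odd M).symm.pow_left 3) (Or.inl inferInstance)
  obtain ⟨k, hk⟩ := IsPGroup.iff_card.1 hS.isPGroup
  by_contra hG
  have h3 : k < 2 := pow_lt (hk ▸ card_subgroup_dvd_card S) hG
  have h4 : k ≠ 0 := fun e => hS.not_dvd (by rwa [← card_mul_relIndex hS.le, hk, e, pow_zero, one_mul] at h)
  obtain rfl : k = 1 := by omega
  obtain ⟨⟨x, hx⟩, ox⟩ := exists_prime_orderOf_dvd_card' r (G := S) (by rw [hk, pow_one])
  rw [orderOf_mk] at ox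
  have h5 : zpowers x = S := eq_of_le_of_card_ge (zpowers_le.2 hx) (by rw [Nat.card_zpowers, ox, hk, pow_one])
  obtain ⟨a, ha⟩ := h5.ge ((mem_normalizer_iff.1 (hn (i_mem M)) x).1 hx)
  obtain ⟨b, hb⟩ := h5.ge ((mem_normalizer_iff.1 (hn (j_mem M)) x).1 hx)
  have h6 : M.c 1024 * M.c 2048 = M.c 2048 * M.c 1024 * M.z := by
    rw [mul_inv_eq_iff_eq_mul.1 (j_i M), mul_assoc, M.mem_H.1 (M.c_mem _), ← i_sq]
    group
  have h7 : M.c 2048 * M.c 1024 * (M.z * x * M.z⁻¹) * (M.c 2048 * M.c 1024)⁻¹ =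
      M.c 2048 * M.c 1024 * x * (M.c 2048 * M.c 1024)⁻¹ := by
    calc _ = M.c 1024 * (M.c 2048 * x * (M.c 2048)⁻¹) * (M.c 1024)⁻¹ := by
          rw [← mul_assoc, ← mul_assoc, ← h6, mul_assoc _ M.z⁻¹, ← mul_inv_rev, ← h6]; group
      _ = (x ^ a) ^ b := by rw [← hb, ← conj_zpow, ← ha]
      _ = M.c 2048 * (M.c 1024 * x * (M.c 1024)⁻¹) * (M.c 2048)⁻¹ := by
          rw [← ha, ← conj_zpow, ← hb, ← zpow_mul, ← zpow_mul, mul_comm]
      _ = _ := by group
  rw [mul_left_inj, mul_assoc, mul_assoc _ _ x, mul_right_inj, mul_right_inj, mul_inv_eq_iff_eq_mul] at h7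
  have h8 := orderOf_dvd_of_mem_zpowers ((U_inf M).le ⟨hS.le hx, M.mem_H.2 h7.symm⟩)
  rw [ox, ord_y] at h8
  exact h11 ((Nat.prime_dvd_prime_iff_eq hr (by norm_num)).1 h8)

end X

theorem card_U (M : JM G) [Finite G] (hp3 : centralizer {M.p} ≤ M.H) : Nat.card (U M.toNM) = 11 ^ 3 := by
  have h1 := card_mod (r := 3) (by norm_num) M.p3 (A := U M.toNM) fun x =>
    (mem_normalizer_iff.1 (X_norm _ (mem_centralizer_singleton_iff.2 (p_y _))) x).1
  rw [le_antisymm ((inf_le_inf_left _ hp3).trans (U_inf _).le) (le_inf (y_le _)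
    (zpowers_le.2 (mem_centralizer_singleton_iff.2 (p_y _).symm))), Nat.card_zpowers, ord_y] at h1
  have h2 := Nat.eq_prime_pow_of_unique_prime_dvd (p := 11) (Nat.card_pos (α := U M.toNM)).ne' fun {r} hr h => by
    by_contra h11
    refine not_sq_dvd hr ?_ ?_ h11 (M.card_G ▸ sq_dvd_U _ hr h h11) <;> rintro rfl
    · exact absurd ((U_odd _).symm.eq_one_of_dvd h) (by norm_num)
    · exact absurd ((h1.dvd_iff dvd_rfl).1 h) (by norm_num)
  generalize (Nat.card (U M.toNM)).primeFactorsList.length = k at h2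
  have h3 : k < 4 := pow_lt (h2 ▸ card_subgroup_dvd_card (U M.toNM)) (by rw [M.card_G]; norm_num)
  have h4 := sq_dvd_card_centralizer (by norm_num) (ord_y M.toNM) (by rw [M.card_G]; norm_num)
  rw [card_X, h2] at h4
  rw [h2] at h1 ⊢
  interval_cases k
  · norm_num at h4
  · norm_num at h4
  · exact absurd h1 (by decide)
  · rfl

/-! ### The element `y'` -/

variable (M : JM G)

/-- The second class of elements of order eleven. -/
noncomputable def y' : G := M.μ (m24 y0)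

/-- An element of order five normalising `⟨y'⟩`. -/
noncomputable def f' : G := M.μ (m24 pC)

/-- An involution inverting `y'`. -/
noncomputable def k' : G := M.μ (m24 pB)

theorem ord_y' : orderOf (y' M) = 11 := (orderOf_injective _ M.μ_injective _).trans ord_y0

theorem ord_f' : orderOf (f' M) = 5 := (orderOf_injective _ M.μ_injective _).trans ord_pC

theorem ord_k' : orderOf (k' M) = 2 := (orderOf_injective _ M.μ_injective _).trans ord_pB

theorem y'11 : y' M ^ 11 = 1 := ord_y' M ▸ pow_orderOf_eq_one _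

theorem k'_sq : k' M * k' M = 1 := by rw [← sq, ← ord_k' M, pow_orderOf_eq_one]

theorem f'_y' : f' M * y' M * (f' M)⁻¹ = y' M ^ 3 := by rw [f', y', ← map_inv, ← map_mul, ← map_mul, pC_y0, map_pow]

theorem k'_y' : k' M * y' M * (k' M)⁻¹ = y' M ^ 10 := by rw [k', y', ← map_inv, ← map_mul, ← map_mul, pB_y0, map_pow]

theorem k'_f' : Commute (k' M) (f' M) := by rw [Commute, SemiconjBy, k', f', ← map_mul, ← map_mul, pB_pC]

theorem μ_t {P : ℕ} (h : Ord.inD P = true) : Commute (M.μ (m24 P)) M.t :=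
  mem_centralizer_singleton_iff.1 (M.μ_mem_T (Ord.good_of_inD h).m24_mem)

theorem y'_t : Commute (y' M) M.t := μ_t M (by decide +kernel)

theorem f'_t : Commute (f' M) M.t := μ_t M (by decide +kernel)

theorem k'_t : Commute (k' M) M.t := μ_t M (by decide +kernel)

theorem t_sq : M.t * M.t = 1 := M.v_mul_self _

theorem cent_N {g : G} (hg : g ∈ M.N) (h : g * y' M = y' M * g) : ∃ c ∈ zpowers (y' M), ∃ e < 2, g = c * M.t ^ e := by
  obtain ⟨a, ha, x, rfl⟩ := M.mem_N.1 hg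
  have h1 : M.v a * M.μ (x * m24 y0) = M.v (ap (vcols y0) a) * M.μ (m24 y0 * x) := by
    rw [← M.μ_v _ _ rep_y0 a ha, map_mul, map_mul, ← mul_assoc, ← y', h]; group
  obtain ⟨h2, h3⟩ := (M.vμ_eq_iff ha (vcols_lt _ _)).1 h1
  obtain ⟨n, rfl⟩ := cent_y0.le (mem_centralizer_singleton_iff.2 h3)
  have h4 : all2 (fun a => or (not (Nat.beq (ap (vcols y0) a) a)) (or (Nat.beq a 0) (Nat.beq a 1141))) 11 0 = true := by
    decide +kernel
  have h5 := all2_spec h4 a ha
  rw [← h2, Nat.beq_refl, Bool.not_true, Bool.false_or] at h5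
  refine ⟨_, ⟨n, (map_zpow _ _ _).symm⟩, ?_⟩
  rcases Bool.or_eq_true_iff.1 h5 with h6 | h6 <;> rw [Nat.eq_of_beq_eq_true h6]
  · exact ⟨0, by norm_num, by simp [M.v_zero]⟩
  · exact ⟨1, by norm_num, by rw [pow_one, map_zpow]; exact ((y'_t M).zpow_left n).eq.symm⟩

variable [Finite G]

theorem two_le_V {S : Subgroup G} (hN : S ≤ M.N) (h2 : IsPGroup 2 S) (hy : ∀ x ∈ S, y' M * x * (y' M)⁻¹ ∈ S) :
    S ≤ M.V := by
  have h : im M.toNM S = ⊥ := two_eq_bot (h2.comap_subtype.map _) fun x hx => by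
    obtain ⟨g, hg, h⟩ := (mem_im _).1 hx
    exact (mem_im _).2 ⟨_, hy g hg, pr_conj (pr_μ _ _) h⟩
  intro g hg
  obtain ⟨x, hx⟩ := NM.exists_pr (hN hg)
  exact hx.mem_iff.2 (mem_bot.1 (h.le ((mem_im _).2 ⟨g, hg, hx⟩)))

theorem card_inf_lt {a : G} (ha : a ∉ M.N) : Nat.card (cj a M.V ⊓ M.V : Subgroup G) < 1024 := by
  have key : ∀ b < 2048, wt b = 2 → M.v b ∉ cj a M.V := fun b hb h e =>
    ha (mem_normalizer_iff_cj.2 (M.pre.cj_eq (M.v_mem hb) e (M.isConj_t hb h)))
  by_contra hc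
  have h1 := card_inf_mul_relIndex (cj a M.V) M.V
  rw [M.card_V] at h1
  have h2 : (cj a M.V).relIndex M.V ≠ 1 := fun e =>
    key 1 (by norm_num) (by decide +kernel) (relIndex_eq_one.1 e (M.v_mem (by norm_num)))
  have h3 : ((cj a M.V).subgroupOf M.V).index = 2 := by
    change (cj a M.V).relIndex M.V = 2
    rcases Nat.lt_or_ge ((cj a M.V).relIndex M.V) 3 with h | h
    · interval_cases (cj a M.V).relIndex M.V <;> simp_all
    · nlinarith
  have h4 := (mul_mem_iff_of_index_two h3 (a := ⟨_, M.v_mem (a := 1) (by norm_num)⟩)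
    (b := ⟨_, M.v_mem (a := 1140) (by norm_num)⟩)).2
    (iff_of_false (key 1 (by norm_num) (by decide +kernel)) (key 1140 (by norm_num) (by decide +kernel)))
  exact key (1 ^^^ 1140) (by decide) (by decide +kernel) (M.v_xor _ _ ▸ h4)

theorem key {a : G} (hy : a * y' M = y' M * a) (ha : a ∉ M.N) :
    ∃ φ ∈ [M.t, f' M, k' M, k' M * M.t], a⁻¹ * φ * a ∈ M.N := by
  by_contra hno
  simp only [List.mem_cons, List.not_mem_nil, or_false, exists_eq_or_imp, exists_eq_left, not_or, ← mem_cj] at hno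
  obtain ⟨n1, n2, n3, n4⟩ := hno
  have hy1 : y' M ∈ M.N := M.μ_mem _
  have hy2 : y' M ∈ cj a M.N := by rwa [mem_cj, mul_assoc, ← hy, inv_mul_cancel_left]
  have : Fact (Nat.Prime 11) := ⟨by norm_num⟩
  have hN : ∀ n ∈ M.N ⊓ cj a M.N, n ∈ normalizer (zpowers (y' M) : Set G) → n ∈ zpowers (y' M) := fun n hn h => by
    obtain ⟨j, hj, l, hl, e⟩ := autom (y'11 M) (f'_y' M) (k'_y' M) ((mem_normalizer_iff.1 h _).1 (mem_zpowers _))
      (by rw [ne_eq, conj_eq_one_iff, ← orderOf_eq_one_iff, ord_y']; norm_num)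
    obtain ⟨c, hc, i, hi, e'⟩ := cent_N M (g := n⁻¹ * (f' M ^ j * k' M ^ l))
      (mul_mem (inv_mem hn.1) (mul_mem (pow_mem (M.μ_mem _) _) (pow_mem (M.μ_mem _) _)))
      (by rw [mul_assoc, mul_inv_eq_iff_eq_mul.1 e]; group)
    have e2 : n * c = f' M ^ j * (k' M ^ l * M.t ^ i) := by
      rw [← mul_assoc, inv_mul_eq_iff_eq_mul.1 e', mul_assoc, mul_assoc, ← (Commute.refl _).mul_pow, t_sq, one_pow,
        mul_one]
    have h1 : f' M ^ j * (k' M ^ l * M.t ^ i) ∈ cj a M.N := e2 ▸ mul_mem hn.2 (zpowers_le.2 hy2 hc)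
    have h2 : j = 0 := by
      by_contra h0
      refine n2 (mem_of_pow (n := j * 2)
        (ord_f' M ▸ (by decide : ∀ j < 5, j ≠ 0 → Nat.Coprime 5 (j * 2)) j hj h0) ?_)
      have h3 := pow_mem h1 2
      rwa [(((k'_f' M).symm.pow_pow j l).mul_right ((f'_t M).pow_pow j i)).mul_pow, ((k'_t M).pow_pow l i).mul_pow,
        pow_right_comm (k' M), pow_right_comm M.t, sq (k' M), sq M.t, k'_sq, t_sq, one_pow, one_pow, mul_one, mul_one,
        ← pow_mul] at h3
    subst h2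
    have h3 : n * c = 1 := by
      interval_cases l <;> interval_cases i <;> simp only [pow_zero, pow_one, one_mul, mul_one] at h1 e2
      exacts [e2, absurd h1 n1, absurd h1 n3, absurd h1 n4]
    exact eq_inv_of_mul_eq_one_left h3 ▸ inv_mem hc
  obtain ⟨R, hR, cop, hn, -, hd⟩ := CL.Rec.exists_compl (p := 11) (D := M.N ⊓ cj a M.N) (zpowers_le.2 ⟨hy1, hy2⟩)
    (.of_card (n := 1) (by rw [Nat.card_zpowers, ord_y', pow_one])) (fun n h1 h2 => le_centralizer _ (hN n h1 h2))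
    fun n h1 h2 _ _ => hN n h1 (centralizer_le_normalizer _ h2)
  have hyR : zpowers (y' M) ≤ normalizer (R : Set G) := zpowers_le.2 (mem_normalizer_fintype (hn _ ⟨hy1, hy2⟩))
  have cop' : (Nat.card (zpowers (y' M))).Coprime (Nat.card R) := by rw [Nat.card_zpowers, ord_y']; exact cop.symm
  have hc : Nat.card R ∣ 501397585920 := M.card_N ▸ card_dvd_of_le (hR.trans inf_le_left)
  have syl : ∀ r : ℕ, r.Prime → (∀ (S : Subgroup G) (k : ℕ), S ≤ R → Nat.card S = r ^ k → r ^ k ∣ 501397585920 →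
      (∀ x ∈ S, y' M * x * (y' M)⁻¹ ∈ S) → r ^ k % 11 = 1 → k = 0) → (Nat.card R).Coprime r := fun r hr h => by
    have : Fact r.Prime := ⟨hr⟩
    obtain ⟨S, hS, h1⟩ := exists_isSylowIn_le_normalizer r hyR cop' (Or.inl inferInstance)
    obtain ⟨k, hk⟩ := IsPGroup.iff_card.1 hS.isPGroup
    have h2 : ∀ x ∈ S, y' M * x * (y' M)⁻¹ ∈ S := fun x => (mem_normalizer_iff.1 (h1 (mem_zpowers _)) x).1
    have h3 := card_mod (r := 11) (by norm_num) (y'11 M) h2
    rw [show S ⊓ centralizer {y' M} = ⊥ from eq_bot_iff.2 fun x hx => (inf_eq_bot_of_coprime cop').le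
      ⟨hN x (hR (hS.le hx.1)) (centralizer_le_normalizer _ (centralizer_zpowers_eq (y' M) ▸ hx.2)), hS.le hx.1⟩,
      card_bot, hk] at h3
    have h4 := h S k hS.le hk (hk ▸ (card_dvd_of_le hS.le).trans hc) h2 h3
    rw [← card_mul_relIndex hS.le, hk, h4, pow_zero, one_mul]
    exact (hr.coprime_iff_not_dvd.2 hS.not_dvd).symm
  have c2 := syl 2 (by norm_num) fun S k h1 h2 _ h4 h5 => by
    have h6 : IsPGroup 2 S := .of_card h2
    have h7 := two_le_V M (h1.trans (hR.trans inf_le_left)) h6 h4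
    have h8 := two_le_V M (S := cj a⁻¹ S) (fun x hx => by
      simpa [mem_cj, mul_assoc] using (hR (h1 (mem_cj.1 hx))).2) (h6.map _) fun x hx => by
        have := h4 _ (mem_cj.1 hx)
        rw [mem_cj]
        convert this using 1
        rw [inv_inv, ← mul_assoc, ← mul_assoc, hy, mul_assoc _ (y' M)⁻¹, ← mul_inv_rev, hy]
        group
    have h9 := (card_le_of_le (le_inf (fun x hx => mem_cj.2 (h8 (by simpa [mem_cj, mul_assoc] using hx))) h7)).trans_lt
      (card_inf_lt M ha)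
    rw [h2] at h9
    exact (by decide : ∀ k < 10, 2 ^ k % 11 = 1 → k = 0) k ((Nat.pow_lt_pow_iff_right (a := 2) (by norm_num)).1 h9) h5
  have c3 := syl 3 (by norm_num) fun _ k _ _ h _ =>
    (by decide : ∀ k < 4, 3 ^ k % 11 = 1 → k = 0) k (pow_lt h (by norm_num))
  have c5 := syl 5 (by norm_num) fun _ k _ _ h _ =>
    (by decide : ∀ k < 2, 5 ^ k % 11 = 1 → k = 0) k (pow_lt h (by norm_num))
  have c7 := syl 7 (by norm_num) fun _ k _ _ h _ =>
    (by decide : ∀ k < 2, 7 ^ k % 11 = 1 → k = 0) k (pow_lt h (by norm_num))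
  have h1 : Nat.card R ∣ 23 := (((((c2.pow_right 21).mul_right (c3.pow_right 3)).mul_right c5).mul_right c7).mul_right
    cop).dvd_of_dvd_mul_left hc
  have h2 : Nat.card (M.N ⊓ cj a M.N : Subgroup G) ≤ 11 * 23 := by
    have h3 := Nat.le_of_dvd (Nat.mul_pos Nat.card_pos Nat.card_pos) (card_sup_dvd hyR)
    rw [Nat.card_zpowers, ord_y'] at h3
    refine (card_le_of_le fun d h => ?_).trans (h3.trans (Nat.mul_le_mul_left _ (Nat.le_of_dvd (by norm_num) h1)))
    obtain ⟨r, hr, v, hv, rfl⟩ := hd d h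
    exact mul_mem (mem_sup_right hr) (mem_sup_left hv)
  have h3 := card_mul_index M.N
  have h4 := card_mul_index (cj a M.N)
  have h5 := card_mul_index (M.N ⊓ cj a M.N)
  have h6 := index_inf_le (H := M.N) (K := cj a M.N)
  rw [card_cj] at h4
  rw [M.card_N, M.card_G] at h3 h4
  rw [show M.N.index = 173067389 by omega, show (cj a M.N).index = 173067389 by omega] at h6
  have h7 := Nat.mul_le_mul h2 h6
  rw [h5, M.card_G] at h7
  norm_num at h7

end CL.J4.El
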