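/-
Some local facts about `M22`.
-/
import Cfsg.Agent.Spor.J4Three2
import Cfsg.Agent.Spor.J4P
import Cfsg.Agent.Perm.PrimDerange

set_option autoImplicit false
set_option maxRecDepth 100000

namespace CL.J4.Rec

open Cfsg CL.Spor Subgroup MulAction

/-- `M22` inside `M24`. -/
abbrev F22 : Subgroup M24 := fixS duad0

theorem chainF : SChain F22 lev22 := by
  have : F22 = stabilizer M24 (gPt 23) ⊓ stabilizer M24 (gPt 0) :=
    eq_of_le_of_card_ge (le_inf (fun _ hx => mem_fixS.1 hx _ (by decide +kernel))
      fun _ hx => mem_fixS.1 hx _ (by decide +kernel)) (by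
        rw [card_fixS_two duad0_card, chain22.card_eq]; decide +kernel)
  exact this ▸ chain22

theorem card_F22 : Nat.card F22 = 443520 := card_fixS_two duad0_card

theorem good_F22 {P : ℕ} (h : and (inM24 P) (fixesPts 8388609 P) = true) : Good F22 P := by
  rw [Bool.and_eq_true] at h
  exact ⟨_, (rep_m24 h.1).mem_fixS_iff.2 h.2, rep_m24 h.1⟩

/-- `M22` has one class of elements of order three. -/
theorem class3 {a b : M24} (ha : a ∈ F22) (hb : b ∈ F22) (oa : orderOf a = 3) (ob : orderOf b = 3) :
    ∃ c ∈ F22, c * a * c⁻¹ = b := by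
  have hs : Fus.SylIn 3 A9 F22 := sylIn_of_card (k := 2) (m := 49280) Nat.prime_three
    (gen_le (good_fixS_all (good_top_of_all (by decide +kernel)) (by decide +kernel)))
    (chainA9.card_eq.trans (by decide +kernel)) card_F22 (by norm_num)
  have h : ∀ a ∈ F22, orderOf a = 3 → ∃ c ∈ F22, c * a * c⁻¹ = m24 r31 := fun a ha oa => by
    obtain ⟨r, hr, c, hc, e⟩ := conj_of_cover (class_cover Nat.prime_three hs chainA9 (fun _ => good_F22)
      (reps := [r31]) [(972606645568131968584696805283956768, 984818244535754528103549039458486304), (976531636853126291160407323722221600, 962223308431878189186809386174122016), (970215741404391251045574791881884768, 984411229257306002774782063362415168), (982003659878006778933775353285510240, 962706722395069783913929775680565568), (980950706932289206909372855713072224, 966644801375782934702439092446479040), (967893722055968579688671553496583232, 970524076100295655700250596078730816), (983434085199926273856062762812214336, 982125427216950649406012962800940736), (966241839990332354729067874495794240, 967522522421472118113988584241765696)]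
      (by decide +kernel) ha oa)
    exact ⟨c, hc, List.mem_singleton.1 hr ▸ e⟩
  obtain ⟨c, hc, e1⟩ := h a ha oa
  obtain ⟨d, hd, e2⟩ := h b hb ob
  exact ⟨d⁻¹ * c, mul_mem (inv_mem hd) hc, by rw [← conj_mul_conj_aux c d a b (e1.trans e2.symm)]⟩
where
  conj_mul_conj_aux (c d a b : M24) (h : c * a * c⁻¹ = d * b * d⁻¹) : d⁻¹ * c * a * (d⁻¹ * c)⁻¹ = b := by
    calc _ = d⁻¹ * (c * a * c⁻¹) * d := by group
      _ = b := by rw [h]; group

/-- Chain of a Sylow 2-subgroup of `M22`. -/
def levT : List (ℕ × List ℕ) := [(1, [984818244535754528103549039458486304, 967372831525465130071179985993532480]), (3, [984818244535754528103549039458486304, 982224615119864135432614471389153312, 981608076376000815495976398360217632, 984202951082164080105044112956360736, 977023451795203591179182037798520864, 975726649136091593640438789241702432, 975125294151885691072502974623615008, 976420838754479978627774237199763488, 970531819526550031117983620406741024, 974422238081544939122441376219924512, 959535741380040913870017104332621856, 966032452131344538776482831580596256, 962130615192032160617685318641584160,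 979009376701573398715910484610648096, 978317721293770322615222185527609376, 971833682212383564744611475376015392]), (4, [984818244535754528103549039458486304, 972512676110088067912772961567868960, 961365507626256404119956257276790816, 976448692869377735270425038196672544])]

theorem chainT : SChain (gen (levelEls levT)) levT := sChain_gen (by decide +kernel)

theorem sylIn_T : Fus.SylIn 2 (gen (levelEls levT)) F22 :=
  sylIn_of_card (k := 7) (m := 3465) Nat.prime_two
    (gen_le (good_fixS_all (good_top_of_all (by decide +kernel)) (by decide +kernel)))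
    (chainT.card_eq.trans (by decide +kernel)) card_F22 (by norm_num)

/-- No element of order three acts on a Sylow 2-subgroup of `M22` fixing only involutions. -/
theorem no128 {D : Subgroup M24} (hD : D ≤ F22) (hc : Nat.card D = 128) {u : M24} (hu : u ^ 3 = 1)
    (hn : ∀ d ∈ D, u * d * u⁻¹ ∈ D) (hf : ∀ d ∈ D, u * d * u⁻¹ = d → d ^ 4 = 1) : False := by
  have := Fact.mk Nat.prime_two
  have := Fact.mk Nat.prime_three
  obtain ⟨c, -, e⟩ := (sylIn_of_card (k := 7) (m := 3465) Nat.prime_two hD hc card_F22
    (by norm_num)).exists_map_conj_eq sylIn_T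
  have h1 : {g | g ∈ gen (levelEls levT) ∧ g ^ 4 ≠ 1}.ncard = 16 :=
    (chainT.ncard_eq _ (fun P => not (Nat.beq (ppow P 4) pone)) fun P g hP _ => by
      rw [Ne, (hP.pow 4).eq_one_iff, Bool.not_eq_true', ← Bool.not_eq_true, Nat.beq_eq]).trans (by decide +kernel)
  have h2 : {g | g ∈ D ∧ g ^ 4 ≠ 1} = MulAut.conj c '' {g | g ∈ gen (levelEls levT) ∧ g ^ 4 ≠ 1} := by
    ext g
    rw [← e]
    constructor
    · rintro ⟨⟨t, ht, rfl⟩, h⟩
      exact ⟨t, ⟨ht, fun h0 => h (by rw [← map_pow, h0, map_one])⟩, rfl⟩
    · rintro ⟨t, ⟨ht, h⟩, rfl⟩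
      exact ⟨⟨t, ht, rfl⟩, fun h0 => h (by rwa [← map_pow, map_eq_one_iff _ (MulAut.conj c).injective] at h0)⟩
  have h3 := ncard_fix_modEq (L := ConjAct M24) (g := ConjAct.toConjAct u) (p := 3) (by rw [← map_pow, hu, map_one])
    (W := {g | g ∈ D ∧ g ^ 4 ≠ 1}) fun g hg => ⟨hn g hg.1, fun h => hg.2 (by
      rwa [ConjAct.toConjAct_smul, conj_pow, conj_eq_one_iff] at h)⟩
  rw [h2, Set.ncard_image_of_injective _ (MulAut.conj c).injective, h1, ← h2,
    Set.eq_empty_of_forall_notMem (s := {v | _ ∧ _}) fun g hg => hg.1.2 (hf g hg.1.1 hg.2), Set.ncard_empty] at h3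
  exact absurd h3 (by decide)

/-- `M22` has no elementary abelian subgroup of order 32. -/
theorem no32 {D : Subgroup M24} (hD : D ≤ F22) (hc : Nat.card D = 32) (h2 : ∀ d ∈ D, d ^ 2 = 1) : False := by
  classical
  have := Fact.mk Nat.prime_two
  have := Fintype.ofFinite D
  have h1 := Perm.sum_card_fixedBy_eq (G := D) (α := GolayPt)
  have h3 : ∀ g : D, Nat.card (fixedBy GolayPt g) = 8 + if g = 1 then 16 else 0 := fun g => by
    have h4 : Nat.card (fixedBy GolayPt g) = (fixSet g).card := by
      rw [← Set.ncard_coe_finset, Nat.card_coe_set_eq]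
      congr 1
      ext p
      exact (mem_fixSet (g := g)).symm
    rw [h4]
    split_ifs with h
    · rw [h, show fixSet ((1 : D) : M24) = Finset.univ from Finset.eq_univ_of_forall fun p => mem_fixSet.2 (one_smul _ p)]
      decide +kernel
    · refine (card_fixSet_two (orderOf_eq_prime (h2 g g.2) fun e => h (Subtype.ext e))).resolve_right fun h0 => ?_
      exact Finset.notMem_empty (gPt 0) (Finset.card_eq_zero.1 h0 ▸ mem_fixSet.2
        (mem_fixS.1 (hD g.2) _ (by decide +kernel)))
  simp only [h3, Finset.sum_add_distrib, Finset.sum_const, Finset.card_univ, ← Nat.card_eq_fintype_card, hc,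
    Finset.sum_ite_eq', Finset.mem_univ, if_true, smul_eq_mul] at h1
  omega

end CL.J4.Rec
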