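/-
A group with an element of order three with centraliser `6.M22`, not 3-normal, of characteristic two type: the
structure of the involution centraliser.
-/
import Cfsg.Agent.Spor.J4TRec
import Cfsg.Agent.Spor.J4TMod
import Cfsg.Agent.Spor.J4P
import Cfsg.Agent.Loc.FourU

set_option autoImplicit false

namespace CL.J4.Rec

open Cfsg CL.Spor Subgroup MulAction
open scoped commutatorElement Pointwise

variable {G : Type*} [Group G]

/-- The normaliser of the cyclic group generated by an element. -/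
abbrev N1 (x : G) : Subgroup G := normalizer (zpowers x : Set G)

/-- The centre of the centraliser. -/
abbrev Z1 (x : G) : Subgroup G := C1 x ⊓ centralizer (C1 x : Set G)

theorem cent_zp (x : G) : centralizer (zpowers x : Set G) = C1 x :=
  le_antisymm (fun _ hg => mem_c.2 (hg x (mem_zpowers x)).symm) fun _ hg _ ha => (zp_comm ha hg).symm

theorem C1_le (x : G) : C1 x ≤ N1 x := cent_zp x ▸ centralizer_le_normalizer _

theorem N1_C1 (x : G) : N1 x ≤ normalizer (C1 x : Set G) := cent_zp x ▸ Odd.norm_le_norm_cent _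

theorem N1_Z1 (x : G) : N1 x ≤ normalizer (Z1 x : Set G) := fun _ hg =>
  inf_normalizer_le_normalizer_inf ⟨N1_C1 x hg, Odd.norm_le_norm_cent _ (N1_C1 x hg)⟩

namespace Six

variable {x z : G} {σ : (C1 x) →* M24} (h : Six x z σ)
include h

theorem ker_iff (k : C1 x) : σ k = 1 ↔ (k : G) ∈ Z1 x := by
  refine ⟨fun e => ⟨k.2, fun u hu => h.central e hu⟩, fun e => mem_bot.1 (cent_M22 ▸ fun c hc => ?_)⟩
  obtain ⟨u, rfl⟩ := h.lift hc
  rw [← map_mul, ← map_mul]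
  exact congrArg σ (Subtype.ext (e.2 u u.2))

theorem mem_Z {g : G} : g ∈ Z1 x ↔ ∃ a ∈ zpowers x, ∃ b ∈ zpowers z, g = a * b := by
  refine ⟨fun e => (h.ker ⟨g, e.1⟩).1 ((h.ker_iff _).2 e), fun ⟨a, ha, b, hb, e⟩ => ?_⟩
  have hg : g ∈ C1 x := e ▸ mul_mem (zpowers_le.2 (mem_c.2 rfl) ha) (zpowers_le.2 h.zx hb)
  exact (h.ker_iff ⟨g, hg⟩).1 ((h.ker _).2 ⟨a, ha, b, hb, e⟩)

theorem ne_inv : x ≠ x⁻¹ := fun e =>
  h.x1 ((pow_eq_one_iff_of_coprime (by norm_num : Nat.Coprime 3 2)).1 ⟨h.x3, by rw [sq, mul_eq_one_iff_eq_inv]; exact e⟩)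

theorem N1_le : N1 x ≤ C1 z := fun g hg => by
  have := Fact.mk Nat.prime_two
  have h1 : g * z * g⁻¹ ∈ Z1 x := (mem_normalizer_iff.1 (N1_Z1 x hg) z).1 ⟨h.zx, fun u hu => mem_c.1 (h.zc hu)⟩
  have h2 := h.ker_two ((h.ker_iff ⟨_, h1.1⟩).2 h1) (F := zpowers (g * z * g⁻¹))
    (IsPGroup.of_card (n := 1) (by rw [Nat.card_zpowers, orderOf_conj', h.oz, pow_one])) (mem_zpowers _)
  exact mem_c.2 (mul_inv_eq_iff_eq_mul.1 (((Even.mem_zpowers_two h.oz).1 h2).resolve_left fun e =>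
    h.z1 (conj_eq_one_iff.1 e)))

theorem exists_π [Finite G] {k : G} (hk : k * x * k⁻¹ = x⁻¹) (hn : k ∈ N1 x) :
    ∃ π : N1 x →* M24, π.range = stabilizer M24 duad0 ∧ ∀ g, π g = 1 ↔ (g : G) ∈ Z1 x := by
  have := normal_subgroupOf_of_le_normalizer (N1_C1 x)
  have := normal_subgroupOf_of_le_normalizer (N1_Z1 x)
  refine exists_pi ((Z1 x).subgroupOf (N1 x)) ((C1 x).subgroupOf (N1 x)) (fun _ hg => hg.1)
    (index_eq_two_iff_exists_notMem_and.2 ⟨⟨k, hn⟩, fun e => h.ne_inv ?_, fun b => ?_⟩) (fun c hc => ?_) ?_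
  · rw [← hk, (mem_c (g := k)).1 e, mul_inv_cancel_right]
  · refine (h.conj_cases b.2).symm.imp (fun e => mem_c.2 (mul_inv_eq_iff_eq_mul.1 ?_))
      fun e => mem_c.2 (mul_inv_eq_iff_eq_mul.1 e)
    show b * k * x * (b * k : G)⁻¹ = x
    rw [show b * k * x * (b * k : G)⁻¹ = b * (k * x * k⁻¹) * (b : G)⁻¹ by group, hk, ← conj_inv, e, inv_inv]
  · have h1 : ∀ a ∈ C1 x, ∃ u ∈ Z1 x, c * a * (c : G)⁻¹ = u * a := fun a ha =>
      ⟨_, hc ⟨a, C1_le x ha⟩ ha, (inv_mul_cancel_right _ _).symm⟩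
    have h2 : ⁅C1 x, C1 x⁆ ≤ C1 (c : G) := commutator_le.2 fun a ha b hb => mem_c.2 (by
      obtain ⟨u, hu, e1⟩ := h1 a ha
      obtain ⟨v, hv, e2⟩ := h1 b hb
      have e3 : c * ⁅a, b⁆ * (c : G)⁻¹ = ⁅a, b⁆ := by
        rw [conjugate_commutatorElement, e1, e2]
        calc _ = u * (a * (v * b) * a⁻¹) * u⁻¹ * b⁻¹ * v⁻¹ := by simp only [commutatorElement_def]; group
          _ = a * (v * b) * a⁻¹ * b⁻¹ * v⁻¹ := by
            rw [← hu.2 _ (mul_mem (mul_mem ha (mul_mem hv.1 hb)) (inv_mem ha)), mul_inv_cancel_right]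
          _ = v * ⁅a, b⁆ * v⁻¹ := by rw [← mul_assoc a, hv.2 a ha]; simp only [commutatorElement_def]; group
          _ = _ := by
            rw [← hv.2 ⁅a, b⁆ (mul_mem (mul_mem (mul_mem ha hb) (inv_mem ha)) (inv_mem hb)), mul_inv_cancel_right]
      exact (mul_inv_eq_iff_eq_mul.1 e3).symm)
    exact mem_c.2 (mem_c.1 (h2 (h.perf (mem_c.2 rfl)))).symm
  · let τ : (C1 x).subgroupOf (N1 x) →* F22 :=
      (σ.codRestrict F22 h.σ_mem).comp (subgroupOfEquivOfLe (C1_le x)).toMonoidHom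
    have h1 : ((Z1 x).subgroupOf (N1 x)).subgroupOf ((C1 x).subgroupOf (N1 x)) = τ.ker := by
      ext g
      exact (h.ker_iff ⟨_, g.2⟩).symm.trans ⟨fun e => Subtype.ext e, fun e => congrArg (fun u : F22 => (u : M24)) e⟩
    refine ⟨(QuotientGroup.quotientMulEquivOfEq h1).trans ((QuotientGroup.quotientKerEquivOfSurjective τ
      fun c => ?_).trans eqv22)⟩
    obtain ⟨u, hu⟩ := h.lift c.2
    exact ⟨⟨⟨u, C1_le x u.2⟩, u.2⟩, Subtype.ext hu⟩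

end Six

namespace Dat

variable {x z y : G} {σ : (C1 x) →* M24} {E : Subgroup G} (h : Dat x z y σ E)
include h

theorem x_not : x ∉ E := fun e => h.x_not_zp (h.inf_K.le ⟨e, mem_c.2 rfl⟩)

theorem xH : x ∈ C1 z := h.zc (mem_c.2 rfl)

variable [Finite G]

theorem exists_inv : ∃ k ∈ N1 x, k * x * k⁻¹ = x⁻¹ := by
  obtain ⟨k, -, hk⟩ := h.conj3 h.yK (inv_mem h.yK) h.y3 (by rw [inv_pow, h.y3, inv_one]) h.yx
    fun e => h.yx (inv_mem_iff.1 e)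
  obtain ⟨g, rfl⟩ := isConj_iff.1 h.yc
  have e : g⁻¹ * k * g * x * (g⁻¹ * k * g)⁻¹ = x⁻¹ := by
    rw [show g⁻¹ * k * g * x * (g⁻¹ * k * g)⁻¹ = g⁻¹ * (k * (g * x * g⁻¹) * k⁻¹) * g by group, hk]; group
  refine ⟨_, mem_normalizer_fintype fun _ ⟨n, e1⟩ => ?_, e⟩
  rw [← e1, ← conj_zpow, e]
  exact zpow_mem (inv_mem (mem_zpowers x)) n

theorem inf_N {g : G} (hg : g ∈ E) (hn : g ∈ N1 x) : g ∈ zpowers z := by
  refine h.inf_K.le ⟨hg, mem_c.2 (mul_inv_eq_iff_eq_mul.1 ((h.conj_cases hn).resolve_right fun e => h.x_not ?_))⟩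
  have h1 := mul_mem hg ((mem_normalizer_iff.1 (h.KE (mem_c.2 rfl)) _).1 (inv_mem hg))
  rwa [← mul_assoc, ← mul_assoc, e, ← mul_inv_rev, inv_eq_of_mul_eq_one_left (by rw [← pow_three, h.x3])] at h1

theorem xe : Even.XE z E :=
  Even.xe_of h.extra h.oz h.z_cent (fun _ hg => h.CE ⟨mem_c.2 (hg z h.z_mem).symm, hg⟩) h.HE

section
variable {L V : Type} [Group L] [AddCommGroup V] [DistribMulAction L V] {ρ : C1 z →* L} {q : V → ZMod 2}
  {R : G → V → Prop} (m : Mo z E L V ρ q R)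
include m

theorem fpfV {v : V} (e : ρ ⟨x, h.xH⟩ • v = v) : v = 0 := by
  obtain ⟨c, hc⟩ := m.ex v
  have h1 := m.conj ⟨x, h.xH⟩ hc
  rw [e] at h1
  rcases m.eq hc h1 with h2 | h2
  · rcases h.xe.toXS.mem_Z.1 (h.inf_K.le ⟨m.mem hc, mem_c.2 (mul_inv_eq_iff_eq_mul.1 h2).symm⟩) with rfl | rfl
    · have := m.uniq hc (by simpa using m.mul hc hc)
      rw [m.h2] at this; exact this
    · exact m.uniq hc m.zero
  · have h2 : x * c * x⁻¹ = c * z := h2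
    have h3 : x * (c * z) * x⁻¹ = c := by
      rw [← mul_assoc, mul_assoc _ z, ← mem_c.1 (inv_mem h.xH), ← mul_assoc, h2, mul_assoc, h.xe.toXS.mul_self, mul_one]
    have h4 : x * (x * (x * c * x⁻¹) * x⁻¹) * x⁻¹ = x ^ 3 * c * (x ^ 3)⁻¹ := by simp [pow_three, mul_assoc]
    rw [h2, h3, h2, h.x3] at h4
    exact absurd (by simpa using h4) h.z1

theorem conj_mem {g : G} (hg : g ∈ C1 z) : g * x * g⁻¹ ∈ E ⊔ zpowers x := by
  obtain ⟨k, kn, hk⟩ := h.exists_inv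
  obtain ⟨π, h1, h2⟩ := h.exists_π hk kn
  have x3 : ρ ⟨x, h.xH⟩ ^ 3 = 1 := by
    rw [← map_pow, show (⟨x, h.xH⟩ ^ 3 : C1 z) = 1 from Subtype.ext h.x3, map_one]
  have hx : ∀ v : V, ρ ⟨x, h.xH⟩ • ρ ⟨x, h.xH⟩ • v = v + ρ ⟨x, h.xH⟩ • v := fun v => by
    have h3 : ρ ⟨x, h.xH⟩ • ρ ⟨x, h.xH⟩ • ρ ⟨x, h.xH⟩ • v = v := by
      rw [← mul_smul, ← mul_smul, ← pow_three', x3, one_smul]
    have := h.fpfV m (v := v + ρ ⟨x, h.xH⟩ • v + ρ ⟨x, h.xH⟩ • ρ ⟨x, h.xH⟩ • v) (by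
      rw [smul_add, smul_add, h3]; abel)
    exact (m.eq_of_add this).symm
  have cj : ∀ (g : N1 x) (u : C1 z), (g : G) * x * (g : G)⁻¹ = u →
      ρ.comp (inclusion h.N1_le) g * ρ ⟨x, h.xH⟩ * (ρ.comp (inclusion h.N1_le) g)⁻¹ = ρ u := fun g u e => by
    rw [MonoidHom.comp_apply, ← map_inv, ← map_mul, ← map_mul]
    exact congrArg ρ (Subtype.ext e)
  obtain ⟨y', f, s, k', H⟩ := hy_of m.toQSp (ρ.comp (inclusion h.N1_le)) π (ρ ⟨x, h.xH⟩) h1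
    (fun g e => by
      obtain ⟨a, ha, b, hb, e⟩ := h.mem_Z.1 ((h2 g).1 e)
      obtain ⟨i, rfl⟩ := mem_powers_iff_mem_zpowers.2 ha
      refine ⟨i, ?_⟩
      rw [← map_pow, ← mul_one (ρ _), ← (m.ker ⟨b, zpowers_le.2 (mem_c.2 rfl) hb⟩).2 (zpowers_le.2 h.z_mem hb),
        ← map_mul]
      exact congrArg ρ (Subtype.ext e))
    (fun g e => (h2 g).2 (h.mem_Z.2 ⟨1, one_mem _, g, h.inf_N ((m.ker _).1 e) g.2, (one_mul _).symm⟩)) hx
    (fun g => (h.conj_cases g.2).imp (cj g ⟨x, h.xH⟩) fun e => (cj g ⟨x, h.xH⟩⁻¹ e).trans (map_inv _ _))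
    ⟨⟨k, kn⟩, fun e => h.x_not ((m.ker ⟨x, h.xH⟩).1 ((pow_eq_one_iff_of_coprime (by norm_num : Nat.Coprime 3 2)).1
      ⟨x3, by rw [sq, mul_eq_one_iff_eq_inv, ← map_inv, ← cj ⟨k, kn⟩ ⟨x, h.xH⟩⁻¹ hk, e]⟩))⟩
  have : Finite ρ.range := Finite.of_surjective _ ρ.rangeRestrict_surjective
  obtain ⟨n, e⟩ := conj_hy H (Y := ρ.range) ⟨_, rfl⟩ ⟨_, rfl⟩ ⟨_, rfl⟩ ⟨_, rfl⟩ (fun e => h.not_81
    (e.trans ((card_range_dvd ρ).trans (card_subgroup_dvd_card _)))) (g := ρ ⟨g, hg⟩) ⟨_, rfl⟩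
  have h3 := (m.ker (⟨g, hg⟩ * ⟨x, h.xH⟩ * ⟨g, hg⟩⁻¹ * (⟨x, h.xH⟩ ^ n)⁻¹)).1 (by
    rw [map_mul, map_mul, map_mul, map_inv, map_inv, map_zpow, ← e, mul_inv_cancel])
  rw [← inv_mul_cancel_right (g * x * g⁻¹) (x ^ n)]
  exact mul_mem (mem_sup_left h3) (mem_sup_right (zpow_mem (mem_zpowers x) n))

end

theorem norm_N : C1 z ≤ normalizer ((E ⊔ zpowers x : Subgroup G) : Set G) := fun g hg => by
  obtain ⟨L, V, _, _, _, ρ, q, R, m⟩ := exists_mo h.xe h.card_E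
  exact mem_normalizer_fintype fun u hu => (sup_le (b := zpowers x) (c := (E ⊔ zpowers x).comap
    (MulAut.conj g).toMonoidHom) (fun a ha => mem_sup_left ((mem_normalizer_iff.1 (h.HE hg) a).1 ha))
      (zpowers_le.2 (h.conj_mem m hg))) hu

omit [Finite G] in
theorem card_N : Nat.card ↥(E ⊔ zpowers x) = 3 * Nat.card E :=
  have := Fact.mk Nat.prime_three
  Fus.card_sup_zpowers_of_normalizer (h.KE (mem_c.2 rfl)) h.x_not (h.x3 ▸ one_mem _)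

theorem quot [((E ⊔ zpowers x).subgroupOf (C1 z)).Normal] :
    Nonempty (C1 z ⧸ (E ⊔ zpowers x).subgroupOf (C1 z) ≃* MulAut Spor.M22) := by
  have := Fact.mk Nat.prime_three
  obtain ⟨k, kn, hk⟩ := h.exists_inv
  obtain ⟨π, h1, h2⟩ := h.exists_π hk kn
  have h3 : Fus.SylIn 3 (zpowers x) (E ⊔ zpowers x) := Fus.sylIn_of_card_eq le_sup_right (by
    rw [h.card_N, h.card_E, Nat.card_zpowers, h.ox]; decide +kernel)
  let φ := (QuotientGroup.mk' ((E ⊔ zpowers x).subgroupOf (C1 z))).comp (inclusion h.N1_le)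
  have h4 : Function.Surjective φ := fun c => by
    obtain ⟨g, rfl⟩ := QuotientGroup.mk'_surjective _ c
    obtain ⟨n, hn, e⟩ := h3.frattini' (h.norm_N g.2)
    exact ⟨⟨_, e⟩, (QuotientGroup.eq (s := (E ⊔ zpowers x).subgroupOf (C1 z))).2
      (show ((g : G) * n)⁻¹ * g ∈ E ⊔ zpowers x by rw [mul_inv_rev, inv_mul_cancel_right]; exact inv_mem hn)⟩
  have h5 : φ.ker = π.ker := by
    ext g
    rw [MonoidHom.mem_ker, MonoidHom.mem_ker, h2, h.mem_Z]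
    refine (QuotientGroup.eq_one_iff _).trans ⟨fun e => ?_, fun ⟨a, ha, b, hb, e⟩ => ?_⟩
    · have e : (g : G) ∈ ((E ⊔ zpowers x : Subgroup G) : Set G) := e
      rw [coe_mul_of_right_le_normalizer_left _ _ (zpowers_le.2 (h.KE (mem_c.2 rfl)))] at e
      obtain ⟨b, hb, a, ha, e⟩ := e
      have e : b * a = g := e
      have h6 := h.inf_N hb (eq_mul_inv_of_mul_eq e ▸ mul_mem g.2 (inv_mem (le_normalizer ha)))
      exact ⟨a, ha, b, h6, by rw [← e, zp_comm ha (zpowers_le.2 h.zx h6)]⟩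
    · show (g : G) ∈ E ⊔ zpowers x
      rw [e]
      exact mul_mem (mem_sup_right ha) (mem_sup_left (zpowers_le.2 h.z_mem hb))
  exact ⟨(QuotientGroup.quotientKerEquivOfSurjective φ h4).symm.trans ((QuotientGroup.quotientMulEquivOfEq h5).trans
    ((QuotientGroup.quotientKerEquivRange π).trans ((MulEquiv.subgroupCongr h1).trans autD)))⟩

theorem type (hE : E = twoCoreOfCentralizer z) : IsOfJankoFourTypeWith z (zpowers x) := by
  have := normal_subgroupOf_of_le_normalizer h.norm_N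
  obtain ⟨k, kn, hk⟩ := h.exists_inv
  rw [IsOfJankoFourTypeWith, ← hE, cent_zp, inf_eq_right.2 h.zc]
  refine ⟨h.oz, h.extra, h.card_E, h.CE, ⟨_, le_sup_left, sup_le h.EH (zpowers_le.2 h.xH), h.norm_N, h.card_N,
    ⟨this, h.quot⟩, le_sup_right⟩, by rw [Nat.card_zpowers, h.ox], h.inf_K, fun e => h.ne_inv ?_,
    zpowers_le.2 (h.perf (mem_c.2 rfl))⟩
  rw [← hk, mem_c.1 (e.le ⟨h.N1_le kn, kn⟩), mul_inv_cancel_right]

end Dat

theorem Six.janko [Finite G] {x z y : G} {σ : (C1 x) →* M24} (h : Six x z σ) (h2 : IsCharacteristicTwoType G)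
    (yK : y ∈ C1 x) (yc : IsConj x y) (yx : y ∉ zpowers x) : IsOfJankoFourTypeWith z (zpowers x) := by
  have := Fact.mk Nat.prime_two
  have h3 := Loc.isOfCharacteristicTwo_centralizer h2 (Even.mul_self_of_orderOf_two h.oz) h.z1
  exact Dat.type (E := pCoreOf 2 (C1 z)) ⟨h, yK, yc, yx, Grp.pCoreOf_isPGroup 2 _, Grp.pCoreOf_le 2 _,
    Grp.le_normalizer_pCoreOf 2 _, fun g hg => ⟨⟨g, hg.1⟩, h3 fun u hu => Subtype.ext (hg.2 u ⟨u, hu, rfl⟩), rfl⟩⟩ rfl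

end CL.J4.Rec
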