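/-
Groups with an element of order three whose centraliser is the threefold or sixfold cover of `M22`: the centraliser.
-/
import Cfsg.Agent.Spor.J4TFin

set_option autoImplicit false

namespace CL.J4.Gu

open Cfsg CL.Spor CL.J4.Rec Subgroup MulAction
open scoped commutatorElement Pointwise

variable {G : Type*} [Group G]

/-- The centraliser of `x` is `3.M22` (`z = 1`) or `6.M22` with central involution `z`. -/
structure Cov (x z : G) (σ : (C1 x) →* M24) : Prop where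
  ox : orderOf x = 3
  z2 : z ^ 2 = 1
  zc : (C1 x) ≤ C1 z
  zx : z ∈ C1 x
  range : σ.range = F22
  ker : ∀ k, σ k = 1 ↔ ∃ a ∈ zpowers x, ∃ b ∈ zpowers z, (k : G) = a * b
  perf : (C1 x) ≤ ⁅C1 x, C1 x⁆

theorem cov_of_six {x z : G} {σ : (C1 x) →* M24} (h : Six x z σ) : Cov x z σ :=
  ⟨h.ox, h.z2, h.zc, h.zx, h.range, h.ker, h.perf⟩

namespace Cov

variable {x z : G} {σ : (C1 x) →* M24} (h : Cov x z σ)
include h

theorem conj (g : G) : Cov (g * x * g⁻¹) (g * z * g⁻¹) (σ.comp (cjC g x)) where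
  ox := by rw [orderOf_conj', h.ox]
  z2 := by rw [conj_pow, h.z2, mul_one, mul_inv_cancel]
  zc k hk := by simpa [cjC, mul_assoc] using conj_mem_c (g := g) (h.zc (cjC g x ⟨k, hk⟩).2)
  zx := conj_mem_c h.zx
  range := by
    rw [MonoidHom.range_comp, MonoidHom.range_eq_top_of_surjective _ fun k =>
      ⟨⟨_, conj_mem_c (g := g) k.2⟩, Subtype.ext (by simp [cjC, mul_assoc])⟩, ← MonoidHom.range_eq_map, h.range]
  ker k := by
    rw [MonoidHom.comp_apply, h.ker]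
    constructor
    · rintro ⟨_, ⟨m, rfl⟩, _, ⟨n, rfl⟩, e⟩
      refine ⟨_, ⟨m, rfl⟩, _, ⟨n, rfl⟩, ?_⟩
      show _ = (g * x * g⁻¹) ^ m * (g * z * g⁻¹) ^ n
      rw [conj_zpow, conj_zpow, conj_mul, ← show _ = x ^ m * z ^ n from e]
      simp [cjC, mul_assoc]
    · rintro ⟨_, ⟨m, rfl⟩, _, ⟨n, rfl⟩, e⟩
      refine ⟨_, ⟨m, rfl⟩, _, ⟨n, rfl⟩, ?_⟩
      have e : (k : G) = (g * x * g⁻¹) ^ m * (g * z * g⁻¹) ^ n := e
      rw [conj_zpow, conj_zpow, conj_mul] at e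
      simp [cjC, e, mul_assoc]
  perf k hk := by
    have h1 := mem_map_of_mem (MulAut.conj g).toMonoidHom (h.perf (cjC g x ⟨k, hk⟩).2)
    rw [map_commutator] at h1
    have h2 : (C1 x).map (MulAut.conj g).toMonoidHom ≤ C1 (g * x * g⁻¹) := by
      rintro _ ⟨u, hu, rfl⟩
      exact conj_mem_c hu
    simpa [cjC, mul_assoc] using commutator_mono h2 h2 h1

theorem x3 : x ^ 3 = 1 := h.ox ▸ pow_orderOf_eq_one x
theorem x1 : x ≠ 1 := fun e => by have := h.ox; rw [e, orderOf_one] at this; cases this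

theorem a3 {a : G} (ha : a ∈ zpowers x) : a ^ 3 = 1 :=
  orderOf_dvd_iff_pow_eq_one.1 (h.ox ▸ orderOf_dvd_of_mem_zpowers ha)

theorem b2 {b : G} (hb : b ∈ zpowers z) : b ^ 2 = 1 :=
  orderOf_dvd_iff_pow_eq_one.1 ((orderOf_dvd_of_mem_zpowers hb).trans (orderOf_dvd_of_pow_eq_one h.z2))

theorem oz : orderOf z = 1 ∨ orderOf z = 2 := (Nat.dvd_prime Nat.prime_two).1 (orderOf_dvd_of_pow_eq_one h.z2)

theorem mem_zp {b : G} : b ∈ zpowers z ↔ b = 1 ∨ b = z := by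
  by_cases e : z = 1
  · simp [e]
  · exact Even.mem_zpowers_two (h.oz.resolve_left fun e1 => e (orderOf_eq_one_iff.1 e1))

theorem x_not_zp : x ∉ zpowers z := fun e =>
  h.x1 ((pow_eq_one_iff_of_coprime (by norm_num : Nat.Coprime 3 2)).1 ⟨h.x3, h.b2 e⟩)

theorem six (e : z ≠ 1) : Six x z σ :=
  ⟨h.ox, h.oz.resolve_left fun e1 => e (orderOf_eq_one_iff.1 e1), h.zc, h.zx, h.range, h.ker, h.perf⟩

theorem central {k : C1 x} (hk : σ k = 1) {u : G} (hu : u ∈ C1 x) : u * k = k * u := by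
  obtain ⟨a, ha, b, hb, e⟩ := (h.ker k).1 hk
  rw [e, ← mul_assoc, zp_comm ha hu, mul_assoc, zp_comm hb (h.zc hu), mul_assoc]

/-- Elements of the kernel: the 2-part and the 3-part. -/
theorem ker_pow {k : C1 x} (hk : σ k = 1) : (k : G) ^ 3 ∈ zpowers z ∧ (k : G) ^ 4 ∈ zpowers x := by
  obtain ⟨a, ha, b, hb, e⟩ := (h.ker k).1 hk
  have hc : Commute a b := (zp_comm ha (zpowers_le.2 h.zx hb)).symm
  rw [e, hc.mul_pow, hc.mul_pow, h.a3 ha, one_mul, show 4 = 2 * 2 from rfl, pow_mul b, h.b2 hb, one_pow, mul_one]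
  exact ⟨pow_mem hb 3, pow_mem ha _⟩

theorem ker_three {k : C1 x} (hk : σ k = 1) (h3 : (k : G) ^ 3 = 1) : (k : G) ∈ zpowers x := by
  have := (h.ker_pow hk).2
  rwa [pow_succ, h3, one_mul] at this

theorem ker_two {k : C1 x} (hk : σ k = 1) {F : Subgroup G} (hF : IsPGroup 2 F) (h2 : (k : G) ∈ F) :
    (k : G) ∈ zpowers z := by
  obtain ⟨n, e⟩ := hF ⟨_, pow_mem h2 4⟩
  have h1 : (k : G) ^ 4 = 1 := (pow_eq_one_iff_of_coprime (Nat.Coprime.pow_right n (by norm_num : Nat.Coprime 3 2))).1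
    ⟨h.a3 (h.ker_pow hk).2, congrArg Subtype.val e⟩
  have := inv_mem (h.ker_pow hk).1
  rwa [inv_eq_of_mul_eq_one_right (show (k : G) ^ 3 * k = 1 by rw [← pow_succ, h1])] at this

theorem σ_x : σ ⟨x, mem_c.2 rfl⟩ = 1 := (h.ker _).2 ⟨x, mem_zpowers x, 1, one_mem _, (mul_one x).symm⟩

theorem σ_mem (k : C1 x) : σ k ∈ F22 := h.range ▸ ⟨k, rfl⟩

theorem lift {c : M24} (hc : c ∈ F22) : ∃ k, σ k = c := (h.range ▸ hc : c ∈ σ.range)

/-- The normal subgroups of `6.M22`. -/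
theorem normal_cases {N : Subgroup G} (hn : (C1 x) ≤ normalizer (N : Set G)) :
    (∀ k : C1 x, (k : G) ∈ N → σ k = (1 : M24)) ∨ (C1 x) ≤ N := by
  have := fixS_two_simple duad0_card
  have hn0 := hn
  let τ : (C1 x) →* F22 := σ.codRestrict _ h.σ_mem
  have hτ : Function.Surjective τ := fun c => (h.lift c.2).imp fun k e => Subtype.ext e
  have h1 : (N.subgroupOf (C1 x)).Normal := normal_subgroupOf_of_le_normalizer hn
  refine (h1.map τ hτ).eq_bot_or_eq_top.imp (fun e k hk => ?_) fun e => h.perf.trans (commutator_le.2 ?_)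
  · have h2 : τ k = 1 := mem_bot.1 (e ▸ mem_map_of_mem τ (show k ∈ N.subgroupOf _ from hk))
    exact congrArg (fun u : F22 => (u : M24)) h2
  · have h2 : ∀ a ∈ C1 x, ∃ n ∈ N, n ∈ (C1 x) ∧ ∃ c ∈ C1 x, (∀ u ∈ C1 x, u * c = c * u) ∧ a = c * n := fun a ha => by
      obtain ⟨n, hn, e1⟩ := (e ▸ mem_top (τ ⟨a, ha⟩) : τ ⟨a, ha⟩ ∈ (N.subgroupOf (C1 x)).map τ)
      refine ⟨n, hn, n.2, a * (n : G)⁻¹, mul_mem ha (inv_mem n.2), fun u hu => h.central (k := ⟨a, ha⟩ * n⁻¹) ?_ hu,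
        by simp⟩
      rw [map_mul, map_inv, show σ n = σ ⟨a, ha⟩ from congrArg (fun u : F22 => (u : M24)) e1, mul_inv_cancel]
    intro a ha b hb
    obtain ⟨n, hn, n1, c, -, c1, rfl⟩ := h2 a ha
    have : ⁅c * n, b⁆ = n * (b * n⁻¹ * b⁻¹) := by
      have h3 := c1 (n * b * n⁻¹) (mul_mem (mul_mem n1 hb) (inv_mem n1))
      calc ⁅c * n, b⁆ = c * (n * b * n⁻¹) * c⁻¹ * b⁻¹ := by rw [commutatorElement_def]; group
        _ = _ := by rw [← h3]; group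
    rw [this]
    exact mul_mem hn ((mem_normalizer_iff.1 (hn0 hb) _).1 (inv_mem hn))

theorem two_normal {F : Subgroup G} (hF : IsPGroup 2 F) (hn : (C1 x) ≤ normalizer (F : Set G)) :
    F ⊓ (C1 x) ≤ zpowers z := fun k hk => by
  refine (h.normal_cases hn).elim (fun e => h.ker_two (k := ⟨k, hk.2⟩) (e _ hk.1) hF hk.1) fun e => ?_
  obtain ⟨n, e1⟩ := hF ⟨x, e (mem_c.2 rfl)⟩
  exact absurd ((pow_eq_one_iff_of_coprime (Nat.Coprime.pow_right n (by norm_num : Nat.Coprime 3 2))).1 ⟨h.x3, congrArg Subtype.val e1⟩) h.x1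

variable [Finite G]

theorem card_ker : Nat.card σ.ker = 3 * orderOf z := by
  have := Fact.mk Nat.prime_three
  have h1 : σ.ker.map (C1 x).subtype = zpowers z ⊔ zpowers x := by
    refine le_antisymm ?_ (sup_le (zpowers_le.2 ⟨⟨z, h.zx⟩,
      (h.ker _).2 ⟨1, one_mem _, z, mem_zpowers z, (one_mul z).symm⟩, rfl⟩) (zpowers_le.2 ⟨_, h.σ_x, rfl⟩))
    rintro _ ⟨k, hk, rfl⟩
    obtain ⟨a, ha, b, hb, e⟩ := (h.ker k).1 hk
    exact (e ▸ mul_mem (mem_sup_right ha) (mem_sup_left hb) : (k : G) ∈ _)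
  have h2 := Fus.card_sup_zpowers_of_normalizer (p := 3) (K := zpowers z) (x := x)
    (centralizer_le_normalizer _ fun a ha => (zp_comm ha (h.zc (mem_c.2 rfl))).symm) h.x_not_zp (h.x3 ▸ one_mem _)
  rwa [← h1, card_map_of_injective (subtype_injective _), Nat.card_zpowers] at h2

theorem card_K : Nat.card (C1 x) = 1330560 * orderOf z := by
  rw [← σ.ker.card_mul_index, index_ker, h.range, card_F22, h.card_ker]; ring

/-- The Sylow 3-subgroups of `6.M22`. -/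
theorem syl {R : Subgroup G} (hR : Fus.SylIn 3 R (C1 x)) : Nat.card R = 27 ∧ R ⊓ centralizer (R : Set G) = zpowers x ∧
    ∀ a ∈ R, ∀ b ∈ R, ⁅a, b⁆ ∈ zpowers x := by
  have := Fact.mk Nat.prime_three
  have h1 : Nat.card R = 3 ^ 3 := by
    rcases h.oz with e | e <;> rw [hR.card_eq_pow, h.card_K, e]
    · rw [PG.fact_eq (k := 3) (m := 49280) Nat.prime_three (by norm_num) (by norm_num)]
    · rw [PG.fact_eq (k := 3) (m := 98560) Nat.prime_three (by norm_num) (by norm_num)]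
  have h2 : zpowers x ≤ centralizer (R : Set G) := fun a ha r hr => zp_comm ha (hR.le hr)
  have hx : x ∈ R := hR.le_of_normalizes (IsPGroup.of_card (n := 1) (by rw [Nat.card_zpowers, h.ox, pow_one]))
    (zpowers_le.2 (mem_c.2 rfl)) ((le_centralizer_iff.1 h2).trans (centralizer_le_normalizer _)) (mem_zpowers x)
  have h3 := mem_commutator_of_central hR.le hx (fun y hy => mem_c.1 hy) (h.perf (mem_c.2 rfl)) h.x3
    ((Nat.Prime.coprime_iff_not_dvd Nat.prime_three).2 hR.not_dvd_relIndex)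
  have h4 := Fus.isExtraspecial_of_card_eq_cube h1 fun hc => by
    rw [(commutator_eq_bot_iff_center_eq_top R).2 (center_eq_top_iff.2 hc)] at h3
    exact h.x1 (congrArg Subtype.val (mem_bot.1 h3))
  have h5 : R ⊓ centralizer (R : Set G) = zpowers x := (eq_of_le_of_card_ge (le_inf (zpowers_le.2 hx) h2) (by
    rw [Grp.extra_card_inf_centralizer h4, Nat.card_zpowers, h.ox])).symm
  refine ⟨h1, h5, fun a ha b hb => h5 ▸ mem_inf.2 ⟨(⁅(⟨a, ha⟩ : R), (⟨b, hb⟩ : R)⁆).2, fun r hr => ?_⟩⟩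
  exact congrArg Subtype.val (mem_center_iff.1 (Grp.extra_comm_mem_center h4 ⟨a, ha⟩ ⟨b, hb⟩) ⟨r, hr⟩)

/-- All noncentral elements of order three of `6.M22` are conjugate. -/
theorem conj3 {a b : G} (ha : a ∈ C1 x) (hb : b ∈ C1 x) (a3 : a ^ 3 = 1) (b3 : b ^ 3 = 1) (ax : a ∉ zpowers x)
    (bx : b ∉ zpowers x) : ∃ k ∈ C1 x, k * a * k⁻¹ = b := by
  have := Fact.mk Nat.prime_three
  have ho : ∀ {a} (ha : a ∈ C1 x), a ^ 3 = 1 → a ∉ zpowers x → orderOf (σ ⟨a, ha⟩) = 3 := fun ha a3 ax =>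
    orderOf_eq_prime (by rw [← map_pow]; exact (congrArg σ (Subtype.ext a3)).trans (map_one σ))
      fun e => ax (h.ker_three e a3)
  obtain ⟨c, hc, e⟩ := class3 (h.σ_mem _) (h.σ_mem _) (ho ha a3 ax) (ho hb b3 bx)
  obtain ⟨k, rfl⟩ := h.lift hc
  have h1 : σ (k * ⟨a, ha⟩ * k⁻¹ * ⟨b, hb⟩⁻¹) = 1 := by rw [map_mul, map_mul, map_mul, map_inv, map_inv, e, mul_inv_cancel]
  have h2 : k * a * (k : G)⁻¹ * b⁻¹ ∈ zpowers x := h.ker_three h1 (by
    have h3 : Commute (k * a * (k : G)⁻¹ * b⁻¹) b := (h.central h1 hb).symm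
    have h4 := h3.mul_pow 3
    rw [inv_mul_cancel_right, conj_pow, a3, b3, mul_one, mul_one, mul_inv_cancel] at h4
    exact h4.symm)
  obtain ⟨R, hR, h3⟩ := Fus.exists_sylIn_le (p := 3) (IsPGroup.of_card (n := 1) (by
    rw [Nat.card_zpowers, orderOf_eq_prime b3 fun e => bx (e ▸ one_mem _), pow_one])) (zpowers_le.2 hb)
  obtain ⟨-, h4, h5⟩ := h.syl hR
  have hbR := h3 (mem_zpowers b)
  obtain ⟨r, hr, h6⟩ : ∃ r ∈ R, r * b ≠ b * r := by
    by_contra! h6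
    exact bx (h4 ▸ ⟨hbR, h6⟩)
  have h7 := h5 r hr b hbR
  have h8 : zpowers ⁅r, b⁆ = zpowers x := eq_of_le_of_card_ge (zpowers_le.2 h7) (by
    rw [Nat.card_zpowers, Nat.card_zpowers, h.ox, orderOf_eq_prime (h.a3 h7) fun e =>
      h6 (commutatorElement_eq_one_iff_mul_comm.1 e)])
  obtain ⟨n, e1⟩ := mem_powers_iff_mem_zpowers.2 (h8 ▸ h2)
  have h9 : ∀ n : ℕ, r ^ n * b * (r ^ n)⁻¹ = ⁅r, b⁆ ^ n * b := fun n => by
    induction n with
    | zero => simp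
    | succ n ih =>
      have := zp_comm (pow_mem h7 n) (hR.le hr)
      calc _ = r * (r ^ n * b * (r ^ n)⁻¹) * r⁻¹ := by group
        _ = r * ⁅r, b⁆ ^ n * b * r⁻¹ := by rw [ih]; simp only [mul_assoc]
        _ = _ := by rw [this, pow_succ, commutatorElement_def]; group
  refine ⟨(r ^ n)⁻¹ * k, mul_mem (inv_mem (pow_mem (hR.le hr) n)) k.2, ?_⟩
  have e2 : k * a * (k : G)⁻¹ = r ^ n * b * (r ^ n)⁻¹ := by
    rw [h9, show ⁅r, b⁆ ^ n = _ from e1, inv_mul_cancel_right]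
  calc _ = (r ^ n)⁻¹ * (k * a * (k : G)⁻¹) * r ^ n := by group
    _ = b := by rw [e2]; group

theorem conj_cases {g : G} (hg : g ∈ normalizer (zpowers x : Set G)) : g * x * g⁻¹ = x ∨ g * x * g⁻¹ = x⁻¹ := by
  obtain ⟨i, e⟩ := mem_powers_iff_mem_zpowers.2 ((mem_normalizer_iff.1 hg x).1 (mem_zpowers x))
  have e : x ^ i = g * x * g⁻¹ := e
  rw [pow_eq_pow_mod i h.x3] at e
  rcases (by omega : i % 3 = 0 ∨ i % 3 = 1 ∨ i % 3 = 2) with h1 | h1 | h1 <;> rw [h1] at e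
  · exact absurd (conj_eq_one_iff.1 (e.symm.trans (pow_zero x))) h.x1
  · exact Or.inl (e.symm.trans (pow_one x))
  · exact Or.inr (by rw [← e]; exact eq_inv_of_mul_eq_one_left (by rw [← pow_succ, h.x3]))

theorem sq_mem {g : G} (hg : g ∈ normalizer (zpowers x : Set G)) : g * g ∈ C1 x := by
  refine mem_c.2 (mul_inv_eq_iff_eq_mul.1 ?_)
  rw [show g * g * x * (g * g)⁻¹ = g * (g * x * g⁻¹) * g⁻¹ by group]
  rcases h.conj_cases hg with e | e
  · rw [e, e]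
  · rw [e, ← conj_inv, e, inv_inv]

theorem sylIn_top {R : Subgroup G} (hR : Fus.SylIn 3 R (C1 x)) : Fus.SylIn 3 R ⊤ := by
  have := Fact.mk Nat.prime_three
  obtain ⟨T, hT, h4⟩ := Fus.exists_sylIn_le hR.isPGroup le_top
  rcases h4.eq_or_lt with e | e
  · exact e ▸ hT
  obtain ⟨u, u1, u2, u3⟩ := Inv.exists_mem_normalizer_of_lt_pgroup hT.isPGroup e
  refine absurd (hR.eq_of_le (Z := T ⊓ normalizer (R : Set G)) hT.isPGroup.to_inf_left (le_inf h4 le_normalizer)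
    (fun g hg => ?_) ▸ mem_inf.2 ⟨u1, u3⟩) u2
  obtain ⟨n, e1⟩ := hT.isPGroup ⟨g, hg.1⟩
  refine El.mem_of_pow (n := 2) (Nat.Coprime.coprime_dvd_left (orderOf_dvd_of_pow_eq_one (congrArg Subtype.val e1))
    (Nat.Coprime.pow_left n (by norm_num))) (pow_two g ▸ h.sq_mem ?_)
  rw [← (h.syl hR).2.1]
  exact inf_normalizer_le_normalizer_inf ⟨hg.2, Odd.norm_le_norm_cent _ hg.2⟩

theorem not_81 : ¬ 81 ∣ Nat.card G := fun e => by
  have := Fact.mk Nat.prime_three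
  obtain ⟨R, hR⟩ := Fus.exists_sylIn 3 (C1 x)
  have h1 := (h.sylIn_top hR).card_eq_pow
  rw [(h.syl hR).1, card_top] at h1
  have h2 := (Nat.prime_three.pow_dvd_iff_le_factorization (k := 4) Nat.card_pos.ne').1 e
  have h3 := Nat.pow_le_pow_right (by norm_num : 0 < 3) h2
  omega

theorem exists_y (S : Sylow 3 G) (g : G)
    (h1 : ((center (S : Subgroup G)).map (S : Subgroup G).subtype).map (MulAut.conj g).toMonoidHom ≤ S)
    (h2 : ((center (S : Subgroup G)).map (S : Subgroup G).subtype).map (MulAut.conj g).toMonoidHom ≠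
      (center (S : Subgroup G)).map (S : Subgroup G).subtype) : ∃ y ∈ C1 x, IsConj x y ∧ y ∉ zpowers x := by
  have := Fact.mk Nat.prime_three
  obtain ⟨R, hR⟩ := Fus.exists_sylIn 3 (C1 x)
  obtain ⟨c, -, e⟩ := (Fus.sylIn_top S).exists_map_conj_eq (h.sylIn_top hR)
  have h3 := ((h.conj c).syl (R := S) (by
    rw [← e, C1, centralizer_cj]; exact (Fus.sylIn_map_iff_of_injective (MulAut.conj c).injective).2 hR)).2.1
  have h4 : (center (S : Subgroup G)).map (S : Subgroup G).subtype = zpowers (c * x * c⁻¹) := by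
    rw [← h3]
    ext u
    exact ⟨fun ⟨v, hv, e⟩ => e ▸ ⟨v.2, fun s hs => congrArg Subtype.val (mem_center_iff.1 hv ⟨s, hs⟩)⟩,
      fun hu => ⟨⟨u, hu.1⟩, mem_center_iff.2 fun s => Subtype.ext (hu.2 s s.2), rfl⟩⟩
  rw [h4, MonoidHom.map_zpowers] at h1 h2
  obtain ⟨y, hy, e1⟩ := (e ▸ h1 (mem_zpowers _) : _ ∈ R.map (MulAut.conj c).toMonoidHom)
  have e1 : c * y * c⁻¹ = g * (c * x * c⁻¹) * g⁻¹ := e1
  refine ⟨y, hR.le hy, isConj_iff.2 ⟨c⁻¹ * g * c, ?_⟩, fun h5 => h2 (eq_of_le_of_card_ge (zpowers_le.2 ?_) ?_)⟩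
  · calc _ = c⁻¹ * (g * (c * x * c⁻¹) * g⁻¹) * c := by group
      _ = y := by rw [← e1]; group
  · obtain ⟨n, rfl⟩ := h5
    exact ⟨n, conj_zpow.trans e1⟩
  · rw [Nat.card_zpowers, Nat.card_zpowers]
    exact (orderOf_conj' g _).ge

theorem ker_iff (k : C1 x) : σ k = 1 ↔ (k : G) ∈ Z1 x := by
  refine ⟨fun e => ⟨k.2, fun u hu => h.central e hu⟩, fun e => mem_bot.1 (cent_M22 ▸ fun c hc => ?_)⟩
  obtain ⟨u, rfl⟩ := h.lift hc
  rw [← map_mul, ← map_mul]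
  exact congrArg σ (Subtype.ext (e.2 u u.2))

theorem mem_Z {g : G} : g ∈ Z1 x ↔ ∃ a ∈ zpowers x, ∃ b ∈ zpowers z, g = a * b := by
  refine ⟨fun e => (h.ker ⟨g, e.1⟩).1 ((h.ker_iff _).2 e), fun ⟨a, ha, b, hb, e⟩ => ?_⟩
  have hg : g ∈ C1 x := e ▸ mul_mem (zpowers_le.2 (mem_c.2 rfl) ha) (zpowers_le.2 h.zx hb)
  exact (h.ker_iff ⟨g, hg⟩).1 ((h.ker _).2 ⟨a, ha, b, hb, e⟩)

theorem ne_inv : x ≠ x⁻¹ := fun e =>
  h.x1 ((pow_eq_one_iff_of_coprime (by norm_num : Nat.Coprime 3 2)).1 ⟨h.x3, by rw [sq, mul_eq_one_iff_eq_inv]; exact e⟩)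

/-- The central involution is determined by `x`. -/
theorem uniq {z' : G} {σ' : (C1 x) →* M24} (h' : Cov x z' σ') : z = z' := by
  have key : ∀ {z z' : G} {σ σ' : (C1 x) →* M24}, Cov x z σ → Cov x z' σ' → z' = 1 ∨ z' = z := fun h h' =>
    h.mem_zp.1 (h.ker_two ((h.ker_iff ⟨_, h'.zx⟩).2 ⟨h'.zx, fun u hu => mem_c.1 (h'.zc hu)⟩) (F := zpowers _)
      (fun ⟨_, hb⟩ => ⟨1, Subtype.ext (h'.b2 hb)⟩) (mem_zpowers _))
  rcases key h h' with e | e
  · exact (key h' h).elim (fun e1 => e1.trans e.symm) id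
  · exact e.symm

theorem exists_π {k : G} (hk : k * x * k⁻¹ = x⁻¹) (hn : k ∈ N1 x) :
    ∃ π : N1 x →* M24, π.range = stabilizer M24 duad0 ∧ ∀ g, π g = 1 ↔ (g : G) ∈ Z1 x := by
  have := normal_subgroupOf_of_le_normalizer (N1_C1 x)
  have := normal_subgroupOf_of_le_normalizer (N1_Z1 x)
  refine exists_pi ((Z1 x).subgroupOf (N1 x)) ((C1 x).subgroupOf (N1 x)) (fun _ hg => hg.1)
    (index_eq_two_iff_exists_notMem_and.2 ⟨⟨k, hn⟩, fun e => h.ne_inv ?_, fun b => ?_⟩) (fun c hc => ?_) ?_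
  · rw [← hk, (mem_c (g := k)).1 e, mul_inv_cancel_right]
  · refine (h.conj_cases b.2).symm.imp (fun e => mem_c.2 (mul_inv_eq_iff_eq_mul.1 ?_))
      fun e => mem_c.2 (mul_inv_eq_iff_eq_mul.1 e)
    show b * k * x * (b * k : G)⁻¹ = x
    rw [show b * k * x * (b * k : G)⁻¹ = b * (k * x * k⁻¹) * (b : G)⁻¹ by group, hk, ← conj_inv, e, inv_inv]
  · have h1 : ∀ a ∈ C1 x, ∃ u ∈ Z1 x, c * a * (c : G)⁻¹ = u * a := fun a ha =>
      ⟨_, hc ⟨a, C1_le x ha⟩ ha, (inv_mul_cancel_right _ _).symm⟩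
    have h2 : ⁅C1 x, C1 x⁆ ≤ C1 (c : G) := commutator_le.2 fun a ha b hb => mem_c.2 (by
      obtain ⟨u, hu, e1⟩ := h1 a ha
      obtain ⟨v, hv, e2⟩ := h1 b hb
      have e3 : c * ⁅a, b⁆ * (c : G)⁻¹ = ⁅a, b⁆ := by
        rw [conjugate_commutatorElement, e1, e2]
        calc _ = u * (a * (v * b) * a⁻¹) * u⁻¹ * b⁻¹ * v⁻¹ := by simp only [commutatorElement_def]; group
          _ = a * (v * b) * a⁻¹ * b⁻¹ * v⁻¹ := by
            rw [← hu.2 _ (mul_mem (mul_mem ha (mul_mem hv.1 hb)) (inv_mem ha)), mul_inv_cancel_right]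
          _ = v * ⁅a, b⁆ * v⁻¹ := by rw [← mul_assoc a, hv.2 a ha]; simp only [commutatorElement_def]; group
          _ = _ := by
            rw [← hv.2 ⁅a, b⁆ (mul_mem (mul_mem (mul_mem ha hb) (inv_mem ha)) (inv_mem hb)), mul_inv_cancel_right]
      exact (mul_inv_eq_iff_eq_mul.1 e3).symm)
    exact mem_c.2 (mem_c.1 (h2 (h.perf (mem_c.2 rfl)))).symm
  · let τ : (C1 x).subgroupOf (N1 x) →* F22 :=
      (σ.codRestrict F22 h.σ_mem).comp (subgroupOfEquivOfLe (C1_le x)).toMonoidHom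
    have h1 : ((Z1 x).subgroupOf (N1 x)).subgroupOf ((C1 x).subgroupOf (N1 x)) = τ.ker := by
      ext g
      exact (h.ker_iff ⟨_, g.2⟩).symm.trans ⟨fun e => Subtype.ext e, fun e => congrArg (fun u : F22 => (u : M24)) e⟩
    refine ⟨(QuotientGroup.quotientMulEquivOfEq h1).trans ((QuotientGroup.quotientKerEquivOfSurjective τ
      fun c => ?_).trans eqv22)⟩
    obtain ⟨u, hu⟩ := h.lift c.2
    exact ⟨⟨⟨u, C1_le x u.2⟩, u.2⟩, Subtype.ext hu⟩

/-- Changing the map by an inner automorphism of `M22`. -/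
theorem twist {c : M24} (hc : c ∈ F22) : Cov x z ((MulAut.conj c).toMonoidHom.comp σ) where
  ox := h.ox
  z2 := h.z2
  zc := h.zc
  zx := h.zx
  range := by rw [MonoidHom.range_comp, h.range, Fus.map_conj_eq_of_mem_normalizer (le_normalizer hc)]
  ker k := by rw [← h.ker]; exact conj_eq_one_iff
  perf := h.perf

/-- A subgroup mapping onto `M22` contains the centraliser. -/
theorem le_of_onto {N : Subgroup G} (hN : ∀ c ∈ F22, ∃ k : C1 x, (k : G) ∈ N ∧ σ k = c) : C1 x ≤ N := by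
  refine h.perf.trans (commutator_le.2 fun a ha b hb => ?_)
  obtain ⟨k, k1, k2⟩ := hN _ (h.σ_mem ⟨a, ha⟩)
  obtain ⟨l, l1, l2⟩ := hN _ (h.σ_mem ⟨b, hb⟩)
  have h1 := fun u => h.central (k := ⟨a, ha⟩ * k⁻¹) (u := u) (by rw [map_mul, map_inv, k2, mul_inv_cancel])
  have h2 := fun u => h.central (k := ⟨b, hb⟩ * l⁻¹) (u := u) (by rw [map_mul, map_inv, l2, mul_inv_cancel])
  have e1 : a * b * a⁻¹ = k * b * (k : G)⁻¹ := by
    have := h1 _ (mul_mem (mul_mem k.2 hb) (inv_mem k.2))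
    calc _ = (a * (k : G)⁻¹) * (k * b * (k : G)⁻¹) * (a * (k : G)⁻¹)⁻¹ := by group
      _ = _ := by rw [← show _ * (a * (k : G)⁻¹) = (a * (k : G)⁻¹) * _ from this, mul_inv_cancel_right]
  have e2 : b * (k : G)⁻¹ * b⁻¹ = l * (k : G)⁻¹ * (l : G)⁻¹ := by
    have := h2 _ (mul_mem (mul_mem l.2 (inv_mem k.2)) (inv_mem l.2))
    calc _ = (b * (l : G)⁻¹) * (l * (k : G)⁻¹ * (l : G)⁻¹) * (b * (l : G)⁻¹)⁻¹ := by group
      _ = _ := by rw [← show _ * (b * (l : G)⁻¹) = (b * (l : G)⁻¹) * _ from this, mul_inv_cancel_right]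
  have : ⁅a, b⁆ = k * (l * (k : G)⁻¹ * (l : G)⁻¹) := by rw [commutatorElement_def, e1, ← e2]; group
  rw [this]
  exact mul_mem k1 (mul_mem (mul_mem l1 (inv_mem k1)) (inv_mem l1))

end Cov

end CL.J4.Gu
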