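/-
Groups with an element of order three whose centraliser is `3.M22` or `6.M22`: the local data.
-/
import Cfsg.Agent.Spor.GuCov
import Cfsg.Agent.Grp.Coprime2

set_option autoImplicit false

namespace CL.J4.Gu

open Cfsg CL.Spor CL.J4.Rec Subgroup
open scoped commutatorElement

variable {G : Type*} [Group G]

/-- The group of order nine generated by `x` and `y`. -/
def AA (x y : G) : Subgroup G := zpowers x ⊔ zpowers y
/-- The subgroup generated by the involutions. -/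
def Om (S : Subgroup G) : Subgroup G := closure {u | u ∈ S ∧ u * u = 1}
/-- The 2-part of the centraliser of `A`. -/
def DD (A : Subgroup G) : Subgroup G := Om (centralizer (A : Set G))
/-- The hexad group in the centraliser of `a`. -/
def UU (a : G) (A : Subgroup G) : Subgroup G := Om (C1 a ⊓ centralizer (DD A : Set G))
/-- The complement of `DD A` in `UU a A`. -/
def BB (a : G) (A : Subgroup G) : Subgroup G := ⁅UU a A, A⁆

/-- `x, y` generate an elementary abelian group of order nine. -/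
structure Tor (x y : G) : Prop where
  ox : orderOf x = 3
  oy : orderOf y = 3
  yK : y ∈ C1 x
  yx : y ∉ zpowers x

/-- Local facts in the centraliser of `x`. -/
structure KF (x y z : G) : Prop where
  D2 : ∀ d ∈ DD (AA x y), d * d = 1
  cD : Nat.card (DD (AA x y)) = 4 * orderOf z
  CA : ∀ c ∈ centralizer (AA x y : Set G), ∃ a ∈ AA x y, ∃ d ∈ DD (AA x y), c = a * d
  U2 : ∀ u ∈ UU x (AA x y), u * u = 1
  cU : Nat.card (UU x (AA x y)) = 16 * orderOf z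
  CD : ∀ c ∈ C1 x ⊓ centralizer (DD (AA x y) : Set G), ∃ a ∈ AA x y, ∃ u ∈ UU x (AA x y), c = a * u
  c2 : ∀ t ∈ DD (AA x y), t ∉ zpowers z → Nat.card ↥(C1 x ⊓ C1 t) ∣ 2304
  com : ∀ t ∈ DD (AA x y), t ∉ zpowers z → ∀ u ∈ C1 x ⊓ C1 t, ∀ v ∈ C1 x ⊓ C1 t, u * u = 1 → v * v = 1 →
    u * (y * u * y⁻¹) * (y⁻¹ * u * y) = 1 → v * (y * v * y⁻¹) * (y⁻¹ * v * y) = 1 → ⁅u, v⁆ ∈ zpowers t ⊔ zpowers z
  inv : ∀ t ∈ C1 x, t * t ∈ zpowers z → t ∉ zpowers z → ∀ d ∈ DD (AA x y), d ∉ zpowers z →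
    ∃ k ∈ C1 x, k * t * k⁻¹ * d ∈ zpowers z
  O : z = 1 → ∀ t ∈ DD (AA x y), t ≠ 1 → ∃ O : Subgroup G, IsPGroup 2 O ∧ O ≤ C1 x ⊓ C1 t ∧
    C1 x ⊓ C1 t ≤ normalizer (O : Set G) ∧ O ≤ normalizer (UU x (AA x y) : Set G) ∧
    (∀ o ∈ O, ∀ b ∈ BB x (AA x y), ⁅b, o⁆ ∈ zpowers t) ∧
    ∀ N : Subgroup G, C1 x ⊓ normalizer (UU x (AA x y) : Set G) ≤ normalizer (N : Set G) → O ≤ N →
      ∃ a ∈ zpowers x, y * a ∈ N

/-- The duad configuration in the centraliser of `x`: `S` is the stabiliser of a duad of the hexad of `UU`. -/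
structure WD (x y z y' τ : G) (O S : Subgroup G) : Prop where
  tor : Tor x y'
  yU : y' ∈ normalizer (UU x (AA x y) : Set G)
  τK : τ ∈ C1 x
  τU : τ ∈ normalizer (UU x (AA x y) : Set G)
  τy : τ * y' * τ⁻¹ = y'⁻¹
  yy : y * y' * y⁻¹ = y' * x ∨ y * y' * y⁻¹ = y' * x⁻¹
  O2 : IsPGroup 2 O
  OK : O ≤ C1 x
  OU : O ≤ normalizer (UU x (AA x y) : Set G)
  yO : y' ∈ normalizer (O : Set G)
  τO : τ ∈ normalizer (O : Set G)
  Oz : ¬ O ≤ zpowers z
  SK : S ≤ C1 x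
  gen : ∀ d ∈ DD (AA x y'), d ∉ zpowers z → τ * d = d * τ →
    (∀ N : Subgroup G, O ≤ N → x ∈ N → z ∈ N → y' ∈ N → τ ∈ N → d ∈ N → S ≤ N) ∧
    (∀ N : Subgroup G, (∀ o ∈ O, y * o * y⁻¹ ∈ N) → (∀ o ∈ O, y⁻¹ * o * y ∈ N) → d ∈ N → C1 x ≤ N) ∧
    (∀ N : Subgroup G, S ≤ N → y * d * y⁻¹ ∈ N → C1 x ≤ N) ∧
    (∀ k ∈ C1 x, ∃ a ∈ S, ∃ b ∈ S, a * k * b ∈ C1 x ⊓ normalizer (UU x (AA x y) : Set G) ∨ a * k * b = y * d * y⁻¹) ∧
    ∃ a ∈ S, ∃ b ∈ S, a * (y * d * y⁻¹ * y⁻¹) * b ∈ C1 x ⊓ normalizer (UU x (AA x y) : Set G)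

/-- Facts on the outer involutions of `3.M22.2`. -/
def B2F (x y : G) : Prop := ∀ t ∈ centralizer (DD (AA x y) : Set G), t * x * t⁻¹ = x⁻¹ → t * y * t⁻¹ = y⁻¹ →
  ∃ t ∈ centralizer (DD (AA x y) : Set G), t * x * t⁻¹ = x⁻¹ ∧ t * y * t⁻¹ = y⁻¹ ∧ t * t = 1 ∧
    (∃ d ∈ DD (AA x y), ∀ n ∈ N1 x, n * t * n⁻¹ ≠ t * d) ∧
    ∀ u ∈ UU x (AA x y), u * t ≠ t * u → ∀ v ∈ UU x (AA x y), v * t ≠ t * v →
      ∃ k ∈ normalizer (UU x (AA x y) : Set G), k * t * k⁻¹ * t ∈ UU x (AA x y) ∧ k * u * k⁻¹ = v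

/-- All elements of order three are conjugate and have centraliser `3.M22` or `6.M22` with centre `⟨a, zf a⟩`. -/
structure Al (zf : G → G) : Prop where
  cov : ∀ a, orderOf a = 3 → ∃ σ, Cov a (zf a) σ
  cls : ∀ a b : G, orderOf a = 3 → orderOf b = 3 → IsConj a b
  kf : ∀ x y, Tor x y → KF x y (zf x)
  wf : ∀ x y, Tor x y → ∃ y' τ O S, WD x y (zf x) y' τ O S
  b2 : ∀ x y, Tor x y → zf x = 1 → B2F x y

/-- The central involutions of commuting elements of order three are distinct. -/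
def Dist (zf : G → G) : Prop := ∀ x y, Tor x y → zf x ≠ zf y

/-- The four hexad groups commute. -/
def Com (A : Subgroup G) : Prop := ∀ a ∈ A, a ≠ 1 → ∀ b ∈ A, b ≠ 1 → ∀ u ∈ UU a A, ∀ v ∈ UU b A, u * v = v * u

/-- The elementary abelian group generated by the four hexad groups. -/
structure VS (A V : Subgroup G) : Prop where
  V2 : ∀ v ∈ V, v * v = 1
  inf : ∀ a ∈ A, a ≠ 1 → V ⊓ C1 a = UU a A
  nU : ∀ a ∈ A, a ≠ 1 → normalizer (UU a A : Set G) ≤ normalizer (V : Set G)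
  nA : normalizer (A : Set G) ≤ normalizer (V : Set G)
  cW : ∀ a ∈ A, a ≠ 1 → Nat.card ↥⁅V, zpowers a⁆ = 64
  W0 : ∀ a ∈ A, a ≠ 1 → ⁅V, zpowers a⁆ ⊓ C1 a = ⊥
  WB : ∀ a ∈ A, a ≠ 1 → ∀ b ∈ A, b ∉ zpowers a → ⁅V, zpowers a⁆ ⊓ C1 b = BB b A

/-- A 2-subgroup of `C(z)` normalised by `C(x)`. -/
structure Inv2 (x z : G) (E : Subgroup G) : Prop where
  E2 : IsPGroup 2 E
  EH : E ≤ C1 z
  zE : z ∈ E
  nle : ¬ E ≤ zpowers z
  KE : C1 x ≤ normalizer (E : Set G)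

/-- The extraspecial group and its normaliser in `C(z)`. -/
structure Pk (x z : G) (E : Subgroup G) : Prop extends Inv2 x z E where
  ab : ∀ a ∈ E, ∀ b ∈ E, ⁅a, b⁆ ∈ zpowers z
  sq : ∀ a ∈ E, a * a ∈ zpowers z
  card : Nat.card E = 2 ^ 13
  NE : N1 x ≤ normalizer (E : Set G)
  uniq : ∀ F : Subgroup G, IsPGroup 2 F → F ≤ C1 z → C1 x ≤ normalizer (F : Set G) → F ≤ E
  CE : C1 z ⊓ centralizer (E : Set G) ≤ E
  nrm : ∀ g ∈ C1 z ⊓ normalizer (E : Set G), g * x * g⁻¹ ∈ E ⊔ zpowers x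
  fix3 : ∀ t ∈ E ⊔ C1 x, t * t ∈ zpowers z → ∃ u ∈ C1 z ⊓ normalizer (E : Set G), orderOf u = 3 ∧ u * t = t * u
  se : ∀ g ∈ C1 z, ∀ u ∈ C1 z ⊓ normalizer (E : Set G), orderOf u = 3 → g * u * g⁻¹ ∈ normalizer (E : Set G) →
    g ∈ normalizer (E : Set G)

/-! ### Generalities -/

theorem Om_le (S : Subgroup G) : Om S ≤ S := (closure_le _).2 fun _ h => h.1

theorem mem_Om {S : Subgroup G} {u : G} (h1 : u ∈ S) (h2 : u * u = 1) : u ∈ Om S := subset_closure ⟨h1, h2⟩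

theorem Om_conj {S T : Subgroup G} {g : G} (h : ∀ s ∈ S, g * s * g⁻¹ ∈ T) : ∀ u ∈ Om S, g * u * g⁻¹ ∈ Om T :=
  fun _ hu => (closure_le ((Om T).comap (MulAut.conj g).toMonoidHom)).2
    (fun s hs => mem_Om (h s hs.1) (show g * s * g⁻¹ * (g * s * g⁻¹) = 1 by rw [conj_mul, hs.2, mul_one, mul_inv_cancel])) hu

theorem DD_le (A : Subgroup G) : DD A ≤ centralizer (A : Set G) := Om_le _
theorem UU_le (a : G) (A : Subgroup G) : UU a A ≤ C1 a := (Om_le _).trans inf_le_left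
theorem UU_le' (a : G) (A : Subgroup G) : UU a A ≤ centralizer (DD A : Set G) := (Om_le _).trans inf_le_right

theorem UU_congr {a b : G} (h : zpowers a = zpowers b) (A : Subgroup G) : UU a A = UU b A := by
  rw [UU, UU, ← cent_zp, ← cent_zp, h]

theorem BB_congr {a b : G} (h : zpowers a = zpowers b) (A : Subgroup G) : BB a A = BB b A := by
  rw [BB, BB, UU_congr h]

theorem comm_of_sq {S : Subgroup G} (h : ∀ u ∈ S, u * u = 1) {u v : G} (hu : u ∈ S) (hv : v ∈ S) : u * v = v * u := by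
  rw [← inv_eq_of_mul_eq_one_right (h _ (mul_mem hu hv)), mul_inv_rev, inv_eq_of_mul_eq_one_right (h u hu),
    inv_eq_of_mul_eq_one_right (h v hv)]

theorem isPGroup_of_sq {S : Subgroup G} (h : ∀ u ∈ S, u * u = 1) : IsPGroup 2 S :=
  fun u => ⟨1, Subtype.ext (by simpa [sq] using h u u.2)⟩

theorem AA_comm (x y : G) : AA x y = AA y x := sup_comm _ _
theorem x_mem (x y : G) : x ∈ AA x y := mem_sup_left (mem_zpowers x)
theorem y_mem (x y : G) : y ∈ AA x y := mem_sup_right (mem_zpowers y)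
theorem AA_le {x y : G} {N : Subgroup G} (hx : x ∈ N) (hy : y ∈ N) : AA x y ≤ N :=
  sup_le (zpowers_le.2 hx) (zpowers_le.2 hy)

variable [Finite G]

theorem norm_DD (A : Subgroup G) : normalizer (A : Set G) ≤ normalizer (DD A : Set G) := fun _ hg =>
  mem_normalizer_fintype (Om_conj fun s => (mem_normalizer_iff.1 (Odd.norm_le_norm_cent A hg) s).1)

theorem UU_conj {A : Subgroup G} {g : G} (hg : g ∈ normalizer (A : Set G)) (a : G) :
    ∀ u ∈ UU a A, g * u * g⁻¹ ∈ UU (g * a * g⁻¹) A :=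
  Om_conj fun s hs => ⟨conj_mem_c hs.1, (mem_normalizer_iff.1 (Odd.norm_le_norm_cent _ (norm_DD A hg)) s).1 hs.2⟩

theorem BB_conj {A : Subgroup G} {g : G} (hg : g ∈ normalizer (A : Set G)) (a : G) :
    ∀ u ∈ BB a A, g * u * g⁻¹ ∈ BB (g * a * g⁻¹) A := fun _ hu =>
  (commutator_le (H₃ := (BB (g * a * g⁻¹) A).comap (MulAut.conj g).toMonoidHom)).2 (fun s hs b hb => by
    show g * ⁅s, b⁆ * g⁻¹ ∈ BB (g * a * g⁻¹) A
    rw [conjugate_commutatorElement]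
    exact commutator_mem_commutator (UU_conj hg a s hs) ((mem_normalizer_iff.1 hg b).1 hb)) hu

theorem norm_UU {A : Subgroup G} {g a : G} (hg : g ∈ normalizer (A : Set G)) (ha : g ∈ N1 a) :
    g ∈ normalizer (UU a A : Set G) := mem_normalizer_fintype fun u hu => by
  have := UU_conj hg a u hu
  rwa [UU_congr (b := a) (by
    rw [← Fus.map_conj_eq_of_mem_normalizer ha, MonoidHom.map_zpowers]; rfl)] at this

/-- A 2-group of order four on which an element of order three acts without fixed points is irreducible. -/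
theorem le_of_four {B X : Subgroup G} {a : G} (hB : Nat.card B = 4) (a3 : a ^ 3 = 1) (h0 : B ⊓ C1 a = ⊥)
    (h1 : ∀ u ∈ B, a * u * a⁻¹ ∈ B) (h2 : ∀ u ∈ X, a * u * a⁻¹ ∈ X) (h : B ⊓ X ≠ ⊥) : B ≤ X := by
  have h3 := El.card_mod Nat.prime_three a3 (A := B ⊓ X) fun u hu => ⟨h1 u hu.1, h2 u hu.2⟩
  rw [inf_right_comm, h0, bot_inf_eq, card_bot] at h3
  have h4 := card_dvd_of_le (inf_le_left : B ⊓ X ≤ B)
  have h5 : Nat.card ↥(B ⊓ X) ≠ 1 := fun e => h (card_eq_one.1 e)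
  refine inf_eq_left.1 (eq_of_le_of_card_ge inf_le_left ?_)
  rw [hB] at h4 ⊢
  have := Nat.le_of_dvd (by norm_num) h4
  generalize Nat.card ↥(B ⊓ X) = n at *
  interval_cases n <;> simp_all +decide

namespace Tor

variable {x y : G} (t : Tor x y)
include t

omit [Finite G] in
theorem x3 : x ^ 3 = 1 := t.ox ▸ pow_orderOf_eq_one x
omit [Finite G] in
theorem y3 : y ^ 3 = 1 := t.oy ▸ pow_orderOf_eq_one y
omit [Finite G] in
theorem x1 : x ≠ 1 := fun e => by have := t.ox; rw [e, orderOf_one] at this; cases this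
omit [Finite G] in
theorem y1 : y ≠ 1 := fun e => t.yx (e ▸ one_mem _)
omit [Finite G] in
theorem xK : x ∈ C1 y := mem_c.2 (mem_c.1 t.yK).symm
omit [Finite G] in
theorem comm : Commute x y := (mem_c.1 t.yK).symm

omit [Finite G] in
theorem le_cent : AA x y ≤ centralizer (AA x y : Set G) :=
  AA_le (fun _ ha => mem_c.1 (AA_le (mem_c.2 rfl) t.yK ha)) fun _ ha => mem_c.1 (AA_le t.xK (mem_c.2 rfl) ha)

omit [Finite G] in
theorem le_K {a : G} (ha : a ∈ AA x y) : AA x y ≤ C1 a := fun b hb => mem_c.2 (t.le_cent ha b hb)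

theorem symm : Tor y x :=
  have := Fact.mk Nat.prime_three
  ⟨t.oy, t.ox, t.xK, fun e => t.yx (Fus.mem_zpowers_symm_of_prime t.y3 e t.x1)⟩

theorem card : Nat.card (AA x y) = 9 := by
  have := Fact.mk Nat.prime_three
  rw [AA, Fus.card_sup_zpowers_of_normalizer (p := 3)
    (centralizer_le_normalizer _ fun a ha => (zp_comm ha t.yK).symm) t.yx (t.y3 ▸ one_mem _), Nat.card_zpowers, t.ox]

theorem mem {a : G} : a ∈ AA x y ↔ ∃ i < 3, ∃ j < 3, a = x ^ i * y ^ j := by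
  refine ⟨fun ha => ?_, fun ⟨i, _, j, _, e⟩ => e ▸ mul_mem (pow_mem (x_mem x y) i) (pow_mem (y_mem x y) j)⟩
  rw [AA, ← SetLike.mem_coe, coe_mul_of_right_le_normalizer_left _ _ (zpowers_le.2
    (centralizer_le_normalizer _ fun a ha => (zp_comm ha t.yK).symm))] at ha
  obtain ⟨u, hu, v, hv, rfl⟩ := ha
  obtain ⟨i, rfl⟩ := mem_powers_iff_mem_zpowers.2 hu
  obtain ⟨j, rfl⟩ := mem_powers_iff_mem_zpowers.2 hv
  exact ⟨i % 3, Nat.mod_lt _ (by norm_num), j % 3, Nat.mod_lt _ (by norm_num), by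
    rw [← pow_eq_pow_mod i t.x3, ← pow_eq_pow_mod j t.y3]⟩

theorem a3 {a : G} (ha : a ∈ AA x y) : a ^ 3 = 1 := by
  obtain ⟨i, -, j, -, rfl⟩ := t.mem.1 ha
  rw [(t.comm.pow_pow i j).mul_pow, ← pow_mul, ← pow_mul, mul_comm i, mul_comm j, pow_mul, pow_mul, t.x3, t.y3]
  simp

theorem oa {a : G} (ha : a ∈ AA x y) (a1 : a ≠ 1) : orderOf a = 3 :=
  have := Fact.mk Nat.prime_three
  orderOf_eq_prime (t.a3 ha) a1

theorem of_mem {a b : G} (ha : a ∈ AA x y) (a1 : a ≠ 1) (hb : b ∈ AA x y) (ba : b ∉ zpowers a) :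
    Tor a b ∧ AA a b = AA x y := by
  have h : Tor a b := ⟨t.oa ha a1, t.oa hb fun e => ba (e ▸ one_mem _), t.le_K ha hb, ba⟩
  exact ⟨h, eq_of_le_of_card_ge (AA_le ha hb) (by rw [t.card, h.card])⟩

theorem exists_tor {a : G} (ha : a ∈ AA x y) (a1 : a ≠ 1) : ∃ b, Tor a b ∧ AA a b = AA x y := by
  have := Fact.mk Nat.prime_three
  by_cases h : x ∈ zpowers a
  · exact ⟨y, t.of_mem ha a1 (y_mem x y) fun e => t.yx (Fus.zpowers_eq_of_mem_prime (t.a3 ha) h t.x1 ▸ e)⟩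
  · exact ⟨x, t.of_mem ha a1 (x_mem x y) h⟩

theorem ea : IsElementaryAbelian 3 (AA x y) := ⟨⟨⟨fun a b => Subtype.ext (t.le_cent b.2 a a.2)⟩⟩, fun _ => t.a3⟩

theorem isP : IsPGroup 3 (AA x y) := IsPGroup.of_card (n := 2) t.card

theorem not_cyc : ¬ IsCyclic (AA x y) := fun ⟨g, hg⟩ => by
  have h1 := orderOf_eq_card_of_forall_mem_zpowers hg
  have h2 := orderOf_dvd_of_pow_eq_one (show g ^ 3 = 1 from Subtype.ext (t.a3 g.2))
  rw [h1, t.card] at h2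
  exact absurd h2 (by norm_num)

/-- An element mapping `x, y` into `A` normalises `A`. -/
theorem norm {g : G} (hx : g * x * g⁻¹ ∈ AA x y) (hy : g * y * g⁻¹ ∈ AA x y) : g ∈ normalizer (AA x y : Set G) :=
  have := t
  mem_normalizer_fintype fun _ hu => AA_le (N := (AA x y).comap (MulAut.conj g).toMonoidHom) hx hy hu

/-- Generation by centralisers. -/
theorem gen {Y T : Subgroup G} (hn : AA x y ≤ normalizer (Y : Set G)) (h3 : ¬ 3 ∣ Nat.card Y)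
    (h : ∀ a ∈ AA x y, a ≠ 1 → Y ⊓ C1 a ≤ T) : Y ≤ T :=
  have := t.ea.1
  Grp.le_of_forall_centralizer_le t.not_cyc hn (by
    rw [t.card]; exact Nat.Coprime.pow_left 2 ((Nat.Prime.coprime_iff_not_dvd Nat.prime_three).2 h3)) h

theorem gen2 {Y T : Subgroup G} (hn : AA x y ≤ normalizer (Y : Set G)) (h2 : IsPGroup 2 Y)
    (h : ∀ a ∈ AA x y, a ≠ 1 → Y ⊓ C1 a ≤ T) : Y ≤ T := by
  obtain ⟨k, hk⟩ := card_two h2
  exact t.gen hn (fun e => absurd (Nat.prime_three.dvd_of_dvd_pow (hk ▸ e)) (by norm_num)) h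

/-- A `3'`-group normalised by `A` in which all fixed subgroups are 2-groups is a 2-group. -/
theorem two {Y : Subgroup G} (hn : AA x y ≤ normalizer (Y : Set G)) (h3 : ¬ 3 ∣ Nat.card Y)
    (h : ∀ a ∈ AA x y, a ≠ 1 → IsPGroup 2 ↥(Y ⊓ C1 a)) : IsPGroup 2 Y := by
  classical
  have := Fact.mk Nat.prime_three
  have := Fact.mk Nat.prime_two
  have := Fintype.ofFinite (AA x y)
  refine IsPGroup.of_card (Nat.eq_prime_pow_of_unique_prime_dvd Nat.card_pos.ne' fun {q} hq hd => ?_)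
  by_contra h2
  have h1 := Loc.card_cent_prod (p := 3) t.ea hn h3
  rw [← Finset.mul_prod_erase _ _ (Finset.mem_univ 1), show Y ⊓ centralizer {((1 : AA x y) : G)} = Y from
    inf_eq_left.2 fun u _ => mem_c.2 (by simp), t.card, mul_pow, mul_pow, show 9 = 3 + 6 from rfl, pow_add,
    mul_assoc] at h1
  have h4 := Nat.eq_of_mul_eq_mul_left (pow_pos Nat.card_pos 3) h1
  have h5 : q ∣ ∏ a ∈ Finset.univ.erase (1 : AA x y), Nat.card ↥(Y ⊓ centralizer {a.1}) :=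
    hq.dvd_of_dvd_pow (h4 ▸ (dvd_pow hd (by norm_num)).mul_right _)
  obtain ⟨a, ha, h6⟩ := (Prime.dvd_finsetProd_iff hq.prime _).1 h5
  obtain ⟨k, hk⟩ := card_two (h a a.2 fun e => Finset.ne_of_mem_erase ha (Subtype.ext e))
  exact h2 ((Nat.prime_dvd_prime_iff_eq hq Nat.prime_two).1 (hq.dvd_of_dvd_pow (hk ▸ h6)))

end Tor

end CL.J4.Gu
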