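/-
Groups with an element of order three whose centraliser is `3.M22` or `6.M22`: first consequences.
-/
import Cfsg.Agent.Spor.GuDefs
import Cfsg.Agent.Cit.CentBase
import Cfsg.Agent.Grp.Primitive

set_option autoImplicit false

namespace CL.J4.Gu

open Cfsg CL.Spor CL.J4.Rec Subgroup
open scoped commutatorElement

variable {G : Type*} [Group G] [Finite G] {zf : G → G} {x y : G}

theorem not_three {F : Subgroup G} (hF : IsPGroup 2 F) : ¬ 3 ∣ Nat.card F := fun e => by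
  obtain ⟨k, hk⟩ := card_two hF
  exact absurd (Nat.prime_three.dvd_of_dvd_pow (hk ▸ e)) (by norm_num)

theorem two_of_dvd {Y : Subgroup G} (h : Nat.card Y ∣ 2304) (h3 : ¬ 3 ∣ Nat.card Y) : IsPGroup 2 Y := by
  have h1 : Nat.card Y ∣ 2 ^ 8 := (Nat.Coprime.pow_right 2
    ((Nat.Prime.coprime_iff_not_dvd Nat.prime_three).2 h3).symm).dvd_of_dvd_mul_right h
  obtain ⟨k, -, hk⟩ := (Nat.dvd_prime_pow Nat.prime_two).1 h1
  exact IsPGroup.of_card hk

omit [Finite G] in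
theorem cm (g a b : G) : g * (a * b) * g⁻¹ = g * a * g⁻¹ * (g * b * g⁻¹) := by group

omit [Finite G] in
theorem ci {g a b : G} (h : g * a * g⁻¹ = g * b * g⁻¹) : a = b := by simpa using h

omit [Finite G] in
theorem pow_mul_mem {U : Subgroup G} {a u : G} (ha : a ∈ normalizer (U : Set G)) (hu : u ∈ U) (n : ℕ) :
    (a ^ n)⁻¹ * (a * u) ^ n ∈ U := by
  induction n with
  | zero => simp
  | succ n ih =>
    rw [show (a ^ (n + 1))⁻¹ * (a * u) ^ (n + 1) = a⁻¹ * ((a ^ n)⁻¹ * (a * u) ^ n) * a⁻¹⁻¹ * u by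
      rw [pow_succ (a * u), pow_succ' a]; group]
    exact mul_mem ((mem_normalizer_iff.1 (inv_mem ha) _).1 ih) hu

omit [Finite G] in
/-- A 2-element of `⟨a⟩ U` lies in the 2-group `U`. -/
theorem mem_of_two {U F : Subgroup G} {a u : G} (hU : IsPGroup 2 U) (hF : IsPGroup 2 F)
    (ha : a ∈ normalizer (U : Set G)) (a3 : a ^ 3 = 1) (hu : u ∈ U) (h : a * u ∈ F) : a = 1 := by
  obtain ⟨n, e⟩ := hF ⟨_, h⟩
  have h1 := pow_mul_mem ha hu (2 ^ n)
  rw [show (a * u) ^ 2 ^ n = 1 from congrArg Subtype.val e, mul_one, inv_mem_iff] at h1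
  obtain ⟨m, e1⟩ := hU ⟨_, h1⟩
  have e1 : (a ^ 2 ^ n) ^ 2 ^ m = 1 := congrArg Subtype.val e1
  rw [← pow_mul, ← pow_add] at e1
  exact (pow_eq_one_iff_of_coprime (Nat.Coprime.pow_right _ (by norm_num : Nat.Coprime 3 2))).1 ⟨a3, e1⟩

/-- The elements of a four-group. -/
theorem four_cases {D : Subgroup G} (h4 : Nat.card D = 4) (h2 : ∀ d ∈ D, d * d = 1) {d e : G} (hd : d ∈ D) (he : e ∈ D)
    (d1 : d ≠ 1) (e1 : e ≠ 1) (de : e ≠ d) {c : G} (hc : c ∈ D) : c = 1 ∨ c = d ∨ c = e ∨ c = d * e := by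
  have := Fact.mk Nat.prime_two
  have od := Inv.SE.inv_of_mul_self (h2 d hd) d1
  have h6 : e ∉ zpowers d := fun h => ((Even.mem_zpowers_two od).1 h).elim e1 de
  have hn : e ∈ normalizer (zpowers d : Set G) :=
    centralizer_le_normalizer _ fun a ha => comm_of_sq h2 (zpowers_le.2 hd ha) he
  have h7 : zpowers d ⊔ zpowers e = D := eq_of_le_of_card_ge (sup_le (zpowers_le.2 hd) (zpowers_le.2 he)) (by
    rw [Fus.card_sup_zpowers_of_normalizer (p := 2) hn h6 (by rw [sq, h2 e he]; exact one_mem _), Nat.card_zpowers,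
      od, h4])
  rw [← h7, ← SetLike.mem_coe, coe_mul_of_right_le_normalizer_left _ _ (zpowers_le.2 hn)] at hc
  obtain ⟨u, hu, v, hv, rfl⟩ := hc
  rcases (Even.mem_zpowers_two od).1 hu with rfl | rfl <;>
    rcases (Even.mem_zpowers_two (Inv.SE.inv_of_mul_self (h2 e he) e1)).1 hv with rfl | rfl <;> simp

theorem Tor.lines (t : Tor x y) {a : G} (ha : a ∈ AA x y) (a1 : a ≠ 1) : zpowers a = zpowers x ∨ zpowers a = zpowers y ∨
    zpowers a = zpowers (y * x) ∨ zpowers a = zpowers (y * x⁻¹) := by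
  have hi : ∀ {b : G}, b ^ 3 = 1 → b ^ 2 = b⁻¹ := fun e => eq_inv_of_mul_eq_one_left (by rw [← pow_succ, e])
  obtain ⟨i, hi', j, hj, rfl⟩ := t.mem.1 ha
  interval_cases i <;> interval_cases j <;>
    simp only [pow_zero, pow_one, one_mul, mul_one, hi t.x3, hi t.y3, zpowers_inv, true_or, or_true, t.comm.eq,
      t.comm.inv_left.eq] at a1 ⊢
  · exact absurd rfl a1
  · rw [← zpowers_inv, mul_inv_rev, inv_inv]; simp
  · rw [← mul_inv_rev, zpowers_inv]; simp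

theorem Tor.cube (t : Tor x y) {W : Subgroup G} (hW : IsPGroup 2 W) (hn : AA x y ≤ normalizer (W : Set G))
    (h0 : W ⊓ C1 x = ⊥) : Nat.card W = Nat.card ↥(W ⊓ C1 y) * Nat.card ↥(W ⊓ C1 (y * x)) *
      Nat.card ↥(W ⊓ C1 (y * x⁻¹)) := by
  classical
  have := Fact.mk Nat.prime_three
  have := Fintype.ofFinite (AA x y)
  have hi : ∀ {b : G}, b ^ 3 = 1 → b ^ 2 = b⁻¹ := fun e => eq_inv_of_mul_eq_one_left (by rw [← pow_succ, e])
  have h1 := Loc.card_cent_prod (p := 3) t.ea hn (not_three hW)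
  let f : Fin 3 × Fin 3 → AA x y := fun p => ⟨x ^ (p.1 : ℕ) * y ^ (p.2 : ℕ),
    mul_mem (pow_mem (x_mem x y) _) (pow_mem (y_mem x y) _)⟩
  have hf : Function.Bijective f := (Nat.bijective_iff_surjective_and_card f).2 ⟨fun a => by
    obtain ⟨i, hi, j, hj, e⟩ := t.mem.1 a.2
    exact ⟨(⟨i, hi⟩, ⟨j, hj⟩), Subtype.ext e.symm⟩, by rw [t.card]; simp⟩
  have c : ∀ a : G, centralizer {a⁻¹} = C1 a := fun a => by rw [← cent_zp, ← zpowers_inv, cent_zp]
  have h2 : W ⊓ centralizer (AA x y : Set G) = ⊥ :=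
    le_bot_iff.1 (h0 ▸ inf_le_inf_left _ fun u hu => mem_c.2 (hu x (x_mem x y)).symm)
  rw [← hf.prod_comp, Fintype.prod_prod_type, h2, t.card] at h1
  simp only [Fin.prod_univ_three, f, Fin.val_zero, Fin.val_one, Fin.val_two, pow_zero, pow_one, one_mul, mul_one,
    hi t.x3, hi t.y3, c, card_bot, one_pow, t.comm.eq, t.comm.inv_left.eq] at h1
  rw [show x * y⁻¹ = (y * x⁻¹)⁻¹ by simp, show x⁻¹ * y⁻¹ = (y * x)⁻¹ by simp, c, c,
    show W ⊓ centralizer {x} = ⊥ from h0, card_bot, show W ⊓ centralizer {(1 : G)} = W from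
      inf_eq_left.2 fun u _ => mem_c.2 (by simp)] at h1
  have h8 : 0 < Nat.card W := Nat.card_pos
  refine (Nat.pow_left_inj (n := 6) (by norm_num)).1 (Nat.eq_of_mul_eq_mul_left (pow_pos h8 3) ?_)
  rw [← pow_add, ← h1]; ring

namespace Al

variable (h : Al zf)
include h

theorem zf_conj (g : G) {a : G} (ha : orderOf a = 3) : zf (g * a * g⁻¹) = g * zf a * g⁻¹ := by
  obtain ⟨σ, c⟩ := h.cov a ha
  obtain ⟨σ', c'⟩ := h.cov (g * a * g⁻¹) (by rw [orderOf_conj', ha])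
  exact c'.uniq (c.conj g)

theorem zf_congr {a b : G} (ha : orderOf a = 3) (e : zpowers a = zpowers b) : zf a = zf b := by
  have key : ∀ {a b : G}, orderOf a = 3 → orderOf b = 3 → C1 a = C1 b → zf b = 1 ∨ zf b = zf a := fun ha hb e => by
    obtain ⟨σ, c⟩ := h.cov _ ha
    obtain ⟨σ', c'⟩ := h.cov _ hb
    exact c.mem_zp.1 (c.ker_two ((c.ker_iff ⟨_, e.ge c'.zx⟩).2 ⟨e.ge c'.zx, fun u hu => mem_c.1 (c'.zc (e.le hu))⟩)
      (F := zpowers _) (fun ⟨_, hb⟩ => ⟨1, Subtype.ext (c'.b2 hb)⟩) (mem_zpowers _))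
  have hb : orderOf b = 3 := by rw [← Nat.card_zpowers, ← e, Nat.card_zpowers, ha]
  have e1 : C1 a = C1 b := by rw [← cent_zp, e, cent_zp]
  rcases key ha hb e1 with e2 | e2
  · exact (key hb ha e1.symm).elim (fun e3 => e3.trans e2.symm) id
  · exact e2.symm

theorem zf_comm {a g : G} (ha : orderOf a = 3) (hg : g ∈ N1 a) : g * zf a = zf a * g := by
  rw [← mul_inv_eq_iff_eq_mul, ← h.zf_conj g ha]
  refine (h.zf_congr ha ?_).symm
  rw [← Fus.map_conj_eq_of_mem_normalizer hg, MonoidHom.map_zpowers]; rfl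

omit [Finite G] in
theorem zf_sq {a : G} (ha : orderOf a = 3) : zf a * zf a = 1 := by
  obtain ⟨σ, c⟩ := h.cov a ha
  rw [← sq, c.z2]

theorem zf_ne (hd : Dist zf) (t : Tor x y) {a : G} (ha : orderOf a = 3) : zf a ≠ 1 := fun e => by
  have key : ∀ b, orderOf b = 3 → zf b = 1 := fun b hb => by
    obtain ⟨g, rfl⟩ := isConj_iff.1 (h.cls a b ha hb)
    rw [h.zf_conj g ha, e, mul_one, mul_inv_cancel]
  exact hd x y t ((key x t.ox).trans (key y t.oy).symm)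

theorem zf_not (hd : Dist zf) (t : Tor x y) : zf y ∉ zpowers (zf x) := fun e => by
  obtain ⟨σ, c⟩ := h.cov x t.ox
  exact (c.mem_zp.1 e).elim (h.zf_ne hd t t.oy) fun e => hd x y t e.symm

omit [Finite G] in
theorem D2 (t : Tor x y) : ∀ d ∈ DD (AA x y), d * d = 1 := (h.kf x y t).D2

theorem move (t : Tor x y) {c : G} (hc : c ∈ AA x y) (cx : c ∉ zpowers x) :
    ∃ k ∈ C1 x, k ∈ normalizer (AA x y : Set G) ∧ k * y * k⁻¹ = c := by
  obtain ⟨σ, s⟩ := h.cov x t.ox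
  obtain ⟨k, hk, e⟩ := s.conj3 t.yK (t.le_K (x_mem x y) hc) t.y3 (t.a3 hc) t.yx cx
  exact ⟨k, hk, t.norm (by rw [mem_c.1 hk, mul_inv_cancel_right]; exact x_mem x y) (e ▸ hc), e⟩

section
variable (t : Tor x y) {a : G} (ha : a ∈ AA x y) (a1 : a ≠ 1)
include t ha a1

theorem z_mem : zf a ∈ DD (AA x y) := by
  obtain ⟨σ, c⟩ := h.cov a (t.oa ha a1)
  exact mem_Om (fun b hb => mem_c.1 (c.zc (t.le_K ha hb))) (h.zf_sq c.ox)

theorem U2 : ∀ u ∈ UU a (AA x y), u * u = 1 := by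
  obtain ⟨b, s, e⟩ := t.exists_tor ha a1
  exact e ▸ (h.kf a b s).U2

theorem card_UU : Nat.card (UU a (AA x y)) = 4 * Nat.card (DD (AA x y)) := by
  obtain ⟨b, s, e⟩ := t.exists_tor ha a1
  rw [← e, (h.kf a b s).cU, (h.kf a b s).cD]; ring

theorem CD : ∀ c ∈ C1 a ⊓ centralizer (DD (AA x y) : Set G), ∃ b ∈ AA x y, ∃ u ∈ UU a (AA x y), c = b * u := by
  obtain ⟨b, s, e⟩ := t.exists_tor ha a1
  exact e ▸ (h.kf a b s).CD

theorem c2 {d : G} (hd : d ∈ DD (AA x y)) (hz : d ∉ zpowers (zf a)) : Nat.card ↥(C1 a ⊓ C1 d) ∣ 2304 := by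
  obtain ⟨b, s, e⟩ := t.exists_tor ha a1
  exact (h.kf a b s).c2 d (e ▸ hd) hz

omit a1 in
theorem DD_le_UU : DD (AA x y) ≤ UU a (AA x y) := fun d hd =>
  mem_Om ⟨mem_c.2 (DD_le _ hd a ha).symm, fun _ he => comm_of_sq (h.D2 t) he hd⟩ (h.D2 t d hd)

theorem UU_inf {b : G} (hb : b ∈ AA x y) (ba : b ∉ zpowers a) : UU a (AA x y) ⊓ C1 b = DD (AA x y) := by
  refine le_antisymm (fun u hu => mem_Om ?_ (h.U2 t ha a1 u hu.1))
    (le_inf (h.DD_le_UU t ha) fun d hd => mem_c.2 (DD_le _ hd b hb).symm)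
  rw [← (t.of_mem ha a1 hb ba).2]
  exact fun c hc => mem_c.1 (AA_le (N := C1 u) (mem_c.2 (mem_c.1 (UU_le _ _ hu.1)).symm) (mem_c.2 (mem_c.1 hu.2).symm) hc)

omit h a1 in
theorem A_norm_UU : AA x y ≤ normalizer (UU a (AA x y) : Set G) := fun _ hb =>
  norm_UU (le_normalizer hb) (C1_le a (t.le_K ha hb))

theorem two_le_UU {F : Subgroup G} (hF : IsPGroup 2 F) :
    F ⊓ centralizer (DD (AA x y) : Set G) ⊓ C1 a ≤ UU a (AA x y) := fun c hc => by
  obtain ⟨b, hb, u, hu, rfl⟩ := h.CD t ha a1 c ⟨hc.2, hc.1.2⟩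
  rwa [mem_of_two (isPGroup_of_sq (h.U2 t ha a1)) hF (A_norm_UU t ha hb) (t.a3 hb) hu hc.1.1, one_mul]

omit h a1 in
theorem BB_le : BB a (AA x y) ≤ UU a (AA x y) := le_normalizer_iff_commutator_le_left.1 (A_norm_UU t ha)

theorem UU_cent : UU a (AA x y) ⊓ centralizer (AA x y : Set G) = DD (AA x y) :=
  le_antisymm (fun u hu => mem_Om hu.2 (h.U2 t ha a1 u hu.1)) (le_inf (h.DD_le_UU t ha) (DD_le _))

theorem cop : (Nat.card (AA x y)).Coprime (Nat.card (UU a (AA x y))) := by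
  rw [t.card]
  exact Nat.Coprime.pow_left 2 ((Nat.Prime.coprime_iff_not_dvd Nat.prime_three).2
    (not_three (isPGroup_of_sq (h.U2 t ha a1))))

theorem BB_inf : BB a (AA x y) ⊓ DD (AA x y) = ⊥ := by
  have : IsMulCommutative (UU a (AA x y)) := ⟨⟨fun u v => Subtype.ext (comm_of_sq (h.U2 t ha a1) u.2 v.2)⟩⟩
  rw [inf_comm, ← h.UU_cent t ha a1]
  exact Grp.inf_centralizer_inf_commutator_eq_bot (A_norm_UU t ha) (h.cop t ha a1)

theorem DD_sup_BB : DD (AA x y) ⊔ BB a (AA x y) = UU a (AA x y) := by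
  have := Fact.mk Nat.prime_three
  rw [sup_comm, ← h.UU_cent t ha a1]
  exact Grp.commutator_sup_centralizer_eq (A_norm_UU t ha) (h.cop t ha a1) (Or.inl (Loc.ea_isSolvable t.ea))

theorem card_BB : Nat.card (BB a (AA x y)) = 4 := by
  have h1 := Grp.card_sup_of_inf_eq_bot (H := DD (AA x y)) (K := BB a (AA x y))
    (fun d hd => centralizer_le_normalizer _ fun u hu => (UU_le' _ _ (BB_le t ha hu) d hd).symm)
    (by rw [inf_comm, h.BB_inf t ha a1])
  rw [h.DD_sup_BB t ha a1, h.card_UU t ha a1, mul_comm] at h1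
  exact (Nat.eq_of_mul_eq_mul_left Nat.card_pos h1).symm

theorem BB0 {b : G} (hb : b ∈ AA x y) (ba : b ∉ zpowers a) : BB a (AA x y) ⊓ C1 b = ⊥ :=
  le_bot_iff.1 (h.BB_inf t ha a1 ▸ le_inf inf_le_left
    (h.UU_inf t ha a1 hb ba ▸ inf_le_inf_right _ (BB_le t ha)))

omit h a1 in
theorem A_norm_BB : AA x y ≤ normalizer (BB a (AA x y) : Set G) := fun b hb => mem_normalizer_fintype fun u hu => by
  have := BB_conj (le_normalizer hb) a u hu
  rwa [mem_c.1 (t.le_K ha hb), mul_inv_cancel_right] at this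

theorem BB_irr {X : Subgroup G} (hX : AA x y ≤ normalizer (X : Set G)) (h0 : BB a (AA x y) ⊓ X ≠ ⊥) :
    BB a (AA x y) ≤ X := by
  obtain ⟨b, s, e⟩ := t.exists_tor ha a1
  have hb : b ∈ AA x y := e ▸ y_mem a b
  exact le_of_four (h.card_BB t ha a1) s.y3 (h.BB0 t ha a1 hb s.yx)
    (fun u => (mem_normalizer_iff.1 (A_norm_BB t ha hb) u).1) (fun u => (mem_normalizer_iff.1 (hX hb) u).1) h0

theorem cent_of_norm {g : G} (h1 : g ∈ C1 a) (h2 : g ∈ centralizer (DD (AA x y) : Set G))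
    (h3 : g ∈ normalizer (AA x y : Set G)) : g ∈ centralizer (AA x y : Set G) := by
  obtain ⟨b, hb, u, hu, rfl⟩ := h.CD t ha a1 g ⟨h1, h2⟩
  refine mul_mem (t.le_cent hb) fun c hc => commutatorElement_eq_one_iff_mul_comm.1 ?_
  have h4 : u ∈ normalizer (AA x y : Set G) := (mul_mem_cancel_left (le_normalizer hb)).1 h3
  have h5 : ⁅c, u⁆ ∈ AA x y := by
    rw [commutatorElement_def, mul_assoc, mul_assoc, ← mul_assoc u]
    exact mul_mem hc ((mem_normalizer_iff.1 h4 _).1 (inv_mem hc))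
  have h6 : ⁅c, u⁆ ∈ UU a (AA x y) :=
    mul_mem ((mem_normalizer_iff.1 (A_norm_UU t ha hc) _).1 hu) (inv_mem hu)
  exact (pow_eq_one_iff_of_coprime (by norm_num : Nat.Coprime 3 2)).1 ⟨t.a3 h5, by rw [sq]; exact h.U2 t ha a1 _ h6⟩

end

/-- A criterion for `A` to be a Sylow 3-subgroup. -/
theorem sylA (t : Tor x y) {T : Subgroup G} (hA : AA x y ≤ T)
    (hT : ∀ a ∈ AA x y, a ≠ 1 → ¬ 27 ∣ Nat.card ↥(C1 a ⊓ T)) : Fus.SylIn 3 (AA x y) T := by
  have := Fact.mk Nat.prime_three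
  refine ⟨hA, t.isP, fun S hS h1 h2 => ?_⟩
  obtain ⟨⟨c, hc⟩, c1⟩ := ne_bot_iff_exists_ne_one.1 (Grp.inf_centralizer_ne_bot_of_isPGroup (Q := S) (K := S) hS
    le_normalizer ((show 3 ∣ 9 by norm_num).trans (t.card ▸ card_dvd_of_le h1)))
  obtain ⟨a, ha, d, hd, rfl⟩ := (h.kf x y t).CA c fun b hb => hc.2 b (h1 hb)
  have h3 : d = 1 := by
    obtain ⟨n, e⟩ := hS ⟨d, (mul_mem_cancel_left (h1 ha)).1 hc.1⟩
    exact (pow_eq_one_iff_of_coprime (Nat.Coprime.pow_left n (by norm_num : Nat.Coprime 3 2))).1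
      ⟨congrArg Subtype.val e, by rw [sq]; exact h.D2 t d hd⟩
  subst h3
  rw [mul_one] at hc
  have h4 := card_dvd_of_le (le_inf (fun s hs => mem_c.2 (hc.2 s hs)) h2 : S ≤ C1 a ⊓ T)
  obtain ⟨k, hk⟩ := hS.exists_card_eq
  refine (eq_of_le_of_card_ge h1 ?_).ge
  rw [t.card, hk]
  exact Nat.pow_le_pow_right (n := 3) (i := k) (j := 2) (by norm_num) (not_lt.1 fun e => hT a ha
    (fun e => c1 (Subtype.ext (by simpa using e))) ((pow_dvd_pow 3 (show 3 ≤ k from e)).trans (hk ▸ h4)))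

theorem sylD (t : Tor x y) : Fus.SylIn 3 (AA x y) (centralizer (DD (AA x y) : Set G)) := by
  refine h.sylA t (le_centralizer_iff.1 (DD_le _)) fun a ha a1 e => ?_
  have h1 : C1 a ⊓ centralizer (DD (AA x y) : Set G) ≤ AA x y ⊔ UU a (AA x y) := fun c hc => by
    obtain ⟨b, hb, u, hu, rfl⟩ := h.CD t ha a1 c hc
    exact mul_mem_sup hb hu
  have h2 := (e.trans (card_dvd_of_le h1)).trans (Grp.card_sup_dvd (A_norm_UU t ha))
  rw [t.card] at h2
  exact not_three (isPGroup_of_sq (h.U2 t ha a1)) (Nat.dvd_of_mul_dvd_mul_left (by norm_num : 0 < 9) h2)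

theorem syld (t : Tor x y) {d : G} (hd : d ∈ DD (AA x y)) (hz : ∀ a ∈ AA x y, a ≠ 1 → d ∉ zpowers (zf a)) :
    Fus.SylIn 3 (AA x y) (C1 d) :=
  h.sylA t (fun b hb => mem_c.2 (DD_le _ hd b hb)) fun a ha a1 e =>
    absurd (e.trans (h.c2 t ha a1 hd (hz a ha a1))) (by norm_num)

/-- An element of `C(x)` moving `y` to `x y` acts without fixed points on `D`. -/
theorem cyc (t : Tor x y) (hz : zf x = 1) {r : G} (r1 : r ∈ C1 x) (r2 : r * y * r⁻¹ = x * y) :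
    ∀ d ∈ DD (AA x y), r * (r * d * r⁻¹) * r⁻¹ = d * (r * d * r⁻¹) ∧ (r * d * r⁻¹ = d → d = 1) := by
  have rx : r * x * r⁻¹ = x := by rw [mem_c.1 r1, mul_inv_cancel_right]
  have rA := t.norm (g := r) (by rw [rx]; exact x_mem x y) (by rw [r2]; exact mul_mem (x_mem x y) (y_mem x y))
  have rD := fun d => (mem_normalizer_iff.1 (norm_DD _ rA) d).1
  have r3 : ∀ d ∈ DD (AA x y), r * (r * (r * d * r⁻¹) * r⁻¹) * r⁻¹ = d := fun d hd => by
    have h1 : r ^ 3 * y * (r ^ 3)⁻¹ = y := by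
      rw [show r ^ 3 * y * (r ^ 3)⁻¹ = r * (r * (r * y * r⁻¹) * r⁻¹) * r⁻¹ by simp [pow_three, mul_assoc], r2,
        cm r x y, rx, r2, cm r x (x * y), cm r x y, rx, r2, ← mul_assoc, ← mul_assoc, ← pow_three', t.x3, one_mul]
    obtain ⟨a, ha, e, he, h2⟩ := (h.kf x y t).CA (r ^ 3) fun c hc => mem_c.1 (AA_le (N := C1 (r ^ 3))
      (mem_c.2 (mem_c.1 (pow_mem r1 3)).symm) (mem_c.2 (mul_inv_eq_iff_eq_mul.1 h1).symm) hc)
    rw [show r * (r * (r * d * r⁻¹) * r⁻¹) * r⁻¹ = r ^ 3 * d * (r ^ 3)⁻¹ by simp [pow_three, mul_assoc], h2,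
      mul_assoc a, comm_of_sq (h.D2 t) he hd, ← mul_assoc, DD_le _ hd a ha, mul_assoc d, mul_inv_cancel_right]
  have h4 : Nat.card (DD (AA x y)) = 4 := by rw [(h.kf x y t).cD, hz, orderOf_one]
  have h0 : ∀ d ∈ DD (AA x y), r * d * r⁻¹ = d → d = 1 := fun d hd e => by
    by_contra d1
    have h5 : r ∉ centralizer (DD (AA x y) : Set G) := fun h5 => t.x1 (by
      have := h.cent_of_norm t (x_mem x y) t.x1 r1 h5 rA y (y_mem x y)
      rw [← this, mul_inv_cancel_right] at r2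
      simpa using r2)
    refine h5 fun c hc => (mul_inv_eq_iff_eq_mul.1 ?_).symm
    by_contra h6
    have c1 : c ≠ 1 := fun e => h6 (by simp [e])
    have cd : c ≠ d := fun e1 => h6 (e1 ▸ e)
    rcases four_cases h4 (h.D2 t) hd hc d1 c1 cd (rD c hc) with e1 | e1 | e1 | e1
    · exact c1 (conj_eq_one_iff.1 e1)
    · exact cd (ci (e1.trans e.symm))
    · exact h6 e1
    · have h9 := r3 c hc
      rw [e1, cm r d c, e, e1, ← mul_assoc d, h.D2 t d hd, one_mul] at h9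
      exact h6 h9
  refine fun d hd => ⟨?_, h0 d hd⟩
  have h1 := h0 (d * (r * d * r⁻¹) * (r * (r * d * r⁻¹) * r⁻¹)) (mul_mem (mul_mem hd (rD d hd)) (rD _ (rD d hd))) (by
    rw [cm r (d * _), cm r d, r3 d hd, comm_of_sq (h.D2 t) (mul_mem (rD d hd) (rD _ (rD d hd))) hd, mul_assoc d])
  rw [← inv_eq_of_mul_eq_one_right h1, inv_eq_of_mul_eq_one_right (h.D2 t _ (mul_mem hd (rD d hd)))]

theorem exists_q (t : Tor x y) (hz : zf x = 1) : ∃ q ∈ centralizer (DD (AA x y) : Set G),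
    q * x * q⁻¹ = x⁻¹ * y ∧ q * y * q⁻¹ = x * y := by
  have hm := mul_mem (x_mem x y) (y_mem x y)
  obtain ⟨r, r1, rA, r2⟩ := h.move t hm fun e => t.yx ((mul_mem_cancel_left (mem_zpowers x)).1 e)
  obtain ⟨s, s1, sA, s2⟩ := h.move t.symm (mul_mem (x_mem y x) (y_mem y x))
    fun e => t.symm.yx ((mul_mem_cancel_left (mem_zpowers y)).1 e)
  have hy : zf y = 1 := by
    obtain ⟨g, rfl⟩ := isConj_iff.1 (h.cls x y t.ox t.oy)
    rw [h.zf_conj g t.ox, hz, mul_one, mul_inv_cancel]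
  have cr := h.cyc t hz r1 r2
  have cs := h.cyc t.symm hy s1 s2
  rw [← AA_comm] at cs sA
  have h4 : Nat.card (DD (AA x y)) = 4 := by rw [(h.kf x y t).cD, hz, orderOf_one]
  obtain ⟨⟨d, hd⟩, d1⟩ := ne_bot_iff_exists_ne_one.1 (show DD (AA x y) ≠ ⊥ from fun e => by simp [e] at h4)
  have d1 : d ≠ 1 := fun e => d1 (Subtype.ext e)
  have he := (mem_normalizer_iff.1 (norm_DD _ sA) d).1 hd
  have fc := @four_cases _ _ _ _ h4 (h.D2 t) _ _ hd he d1 (fun e => d1 (conj_eq_one_iff.1 e)) fun e => d1 ((cs d hd).2 e)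
  have cen : ∀ g : G, g * d * g⁻¹ = d → g * (s * d * s⁻¹) * g⁻¹ = s * d * s⁻¹ → g ∈ centralizer (DD (AA x y) : Set G) :=
    fun g e1 e2 c hc => (mul_inv_eq_iff_eq_mul.1 (by
      rcases fc hc with rfl | rfl | rfl | rfl
      · simp
      · exact e1
      · exact e2
      · rw [cm g, e1, e2])).symm
  have rx : r * x * r⁻¹ = x := by rw [mem_c.1 r1, mul_inv_cancel_right]
  have sy : s * y * s⁻¹ = y := by rw [mem_c.1 s1, mul_inv_cancel_right]
  have xx : x * x = x⁻¹ := eq_inv_of_mul_eq_one_left (by rw [← pow_three', t.x3])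
  have cj : ∀ a b c : G, a * b * c * (a * b)⁻¹ = a * (b * c * b⁻¹) * a⁻¹ := fun a b c => by group
  rcases fc ((mem_normalizer_iff.1 (norm_DD _ rA) d).1 hd) with e | e | e | e
  · exact absurd (conj_eq_one_iff.1 e) d1
  · exact absurd ((cr d hd).2 e) d1
  · exfalso
    have e2 : r * (s * d * s⁻¹) * r⁻¹ = s * (s * d * s⁻¹) * s⁻¹ := by rw [(cs d hd).1, ← e, (cr d hd).1]
    have g1 := cen (s⁻¹ * r) (by rw [cj, e]; group) (by rw [cj, e2]; group)
    have sx : s⁻¹ * x * s⁻¹⁻¹ = y⁻¹ * x := by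
      rw [eq_inv_mul_iff_mul_eq]
      exact ci (g := s) (by rw [cm s y, sy, s2, show s * (s⁻¹ * x * s⁻¹⁻¹) * s⁻¹ = x by group])
    have sy' : s⁻¹ * y * s⁻¹⁻¹ = y := ci (g := s) (by rw [sy]; group)
    have gx : s⁻¹ * r * x * (s⁻¹ * r)⁻¹ = y⁻¹ * x := by rw [cj, rx, sx]
    have gy : s⁻¹ * r * y * (s⁻¹ * r)⁻¹ = x := by
      rw [cj, r2, cm s⁻¹, sx, sy', mul_assoc, t.comm.eq, inv_mul_cancel_left]
    have gA := mul_mem (inv_mem sA) rA
    generalize s⁻¹ * r = g at *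
    have g2y : g * g * y * (g * g)⁻¹ = y⁻¹ * x := by rw [cj, gy, gx]
    have g2x : g * g * x * (g * g)⁻¹ = x⁻¹ * (y⁻¹ * x) := by rw [cj, gx, cm g, ← conj_inv, gy, gx]
    have h5 := h.cent_of_norm t hm (fun e => t.yx (eq_inv_of_mul_eq_one_right e ▸ inv_mem (mem_zpowers x)))
      (g := g * g) (mem_c.2 (mul_inv_eq_iff_eq_mul.1 (by
        rw [cm (g * g), g2x, g2y, ← t.comm.inv_right.eq, inv_mul_cancel_left, t.comm.inv_right.eq, ← mul_assoc,
          show y⁻¹ * y⁻¹ = y from by rw [← mul_inv_rev, inv_eq_iff_mul_eq_one, ← pow_three', t.y3], t.comm.eq])))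
      (mul_mem g1 g1) (mul_mem gA gA) x (x_mem x y)
    rw [← h5, mul_inv_cancel_right, ← t.comm.inv_right.eq, inv_mul_cancel_left] at g2x
    exact t.yx (inv_mem_iff.1 (g2x ▸ mem_zpowers x))
  · have e2 : r * (d * (s * d * s⁻¹)) * r⁻¹ = s * d * s⁻¹ := by
      rw [← e, (cr d hd).1, e, ← mul_assoc d, h.D2 t d hd, one_mul]
    have e3 : r * (s * d * s⁻¹) * r⁻¹ = d := by
      rw [cm r d, e, mul_assoc d] at e2
      rw [← mul_left_cancel_iff (a := s * d * s⁻¹), ← mul_left_cancel_iff (a := d), e2,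
        comm_of_sq (h.D2 t) he hd, ← mul_assoc d, h.D2 t d hd, one_mul]
    refine ⟨r * s, cen _ (by rw [cj, e3]) (by rw [cj, (cs d hd).1, e2]), ?_, by rw [cj, sy, r2]⟩
    rw [cj, s2, cm r, r2, rx, mul_assoc, ← t.comm.eq, ← mul_assoc, xx]

theorem two_of_not_mem (hd : Dist zf) (t : Tor x y) {Y : Subgroup G} (YH : Y ≤ C1 (zf x))
    (KY : C1 x ≤ normalizer (Y : Set G)) (hx : x ∉ Y) : IsPGroup 2 Y := by
  have := Fact.mk Nat.prime_three
  obtain ⟨σ, c⟩ := h.cov x t.ox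
  have h3 : ¬ 3 ∣ Nat.card Y := fun e => by
    obtain ⟨R, hR⟩ := Fus.exists_sylIn 3 (C1 x)
    have h1 := ((c.sylIn_top hR).mono (le_sup_left : R ≤ R ⊔ Y) le_top).inf_of_le le_sup_right
      (sup_le (hR.le.trans KY) le_normalizer)
    have h2 : 3 ∣ Nat.card ↥(R ⊓ Y) := h1.card_eq_pow ▸ dvd_pow_self 3
      (Nat.prime_three.factorization_pos_of_dvd Nat.card_pos.ne' e).ne'
    obtain ⟨⟨u, hu⟩, u1⟩ := ne_bot_iff_exists_ne_one.1 (Grp.inf_centralizer_ne_bot_of_isPGroup hR.isPGroup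
      (fun g hg => inf_normalizer_le_normalizer_inf ⟨le_normalizer hg, KY (hR.le hg)⟩) h2)
    exact hx (zpowers_le.2 hu.1.2 (Fus.mem_zpowers_symm_of_prime c.x3 ((c.syl hR).2.1.le ⟨hu.1.1, hu.2⟩)
      fun e => u1 (Subtype.ext e)))
  refine t.two ((t.le_K (x_mem x y)).trans KY) h3 fun a ha a1 => two_of_dvd ?_
    fun e => h3 (e.trans (card_dvd_of_le inf_le_left))
  by_cases ax : a ∈ zpowers x
  · rw [← cent_zp, Fus.zpowers_eq_of_mem_prime c.x3 ax a1, cent_zp]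
    have h1 := (c.normal_cases KY).resolve_right fun e => hx (e (mem_c.2 rfl))
    have h2 : Y ⊓ C1 x ≤ σ.ker.map (C1 x).subtype := fun u hu => ⟨⟨u, hu.2⟩, h1 _ hu.1, rfl⟩
    refine (card_dvd_of_le h2).trans ?_
    rw [card_map_of_injective (subtype_injective _), c.card_ker]
    rcases c.oz with e | e <;> simp [e]
  · have s := (t.of_mem (x_mem x y) t.x1 ha ax).1
    exact (card_dvd_of_le (le_inf inf_le_right (inf_le_left.trans YH))).trans
      (h.c2 t ha a1 (h.z_mem t (x_mem x y) t.x1) (h.zf_not hd s.symm))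

/-- The subgroups of `C(z)` normalised by `C(x)`. -/
theorem ns (hd : Dist zf) (t : Tor x y) {N : Subgroup G} (NH : N ≤ C1 (zf x)) (KN : C1 x ≤ normalizer (N : Set G)) :
    C1 x ≤ N ∨ ∃ F : Subgroup G, IsPGroup 2 F ∧ F ≤ N ∧ normalizer (N : Set G) ≤ normalizer (F : Set G) ∧
      N ≤ F ⊔ zpowers x := by
  have := Fact.mk Nat.prime_three
  obtain ⟨σ, c⟩ := h.cov x t.ox
  refine (c.normal_cases KN).symm.imp_right fun h1 => ?_
  by_cases hx : x ∈ N
  swap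
  · exact ⟨N, h.two_of_not_mem hd t NH KN hx, le_rfl, le_rfl, le_sup_left⟩
  obtain ⟨R, hR⟩ := Fus.exists_sylIn 3 (C1 x)
  have h2 := ((c.sylIn_top hR).mono (le_sup_left : R ≤ R ⊔ N) le_top).inf_of_le le_sup_right
    (sup_le (hR.le.trans KN) le_normalizer)
  have h3 : R ⊓ N = zpowers x := le_antisymm (fun u hu => by
    obtain ⟨n, e⟩ := hR.isPGroup ⟨u, hu.1⟩
    refine El.mem_of_pow (n := 4) (Nat.Coprime.coprime_dvd_left (orderOf_dvd_of_pow_eq_one (congrArg Subtype.val e))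
      (Nat.Coprime.pow_left n (by norm_num))) (c.ker_pow (k := ⟨u, hR.le hu.1⟩) (h1 _ hu.2)).2)
    (zpowers_le.2 ⟨((c.syl hR).2.1.ge (mem_zpowers x)).1, hx⟩)
  rw [h3] at h2
  have h4 : Grp.IsSylowIn 3 (zpowers x) N := ⟨h2.le, h2.isPGroup, h2.not_dvd_relIndex⟩
  suffices hb : ∀ g ∈ N, g ∈ normalizer (zpowers x : Set G) → g ∈ centralizer (zpowers x : Set G) by
    obtain ⟨F, f1, f2, f3⟩ := Cit.exists_compl_of_npc (Cit.npc_of_burnside h4 hb)
    have FN : F ≤ N := fun u hu => ((f1 u).1 hu).1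
    refine ⟨F, h.two_of_not_mem hd t (FN.trans NH) (KN.trans f2) fun e => ?_, FN, f2, fun u hu => ?_⟩
    · have := ((f1 x).1 e).2
      rw [t.ox] at this
      exact absurd this (by norm_num)
    · obtain ⟨k, hk, s, hs, rfl⟩ := f3 _ h4 u hu
      exact mul_mem_sup hk hs
  · intro g hg gn
    rw [cent_zp]
    have h5 : ∀ k ∈ C1 x, ∀ u ∈ C1 x, u * (g * k * g⁻¹ * k⁻¹) = g * k * g⁻¹ * k⁻¹ * u := fun k hk u hu =>
      c.central (k := ⟨_, mul_mem ((mem_normalizer_iff.1 (N1_C1 x gn) k).1 hk) (inv_mem hk)⟩) (h1 _ (by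
        show g * k * g⁻¹ * k⁻¹ ∈ N
        rw [mul_assoc, mul_assoc, ← mul_assoc k]
        exact mul_mem hg ((mem_normalizer_iff.1 (KN hk) _).1 (inv_mem hg)))) hu
    have h6 : ⁅C1 x, C1 x⁆ ≤ C1 g := commutator_le.2 fun a ha b hb => mem_c.2 (by
      have e3 : g * ⁅a, b⁆ * g⁻¹ = ⁅a, b⁆ := by
        rw [conjugate_commutatorElement, ← inv_mul_cancel_right (g * a * g⁻¹) a, ← inv_mul_cancel_right (g * b * g⁻¹) b]
        have hv := h5 b hb
        have hvK : g * b * g⁻¹ * b⁻¹ ∈ C1 x := mul_mem ((mem_normalizer_iff.1 (N1_C1 x gn) b).1 hb) (inv_mem hb)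
        have hu := h5 a ha
        generalize g * a * g⁻¹ * a⁻¹ = u at *
        generalize g * b * g⁻¹ * b⁻¹ = v at *
        calc _ = u * (a * (v * b) * a⁻¹) * u⁻¹ * b⁻¹ * v⁻¹ := by simp only [commutatorElement_def]; group
          _ = a * (v * b) * a⁻¹ * b⁻¹ * v⁻¹ := by
            rw [← hu _ (mul_mem (mul_mem ha (mul_mem hvK hb)) (inv_mem ha)), mul_inv_cancel_right]
          _ = v * ⁅a, b⁆ * v⁻¹ := by rw [← mul_assoc a, hv a ha]; simp only [commutatorElement_def]; group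
          _ = _ := by
            rw [← hv ⁅a, b⁆ (mul_mem (mul_mem (mul_mem ha hb) (inv_mem ha)) (inv_mem hb)), mul_inv_cancel_right]
      exact (mul_inv_eq_iff_eq_mul.1 e3).symm)
    exact mem_c.2 (mem_c.1 (h6 (c.perf (mem_c.2 rfl)))).symm

end Al

end CL.J4.Gu
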