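/-
Groups with an element of order three whose centraliser is `3.M22`: the hexad groups do not commute.
-/
import Cfsg.Agent.Spor.GuBas

set_option autoImplicit false
set_option linter.unusedSectionVars false

namespace CL.J4.Gu

open Cfsg CL.Spor CL.J4.Rec Subgroup
open scoped commutatorElement

variable {G : Type*} [Group G] [Finite G] {zf : G → G} {x y : G}

/-- The facts on the groups `BB`. -/
structure B1 (x y : G) (V : Subgroup G) : Prop extends Tor x y, VS (AA x y) V where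
  DU : ∀ a ∈ AA x y, a ≠ 1 → DD (AA x y) ≤ UU a (AA x y)
  le : ∀ a ∈ AA x y, a ≠ 1 → BB a (AA x y) ≤ UU a (AA x y)
  infD : ∀ a ∈ AA x y, a ≠ 1 → BB a (AA x y) ⊓ DD (AA x y) = ⊥
  cB : ∀ a ∈ AA x y, a ≠ 1 → Nat.card (BB a (AA x y)) = 4
  B0 : ∀ a ∈ AA x y, a ≠ 1 → ∀ b ∈ AA x y, b ∉ zpowers a → BB a (AA x y) ⊓ C1 b = ⊥
  irr : ∀ a ∈ AA x y, a ≠ 1 → ∀ X : Subgroup G, AA x y ≤ normalizer (X : Set G) → BB a (AA x y) ⊓ X ≠ ⊥ →
    BB a (AA x y) ≤ X

theorem b1_lines (t : Tor x y) {a : G} (ha : a ∈ AA x y) (a1 : a ≠ 1) : zpowers a = zpowers x ∨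
    zpowers a = zpowers y ∨ zpowers a = zpowers (x * y) ∨ zpowers a = zpowers (x⁻¹ * y) := by
  have h1 : x ^ 2 = x⁻¹ := by rw [eq_inv_iff_mul_eq_one, ← pow_succ, t.x3]
  have h2 : y ^ 2 = y⁻¹ := by rw [eq_inv_iff_mul_eq_one, ← pow_succ, t.y3]
  have h3 : x * y⁻¹ = (x⁻¹ * y)⁻¹ := by rw [mul_inv_rev, inv_inv, t.comm.inv_right.eq]
  have h4 : x⁻¹ * y⁻¹ = (x * y)⁻¹ := by rw [t.comm.eq, mul_inv_rev]
  obtain ⟨i, hi, j, hj, rfl⟩ := t.mem.1 ha
  interval_cases i <;> interval_cases j <;>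
    simp only [pow_zero, pow_one, one_mul, mul_one, h1, h2, h3, h4, zpowers_inv, true_or, or_true] at a1 ⊢
  exact absurd rfl a1

theorem b1_map {A : Subgroup G} {g a b : G} (hg : g ∈ normalizer (A : Set G))
    (h : zpowers (g * a * g⁻¹) = zpowers b) : (BB a A).map (MulAut.conj g).toMonoidHom = BB b A := by
  rw [← BB_congr h]
  refine le_antisymm (map_le_iff_le_comap.2 (BB_conj hg a)) fun u hu => ⟨g⁻¹ * u * g, ?_, by simp [mul_assoc]⟩
  simpa [mul_assoc] using BB_conj (inv_mem hg) _ u hu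

namespace B1

variable {V : Subgroup G} (h : B1 x y V) {a b d : G} {X T L : Subgroup G}
include h

theorem AV : AA x y ≤ normalizer (V : Set G) := le_normalizer.trans h.nA

theorem UV (ha : a ∈ AA x y) (a1 : a ≠ 1) : UU a (AA x y) ≤ V := h.inf a ha a1 ▸ inf_le_left

theorem BV (ha : a ∈ AA x y) (a1 : a ≠ 1) : BB a (AA x y) ≤ V := (h.le a ha a1).trans (h.UV ha a1)

theorem WV (ha : a ∈ AA x y) : ⁅V, zpowers a⁆ ≤ V :=
  le_normalizer_iff_commutator_le_left.1 (zpowers_le.2 (h.AV ha))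

theorem ne_bot (ha : a ∈ AA x y) (a1 : a ≠ 1) : BB a (AA x y) ≠ ⊥ := fun e => by
  have := h.cB a ha a1
  rw [e, card_bot] at this
  cases this

theorem AB (ha : a ∈ AA x y) : AA x y ≤ normalizer (BB a (AA x y) : Set G) := fun g hg =>
  Fus.mem_normalizer_of_map_conj_eq (b1_map (le_normalizer hg) (by
    rw [mem_c.1 (h.toTor.le_K ha hg), mul_inv_cancel_right]))

theorem BW (ha : a ∈ AA x y) (a1 : a ≠ 1) (hb : b ∈ AA x y) (ba : b ∉ zpowers a) : BB b (AA x y) ≤ ⁅V, zpowers a⁆ :=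
  h.WB a ha a1 b hb ba ▸ inf_le_left

theorem nW (h1 : L ≤ normalizer (V : Set G)) (h2 : L ≤ C1 a) : L ≤ normalizer ((⁅V, zpowers a⁆ : Subgroup G) : Set G) :=
  Grp.le_normalizer_commutator' h1 (h2.trans (C1_le a))

/-- The invariant subgroups of `[V, x]`. -/
theorem key (h1 : X ≤ ⁅V, zpowers x⁆) (h2 : AA x y ≤ normalizer (X : Set G))
    (k1 : BB y (AA x y) ≤ X → BB y (AA x y) ≤ T) (k2 : BB (x * y) (AA x y) ≤ X → BB (x * y) (AA x y) ≤ T)
    (k3 : BB (x⁻¹ * y) (AA x y) ≤ X → BB (x⁻¹ * y) (AA x y) ≤ T) : X ≤ T := by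
  have := Fact.mk Nat.prime_three
  refine h.toTor.gen2 h2 (isPGroup_of_sq fun u hu => h.V2 u (h.WV (x_mem x y) (h1 hu))) fun a ha a1 => ?_
  by_cases ax : a ∈ zpowers x
  · rw [← cent_zp, Fus.zpowers_eq_of_mem_prime h.toTor.x3 ax a1, cent_zp]
    exact ((inf_le_inf_right _ h1).trans (h.W0 x (x_mem x y) h.toTor.x1).le).trans bot_le
  have h3 : X ⊓ C1 a ≤ BB a (AA x y) := (inf_le_inf_right _ h1).trans (h.WB x (x_mem x y) h.toTor.x1 a ha ax).le
  by_cases h4 : BB a (AA x y) ⊓ X = ⊥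
  · exact (le_inf h3 inf_le_left).trans (h4.le.trans bot_le)
  have h5 := h.irr a ha a1 X h2 h4
  refine h3.trans ?_
  rcases b1_lines h.toTor ha a1 with e | e | e | e
  · exact absurd (e ▸ mem_zpowers a) ax
  all_goals rw [BB_congr e] at h5 ⊢
  exacts [k1 h5, k2 h5, k3 h5]

/-- No cycles. -/
theorem cyc (h1 : IsPGroup 2 L) (h2 : L ≤ normalizer (V : Set G)) (ha : a ∈ AA x y) (a1 : a ≠ 1) (hb : b ∈ AA x y)
    (b1 : b ≠ 1) (k1 : BB a (AA x y) ≤ ⁅BB b (AA x y), L⁆) (k2 : BB b (AA x y) ≤ ⁅BB a (AA x y), L⁆) : False := by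
  have := Fact.mk Nat.prime_two
  have h3 := Grp.eq_bot_of_le_commutator (N := BB a (AA x y) ⊔ BB b (AA x y))
    (h1.to_sup_of_normal_right' (isPGroup_of_sq h.V2) h2).isNilpotent
    ((sup_le (h.BV ha a1) (h.BV hb b1)).trans le_sup_right)
    (sup_le (k1.trans (commutator_mono le_sup_right le_sup_left)) (k2.trans (commutator_mono le_sup_left le_sup_left)))
  exact h.ne_bot ha a1 (le_bot_iff.1 (le_sup_left.trans h3.le))

theorem inf0 (ha : a ∈ AA x y) (a1 : a ≠ 1) (hd : d ∈ DD (AA x y)) :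
    BB a (AA x y) ⊓ (zpowers d ⊔ ⁅V, zpowers a⁆) = ⊥ := by
  have h1 : zpowers d ≤ UU a (AA x y) := zpowers_le.2 (h.DU a ha a1 hd)
  refine eq_bot_iff.2 fun u hu => ?_
  obtain ⟨e, he, w, hw, rfl⟩ := (Grp.mem_sup_of_le_normalizer
    (h.nW ((h1.trans (h.UV ha a1)).trans le_normalizer) (h1.trans (UU_le _ _)))).1 hu.2
  have h2 : w = 1 := (h.W0 a ha a1).le
    ⟨hw, (mul_mem_cancel_left (UU_le _ _ (h1 he))).1 (UU_le _ _ (h.le a ha a1 hu.1))⟩
  subst h2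
  exact (h.infD a ha a1).le ⟨hu.1, mul_mem (zpowers_le.2 hd he) (one_mem _)⟩

theorem mem_zp (ha : a ∈ AA x y) (a1 : a ≠ 1) (h1 : ⁅BB a (AA x y), L⁆ ≤ T) (h2 : BB a (AA x y) ⊓ T = ⊥)
    (hb : b ∈ AA x y) (hL : b ∈ L) : b ∈ zpowers a := by
  by_contra h3
  refine h.ne_bot ha a1 (eq_bot_iff.2 fun u hu => (h.B0 a ha a1 b hb h3).le ⟨hu, mem_c.2 ?_⟩)
  exact commutatorElement_eq_one_iff_mul_comm.1 (h2.le ⟨le_normalizer_iff_commutator_le_left.1 (h.AB ha)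
    (commutator_mem_commutator hu hb), h1 (commutator_mem_commutator hu hL)⟩)

theorem false {τ q : G} {O : Subgroup G} (hd : d ∈ DD (AA x y)) (τA : τ ∈ normalizer (AA x y : Set G))
    (τx : τ * x * τ⁻¹ = x) (τy : τ * y * τ⁻¹ = y⁻¹) (qd : q ∈ C1 d) (qx : q * x * q⁻¹ = x⁻¹ * y)
    (qy : q * y * q⁻¹ = x * y) (O2 : IsPGroup 2 O) (Ox : O ≤ C1 x) (Od : O ≤ C1 d) (AO : AA x y ≤ normalizer (O : Set G))
    (τO : τ ∈ normalizer (O : Set G)) (OV : O ≤ normalizer (V : Set G)) (OB : ⁅BB x (AA x y), O⁆ ≤ zpowers d)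
    (hW : ¬ ⁅V, zpowers x⁆ ≤ centralizer (O : Set G))
    (hT : ∀ L : Subgroup G, L ≤ C1 d → AA x y ≤ normalizer (L : Set G) → AA x y ⊓ L = ⊥ → IsPGroup 2 L) : False := by
  have := Fact.mk Nat.prime_three
  have t := h.toTor
  have hx := x_mem x y
  have hy := y_mem x y
  have hu : x * y ∈ AA x y := mul_mem hx hy
  have hv : x⁻¹ * y ∈ AA x y := mul_mem (inv_mem hx) hy
  have ux : x * y ∉ zpowers x := fun e => t.yx ((mul_mem_cancel_left (mem_zpowers x)).1 e)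
  have vx : x⁻¹ * y ∉ zpowers x := fun e => t.yx ((mul_mem_cancel_left (inv_mem (mem_zpowers x))).1 e)
  have u1 : x * y ≠ 1 := fun e => ux (e ▸ one_mem _)
  have v1 : x⁻¹ * y ≠ 1 := fun e => vx (e ▸ one_mem _)
  have qA : q ∈ normalizer (AA x y : Set G) := t.norm (qx ▸ hv) (qy ▸ hu)
  have τ1 := b1_map τA (a := y) (b := y) (by rw [τy, zpowers_inv])
  have τ2 := b1_map τA (a := x * y) (b := x⁻¹ * y) (by
    rw [← conj_mul, τx, τy, ← zpowers_inv, mul_inv_rev, inv_inv, t.comm.inv_left.eq])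
  have τ3 := b1_map τA (a := x⁻¹ * y) (b := x * y) (by
    rw [← conj_mul, ← conj_inv, τx, τy, ← mul_inv_rev, zpowers_inv, t.comm.eq])
  have τ4 := Fus.map_conj_eq_of_mem_normalizer τO
  have q1 := b1_map qA (a := x) (b := x⁻¹ * y) (by rw [qx])
  have q2 := b1_map qA (a := y) (b := x * y) (by rw [qy])
  have q3 := b1_map qA (a := x * y) (b := y) (by
    rw [← conj_mul, qx, qy, mul_assoc, ← mul_assoc y, ← t.comm.eq, mul_assoc, inv_mul_cancel_left, ← zpowers_inv,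
      inv_eq_of_mul_eq_one_right (show y * y * y = 1 by rw [← t.y3, pow_succ, pow_two])])
  have q4 := b1_map qA (a := x⁻¹ * y) (b := x) (by
    rw [← conj_mul, ← conj_inv, qx, qy, mul_inv_rev, inv_inv, mul_assoc, ← mul_assoc x, (t.comm.mul_left t.comm).eq,
      inv_mul_cancel_left, ← zpowers_inv,
      inv_eq_of_mul_eq_one_right (show x * x * x = 1 by rw [← t.x3, pow_succ, pow_two])])
  have q5 : (zpowers d).map (MulAut.conj q).toMonoidHom = zpowers d := Fus.map_conj_eq_of_mem_normalizer (C1_le d qd)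
  have nq : ∀ {Y : Subgroup G}, Y.map (MulAut.conj q).toMonoidHom = Y → O ≤ normalizer (Y : Set G) →
      O.map (MulAut.conj q).toMonoidHom ≤ normalizer (Y : Set G) := fun {Y} e k =>
    le_normalizer_iff_commutator_le_left.2 (by
      have := map_mono (f := (MulAut.conj q).toMonoidHom) (le_normalizer_iff_commutator_le_left.1 k)
      rwa [map_commutator, e] at this)
  have arr : ∀ {g : G} {B B' : Subgroup G}, B ≤ ⁅B', O⁆ → B.map (MulAut.conj g).toMonoidHom ≤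
      ⁅B'.map (MulAut.conj g).toMonoidHom, O.map (MulAut.conj g).toMonoidHom⁆ := fun k => by
    rw [← map_commutator]; exact map_mono k
  have ΛV := sup_le OV (nq (Fus.map_conj_eq_of_mem_normalizer (h.nA qA)) OV)
  have two : ∀ Y : Subgroup G, Y.map (MulAut.conj q).toMonoidHom = Y → O ≤ normalizer (Y : Set G) →
      ⁅BB x (AA x y), O⁆ ≤ Y → ⁅BB (x⁻¹ * y) (AA x y), O⁆ ≤ Y → Y ≤ zpowers d ⊔ ⁅V, zpowers x⁆ →
      IsPGroup 2 ↥(O ⊔ O.map (MulAut.conj q).toMonoidHom) := fun Y k1 k2 k3 k4 k5 => by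
    have k6 : BB x (AA x y) ⊓ Y = ⊥ := le_bot_iff.1 ((inf_le_inf_left _ k5).trans (h.inf0 hx t.x1 hd).le)
    have k7 := congrArg (map (MulAut.conj q).toMonoidHom) k6
    have k8 := map_mono (f := (MulAut.conj q).toMonoidHom) k3
    have k9 := map_mono (f := (MulAut.conj q).toMonoidHom) k4
    rw [map_inf _ _ _ (MulAut.conj q).injective, q1, k1, Subgroup.map_bot] at k7
    rw [map_commutator, q1, k1] at k8
    rw [map_commutator, q4, k1] at k9
    refine hT _ (sup_le Od ?_) (Grp.le_normalizer_sup' AO ?_) (eq_bot_iff.2 fun a ha => by_contra fun a1 => ?_)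
    · rintro _ ⟨o, ho, rfl⟩
      exact mul_mem (mul_mem qd (Od ho)) (inv_mem qd)
    · rw [← Fus.map_conj_eq_of_mem_normalizer qA]
      exact (map_mono AO).trans (le_normalizer_map _)
    · have l1 := h.mem_zp hx t.x1 (Even.commutator_sup_le k2 (nq k1 k2) k3 k9) k6 ha.1 ha.2
      have l2 := h.mem_zp hv v1 (Even.commutator_sup_le k2 (nq k1 k2) k4 k8) k7 ha.1 ha.2
      exact vx (zpowers_le.2 l1 (Fus.mem_zpowers_symm_of_prime (t.a3 hv) l2 a1))
  have OW := le_normalizer_iff_commutator_le_left.1 (h.nW OV Ox)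
  have key := fun {a : G} {T : Subgroup G} (ha : a ∈ AA x y) (ax : a ∉ zpowers x) => h.key (T := T)
    ((commutator_mono (h.BW hx t.x1 ha ax) le_rfl).trans OW) (Grp.le_normalizer_commutator' (h.AB ha) AO)
  have yy : ¬ BB y (AA x y) ≤ ⁅BB y (AA x y), O⁆ := fun k => h.cyc O2 OV hy t.y1 hy t.y1 k k
  have uu : ¬ BB (x * y) (AA x y) ≤ ⁅BB (x * y) (AA x y), O⁆ := fun k => h.cyc O2 OV hu u1 hu u1 k k
  have vv : ¬ BB (x⁻¹ * y) (AA x y) ≤ ⁅BB (x⁻¹ * y) (AA x y), O⁆ := fun k => h.cyc O2 OV hv v1 hv v1 k k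
  have uv : ¬ BB (x * y) (AA x y) ≤ ⁅BB (x⁻¹ * y) (AA x y), O⁆ := fun k =>
    h.cyc O2 OV hu u1 hv v1 k (by simpa only [τ2, τ3, τ4] using arr (g := τ) k)
  have vu : ¬ BB (x⁻¹ * y) (AA x y) ≤ ⁅BB (x * y) (AA x y), O⁆ := fun k =>
    uv (by simpa only [τ2, τ3, τ4] using arr (g := τ) k)
  have Od' : O ≤ normalizer (zpowers d : Set G) := Od.trans (C1_le d)
  by_cases k1 : BB (x * y) (AA x y) ≤ ⁅BB y (AA x y), O⁆
  · have k2 : BB (x⁻¹ * y) (AA x y) ≤ ⁅BB y (AA x y), O⁆ := by simpa only [τ1, τ2, τ4] using arr (g := τ) k1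
    exact h.cyc (two _ q5 Od' OB (key hv vx (fun k => (h.cyc O2 OV hy t.y1 hv v1 k k2).elim) (absurd · uv) (absurd · vv))
      le_sup_left) ΛV hu u1 hy t.y1 (k1.trans (commutator_mono le_rfl le_sup_left))
      (le_trans (by simpa only [q2, q3] using arr (g := q) k1) (commutator_mono le_rfl le_sup_right))
  have k2 : ¬ BB (x⁻¹ * y) (AA x y) ≤ ⁅BB y (AA x y), O⁆ := fun k =>
    k1 (by simpa only [τ1, τ3, τ4] using arr (g := τ) k)
  have k3 : ⁅BB y (AA x y), O⁆ ≤ ⊥ := key hy t.yx (absurd · yy) (absurd · k1) (absurd · k2)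
  have k4 : BB y (AA x y) ≤ ⁅BB (x * y) (AA x y), O⁆ := by
    by_contra k4
    have k5 : ¬ BB y (AA x y) ≤ ⁅BB (x⁻¹ * y) (AA x y), O⁆ := fun k =>
      k4 (by simpa only [τ1, τ3, τ4] using arr (g := τ) k)
    have c : ∀ {B : Subgroup G}, ⁅B, O⁆ ≤ ⊥ → B ≤ centralizer (O : Set G) := fun k =>
      commutator_eq_bot_iff_le_centralizer.1 (le_bot_iff.1 k)
    exact hW (h.key le_rfl (h.nW h.AV (t.le_K hx)) (fun _ => c k3)
      (fun _ => c (key hu ux (absurd · k4) (absurd · uu) (absurd · vu)))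
      fun _ => c (key hv vx (absurd · k5) (absurd · uv) (absurd · vv)))
  refine h.cyc (two (zpowers d ⊔ (BB y (AA x y) ⊔ BB (x * y) (AA x y))) ?_ (Grp.le_normalizer_sup' Od' ?_)
    (OB.trans le_sup_left) (key hv vx (fun _ => le_sup_left.trans le_sup_right) (absurd · uv) (absurd · vv))
    (sup_le_sup_left (sup_le (h.BW hx t.x1 hy t.yx) (h.BW hx t.x1 hu ux)) _)) ΛV hy t.y1 hu u1
    (k4.trans (commutator_mono le_rfl le_sup_left))
    (le_trans (by simpa only [q2, q3] using arr (g := q) k4) (commutator_mono le_rfl le_sup_right))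
  · rw [Subgroup.map_sup, Subgroup.map_sup, q2, q3, q5, sup_comm (BB y _)]
  · exact le_normalizer_iff_commutator_le_left.2 (Even.commutator_sup_le' (le_sup_left.trans le_normalizer)
      (le_sup_right.trans le_normalizer) (k3.trans bot_le)
      (key hu ux (fun _ => le_sup_left) (absurd · uu) (absurd · vu)))

end B1

theorem b1_fix (t : Tor x y) {z τ : G} (k : KF x y z) (τA : τ ∈ normalizer (AA x y : Set G))
    (τx : τ * x * τ⁻¹ = x) (τy : τ * y * τ⁻¹ = y⁻¹) : ∃ d ∈ DD (AA x y), d ≠ 1 ∧ τ ∈ C1 d := by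
  obtain ⟨d, hd, d1⟩ := (DD (AA x y)).bot_or_exists_ne_one.resolve_left fun e => by
    have := k.cD
    rw [e, card_bot] at this
    omega
  have h1 := (mem_normalizer_iff.1 (norm_DD _ τA) d).1 hd
  by_cases h2 : d * (τ * d * τ⁻¹) = 1
  · refine ⟨d, hd, d1, mem_c.2 (mul_inv_eq_iff_eq_mul.1 ?_)⟩
    rw [← inv_eq_of_mul_eq_one_right h2, inv_eq_of_mul_eq_one_right (k.D2 d hd)]
  refine ⟨_, mul_mem hd h1, h2, mem_c.2 (mul_inv_eq_iff_eq_mul.1 ?_)⟩
  have h3 : ∀ a, τ * τ * a * (τ * τ)⁻¹ = τ * (τ * a * τ⁻¹) * τ⁻¹ := fun a => by group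
  obtain ⟨a, ha, e, he, h4⟩ := k.CA (τ * τ) fun a ha => mem_c.1 (AA_le (N := C1 (τ * τ))
    (mem_c.2 (mul_inv_eq_iff_eq_mul.1 (by rw [h3, τx, τx])).symm)
    (mem_c.2 (mul_inv_eq_iff_eq_mul.1 (by rw [h3, τy, ← conj_inv, τy, inv_inv])).symm) ha)
  rw [← conj_mul, ← h3, h4, mul_assoc a, comm_of_sq k.D2 he hd, ← mul_assoc a, DD_le _ hd a ha, mul_assoc d,
    mul_inv_cancel_right, comm_of_sq k.D2 h1 hd]

theorem b1_two (t : Tor x y) {d : G} (h1 : Fus.SylIn 3 (AA x y) (C1 d))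
    (h2 : ∀ a ∈ AA x y, a ≠ 1 → ∀ Y ≤ C1 a ⊓ C1 d, ¬ 3 ∣ Nat.card Y → IsPGroup 2 Y) {L : Subgroup G} (hL : L ≤ C1 d)
    (hA : AA x y ≤ normalizer (L : Set G)) (h0 : AA x y ⊓ L = ⊥) : IsPGroup 2 L := by
  have := Fact.mk Nat.prime_three
  have h3 : ¬ 3 ∣ Nat.card L := fun e => by
    have h4 := (h1.mono le_sup_left (sup_le h1.le hL)).card_eq_pow
    rw [Grp.card_sup_of_inf_eq_bot hA h0, t.card] at h4
    have h5 := (Nat.prime_three.pow_dvd_iff_le_factorization (k := 3) (mul_pos (by norm_num) Nat.card_pos).ne').1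
      (Nat.mul_dvd_mul_left 9 e)
    have := Nat.pow_le_pow_right (by norm_num : 0 < 3) h5
    omega
  exact t.two hA h3 fun a ha a1 => h2 a ha a1 _ (le_inf inf_le_right (inf_le_left.trans hL))
    fun e => h3 (e.trans (card_dvd_of_le inf_le_left))

theorem Al.not_vs (h : Al zf) (hz : ∀ a : G, orderOf a = 3 → zf a = 1) (t : Tor x y) {V : Subgroup G}
    (hV : VS (AA x y) V) : False := by
  have H : B1 x y V := ⟨t, hV, fun _ ha _ => h.DD_le_UU t ha, fun _ ha _ => BB_le t ha, fun _ => h.BB_inf t,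
    fun _ => h.card_BB t, fun _ ha a1 _ => h.BB0 t ha a1, fun _ ha a1 _ => h.BB_irr t ha a1⟩
  have hx := x_mem x y
  obtain ⟨τ, τx, τA, τy⟩ := h.move t (inv_mem (y_mem x y)) fun e => t.yx (inv_mem_iff.1 e)
  have τx' : τ * x * τ⁻¹ = x := by rw [mem_c.1 τx, mul_inv_cancel_right]
  obtain ⟨d, hd, d1, τd⟩ := b1_fix t (h.kf x y t) τA τx' τy
  obtain ⟨O, O2, O1, O3, O4, O5, O6⟩ := (h.kf x y t).O (hz x t.ox) d hd d1
  obtain ⟨q, q1, qx, qy⟩ := h.exists_q t (hz x t.ox)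
  have dz : ∀ a ∈ AA x y, a ≠ 1 → d ∉ zpowers (zf a) := fun a ha a1 e => by
    rw [hz a (t.oa ha a1), zpowers_one_eq_bot] at e
    exact d1 e
  refine H.false hd τA τx' τy (mem_c.2 (q1 d hd).symm) qx qy O2 (O1.trans inf_le_left) (O1.trans inf_le_right)
    (le_trans (le_inf (t.le_K hx) fun a ha => mem_c.2 (DD_le _ hd a ha)) O3) (O3 ⟨τx, τd⟩)
    (O4.trans (hV.nU x hx t.x1)) (commutator_le.2 fun b hb o ho => O5 o ho b hb) (fun e => ?_) fun L =>
      b1_two t (h.syld t hd dz) fun a ha a1 Y hY =>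
        two_of_dvd ((card_dvd_of_le hY).trans (h.c2 t ha a1 hd (dz a ha a1)))
  obtain ⟨a, ha, k⟩ := O6 _ (Grp.le_normalizer_centralizer'
    (H.nW (inf_le_right.trans (hV.nU x hx t.x1)) inf_le_left)) (le_centralizer_iff.1 e)
  have h1 : y * a ∈ AA x y := mul_mem (y_mem x y) (zpowers_le.2 hx ha)
  have h2 : y * a ∉ zpowers x := fun e => t.yx ((mul_mem_cancel_right ha).1 e)
  have h3 := hV.WB x hx t.x1 _ h1 h2
  rw [inf_eq_left.2 fun w hw => mem_c.2 (k w hw)] at h3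
  have := h.card_BB t h1 fun e => h2 (e ▸ one_mem _)
  rw [← h3, hV.cW x hx t.x1] at this
  cases this

end CL.J4.Gu
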