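/-
Groups with an element of order three whose centraliser is `3.M22`: the centraliser of the hexad group.
-/
import Cfsg.Agent.Spor.GuBas

set_option autoImplicit false

namespace CL.J4.Gu

open Cfsg CL.Spor CL.J4.Rec Subgroup
open scoped commutatorElement

variable {G : Type*} [Group G] [Finite G] {zf : G → G} {x y : G}

omit [Finite G] in
theorem b2_mem_sup {U : Subgroup G} {s w : G} (hn : s ∈ normalizer (U : Set G)) (h2 : orderOf s = 2) :
    w ∈ U ⊔ zpowers s ↔ w ∈ U ∨ w * s ∈ U := by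
  have ss : s * s = 1 := by rw [← sq, ← h2, pow_orderOf_eq_one]
  refine ⟨fun hw => ?_, fun hw => hw.elim mem_sup_left fun e => ?_⟩
  · rw [← SetLike.mem_coe, coe_mul_of_right_le_normalizer_left _ _ (zpowers_le.2 hn)] at hw
    obtain ⟨u, hu, v, hv, rfl⟩ := hw
    rcases (Even.mem_zpowers_two h2).1 hv with rfl | rfl
    · exact Or.inl (by simpa using hu)
    · exact Or.inr (by simpa [mul_assoc, ss] using hu)
  · simpa using mul_mem (mem_sup_left e) (mem_sup_right (inv_mem (mem_zpowers s)))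

/-- In `U⟨s⟩` with `U` elementary abelian and not centralised by `s`, an automorphism that does not move an outer
involution into `U` normalises `U`. -/
theorem b2_norm {U : Subgroup G} {s w n : G} (hU : ∀ u ∈ U, u * u = 1) (hn : s ∈ normalizer (U : Set G))
    (h2 : orderOf s = 2) (hs : s ∉ centralizer (U : Set G)) (h3 : n ∈ normalizer ((U ⊔ zpowers s : Subgroup G) : Set G))
    (w0 : w ∈ U ⊔ zpowers s) (w1 : w ∉ U) (w2 : w * w = 1) (w3 : n * w * n⁻¹ ∉ U) : n ∈ normalizer (U : Set G) := by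
  have ss : s * s = 1 := by rw [← sq, ← h2, pow_orderOf_eq_one]
  have key : ∀ v ∈ U ⊔ zpowers s, v ∉ U → v * v = 1 → ∃ z ∈ U, z * s = s * z ∧ v = z * s := fun v v0 v1 v2 => by
    have h4 := ((b2_mem_sup hn h2).1 v0).resolve_left v1
    refine ⟨_, h4, ?_, by rw [mul_assoc, ss, mul_one]⟩
    have h5 := hU _ h4
    rw [mul_assoc, ss, mul_one]
    calc v = s * (s * v) := by rw [← mul_assoc, ss, one_mul]
      _ = s * (v * s) := by
        rw [← inv_eq_of_mul_eq_one_right h5, mul_inv_rev, inv_eq_of_mul_eq_one_right ss, inv_eq_of_mul_eq_one_right v2]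
  have hc : ∀ {a b : G}, n * a * n⁻¹ * (n * b * n⁻¹) = n * b * n⁻¹ * (n * a * n⁻¹) ↔ a * b = b * a := by
    intro a b
    rw [conj_mul, conj_mul, mul_left_inj, mul_right_inj]
  refine mem_normalizer_fintype fun u hu => by_contra fun e => hs fun v hv => ?_
  obtain ⟨z, z1, z2, e1⟩ := key _ ((mem_normalizer_iff.1 h3 u).1 (mem_sup_left hu)) e (by
    rw [conj_mul, hU u hu, mul_one, mul_inv_cancel])
  obtain ⟨z', z3, z4, e2⟩ := key _ ((mem_normalizer_iff.1 h3 w).1 w0) w3 (by rw [conj_mul, w2, mul_one, mul_inv_cancel])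
  obtain ⟨z'', z5, z6, e3⟩ := key w w0 w1 w2
  have h4 : u * w = w * u := hc.1 (by
    rw [e1, e2]
    exact ((Commute.mul_right (comm_of_sq hU z1 z3) z2).mul_left (Commute.mul_right z4.symm (Commute.refl s))).eq)
  have h5 : u * s = s * u := by
    rw [e3, ← mul_assoc, comm_of_sq hU hu z5, mul_assoc, mul_assoc] at h4
    exact mul_left_cancel h4
  have h6 : U ⊔ zpowers s ≤ C1 u := sup_le (fun a ha => mem_c.2 (comm_of_sq hU ha hu)) (zpowers_le.2 (mem_c.2 h5.symm))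
  have h7 := hc.2 (mem_c.1 (h6 ((mem_normalizer_iff.1 (inv_mem h3) v).1 (mem_sup_left hv))))
  rw [show n * (n⁻¹ * v * n⁻¹⁻¹) * n⁻¹ = v by group, e1, ← mul_assoc, comm_of_sq hU hv z1, mul_assoc, mul_assoc] at h7
  exact mul_left_cancel h7

/-- A 2-subgroup of `C(D)` inducing on `A` everything that `C(D) ∩ N(A)` induces. -/
theorem Al.b2_two (h : Al zf) (t : Tor x y) {s : G} (s1 : s ∈ centralizer (DD (AA x y) : Set G))
    (sx : s * x * s⁻¹ = x⁻¹) (sy : s * y * s⁻¹ = y⁻¹) (so : orderOf s = 2) :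
    ∃ H : Subgroup G, IsPGroup 2 H ∧ H ≤ centralizer (DD (AA x y) : Set G) ∧
      ∀ g ∈ centralizer (DD (AA x y) : Set G), g ∈ normalizer (AA x y : Set G) →
        ∃ g' ∈ H, g' * x * g'⁻¹ = g * x * g⁻¹ ∧ g' * y * g'⁻¹ = g * y * g⁻¹ := by
  have ss : s * s = 1 := by rw [← sq, ← so, pow_orderOf_eq_one]
  have si : s⁻¹ = s := inv_eq_of_mul_eq_one_right ss
  have sA : ∀ a ∈ AA x y, s * a * s⁻¹ = a⁻¹ := fun a ha => by
    obtain ⟨i, -, j, -, rfl⟩ := t.mem.1 ha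
    rw [← conj_mul, ← conj_pow, ← conj_pow, sx, sy, (t.comm.pow_pow i j).eq, mul_inv_rev, inv_pow, inv_pow]
  have AD : AA x y ≤ centralizer (DD (AA x y) : Set G) := le_centralizer_iff.1 (DD_le _)
  have W2 : ∀ w ∈ DD (AA x y) ⊔ zpowers s, w * w = 1 := fun w hw => by
    rcases (b2_mem_sup (centralizer_le_normalizer _ s1) so).1 hw with e | e
    · exact h.D2 t w e
    · have h1 := h.D2 t _ e
      have h2 := s1 _ e
      rw [mul_assoc, ss, mul_one] at h2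
      rwa [mul_assoc, ← h2] at h1
  refine ⟨centralizer (DD (AA x y) : Set G) ⊓ normalizer (AA x y : Set G) ⊓
    normalizer ((DD (AA x y) ⊔ zpowers s : Subgroup G) : Set G), ?_, inf_le_left.trans inf_le_left, fun g g1 g2 => ?_⟩
  · have := Fact.mk Nat.prime_two
    refine IsPGroup.of_card (Nat.eq_prime_pow_of_unique_prime_dvd Nat.card_pos.ne' fun {r} hr hd => ?_)
    have := Fact.mk hr
    obtain ⟨⟨g, ⟨g1, g2⟩, g3⟩, hg⟩ := exists_prime_orderOf_dvd_card' r hd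
    rw [← orderOf_coe] at hg
    have hg : orderOf g = r := hg
    by_cases e : AA x y ⊓ C1 g = ⊥
    · have h1 := El.card_mod hr (hg ▸ pow_orderOf_eq_one g) (A := AA x y) fun a ha => (mem_normalizer_iff.1 g2 a).1 ha
      rw [e, card_bot, t.card] at h1
      exact (Nat.prime_dvd_prime_iff_eq hr Nat.prime_two).1
        (hr.dvd_of_dvd_pow (n := 3) ((Nat.modEq_iff_dvd' (by norm_num)).1 h1.symm))
    obtain ⟨⟨a, a1, a2⟩, a3⟩ := ne_bot_iff_exists_ne_one.1 e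
    obtain ⟨b, hb, d, hd, rfl⟩ := (h.kf x y t).CA g
      (h.cent_of_norm t a1 (fun e => a3 (Subtype.ext e)) (mem_c.2 (mem_c.1 a2).symm) g1 g2)
    have h1 := mul_mem ((mem_normalizer_iff.1 g3 s).1 (mem_sup_right (mem_zpowers s)))
      (mem_sup_right (inv_mem (mem_zpowers s)))
    rw [show b * d * s * (b * d)⁻¹ * s⁻¹ = b * (d * s) * d⁻¹ * b⁻¹ * s⁻¹ by group, s1 d hd,
      show b * (s * d) * d⁻¹ * b⁻¹ * s⁻¹ = b * (s * b⁻¹ * s⁻¹) by group, sA _ (inv_mem hb), inv_inv] at h1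
    have h2 : b = 1 := by
      have h3 := W2 _ h1
      rwa [show b * b * (b * b) = b ^ 3 * b by simp only [pow_succ, pow_zero, one_mul, mul_assoc], t.a3 hb, one_mul] at h3
    rw [h2, one_mul] at hg
    exact (Nat.prime_dvd_prime_iff_eq hr Nat.prime_two).1 (hg ▸ orderOf_dvd_of_pow_eq_one (by rw [sq, h.D2 t d hd]))
  · obtain ⟨a, ha, d, hd, e⟩ := (h.kf x y t).CA (g * s * g⁻¹ * s⁻¹) fun a ha => by
      have h1 := sA _ ((mem_normalizer_iff.1 (inv_mem g2) a).1 ha)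
      have h2 := sA _ (inv_mem ha)
      rw [si] at h1 h2 ⊢
      calc a * (g * s * g⁻¹ * s) = g * (g⁻¹ * a * g⁻¹⁻¹)⁻¹⁻¹ * s * g⁻¹ * s := by group
        _ = g * s⁻¹ * g⁻¹ * a⁻¹ * g * (s⁻¹ * s) * g⁻¹ * s := by rw [← h1]; group
        _ = g * s * g⁻¹ * (s * s) * a⁻¹ * s := by rw [inv_mul_cancel, si, ss]; group
        _ = g * s * g⁻¹ * s * (s * a⁻¹ * s) := by simp only [mul_assoc]
        _ = _ := by rw [h2, inv_inv]
    have hA : ∀ u ∈ AA x y, a * g * u * (a * g)⁻¹ = g * u * g⁻¹ := fun u hu => by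
      rw [show a * g * u * (a * g)⁻¹ = a * (g * u * g⁻¹) * a⁻¹ by group,
        t.le_cent ((mem_normalizer_iff.1 g2 u).1 hu) a ha, mul_inv_cancel_right]
    have g3 := mul_mem (AD ha) g1
    refine ⟨a * g, ⟨⟨g3, mul_mem (le_normalizer ha) g2⟩, mem_normalizer_fintype fun w hw =>
      (sup_le (fun u hu => ?_) (zpowers_le.2 ?_) :
        _ ≤ (DD (AA x y) ⊔ zpowers s).comap (MulAut.conj (a * g)).toMonoidHom) hw⟩, hA x (x_mem x y), hA y (y_mem x y)⟩
    · exact mem_sup_left ((mem_normalizer_iff.1 (centralizer_le_normalizer _ g3) u).1 hu)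
    · show a * g * s * (a * g)⁻¹ ∈ DD (AA x y) ⊔ zpowers s
      rw [show a * g * s * (a * g)⁻¹ = a * (g * s * g⁻¹ * s⁻¹) * (s * a⁻¹ * s⁻¹) * s by group, e, sA _ (inv_mem ha),
        inv_inv, show a * (a * d) * a * s = a * a * (d * a) * s by group, AD ha d hd,
        show a * a * (a * d) * s = a ^ 3 * d * s by simp only [pow_succ, pow_zero, one_mul, mul_assoc], t.a3 ha, one_mul]
      exact mul_mem (mem_sup_left hd) (mem_sup_right (mem_zpowers s))

/-- In the case `3.M22` the centraliser of the hexad group is bigger than `U × 3`. -/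
theorem Al.not_cu (h : Al zf) (hz : ∀ a : G, orderOf a = 3 → zf a = 1) (t : Tor x y)
    (hC : centralizer (UU x (AA x y) : Set G) ≤ UU x (AA x y) ⊔ zpowers x) : False := by
  have := Fact.mk Nat.prime_two
  obtain ⟨σ, hσ⟩ := h.cov x t.ox
  have U2 := h.U2 t (x_mem x y) t.x1
  have xi : x * x = x⁻¹ := eq_inv_of_mul_eq_one_left (by simpa only [pow_succ, pow_zero, one_mul] using t.x3)
  have yi : y * y = y⁻¹ := eq_inv_of_mul_eq_one_left (by simpa only [pow_succ, pow_zero, one_mul] using t.y3)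
  have hxU : x ∈ centralizer (UU x (AA x y) : Set G) := fun u hu => mem_c.1 (UU_le _ _ hu)
  have ha : normalizer (UU x (AA x y) : Set G) ≤ N1 x := fun g hg => by
    have h1 := hC ((mem_normalizer_iff.1 (Odd.norm_le_norm_cent _ hg) x).1 hxU)
    rw [← SetLike.mem_coe, coe_mul_of_right_le_normalizer_left _ _ (zpowers_le.2 (centralizer_le_normalizer _ hxU))] at h1
    obtain ⟨u, hu, v, hv, e⟩ := h1
    have e : u * v = g * x * g⁻¹ := e
    have h2 := Commute.mul_pow (zp_comm hv (UU_le _ _ hu)) 3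
    rw [e, conj_pow, t.x3, hσ.a3 hv, pow_succ, sq, U2 u hu, mul_one, mul_inv_cancel, one_mul, mul_one] at h2
    rw [← h2, one_mul] at e
    exact mem_normalizer_fintype fun w hw => (zpowers_le (H := (zpowers x).comap (MulAut.conj g).toMonoidHom)).2
      (show g * x * g⁻¹ ∈ zpowers x from e ▸ hv) hw
  have c2 : ∀ g k u : G, g * k * u * (g * k)⁻¹ = g * (k * u * k⁻¹) * g⁻¹ := fun g k u => by group
  have hq : ∀ {q : G}, q * x * q⁻¹ = x⁻¹ * y → q * y * q⁻¹ = x * y → q * q * x * (q * q)⁻¹ = x⁻¹ := fun qx qy => by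
    rw [c2, qx, ← conj_mul, ← conj_inv, qx, qy, show (x⁻¹ * y)⁻¹ * (x * y) = y⁻¹ * (x * x * y) by group,
      (t.comm.mul_left t.comm).eq, inv_mul_cancel_left, xi]
  obtain ⟨q, q1, qx, qy⟩ := h.exists_q t (hz x t.ox)
  obtain ⟨s, s1, sx, sy, ss, ⟨d, hd, hn⟩, tr⟩ := h.b2 x y t (hz x t.ox) (q * q) (mul_mem q1 q1) (hq qx qy) (by
    rw [c2, qy, ← conj_mul, qx, qy, show x⁻¹ * y * (x * y) = x⁻¹ * (y * x) * y by group, ← t.comm.eq,
      inv_mul_cancel_left, yi])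
  have sK : s ∉ C1 x := fun e => hσ.ne_inv (by rw [← sx, mem_c.1 e, mul_inv_cancel_right])
  have so : orderOf s = 2 := orderOf_eq_prime (by rw [sq, ss]) fun e => sK (e ▸ one_mem _)
  have si : s⁻¹ = s := inv_eq_of_mul_eq_one_right ss
  have sU : s ∈ normalizer (UU x (AA x y) : Set G) :=
    norm_UU (t.norm (sx ▸ inv_mem (x_mem x y)) (sy ▸ inv_mem (y_mem x y))) (mem_normalizer_fintype fun w hw =>
      (zpowers_le (H := (zpowers x).comap (MulAut.conj s).toMonoidHom)).2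
        (show s * x * s⁻¹ ∈ zpowers x from sx ▸ inv_mem (mem_zpowers x)) hw)
  have sC : s ∉ centralizer (UU x (AA x y) : Set G) := fun e =>
    sK (sup_le (UU_le _ _) (zpowers_le.2 (mem_c.2 rfl)) (hC e))
  have hmul : ∀ {a b : G}, a * s ∈ UU x (AA x y) → b * s ∈ UU x (AA x y) → a * b ∈ UU x (AA x y) := fun e1 e2 => by
    simpa [mul_assoc, ← mul_assoc s s, ss] using mul_mem e1 ((mem_normalizer_iff.1 sU _).1 e2)
  have S2 : IsPGroup 2 ↥(UU x (AA x y) ⊔ zpowers s) := fun w => ⟨2, Subtype.ext (by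
    have h1 : (w : G) * w ∈ UU x (AA x y) := ((b2_mem_sup sU so).1 w.2).elim (fun e => mul_mem e e) fun e => hmul e e
    show (w : G) ^ (2 * 2) = 1
    rw [pow_mul, sq, sq, U2 _ h1])⟩
  obtain ⟨T, hT, h1⟩ := Fus.exists_sylIn_le S2 (sup_le (UU_le' _ _) (zpowers_le.2 s1))
  rcases h1.eq_or_lt with e | e
  · obtain ⟨H, H2, H1, hH⟩ := h.b2_two t s1 sx sy so
    obtain ⟨c, -, hc⟩ := hT.exists_conj_le H2 H1
    have h2 : ∀ g : G, g * g * x * (g * g)⁻¹ = x⁻¹ → c * g * c⁻¹ ∉ UU x (AA x y) := fun g e1 e2 => by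
      have h3 := U2 _ e2
      rw [conj_mul, conj_eq_one_iff] at h3
      exact hσ.ne_inv (by simpa [h3] using e1)
    have qA := t.norm (qx ▸ mul_mem (inv_mem (x_mem x y)) (y_mem x y)) (qy ▸ mul_mem (x_mem x y) (y_mem x y))
    obtain ⟨r, r1, r2, ry⟩ := h.move t (mul_mem (x_mem x y) (y_mem x y)) fun e =>
      t.yx ((mul_mem_cancel_left (mem_zpowers x)).1 e)
    have rx : r * x * r⁻¹ = x := by rw [mem_c.1 r1, mul_inv_cancel_right]
    have h3 : ∀ u, r * q * r⁻¹ * (r * u * r⁻¹) * (r * q * r⁻¹)⁻¹ = r * (q * u * q⁻¹) * r⁻¹ := fun u => by group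
    obtain ⟨p, p1, px, py⟩ := hH _ ((mem_normalizer_iff.1 (Odd.norm_le_norm_cent _ (norm_DD _ r2)) q).1 q1)
      (mul_mem (mul_mem r2 qA) (inv_mem r2))
    have h4 := h3 x
    rw [rx, qx, ← px, ← conj_mul, ← conj_inv, rx, ry, inv_mul_cancel_left] at h4
    have h5 := h3 y
    rw [ry, qy, ← conj_mul, ← px, ← py, ← conj_mul, rx, ry, h4, ← mul_assoc x, xi, (t.comm.inv_left).eq,
      mul_right_inj] at h5
    obtain ⟨q', q2, qx', qy'⟩ := hH q q1 qA
    rw [qx] at qx'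
    rw [qy] at qy'
    have h6 := ((b2_mem_sup sU so).1 (e ▸ hc _ q2)).resolve_left (h2 _ (hq qx' qy'))
    have h7 := ((b2_mem_sup sU so).1 (e ▸ hc _ p1)).resolve_left (h2 _ (by rw [c2, h4, h5]))
    refine h2 (q' * p) ?_ (by rw [← conj_mul]; exact hmul h6 h7)
    rw [c2, c2 q' p x, h4, qy', ← conj_mul, c2, c2, h4, h5, ← conj_inv, qx', qy', t.comm.inv_left.eq,
      show x * y * (y * x⁻¹)⁻¹ = x * y * x * y⁻¹ by group, mul_assoc x y, ← t.comm.eq, ← mul_assoc x,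
      mul_inv_cancel_right, xi]
  obtain ⟨g, g1, g2, g3⟩ := Inv.exists_mem_normalizer_of_lt_pgroup hT.isPGroup e
  have gU : g⁻¹ ∉ normalizer (UU x (AA x y) : Set G) := fun e1 => g2 ((b2_mem_sup sU so).2 (by
    have h2 : ∀ k ∈ T, k * x * k⁻¹ = x → k ∈ UU x (AA x y) := fun k hk e2 =>
      h.two_le_UU t (x_mem x y) t.x1 hT.isPGroup ⟨⟨hk, hT.le hk⟩, mem_c.2 (mul_inv_eq_iff_eq_mul.1 e2)⟩
    refine (hσ.conj_cases (ha (inv_mem_iff.1 e1))).imp (h2 g g1)
      fun e2 => h2 _ (mul_mem g1 (h1 (mem_sup_right (mem_zpowers s)))) ?_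
    rw [c2, sx, ← conj_inv, e2, inv_inv]))
  have hdU := h.DD_le_UU t (x_mem x y) hd
  have s0 : s ∈ UU x (AA x y) ⊔ zpowers s := mem_sup_right (mem_zpowers s)
  have sn : s ∉ UU x (AA x y) := fun e => sK (UU_le _ _ e)
  have d0 : s * d ∈ UU x (AA x y) ⊔ zpowers s := mul_mem s0 (mem_sup_left hdU)
  have dn : s * d ∉ UU x (AA x y) := fun e => sn ((mul_mem_cancel_right hdU).1 e)
  have key : ∀ w ∈ UU x (AA x y) ⊔ zpowers s, w ∉ UU x (AA x y) → w * w = 1 →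
      g⁻¹ * w * g⁻¹⁻¹ ∈ UU x (AA x y) ∧ g⁻¹ * w * g⁻¹⁻¹ * s ≠ s * (g⁻¹ * w * g⁻¹⁻¹) := fun w w0 w1 w2 => by
    have h2 : g⁻¹ * w * g⁻¹⁻¹ ∈ UU x (AA x y) :=
      by_contra fun e1 => gU (b2_norm U2 sU so sC (inv_mem g3) w0 w1 w2 e1)
    refine ⟨h2, fun e1 => sC fun v hv => ?_⟩
    have h3 : UU x (AA x y) ⊔ zpowers s ≤ C1 (g⁻¹ * w * g⁻¹⁻¹) :=
      sup_le (fun a ha => mem_c.2 (comm_of_sq U2 ha h2)) (zpowers_le.2 (mem_c.2 e1.symm))
    have h4 := mem_c.1 (h3 ((mem_normalizer_iff.1 (inv_mem g3) v).1 (mem_sup_left hv)))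
    rw [conj_mul, conj_mul, mul_left_inj, mul_right_inj] at h4
    have h5 := comm_of_sq U2 hv (((b2_mem_sup sU so).1 w0).resolve_left w1)
    rw [← mul_assoc, h4, mul_assoc, mul_assoc] at h5
    exact mul_left_cancel h5
  obtain ⟨u1, u2⟩ := key s s0 sn ss
  obtain ⟨v1, v2⟩ := key _ d0 dn (by rw [mul_assoc, ← mul_assoc d, s1 d hd, mul_assoc, h.D2 t d hd, mul_one, ss])
  obtain ⟨k, k1, k2, k3⟩ := tr _ u1 u2 _ v1 v2
  have k4 : k ∈ normalizer ((UU x (AA x y) ⊔ zpowers s : Subgroup G) : Set G) := mem_normalizer_fintype fun w hw =>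
    (sup_le (fun u hu => mem_sup_left ((mem_normalizer_iff.1 k1 u).1 hu))
      (zpowers_le.2 ((b2_mem_sup sU so).2 (Or.inr k2))) :
        _ ≤ (UU x (AA x y) ⊔ zpowers s).comap (MulAut.conj k).toMonoidHom) hw
  have h2 : g * k * g⁻¹ * s * (g * k * g⁻¹)⁻¹ = s * d := by
    rw [show g * k * g⁻¹ * s * (g * k * g⁻¹)⁻¹ = g * (k * (g⁻¹ * s * g⁻¹⁻¹) * k⁻¹) * g⁻¹ by group, k3]
    group
  exact hn _ (ha (b2_norm U2 sU so sC (mul_mem (mul_mem g3 k4) (inv_mem g3)) s0 sn ss (h2 ▸ dn))) h2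

end CL.J4.Gu
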