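/-
Facts about the hexad and duad configurations in `M22`.
-/
import Cfsg.Agent.Spor.J4TSix

set_option autoImplicit false
set_option maxRecDepth 100000

namespace CL.J4.Gu

open Cfsg CL.Spor CL.J4.Rec Subgroup MulAction
open scoped commutatorElement Pointwise

/-- An element of order three. -/
noncomputable abbrev Yb : M24 := m24 r31
/-- The hexad group. -/
abbrev Ub : Subgroup M24 := fixS (ofMask 8688833)
/-- The stabiliser of the octad. -/
abbrev Pb : Subgroup M24 := stabilizer M24 (ofMask 8688833)
/-- The four-group centralised by `Yb`. -/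
noncomputable abbrev Db : Subgroup M24 := Ub ⊓ C1 Yb
/-- An involution in `Db`. -/
def pT : ℕ := 980635116092604026358934254788873344
/-- An element of order three commuting with `Yb`. -/
def pY : ℕ := 970003910366236691314897957810147360
/-- An element conjugating `Yb` to `pY`. -/
def pC' : ℕ := 981975010775793189536846778427846688
/-- An involution inverting `pY`. -/
def pI : ℕ := 977839867786251717525204161457686560
/-- An involution centralising `pY` and `pI`. -/
def pD : ℕ := 975712463496554621012243251162352000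
/-- An outer involution. -/
def pO : ℕ := 29424203338456361592292894023190583
/-- Chain of `Ub`. -/
def lU : List (ℕ × List ℕ) := [(1, [984818244535754528103549039458486304, 974338656214362718975024378963690560, 983556734225721270408659688667254880, 980635116092604026358934254788873344, 982062253446977559283173177126401184, 976541793272145524224165256002710784, 972585098812262587711849628614283552, 978288180344178655415768347585978720, 967732770601138460095365148658898336, 958157650582824167042245626756192704, 966299849372061425927814308339959296, 969868602686873633068742715037598240, 960666252078690145234912720196163168, 962320813022503292100522067620308608, 959331455310918617637209142647803552, 956808910070693464114942713217596096])]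
/-- Chain of `Db`. -/
def lD : List (ℕ × List ℕ) := [(1, [984818244535754528103549039458486304, 974338656214362718975024378963690560, 983556734225721270408659688667254880, 980635116092604026358934254788873344])]
/-- Chain of the centraliser of `pT`. -/
def lT : List (ℕ × List ℕ) := [(6, [984818244535754528103549039458486304, 972972992638868054932338480299759648, 980756803586798759670466514122091552, 958844717248964307133962771239655456, 976531636853126291160407323722221600, 972606645568131968584696805283956768]), (7, [984818244535754528103549039458486304, 970006773529318871630651234394901536, 972829745976007194863666578638651424, 980252272282723697483369785688870944])] ++ lU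
/-- Chain of an extraspecial group. -/
def lQ : List (ℕ × List ℕ) := [(1, [984818244535754528103549039458486304, 982224502665549886359716314972859520, 982062253446977559283173177126401184, 976541793272145524224165256002710784, 984164126424129694772211956447251744, 969706333661261991630498867441062336, 980396787561598970936339623786416672, 959331455310918617637209142647803552]), (2, [984818244535754528103549039458486304, 976744607271238274107390517796254752, 972829745976007194863666578638651424, 958844717248964307133962771239655456])]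
/-- Chain of a group of order 64. -/
def lO : List (ℕ × List ℕ) := (6, [984818244535754528103549039458486304, 984778705959267769925405002968512544, 984147055726619060556299833106374688, 984068652017880891378824878193557536]) :: lU
/-- Generators of the stabiliser of a duad. -/
def gO : List ℕ := [984147055726619060556299833106374688, 984068652017880891378824878193557536, 980137984110943472677247785287241856, 976934087779734217540805843559269632]
/-- An extraspecial group of order 32. -/
noncomputable def Qb : Subgroup M24 := gen (levelEls lQ)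
/-- A group of order 64. -/
noncomputable def Ob : Subgroup M24 := gen (levelEls lO)
/-- The stabiliser of a duad. -/
noncomputable def Sb : Subgroup M24 := gen (gO ++ [pY, pI, pD])

theorem rT : Rep pT (m24 pT) := rep_m24 (by decide +kernel)
theorem rY : Rep pY (m24 pY) := rep_m24 (by decide +kernel)
theorem rC : Rep pC' (m24 pC') := rep_m24 (by decide +kernel)
theorem rI : Rep pI (m24 pI) := rep_m24 (by decide +kernel)
theorem rD : Rep pD (m24 pD) := rep_m24 (by decide +kernel)
theorem rO : Rep pO (m24 pO) := rep_m24 (by decide +kernel)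

theorem gF {S : List ℕ} (h : allL (fun P => and (inM24 P) (fixesPts 8388609 P)) S = true) : ∀ P ∈ S, Good F22 P :=
  fun P hP => good_F22 ((allL_iff _ _).1 h P hP)

theorem gFP {S : List ℕ} (h : (allL (fun P => and (inM24 P) (fixesPts 8388609 P)) S && allL (fixesMask 8688833) S) = true) :
    ∀ P ∈ S, Good (F22 ⊓ Pb) P := by
  rw [Bool.and_eq_true] at h
  exact good_inf_all (gF h.1) (good_stab_all (gF h.1) h.2)

theorem mFP {P : ℕ} (h : (allL (fun P => and (inM24 P) (fixesPts 8388609 P)) [P] && allL (fixesMask 8688833) [P]) = true) :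
    m24 P ∈ F22 ⊓ Pb := (gFP h P (List.mem_singleton_self P)).m24_mem

theorem chU : SChain Ub lU :=
  sChain_of_card (good_fixS_all (good_top_of_all (by decide +kernel)) (by decide +kernel))
    (card_fixS_octad ((ofMask_mem_octads (by norm_num)).2 (by decide +kernel))).le (by decide +kernel)

theorem chD : SChain Db lD :=
  chU.cent rep_r31 [30] (good_fixS_all (good_top_of_all (by decide +kernel)) (by decide +kernel)) (by decide +kernel)

theorem chT : SChain (F22 ⊓ C1 (m24 pT)) lT := chainF.cent rT [8088382, 5842956, 8, 16, 147488] (gF (by decide +kernel)) (by decide +kernel)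

theorem chQ : SChain Qb lQ := sChain_gen (by decide +kernel)
theorem chO : SChain Ob lO := sChain_gen (by decide +kernel)

theorem card_Ub : Nat.card Ub = 16 := chU.card_eq
theorem card_Db : Nat.card Db = 4 := chD.card_eq
theorem card_CT : Nat.card ↥(F22 ⊓ C1 (m24 pT)) = 384 := chT.card_eq
theorem Qb_two : IsPGroup 2 Qb := IsPGroup.of_card (n := 5) chQ.card_eq
theorem Ob_two : IsPGroup 2 Ob := IsPGroup.of_card (n := 6) chO.card_eq
theorem Ub_le : Ub ≤ F22 ⊓ Pb := chU.eq_gen.trans_le (gen_le (gFP (by decide +kernel)))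
theorem Qb_le : Qb ≤ F22 ⊓ Pb := gen_le (gFP (by decide +kernel))
theorem Ob_le : Ob ≤ F22 ⊓ Pb := gen_le (gFP (by decide +kernel))
theorem Sb_F : Sb ≤ F22 := gen_le (gF (by decide +kernel))
theorem Qb_T : Qb ≤ C1 (m24 pT) := gen_le_centralizer chQ.1 rT (by decide +kernel)
theorem Yb_mem : Yb ∈ F22 ⊓ Pb := mFP (by decide +kernel)
theorem pY_mem : m24 pY ∈ F22 ⊓ Pb := mFP (by decide +kernel)
theorem pI_mem : m24 pI ∈ F22 ⊓ Pb := mFP (by decide +kernel)
theorem pC_mem : m24 pC' ∈ F22 := (good_F22 (by decide +kernel)).m24_mem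
theorem pT_mem : m24 pT ∈ Db := (chD.mem_iff_sift rT).2 (by decide +kernel)
theorem Yb_ord : orderOf Yb = 3 := rep_r31.orderOf_prime Nat.prime_three (by decide +kernel) (by decide +kernel)
theorem pC_conj : m24 pC' * Yb * (m24 pC')⁻¹ = m24 pY := ((rC.conj rep_r31).eq_iff rY).2 (by decide +kernel)
theorem pI_conj : m24 pI * m24 pY * (m24 pI)⁻¹ = (m24 pY)⁻¹ := ((rI.conj rY).eq_iff rY.inv).2 (by decide +kernel)
theorem pY_comm : m24 pY * Yb = Yb * m24 pY := (rY.commute_iff rep_r31).2 (by decide +kernel)

theorem Pb_le : Pb ≤ normalizer (Ub : Set M24) := fun g hg => mem_normalizer_fintype fun u hu => by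
  have : g * u * g⁻¹ ∈ (fixS (g • ofMask 8688833) : Subgroup M24) := by
    rw [fixS_smul]; exact mem_map_of_mem (MulAut.conj g).toMonoidHom hu
  rwa [mem_stabilizer_iff.1 hg] at this

theorem Ub_sq : ∀ u ∈ Ub, u * u = 1 := fun u hu => by
  obtain ⟨P, h, e⟩ := chU.forall_mem (f := fun P => Nat.beq (pmul P P) pone) (by decide +kernel) u hu
  exact (h.mul h).eq_one_iff.2 (Nat.eq_of_beq_eq_true e)

theorem Ub_three : ∃ u ∈ Ub, ∃ v ∈ Ub, ∃ w ∈ Ub, u ≠ 1 ∧ v ≠ 1 ∧ w ≠ 1 ∧ u * v ≠ 1 ∧ u * w ≠ 1 ∧ v * w ≠ 1 ∧
    u * (v * w) ≠ 1 := by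
  have h1 := rep_m24 (P := 974338656214362718975024378963690560) (by decide +kernel)
  have h2 := rep_m24 (P := 983556734225721270408659688667254880) (by decide +kernel)
  have h3 := rep_m24 (P := 982062253446977559283173177126401184) (by decide +kernel)
  exact ⟨_, h1.mem_fixS_iff.2 (by decide +kernel), _, h2.mem_fixS_iff.2 (by decide +kernel), _,
    h3.mem_fixS_iff.2 (by decide +kernel), mt h1.eq_one_iff.1 (by decide +kernel), mt h2.eq_one_iff.1 (by decide +kernel),
    mt h3.eq_one_iff.1 (by decide +kernel), mt (h1.mul h2).eq_one_iff.1 (by decide +kernel),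
    mt (h1.mul h3).eq_one_iff.1 (by decide +kernel), mt (h2.mul h3).eq_one_iff.1 (by decide +kernel),
    mt (h1.mul (h2.mul h3)).eq_one_iff.1 (by decide +kernel)⟩

/-- `M22` has one class of involutions. -/
theorem class2 {a : M24} (ha : a ∈ F22) (a2 : a * a = 1) (a1 : a ≠ 1) : ∃ c ∈ F22, c * a * c⁻¹ = m24 pT := by
  have := Fact.mk Nat.prime_two
  obtain ⟨c, hc, e⟩ := exists_conj_a0 (fixS_duad0 ▸ ha) (orderOf_eq_prime (by rwa [sq]) a1)
  have h1 := good_F22 (P := 958832583000509715131104092942211648) (by decide +kernel)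
  have h2 := good_F22 (P := 965039948861491159683974824371822624) (by decide +kernel)
  have h3 : Rep hk.P (m24 hk.P) := rep_m24 (by decide +kernel)
  rcases D_cases hc with h | h
  · refine ⟨_, mul_mem h1.m24_mem h, ?_⟩
    rw [← ((h1.rep.conj rep_a0).eq_iff rT).2 (by decide +kernel), ← e]; group
  · refine ⟨_, mul_mem h2.m24_mem h, ?_⟩
    rw [← ((h2.rep.conj (h3.inv.conj rep_a0)).eq_iff rT).2 (by decide +kernel), ← e]; group

theorem cent_Yb {c : M24} (hc : c ∈ F22) (h : c ∈ C1 Yb) : ∃ i < 3, ∃ j < 3, c * Yb ^ j * m24 pY ^ i ∈ Ub := by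
  obtain ⟨P, h, e⟩ := (chainF.cent rep_r31 [30, 28, 8, 16, 147488] (lv := [(1, [984818244535754528103549039458486304, 978271685672157949271868619692835904, 978113679763753991780978180303751264, 984520422274766055986571634752455808]), (2, [984818244535754528103549039458486304, 977832099276088035690225497886821408, 970003910366236691314897957810147360]), (5, [984818244535754528103549039458486304, 976531636853126291160407323722221600, 972606645568131968584696805283956768])]) (gF (by decide +kernel))
    (by decide +kernel)).forall_mem (f := fun P => anyBelow (fun i => anyBelow (fun j =>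
      fixesPts 8688833 (pmul (pmul P (ppow r31 j)) (ppow pY i))) 3) 3) (by decide +kernel) c ⟨hc, h⟩
  simp only [anyBelow_iff] at e
  obtain ⟨i, hi, j, hj, e⟩ := e
  exact ⟨i, hi, j, hj, ((h.mul (rep_r31.pow j)).mul (rY.pow i)).mem_fixS_iff.2 e⟩

theorem Db_conj {t : M24} (ht : t ∈ Db) (t1 : t ≠ 1) : ∃ c ∈ F22, c * Yb * c⁻¹ = Yb ∧ c * t * c⁻¹ = m24 pT := by
  obtain ⟨P, h, e⟩ := chD.forall_mem (f := fun P => or (Nat.beq P pone)
    (anyBelow (fun i => Nat.beq (pconj (ppow pY i) P) pT) 3)) (by decide +kernel) t ht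
  simp only [Bool.or_eq_true, anyBelow_iff, Nat.beq_eq] at e
  obtain ⟨i, -, e⟩ := e.resolve_left (mt h.eq_one_iff.2 t1)
  exact ⟨_, pow_mem pY_mem.1 i, mul_inv_eq_iff_eq_mul.2 (Commute.pow_left pY_comm i).eq,
    (((rY.pow i).conj h).eq_iff rT).2 e⟩

theorem cent_T {c : M24} (hc : c ∈ F22) (h : c ∈ C1 (m24 pT)) :
    ((∀ d ∈ Db, d * c = c * d) → ∃ j < 3, c * Yb ^ j ∈ Ub) ∧
      (c * c = 1 → c * (Yb * c * Yb⁻¹) * (Yb⁻¹ * c * Yb) = 1 → c ∈ Qb) := by
  have h1 := rep_m24 (P := 974338656214362718975024378963690560) (by decide +kernel)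
  obtain ⟨P, h, e⟩ := chT.forall_mem (f := fun P => and (cond (Nat.beq (pmul 974338656214362718975024378963690560 P) (pmul P 974338656214362718975024378963690560))
    (anyBelow (fun j => fixesPts 8688833 (pmul P (ppow r31 j))) 3) true) (cond (Nat.beq (pmul P P) pone)
      (cond (Nat.beq (pmul (pmul P (pconj r31 P)) (pmul (pmul (pinv r31) P) r31)) pone) (sift lQ P) true) true))
    (by decide +kernel) c ⟨hc, h⟩
  rw [Bool.and_eq_true] at e
  refine ⟨fun h2 => ?_, fun h2 h3 => (chQ.mem_iff_sift h).2 ?_⟩
  · have h3 := e.1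
    rw [(h1.commute_iff h).1 (h2 _ ((chD.mem_iff_sift h1).2 (by decide +kernel))), Nat.beq_refl, cond_true,
      anyBelow_iff] at h3
    exact h3.imp fun j hj => ⟨hj.1, (h.mul (rep_r31.pow j)).mem_fixS_iff.2 hj.2⟩
  · have h4 := e.2
    rwa [(h.mul h).eq_one_iff.1 h2, ((h.mul (rep_r31.conj h)).mul ((rep_r31.inv.mul h).mul rep_r31)).eq_one_iff.1 h3,
      Nat.beq_refl, cond_true, cond_true] at h4

theorem Qb_comm : ∀ a ∈ Qb, ∀ b ∈ Qb, ⁅a, b⁆ = 1 ∨ ⁅a, b⁆ = m24 pT := fun a ha b hb => by
  obtain ⟨P, h, e⟩ := chQ.forall_mem (f := fun P => allProds (fun Q => (fun c => or (Nat.beq c pone) (Nat.beq c pT))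
    (pmul (pconj P Q) (pinv Q))) lQ pone) (by decide +kernel) a ha
  obtain ⟨Q, h', e⟩ := chQ.forall_mem e b hb
  simp only [Bool.or_eq_true, Nat.beq_eq] at e
  exact e.imp ((h.conj h').mul h'.inv).eq_one_iff.2 (((h.conj h').mul h'.inv).eq_iff rT).2

theorem Qb_norm : F22 ⊓ C1 (m24 pT) ≤ normalizer (Qb : Set M24) :=
  chT.eq_gen.trans_le (gen_le (good_normalizer_all chT.1 chQ.1 rfl chQ.1 (by decide +kernel)))

theorem Ub_Qb {u : M24} (hu : u ∈ Ub) {j : ℕ} (hj : j < 3) : ⁅u, Yb ^ j⁆ ∈ Qb := by
  obtain ⟨P, h, e⟩ := chU.forall_mem (f := fun P => allBelow (fun j =>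
    sift lQ (pmul (pconj P (ppow r31 j)) (pinv (ppow r31 j)))) 3) (by decide +kernel) u hu
  exact (chQ.mem_iff_sift ((h.conj (rep_r31.pow j)).mul (rep_r31.pow j).inv)).2 ((allBelow_iff _ _).1 e j hj)

theorem Qb_gen : ∃ p ∈ F22 ⊓ Pb, ∃ q ∈ Qb, ∃ p' ∈ F22 ⊓ Pb, ∃ q' ∈ Qb, p * q * p⁻¹ * (p' * q' * p'⁻¹) = Yb := by
  have h1 := rep_m24 (P := 974027552735757545258125379239413792) (by decide +kernel)
  have h2 := rep_m24 (P := 972829745976007194863666578638651424) (by decide +kernel)
  have h3 := rep_m24 (P := 962708746329750958865455491016493088) (by decide +kernel)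
  have h4 := rep_m24 (P := 972829745976007194863666578638651424) (by decide +kernel)
  exact ⟨_, mFP (by decide +kernel), _, (chQ.mem_iff_sift h2).2 (by decide +kernel), _, mFP (by decide +kernel), _,
    (chQ.mem_iff_sift h4).2 (by decide +kernel), (((h1.conj h2).mul (h3.conj h4)).eq_iff rep_r31).2 (by decide +kernel)⟩

theorem Ob_norm : m24 pY ∈ normalizer (Ob : Set M24) ∧ m24 pI ∈ normalizer (Ob : Set M24) := by
  have h := good_normalizer_all (S := [pY, pI]) (gF (by decide +kernel)) chO.1 rfl chO.1 (by decide +kernel)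
  exact ⟨(h _ (by simp)).m24_mem, (h _ (by simp)).m24_mem⟩

theorem pT_O : m24 pT ∈ Ob := (chO.mem_iff_sift rT).2 (by decide +kernel)
theorem pT_Q : m24 pT ∈ Qb := (chQ.mem_iff_sift rT).2 (by decide +kernel)
theorem pT_ne : m24 pT ≠ 1 := mt rT.eq_one_iff.1 (by decide +kernel)

theorem pD_uniq {d : M24} (hd : d ∈ Db) (d1 : d ≠ 1)
    (h : m24 pI * (m24 pC' * d * (m24 pC')⁻¹) = m24 pC' * d * (m24 pC')⁻¹ * m24 pI) :
    m24 pC' * d * (m24 pC')⁻¹ = m24 pD := by
  obtain ⟨P, h1, e⟩ := chD.forall_mem (f := fun P => or (Nat.beq P pone) ((fun c => cond (Nat.beq (pmul pI c) (pmul c pI))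
    (Nat.beq c pD) true) (pconj pC' P))) (by decide +kernel) d hd
  simp only [Bool.or_eq_true, Nat.beq_eq, (rI.commute_iff (rC.conj h1)).1 h, Nat.beq_refl, cond_true] at e
  exact ((rC.conj h1).eq_iff rD).2 (e.resolve_left (mt h1.eq_one_iff.2 d1))

theorem gO_good : ∀ P ∈ gO, Good Ob P := chO.good_of_sift (gF (by decide +kernel)) (by decide +kernel)

theorem good_S {M : Subgroup M24} (h1 : Ob ≤ M) (h2 : m24 pY ∈ M) (h3 : m24 pI ∈ M) (h4 : m24 pD ∈ M) :
    ∀ P ∈ gO ++ [pY, pI, pD], Good M P :=
  good_append (fun P hP => (gO_good P hP).mono h1) (by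
    simp only [List.forall_mem_cons]
    exact ⟨⟨_, h2, rY⟩, ⟨_, h3, rI⟩, ⟨_, h4, rD⟩, by simp⟩)

theorem Sb_le {M : Subgroup M24} (h1 : Ob ≤ M) (h2 : m24 pY ∈ M) (h3 : m24 pI ∈ M) (h4 : m24 pD ∈ M) : Sb ≤ M :=
  gen_le (good_S h1 h2 h3 h4)

theorem Sb_good : ∀ P ∈ gO ++ [pY, pI, pD], Good Sb P := good_gen (gF (by decide +kernel))

theorem gen_B {M : Subgroup M24} (h1 : ∀ o ∈ Ob, Yb * o * Yb⁻¹ ∈ M) (h2 : ∀ o ∈ Ob, Yb⁻¹ * o * Yb⁻¹⁻¹ ∈ M)
    (h3 : m24 pD ∈ M) : F22 ≤ M := by
  have h : ∀ P ∈ gO.map (pconj r31) ++ gO.map (pconj (pinv r31)) ++ [pD], Good M P :=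
    good_append (good_append (List.forall_mem_map.2 fun P hP => ⟨_, h1 _ (gO_good P hP).m24_mem,
      rep_r31.conj (gO_good P hP).rep⟩) (List.forall_mem_map.2 fun P hP => ⟨_, h2 _ (gO_good P hP).m24_mem,
        rep_r31.inv.conj (gO_good P hP).rep⟩)) (List.forall_mem_singleton.2 ⟨_, h3, rD⟩)
  exact (eq_gen_of_slp (gF (by decide +kernel)) [(0, 8, 969040810185563759794562940502910336), (6, 9, 963867104590812172319448426082514304), (1, 4, 980185559433870131396045860007196000), (1, 9, 971091598898155209417993571348750016), (1, 11, 983154835054059281000287226398722144), (1, 13, 982789605697226178076486135930395680), (1, 9, 959381277484054789364605139783568832), (0, 15, 961980335416886048762627422071344160)]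
    [961980335416886048762627422071344160, 962547509768049506581727607019643936, 958451029172002204203126923072919584, 982789605697226178076486135930395680, 983154835054059281000287226398722144, 959824845622437839143431090204757120] [20, 1, 7, 6, 4] card_F22.le (by decide +kernel)).trans_le (gen_le h)

theorem gen_M {M : Subgroup M24} (h1 : Sb ≤ M) (h2 : Yb * m24 pD * Yb⁻¹ ∈ M) : F22 ≤ M :=
  (eq_gen_of_slp (X := gO ++ [pY, pI, pD] ++ [pconj r31 pD]) (gF (by decide +kernel)) [(0, 3, 973735200039823146477764533607318592), (2, 5, 970240302431824689743403335867184160), (4, 8, 971060981004440667431628914577330656), (2, 10, 967243409212666957150402067574670656), (2, 9, 984087641788388730402731457923167264), (2, 5, 971302219615043163840118654380824032), (2, 8, 976870096475371139237889472763998368), (1, 9, 970539389798552880036383631910025248), (2, 15, 958315417485228786526899761887859936), (2, 16, 966466541191378934472729137203327040), (1, 12, 979625635716138325955160962816418848), (1, 13, 983134833927640081168428940888480800),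 (0, 17, 967415333135777700860220857441164320)]
    [967415333135777700860220857441164320, 970539389798552880036383631910025248, 979625635716138325955160962816418848, 984087641788388730402731457923167264, 984147055726619060556299833106374688, 980137984110943472677247785287241856] [1, 20, 16, 11, 8] card_F22.le (by decide +kernel)).trans_le
    (gen_le (good_append (fun P hP => (Sb_good P hP).mono h1) (List.forall_mem_singleton.2 ⟨_, h2, rep_r31.conj rD⟩)))

theorem fix4_le : (fixS (ofMask 8389761) : Subgroup M24) ≤ Sb := by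
  have h1 := good_append Sb_good (slp_good [(6, 2, 972349116685190389654965573732799616), (0, 2, 972924979159997671229714209842465920), (0, 6, 980884287574314664576372122306326656), (0, 9, 970479639580704471736199951706861600)] _ Sb_good (by decide +kernel))
  have h2 : ∀ P ∈ [970479639580704471736199951706861600, 984147055726619060556299833106374688, 970003910366236691314897957810147360, 980137984110943472677247785287241856], Good Sb P :=
    fun P hP => h1 P (subL_spec (by decide +kernel) P hP)
  exact (eq_gen_of_card_le [1, 3, 15] (good_fixS_all h2 (by decide +kernel)) (n := 960) (by decide +kernel)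
    (card_fixS_four (by decide +kernel)).le).1.trans_le (gen_le h2)

theorem dcos {k : M24} (hk : k ∈ F22) : ∃ a ∈ Sb, ∃ b ∈ Sb, a * k * b ∈ F22 ⊓ Pb ∨ a * k * b = Yb * m24 pD * Yb⁻¹ := by
  obtain ⟨K, hK⟩ := exists_rep k
  let obj : ℕ → GolayPt × GolayPt := fun i => (gPt (i / 24), gPt (i % 24))
  let act : ℕ → ℕ → ℕ := fun P i => 24 * pf P (i / 24) + pf P (i % 24)
  have ho : ∀ {P g}, Rep P g → ∀ i < 576, g • obj i = obj (act P i) := fun {P g} h i hi => by
    have h1 := h.pf_lt (Nat.mod_lt i (by norm_num))
    refine Prod.ext ((h.smul_gPt (by omega)).trans ?_) ((h.smul_gPt (Nat.mod_lt i (by norm_num))).trans ?_) <;>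
      congr 1 <;> simp only [act] <;> omega
  have inj : ∀ {m n}, m < 24 → n < 24 → pf K m = pf K n → m = n := fun hm hn e => by
    rw [← gIdx_gPt hm, smul_left_cancel k ((hK.smul_gPt hm).trans (e ▸ (hK.smul_gPt hn).symm)), gIdx_gPt hn]
  have fx : ∀ n < 24, gPt n ∈ duad0 → pf K n = n := fun n hn e => by
    rw [← gIdx_gPt hn, ← hK.apply, mem_fixS.1 hk _ e]
  have f0 := fx 0 (by norm_num) (by decide +kernel)
  have f1 := fx 23 (by norm_num) (by decide +kernel)
  have l7 := hK.pf_lt (k := 7) (by norm_num)
  have l10 := hK.pf_lt (k := 10) (by norm_num)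
  have i1 := @inj 7 0
  have i2 := @inj 7 23
  have i3 := @inj 10 0
  have i4 := @inj 10 23
  have i5 := @inj 7 10
  let ps := [984818244535754528103549039458486304, 972606645568131968584696805283956768, 976531636853126291160407323722221600, 962654717146601952860492594140416032]
  obtain ⟨s, hs, e⟩ := cert_lower (H := Sb) (obj := obj) (N := 576) (acts := (gO ++ [pY, pI, pD]).map act)
    (valid := fun i => decide (i / 24 % 23 ≠ 0 ∧ i % 24 % 23 ≠ 0 ∧ i / 24 ≠ i % 24))
    (List.forall_mem_map.2 fun P hP => ⟨_, (Sb_good P hP).m24_mem, fun i hi _ => ho (Sb_good P hP).rep i hi⟩)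
    (col := fun i => Nat.land (Nat.shiftRight 0x200008804000200040000000804208000200000000804208000000000200a04040000000008040805000001000000008804000200000001000844001000001000040805000000000040000844001000008000000a04040000001008000805000001000200000804000200db6db6db61b2db6d80008000200804040000000041000804001000db6db6db65b0db6d80001008040804000000240000000804008000008000200a0400000024000000080420000000004100084400000100020000880400000000000000000000000 (Nat.mul 3 i)) 7) (root := fun c => act (nth (pconj r31 pD) (pconj r31 pD :: ps) c) 178)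
    (E := 0x262616181e1e191e2616161619211e242e1826211600002d00242324252b252a2c202c2424232525252d1b2b2d00002d24002b24262b2c2c2d2326242b23252123251d2d2e00001e29220021222a222a22212a1a26281e2022121a222600001b201c19001a130c1c1a1c1a15181c080913191a110800001e251e1e20001e2116201e0e161e191e24262026261e000026232b2b1b26001b2c2b232b132b1b1b132924231c2b00001b1d211c0d231300100a081a15182309141d191c21090000262b2b2b231e2b18002324231b2d1b1d1b282d211b2b0000222a2822222e2a122a001a2a121a2a1a1a2a1e262a22000013181b211c1b1b0b1c1200120d1b1900141b111d1900000016241e26181626191e2616001626211e212126201e2600001e25251e081e1b091d1a001e0026250d0b1d2225231600001a212a262022291a321a222a1a002a2618221a222a220000231b232d21231b231b2b212e1b2500251b282c23232b00001624241a151613151b120d16001a1b00151b1a231b0e0000231a192400220b141412142215101b0b0015211b191100003425232a1b2d2b252928232e1b2c2b1d1d002c242c2d00002622201a212e2a1a2a26192a1a1a2822222a0022222600002e231c22232e2a242c2c2524232c2b2525262d002d2c00002323232d191b1d20132321261b2d242323202c2b002300001626261e101e261126210e260e21261619261e26260000000000000000000000000000000000000000000000000000)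 (by decide +kernel) (24 * pf K 7 + pf K 10) (by omega)
    (decide_eq_true (by
      rw [show (24 * pf K 7 + pf K 10) / 24 = pf K 7 by omega, show (24 * pf K 7 + pf K 10) % 24 = pf K 10 by omega]
      omega))
  have key : ∀ {P p}, Rep P p → p ∈ F22 → s • obj (act K 178) = obj (act P 178) → ∃ b ∈ Sb, s * k * b = p :=
    fun {P p} h hp e => ⟨(p⁻¹ * (s * k))⁻¹, inv_mem (fix4_le ?_), by group⟩
  · generalize hc : nth (pconj r31 pD) (pconj r31 pD :: ps) _ = c at e
    rcases (hc ▸ nth_mem _ _ _ : c = _ ∨ c ∈ _).elim Or.inl List.mem_cons.1 with rfl | e1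
    · obtain ⟨b, hb, e2⟩ := key (rep_r31.conj rD) (mul_mem (mul_mem Yb_mem.1 (Sb_F (Sb_good pD (by simp)).m24_mem))
        (inv_mem Yb_mem.1)) e
      exact ⟨s, hs, b, hb, Or.inr e2⟩
    · have h1 := gFP (S := ps) (by decide +kernel) _ e1
      obtain ⟨b, hb, e2⟩ := key h1.rep h1.m24_mem.1 e
      exact ⟨s, hs, b, hb, Or.inl (e2 ▸ h1.m24_mem)⟩
  rw [← ho hK 178 (by norm_num), ← ho h 178 (by norm_num), ← mul_smul, ← inv_smul_eq_iff, ← mul_smul] at e
  rw [show ofMask 8389761 = insert (gPt 7) (insert (gPt 10) duad0) by decide +kernel, fixS_insert, fixS_insert]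
  exact mem_inf.2 ⟨mem_inf.2 ⟨mul_mem (inv_mem hp) (mul_mem (Sb_F hs) hk), congrArg Prod.snd e⟩, congrArg Prod.fst e⟩

theorem dcos' : ∃ a ∈ Sb, ∃ b ∈ Sb, a * (Yb * m24 pD * Yb⁻¹ * Yb⁻¹) * b ∈ Pb := by
  have h1 := rep_m24 (P := 971189404800796851940614823314831936) (by decide +kernel)
  have h2 := rep_m24 (P := 975629762904166775541346733368195648) (by decide +kernel)
  exact ⟨_, fix4_le (h1.mem_fixS_iff.2 (by decide +kernel)), _, fix4_le (h2.mem_fixS_iff.2 (by decide +kernel)),
    ((h1.mul ((rep_r31.conj rD).mul rep_r31.inv)).mul h2).mem_stabilizer_of_fixesMask (by decide +kernel)⟩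

theorem pO_mem : m24 pO ∈ stabilizer M24 duad0 := rO.mem_stabilizer_of_fixesMask (by decide +kernel)
theorem pO_not : m24 pO ∉ F22 := mt rO.mem_fixS_iff.1 (by decide +kernel)
theorem pO_sq : m24 pO * m24 pO = 1 := (rO.mul rO).eq_one_iff.2 (by decide +kernel)
theorem pO_Yb : m24 pO * Yb * (m24 pO)⁻¹ = Yb⁻¹ := ((rO.conj rep_r31).eq_iff rep_r31.inv).2 (by decide +kernel)
theorem pO_Db : Db ≤ C1 (m24 pO) := chD.eq_gen.trans_le (gen_le_centralizer chD.1 rO (by decide +kernel))

theorem pO_nc (n : M24) : n * m24 pO * n⁻¹ ≠ m24 pO * m24 pT := fun e => by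
  have := card_fixSet_of_conj e
  rw [rO.fixSet_eq, (rO.mul rT).fixSet_eq, card_ofMask, card_ofMask] at this
  exact absurd this (by decide +kernel)

theorem pO_trans {u v : M24} (hu : u ∈ Ub) (u1 : u * m24 pO ≠ m24 pO * u) (hv : v ∈ Ub) (v1 : v * m24 pO ≠ m24 pO * v) :
    ∃ k ∈ F22 ⊓ Pb, k * m24 pO * k⁻¹ * m24 pO ∈ Ub ∧ k * u * k⁻¹ = v := by
  let L := [958152055294551341366850418216897984, 970353900442674688056454968661124256, 969892516750752144528514641187971616, 976522644328424995836800795911034112, 957594166266318829661914189338937440, 957584712326191314162976696677611616, 976503396876471568076600587677258016, 972585098812262587711849628614283552]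
  obtain ⟨P, h, e⟩ := chU.forall_mem (f := fun P => or (Nat.beq (pmul P pO) (pmul pO P)) (allProds (fun Q =>
    or (Nat.beq (pmul Q pO) (pmul pO Q)) (anyL (fun K => Nat.beq (pconj K P) Q) L)) lU pone)) (by decide +kernel) u hu
  rw [Bool.or_eq_true, Nat.beq_eq] at e
  obtain ⟨Q, h', e⟩ := chU.forall_mem (e.resolve_left (mt (h.commute_iff rO).2 u1)) v hv
  simp only [Bool.or_eq_true, Nat.beq_eq, anyL_iff] at e
  obtain ⟨K, hK, e⟩ := e.resolve_left (mt (h'.commute_iff rO).2 v1)
  have h1 := gFP (S := L) (by decide +kernel) K hK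
  exact ⟨_, h1.m24_mem, ((h1.rep.conj rO).mul rO).mem_fixS_iff.2 ((allL_iff _ _).1
    (show allL (fun K => fixesPts 8688833 (pmul (pconj K pO) pO)) L = true by decide +kernel) K hK),
    ((h1.rep.conj h).eq_iff h').2 e⟩

end CL.J4.Gu
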