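/-
The group `2^(1+12).3.M22.2`: the subgroup `2^(1+12).3` is normal and every element of the extraspecial group is
centralised by an element of order three.
-/
import Cfsg.Agent.Spor.J4TFin

set_option autoImplicit false
set_option maxRecDepth 100000

namespace CL.J4.Gu

open Cfsg CL.Spor CL.J4.Rec Subgroup
open CL.F24 (ap idc)

theorem amb_cover : bfs [cY, cS] 4100 [1024, 1144, 1180] (1 + 2 ^ 1024 + 2 ^ 1144 + 2 ^ 1180) = 2 ^ 4096 - 1 := by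
  decide +kernel

theorem amb_fix {L V : Type*} [Group L] [AddCommGroup V] [DistribMulAction L V] {q : V → ZMod 2} {x y f s k : L}
    (H : Hy L V q x y f s k) {Y : Subgroup L} (hy : y ∈ Y) (hs : s ∈ Y) (v : V) :
    ∃ u ∈ Y, u ^ 3 = 1 ∧ u ≠ 1 ∧ u • v = v := by
  obtain ⟨x', -, e, C, aS, -⟩ := H.coord
  have aW : Ac e (y ^ 3 * s ^ 2) (ap [58, 31, 887, 409, 726, 875, 92, 164, 568, 796, 1024, 2048]) := fun a => by
    rw [pow_three, pow_two, mul_smul, mul_smul, mul_smul, mul_smul, aS, aS, C.acY, C.acY, C.acY, ← ap_mm, ← ap_mm,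
      ← ap_mm, ← ap_mm]
    exact congrArg (fun A => e (ap A a)) (by decide +kernel)
  have w3 : (y ^ 3 * s ^ 2) ^ 3 = 1 := H.faith _ fun v => by
    obtain ⟨a, -, rfl⟩ := C.surj v
    rw [pow_three (y ^ 3 * s ^ 2), mul_smul (y ^ 3 * s ^ 2), mul_smul (y ^ 3 * s ^ 2), aW, aW, aW, ← ap_mm, ← ap_mm,
      ← C.top a]
    exact congrArg (fun A => e (ap A a)) (by decide +kernel)
  have w1 : y ^ 3 * s ^ 2 ≠ 1 := fun h => by
    have := aW 1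
    rw [h, one_smul] at this
    exact absurd (C.inj _ (by norm_num) _ (by decide +kernel) this) (by decide +kernel)
  have hw : y ^ 3 * s ^ 2 ∈ Y := mul_mem (pow_mem hy 3) (pow_mem hs 2)
  have st : ∀ {g : L} {A : List ℕ}, g ∈ Y → Ac e g (ap A) → ∀ a, (∃ u ∈ Y, u ^ 3 = 1 ∧ u ≠ 1 ∧ u • e a = e a) →
      ∃ u ∈ Y, u ^ 3 = 1 ∧ u ≠ 1 ∧ u • e (ap A a) = e (ap A a) := fun {g A} hg hA a ⟨u, hu, u3, u1, ua⟩ =>
    ⟨g * u * g⁻¹, mul_mem (mul_mem hg hu) (inv_mem hg), by rw [conj_pow, u3, mul_one, mul_inv_cancel],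
      fun h => u1 (conj_eq_one_iff.1 h), by rw [← hA a, mul_smul, inv_smul_smul, mul_smul, ua]⟩
  have b0 : ∀ b ∈ [0, 1024, 1144, 1180], ∃ u ∈ Y, u ^ 3 = 1 ∧ u ≠ 1 ∧ u • e b = e b := fun b hb =>
    ⟨_, hw, w3, w1, (aW b).trans (congrArg e (by revert b; decide +kernel))⟩
  obtain ⟨a, ha, rfl⟩ := C.surj v
  refine bfs_spec (C := fun a => ∃ u ∈ Y, u ^ 3 = 1 ∧ u ≠ 1 ∧ u • e a = e a) (gens := [cY, cS]) ?_ 4100
    [1024, 1144, 1180] (1 + 2 ^ 1024 + 2 ^ 1144 + 2 ^ 1180) (fun b hb => b0 b (List.mem_cons_of_mem _ hb))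
    (fun b hb => b0 b ?_) a ?_
  · simp only [List.mem_cons, List.not_mem_nil, or_false, forall_eq_or_imp, forall_eq]
    exact ⟨st hy C.acY, st hs aS⟩
  · rw [show 1 + 2 ^ 1024 + 2 ^ 1144 + 2 ^ 1180 = 2 ^ 0 ||| 2 ^ 1024 ||| 2 ^ 1144 ||| 2 ^ 1180 by decide +kernel] at hb
    simp only [Nat.testBit_or, Nat.testBit_two_pow, Bool.or_eq_true, decide_eq_true_eq] at hb
    rcases hb with ((rfl | rfl) | rfl) | rfl <;> simp
  · rw [amb_cover, Nat.testBit_two_pow_sub_one]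
    exact decide_eq_true ha

theorem amb {Γ : Type*} [Group Γ] [Finite Γ] {x z : Γ} {σ : C1 x →* M24} (h : Six x z σ) {E : Subgroup Γ}
    (hn : E.Normal) (zc : ∀ g, g * z = z * g) (ex : IsExtraspecial 2 E) (card : Nat.card E = 2 ^ 13) (zE : z ∈ E)
    (CE : centralizer (E : Set Γ) ≤ E) (inv : ∃ k, k * x * k⁻¹ = x⁻¹) :
    (∀ g, g * x * g⁻¹ ∈ E ⊔ zpowers x) ∧ ∀ e ∈ E, ∃ u, orderOf u = 3 ∧ u * e = e * u := by
  have := Fact.mk Nat.prime_two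
  have := Fact.mk Nat.prime_three
  have all : ∀ g, g ∈ C1 z := fun g => mem_c.2 (zc g)
  have nE : ∀ g, g ∈ normalizer (E : Set Γ) := fun g => (normalizer_eq_top E).ge (mem_top g)
  have E2 : IsPGroup 2 E := IsPGroup.of_card card
  have inf_K : E ⊓ C1 x ≤ zpowers z := h.two_normal E2 fun g _ => nE g
  have x_not : x ∉ E := fun e => h.x1 ((pow_eq_one_iff_of_coprime (by norm_num : Nat.Coprime 3 2)).1
    ⟨h.x3, h.b2 (inf_K ⟨e, mem_c.2 rfl⟩)⟩)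
  obtain ⟨k, hk⟩ := inv
  have kn : k ∈ N1 x := mem_normalizer_fintype fun _ ⟨n, e1⟩ => by
    rw [← e1, ← conj_zpow, hk]
    exact zpow_mem (inv_mem (mem_zpowers x)) n
  have inf_N : ∀ g ∈ E, g ∈ N1 x → g ∈ zpowers z := fun g hg gn => by
    refine inf_K ⟨hg, mem_c.2 (mul_inv_eq_iff_eq_mul.1 ((h.conj_cases gn).resolve_right fun e => x_not ?_))⟩
    have h1 := mul_mem hg (hn.conj_mem _ (inv_mem hg) x)
    rwa [← mul_assoc, ← mul_assoc, e, ← mul_inv_rev, inv_eq_of_mul_eq_one_left (by rw [← pow_three, h.x3])] at h1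
  have xe : Even.XE z E := Even.xe_of ex h.oz (fun u _ => zc u) CE fun g _ => nE g
  obtain ⟨L, V, _, _, _, ρ, q, R, m⟩ := exists_mo xe card
  have cen : ∀ {u c : Γ} {v : V}, u ^ 3 = 1 → R c v → ρ ⟨u, all u⟩ • v = v → u * c = c * u := fun {u c v} u3 hc e => by
    have h1 := m.conj ⟨u, all u⟩ hc
    rw [e] at h1
    rcases m.eq hc h1 with h2 | h2
    · exact mul_inv_eq_iff_eq_mul.1 h2
    · have h2 : u * c * u⁻¹ = c * z := h2
      have h3 : u * (c * z) * u⁻¹ = c := by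
        rw [← mul_assoc, mul_assoc _ z, ← zc, ← mul_assoc, h2, mul_assoc, xe.toXS.mul_self, mul_one]
      have h4 : u * (u * (u * c * u⁻¹) * u⁻¹) * u⁻¹ = u ^ 3 * c * (u ^ 3)⁻¹ := by simp [pow_three, mul_assoc]
      rw [h2, h3, h2, u3] at h4
      exact absurd (by simpa using h4) h.z1
  have fpf : ∀ v : V, ρ ⟨x, all x⟩ • v = v → v = 0 := fun v e => by
    obtain ⟨c, hc⟩ := m.ex v
    rcases xe.toXS.mem_Z.1 (inf_K ⟨m.mem hc, mem_c.2 (cen h.x3 hc e).symm⟩) with rfl | rfl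
    · have := m.uniq hc (by simpa using m.mul hc hc)
      rw [m.h2] at this; exact this
    · exact m.uniq hc m.zero
  obtain ⟨π, h1, h2⟩ := h.exists_π hk kn
  have x3 : ρ ⟨x, all x⟩ ^ 3 = 1 := by
    rw [← map_pow, show (⟨x, all x⟩ ^ 3 : C1 z) = 1 from Subtype.ext h.x3, map_one]
  have hx : ∀ v : V, ρ ⟨x, all x⟩ • ρ ⟨x, all x⟩ • v = v + ρ ⟨x, all x⟩ • v := fun v => by
    have h3 : ρ ⟨x, all x⟩ • ρ ⟨x, all x⟩ • ρ ⟨x, all x⟩ • v = v := by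
      rw [← mul_smul, ← mul_smul, ← pow_three', x3, one_smul]
    have := fpf (v + ρ ⟨x, all x⟩ • v + ρ ⟨x, all x⟩ • ρ ⟨x, all x⟩ • v) (by
      rw [smul_add, smul_add, h3]; abel)
    exact (m.eq_of_add this).symm
  have cj : ∀ (g : N1 x) (u : C1 z), (g : Γ) * x * (g : Γ)⁻¹ = u →
      ρ.comp (inclusion h.N1_le) g * ρ ⟨x, all x⟩ * (ρ.comp (inclusion h.N1_le) g)⁻¹ = ρ u := fun g u e => by
    rw [MonoidHom.comp_apply, ← map_inv, ← map_mul, ← map_mul]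
    exact congrArg ρ (Subtype.ext e)
  obtain ⟨y', f, s, k', H⟩ := hy_of m.toQSp (ρ.comp (inclusion h.N1_le)) π (ρ ⟨x, all x⟩) h1
    (fun g e => by
      obtain ⟨a, ha, b, hb, e⟩ := h.mem_Z.1 ((h2 g).1 e)
      obtain ⟨i, rfl⟩ := mem_powers_iff_mem_zpowers.2 ha
      refine ⟨i, ?_⟩
      rw [← map_pow, ← mul_one (ρ _), ← (m.ker ⟨b, all b⟩).2 (zpowers_le.2 zE hb), ← map_mul]
      exact congrArg ρ (Subtype.ext e))
    (fun g e => (h2 g).2 (h.mem_Z.2 ⟨1, one_mem _, g, inf_N _ ((m.ker _).1 e) g.2, (one_mul _).symm⟩)) hx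
    (fun g => (h.conj_cases g.2).imp (cj g ⟨x, all x⟩) fun e => (cj g ⟨x, all x⟩⁻¹ e).trans (map_inv _ _))
    ⟨⟨k, kn⟩, fun e => x_not ((m.ker ⟨x, all x⟩).1 ((pow_eq_one_iff_of_coprime (by norm_num : Nat.Coprime 3 2)).1
      ⟨x3, by rw [sq, mul_eq_one_iff_eq_inv, ← map_inv, ← cj ⟨k, kn⟩ ⟨x, all x⟩⁻¹ hk, e]⟩))⟩
  refine ⟨fun g => ?_, fun c hc => ?_⟩
  · have : Finite ρ.range := Finite.of_surjective _ ρ.rangeRestrict_surjective
    obtain ⟨n, e⟩ := conj_hy H (Y := ρ.range) ⟨_, rfl⟩ ⟨_, rfl⟩ ⟨_, rfl⟩ ⟨_, rfl⟩ (fun e => h.not_81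
      (e.trans ((card_range_dvd ρ).trans (card_subgroup_dvd_card _)))) (g := ρ ⟨g, all g⟩) ⟨_, rfl⟩
    have h3 := (m.ker (⟨g, all g⟩ * ⟨x, all x⟩ * ⟨g, all g⟩⁻¹ * (⟨x, all x⟩ ^ n)⁻¹)).1 (by
      rw [map_mul, map_mul, map_mul, map_inv, map_inv, map_zpow, ← e, mul_inv_cancel])
    rw [← inv_mul_cancel_right (g * x * g⁻¹) (x ^ n)]
    exact mul_mem (mem_sup_left h3) (mem_sup_right (zpow_mem (mem_zpowers x) n))
  · obtain ⟨v, hv⟩ := m.ex' c hc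
    obtain ⟨_, ⟨g, rfl⟩, u3, u1, uv⟩ := amb_fix H (Y := ρ.range) ⟨_, rfl⟩ ⟨_, rfl⟩ v
    have g3 : (g : Γ) ^ 3 ∈ E := (m.ker (g ^ 3)).1 (by rw [map_pow, u3])
    have e1 : ((g : Γ) ^ 16384) ^ 3 = 1 := by
      have := congrArg Subtype.val (pow_card_eq_one' (G := E) (x := ⟨_, g3⟩))
      rw [card] at this
      rw [← pow_mul, show 16384 * 3 = 3 * 2 ^ 13 * 2 by norm_num, pow_mul, pow_mul]
      exact (congrArg (· ^ 2) this).trans (one_pow 2)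
    have e2 : ρ ⟨(g : Γ) ^ 16384, all _⟩ = ρ g := by
      rw [show (⟨(g : Γ) ^ 16384, all _⟩ : C1 z) = g ^ 16384 from rfl, map_pow, show 16384 = 3 * 5461 + 1 by norm_num,
        pow_succ, pow_mul, u3, one_pow, one_mul]
    refine ⟨_, orderOf_eq_prime e1 fun e => u1 ?_, cen e1 hv (e2 ▸ uv)⟩
    rw [← e2, ← map_one ρ]
    exact congrArg ρ (Subtype.ext e)

end CL.J4.Gu
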