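/-
A 2-subgroup of the involution centraliser normalised by `6.M22` is extraspecial of order `2 ^ 13`.
-/
import Cfsg.Agent.Spor.GuBas

set_option autoImplicit false

namespace CL.J4.Gu

open Cfsg CL.Spor CL.J4.Rec Subgroup MulAction
open scoped commutatorElement Pointwise

variable {G : Type*} [Group G]

/-- The hypotheses. -/
structure Dt (x z y : G) (σ : (C1 x) →* M24) (E : Subgroup G) : Prop extends Six x z σ, Inv2 x z E where
  yK : y ∈ C1 x
  yc : IsConj x y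
  yx : y ∉ zpowers x
  zne : ¬ C1 y ≤ C1 z

namespace Dt

variable {x z y : G} {σ : (C1 x) →* M24} {E : Subgroup G} (h : Dt x z y σ E)
include h

theorem z_cent : z ∈ centralizer (E : Set G) := fun _ hu => mem_c.1 (h.EH hu)

theorem inf_K : E ⊓ C1 x = zpowers z :=
  le_antisymm (h.two_normal h.E2 h.KE) (zpowers_le.2 ⟨h.zE, h.zx⟩)

theorem oy : orderOf y = 3 := by
  obtain ⟨g, rfl⟩ := isConj_iff.1 h.yc
  rw [orderOf_conj', h.ox]

theorem y3 : y ^ 3 = 1 := h.oy ▸ pow_orderOf_eq_one y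

theorem x_not_zp : x ∉ zpowers z := fun e =>
  h.x1 ((pow_eq_one_iff_of_coprime (by norm_num : Nat.Coprime 3 2)).1 ⟨h.x3, h.b2 e⟩)

theorem card_zp : Nat.card (zpowers z) = 2 := by rw [Nat.card_zpowers, h.oz]

variable [Finite G]

theorem cube {F : Subgroup G} (hF : F ≤ E) (hz : z ∈ F) (hn : C1 x ≤ normalizer (F : Set G)) :
    Nat.card (F ⊓ C1 y : Subgroup G) ^ 3 = 4 * Nat.card F := by
  classical
  have := Fact.mk Nat.prime_three
  have hyn : y ∈ normalizer (zpowers x : Set G) := centralizer_le_normalizer _ fun a ha => (zp_comm ha h.yK).symm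
  have hA : Nat.card ↥(zpowers x ⊔ zpowers y) = 9 := by
    rw [Fus.card_sup_zpowers_of_normalizer (p := 3) hyn h.yx (h.y3 ▸ one_mem _), Nat.card_zpowers, h.ox]
  have hAK : zpowers x ⊔ zpowers y ≤ C1 x := sup_le (zpowers_le.2 (mem_c.2 rfl)) (zpowers_le.2 h.yK)
  have hAy : zpowers x ⊔ zpowers y ≤ C1 y := sup_le (zpowers_le.2 (mem_c.2 (mem_c.1 h.yK).symm))
    (zpowers_le.2 (mem_c.2 rfl))
  have hab : zpowers x ⊔ zpowers y ≤ centralizer ((zpowers x ⊔ zpowers y : Subgroup G) : Set G) :=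
    sup_le (zpowers_le.2 fun a ha => mem_c.1 (hAK ha)) (zpowers_le.2 fun a ha => mem_c.1 (hAy ha))
  have h3 : ∀ a ∈ zpowers x ⊔ zpowers y, a ^ 3 = 1 := fun a ha => by
    rw [← SetLike.mem_coe, coe_mul_of_right_le_normalizer_left _ _ (zpowers_le.2 hyn)] at ha
    obtain ⟨u, hu, v, hv, rfl⟩ := ha
    rw [(show Commute u v from hab (mem_sup_right hv) u (mem_sup_left hu)).mul_pow, h.a3 hu, one_mul,
      ← orderOf_dvd_iff_pow_eq_one, ← h.oy]
    exact orderOf_dvd_of_mem_zpowers hv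
  have := Fintype.ofFinite ↥(zpowers x ⊔ zpowers y)
  obtain ⟨k, hk⟩ := card_two (h.E2.to_le hF)
  have h1 := Loc.card_cent_prod (p := 3) ⟨⟨⟨fun a b => Subtype.ext (hab b.2 a a.2)⟩⟩, h3⟩ (hAK.trans hn)
    (fun e => by rw [hk] at e; exact absurd (Nat.prime_three.dvd_of_dvd_pow e) (by norm_num))
  have h2 : ∀ a ∈ zpowers x, a ≠ 1 → F ⊓ C1 a = zpowers z := fun a ha a1 => by
    have e : zpowers a = zpowers x := eq_of_le_of_card_ge (zpowers_le.2 ha) (by
      rw [Nat.card_zpowers, Nat.card_zpowers, h.ox, orderOf_eq_prime (h.a3 ha) a1])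
    refine le_antisymm (fun u hu => h.inf_K ▸ mem_inf.2 ⟨hF hu.1, mem_c.2 (zp_comm (e ▸ mem_zpowers x) hu.2)⟩)
      (zpowers_le.2 ⟨hz, mem_c.2 (zp_comm ha h.zx)⟩)
  have h4 : F ⊓ centralizer ((zpowers x ⊔ zpowers y : Subgroup G) : Set G) = zpowers z :=
    le_antisymm (fun u hu => h.inf_K ▸ mem_inf.2 ⟨hF hu.1, mem_c.2 (hu.2 x (mem_sup_left (mem_zpowers x))).symm⟩)
      (zpowers_le.2 ⟨hz, fun a ha => mem_c.1 (h.zc (hAK ha))⟩)
  have h5 : ∀ a : ↥(zpowers x ⊔ zpowers y), Nat.card ↥(F ⊓ centralizer {a.1}) = if a.1 ∈ zpowers x then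
      (if a = 1 then Nat.card F else 2) else Nat.card (F ⊓ C1 y : Subgroup G) := fun a => by
    split_ifs with a1 a2
    · rw [a2, inf_eq_left.2 fun u _ => mem_c.2 (by simp)]
    · rw [h2 a a1 fun e => a2 (Subtype.ext e), h.card_zp]
    · obtain ⟨k, hk, e⟩ := h.conj3 h.yK (hAK a.2) h.y3 (h3 a a.2) h.yx a1
      rw [← e, card_inf_conj (hn hk)]
  have h6 : (Finset.univ.filter fun a : ↥(zpowers x ⊔ zpowers y) => a.1 ∈ zpowers x).card = 3 := by
    rw [← Fintype.card_subtype, ← Nat.card_eq_fintype_card, ← h.ox, ← Nat.card_zpowers]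
    exact Nat.card_congr (subgroupOfEquivOfLe (le_sup_left : zpowers x ≤ zpowers x ⊔ zpowers y)).toEquiv
  have h7 := Finset.card_filter_add_card_filter_not (s := Finset.univ)
    fun a : ↥(zpowers x ⊔ zpowers y) => a.1 ∈ zpowers x
  rw [h6, Finset.card_univ, ← Nat.card_eq_fintype_card, hA] at h7
  rw [Finset.prod_congr rfl fun a _ => h5 a, Finset.prod_ite, Finset.prod_const,
    ← Finset.mul_prod_erase _ _ (a := 1) (by simp), if_pos rfl, Finset.prod_congr rfl fun a ha =>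
      if_neg (Finset.ne_of_mem_erase ha), Finset.prod_const, Finset.card_erase_of_mem (by simp), h6, h4, hA,
    h.card_zp, show Finset.card _ = 6 by omega] at h1
  have h8 : 0 < Nat.card F := Nat.card_pos
  generalize Nat.card F = n at *
  generalize Nat.card (F ⊓ C1 y : Subgroup G) = d at *
  have h9 : n * 4 * d ^ 6 = (n * 4) ^ 3 := (Nat.pow_left_inj (n := 3) (by norm_num)).1
    (h1.trans (by rw [← pow_mul]; rfl))
  refine (Nat.pow_left_inj (n := 2) (by norm_num)).1 (Nat.eq_of_mul_eq_mul_left (show 0 < n * 4 by omega) ?_)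
  rw [← pow_mul, h9]; ring

theorem big {F : Subgroup G} (hF : F ≤ E) (hz : z ∈ F) (hn : C1 x ≤ normalizer (F : Set G)) (hne : ¬ F ≤ zpowers z) :
    2 ^ 11 ≤ Nat.card F := by
  have : Fact (Nat.Prime 11) := ⟨by norm_num⟩
  obtain ⟨t, ht⟩ := exists_prime_orderOf_dvd_card' (G := C1 x) 11 (by rw [h.card_K]; norm_num)
  rw [← orderOf_coe] at ht
  have h1 : ¬ F ≤ C1 (t : G) := fun e => by
    rcases h.normal_cases (hn.trans (Odd.norm_le_norm_cent F)) with h1 | h1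
    · have h2 := h.b2 (h.ker_pow (h1 t fun u hu => mem_c.1 (e hu))).1
      rw [← pow_mul, ← orderOf_dvd_iff_pow_eq_one, ht] at h2
      exact absurd h2 (by norm_num)
    · exact hne fun u hu => h.inf_K ▸ mem_inf.2 ⟨hF hu, mem_c.2 (h1 (mem_c.2 rfl) u hu)⟩
  obtain ⟨k, hk⟩ := card_two (h.E2.to_le hF)
  obtain ⟨j, hj⟩ := card_two ((h.E2.to_le hF).to_inf_left (K := C1 (t : G)))
  have h2 := El.card_mod (by norm_num : Nat.Prime 11) (ht ▸ pow_orderOf_eq_one _)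
    fun u hu => (mem_normalizer_iff.1 (hn t.2) u).1 hu
  have h3 : j < k := (Nat.pow_lt_pow_iff_right (by norm_num : 1 < 2)).1 (by
    rw [← hj, ← hk]
    exact lt_of_not_ge fun e => h1 (inf_eq_left.1 (eq_of_le_of_card_ge inf_le_left e)))
  have h4 : 1 ≤ j := (Nat.pow_dvd_pow_iff_le_right (by norm_num : 1 < 2)).1 (by
    rw [← hj, pow_one, ← h.card_zp]
    exact card_dvd_of_le (zpowers_le.2 ⟨hz, mem_c.2 (mem_c.1 (h.zc t.2)).symm⟩))
  rw [hk, hj] at h2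
  rw [hk]
  exact Nat.pow_le_pow_right (by norm_num) (not_lt.1 fun e =>
    (by decide : ∀ k < 11, ∀ j < k, 1 ≤ j → ¬ 2 ^ k ≡ 2 ^ j [MOD 11]) k e j h3 h4 h2)

theorem card_D : Nat.card (E ⊓ C1 y : Subgroup G) = 32 ∧ ¬ ∀ d ∈ E ⊓ C1 y, d ^ 2 = 1 := by
  have h1 := h.cube le_rfl h.zE h.KE
  have h2 := h.big le_rfl h.zE h.KE h.nle
  obtain ⟨z', σ', h'⟩ : ∃ z' σ', Six y z' σ' := by
    obtain ⟨g, rfl⟩ := isConj_iff.1 h.yc
    exact ⟨_, _, h.conj g⟩
  have xy : x ∈ C1 y := mem_c.2 (mem_c.1 h.yK).symm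
  have h3 : z' ≠ z := fun e => h.zne (e ▸ h'.zc)
  have inj : ∀ k : C1 y, (k : G) ∈ E → σ' k = 1 → k = 1 := fun k hk e => by
    have h4 := h'.ker_two e h.E2 hk
    have h5 : (k : G) ∈ zpowers z := h.inf_K ▸ mem_inf.2 ⟨hk, mem_c.2 (zp_comm h4 (h'.zc xy)).symm⟩
    by_contra h6
    have h6 : (k : G) ≠ 1 := fun e => h6 (Subtype.ext e)
    exact h3 (((Even.mem_zpowers_two h'.oz).1 h4).resolve_left h6 ▸
      ((Even.mem_zpowers_two h.oz).1 h5).resolve_left h6)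
  have hc : Nat.card ((E.subgroupOf (C1 y)).map σ') = Nat.card (E ⊓ C1 y : Subgroup G) := by
    rw [← range_subtype (E.subgroupOf (C1 y)), ← MonoidHom.range_comp, ← Nat.card_congr (MonoidHom.ofInjective
      ((injective_iff_map_eq_one _).2 fun k e => Subtype.ext (inj k.1 k.2 e))).toEquiv, ← inf_subgroupOf_right]
    exact Nat.card_congr (subgroupOfEquivOfLe inf_le_right).toEquiv
  have hle : (E.subgroupOf (C1 y)).map σ' ≤ F22 := by
    rintro _ ⟨k, -, rfl⟩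
    exact h'.σ_mem k
  obtain ⟨m, hm⟩ := card_two (h.E2.to_inf_left (K := C1 y))
  obtain ⟨k, hk⟩ := card_two h.E2
  have h4 : m ≤ 7 := (Nat.pow_dvd_pow_iff_le_right (by norm_num : 1 < 2)).1
    ((Nat.Coprime.pow_left m (by norm_num : Nat.Coprime 2 3465)).dvd_of_dvd_mul_right (by
      rw [← hm, ← hc]; exact (card_dvd_of_le hle).trans (by rw [card_F22])))
  have h5 := El.card_mod Nat.prime_three h.x3 (A := E ⊓ C1 y) fun u hu =>
    ⟨(mem_normalizer_iff.1 (h.KE (mem_c.2 rfl)) u).1 hu.1, (C1 y).mul_mem ((C1 y).mul_mem xy hu.2) ((C1 y).inv_mem xy)⟩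
  rw [inf_right_comm, h.inf_K, inf_eq_left.2 (zpowers_le.2 (mem_c.2 (mem_c.1 (h.zc h.yK)).symm)), h.card_zp, hm] at h5
  have h6 : m ≠ 7 := by
    rintro rfl
    refine no128 hle (hc.trans hm) (u := σ' ⟨x, xy⟩) (by
      rw [← map_pow]; exact (congrArg σ' (Subtype.ext h.x3)).trans (map_one _)) ?_ ?_
    · rintro _ ⟨k, hk, rfl⟩
      exact ⟨⟨x, xy⟩ * k * ⟨x, xy⟩⁻¹, (mem_normalizer_iff.1 (h.KE (mem_c.2 rfl)) _).1 hk, by simp⟩
    · rintro _ ⟨k, hk, rfl⟩ e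
      have h7 := inj (⟨x, xy⟩ * k * ⟨x, xy⟩⁻¹ * k⁻¹) (mul_mem ((mem_normalizer_iff.1 (h.KE (mem_c.2 rfl)) _).1 hk)
        (inv_mem hk)) (by rw [map_mul, map_mul, map_mul, map_inv, map_inv, e, mul_inv_cancel])
      have h8 : (k : G) ∈ zpowers z := h.inf_K ▸ mem_inf.2 ⟨hk, mem_c.2
        (mul_inv_eq_iff_eq_mul.1 (congrArg Subtype.val (mul_inv_eq_one.1 h7))).symm⟩
      rw [← map_pow, show 4 = 2 * 2 from rfl, pow_mul, show k ^ 2 = 1 from Subtype.ext (h.b2 h8), one_pow, map_one]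
  have h7 : m = 5 := by
    rw [hm] at h1
    interval_cases m <;> first | rfl | omega | exact absurd h5 (by decide)
  subst h7
  refine ⟨hm, fun e => no32 hle (hc.trans hm) ?_⟩
  rintro _ ⟨k, hk, rfl⟩
  rw [← map_pow, show k ^ 2 = 1 from Subtype.ext (e k ⟨hk, k.2⟩), map_one]

theorem card_E : Nat.card E = 2 ^ 13 := by
  have h1 := h.cube le_rfl h.zE h.KE
  rw [h.card_D.1] at h1
  omega

theorem irr {F : Subgroup G} (hF : F ≤ E) (hz : z ∈ F) (hn : C1 x ≤ normalizer (F : Set G)) (hne : ¬ F ≤ zpowers z) :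
    F = E := by
  have h1 := h.cube hF hz hn
  have h2 := h.big hF hz hn hne
  have h3 := card_le_of_le hF
  obtain ⟨m, hm⟩ := card_two ((h.E2.to_le hF).to_inf_left (K := C1 y))
  refine eq_of_le_of_card_ge hF ?_
  rw [h.card_E] at h3 ⊢
  rw [hm] at h1
  rcases lt_trichotomy m 5 with e | rfl | e
  · have := Nat.pow_le_pow_left (Nat.pow_le_pow_right (by norm_num : 0 < 2) (show m ≤ 4 by omega)) 3
    omega
  · omega
  · have := Nat.pow_le_pow_left (Nat.pow_le_pow_right (by norm_num : 0 < 2) (show 6 ≤ m from e)) 3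
    omega

theorem extra : IsExtraspecial 2 E := by
  have := Fact.mk Nat.prime_two
  have hK := fun {k} (hk : k ∈ C1 x) (u : G) => (mem_normalizer_iff.1 (h.KE hk) u).1
  have hz : ∀ {k}, k ∈ C1 z → ∀ {b}, b ∈ zpowers z → k * b * k⁻¹ ∈ zpowers z := fun hk b hb => by
    rwa [zp_comm hb hk, mul_inv_cancel_right]
  have hna : ¬ IsMulCommutative E := fun hc => by
    have hc' : ∀ a ∈ E, ∀ b ∈ E, Commute a b := fun a ha b hb =>
      congrArg Subtype.val (hc.is_comm.comm (⟨a, ha⟩ : E) ⟨b, hb⟩)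
    let F : Subgroup G :=
      { carrier := {u | u ∈ E ∧ u ^ 2 = 1}
        mul_mem' := fun ha hb => ⟨mul_mem ha.1 hb.1, by rw [(hc' _ ha.1 _ hb.1).mul_pow, ha.2, hb.2, mul_one]⟩
        one_mem' := ⟨one_mem _, one_pow 2⟩
        inv_mem' := fun ha => ⟨inv_mem ha.1, by rw [inv_pow, ha.2, inv_one]⟩ }
    have h1 := h.irr (F := F) (fun _ hu => hu.1) ⟨h.zE, h.z2⟩ (fun k hk => mem_normalizer_fintype fun u hu =>
      ⟨hK hk u hu.1, by rw [conj_pow, hu.2, mul_one, mul_inv_cancel]⟩) fun e => by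
        have hx : zpowers x ≤ normalizer (E : Set G) := zpowers_le.2 (h.KE (mem_c.2 rfl))
        obtain ⟨k, hk⟩ := card_two h.E2
        have h2 := Odd.S13.comm_inf_cent_eq_bot hc hx (by
          rw [Nat.card_zpowers, h.ox, hk]; exact Nat.Coprime.pow_right k (by norm_num))
        have h3 : ⁅E, zpowers x⁆ ≤ E := le_normalizer_iff_commutator_le_left.1 hx
        obtain ⟨w, w1, w2⟩ := Inv.SE.exists_inv_of_isPGroup (h.E2.to_le h3) fun e1 => h.nle fun u hu =>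
          h.inf_K ▸ mem_inf.2 ⟨hu, mem_c.2 (commutator_eq_bot_iff_le_centralizer.1 e1 hu x (mem_zpowers x)).symm⟩
        exact Inv.SE.ne_one_of_inv w2 (mem_bot.1 (h2 ▸ mem_inf.2 ⟨w1, fun a ha => (zp_comm ha
          (zpowers_le.2 h.zx (e ⟨h3 w1, w2 ▸ pow_orderOf_eq_one w⟩))).symm⟩))
    exact h.card_D.2 fun d hd => (h1.ge hd.1).2
  have h1 : E ⊓ centralizer (E : Set G) ≤ zpowers z := by
    by_contra e
    have := h.irr inf_le_left ⟨h.zE, h.z_cent⟩ (fun k hk => inf_normalizer_le_normalizer_inf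
      ⟨h.KE hk, Odd.norm_le_norm_cent _ (h.KE hk)⟩) e
    exact hna ⟨⟨fun a b => Subtype.ext ((this.ge b.2).2 a a.2)⟩⟩
  let F : Subgroup G :=
    { carrier := {u | u ∈ E ∧ ∀ v ∈ E, ⁅u, v⁆ ∈ zpowers z}
      mul_mem' := fun {a b} ha hb => ⟨mul_mem ha.1 hb.1, fun v hv => by
        rw [show ⁅a * b, v⁆ = a * ⁅b, v⁆ * a⁻¹ * ⁅a, v⁆ by simp only [commutatorElement_def]; group]
        exact mul_mem (hz (h.EH ha.1) (hb.2 v hv)) (ha.2 v hv)⟩
      one_mem' := ⟨one_mem _, fun v _ => by simp⟩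
      inv_mem' := fun {a} ha => ⟨inv_mem ha.1, fun v hv => by
        rw [show ⁅a⁻¹, v⁆ = a⁻¹ * ⁅a, v⁆⁻¹ * a⁻¹⁻¹ by simp only [commutatorElement_def]; group]
        exact hz (h.EH (inv_mem ha.1)) (inv_mem (ha.2 v hv))⟩ }
  have := h.E2.isNilpotent
  have h2 := h.irr (F := F) (fun _ hu => hu.1) ⟨h.zE, fun v hv => by
      rw [commutatorElement_eq_one_iff_mul_comm.2 (h.z_cent v hv).symm]; exact one_mem _⟩
    (fun k hk => mem_normalizer_fintype fun u hu => ⟨hK hk u hu.1, fun v hv => by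
      rw [show ⁅k * u * k⁻¹, v⁆ = k * ⁅u, k⁻¹ * v * k⁻¹⁻¹⁆ * k⁻¹ by simp only [commutatorElement_def]; group]
      exact hz (h.zc hk) (hu.2 _ (hK (inv_mem hk) v hv))⟩) fun e => by
      obtain ⟨w, w1, w2, w3⟩ := Grp.exists_mem_notMem_commutator_mem_in (H := E) le_rfl le_normalizer h.nle
      exact w2 (e ⟨w1, w3⟩)
  have h3 : center E = (zpowers z).subgroupOf E := le_antisymm
    (fun u hu => h1 ⟨u.2, fun v hv => congrArg Subtype.val (mem_center_iff.1 hu ⟨v, hv⟩)⟩)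
    fun u hu => mem_center_iff.2 fun v => Subtype.ext (zp_comm hu (h.EH v.2))
  refine Grp.isExtraspecial_of_center ?_ (commutator_le.2 fun a _ b _ => ?_) hna h.E2
  · rw [h3, Nat.card_congr (subgroupOfEquivOfLe (zpowers_le.2 h.zE)).toEquiv, h.card_zp]
  · rw [h3]
    exact (h2.ge a.2).2 b b.2

end Dt

namespace Al

variable [Finite G] {zf : G → G} {x y : G} {E : Subgroup G} (h : Al zf) (hd : Dist zf) (t : Tor x y)
  (hE : Inv2 x (zf x) E)
include h hd t hE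

theorem dt : ∃ σ, Dt x (zf x) y σ E := by
  obtain ⟨σ, c⟩ := h.cov x t.ox
  obtain ⟨σ', c'⟩ := h.cov y t.oy
  refine ⟨σ, c.six (h.zf_ne hd t t.ox), hE, t.yK, h.cls x y t.ox t.oy, t.yx, fun e => h.zf_not hd t.symm ?_⟩
  exact c'.ker_two ((c'.ker_iff ⟨_, mem_c.2 (mem_c.1 (c.zc t.yK)).symm⟩).2 ⟨mem_c.2 (mem_c.1 (c.zc t.yK)).symm,
    fun u hu => mem_c.1 (e hu)⟩) (F := zpowers _) (fun ⟨_, hb⟩ => ⟨1, Subtype.ext (c.b2 hb)⟩) (mem_zpowers _)

theorem card_D : Nat.card (E ⊓ C1 y : Subgroup G) = 32 := let ⟨_, d⟩ := h.dt hd t hE; d.card_D.1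

theorem card_E : Nat.card E = 2 ^ 13 := let ⟨_, d⟩ := h.dt hd t hE; d.card_E

theorem extra : IsExtraspecial 2 E := let ⟨_, d⟩ := h.dt hd t hE; d.extra

end Al

end CL.J4.Gu
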