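/-
The extraspecial group in the centraliser of the central involution of `6.M22`: uniqueness.
-/
import Cfsg.Agent.Spor.GuDt
import Cfsg.Agent.Spor.GuAmb

set_option autoImplicit false
set_option linter.unusedSectionVars false

namespace CL.J4.Gu

open Cfsg CL.Spor CL.J4.Rec Subgroup
open scoped commutatorElement

variable {G : Type*} [Group G]

theorem pk_pow {E : Subgroup G} {e s : G} (he : e ∈ E) (hs : s ∈ normalizer (E : Set G)) (n : ℕ) :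
    ∃ f ∈ E, (e * s) ^ n = f * s ^ n := by
  induction n with
  | zero => exact ⟨1, one_mem _, by simp⟩
  | succ n ih =>
    obtain ⟨f, hf, e1⟩ := ih
    exact ⟨f * (s ^ n * e * (s ^ n)⁻¹), mul_mem hf ((mem_normalizer_iff.1 (pow_mem hs n) e).1 he), by
      rw [pow_succ, e1, pow_succ]; group⟩

theorem pk_pow_mem {E : Subgroup G} {e s : G} (he : e ∈ E) (hs : s ∈ normalizer (E : Set G)) {n : ℕ}
    (h : (e * s) ^ n ∈ E) : s ^ n ∈ E := by
  obtain ⟨f, hf, e1⟩ := pk_pow he hs n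
  rwa [e1, mul_mem_cancel_left hf] at h

theorem pk_one {F : Subgroup G} (hF : IsPGroup 2 F) {s : G} (hs : s ∈ F) (h3 : s ^ 3 = 1) : s = 1 := by
  obtain ⟨n, e⟩ := hF ⟨s, hs⟩
  exact (pow_eq_one_iff_of_coprime (Nat.Coprime.pow_right n (by norm_num : Nat.Coprime 3 2))).1
    ⟨h3, congrArg Subtype.val e⟩

theorem pk_C1 {a b : G} (h : b ∈ zpowers a) : C1 a ≤ C1 b := fun _ hg => mem_c.2 (zp_comm h hg)

/-- The hypotheses. -/
structure PH (zf : G → G) (x y : G) (E : Subgroup G) : Prop extends Inv2 x (zf x) E where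
  al : Al zf
  ds : Dist zf
  t : Tor x y
  cD : ∀ b, Tor x b → Nat.card ↥(E ⊓ C1 b) = 32
  cE : Nat.card E = 2 ^ 13
  ex : IsExtraspecial 2 E
  tw : ∀ Y : Subgroup G, Y ≤ C1 (zf x) → C1 x ≤ normalizer (Y : Set G) → x ∉ Y → IsPGroup 2 Y

variable [Finite G]

theorem Al.pk_conj {zf : G → G} (h : Al zf) {a : G} (ha : orderOf a = 3) (g : G) : zf (g * a * g⁻¹) = g * zf a * g⁻¹ := by
  obtain ⟨σ, c⟩ := h.cov a ha
  obtain ⟨σ', c'⟩ := h.cov (g * a * g⁻¹) (by rw [orderOf_conj', ha])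
  exact c'.uniq (c.conj g)

theorem Tor.pk_inv {zf : G → G} (h : Al zf) {x b : G} (t : Tor x b) : ∃ k ∈ C1 b, k ∈ N1 x ∧ k * x * k⁻¹ = x⁻¹ := by
  obtain ⟨σ, c⟩ := h.cov b t.oy
  obtain ⟨k, hk, e⟩ := c.conj3 t.xK (inv_mem t.xK) t.x3 (by rw [inv_pow, t.x3, inv_one]) t.symm.yx
    fun e => t.symm.yx (inv_mem_iff.1 e)
  refine ⟨k, hk, mem_normalizer_fintype fun _ ⟨n, e1⟩ => ?_, e⟩
  rw [← e1, ← conj_zpow, e]
  exact zpow_mem (inv_mem (mem_zpowers x)) n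

namespace PH

variable {zf : G → G} {x y : G} {E : Subgroup G} (h : PH zf x y E)
include h

theorem z1 : zf x ≠ 1 := fun e => by
  obtain ⟨g, e1⟩ := isConj_iff.1 (h.al.cls x y h.t.ox h.t.oy)
  exact h.ds x y h.t (by rw [← e1, h.al.pk_conj h.t.ox, e, mul_one, mul_inv_cancel])

theorem six : ∃ σ, Six x (zf x) σ := (h.al.cov x h.t.ox).imp fun _ c => c.six h.z1

theorem oz : orderOf (zf x) = 2 := h.six.elim fun _ c => c.oz

theorem zz : zf x * zf x = 1 := by rw [← sq, ← h.oz, pow_orderOf_eq_one]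

theorem KH : C1 x ≤ C1 (zf x) := h.six.elim fun _ c => c.zc

theorem NH : N1 x ≤ C1 (zf x) := h.six.elim fun _ c => c.N1_le

theorem zK : zf x ∈ C1 x := h.six.elim fun _ c => c.zx

theorem two {F : Subgroup G} (hF : IsPGroup 2 F) (hn : C1 x ≤ normalizer (F : Set G)) : F ⊓ C1 x ≤ zpowers (zf x) :=
  h.six.elim fun _ c => c.two_normal hF hn

theorem infK {e : G} (he : e ∈ E) (hk : e ∈ C1 x) : e ∈ zpowers (zf x) := h.two h.E2 h.KE ⟨he, hk⟩

theorem ZE : zpowers (zf x) ≤ E := zpowers_le.2 h.zE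

theorem x_not : x ∉ E := fun e => h.t.x1 (pk_one h.E2 e h.t.x3)

theorem cenE : E ⊓ centralizer (E : Set G) = zpowers (zf x) :=
  Eq.symm (eq_of_le_of_card_ge (zpowers_le.2 ⟨h.zE, fun _ hu => mem_c.1 (h.EH hu)⟩) (by
    rw [Grp.extra_card_inf_centralizer h.ex, Nat.card_zpowers, h.oz]))

theorem ab {a b : G} (ha : a ∈ E) (hb : b ∈ E) : ⁅a, b⁆ ∈ zpowers (zf x) := h.cenE ▸ Grp.extra_comm_mem_inf h.ex ha hb

theorem sq' {a : G} (ha : a ∈ E) : a * a ∈ zpowers (zf x) :=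
  have := Fact.mk Nat.prime_two
  h.cenE ▸ sq a ▸ Grp.extra_pow_mem_inf h.ex ha

theorem kE {k e : G} (hk : k ∈ C1 x) (he : e ∈ E) : k * e * k⁻¹ ∈ E := (mem_normalizer_iff.1 (h.KE hk) e).1 he

theorem z_not {b : G} (t : Tor x b) : zf x ∉ zpowers (zf b) := fun e => by
  obtain ⟨σ, c⟩ := h.al.cov b t.oy
  exact (c.mem_zp.1 e).elim h.z1 (h.ds x b t)

theorem zA {b : G} (t : Tor x b) : zf x ∈ centralizer (AA x b : Set G) := fun _ ha =>
  mem_c.1 (h.KH (t.le_K (x_mem x b) ha))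

theorem CA_norm {b : G} : centralizer (AA x b : Set G) ≤ normalizer ((E ⊓ C1 b : Subgroup G) : Set G) := fun _ hc =>
  inf_normalizer_le_normalizer_inf ⟨h.KE (mem_c.2 (hc x (x_mem x b)).symm),
    le_normalizer (mem_c.2 (hc b (y_mem x b)).symm)⟩

theorem card_J {b : G} (t : Tor x b) : Nat.card ↥(E ⊓ C1 b ⊔ centralizer (AA x b : Set G)) = 1152 := by
  have kf := h.al.kf x b t
  have h1 : centralizer (AA x b : Set G) = AA x b ⊔ DD (AA x b) := le_antisymm (fun c hc => by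
    obtain ⟨a, ha, d, hd, rfl⟩ := kf.CA c hc
    exact mul_mem (mem_sup_left ha) (mem_sup_right hd)) (sup_le t.le_cent (DD_le _))
  have h2 := Grp.card_sup_of_inf_eq_bot (H := AA x b) (K := DD (AA x b)) (le_normalizer.trans (norm_DD _))
    (eq_bot_iff.2 fun a ha => pk_one (isPGroup_of_sq kf.D2) ha.2 (t.a3 ha.1))
  have h3 := Grp.card_sup_mul_card_inf (h.CA_norm (b := b))
  have h4 : centralizer (AA x b : Set G) ⊓ (E ⊓ C1 b) = zpowers (zf x) := le_antisymm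
    (fun c hc => h.infK hc.2.1 (mem_c.2 (hc.1 x (x_mem x b)).symm))
    (zpowers_le.2 ⟨h.zA t, h.zE, mem_c.2 (mem_c.1 (h.KH t.yK)).symm⟩)
  rw [← h1, t.card, kf.cD, h.oz] at h2
  rw [h4, h2, h.cD b t, Nat.card_zpowers, h.oz, sup_comm] at h3
  omega

theorem J_le {b : G} : E ⊓ C1 b ⊔ centralizer (AA x b : Set G) ≤ C1 b ⊓ C1 (zf x) :=
  sup_le (fun _ hu => ⟨hu.2, h.EH hu.1⟩) fun _ hc => ⟨mem_c.2 (hc b (y_mem x b)).symm,
    h.KH (mem_c.2 (hc x (x_mem x b)).symm)⟩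

theorem cos {b : G} (t : Tor x b) {u v : G} (hu : u ∈ C1 b ⊓ C1 (zf x)) (hv : v ∈ C1 b ⊓ C1 (zf x))
    (u1 : u ∉ E ⊓ C1 b ⊔ centralizer (AA x b : Set G)) (v1 : v ∉ E ⊓ C1 b ⊔ centralizer (AA x b : Set G)) :
    u * v⁻¹ ∈ E ⊓ C1 b ⊔ centralizer (AA x b : Set G) := by
  have h1 := (h.al.kf b x t.symm).c2 (zf x) (mem_Om (AA_comm x b ▸ h.zA t) h.zz) (h.z_not t)
  rw [← ((E ⊓ C1 b ⊔ centralizer (AA x b : Set G)).subgroupOf _).card_mul_index,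
    Nat.card_congr (subgroupOfEquivOfLe h.J_le).toEquiv, h.card_J t, show 2304 = 1152 * 2 from rfl,
    Nat.mul_dvd_mul_iff_left (by norm_num)] at h1
  obtain ⟨a, ha⟩ := index_dvd_two_iff.1 h1
  simpa [mem_subgroupOf] using mul_mem ((ha ⟨u, hu⟩).resolve_right u1) (inv_mem ((ha ⟨v, hv⟩).resolve_right v1))

theorem uniq {F : Subgroup G} (hF : IsPGroup 2 F) (hH : F ≤ C1 (zf x)) (hn : C1 x ≤ normalizer (F : Set G)) :
    F ≤ E := by
  have := Fact.mk Nat.prime_two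
  have xK : x ∈ C1 x := mem_c.2 rfl
  refine h.t.gen2 ((h.t.le_K (x_mem x y)).trans hn) hF fun b hb b1 f hf => ?_
  by_cases bx : b ∈ zpowers x
  · have := Fact.mk Nat.prime_three
    exact h.ZE (h.two hF hn ⟨hf.1, pk_C1 (Fus.mem_zpowers_symm_of_prime h.t.x3 bx b1) hf.2⟩)
  have t := (h.t.of_mem (x_mem x y) h.t.x1 hb bx).1
  have kf := h.al.kf x b t
  have key : ∀ f ∈ F ⊓ C1 b, ⁅f, x⁆ ∈ E := fun f hf => by
    have xJ : x ∈ E ⊓ C1 b ⊔ centralizer (AA x b : Set G) := mem_sup_right (t.le_cent (x_mem x b))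
    have h1 : f * x * f⁻¹ ∈ E ⊓ C1 b ⊔ centralizer (AA x b : Set G) := by
      by_cases e : f ∈ E ⊓ C1 b ⊔ centralizer (AA x b : Set G)
      · exact mul_mem (mul_mem e xJ) (inv_mem e)
      · exact h.cos t (mul_mem ⟨hf.2, hH hf.1⟩ (h.J_le xJ)) ⟨hf.2, hH hf.1⟩ (by rwa [mul_mem_cancel_right xJ]) e
    obtain ⟨w, hw, c, hc, e1⟩ := (Grp.mem_sup_iff_of_le_normalizer h.CA_norm).1 h1
    obtain ⟨a, ha, d, hd, rfl⟩ := kf.CA c hc
    have had : Commute a d := DD_le _ hd a ha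
    have h2 := pk_pow_mem hw.1 (h.KE (mem_c.2 (hc x (x_mem x b)).symm)) (n := 3) (by
      rw [← e1, conj_pow, t.x3, mul_one, mul_inv_cancel]; exact one_mem _)
    rw [had.mul_pow, t.a3 ha, one_mul, pow_three, kf.D2 d hd, mul_one] at h2
    have h3 : ⁅f, x⁆ = w * d * (a * x⁻¹) := by rw [commutatorElement_def, e1, had.eq]; group
    have h4 : a * x⁻¹ ∈ AA x b := mul_mem ha (inv_mem (x_mem x b))
    obtain ⟨n, e2⟩ := hF ⟨⁅f, x⁆, by
      rw [commutatorElement_def, mul_assoc, mul_assoc, ← mul_assoc x]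
      exact mul_mem hf.1 ((mem_normalizer_iff.1 (hn xK) _).1 (inv_mem hf.1))⟩
    have h5 := pk_pow_mem (mul_mem hw.1 h2) (h.KE (t.le_K (x_mem x b) h4)) (n := 2 ^ n) (by
      rw [← h3, show ⁅f, x⁆ ^ 2 ^ n = 1 from congrArg Subtype.val e2]; exact one_mem _)
    rw [h3]
    exact mul_mem (mul_mem hw.1 h2) (El.mem_of_pow (Nat.Coprime.coprime_dvd_left (orderOf_dvd_of_pow_eq_one (t.a3 h4))
      (Nat.Coprime.pow_right n (by norm_num))) h5)
  have h1 : zpowers x ≤ normalizer ((F ⊓ C1 b : Subgroup G) : Set G) := zpowers_le.2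
    (inf_normalizer_le_normalizer_inf ⟨hn xK, le_normalizer t.xK⟩)
  obtain ⟨k, hk⟩ := card_two (hF.to_inf_left (K := C1 b))
  obtain ⟨u, hu, c, hc, rfl⟩ := Grp.exists_commutator_mul_centralizer h1 (by
    rw [Nat.card_zpowers, t.ox, hk]; exact Nat.Coprime.pow_right k (by norm_num)) (Or.inl inferInstance) hf
  refine mul_mem ((commutator_le.2 fun f hf v hv => ?_) hu) (h.ZE (h.two hF hn ⟨hc.1.1, cent_zp x ▸ hc.2⟩))
  obtain ⟨m, rfl⟩ := mem_powers_iff_mem_zpowers.2 hv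
  clear hv
  induction m with
  | zero => simp
  | succ m ih =>
    have := mul_mem ih (h.kE (pow_mem xK m) (key f hf))
    rwa [show ⁅f, x ^ m⁆ * (x ^ m * ⁅f, x⁆ * (x ^ m)⁻¹) = ⁅f, x ^ (m + 1)⁆ by
      simp only [commutatorElement_def]; group] at this

theorem NE : N1 x ≤ normalizer (E : Set G) := fun n hn =>
  mem_normalizer_fintype fun u hu => h.uniq (F := E.map (MulAut.conj n).toMonoidHom) (h.E2.map _)
    (by rintro _ ⟨e, he, rfl⟩; exact mul_mem (mul_mem (h.NH hn) (h.EH he)) (inv_mem (h.NH hn)))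
    (fun k hk => mem_normalizer_fintype (by
      rintro _ ⟨e, he, rfl⟩
      exact ⟨_, h.kE ((mem_normalizer_iff.1 (inv_mem (N1_C1 x hn)) k).1 hk) he, by simp [mul_assoc]⟩)) ⟨u, hu, rfl⟩

theorem CE : C1 (zf x) ⊓ centralizer (E : Set G) ≤ E :=
  have h1 : C1 x ≤ normalizer ((C1 (zf x) ⊓ centralizer (E : Set G) : Subgroup G) : Set G) := fun _ hk =>
    inf_normalizer_le_normalizer_inf ⟨le_normalizer (h.KH hk), Odd.norm_le_norm_cent _ (h.KE hk)⟩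
  h.uniq (h.tw _ inf_le_left h1 fun e => h.nle fun u hu => h.infK hu (mem_c.2 (e.2 u hu))) inf_le_left h1

theorem L_le {b : G} (t : Tor x b) : C1 b ⊓ C1 (zf x) ≤ normalizer (E : Set G) := fun g hg => by
  have hJ : E ⊓ C1 b ⊔ centralizer (AA x b : Set G) ≤ normalizer (E : Set G) :=
    sup_le (inf_le_left.trans le_normalizer) fun c hc => h.KE (mem_c.2 (hc x (x_mem x b)).symm)
  obtain ⟨k, k1, k2, k3⟩ := t.pk_inv h.al
  by_cases e : g ∈ E ⊓ C1 b ⊔ centralizer (AA x b : Set G)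
  · exact hJ e
  refine (mul_mem_cancel_right (inv_mem (h.NE k2))).1 (hJ (h.cos t hg ⟨k1, h.NH k2⟩ e fun e1 => h.x_not ?_))
  obtain ⟨w, hw, c, hc, rfl⟩ := (Grp.mem_sup_iff_of_le_normalizer h.CA_norm).1 e1
  have h1 := mul_mem hw.1 (h.kE (mem_c.2 rfl) (inv_mem hw.1))
  rw [mul_inv_rev, mul_assoc w, ← hc x (x_mem x b), mul_assoc, mul_assoc, mul_inv_cancel_left, ← mul_assoc] at k3
  rwa [← mul_assoc, ← mul_assoc, k3, ← mul_inv_rev, inv_eq_of_mul_eq_one_left (by rw [← pow_three, t.x3])] at h1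

theorem se0 {g u : G} (hg : g ∈ C1 (zf x)) (hu : u ∈ C1 x) (ou : orderOf u = 3) (h2 : g * u * g⁻¹ ∈ C1 x) :
    g ∈ normalizer (E : Set G) := by
  have := Fact.mk Nat.prime_three
  have key : ∀ {g u : G}, g ∈ C1 (zf x) → u ∈ zpowers x → orderOf u = 3 → g * u * g⁻¹ ∈ C1 x →
      g ∈ normalizer (E : Set G) := fun {g u} hg hu ou h2 => by
    obtain ⟨n, e⟩ := Fus.mem_zpowers_symm_of_prime h.t.x3 hu fun e => by rw [e, orderOf_one] at ou; cases ou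
    have h3 : g * x * g⁻¹ ∈ C1 x := by
      have := zpow_mem h2 n
      rwa [conj_zpow, show u ^ n = x from e] at this
    refine h.NE (mem_normalizer_fintype fun _ ⟨m, e1⟩ => ?_)
    rw [← e1, ← conj_zpow]
    refine zpow_mem (by_contra fun h4 => h.ds x _ ⟨h.t.ox, by rw [orderOf_conj', h.t.ox], h3, h4⟩ ?_) m
    rw [h.al.pk_conj h.t.ox, mem_c.1 hg, mul_inv_cancel_right]
  by_cases e1 : u ∈ zpowers x
  · exact key hg e1 ou h2
  by_cases e2 : g * u * g⁻¹ ∈ zpowers x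
  · exact inv_mem_iff.1 (key (inv_mem hg) e2 (by rw [orderOf_conj', ou]) (by simpa [mul_assoc] using hu))
  obtain ⟨σ, c⟩ := h.al.cov x h.t.ox
  have u3 : u ^ 3 = 1 := ou ▸ pow_orderOf_eq_one u
  obtain ⟨k, hk, e⟩ := c.conj3 h2 hu (by rw [conj_pow, u3, mul_one, mul_inv_cancel]) u3 e2 e1
  refine (mul_mem_cancel_left (h.KE hk)).1 (h.L_le ⟨h.t.ox, ou, hu, e1⟩ ⟨mem_c.2 (mul_inv_eq_iff_eq_mul.1 ?_),
    mul_mem (h.KH hk) hg⟩)
  rw [← e]; simp only [e]; rw [mul_inv_rev, ← mul_assoc, mul_assoc k, mul_assoc k, e]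

theorem se {g u : G} (hg : g ∈ C1 (zf x)) (hu : u ∈ C1 (zf x) ⊓ normalizer (E : Set G)) (ou : orderOf u = 3)
    (h2 : g * u * g⁻¹ ∈ normalizer (E : Set G)) : g ∈ normalizer (E : Set G) := by
  have := Fact.mk Nat.prime_three
  obtain ⟨σ, c⟩ := h.al.cov x h.t.ox
  obtain ⟨R, hR⟩ := Fus.exists_sylIn 3 (C1 x)
  have h1 := (c.sylIn_top hR).mono (hR.le.trans (le_inf h.KH h.KE)) le_top
  have key : ∀ v ∈ C1 (zf x) ⊓ normalizer (E : Set G), orderOf v = 3 →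
      ∃ γ ∈ C1 (zf x) ⊓ normalizer (E : Set G), γ * v * γ⁻¹ ∈ C1 x := fun v hv ov => by
    obtain ⟨γ, h3, h4⟩ := h1.exists_conj_le (IsPGroup.of_card (n := 1) (by rw [Nat.card_zpowers, ov, pow_one]))
      (zpowers_le.2 hv)
    exact ⟨γ, h3, hR.le (h4 v (mem_zpowers v))⟩
  obtain ⟨a, a1, a2⟩ := key u hu ou
  obtain ⟨b, b1, b2⟩ := key (g * u * g⁻¹) (mem_inf.2 ⟨mul_mem (mul_mem hg (mem_inf.1 hu).1) (inv_mem hg), h2⟩)
    (by rw [orderOf_conj', ou])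
  rw [mem_inf] at a1 b1
  have h3 := h.se0 (g := b * g * a⁻¹) (mul_mem (mul_mem b1.1 hg) (inv_mem a1.1)) a2 (by rw [orderOf_conj', ou])
    (by simpa [mul_assoc] using b2)
  rwa [mul_mem_cancel_right (inv_mem a1.2), mul_mem_cancel_left b1.2] at h3

theorem amb' : (∀ g ∈ C1 (zf x) ⊓ normalizer (E : Set G), g * x * g⁻¹ ∈ E ⊔ zpowers x) ∧
    ∀ e ∈ E, ∃ u ∈ C1 (zf x) ⊓ normalizer (E : Set G), orderOf u = 3 ∧ u * e = e * u := by
  have := Fact.mk Nat.prime_two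
  obtain ⟨σ, c⟩ := h.six
  set Γ := C1 (zf x) ⊓ normalizer (E : Set G)
  have KΓ : C1 x ≤ Γ := le_inf h.KH h.KE
  have EΓ : E ≤ Γ := le_inf h.EH le_normalizer
  let x' : Γ := ⟨x, KΓ (mem_c.2 rfl)⟩
  let z' : Γ := ⟨zf x, EΓ h.zE⟩
  have h1 : ∀ k : Γ, k ∈ C1 x' ↔ (k : G) ∈ C1 x := fun k => by rw [mem_c, mem_c, Subtype.ext_iff]; rfl
  have h0 : (C1 x').map Γ.subtype = C1 x := le_antisymm (by rintro _ ⟨k, hk, rfl⟩; exact (h1 k).1 hk)
    fun k hk => ⟨⟨k, KΓ hk⟩, (h1 _).2 hk, rfl⟩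
  let φ : C1 x' →* C1 x := (Γ.subtype.comp (C1 x').subtype).codRestrict _ fun k => (h1 k).1 k.2
  have h2 : Six x' z' (σ.comp φ) := {
    ox := by rw [← orderOf_coe]; exact c.ox
    oz := by rw [← orderOf_coe]; exact c.oz
    zc := fun k _ => mem_c.2 (Subtype.ext (mem_c.1 k.2.1))
    zx := (h1 _).2 c.zx
    range := by
      rw [MonoidHom.range_comp, MonoidHom.range_eq_top_of_surjective φ fun k =>
        ⟨⟨⟨k, KΓ k.2⟩, (h1 _).2 k.2⟩, rfl⟩, ← MonoidHom.range_eq_map, c.range]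
    ker := fun k => by
      rw [MonoidHom.comp_apply, c.ker]
      constructor
      · rintro ⟨_, ⟨m, rfl⟩, _, ⟨n, rfl⟩, e⟩
        exact ⟨_, ⟨m, rfl⟩, _, ⟨n, rfl⟩, Subtype.ext e⟩
      · rintro ⟨_, ⟨m, rfl⟩, _, ⟨n, rfl⟩, e⟩
        exact ⟨_, ⟨m, rfl⟩, _, ⟨n, rfl⟩, congrArg Subtype.val e⟩
    perf := by
      rw [← map_le_map_iff_of_injective Γ.subtype_injective, map_commutator, h0]
      exact c.perf }
  obtain ⟨k, k1, k2, k3⟩ := h.t.pk_inv h.al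
  obtain ⟨h3, h4⟩ := amb h2 (E := E.subgroupOf Γ) (normal_subgroupOf_of_le_normalizer inf_le_right)
    (fun g => Subtype.ext (mem_c.1 g.2.1)) (Grp.extra_of_mulEquiv h.ex (subgroupOfEquivOfLe EΓ).symm)
    (by rw [Nat.card_congr (subgroupOfEquivOfLe EΓ).toEquiv, h.cE]) h.zE
    (fun g hg => h.CE ⟨g.2.1, fun e he => congrArg Subtype.val (hg ⟨e, EΓ he⟩ he)⟩)
    ⟨⟨k, h.NH k2, h.NE k2⟩, Subtype.ext k3⟩
  refine ⟨fun g hg => ?_, fun e he => ?_⟩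
  · have h5 := mem_map_of_mem Γ.subtype (h3 ⟨g, hg⟩)
    rwa [Subgroup.map_sup, MonoidHom.map_zpowers, map_subgroupOf_eq_of_le EΓ] at h5
  · obtain ⟨u, u1, u2⟩ := h4 ⟨e, EΓ he⟩ he
    exact ⟨u, u.2, by rw [orderOf_coe, u1], congrArg Subtype.val u2⟩

theorem cz {c g : G} (hc : c ∈ zpowers (zf x)) (hg : g ∈ C1 (zf x)) : g * c = c * g := zp_comm hc hg

theorem cjz {c g : G} (hc : c ∈ zpowers (zf x)) (hg : g ∈ C1 (zf x)) : g * c * g⁻¹ ∈ zpowers (zf x) := by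
  rwa [h.cz hc hg, mul_inv_cancel_right]

theorem cE' {e g : G} (he : e ∈ E) (hg : g ∈ C1 x) : ⁅e, g⁆ ∈ E := by
  rw [commutatorElement_def, mul_assoc, mul_assoc, ← mul_assoc g]
  exact mul_mem he (h.kE hg (inv_mem he))

/-- The elements `⁅f, d⁆ b`. -/
def im (d : G) (dK : d ∈ C1 x) (Y B : Subgroup G) (YE : Y ≤ E) (BE : B ≤ E) (ZB : zpowers (zf x) ≤ B) : Subgroup G where
  carrier := {c | ∃ f ∈ Y, ∃ b ∈ B, c = ⁅f, d⁆ * b}
  one_mem' := ⟨1, one_mem _, 1, one_mem _, by simp⟩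
  mul_mem' := by
    rintro _ _ ⟨f, hf, b, hb, rfl⟩ ⟨g, hg, c, hc, rfl⟩
    have h1 := h.ab (YE hg) (h.cE' (YE hf) dK)
    refine ⟨g * f, mul_mem hg hf, ⁅g, ⁅f, d⁆⁆⁻¹ * ⁅⁅g, d⁆⁻¹, b⁆ * b * c, mul_mem (mul_mem (mul_mem (ZB (inv_mem h1))
      (ZB (h.ab (inv_mem (h.cE' (YE hg) dK)) (BE hb)))) hb) hc, ?_⟩
    rw [← mul_assoc ⁅g * f, d⁆, ← mul_assoc ⁅g * f, d⁆, ← mul_assoc ⁅g * f, d⁆,
      h.cz (inv_mem h1) (h.EH (h.cE' (YE (mul_mem hg hf)) dK))]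
    simp only [commutatorElement_def]; group
  inv_mem' := by
    rintro _ ⟨f, hf, b, hb, rfl⟩
    exact ⟨f, hf, _, mul_mem hb (ZB (inv_mem (h.sq' (mul_mem (h.cE' (YE hf) dK) (BE hb))))), by group⟩

theorem card8 {b : G} (t : Tor x b) {Y : Subgroup G} (h1 : zpowers (zf x) ≤ Y) (h2 : Y ≤ E ⊓ C1 b)
    (h3 : ∀ u ∈ Y, x * u * x⁻¹ ∈ Y) : Y = zpowers (zf x) ∨ Nat.card Y = 8 ∨ Y = E ⊓ C1 b := by
  have h4 := El.card_mod Nat.prime_three t.x3 h3
  rw [show Y ⊓ centralizer {x} = zpowers (zf x) from le_antisymm (fun u hu => h.infK (h2 hu.1).1 hu.2)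
    (le_inf h1 (zpowers_le.2 h.zK)), Nat.card_zpowers, h.oz] at h4
  have h5 := card_dvd_of_le h2
  rw [h.cD b t] at h5
  have h6 : Nat.card Y = 2 ∨ Nat.card Y = 8 ∨ Nat.card Y = 32 := by
    have := Nat.le_of_dvd (by norm_num) h5
    generalize Nat.card Y = n at *
    interval_cases n <;> simp_all +decide
  exact h6.imp (fun e => (eq_of_le_of_card_ge h1 (by rw [e, Nat.card_zpowers, h.oz])).symm)
    (Or.imp_right fun e => eq_of_le_of_card_ge h2 (by rw [e, h.cD b t]))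

theorem faith {d : G} (dK : d ∈ C1 x) (d2 : d * d = 1) (hd : ∀ e ∈ E, ⁅d, e⁆ ∈ zpowers (zf x)) :
    d ∈ zpowers (zf x) := by
  obtain ⟨σ, c⟩ := h.al.cov x h.t.ox
  let T : Subgroup G := {
    carrier := {g | g ∈ C1 (zf x) ∧ ∀ e ∈ E, ⁅g, e⁆ ∈ zpowers (zf x)}
    one_mem' := ⟨one_mem _, fun e _ => by simp⟩
    mul_mem' := fun {a b} ha hb => ⟨mul_mem ha.1 hb.1, fun e he => by
      have := mul_mem (h.cjz (hb.2 e he) ha.1) (ha.2 e he)
      rwa [show a * ⁅b, e⁆ * a⁻¹ * ⁅a, e⁆ = ⁅a * b, e⁆ by simp only [commutatorElement_def]; group] at this⟩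
    inv_mem' := fun {a} ha => ⟨inv_mem ha.1, fun e he => by
      have := h.cjz (inv_mem (ha.2 e he)) (inv_mem ha.1)
      rwa [show a⁻¹ * ⁅a, e⁆⁻¹ * a⁻¹⁻¹ = ⁅a⁻¹, e⁆ by simp only [commutatorElement_def]; group] at this⟩ }
  rcases c.normal_cases (N := T) (fun k hk => mem_normalizer_fintype fun g hg =>
    ⟨mul_mem (mul_mem (h.KH hk) hg.1) (inv_mem (h.KH hk)), fun e he => by
      have := h.cjz (hg.2 _ (h.kE (inv_mem hk) he)) (h.KH hk)
      rwa [conjugate_commutatorElement, show k * (k⁻¹ * e * k⁻¹⁻¹) * k⁻¹ = e by group] at this⟩) with e | e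
  · exact c.ker_two (k := ⟨d, dK⟩) (e _ ⟨h.KH dK, hd⟩) (F := zpowers d) (fun ⟨u, hu⟩ => ⟨1, Subtype.ext
      (orderOf_dvd_iff_pow_eq_one.1 ((orderOf_dvd_of_mem_zpowers hu).trans
        (orderOf_dvd_of_pow_eq_one (by rw [pow_one, sq, d2]))))⟩) (mem_zpowers d)
  · refine absurd (fun u hu => h.infK hu (mem_c.2 (commutatorElement_eq_one_iff_mul_comm.1 ?_).symm)) h.nle
    have h1 := (e (mem_c.2 rfl)).2 u hu
    refine pk_one h.E2 (h.ZE h1) ?_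
    have h2 : x * u * x⁻¹ = ⁅x, u⁆ * u := by rw [commutatorElement_def, inv_mul_cancel_right]
    have h3 : ∀ v, x * (⁅x, u⁆ * v) * x⁻¹ = ⁅x, u⁆ * (x * v * x⁻¹) := fun v => by
      rw [← mul_assoc, h.cz h1 (h.KH (mem_c.2 rfl))]; simp only [mul_assoc]
    have h4 : x * (x * (x * u * x⁻¹) * x⁻¹) * x⁻¹ = x ^ 3 * u * (x ^ 3)⁻¹ := by simp [pow_three, mul_assoc]
    rw [h2, h3, h2, h3, h3, h2, h.t.x3] at h4
    simpa [pow_three, ← mul_assoc] using h4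

theorem fix0 {e : G} (he : e ∈ E) (h2 : e * zf y * (e * zf y) ∈ zpowers (zf x)) :
    ∃ f ∈ E, f * y * f⁻¹ * (e * zf y) = e * zf y * (f * y * f⁻¹) := by
  have := Fact.mk Nat.prime_three
  obtain ⟨σ, c⟩ := h.al.cov y h.t.oy
  set d := zf y
  have d2 : d * d = 1 := h.al.zf_sq h.t.oy
  have dK : d ∈ C1 x := mem_c.2 (mem_c.1 (c.zc h.t.xK)).symm
  have zy : zpowers (zf x) ≤ C1 y := zpowers_le.2 (mem_c.2 (mem_c.1 (h.KH h.t.yK)).symm)
  have DK : zpowers d ⊔ zpowers (zf x) ≤ C1 x := sup_le (zpowers_le.2 dK) (zpowers_le.2 h.zK)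
  have hD : ∀ e ∈ E, e ∈ normalizer ((zpowers d ⊔ zpowers (zf x) : Subgroup G) : Set G) ↔
      ⁅e, d⁆ ∈ zpowers (zf x) := fun e he => by
    refine ⟨fun h1 => h.infK (h.cE' he dK) (DK (mul_mem ((mem_normalizer_iff.1 h1 d).1
      (mem_sup_left (mem_zpowers d))) (inv_mem (mem_sup_left (mem_zpowers d))))), fun h1 => ?_⟩
    refine mem_normalizer_fintype fun u hu => (sup_le (c := (zpowers d ⊔ zpowers (zf x)).comap
      (MulAut.conj e).toMonoidHom) (zpowers_le.2 ?_) fun v hv => ?_) hu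
    · show e * d * e⁻¹ ∈ zpowers d ⊔ zpowers (zf x)
      rw [← inv_mul_cancel_right (e * d * e⁻¹) d]
      exact mul_mem (mem_sup_right h1) (mem_sup_left (mem_zpowers d))
    · exact mem_sup_right (h.cjz hv (h.EH he))
  have hN : ∀ k ∈ C1 y, k ∈ C1 (zf x) → k ∈ normalizer ((normalizer ((zpowers d ⊔ zpowers (zf x) : Subgroup G) :
      Set G) : Subgroup G) : Set G) := fun k k1 k2 => le_normalizer (centralizer_le_normalizer _ fun u hu =>
    mem_c.1 (sup_le (zpowers_le.2 (mem_c.2 (mem_c.1 (c.zc k1)).symm)) (zpowers_le.2 (mem_c.2 (mem_c.1 k2).symm)) hu))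
  have AK := h.t.le_K (x_mem x y)
  have Ay := h.t.le_K (y_mem x y)
  have cong : ∀ {a b : G}, zpowers a = zpowers b → C1 a = C1 b := fun e => by rw [← cent_zp, e, cent_zp]
  have bad : ∀ a ∈ AA x y, a ∉ zpowers x → a ∉ zpowers y →
      ¬ E ⊓ C1 a ≤ normalizer ((zpowers d ⊔ zpowers (zf x) : Subgroup G) : Set G) := fun a ha ax ay h1 => by
    obtain ⟨k, k1, k2, k3⟩ := h.t.pk_inv h.al
    have h3 : ∀ {k b : G}, k ∈ C1 y → k ∈ N1 x → E ⊓ C1 b ≤ normalizer ((zpowers d ⊔ zpowers (zf x) : Subgroup G) :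
        Set G) → E ⊓ C1 (k * b * k⁻¹) ≤ normalizer ((zpowers d ⊔ zpowers (zf x) : Subgroup G) : Set G) :=
      fun {k b} k1 k2 h3 u hu => (mem_normalizer_iff.1 (inv_mem (hN k k1 (h.NH k2))) u).2
        (h3 ⟨(mem_normalizer_iff.1 (inv_mem (h.NE k2)) u).1 hu.1, by
          simpa [mul_assoc] using conj_mem_c (g := k⁻¹) hu.2⟩)
    have h4 : k * (y * x) * k⁻¹ = y * x⁻¹ := by rw [cm, k3, mem_c.1 k1, mul_inv_cancel_right]
    have h5 : k * (y * x⁻¹) * k⁻¹ = y * x := by rw [cm, ← conj_inv, k3, mem_c.1 k1, mul_inv_cancel_right, inv_inv]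
    have h6 : E ⊓ C1 (y * x) ≤ normalizer ((zpowers d ⊔ zpowers (zf x) : Subgroup G) : Set G) := by
      rcases h.t.lines ha fun e => ax (e ▸ one_mem _) with e | e | e | e
      · exact absurd (e ▸ mem_zpowers a) ax
      · exact absurd (e ▸ mem_zpowers a) ay
      · exact cong e ▸ h1
      · exact h5 ▸ h3 k1 k2 (cong e ▸ h1)
    have h7 : E ≤ normalizer ((zpowers d ⊔ zpowers (zf x) : Subgroup G) : Set G) :=
      h.t.gen2 (AK.trans h.KE) h.E2 fun b hb b1 => by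
        rcases h.t.lines hb b1 with e | e | e | e <;> rw [cong e]
        · exact fun u hu => le_normalizer (mem_sup_right (h.infK hu.1 hu.2))
        · exact fun u hu => (hD u hu.1).2 (by
            rw [commutatorElement_eq_one_iff_mul_comm.2 (mem_c.1 (c.zc hu.2))]; exact one_mem _)
        · exact h6
        · exact h4 ▸ h3 k1 k2 h6
    exact h.al.zf_not h.ds h.t (h.faith dK d2 fun u hu => by
      rw [← commutatorElement_inv]; exact inv_mem ((hD u hu).1 (h7 hu)))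
  have main : E ⊓ normalizer ((zpowers d ⊔ zpowers (zf x) : Subgroup G) : Set G) ≤
      h.im d dK E (E ⊓ C1 y) le_rfl inf_le_left (le_inf h.ZE zy) := by
    refine h.t.gen2 (fun a ha => inf_normalizer_le_normalizer_inf ⟨h.KE (AK ha), hN a (Ay ha) (h.KH (AK ha))⟩)
      h.E2.to_inf_left fun a ha a1 u hu => ?_
    by_cases ax : a ∈ zpowers x
    · have h1 := h.infK hu.1.1 (cong (Fus.zpowers_eq_of_mem_prime h.t.x3 ax a1) ▸ hu.2)
      exact ⟨1, one_mem _, u, ⟨hu.1.1, zy h1⟩, by simp⟩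
    by_cases ay : a ∈ zpowers y
    · exact ⟨1, one_mem _, u, ⟨hu.1.1, cong (Fus.zpowers_eq_of_mem_prime h.t.y3 ay a1) ▸ hu.2⟩, by simp⟩
    have t := (h.t.of_mem (x_mem x y) h.t.x1 ha ax).1
    have za : zpowers (zf x) ≤ C1 a := zpowers_le.2 (mem_c.2 (mem_c.1 (h.KH t.yK)).symm)
    have da : d ∈ C1 a := mem_c.2 (mem_c.1 (c.zc (Ay ha))).symm
    have xK : x ∈ C1 x := mem_c.2 rfl
    have h1 : h.im d dK (E ⊓ C1 a) (zpowers (zf x)) inf_le_left h.ZE le_rfl ≤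
        E ⊓ normalizer ((zpowers d ⊔ zpowers (zf x) : Subgroup G) : Set G) ⊓ C1 a := by
      rintro _ ⟨f, hf, b, hb, rfl⟩
      have h3 := h.cE' (mem_inf.1 hf).1 dK
      refine mul_mem (mem_inf.2 ⟨mem_inf.2 ⟨h3, (hD _ h3).2 ?_⟩, mul_mem (mul_mem (mul_mem (mem_inf.1 hf).2 da)
        (inv_mem (mem_inf.1 hf).2)) (inv_mem da)⟩) ⟨⟨h.ZE hb, le_normalizer (mem_sup_right hb)⟩, za hb⟩
      have := h.sq' h3
      rwa [show ⁅f, d⁆ * ⁅f, d⁆ = ⁅⁅f, d⁆, d⁆ by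
        simp only [commutatorElement_def, inv_eq_of_mul_eq_one_right d2, mul_inv_rev, inv_inv, mul_assoc]
        rw [← mul_assoc d d, d2, one_mul]] at this
    have h3 : zpowers (zf x) ≤ h.im d dK (E ⊓ C1 a) (zpowers (zf x)) inf_le_left h.ZE le_rfl :=
      fun b hb => ⟨1, one_mem _, b, hb, by simp⟩
    have h4 := h.card8 t h3 (h1.trans (inf_le_inf_right _ inf_le_left)) (by
      rintro _ ⟨f, hf, b, hb, rfl⟩
      exact ⟨x * f * x⁻¹, mem_inf.2 ⟨h.kE xK hf.1, mul_mem (mul_mem t.xK (mem_inf.1 hf).2) (inv_mem t.xK)⟩, b, hb, by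
        rw [cm, conjugate_commutatorElement, ← mem_c.1 dK, h.cz hb (h.KH xK), mul_inv_cancel_right,
          mul_inv_cancel_right]⟩)
    have h5 := h.card8 t (h3.trans h1) (inf_le_inf_right _ inf_le_left) fun u hu =>
      mem_inf.2 ⟨⟨h.kE xK hu.1.1, (mem_normalizer_iff.1 (hN x h.t.xK (h.KH xK)) u).1 hu.1.2⟩,
        mul_mem (mul_mem t.xK (mem_inf.1 hu).2) (inv_mem t.xK)⟩
    have h6 := bad a ha ax ay
    have h7 : ¬ h.im d dK (E ⊓ C1 a) (zpowers (zf x)) inf_le_left h.ZE le_rfl ≤ zpowers (zf x) := fun e =>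
      h6 fun f hf => (hD f hf.1).2 (e ⟨f, hf, 1, one_mem _, (mul_one _).symm⟩)
    obtain ⟨f, hf, b, hb, e⟩ := (eq_of_le_of_card_ge h1 (by
      rw [(h4.resolve_left fun e => h7 e.le).resolve_right fun e => h6 (e.ge.trans (h1.trans
        (inf_le_left.trans inf_le_right))), (h5.resolve_left fun e => h7 (h1.trans e.le)).resolve_right fun e =>
          h6 (e.ge.trans (inf_le_left.trans inf_le_right))])).ge hu
    exact ⟨f, hf.1, b, ⟨h.ZE hb, zy hb⟩, e⟩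
  obtain ⟨f, hf, b, hb, e1⟩ := main ⟨he, (hD e he).2 (by
    have h3 := h.sq' he
    have := mul_mem h2 (inv_mem h3)
    rwa [mul_assoc, h.cz (inv_mem h3) (h.KH dK |> mul_mem (h.EH he)), show e * d * ((e * e)⁻¹ * (e * d)) = ⁅e, d⁆ by
      rw [commutatorElement_def, inv_eq_of_mul_eq_one_right d2]; group] at this)⟩
  have h3 : f⁻¹ * (e * d) * f ∈ C1 y := by
    have h4 := mul_mem (mul_mem c.zx (zy (h.ab (inv_mem hf) hb.1))) (mem_inf.1 hb).2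
    rwa [show d * ⁅f⁻¹, b⁆ * b = f⁻¹ * (e * d) * f by
      rw [e1, mul_assoc _ b, mem_c.1 (c.zc hb.2)]; simp only [commutatorElement_def]; group] at h4
  refine ⟨f, hf, ?_⟩
  calc _ = f * (y * (f⁻¹ * (e * d) * f)) * f⁻¹ := by group
    _ = _ := by rw [← mem_c.1 h3]; group

theorem fix3 {t : G} (ht : t ∈ E ⊔ C1 x) (t2 : t * t ∈ zpowers (zf x)) :
    ∃ u ∈ C1 (zf x) ⊓ normalizer (E : Set G), orderOf u = 3 ∧ u * t = t * u := by
  obtain ⟨e, he, k, hk, rfl⟩ := (Grp.mem_sup_iff_of_le_normalizer h.KE).1 ht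
  by_cases kz : k ∈ zpowers (zf x)
  · exact h.amb'.2 _ (mul_mem he (h.ZE kz))
  have h1 := h.infK (pk_pow_mem he (h.KE hk) (n := 2) (sq (e * k) ▸ h.ZE t2)) (pow_mem hk 2)
  obtain ⟨l, hl, h2⟩ := (h.al.kf x y h.t).inv k hk (sq k ▸ h1) kz _ (h.al.z_mem h.t (y_mem x y) h.t.y1)
    (h.al.zf_not h.ds h.t)
  have h3 : l * (e * k) * l⁻¹ = l * e * l⁻¹ * (l * k * l⁻¹ * zf y) * zf y := by
    rw [mul_assoc _ _ (zf y), mul_assoc _ (zf y), h.al.zf_sq h.t.oy]; group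
  obtain ⟨f, hf, h4⟩ := h.fix0 (mul_mem (h.kE hl he) (h.ZE h2)) (by
    rw [← h3, conj_mul, h.cz t2 (h.KH hl), mul_inv_cancel_right]; exact t2)
  have h5 : ∀ g ∈ C1 x, g ∈ C1 (zf x) ⊓ normalizer (E : Set G) := fun g hg => ⟨h.KH hg, h.KE hg⟩
  have h6 : f ∈ C1 (zf x) ⊓ normalizer (E : Set G) := ⟨h.EH hf, le_normalizer hf⟩
  refine ⟨l⁻¹ * (f * y * f⁻¹) * l⁻¹⁻¹, mul_mem (mul_mem (inv_mem (h5 l hl)) (mul_mem (mul_mem h6 (h5 y h.t.yK))
    (inv_mem h6))) (inv_mem (inv_mem (h5 l hl))), by rw [orderOf_conj', orderOf_conj', h.t.oy], ?_⟩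
  rw [← h3] at h4
  calc _ = l⁻¹ * (f * y * f⁻¹ * (l * (e * k) * l⁻¹)) * l := by group
    _ = _ := by rw [h4]; group

end PH

theorem Al.pk {zf : G → G} {x y : G} (h : Al zf) (hd : Dist zf) (t : Tor x y) {E : Subgroup G}
    (hE : Inv2 x (zf x) E) : Pk x (zf x) E :=
  have p : PH zf x y E := ⟨hE, h, hd, t, fun _ t' => h.card_D hd t' hE, h.card_E hd t hE, h.extra hd t hE,
    fun _ => h.two_of_not_mem hd t⟩
  ⟨hE, fun _ ha _ hb => p.ab ha hb, fun _ => p.sq', p.cE, p.NE, fun _ => p.uniq, p.CE, p.amb'.1,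
    fun _ => p.fix3, fun _ hg _ => p.se hg⟩

end CL.J4.Gu
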