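/-
The elementary abelian group generated by the four hexad groups.
-/
import Cfsg.Agent.Spor.GuBas
import Cfsg.Agent.Fgs.STMain

set_option autoImplicit false

namespace CL.J4.Gu

open Cfsg CL.Spor CL.J4.Rec Subgroup
open scoped commutatorElement

variable {G : Type*} [Group G] [Finite G] {zf : G → G} {x y : G}

/-- The theorems of Burnside and of Smith and Tyrer for subgroups. -/
theorem Tor.st (t : Tor x y) {T : Subgroup G} (hT : Fus.SylIn 3 (AA x y) T)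
    (hc : ∀ n ∈ T, n ∈ normalizer (AA x y : Set G) →
      (∀ a ∈ AA x y, n * a * n⁻¹ = a) ∨ ∀ a ∈ AA x y, n * a * n⁻¹ = a⁻¹) :
    ∃ N : Subgroup G, N ≤ T ∧ ¬ 3 ∣ Nat.card N ∧ T ≤ normalizer (N : Set G) ∧
      ∀ g ∈ T, ∀ a ∈ AA x y, ∃ n ∈ N, ∃ b ∈ AA x y, g * a * g⁻¹ = b * n := by
  have := Fact.mk Nat.prime_three
  by_cases hi : ∃ n ∈ T, ∀ a ∈ AA x y, n * a * n⁻¹ = a⁻¹
  · obtain ⟨n, n1, n2⟩ := hi
    have hn : ∀ g : T, g ∈ normalizer ((hT.toSylow : Subgroup T) : Set T) → (g : G) ∈ normalizer (AA x y : Set G) :=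
      fun g hg => mem_normalizer_fintype fun a ha => (mem_normalizer_iff.1 hg ⟨a, hT.le ha⟩).1 ha
    have H : ST.Hyp hT.toSylow := ⟨⟨⟨fun a b => Subtype.ext (Subtype.ext (t.le_cent b.2 a a.2))⟩⟩,
      fun e => t.not_cyc (by
        have : IsCyclic ((AA x y).subgroupOf T) := e
        exact isCyclic_of_surjective _ (subgroupOfEquivOfLe hT.le).surjective),
      fun g hg => (hc g g.2 (hn g hg)).imp (fun e a ha => Subtype.ext (e a ha)) fun e a ha => Subtype.ext (e a ha),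
      ⟨⟨n, n1⟩, mem_normalizer_fintype fun a ha => (show n * a * n⁻¹ ∈ AA x y from n2 a ha ▸ inv_mem ha),
        fun a ha => Subtype.ext (n2 a ha)⟩⟩
    have h1 := (H.map (QuotientGroup.mk'_surjective (pPrimeCore 3 T))
      (by rw [QuotientGroup.ker_mk']; exact Grp.pPrimeCore_coprime 3 T)).normal (by norm_num) fun N hN hN' =>
        le_bot_iff.1 (Grp.pPrimeCore_quotient_pPrimeCore 3 T ▸ Grp.le_pPrimeCore_of_not_dvd hN')
    refine ⟨(pPrimeCore 3 T).map T.subtype, map_subtype_le _, ?_, fun g hg => mem_normalizer_fintype ?_,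
      fun g hg a ha => ?_⟩
    · rw [card_map_of_injective (subtype_injective _)]
      exact (Nat.Prime.coprime_iff_not_dvd Nat.prime_three).1 (Grp.pPrimeCore_coprime 3 T).symm
    · rintro _ ⟨u, hu, rfl⟩
      exact ⟨_, (pPrimeCore_normal 3 T).conj_mem u hu ⟨g, hg⟩, rfl⟩
    · obtain ⟨b, hb, e⟩ := h1.conj_mem _ ⟨⟨a, hT.le ha⟩, ha, rfl⟩ (QuotientGroup.mk' _ (⟨g, hg⟩ : T))
      rw [← map_inv, ← map_mul, ← map_mul] at e
      exact ⟨_, ⟨_, QuotientGroup.eq.1 e, rfl⟩, b, hb, (mul_inv_cancel_left _ _).symm⟩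
  · have h4 : Grp.IsSylowIn 3 (AA x y) T := ⟨hT.le, hT.isPGroup, hT.not_dvd_relIndex⟩
    obtain ⟨F, f1, f2, f3⟩ := Cit.exists_compl_of_npc (Cit.npc_of_burnside h4 fun g hg gn a ha =>
      (mul_inv_eq_iff_eq_mul.1 (((hc g hg gn).resolve_right fun e => hi ⟨g, hg, e⟩) a ha)).symm)
    refine ⟨F, fun u hu => ((f1 u).1 hu).1, fun e => ?_, le_normalizer.trans f2, fun g hg a ha => ?_⟩
    · obtain ⟨u, hu⟩ := exists_prime_orderOf_dvd_card' 3 e
      have := ((f1 u).1 u.2).2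
      rw [orderOf_coe, hu] at this
      exact absurd this (by norm_num)
    · obtain ⟨k, hk, s, hs, e⟩ := f3 _ h4 _ (mul_mem (mul_mem hg (hT.le ha)) (inv_mem hg))
      exact ⟨s⁻¹ * k * s⁻¹⁻¹, (mem_normalizer_iff.1 (f2 (le_normalizer (inv_mem (hT.le hs)))) k).1 hk, s, hs,
        by rw [e]; group⟩

theorem eq_one_of_pow {a : G} {n : ℕ} (a3 : a ^ 3 = 1) (hn : ¬ 3 ∣ n) (h : a ^ n = 1) : a = 1 :=
  (pow_eq_one_iff_of_coprime ((Nat.Prime.coprime_iff_not_dvd Nat.prime_three).2 hn)).1 ⟨a3, h⟩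

namespace Al

variable (h : Al zf) (t : Tor x y)
include h t

theorem three_le_UU {a : G} (ha : a ∈ AA x y) (a1 : a ≠ 1) {F : Subgroup G} (hF : ¬ 3 ∣ Nat.card F) :
    F ⊓ centralizer (DD (AA x y) : Set G) ⊓ C1 a ≤ UU a (AA x y) := fun c hc => by
  obtain ⟨b, hb, u, hu, rfl⟩ := h.CD t ha a1 c ⟨hc.2, hc.1.2⟩
  have h1 := pow_mul_mem (A_norm_UU t ha hb) hu (Nat.card F)
  rw [show (b * u) ^ Nat.card F = 1 from congrArg Subtype.val (pow_card_eq_one' (x := (⟨_, hc.1.1⟩ : F))), mul_one,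
    inv_mem_iff] at h1
  have h2 := h.U2 t ha a1 _ h1
  rw [← pow_add] at h2
  rwa [eq_one_of_pow (t.a3 hb) (by omega) h2, one_mul]

theorem UU_le_of {a : G} (ha : a ∈ AA x y) (a1 : a ≠ 1) {F : Subgroup G} (hF : AA x y ≤ normalizer (F : Set G))
    (hD : DD (AA x y) ≤ F) {w : G} (w1 : w ∈ F) (w2 : w ∈ UU a (AA x y)) (w3 : w ∉ DD (AA x y)) :
    UU a (AA x y) ≤ F := by
  rw [← h.DD_sup_BB t ha a1] at w2 ⊢
  rw [← SetLike.mem_coe, coe_mul_of_left_le_normalizer_right _ _ (fun d hd => centralizer_le_normalizer _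
    fun u hu => (UU_le' _ _ (BB_le t ha hu) d hd).symm)] at w2
  obtain ⟨d, hd, b, hb, rfl⟩ := w2
  refine sup_le hD (h.BB_irr t ha a1 hF fun e => w3 ?_)
  have : b = 1 := mem_bot.1 (e ▸ mem_inf.2 ⟨hb, (mul_mem_cancel_left (hD hd)).1 w1⟩)
  simpa [this] using hd

theorem com_of_one {a b : G} (ha : a ∈ AA x y) (a1 : a ≠ 1) (hb : b ∈ AA x y) (ba : b ∉ zpowers a)
    (hc : ∀ u ∈ UU a (AA x y), ∀ v ∈ UU b (AA x y), u * v = v * u) : Com (AA x y) := by
  have := Fact.mk Nat.prime_three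
  have key : ∀ {a b c : G}, a ∈ AA x y → a ≠ 1 → b ∈ AA x y → b ∉ zpowers a → c ∈ AA x y → c ∉ zpowers a →
      (∀ u ∈ UU a (AA x y), ∀ v ∈ UU b (AA x y), u * v = v * u) →
      ∀ u ∈ UU a (AA x y), ∀ v ∈ UU c (AA x y), u * v = v * u := fun {a b c} ha a1 hb ba hc ca H u hu v hv => by
    obtain ⟨s, e⟩ := t.of_mem ha a1 hc ca
    obtain ⟨k, k1, k2, k3⟩ := h.move s (e ▸ hb) ba
    rw [e] at k2
    have h1 := UU_conj k2 c v hv
    rw [k3] at h1
    exact ci (g := k) (by rw [cm, cm, H _ ((mem_normalizer_iff.1 (norm_UU k2 (C1_le a k1)) u).1 hu) _ h1])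
  intro c hc' c1 e he e1 u hu v hv
  by_cases h1 : e ∈ zpowers c
  · rw [UU_congr (Fus.zpowers_eq_of_mem_prime (t.a3 hc') h1 e1)] at hv
    exact comm_of_sq (h.U2 t hc' c1) hu hv
  by_cases h2 : c ∈ zpowers a
  · have h3 := Fus.zpowers_eq_of_mem_prime (t.a3 ha) h2 c1
    rw [UU_congr h3] at hu
    exact key ha a1 hb ba he (h3 ▸ h1) hc u hu v hv
  · exact key hc' c1 ha (fun e2 => h2 (Fus.mem_zpowers_symm_of_prime (t.a3 hc') e2 a1)) he h1
      (fun u hu v hv => (key ha a1 hb ba hc' h2 hc v hv u hu).symm) u hu v hv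

theorem not_le_DD {a : G} (ha : a ∈ AA x y) (a1 : a ≠ 1) : ¬ UU a (AA x y) ≤ DD (AA x y) := fun e => by
  have h1 := card_le_of_le e
  have h2 : 0 < Nat.card (DD (AA x y)) := Nat.card_pos
  rw [h.card_UU t ha a1] at h1
  omega

theorem com_of_two {Y : Subgroup G} (h2 : IsPGroup 2 Y) (hC : Y ≤ centralizer (DD (AA x y) : Set G))
    (hA : AA x y ≤ normalizer (Y : Set G)) (hU : ∀ a ∈ AA x y, a ≠ 1 → UU a (AA x y) ≤ Y) : Com (AA x y) := by
  have := Fact.mk Nat.prime_two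
  have := h2.isNilpotent
  have hD := (h.DD_le_UU t (x_mem x y)).trans (hU x (x_mem x y) t.x1)
  have hz : ∀ {k}, k ∈ Y → ∀ {b}, b ∈ DD (AA x y) → k * b * k⁻¹ = b := fun hk b hb => by
    rw [← hC hk b hb, mul_inv_cancel_right]
  let F : Subgroup G :=
    { carrier := {u | u ∈ Y ∧ ∀ v ∈ Y, ⁅u, v⁆ ∈ DD (AA x y)}
      mul_mem' := fun {a b} ha hb => ⟨mul_mem ha.1 hb.1, fun v hv => by
        rw [show ⁅a * b, v⁆ = a * ⁅b, v⁆ * a⁻¹ * ⁅a, v⁆ by simp only [commutatorElement_def]; group,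
          hz ha.1 (hb.2 v hv)]
        exact mul_mem (hb.2 v hv) (ha.2 v hv)⟩
      one_mem' := ⟨one_mem _, fun v _ => by simp⟩
      inv_mem' := fun {a} ha => ⟨inv_mem ha.1, fun v hv => by
        rw [show ⁅a⁻¹, v⁆ = a⁻¹ * ⁅a, v⁆⁻¹ * a⁻¹⁻¹ by simp only [commutatorElement_def]; group,
          hz (inv_mem ha.1) (inv_mem (ha.2 v hv))]
        exact inv_mem (ha.2 v hv)⟩ }
  have hF : AA x y ≤ normalizer (F : Set G) := fun k hk => mem_normalizer_fintype fun u hu =>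
    ⟨(mem_normalizer_iff.1 (hA hk) u).1 hu.1, fun v hv => by
      rw [show ⁅k * u * k⁻¹, v⁆ = k * ⁅u, k⁻¹ * v * k⁻¹⁻¹⁆ * k⁻¹ by simp only [commutatorElement_def]; group]
      exact (mem_normalizer_iff.1 (norm_DD _ (le_normalizer hk)) _).1
        (hu.2 _ ((mem_normalizer_iff.1 (hA (inv_mem hk)) v).1 hv))⟩
  obtain ⟨w, w1, w2, w3⟩ := Grp.exists_mem_notMem_commutator_mem_in (H := Y) (A := DD (AA x y)) le_rfl le_normalizer
    fun e => h.not_le_DD t (x_mem x y) t.x1 ((hU x (x_mem x y) t.x1).trans e)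
  obtain ⟨a, ha, a1, v, v1, v2⟩ : ∃ a ∈ AA x y, a ≠ 1 ∧ ∃ v ∈ F ⊓ C1 a, v ∉ DD (AA x y) := by
    by_contra! e
    exact w2 (t.gen2 hF (h2.to_le fun _ hu => hu.1) e ⟨w1, w3⟩)
  have h3 := h.UU_le_of t ha a1 hF (fun d hd => ⟨hD hd, fun v hv => by
    rw [commutatorElement_eq_one_iff_mul_comm.2 (hC hv d hd)]; exact one_mem _⟩) v1.1
    (h.two_le_UU t ha a1 h2 ⟨⟨v1.1.1, hC v1.1.1⟩, v1.2⟩) v2
  obtain ⟨b, s, e⟩ := t.exists_tor ha a1
  have hb : b ∈ AA x y := e ▸ y_mem a b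
  refine h.com_of_one t ha a1 hb s.yx fun u hu v hv => commutatorElement_eq_one_iff_mul_comm.1 ?_
  have hv' := fun v => (mem_normalizer_iff.1 (A_norm_UU t hb ha) v).1
  have f1 : ∀ v ∈ UU b (AA x y), ⁅u, v⁆ ∈ DD (AA x y) := fun v hv => (h3 hu).2 v (hU b hb s.y1 hv)
  have f2 : ∀ v ∈ UU b (AA x y), ∀ w ∈ UU b (AA x y), ⁅u, v * w⁆ = ⁅u, v⁆ * ⁅u, w⁆ := fun v hv w hw => by
    rw [show ⁅u, v * w⁆ = ⁅u, v⁆ * (v * ⁅u, w⁆ * v⁻¹) by simp only [commutatorElement_def]; group,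
      hz (hU b hb s.y1 hv) (f1 w hw)]
  have f3 : ∀ v ∈ UU b (AA x y), ⁅u, a * v * a⁻¹⁆ = ⁅u, v⁆ := fun v hv => by
    have e1 : a * u * a⁻¹ = u := by rw [← mem_c.1 (UU_le _ _ hu), mul_inv_cancel_right]
    rw [← e1, ← conjugate_commutatorElement, e1, DD_le _ (f1 v hv) a ha, mul_inv_cancel_right]
  have f4 : v * (a * v * a⁻¹) * (a * (a * v * a⁻¹) * a⁻¹) ∈ DD (AA x y) :=
    (h.UU_inf t hb s.y1 ha s.symm.yx).le ⟨mul_mem (mul_mem hv (hv' v hv)) (hv' _ (hv' v hv)),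
      mem_c.2 (mul_inv_eq_iff_eq_mul.1 (by
        rw [cm a (v * _), cm a v, show a * (a * (a * v * a⁻¹) * a⁻¹) * a⁻¹ = a ^ 3 * v * (a ^ 3)⁻¹ by
          simp [pow_three, mul_assoc], s.x3, one_mul, inv_one, mul_one, mul_assoc v]
        exact comm_of_sq (h.U2 t hb s.y1) (mul_mem (hv' v hv) (hv' _ (hv' v hv))) hv)).symm⟩
  have f5 := commutatorElement_eq_one_iff_mul_comm.2 (UU_le' _ _ hu _ f4).symm
  rwa [f2 _ (mul_mem hv (hv' v hv)) _ (hv' _ (hv' v hv)), f2 _ hv _ (hv' v hv), f3 _ (hv' v hv), f3 _ hv,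
    h.D2 t _ (f1 v hv), one_mul] at f5

theorem com_of_dist (hd : Dist zf) : Com (AA x y) := by
  have := Fact.mk Nat.prime_three
  obtain ⟨N, n1, n2, n3, n4⟩ := t.st (h.sylD t) fun n n1 n2 => by
    have key : ∀ a ∈ AA x y, a ≠ 1 → n * a * n⁻¹ = a ∨ n * a * n⁻¹ = a⁻¹ := fun a ha a1 => by
      obtain ⟨σ, c⟩ := h.cov a (t.oa ha a1)
      have h1 : n * a * n⁻¹ ∈ zpowers a := by
        by_contra e
        refine hd _ _ (t.of_mem ha a1 ((mem_normalizer_iff.1 n2 a).1 ha) e).1 ?_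
        rw [h.zf_conj n c.ox, ← n1 _ (h.z_mem t ha a1), mul_inv_cancel_right]
      exact c.conj_cases (mem_normalizer_fintype fun _ hu => zpowers_le.2
        (show a ∈ (zpowers a).comap (MulAut.conj n).toMonoidHom from h1) hu)
    have hxy := key _ (mul_mem (x_mem x y) (y_mem x y)) fun e =>
      t.yx (eq_inv_of_mul_eq_one_right e ▸ inv_mem (mem_zpowers x))
    have two : ∀ {a : G}, a ^ 3 = 1 → a⁻¹ = a → a = 1 := fun a3 e =>
      eq_one_of_pow a3 (n := 2) (by norm_num) (by rw [sq, mul_eq_one_iff_eq_inv, e])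
    rw [cm, mul_inv_rev, ← t.comm.inv_inv.eq] at hxy
    have all : ∀ f : G →* G, f x = x → f y = y → ∀ a ∈ AA x y, f a = a := fun f e1 e2 a ha =>
      AA_le (N := f.eqLocus (MonoidHom.id G)) e1 e2 ha
    rcases key x (x_mem x y) t.x1 with e1 | e1 <;> rcases key y (y_mem x y) t.y1 with e2 | e2 <;> rw [e1, e2] at hxy
    · exact Or.inl (all (MulAut.conj n).toMonoidHom e1 e2)
    · exact hxy.elim (fun e => absurd (two t.y3 (mul_left_cancel e)) t.y1)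
        fun e => absurd (two t.x3 (mul_right_cancel e).symm) t.x1
    · exact hxy.elim (fun e => absurd (two t.x3 (mul_right_cancel e)) t.x1)
        fun e => absurd (two t.y3 (mul_left_cancel e).symm) t.y1
    · refine Or.inr fun a ha => ?_
      obtain ⟨i, -, j, -, rfl⟩ := t.mem.1 ha
      rw [cm, ← conj_pow, ← conj_pow, e1, e2, mul_inv_rev, inv_pow, inv_pow, (t.comm.pow_pow i j).inv_inv.eq]
  have hDN : DD (AA x y) ≤ normalizer (N : Set G) := fun d hd' =>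
    n3 fun e he => comm_of_sq (h.D2 t) he hd'
  have h3 : ¬ 3 ∣ Nat.card ↥(DD (AA x y) ⊔ N) := fun e =>
    ((Nat.Prime.dvd_mul Nat.prime_three).1 (e.trans (Grp.card_sup_dvd hDN))).elim
      (not_three (isPGroup_of_sq (h.D2 t))) n2
  have hC : DD (AA x y) ⊔ N ≤ centralizer (DD (AA x y) : Set G) :=
    sup_le (fun d hd' e he => comm_of_sq (h.D2 t) he hd') n1
  have hA : AA x y ≤ normalizer ((DD (AA x y) ⊔ N : Subgroup G) : Set G) := fun a ha =>
    normalizer_inf_normalizer_le_normalizer_sup _ _ ⟨norm_DD _ (le_normalizer ha), n3 ((h.sylD t).le ha)⟩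
  refine h.com_of_two t (t.two hA h3 fun a ha a1 => (isPGroup_of_sq (h.U2 t ha a1)).to_le
    fun u hu => h.three_le_UU t ha a1 h3 ⟨⟨hu.1, hC hu.1⟩, hu.2⟩) hC hA fun a ha a1 => ?_
  rw [← h.DD_sup_BB t ha a1]
  refine sup_le_sup_left (commutator_le.2 fun u hu b hb => ?_) _
  obtain ⟨n, hn, c, hc, e⟩ := n4 u (UU_le' _ _ hu) b hb
  have e1 : ⁅u, b⁆ = (c * b⁻¹) * (b * n * b⁻¹) := by rw [commutatorElement_def, e]; group
  have hn' := (mem_normalizer_iff.1 (n3 ((h.sylD t).le hb)) n).1 hn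
  have hc' := mul_mem hc (inv_mem hb)
  have h1 := pow_mul_mem (n3 ((h.sylD t).le hc')) hn' 2
  rw [← e1, sq ⁅u, b⁆, h.U2 t ha a1 _ (BB_le t ha (commutator_mem_commutator hu hb)), mul_one, inv_mem_iff] at h1
  have h4 : ((c * b⁻¹) ^ 2) ^ Nat.card N = 1 := congrArg Subtype.val (pow_card_eq_one' (x := (⟨_, h1⟩ : N)))
  rw [← pow_mul] at h4
  rwa [e1, eq_one_of_pow (t.a3 hc') (by omega) h4, one_mul]

theorem CU {c : G} (c1 : c ∈ C1 x) (c2 : c ∈ centralizer (UU x (AA x y) : Set G)) :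
    ∃ a ∈ zpowers x, ∃ u ∈ UU x (AA x y), c = a * u := by
  have hx := x_mem x y
  obtain ⟨a, ha, u, hu, rfl⟩ := h.CD t hx t.x1 c ⟨c1, fun d hd => c2 d (h.DD_le_UU t hx hd)⟩
  refine ⟨a, by_contra fun e => h.not_le_DD t hx t.x1 fun v hv => (h.UU_inf t hx t.x1 ha e).le ⟨hv, mem_c.2 ?_⟩,
    u, hu, rfl⟩
  exact (mul_mem_cancel_right (show u ∈ centralizer (UU x (AA x y) : Set G) from
    fun w hw => comm_of_sq (h.U2 t hx t.x1) hw hu)).1 c2 v hv

/-- The centraliser of the hexad group has a normal 3-complement. -/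
theorem cu : ∃ Y : Subgroup G, IsPGroup 2 Y ∧ Y ≤ centralizer (UU x (AA x y) : Set G) ∧
    normalizer (UU x (AA x y) : Set G) ≤ normalizer (Y : Set G) ∧
    centralizer (UU x (AA x y) : Set G) ≤ Y ⊔ zpowers x ∧
    ∀ w ∈ centralizer (UU x (AA x y) : Set G), w * w = 1 → w ∈ Y := by
  have := Fact.mk Nat.prime_three
  have hx := x_mem x y
  obtain ⟨σ, c⟩ := h.cov x t.ox
  have xC : x ∈ centralizer (UU x (AA x y) : Set G) := fun u hu => mem_c.1 (UU_le _ _ hu)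
  have three : ∀ {S : Subgroup G}, IsPGroup 3 S → ∀ s ∈ S, s ∈ C1 x → s ∈ centralizer (UU x (AA x y) : Set G) →
      s ∈ zpowers x := fun hS s s1 s2 s3 => by
    obtain ⟨a, ha, u, hu, rfl⟩ := h.CU t s2 s3
    obtain ⟨n, e⟩ := hS ⟨_, s1⟩
    refine El.mem_of_pow (n := 2) (Nat.Coprime.coprime_dvd_left (orderOf_dvd_of_pow_eq_one (congrArg Subtype.val e))
      (Nat.Coprime.pow_left n (by norm_num))) ?_
    rw [(show Commute a u from (zp_comm ha (UU_le _ _ hu)).symm).mul_pow, sq u, h.U2 t hx t.x1 u hu, mul_one]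
    exact pow_mem ha 2
  have h2 : Fus.SylIn 3 (zpowers x) (centralizer (UU x (AA x y) : Set G)) :=
    ⟨zpowers_le.2 xC, IsPGroup.of_card (n := 1) (by rw [Nat.card_zpowers, t.ox, pow_one]), fun S hS h1 h2 => by
      obtain ⟨⟨s, hs⟩, s1⟩ := ne_bot_iff_exists_ne_one.1 (Grp.inf_centralizer_ne_bot_of_isPGroup (Q := S) (K := S) hS
        le_normalizer (t.ox ▸ Nat.card_zpowers x ▸ card_dvd_of_le h1))
      have h3 := three hS s hs.1 (mem_c.2 (hs.2 x (h1 (mem_zpowers x))).symm) (h2 hs.1)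
      exact fun u hu => three hS u hu (mem_c.2 (zp_comm (Fus.mem_zpowers_symm_of_prime t.x3 h3
        fun e => s1 (Subtype.ext e)) (mem_c.2 (hs.2 u hu)))) (h2 hu)⟩
  have h4 : Grp.IsSylowIn 3 (zpowers x) (centralizer (UU x (AA x y) : Set G)) := ⟨h2.le, h2.isPGroup, h2.not_dvd_relIndex⟩
  suffices hb : ∀ g ∈ centralizer (UU x (AA x y) : Set G), g ∈ normalizer (zpowers x : Set G) →
      g ∈ centralizer (zpowers x : Set G) by
    obtain ⟨F, f1, f2, f3⟩ := Cit.exists_compl_of_npc (Cit.npc_of_burnside h4 hb)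
    have FN : F ≤ centralizer (UU x (AA x y) : Set G) := fun u hu => ((f1 u).1 hu).1
    have h3 : ¬ 3 ∣ Nat.card F := fun e => by
      obtain ⟨u, hu⟩ := exists_prime_orderOf_dvd_card' 3 e
      have := ((f1 u).1 u.2).2
      rw [orderOf_coe, hu] at this
      exact absurd this (by norm_num)
    have hn := (Odd.norm_le_norm_cent (UU x (AA x y))).trans f2
    refine ⟨F, t.two ((A_norm_UU t hx).trans hn) h3 fun a ha a1 => (isPGroup_of_sq (h.U2 t ha a1)).to_le fun u hu =>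
      h.three_le_UU t ha a1 h3 ⟨⟨hu.1, fun d hd => FN hu.1 d (h.DD_le_UU t hx hd)⟩, hu.2⟩, FN, hn, fun u hu => ?_,
      fun w hw w2 => (f1 w).2 ⟨hw, Nat.Coprime.coprime_dvd_left (orderOf_dvd_of_pow_eq_one (n := 2) (by rwa [sq]))
        (by norm_num)⟩⟩
    obtain ⟨k, hk, s, hs, rfl⟩ := f3 _ h4 u hu
    exact mul_mem_sup hk hs
  intro n n1 n2
  rw [cent_zp]
  refine mem_c.2 (mul_inv_eq_iff_eq_mul.1 ((c.conj_cases n2).resolve_right fun e => ?_))
  obtain ⟨r, r1, rA, r2⟩ := h.move t (mul_mem hx (y_mem x y)) fun e => t.yx ((mul_mem_cancel_left (mem_zpowers x)).1 e)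
  have rU := norm_UU rA (C1_le x r1)
  have yU := A_norm_UU t hx (y_mem x y)
  have key : ∀ k ∈ C1 x, k ∈ normalizer (UU x (AA x y) : Set G) → ∃ a ∈ zpowers x, ∃ u ∈ UU x (AA x y),
      n * k * n⁻¹ = a * u * k := fun k k1 k2 => by
    obtain ⟨a, ha, u, hu, e1⟩ := h.CU t (c := n * k * n⁻¹ * k⁻¹)
      (mul_mem ((mem_normalizer_iff.1 (N1_C1 x n2) k).1 k1) (inv_mem k1)) (by
        rw [mul_assoc, mul_assoc, ← mul_assoc k]
        exact mul_mem n1 ((mem_normalizer_iff.1 (Odd.norm_le_norm_cent _ k2) _).1 (inv_mem n1)))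
    exact ⟨a, ha, u, hu, mul_inv_eq_iff_eq_mul.1 e1⟩
  obtain ⟨a, ha, u, hu, e1⟩ := key r r1 rU
  obtain ⟨b, hb, v, hv, e2⟩ := key y t.yK yU
  have e3 : n * (r * y * r⁻¹) * n⁻¹ = n * (x * y) * n⁻¹ := by rw [r2]
  rw [cm n (r * y), cm n r, conj_inv.symm.trans rfl, cm n x, e, e1, e2] at e3
  have a1 : ∀ k ∈ C1 x, a * k * a⁻¹ = k := fun k hk => by rw [← zp_comm ha hk, mul_inv_cancel_right]
  have hK := UU_le x (AA x y)
  have bK := zpowers_le.2 (mem_c.2 (rfl : x * x = x * x)) hb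
  have e4 : u * (r * v * r⁻¹) * (x * y) * u⁻¹ = x⁻¹ * (v * y) := by
    have h5 := a1 (u * r * (b * v * y) * (u * r)⁻¹) (mul_mem (mul_mem (mul_mem (hK hu) r1)
      (mul_mem (mul_mem bK (hK hv)) t.yK)) (inv_mem (mul_mem (hK hu) r1)))
    rw [← mul_left_cancel_iff (a := b), ← r2]
    calc _ = b * (u * r) * (v * y) * (u * r)⁻¹ := by group
      _ = u * r * (b * v * y) * (u * r)⁻¹ := by rw [← zp_comm hb (mul_mem (hK hu) r1)]; group
      _ = x⁻¹ * (b * v * y) := by rw [← h5, ← e3]; group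
      _ = _ := by rw [← mul_assoc, ← mul_assoc, zp_comm hb (inv_mem (mem_c.2 rfl))]; group
  have h6 : x * x ∈ UU x (AA x y) := by
    have h7 : x * x = (u * (r * v * r⁻¹))⁻¹ * (v * (y * u * y⁻¹)) := by
      have c1 := mem_c.1 (mul_mem (hK hu) (hK ((mem_normalizer_iff.1 rU v).1 hv)))
      rw [eq_inv_mul_iff_mul_eq, ← mul_assoc, c1, mul_assoc x, c1]
      calc _ = x * (x * (u * (r * v * r⁻¹)) * y * u⁻¹) * (u * y⁻¹) := by group
        _ = x * (u * (r * v * r⁻¹) * (x * y) * u⁻¹) * (u * y⁻¹) := by rw [← c1]; group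
        _ = _ := by rw [e4]; group
    rw [h7]
    exact mul_mem (inv_mem (mul_mem hu ((mem_normalizer_iff.1 rU v).1 hv)))
      (mul_mem hv ((mem_normalizer_iff.1 yU u).1 hu))
  exact t.x1 (eq_one_of_pow t.x3 (n := 4) (by norm_num) (by
    rw [show 4 = 2 + 2 from rfl, pow_add, sq]; exact h.U2 t hx t.x1 _ h6))

theorem cu_of_not_com (hc : ¬ Com (AA x y)) :
    centralizer (UU x (AA x y) : Set G) ≤ UU x (AA x y) ⊔ zpowers x := by
  have := Fact.mk Nat.prime_three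
  have hx := x_mem x y
  obtain ⟨Y, y1, y2, y3, y4, y5⟩ := h.cu t
  have hA := (A_norm_UU t hx).trans y3
  refine y4.trans (sup_le_sup_right (t.gen2 hA y1 fun a ha a1 w hw => ?_) _)
  have w1 := h.two_le_UU t ha a1 y1 ⟨⟨hw.1, fun d hd => y2 hw.1 d (h.DD_le_UU t hx hd)⟩, hw.2⟩
  by_cases ax : a ∈ zpowers x
  · rwa [← UU_congr (Fus.zpowers_eq_of_mem_prime t.x3 ax a1)]
  refine h.DD_le_UU t hx (by_contra fun e => hc (h.com_of_one t hx t.x1 ha ax fun u hu v hv => ?_))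
  exact y2 (h.UU_le_of t ha a1 hA (fun d hd => y5 d (fun u hu => (UU_le' _ _ hu d hd).symm) (h.D2 t d hd))
    hw.1 w1 e hv) u hu

theorem vs_of_com (hc : Com (AA x y)) : ∃ V, VS (AA x y) V := by
  have := Fact.mk Nat.prime_three
  let V : Subgroup G := closure {u | ∃ a ∈ AA x y, a ≠ 1 ∧ u ∈ UU a (AA x y)}
  have hU : ∀ a ∈ AA x y, a ≠ 1 → UU a (AA x y) ≤ V := fun a ha a1 u hu => subset_closure ⟨a, ha, a1, hu⟩
  have hC : ∀ a ∈ AA x y, a ≠ 1 → V ≤ centralizer (UU a (AA x y) : Set G) := fun a ha a1 =>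
    (closure_le _).2 fun v ⟨b, hb, b1, hv⟩ u hu => hc a ha a1 b hb b1 u hu v hv
  have hV : V ≤ centralizer (V : Set G) :=
    (closure_le _).2 fun u ⟨a, ha, a1, hu⟩ v hv => (hC a ha a1 hv u hu).symm
  have V2 : ∀ v ∈ V, v * v = 1 := fun v hv => by
    induction hv using closure_induction with
    | mem u hu => obtain ⟨a, ha, a1, hu⟩ := hu; exact h.U2 t ha a1 u hu
    | one => simp
    | mul u v hu hv e1 e2 => rw [mul_assoc, ← mul_assoc v, hV hu v hv, mul_assoc, e2, mul_one, e1]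
    | inv u _ e => rw [← mul_inv_rev, e, inv_one]
  have h2 := isPGroup_of_sq V2
  have inf : ∀ a ∈ AA x y, a ≠ 1 → V ⊓ C1 a = UU a (AA x y) := fun a ha a1 => le_antisymm
    (fun u hu => h.two_le_UU t ha a1 h2 ⟨⟨hu.1, fun d hd => hC a ha a1 hu.1 d (h.DD_le_UU t ha hd)⟩, hu.2⟩)
    (le_inf (hU a ha a1) (UU_le _ _))
  have nA : normalizer (AA x y : Set G) ≤ normalizer (V : Set G) := fun g hg => mem_normalizer_fintype fun u hu =>
    (closure_le (V.comap (MulAut.conj g).toMonoidHom)).2 (by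
      rintro u ⟨a, ha, a1, hu⟩
      exact hU _ ((mem_normalizer_iff.1 hg a).1 ha) (fun e => a1 (conj_eq_one_iff.1 e)) (UU_conj hg a u hu)) hu
  have cop : ∀ a ∈ AA x y, a ≠ 1 → ∀ F : Subgroup G, F ≤ V → (Nat.card (zpowers a)).Coprime (Nat.card F) :=
    fun a ha a1 F hF => by
      rw [Nat.card_zpowers, t.oa ha a1]
      exact (Nat.Prime.coprime_iff_not_dvd Nat.prime_three).2 (not_three (h2.to_le hF))
  have W0 : ∀ a ∈ AA x y, a ≠ 1 → ⁅V, zpowers a⁆ ⊓ C1 a = ⊥ := fun a ha a1 => by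
    have : IsMulCommutative V := ⟨⟨fun u v => Subtype.ext (hV v.2 u u.2)⟩⟩
    have h1 := zpowers_le.2 (nA (le_normalizer ha))
    rw [← le_bot_iff, ← Grp.inf_centralizer_inf_commutator_eq_bot h1 (cop a ha a1 V le_rfl), cent_zp]
    exact le_inf (inf_le_inf_right _ (le_normalizer_iff_commutator_le_left.1 h1)) inf_le_left
  have WB : ∀ a ∈ AA x y, a ≠ 1 → ∀ b ∈ AA x y, b ∉ zpowers a → ⁅V, zpowers a⁆ ⊓ C1 b = BB b (AA x y) :=
    fun a ha a1 b hb ba => by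
    have b1 : b ≠ 1 := fun e => ba (e ▸ one_mem _)
    have hB := (BB_le t hb).trans (hU b hb b1)
    have h1 := Grp.commutator_sup_centralizer_eq (zpowers_le.2 (A_norm_BB t hb ha)) (cop a ha a1 _ hB)
      (Or.inl inferInstance)
    rw [cent_zp, h.BB0 t hb b1 ha (t.of_mem ha a1 hb ba).1.symm.yx, sup_bot_eq] at h1
    have h3 : BB b (AA x y) ≤ ⁅V, zpowers a⁆ := h1.ge.trans (commutator_mono hB le_rfl)
    refine le_antisymm (fun w hw => ?_) (le_inf h3 ((BB_le t hb).trans (UU_le _ _)))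
    have w2 := (inf b hb b1).le ⟨le_normalizer_iff_commutator_le_left.1 (zpowers_le.2 (nA (le_normalizer ha))) hw.1, hw.2⟩
    rw [← h.DD_sup_BB t hb b1, ← SetLike.mem_coe, coe_mul_of_left_le_normalizer_right _ _ (fun d hd =>
      centralizer_le_normalizer _ fun u hu => (UU_le' _ _ (BB_le t hb hu) d hd).symm)] at w2
    obtain ⟨d, hd, u, hu, rfl⟩ := w2
    have : d = 1 := mem_bot.1 (W0 a ha a1 ▸ mem_inf.2 ⟨(mul_mem_cancel_right (h3 hu)).1 hw.1,
      mem_c.2 (DD_le _ hd a ha).symm⟩)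
    simpa [this] using hu
  refine ⟨V, V2, inf, fun a ha a1 => ?_, nA, fun a ha a1 => ?_, W0, WB⟩
  · obtain ⟨b, s, e⟩ := t.exists_tor ha a1
    obtain ⟨Y, y1, y2, y3, -, y5⟩ := h.cu s
    rw [e] at y2 y3 y5
    rwa [show V = Y from le_antisymm (fun v hv => y5 v (hC a ha a1 hv) (V2 v hv))
      (t.gen2 ((A_norm_UU t ha).trans y3) y1 fun c hc c1 w hw => hU c hc c1 (h.two_le_UU t hc c1 y1
        ⟨⟨hw.1, fun d hd => y2 hw.1 d (h.DD_le_UU t ha hd)⟩, hw.2⟩))]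
  · obtain ⟨b, s, e⟩ := t.exists_tor ha a1
    have hb : b ∈ AA x y := e ▸ y_mem a b
    have key : ∀ c ∈ AA x y, c ∉ zpowers a → Nat.card ↥(⁅V, zpowers a⁆ ⊓ C1 c) = 4 := fun c hc ca => by
      rw [WB a ha a1 c hc ca, h.card_BB t hc fun e => ca (e ▸ one_mem _)]
    have hn := zpowers_le.2 (nA (le_normalizer ha))
    rw [s.cube (h2.to_le (le_normalizer_iff_commutator_le_left.1 hn)) (e ▸ fun c hc =>
      Grp.le_normalizer_commutator' (le_normalizer.trans nA) ((t.le_K ha).trans (C1_le a)) hc) (W0 a ha a1),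
      key b hb s.yx, key _ (mul_mem hb ha) fun e => s.yx ((mul_mem_cancel_right (mem_zpowers a)).1 e),
      key _ (mul_mem hb (inv_mem ha)) fun e => s.yx ((mul_mem_cancel_right (inv_mem (mem_zpowers a))).1 e)]

end Al

end CL.J4.Gu
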