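/-
A 2-subgroup of `C(z)` normalised by `C(x)`, from the elementary abelian group `V`.
-/
import Cfsg.Agent.Spor.GuBas
import Cfsg.Agent.Grp.Primitive

set_option autoImplicit false

namespace CL.J4.Gu

open Cfsg CL.Spor CL.J4.Rec Subgroup
open scoped commutatorElement

variable {G : Type*} [Group G]

namespace GW

theorem cz {z g c : G} (hg : g ∈ C1 z) (hc : c ∈ zpowers z) : g * c * g⁻¹ ∈ zpowers z := by
  rw [zp_comm hc hg, mul_inv_cancel_right]; exact hc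

theorem two_of_gen {z : G} (z2 : z * z = 1) {T : Set G} (h1 : ∀ a ∈ T, a ∈ C1 z)
    (h2 : ∀ a ∈ T, a * a ∈ zpowers z) (h3 : ∀ a ∈ T, ∀ b ∈ T, ⁅a, b⁆ ∈ zpowers z) : IsPGroup 2 (closure T) := by
  have hE : closure T ≤ C1 z := (closure_le _).2 h1
  have s0 : ∀ a : G, (∀ b ∈ T, ⁅a, b⁆ ∈ zpowers z) → ∀ e ∈ closure T, ⁅a, e⁆ ∈ zpowers z := fun a ha e he => by
    induction he using closure_induction with
    | mem b hb => exact ha b hb
    | one => simp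
    | mul e f he _ i1 i2 =>
      rw [show ⁅a, e * f⁆ = ⁅a, e⁆ * (e * ⁅a, f⁆ * e⁻¹) by simp only [commutatorElement_def]; group]
      exact mul_mem i1 (cz (hE he) i2)
    | inv e he i1 =>
      rw [show ⁅a, e⁻¹⁆ = e⁻¹ * ⁅a, e⁆⁻¹ * e⁻¹⁻¹ by simp only [commutatorElement_def]; group]
      exact cz (inv_mem (hE he)) (inv_mem i1)
  have s1 : ∀ e ∈ closure T, ∀ f ∈ closure T, ⁅e, f⁆ ∈ zpowers z := fun e he =>
    s0 e fun b hb => by rw [← commutatorElement_inv]; exact inv_mem (s0 b (h3 b hb) e he)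
  have s2 : ∀ e ∈ closure T, e * e ∈ zpowers z := fun e he => by
    induction he using closure_induction with
    | mem b hb => exact h2 b hb
    | one => simp
    | mul e f he hf i1 i2 =>
      rw [show e * f * (e * f) = e * e * ⁅e⁻¹, f⁆ * (f * f) by simp only [commutatorElement_def]; group]
      exact mul_mem (mul_mem i1 (s1 _ (inv_mem he) _ hf)) i2
    | inv e _ i1 => rw [← mul_inv_rev]; exact inv_mem i1
  intro e
  refine ⟨2, Subtype.ext ?_⟩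
  obtain ⟨n, hn⟩ := s2 e e.2
  have : (e : G) ^ 2 ^ 2 = (z * z) ^ n := by
    rw [(Commute.refl z).mul_zpow]
    simp only at hn
    rw [hn, show 2 ^ 2 = 2 + 2 from rfl, pow_add, pow_two]
  simpa [z2] using this

theorem c1_inv (b : G) : C1 b⁻¹ = C1 b := by rw [← cent_zp, ← cent_zp, zpowers_inv]

theorem cj_mem {W : Subgroup G} {g b u : G} (hg : g ∈ normalizer (W : Set G)) (hu : u ∈ W ⊓ C1 b) :
    g * u * g⁻¹ ∈ W ⊓ C1 (g * b * g⁻¹) := ⟨(mem_normalizer_iff.1 hg u).1 hu.1, conj_mem_c hu.2⟩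

variable [Finite G]

theorem card_le {W : Subgroup G} {g : G} (hg : g ∈ normalizer (W : Set G)) (b : G) :
    Nat.card ↥(W ⊓ C1 b) ≤ Nat.card ↥(W ⊓ C1 (g * b * g⁻¹)) :=
  Nat.card_le_card_of_injective (fun u => ⟨g * u * g⁻¹, cj_mem hg u.2⟩) fun _ _ e =>
    Subtype.ext (ci (congrArg Subtype.val e))

theorem card_eq {W : Subgroup G} {g : G} (hg : g ∈ normalizer (W : Set G)) (b : G) :
    Nat.card ↥(W ⊓ C1 (g * b * g⁻¹)) = Nat.card ↥(W ⊓ C1 b) := by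
  refine le_antisymm ?_ (card_le hg b)
  have := card_le (inv_mem hg) (g * b * g⁻¹)
  rwa [show g⁻¹ * (g * b * g⁻¹) * g⁻¹⁻¹ = b by group] at this

omit [Finite G] in
theorem cq_of {w Z : Subgroup G} {a k b : G} (ha : a ∈ normalizer (w : Set G)) (hb : b ∈ normalizer (w : Set G))
    (hZ : ∀ c ∈ Z, a⁻¹ * c * a⁻¹⁻¹ ∈ Z) (h : ∀ u ∈ w, ∀ v ∈ w, ⁅u, a * k * b * v * (a * k * b)⁻¹⁆ ∈ Z) :
    ∀ u ∈ w, ∀ v ∈ w, ⁅u, k * v * k⁻¹⁆ ∈ Z := fun u hu v hv => by
  have := hZ _ (h _ ((mem_normalizer_iff.1 ha u).1 hu) _ ((mem_normalizer_iff.1 (inv_mem hb) v).1 hv))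
  rwa [show a⁻¹ * ⁅a * u * a⁻¹, a * k * b * (b⁻¹ * v * b⁻¹⁻¹) * (a * k * b)⁻¹⁆ * a⁻¹⁻¹ = ⁅u, k * v * k⁻¹⁆ by
    simp only [commutatorElement_def]; group] at this

end GW

open GW

variable [Finite G] {zf : G → G} {x y : G}

theorem Al.exists_inv2 (h : Al zf) (hd : Dist zf) (t : Tor x y) {V : Subgroup G} (hV : VS (AA x y) V) :
    ∃ E, Inv2 x (zf x) E := by
  have := Fact.mk Nat.prime_two
  obtain ⟨σ, cv⟩ := h.cov x t.ox
  obtain ⟨y', τ, O, S, D⟩ := h.wf x y t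
  have t' := D.tor
  obtain ⟨σ', cv'⟩ := h.cov y' t'.oy
  have xA := x_mem x y
  set z := zf x with hz
  set d := zf y' with hdd
  set W := ⁅V, zpowers x⁆ with hW
  have z2 : z * z = 1 := h.zf_sq t.ox
  have KN : ∀ {a : G}, C1 a ≤ N1 a := fun {a} g hg => centralizer_le_normalizer _ (by rw [cent_zp]; exact hg)
  have PW : ∀ {g : G}, g ∈ C1 x → g ∈ normalizer (UU x (AA x y) : Set G) → g ∈ normalizer (W : Set G) :=
    fun {g} h1 h2 => Grp.le_normalizer_commutator' (A := zpowers g) (zpowers_le.2 (hV.nU x xA t.x1 h2))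
      (zpowers_le.2 (KN h1)) (mem_zpowers g)
  have xx : x ∈ C1 x := mem_c.2 rfl
  have xU := Al.A_norm_UU t xA xA
  have WV : W ≤ V := le_normalizer_iff_commutator_le_left.1 (zpowers_le.2 (hV.nU x xA t.x1 xU))
  have W2 : ∀ u ∈ W, u * u = 1 := fun u hu => hV.V2 u (WV hu)
  have Wc : ∀ {u v : G}, u ∈ W → v ∈ W → u * v = v * u := comm_of_sq W2
  have W0 : W ⊓ C1 x = ⊥ := hV.W0 x xA t.x1
  have zV : z ∈ V := (hV.inf x xA t.x1).ge (h.DD_le_UU t xA (h.z_mem t xA t.x1)) |>.1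
  have Wz : W ≤ C1 z := fun u hu => mem_c.2 (comm_of_sq hV.V2 (WV hu) zV)
  have xW := PW xx xU
  have yW := PW t.yK (Al.A_norm_UU t xA (y_mem x y))
  have y'W := PW t'.yK D.yU
  have τW := PW D.τK D.τU
  have OW : O ≤ normalizer (W : Set G) := fun o ho => PW (D.OK ho) (D.OU ho)
  have cyx := t.comm.symm
  have hb : y * y' * y⁻¹ = y' * x ∧ y⁻¹ * y' * y⁻¹⁻¹ = y' * x⁻¹ ∨
      y * y' * y⁻¹ = y' * x⁻¹ ∧ y⁻¹ * y' * y⁻¹⁻¹ = y' * x := by
    have k : ∀ s, Commute y s → y * y' * y⁻¹ = y' * s → y⁻¹ * y' * y⁻¹⁻¹ = y' * s⁻¹ := fun s c e => by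
      calc _ = y⁻¹ * (y' * s) * (s⁻¹ * y) := by group
        _ = y⁻¹ * (y * y' * y⁻¹) * (y * s⁻¹) := by rw [e, c.inv_right.eq]
        _ = _ := by group
    exact D.yy.imp (fun e => ⟨e, k x cyx e⟩) fun e => ⟨e, by simpa using k x⁻¹ cyx.inv_right e⟩
  have c4 : Nat.card ↥(W ⊓ C1 y') = 4 ∧ Nat.card ↥(W ⊓ C1 (y' * x)) = 4 ∧ Nat.card ↥(W ⊓ C1 (y' * x⁻¹)) = 4 := by
    have e0 := t'.cube (isPGroup_of_sq W2) (AA_le xW y'W) W0
    have e1 := card_eq yW y'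
    have e2 := card_eq (inv_mem yW) y'
    rw [hV.cW x xA t.x1] at e0
    have e3 : Nat.card ↥(W ⊓ C1 (y' * x)) = Nat.card ↥(W ⊓ C1 y') ∧
        Nat.card ↥(W ⊓ C1 (y' * x⁻¹)) = Nat.card ↥(W ⊓ C1 y') := by
      rcases hb with ⟨a, b⟩ | ⟨a, b⟩ <;> rw [a] at e1 <;> rw [b] at e2
      exacts [⟨e1, e2⟩, ⟨e2, e1⟩]
    rw [e3.1, e3.2] at e0 ⊢
    have : Nat.card ↥(W ⊓ C1 y') = 4 := Nat.pow_left_injective (n := 3) (by norm_num) (by
      simp only [pow_succ, pow_zero, one_mul]; omega)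
    exact ⟨this, this, this⟩
  have dD : d ∈ DD (AA x y') := h.z_mem t' (y_mem x y') t'.y1
  have dz : d ∉ zpowers z := h.zf_not hd t'
  have dc : ∀ g ∈ C1 y', g * d = d * g := fun g hg => h.zf_comm t'.oy (KN hg)
  have τy : τ ∈ N1 y' := mem_normalizer_fintype fun u hu => by
    obtain ⟨n, rfl⟩ := hu
    simp only
    rw [← conj_zpow, D.τy]
    exact zpow_mem (inv_mem (mem_zpowers _)) _
  obtain ⟨g1, g2, g3, g4, g5⟩ := D.gen d dD dz (h.zf_comm t'.oy τy)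
  have xO : x ∈ centralizer (O : Set G) := fun o ho => mem_c.1 (D.OK ho)
  have four : ∀ {b : G}, x ∈ C1 b → Nat.card ↥(W ⊓ C1 b) = 4 → W ⊓ centralizer (O : Set G) ⊓ C1 b ≠ ⊥ →
      W ⊓ C1 b ≤ centralizer (O : Set G) := fun {b} h1 h2 h3 =>
    le_of_four h2 t.x3 (by rw [inf_right_comm, W0, bot_inf_eq])
      (fun u hu => ⟨(mem_normalizer_iff.1 xW u).1 hu.1,
        (C1 b).mul_mem ((C1 b).mul_mem h1 hu.2) ((C1 b).inv_mem h1)⟩)
      (fun u hu => mul_mem (mul_mem xO hu) (inv_mem xO)) (by rwa [inf_right_comm])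
  set w := W ⊓ C1 y' with hw
  have xw : x ∉ centralizer (w : Set G) := fun e => by
    have : w ≤ W ⊓ C1 x := fun u hu => ⟨hu.1, mem_c.2 (e u hu)⟩
    have h4 := c4.1
    rw [le_bot_iff.1 (this.trans W0.le), card_bot] at h4
    cases h4
  have dw : d ∈ centralizer (w : Set G) := fun u hu => dc u hu.2
  have good : w ≤ centralizer (O : Set G) := by
    refine four t'.xK c4.1 fun X0 => ?_
    set X := W ⊓ centralizer (O : Set G) with hX
    have X1 : X ≠ ⊥ := Grp.inf_centralizer_ne_bot_of_isPGroup D.O2 OW (by rw [hV.cW x xA t.x1]; norm_num)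
    have nX : ∀ {g : G}, g ∈ normalizer (W : Set G) → g ∈ normalizer (O : Set G) → g ∈ normalizer (X : Set G) :=
      fun h1 h2 => inf_normalizer_le_normalizer_inf ⟨h1, Odd.norm_le_norm_cent O h2⟩
    have τX := nX τW D.τO
    have τx : τ * x * τ⁻¹ = x := mul_inv_eq_iff_eq_mul.2 (mem_c.1 D.τK)
    have sw : ∀ s, Commute s y' → τ * s * τ⁻¹ = s → X ⊓ C1 (y' * s⁻¹) = ⊥ → X ⊓ C1 (y' * s) = ⊥ := fun s c e h0 => by
      refine eq_bot_iff.2 fun u hu => ?_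
      have h1 := cj_mem τX hu
      rw [cm, D.τy, e, show y'⁻¹ * s = (y' * s⁻¹)⁻¹ by rw [mul_inv_rev, inv_inv, c.inv_right.eq], c1_inv, h0,
        mem_bot] at h1
      exact mem_bot.2 (ci (g := τ) (by rw [h1]; simp))
    have n2 : X ⊓ C1 (y' * x⁻¹) ≠ ⊥ := fun h0 => X1 (eq_bot_iff.2 (t'.gen2
      (AA_le (nX xW (centralizer_le_normalizer _ xO)) (nX y'W D.yO)) ((isPGroup_of_sq W2).to_le inf_le_left)
      fun a ha a1 => by
        rw [← cent_zp]
        rcases t'.lines ha a1 with e | e | e | e <;> rw [e, cent_zp]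
        · rw [← W0]; exact inf_le_inf_right _ inf_le_left
        · exact X0.le
        · exact (sw x t'.comm τx h0).le
        · exact h0.le))
    have n1 : X ⊓ C1 (y' * x) ≠ ⊥ := fun h0 => n2 (sw x⁻¹ t'.comm.inv_left (by rw [← conj_inv, τx]) (by rwa [inv_inv]))
    have f1 := four (b := y' * x) (mem_c.2 (t'.comm.mul_right (Commute.refl x)).eq) c4.2.1 n1
    have f2 := four (b := y' * x⁻¹) (mem_c.2 (t'.comm.mul_right (Commute.refl x).inv_right).eq) c4.2.2 n2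
    have f3 : W ⊓ C1 (y * y' * y⁻¹) ≤ centralizer (O : Set G) ∧
        W ⊓ C1 (y⁻¹ * y' * y⁻¹⁻¹) ≤ centralizer (O : Set G) := by
      rcases hb with ⟨a, b⟩ | ⟨a, b⟩ <;> rw [a, b]
      exacts [⟨f1, f2⟩, ⟨f2, f1⟩]
    refine xw (g2 (centralizer (w : Set G)) (fun o ho u hu => ?_) (fun o ho u hu => ?_) dw xx)
    · have := f3.2 (cj_mem (inv_mem yW) hu) o ho
      calc _ = y * (y⁻¹ * u * y⁻¹⁻¹ * o) * y⁻¹ := by group
        _ = _ := by rw [← this]; group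
    · have := f3.1 (cj_mem yW hu) o ho
      calc _ = y⁻¹ * (y * u * y⁻¹ * o) * y := by group
        _ = _ := by rw [← this]; group
  have Ow : O ≤ centralizer (w : Set G) := fun o ho u hu => (good hu o ho).symm
  have Sw : S ≤ normalizer (w : Set G) := by
    refine g1 _ (Ow.trans (centralizer_le_normalizer _)) ?_ (centralizer_le_normalizer _ fun u hu => mem_c.1 (Wz hu.1))
      (centralizer_le_normalizer _ fun u hu => mem_c.1 hu.2) ?_ (centralizer_le_normalizer _ dw)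
    · exact inf_normalizer_le_normalizer_inf ⟨xW, le_normalizer t'.xK⟩
    · refine mem_normalizer_fintype fun u hu => ?_
      have := cj_mem τW hu
      rwa [D.τy, c1_inv] at this
  set d3 := y * d * y⁻¹ with hd3
  have d3w : d3 ∉ normalizer (w : Set G) := fun e => by
    rcases cv.normal_cases ((g3 _ Sw e).trans (Odd.norm_le_norm_cent w)) with h1 | h1
    · exact D.Oz fun o ho => cv.ker_two (h1 ⟨o, D.OK ho⟩ (Ow ho)) D.O2 ho
    · exact xw (h1 xx)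
  have cP : ∀ k ∈ C1 x ⊓ normalizer (UU x (AA x y) : Set G), ∀ u ∈ w, ∀ v ∈ w, ⁅u, k * v * k⁻¹⁆ = 1 :=
    fun k hk u hu v hv =>
      commutatorElement_eq_one_iff_mul_comm.2 (Wc hu.1 ((mem_normalizer_iff.1 (PW hk.1 hk.2) v).1 hv.1))
  have yA : y ∈ normalizer (AA x y' : Set G) := t'.norm (by rw [cyx.eq, mul_inv_cancel_right]; exact x_mem x y') (by
    rcases D.yy with e | e <;> rw [e]
    exacts [mul_mem (y_mem x y') (x_mem x y'), mul_mem (y_mem x y') (inv_mem (x_mem x y'))])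
  have d3D : d3 ∈ DD (AA x y') := (mem_normalizer_iff.1 (norm_DD _ yA) d).1 dD
  have d3i : d3⁻¹ = d3 := inv_eq_of_mul_eq_one_right (h.D2 t' d3 d3D)
  have d3x : d3 ∈ C1 x := mem_c.2 (DD_le _ d3D x (x_mem x y')).symm
  have d3y : d3 ∈ C1 y' := mem_c.2 (DD_le _ d3D y' (y_mem x y')).symm
  have c5 : ∀ v ∈ w, ∀ v1 ∈ w, Commute (d3 * v * d3⁻¹) (y⁻¹ * v1 * y) := fun v hv v1 hv1 => by
    obtain ⟨a, ha, b, hb, e⟩ := g5
    have h1 := cq_of (Z := ⊥) (Sw ha) (Sw hb) (fun c hc => by simp [mem_bot.1 hc])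
      (fun u hu v hv => mem_bot.2 (cP _ e u hu v hv)) v hv v1 hv1
    have h2 := commutatorElement_eq_one_iff_mul_comm.1 (mem_bot.1 h1)
    have h3 : d3 * v * d3⁻¹ = d3⁻¹ * v * d3 := by rw [d3i]
    rw [h3]
    show _ = _
    calc _ = d3⁻¹ * (v * (d3 * y⁻¹ * v1 * (d3 * y⁻¹)⁻¹)) * d3 := by group
      _ = _ := by rw [h2]; group
  have nm : ∀ u ∈ W, u * (x * u * x⁻¹) * (x⁻¹ * u * x) = 1 := fun u hu => by
    have h1 := (mem_normalizer_iff.1 xW u).1 hu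
    have h2 := (mem_normalizer_iff.1 (inv_mem xW) u).1 hu
    rw [inv_inv] at h2
    refine mem_bot.1 (W0 ▸ ⟨mul_mem (mul_mem hu h1) h2, mem_c.2 ?_⟩)
    have x3 : x * x = x⁻¹ := eq_inv_of_mul_eq_one_left (by rw [← pow_three', t.x3])
    have x3' : x⁻¹ * x⁻¹ = x := by rw [← mul_inv_rev, x3, inv_inv]
    symm
    calc _ = x * u * x⁻¹ * (x * x * u * (x⁻¹ * x⁻¹)) * u * x := by group
      _ = _ := by rw [x3, x3', ← Wc hu (mul_mem h1 h2)]; group
  have c3 : ∀ u ∈ w, ∀ v ∈ w, ⁅u, d3 * v * d3⁻¹⁆ ∈ zpowers z := fun u hu v hv => by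
    have zD : z ∈ DD (AA x y') := h.z_mem t' (x_mem x y') t.x1
    have h1 := (h.kf y' x t'.symm).com z (AA_comm x y' ▸ zD) (h.zf_not hd t'.symm) u ⟨hu.2, Wz hu.1⟩
      (d3 * v * d3⁻¹) (mul_mem (mul_mem ⟨d3y, cv.zc d3x⟩ ⟨hv.2, Wz hv.1⟩) (inv_mem ⟨d3y, cv.zc d3x⟩))
      (W2 u hu.1) (by rw [conj_mul, W2 v hv.1, mul_one, mul_inv_cancel]) (nm u hu.1) (by
        have c : Commute d3 x := mem_c.1 d3x
        calc _ = d3 * v * (d3⁻¹ * x) * d3 * v * (d3⁻¹ * x⁻¹) * (x⁻¹ * d3) * v * (d3⁻¹ * x) := by group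
          _ = d3 * (v * (x * v * x⁻¹) * (x⁻¹ * v * x)) * d3⁻¹ := by
            rw [c.inv_left.eq, c.inv_inv.eq, ← c.inv_right.eq]; group
          _ = 1 := by rw [nm v hv.1]; group)
    rw [← SetLike.mem_coe, coe_mul_of_right_le_normalizer_left _ _ (zpowers_le.2
      (KN (mem_c.2 (comm_of_sq (h.D2 t') dD zD))))] at h1
    obtain ⟨a, ha, b, hb, e⟩ := h1
    simp only at e
    rcases cv'.mem_zp.1 hb with rfl | rfl
    · rw [← e, mul_one]; exact ha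
    · refine absurd (centralizer_le_normalizer _ fun v1 hv1 => ?_) d3w
      have h2 := (mem_normalizer_iff.1 (inv_mem yW) v1).1 hv1.1
      rw [inv_inv] at h2
      have k1 : Commute u (y⁻¹ * v1 * y) := Wc hu.1 h2
      have k2 := c5 v hv v1 hv1
      have k3 : Commute a (y⁻¹ * v1 * y) := (zp_comm ha (Wz h2)).symm
      have k4 : Commute (a * d) (y⁻¹ * v1 * y) := by
        rw [e, commutatorElement_def]
        exact ((k1.mul_left k2).mul_left k1.inv_left).mul_left k2.inv_left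
      have k5 := k3.inv_left.mul_left k4
      rw [inv_mul_cancel_left] at k5
      calc _ = y * (y⁻¹ * v1 * y * d) * y⁻¹ := by rw [hd3]; group
        _ = _ := by rw [← k5.eq, hd3]; group
  have cK : ∀ k ∈ C1 x, ∀ u ∈ w, ∀ v ∈ w, ⁅u, k * v * k⁻¹⁆ ∈ zpowers z := fun k hk => by
    obtain ⟨a, ha, b, hb, e⟩ := g4 k hk
    refine cq_of (Sw ha) (Sw hb) (fun c hc => cz (inv_mem (cv.zc (D.SK ha))) hc) fun u hu v hv => ?_
    rcases e with e | e
    · rw [cP _ e u hu v hv]; exact one_mem _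
    · rw [e]; exact c3 u hu v hv
  let T : Set G := {e | e = z ∨ ∃ k ∈ C1 x, ∃ u ∈ w, e = k * u * k⁻¹}
  have T1 : ∀ a ∈ T, a ∈ C1 z := by
    rintro _ (rfl | ⟨k, hk, u, hu, rfl⟩)
    · exact mem_c.2 rfl
    · exact mul_mem (mul_mem (cv.zc hk) (Wz hu.1)) (inv_mem (cv.zc hk))
  refine ⟨closure T, two_of_gen z2 T1 ?_ ?_, (closure_le _).2 T1, subset_closure (Or.inl rfl), fun e => ?_,
    fun k hk => mem_normalizer_fintype fun u hu =>
      (closure_le ((closure T).comap (MulAut.conj k).toMonoidHom)).2 ?_ hu⟩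
  · rintro _ (rfl | ⟨k, hk, u, hu, rfl⟩)
    · exact mul_mem (mem_zpowers _) (mem_zpowers _)
    · rw [conj_mul, W2 u hu.1, mul_one, mul_inv_cancel]; exact one_mem _
  · intro a ha b hb
    rcases id ha with rfl | ⟨k, hk, u, hu, rfl⟩
    · rw [commutatorElement_eq_one_iff_mul_comm.2 (mem_c.1 (T1 b hb)).symm]; exact one_mem _
    rcases hb with rfl | ⟨l, hl, v, hv, rfl⟩
    · rw [commutatorElement_eq_one_iff_mul_comm.2 (mem_c.1 (T1 _ ha))]; exact one_mem _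
    rw [show ⁅k * u * k⁻¹, l * v * l⁻¹⁆ = k * ⁅u, k⁻¹ * l * v * (k⁻¹ * l)⁻¹⁆ * k⁻¹ by
      simp only [commutatorElement_def]; group]
    exact cz (cv.zc hk) (cK _ (mul_mem (inv_mem hk) hl) u hu v hv)
  · have h1 : w ≤ zpowers z := fun u hu => e (subset_closure (Or.inr ⟨1, one_mem _, u, hu, by simp⟩))
    have h2 := card_le_of_le h1
    rw [c4.1, Nat.card_zpowers] at h2
    rcases cv.oz with h3 | h3 <;> omega
  · rintro _ (rfl | ⟨l, hl, u, hu, rfl⟩)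
    · exact subset_closure (Or.inl (mul_inv_eq_iff_eq_mul.2 (mem_c.1 (cv.zc hk))))
    · exact subset_closure (Or.inr ⟨k * l, mul_mem hk hl, u, hu, by simp [mul_assoc]⟩)

end CL.J4.Gu
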