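/-
3-local recognition of `Co2`: the quotient `C(y) / ⟨y⟩` is a configuration with `N(J) / J = W(B₃)`.
-/
import Cfsg.Agent.Spor.C23Defs
import Cfsg.Agent.Rec.PrLoc
import Cfsg.Agent.Rec.PrE
import Cfsg.Agent.Rec.PrK2

set_option autoImplicit false
set_option maxRecDepth 100000
set_option linter.unusedSectionVars false

namespace CL.C23

open Subgroup CL.Grp CL.TC CL.Amg

theorem h_real : ∀ m ∈ Om, ∃ k ∈ [(1, 3, 9, 27), (2, 3, 37, 49), (3, 1, 9, 27), (6, 1, 39, 49), (9, 1, 3, 27),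
    (13, 1, 35, 42), (18, 1, 35, 50), (26, 1, 3, 27), (31, 1, 3, 17), (35, 1, 13, 42), (37, 1, 9, 16), (39, 1, 6, 49),
    (47, 1, 6, 44), (51, 1, 26, 15), (58, 1, 3, 17), (62, 1, 13, 48), (64, 1, 9, 16), (66, 1, 6, 44), (74, 1, 6, 49),
    (78, 1, 26, 15)], lin k 1 = m ∧ pres k = true := by decide +kernel
theorem h_hyp : ∀ a < 3, ∀ b < 3, ∀ c < 3, ∀ d < 3, ∃ m ∈ Om,
    m < 81 ∧ 3 ∣ a * (m % 3) + (b * (m / 3 % 3) + (c * (m / 9 % 3) + d * (m / 27 % 3))) := by decide +kernel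
theorem h_KB : ∀ a ∈ Om, ∀ b ∈ Om, om (lin (a, b, 0, 27) 31) = true → ∀ c ∈ Om, om (lin (a, b, c, 27) 37) = true →
    om (lin (a, b, c, 27) 39) = true → om (lin (a, b, c, 27) 13) = true →
      (a, b, c) ∈ Prince.KB ∧ a < 27 ∧ b < 27 ∧ c < 27 := by decide +kernel
theorem h_LQ : ∀ n ∈ H43.LQ, ∃ a ∈ [0, 5, 6, 7, 8], ∃ b ∈ [0, 5, 6, 7, 8], H43.M.eqv n (H43.M.mul a b) = true := by
  decide +kernel
theorem h_pres : pres (31, 58, 1, 17) = true := by decide +kernel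

variable {G : Type*} [Group G] [Finite G]

/-- The `3'`-elements centralising `a` and `t` lie in the quaternion group. -/
theorem mem_of_quat (Y : Prince.Bs G) {W K : Subgroup G} (hW : W ≤ centralizer {Y.X.v 43}) (hc : (Nat.card W).Coprime 3)
    (h5 : Y.X.v 5 ∈ K) (h7 : Y.X.v 7 ∈ K) {w : G} (hw : w ∈ W) (e : w * Y.X.E 1 = Y.X.E 1 * w) : w ∈ K := by
  obtain ⟨n, hn, rfl⟩ := Y.X.R.surj w (Y.hH w e)
  have := H43.M.all_spec H43.c_t n hn
  rw [(Y.X.R.cm n _).2 (H43.mem_cent.1 (hW hw))] at this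
  simp only [frc_eq, Bool.not_true, Bool.false_or, Bool.and_eq_true, Bool.or_eq_true, Bool.not_eq_true',
    List.contains_iff_mem] at this
  have h1 : Y.X.v (H43.M.sq (H43.M.sq n)) = 1 := H43.eq_one_of_cube hc
    (by rw [Y.X.R.sq, Y.X.R.sq]; exact mul_mem (mul_mem hw hw) (mul_mem hw hw))
    (by rw [← Y.X.cube, Y.X.eq this.1, Y.X.R.zero])
  obtain ⟨a, ha, b, hb, e'⟩ := h_LQ n (this.2.resolve_left fun h => (Y.X.R.eqv_false _ _).1 h (by rw [h1, Y.X.R.zero]))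
  have key : ∀ a ∈ [0, 5, 6, 7, 8], Y.X.v a ∈ K := fun a ha => by
    simp only [List.mem_cons, List.not_mem_nil, or_false] at ha
    rcases ha with rfl | rfl | rfl | rfl | rfl
    exacts [Y.X.R.zero ▸ one_mem _, h5, (show Y.X.v 6 = _ from Y.X.lt0.inv 4) ▸ inv_mem h5, h7,
      (show Y.X.v 8 = _ from Y.X.lt0.inv 6) ▸ inv_mem h7]
  rw [Y.X.eq e', Y.X.R.mul]
  exact mul_mem (key a ha) (key b hb)

namespace JF

variable (c : JF G)

theorem realO {m : ℕ} (hm : m ∈ Om) : ∃ n ∈ normalizer (c.J : Set G), n * c.z * n⁻¹ = c.E m := by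
  obtain ⟨k, -, e, hk⟩ := h_real m hm
  obtain ⟨n, -, hn⟩ := c.real k hk
  exact ⟨n, c.jc.ac_norm hn, by rw [← c.e1, hn 1 (by omega), e]⟩

theorem sig0 {X : Subgroup G} (hc : (Nat.card X).Coprime 3) (hJ : c.J ≤ normalizer (X : Set G)) {m : ℕ} (hm : m ∈ Om)
    {a : G} (ha : a ∈ X) (e : a * c.E m = c.E m * a) : a = 1 := by
  obtain ⟨n, hn, e'⟩ := c.realO hm
  have h1 : n⁻¹ * a * n * c.z = c.z * (n⁻¹ * a * n) := by
    calc _ = n⁻¹ * (a * (n * c.z * n⁻¹)) * n := by group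
      _ = _ := by rw [e', e, ← e']; group
  have key : ∀ b ∈ c.J, (n⁻¹ * a * n * b * (n⁻¹ * a * n)⁻¹ * b⁻¹) ^ 3 = 1 →
      n⁻¹ * a * n * b = b * (n⁻¹ * a * n) := fun b hb h => by
    have h2 := mul_mem ha ((mem_normalizer_iff.1 (hJ ((mem_normalizer_iff.1 hn b).1 hb)) _).1 (inv_mem ha))
    rw [show a * (n * b * n⁻¹ * a⁻¹ * (n * b * n⁻¹)⁻¹) = n * (n⁻¹ * a * n * b * (n⁻¹ * a * n)⁻¹ * b⁻¹) * n⁻¹ by
      group] at h2
    exact mul_inv_eq_iff_eq_mul.1 (mul_inv_eq_one.1 (conj_eq_one_iff.1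
      (H43.eq_one_of_cube hc h2 (by rw [conj_pow, h, mul_one, mul_inv_cancel]))))
  have h3 := c.jc.J_cube (c.centA _ h1 (key _ (c.e27 ▸ c.jc.mem_J (by omega)) (c.qn _ h1).1)
    (key _ (c.e17 ▸ c.jc.mem_J (by omega)) (c.qn _ h1).2))
  refine H43.eq_one_of_cube hc ha ?_
  rw [show a = n * (n⁻¹ * a * n) * n⁻¹ by group, conj_pow, h3, mul_one, mul_inv_cancel]

/-- `J` normalises no non-trivial `3'`-subgroup. -/
theorem sigG {X : Subgroup G} (hc : (Nat.card X).Coprime 3) (hJ : c.J ≤ normalizer (X : Set G)) : X = ⊥ := by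
  have : IsMulCommutative c.J := ⟨⟨fun a b => Subtype.ext (c.jc.J_comm a.2 b.2)⟩⟩
  refine eq_bot_iff.2 (le_of_forall_cocyclic_centralizer_le hJ (by rw [c.jc.card_J]; exact (hc.pow_right 4).symm)
    fun B hB ⟨a, ha, e⟩ g hg => ?_)
  have hn : c.J ≤ normalizer (B : Set G) := fun n hn => mem_normalizer_fintype fun b hb => by
    rwa [c.jc.J_comm hn (hB hb), mul_inv_cancel_right]
  have := normal_subgroupOf_of_le_normalizer' hn
  have h3 : QuotientGroup.mk' (B.subgroupOf c.J) ⟨a, ha⟩ ^ 3 = 1 := by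
    rw [← map_pow, show (⟨a, ha⟩ : c.J) ^ 3 = 1 from Subtype.ext (c.jc.J_cube ha), map_one]
  have key : ∀ b : c.J, ∃ i < 3,
      QuotientGroup.mk' (B.subgroupOf c.J) b = QuotientGroup.mk' (B.subgroupOf c.J) ⟨a, ha⟩ ^ i := fun b => by
    obtain ⟨d, hd, _, ⟨i, rfl⟩, e'⟩ := (mem_sup_iff_of_le_normalizer ((zpowers_le.2 ha).trans hn)).1 (e.ge b.2)
    refine ⟨(i % 3).toNat, by omega, ?_⟩
    rw [show b = ⟨d, hB hd⟩ * ⟨a, ha⟩ ^ i from Subtype.ext e', map_mul, map_zpow,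
      show QuotientGroup.mk' (B.subgroupOf c.J) ⟨d, hB hd⟩ = 1 from (QuotientGroup.eq_one_iff _).2 hd, one_mul,
      zpow_eq_zpow_emod i (n := 3) (by exact_mod_cast h3), ← zpow_natCast, Int.toNat_of_nonneg (by omega)]
  obtain ⟨i, hi, e1⟩ := key ⟨_, c.jc.mem_J (m := 1) (by omega)⟩
  obtain ⟨j, hj, e2⟩ := key ⟨_, c.jc.mem_J (m := 3) (by omega)⟩
  obtain ⟨k, hk, e3⟩ := key ⟨_, c.jc.mem_J (m := 9) (by omega)⟩
  obtain ⟨l, hl, e4⟩ := key ⟨_, c.jc.mem_J (m := 27) (by omega)⟩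
  obtain ⟨m, hm, hm', t, ht⟩ := h_hyp i hi j hj k hk l hl
  have h4 : QuotientGroup.mk' (B.subgroupOf c.J) ⟨_, c.jc.mem_J hm'⟩ = 1 := by
    rw [show (⟨_, c.jc.mem_J hm'⟩ : c.J) = ⟨_, c.jc.mem_J (m := 1) (by omega)⟩ ^ _ * (⟨_, c.jc.mem_J (m := 3) (by omega)⟩ ^ _ *
      (⟨_, c.jc.mem_J (m := 9) (by omega)⟩ ^ _ * ⟨_, c.jc.mem_J (m := 27) (by omega)⟩ ^ _)) from
      Subtype.ext (c.jc.eq_gen hm')]
    simp only [map_mul, map_pow, e1, e2, e3, e4, ← pow_mul, ← pow_add]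
    rw [ht, pow_mul, h3, one_pow]
  have h5 : c.E m ∈ B := (QuotientGroup.eq_one_iff (N := B.subgroupOf c.J) _).1 h4
  exact c.sig0 hc hJ hm hg.1 (hg.2 _ h5).symm

/-- the centraliser of `y` -/
abbrev Cy : Subgroup G := centralizer {c.y}

theorem zy_comm {a t : G} (ha : a ∈ c.Cy) (ht : t ∈ zpowers c.y) : a * t = t * a := by
  obtain ⟨i, rfl⟩ := ht
  exact (Commute.zpow_right (H43.mem_cent.1 ha) i).eq

instance normal_zy : ((zpowers c.y).subgroupOf c.Cy).Normal :=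
  ⟨fun n hn g => by
    rw [mem_subgroupOf] at hn ⊢
    rwa [coe_mul, coe_mul, c.zy_comm g.2 hn, coe_inv, mul_inv_cancel_right]⟩

/-- the quotient `C(y) / ⟨y⟩` -/
abbrev QY : Type _ := c.Cy ⧸ (zpowers c.y).subgroupOf c.Cy

open scoped Classical in
/-- the quotient map -/
noncomputable def qm (a : G) : c.QY := if h : a ∈ c.Cy then QuotientGroup.mk' _ ⟨a, h⟩ else 1

/-- the preimage of a subgroup -/
def pre (K : Subgroup c.QY) : Subgroup G := (K.comap (QuotientGroup.mk' _)).map c.Cy.subtype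

variable {c}

theorem qm_of {a : G} (h : a ∈ c.Cy) : c.qm a = QuotientGroup.mk' _ ⟨a, h⟩ := dif_pos h

theorem qm_mul {a b : G} (h : a ∈ c.Cy) (h' : b ∈ c.Cy) : c.qm (a * b) = c.qm a * c.qm b := by
  rw [qm_of h, qm_of h', qm_of (mul_mem h h'), ← map_mul]; rfl

theorem qm_inv {a : G} (h : a ∈ c.Cy) : c.qm a⁻¹ = (c.qm a)⁻¹ := by
  rw [qm_of h, qm_of (inv_mem h), ← map_inv]; rfl

theorem qm_pow {a : G} (h : a ∈ c.Cy) (n : ℕ) : c.qm (a ^ n) = c.qm a ^ n := by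
  rw [qm_of h, qm_of (pow_mem h n), ← map_pow]; rfl

theorem qm_cj {a b : G} (h : a ∈ c.Cy) (h' : b ∈ c.Cy) : c.qm (a * b * a⁻¹) = c.qm a * c.qm b * (c.qm a)⁻¹ := by
  rw [qm_mul (mul_mem h h') (inv_mem h), qm_mul h h', qm_inv h]

theorem qm_comm {a b : G} (h : a ∈ c.Cy) (h' : b ∈ c.Cy) (e : a * b = b * a) : c.qm a * c.qm b = c.qm b * c.qm a := by
  rw [← qm_mul h h', ← qm_mul h' h, e]

theorem qm_eq {a b : G} (h : a ∈ c.Cy) (h' : b ∈ c.Cy) (e : c.qm a = c.qm b) : a⁻¹ * b ∈ zpowers c.y := by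
  rw [qm_of h, qm_of h'] at e
  exact (QuotientGroup.eq (s := (zpowers c.y).subgroupOf c.Cy)).1 e

theorem qm_surj (q : c.QY) : ∃ a ∈ c.Cy, c.qm a = q := by
  obtain ⟨a, rfl⟩ := QuotientGroup.mk'_surjective _ q
  exact ⟨a, a.2, qm_of a.2⟩

theorem mem_pre {K : Subgroup c.QY} {a : G} : a ∈ c.pre K ↔ a ∈ c.Cy ∧ c.qm a ∈ K :=
  ⟨fun ⟨b, hb, e⟩ => e ▸ ⟨b.2, (qm_of b.2).symm ▸ hb⟩, fun h => ⟨⟨a, h.1⟩, by
    have := h.2
    rwa [qm_of h.1] at this, rfl⟩⟩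

theorem mem_Cy {a : G} {k : K4} (h : Ac c.E a k) (e : lin k 27 = 27 := by decide) : a ∈ c.Cy :=
  H43.mem_cent.2 (c.e27 ▸ (c.jc.ac_fix h (by omega)).2 e)

theorem E_Cy {m : ℕ} (h : m < 81) : c.E m ∈ c.Cy := mem_Cy (c.jc.ac_J (c.jc.mem_J h))

theorem y3 : c.y ^ 3 = 1 := c.e27 ▸ c.jc.cube (by omega)

theorem qm_y : c.qm c.y = 1 := by
  rw [qm_of (H43.mem_cent.2 rfl)]; exact (QuotientGroup.eq_one_iff _).2 (mem_zpowers _)

theorem acj {a : G} (h : a ∈ c.Cy) {l l' : ℕ} (hl : l < 81) (hl' : l' < 81)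
    (e : c.qm a * c.qm (c.E l) * (c.qm a)⁻¹ = c.qm (c.E l')) : ∃ m ∈ [0, 27, 54], a * c.E l * a⁻¹ = c.E (ad l' m) := by
  rw [← qm_cj h (E_Cy hl)] at e
  have := G23.tri3 y3 (qm_eq (E_Cy hl') (mul_mem (mul_mem h (E_Cy hl)) (inv_mem h)) e.symm)
  rw [← c.e27, ← c.jc.neg (a := 27) (by omega), ← c.jc.zero] at this
  rcases this with e | e | e
  exacts [⟨0, by simp, by rw [c.jc.ad _ hl' _ (by omega), ← e, mul_inv_cancel_left]⟩,
    ⟨27, by simp, by rw [c.jc.ad _ hl' _ (by omega), ← e, mul_inv_cancel_left]⟩,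
    ⟨54, by simp, by rw [c.jc.ad _ hl' _ (by omega), show 54 = sm 2 27 from rfl, ← e, mul_inv_cancel_left]⟩]

theorem u_Cy : c.u ∈ c.Cy := mem_Cy c.au
theorem s_Cy : c.s ∈ c.Cy := mem_Cy c.as
theorem x_Cy : c.x ∈ c.Cy := c.e3 ▸ E_Cy (by omega)
theorem i_Cy : c.i ∈ c.Cy := H43.mem_cent.2 c.yi.symm
theorem j_Cy : c.j ∈ c.Cy := H43.mem_cent.2 c.yj.symm

theorem hl_Cy (n : ℕ) : hl c.u c.x c.i c.j n ∈ c.Cy := by
  have h := mul_mem (mul_mem x_Cy u_Cy) (inv_mem (x_Cy (c := c)))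
  rcases n with _ | _ | _ | _ | _ | _ | _ | _ | _ | _ | n
  exacts [u_Cy, inv_mem u_Cy, h, inv_mem h, i_Cy, inv_mem i_Cy, j_Cy, inv_mem j_Cy, x_Cy, inv_mem x_Cy, one_mem _]

variable (c)

/-- the letters in the quotient -/
noncomputable def ly (n : ℕ) : c.QY := c.qm (hl c.u c.x c.i c.j n)

theorem br_ly : c.ly 0 * c.ly 2 * (c.ly 0)⁻¹ * (c.ly 2)⁻¹ = c.qm (c.E 1) := by
  rw [c.e1, ← c.ux, ly, ly, ← qm_cj (hl_Cy 0) (hl_Cy 2), ← qm_inv (hl_Cy 2),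
    ← qm_mul (mul_mem (mul_mem (hl_Cy 0) (hl_Cy 2)) (inv_mem (hl_Cy 0))) (inv_mem (hl_Cy 2))]
  rfl

theorem exists_X : ∃ X : H43.XC (gen c.ly 10), ∀ n < 10, X.v (n + 1) = c.ly n := by
  have h1 : H43.Lt fun n => (⟨_, hl_Cy n⟩ : c.Cy) := ⟨fun n => Subtype.ext (c.lt.inv n), fun r hr =>
    Subtype.ext ((map_ev c.Cy.subtype _ r).trans (c.lt.rel r hr))⟩
  have h2 : H43.Lt c.ly := by
    have := h1.map (QuotientGroup.mk' ((zpowers c.y).subgroupOf c.Cy))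
    simp only [← qm_of] at this
    exact this
  have h0 : c.ly 0 * c.ly 2 ≠ c.ly 2 * c.ly 0 := fun e => by
    have := c.br_ly
    rw [e, mul_inv_cancel_right, mul_inv_cancel] at this
    obtain ⟨m, hm, e'⟩ := acj (one_mem _) (l := 1) (l' := 27) (by omega) (by omega) (by
      rw [← this, mul_one, mul_inv_cancel, c.e27, qm_y])
    rw [one_mul, inv_one, mul_one] at e'
    exact absurd (c.jc.inj (by omega) (ad_lt _ _) e') (by revert hm; clear * -; decide +revert)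
  obtain ⟨v, R, hv⟩ := h2.exists_rep h0 (fun i hi => mem_gen _ hi) (h2.card_gen h0)
  exact ⟨⟨v, R⟩, hv⟩

variable {c} {X : H43.XC (gen c.ly 10)} (hX : ∀ n < 10, X.v (n + 1) = c.ly n)
include hX

theorem XE {m : ℕ} (hm : m < 27) : X.E m = c.qm (c.E m) := by
  have e1 : X.E 1 = c.qm (c.E 1) := by rw [X.E1, hX 0 (by omega), hX 2 (by omega), c.br_ly]
  have e3 : X.E 3 = c.qm (c.E 3) := by rw [X.E3, hX 8 (by omega), c.e3]; rfl
  have e9 : X.E 9 = c.qm (c.E 9) := by rw [X.E9, hX 0 (by omega), hX 8 (by omega), c.e9, qm_cj u_Cy x_Cy]; rfl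
  have h1 : ∀ n < 81, ∀ i, c.E n ^ i ∈ c.Cy := fun n hn i => pow_mem (E_Cy hn) i
  rw [c.jc.eq_gen (m := m) (by omega), show m / 27 % 3 = 0 by omega, pow_zero, mul_one,
    qm_mul (h1 1 (by omega) _) (mul_mem (h1 3 (by omega) _) (h1 9 (by omega) _)),
    qm_mul (h1 3 (by omega) _) (h1 9 (by omega) _), qm_pow (E_Cy (by omega)), qm_pow (E_Cy (by omega)),
    qm_pow (E_Cy (by omega)), ← e1, ← e3, ← e9]
  conv_lhs => rw [← H43.c_lin m hm, X.E_lin (by decide) (by decide) (by decide)]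

theorem acY {a : G} {p q r : ℕ} (hp : p < 27) (hq : q < 27) (hr : r < 27) (h : Ac c.E a (p, q, r, 27)) :
    X.Ac (c.qm a) (p, q, r) := by
  have ha := mem_Cy h (lin_27 (by omega))
  refine X.ac_of hp hq hr ?_ ?_ ?_
  · rw [XE hX (by omega), ← qm_cj ha (E_Cy (by omega)), h 1 (by omega), lin_1 (by omega), XE hX hp]
  · rw [XE hX (by omega), ← qm_cj ha (E_Cy (by omega)), h 3 (by omega), lin_3 (by omega), XE hX hq]
  · rw [XE hX (by omega), ← qm_cj ha (E_Cy (by omega)), h 9 (by omega), lin_9 (by omega), XE hX hr]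

theorem codeY {a : G} (h : a ∈ c.Cy) (hn : a ∈ normalizer (c.J : Set G)) : ∃ k ∈ Prince.KB, X.Ac (c.qm a) k := by
  obtain ⟨⟨p, q, r, s⟩, hk, ha⟩ := c.code a hn
  obtain ⟨⟨h1, -⟩, ⟨⟨hp, hq⟩, hr⟩, hs⟩ := pres_iff.1 hk
  dsimp only at hp hq hr hs
  obtain rfl : s = 27 := (lin_27 hs).symm.trans ((c.jc.ac_fix ha (by omega)).1 (c.e27 ▸ H43.mem_cent.1 h))
  have h2 : ∀ m ∈ Om, om (lin (p, q, r, 27) m) = true := fun m hm => (om_iff _ (lin_lt _ _)).2 (h1 m hm)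
  obtain ⟨k1, k2, k3, k4⟩ := h_KB p (lin_1 hp ▸ h1 1 (by decide)) q (lin_3 hq ▸ h1 3 (by decide))
    (by simpa [lin, sm_zero] using h2 31 (by decide)) r (lin_9 hr ▸ h1 9 (by decide)) (h2 37 (by decide))
    (h2 39 (by decide)) (h2 13 (by decide))
  exact ⟨_, k1, acY hX k2 k3 k4 ha⟩

theorem normY {a : G} (h : a ∈ c.Cy) (hn : c.qm a ∈ normalizer (X.J : Set c.QY)) : a ∈ normalizer (c.J : Set G) := by
  have key : ∀ l < 27, ∃ m < 81, a * c.E l * a⁻¹ = c.E m := fun l hl => by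
    obtain ⟨m, hm, e⟩ := (mem_normalizer_iff.1 hn _).1 (X.mem_J hl)
    rw [XE hX hm, XE hX hl] at e
    obtain ⟨n, -, e'⟩ := acj h (by omega) (by omega) e.symm
    exact ⟨_, ad_lt _ _, e'⟩
  obtain ⟨p, hp, e1⟩ := key 1 (by omega)
  obtain ⟨q, hq, e3⟩ := key 3 (by omega)
  obtain ⟨r, hr, e9⟩ := key 9 (by omega)
  exact c.jc.ac_norm (c.jc.ac_of hp hq hr (s := 27) (by omega) e1 e3 e9
    (by rw [c.e27, H43.mem_cent.1 h, mul_inv_cancel_right]))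

theorem hHY (q : c.QY) (e : q * X.E 1 = X.E 1 * q) : q ∈ gen c.ly 10 := by
  obtain ⟨a, ha, rfl⟩ := qm_surj q
  obtain ⟨m, hm, e'⟩ := acj ha (l := 1) (l' := 1) (by omega) (by omega) (by
    rw [← XE hX (by omega), e, mul_inv_cancel_right])
  obtain rfl : m = 0 := by
    have := c.fus a _ (ad_lt _ _) (c.e1 ▸ e')
    revert hm this; clear * -; decide +revert
  rw [show ad 1 0 = 1 from rfl, c.e1] at e'
  refine (mem_pre.1 ((closure_le (c.pre (gen c.ly 10))).2 ?_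
    (c.cent_y a (mul_inv_eq_iff_eq_mul.1 e') (H43.mem_cent.1 ha)))).2
  rintro _ (rfl | rfl | rfl | rfl | rfl)
  exacts [mem_pre.2 ⟨H43.mem_cent.2 rfl, by rw [qm_y]; exact one_mem _⟩, mem_pre.2 ⟨u_Cy, mem_gen c.ly (i := 0) (by omega)⟩,
    mem_pre.2 ⟨x_Cy, mem_gen c.ly (i := 8) (by omega)⟩, mem_pre.2 ⟨i_Cy, mem_gen c.ly (i := 4) (by omega)⟩,
    mem_pre.2 ⟨j_Cy, mem_gen c.ly (i := 6) (by omega)⟩]

theorem sigY (K : Subgroup c.QY) (hc : (Nat.card K).Coprime 3) (hJ : X.J ≤ normalizer (K : Set c.QY)) : K = ⊥ := by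
  have h1 : (zpowers c.y).relIndex (c.pre K) = Nat.card K := by
    have := relIndex_ker (K.comap (QuotientGroup.mk' _)) (QuotientGroup.mk' ((zpowers c.y).subgroupOf c.Cy))
    rw [map_comap_eq_self_of_surjective (QuotientGroup.mk'_surjective _), QuotientGroup.ker_mk'] at this
    exact (relIndex_comap _ _ _).symm.trans this
  have h2 : ∀ a ∈ c.pre K, ∀ t ∈ zpowers c.y, a * t = t * a := fun a ha t => c.zy_comm (mem_pre.1 ha).1
  obtain ⟨H, k1, k2, -, k3⟩ := exists_complement_in (N := zpowers c.y) (S := c.pre K)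
    (zpowers_le.2 (mem_pre.2 ⟨H43.mem_cent.2 rfl, by rw [qm_y]; exact one_mem _⟩))
    (fun a ha => mem_normalizer_fintype fun t ht => by rwa [h2 a ha t ht, mul_inv_cancel_right])
    (by rw [h1, Nat.card_zpowers, show orderOf c.y = 3 from c.e27 ▸ c.jc.ord (by omega) (by omega)]; exact hc.symm)
  have h0 : ∀ m < 27, c.E m ∈ c.pre X.J := fun m hm => mem_pre.2 ⟨E_Cy (by omega), XE hX hm ▸ X.mem_J hm⟩
  have h3 : c.J ≤ c.pre X.J := c.jc.J_le_of (h0 1 (by omega)) (h0 3 (by omega)) (h0 9 (by omega))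
    (mem_pre.2 ⟨E_Cy (by omega), by rw [c.e27, qm_y]; exact one_mem _⟩)
  have h4 := c.sigG (pPrimeCoreOf_coprime 3 (c.pre K)) (le_trans (fun n hn => mem_normalizer_fintype fun a ha => by
    obtain ⟨n1, n2⟩ := mem_pre.1 (h3 hn)
    obtain ⟨a1, a2⟩ := mem_pre.1 ha
    exact mem_pre.2 ⟨mul_mem (mul_mem n1 a1) (inv_mem n1), qm_cj n1 a1 ▸ (mem_normalizer_iff.1 (hJ n2) _).1 a2⟩)
    (normalizer_le_normalizer_pPrimeCoreOf 3 _))
  have h5 := le_pPrimeCoreOf (p := 3) k1 (k2.ge.trans (sup_le (fun t ht => mem_normalizer_fintype fun a ha => by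
    rwa [← h2 a (k1 ha) t ht, mul_inv_cancel_right]) le_normalizer)) (by rwa [k3, h1])
  rw [h4, le_bot_iff] at h5
  rw [← card_eq_one, ← h1, ← k3, h5, card_bot]

theorem caseY (q : c.QY) (e : q * X.E 4 = X.E 4 * q) : q ∈ normalizer (X.J : Set c.QY) := by
  obtain ⟨a, ha, rfl⟩ := qm_surj q
  obtain ⟨m, hm, e'⟩ := acj ha (l := 4) (l' := 4) (by omega) (by omega) (by
    rw [← XE hX (by omega), e, mul_inv_cancel_right])
  obtain rfl : m = 0 := by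
    by_contra h0
    obtain ⟨n, -, hn⟩ := c.realO (m := ad 4 m) (by revert hm h0; clear * -; decide +revert)
    exact absurd (c.fus (a⁻¹ * n) 4 (by omega) (by
      rw [show a⁻¹ * n * c.z * (a⁻¹ * n)⁻¹ = a⁻¹ * (n * c.z * n⁻¹) * a by group, hn, ← e']; group)) (by decide)
  have h1 : Commute a (c.E 27) := c.e27 ▸ H43.mem_cent.1 ha
  have h2 : Commute a (c.E 31) := (c.jc.ad 4 (by omega) 27 (by omega)) ▸
    Commute.mul_right (mul_inv_eq_iff_eq_mul.1 e') h1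
  have h3 : Commute a (c.E 58) := (c.jc.ad 31 (by omega) 27 (by omega)) ▸ h2.mul_right h1
  obtain ⟨n, -, hn⟩ := c.real _ h_pres
  have key : ∀ l < 81, Commute a (c.E (lin (31, 58, 1, 17) l)) → n⁻¹ * a * n * c.E l = c.E l * (n⁻¹ * a * n) :=
    fun l hl h => by
      rw [← hn l hl] at h
      calc _ = n⁻¹ * (a * (n * c.E l * n⁻¹)) * n := by group
        _ = _ := by rw [h.eq]; group
  have h4 := c.cent_x _ (c.e1 ▸ key 1 (by omega) h2) (c.e3 ▸ key 3 (by omega) h3)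
  have h5 := c.jc.ac_norm hn
  obtain ⟨k, -, hk⟩ := codeY hX ha ((mul_mem_cancel_left (inv_mem h5)).1 ((mul_mem_cancel_right h5).1 h4))
  exact hk.norm

omit hX in
theorem hf (c : JF G) : c.HF := by
  obtain ⟨X, hX⟩ := c.exists_X
  have aρ : Ac c.E (c.σ * c.θ) (2, 6, 18, 27) := c.jc.ac_mulc c.aσ c.aθ _
  have σρ : Commute c.σ (c.σ * c.θ) := Commute.mul_right (Commute.refl _) c.σθ
  have key : ∀ a k, c.σ * a = a * c.σ → Ac c.E a k → lin k 27 = 27 → cp (2, 6, 18, 27) k = cp k (2, 6, 18, 27) →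
      c.qm (c.σ * c.θ) * c.qm a = c.qm a * c.qm (c.σ * c.θ) := fun a k e h e1 e2 =>
    qm_comm (mem_Cy aρ) (mem_Cy h e1) (c.lift (σρ.mul_right e) (Commute.mul_right e σρ) (c.jc.ac_mul aρ h)
      (e2 ▸ c.jc.ac_mul h aρ))
  have v5 : X.v 5 = c.qm c.i := hX 4 (by omega)
  have v7 : X.v 7 = c.qm c.j := hX 6 (by omega)
  have v43 : X.v 43 = c.qm c.r := by rw [X.t_eq, v5, ← qm_mul i_Cy i_Cy]; rfl
  let Y : Prince.Rs c.QY :=
    { H := _, X := X, hH := hHY hX, sig := sigY hX, σ := c.qm (c.σ * c.θ), s := c.qm c.s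
      aσ := acY hX (by omega) (by omega) (by omega) aρ
      as := acY hX (by omega) (by omega) (by omega) c.as
      σr := hX 0 (by omega) ▸ key _ _ c.σu c.au (by decide) (by decide)
      σt := v43 ▸ key _ _ c.σr c.ar (by decide) (by decide)
      σs := key _ _ c.σs c.as (by decide) (by decide)
      code := fun n hn => by
        obtain ⟨a, ha, rfl⟩ := qm_surj n
        exact codeY hX ha (normY hX ha hn) }
  have L := Y.loc
  have E := Y.ec1 L (caseY hX)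
  have q1 : c.s * c.i * c.s⁻¹ ∈ c.Cy := mul_mem (mul_mem s_Cy i_Cy) (inv_mem s_Cy)
  have q2 : c.s * c.j * c.s⁻¹ ∈ c.Cy := mul_mem (mul_mem s_Cy j_Cy) (inv_mem s_Cy)
  constructor
  · have h1 : X.v 5 * (c.qm c.s * X.v 5 * (c.qm c.s)⁻¹) = c.qm c.s * X.v 5 * (c.qm c.s)⁻¹ * X.v 5 := (Y.kmain L E).1
    rw [v5, ← qm_cj s_Cy i_Cy, ← qm_mul i_Cy q1, ← qm_mul q1 i_Cy] at h1
    have h2 := qm_eq (mul_mem q1 i_Cy) (mul_mem i_Cy q1) h1.symm
    have h3 : (c.s * c.i * c.s⁻¹) ^ 4 = 1 := by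
      rw [conj_pow, show c.i ^ 4 = c.i * c.i * (c.i * c.i) by rw [← pow_two c.i, ← pow_add], c.i4, mul_one, mul_inv_cancel]
    have sz : c.s * c.z * c.s⁻¹ = c.x := by rw [← c.e1, ← c.e3]; exact c.as 1 (by omega)
    have sx : c.s * c.x * c.s⁻¹ = c.z := by rw [← c.e1, ← c.e3]; exact c.as 3 (by omega)
    have xq : c.x * (c.s * c.i * c.s⁻¹) * c.x⁻¹ = c.s * c.i * c.s⁻¹ := by
      rw [← sz, conj_mul, c.zi, ← conj_mul, mul_inv_cancel_right]
    have zq : c.z * (c.s * c.i * c.s⁻¹) * c.z⁻¹ = c.s * c.j * c.s⁻¹ := by rw [← c.xi, ← sx]; group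
    simp only [List.forall_mem_cons, List.not_mem_nil, false_imp_iff, implies_true, and_true]
    generalize c.s * c.i * c.s⁻¹ = q at *
    obtain ⟨t, ht⟩ : ∃ t, t = (q * c.i)⁻¹ * (c.i * q) := ⟨_, rfl⟩
    rw [← ht] at h2
    have h4 : c.i * q * c.i⁻¹ = q * t := by
      rw [← mul_inv_cancel_right t c.i, ← c.zy_comm i_Cy h2, ht]; group
    have h5 := congrArg (· ^ 4) h4
    simp only [conj_pow, h3, Commute.mul_pow (c.zy_comm q1 h2), pow_succ t 3, S9R.cube_zp y3 h2, mul_one, one_mul,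
      mul_inv_cancel] at h5
    rw [← h5, mul_one] at h4
    have c1 : Commute c.i q := mul_inv_eq_iff_eq_mul.1 h4
    have c2 := c1.conj c.x
    rw [xq, c.xi] at c2
    have c3 := c1.conj c.z
    have c4 := c2.conj c.z
    rw [zq, c.zi, mul_inv_cancel_right] at c3
    rw [zq, c.zj, mul_inv_cancel_right] at c4
    exact ⟨⟨c1, c3⟩, c2, c4⟩
  · intro a ha hr
    obtain ⟨W, W1, W2, W3, W4⟩ := Y.kW L E
    let M := ((closure {c.i, c.j, c.s * c.i * c.s⁻¹, c.s * c.j * c.s⁻¹}).subgroupOf c.Cy).map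
      (QuotientGroup.mk' ((zpowers c.y).subgroupOf c.Cy))
    have hM : ∀ f ∈ ({c.i, c.j, c.s * c.i * c.s⁻¹, c.s * c.j * c.s⁻¹} : Set G), f ∈ c.Cy → c.qm f ∈ M :=
      fun f hf h => ⟨⟨f, h⟩, subset_closure hf, (qm_of h).symm⟩
    have hV := Y.X.V_cent.trans W3
    have k1 : ∀ w ∈ W, w * X.E 1 = X.E 1 * w → w ∈ M := fun w =>
      mem_of_quat Y.toBs W1 W2 (v5 ▸ hM _ (by simp) i_Cy) (v7 ▸ hM _ (by simp) j_Cy)
    have k2 : ∀ w ∈ W, w ∈ normalizer (X.J : Set c.QY) → w ∈ M := fun w hw e => by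
      have h1 := X.mem_J (m := 1) (by omega)
      refine k1 w hw (mul_inv_eq_iff_eq_mul.1 (mul_inv_eq_one.1 (H43.eq_one_of_cube W2 ?_
        (X.J_cube (mul_mem ((mem_normalizer_iff.1 e _).1 h1) (inv_mem h1))))))
      have := mul_mem hw ((mem_normalizer_iff.1 (hV (Y.X.mem_V (m := 1) (by omega))) _).1 (inv_mem hw))
      rwa [← mul_assoc, ← mul_assoc] at this
    have hW : W ≤ M := Y.le_of_V W2 hV fun l hl w hw e => by
      simp only [List.mem_cons, List.not_mem_nil, or_false] at hl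
      rcases hl with rfl | rfl | rfl | rfl
      · exact k1 w hw e
      · have := mem_of_quat Y.toBs (K := M.comap (MulAut.conj Y.s).toMonoidHom) W1 W2
          (show c.qm c.s * X.v 5 * (c.qm c.s)⁻¹ ∈ M by rw [v5, ← qm_cj s_Cy i_Cy]; exact hM _ (by simp) q1)
          (show c.qm c.s * X.v 7 * (c.qm c.s)⁻¹ ∈ M by rw [v7, ← qm_cj s_Cy j_Cy]; exact hM _ (by simp) q2)
          ((mem_normalizer_iff''.1 (W3 (H43.mem_cent.2 Y.st)) w).1 hw) (by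
            rw [← show _ = Y.X.E 3 from Y.as 1 (by omega)] at e
            calc _ = Y.s⁻¹ * (w * (Y.s * Y.X.E 1 * Y.s⁻¹)) * Y.s := by group
              _ = _ := by rw [e]; group)
        simpa [mul_assoc] using this
      · exact k2 w hw (caseY hX w e)
      · exact k2 w hw (L.c2 7 (by decide) w e)
    have ha' : a ∈ c.Cy := H43.mem_cent.2 ha
    obtain ⟨w, hw, n, hn, e⟩ := (mem_sup_iff_of_le_normalizer (inf_le_left.trans W3)).1
      (W4 (H43.mem_cent.2 (show c.qm a * X.v 43 = X.v 43 * c.qm a from v43 ▸ qm_comm ha' (mem_Cy c.ar) hr)))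
    obtain ⟨f, hf, rfl⟩ := hW hw
    refine ⟨f, hf, normY hX (mul_mem (inv_mem f.2) ha') ?_⟩
    rw [qm_mul (inv_mem f.2) ha', qm_inv f.2, qm_of f.2, e, inv_mul_cancel_left]
    exact hn.2

end JF

end CL.C23
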