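/-
The centraliser `A5` of `J2` in `Co1`.
Generated by tools/pg.
-/
import Cfsg.Agent.Spor.Co1L
import Cfsg.Agent.Spor.Co1M
import Cfsg.Agent.Spor.StdSym
import Cfsg.Agent.Spor.PGCtx

set_option autoImplicit false
set_option maxRecDepth 200000
set_option Elab.async false
set_option linter.unusedVariables false

namespace CL.Spor.CoLA
open CL.PG CL.Spor.Leech CL.Spor.Mon CL.Spor.CoE Cfsg Cfsg.Spor MulAction
open CL.Mx (vec2)
open CL.Pc (pt2)

def P : Par := ⟨15, 16, 4, 2⟩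
theorem hP : P.Ok := by decide
noncomputable def a0 : Net := (.cons 8 (nat_lit 0xd5)
 (.cons 4 (nat_lit 0xd02)
 (.cons 2 (nat_lit 0x1212)
 (.cons 1 (nat_lit 0x5500)
 (.cons 4 (nat_lit 0x404)
 (.cons 8 (nat_lit 0x80)
 .nil))))))
noncomputable def a1 : Net := (.cons 8 (nat_lit 0x9e)
 (.cons 4 (nat_lit 0x101)
 (.cons 2 (nat_lit 0x1221)
 (.cons 1 (nat_lit 0x4141)
 (.cons 2 (nat_lit 0x2222)
 (.cons 4 (nat_lit 0x404)
 (.cons 8 (nat_lit 0x80)
 .nil)))))))
noncomputable def ns0 : List Net := [a0, a1]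
noncomputable def ws : List (List ℕ) :=
  []
noncomputable def ns : List Net := [a0, a1]
noncomputable def D : List (ℕ × List ℕ) := app [] (mkDefs ws 2)
noncomputable def chk : List (List ℕ × List ℕ) → Bool := P.relsB ns
noncomputable def pts : List ℕ :=
  [(nat_lit 0x7f80),
  (nat_lit 0x7878),
  (nat_lit 0x7f8),
  (nat_lit 0x7f8),
  (nat_lit 0x6666),
  (nat_lit 0x5555),
  (nat_lit 0x5555),
  (nat_lit 0x2d2d),
  (nat_lit 0x619e),
  (nat_lit 0x6666),
  (nat_lit 0x19e6),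
  (nat_lit 0x4cb3),
  (nat_lit 0x52ad),
  (nat_lit 0x7f8),
  (nat_lit 0x7f8),
  (nat_lit 0x619e),
  (nat_lit 0),
  (nat_lit 0x7f80),
  (nat_lit 0x5555),
  (nat_lit 0x5555),
  (nat_lit 0x3333),
  (nat_lit 0x4b4b),
  (nat_lit 0x7878),
  (nat_lit 0x619e)]
noncomputable def bA : List ℕ :=
  [0xba000084f82cb6f7449ef744aef744baf08406f74444b82c173febbfb82ca4d000ba70077de01bb2c9a278649d27c28a50efff81804ae8976c4bd82f8560a46238bb6ce7232fa7b4,
  0x3140005b4944514944a2094478462c78408458062c48462c2e9fe8e8062c7c40847540040d71806ba0d3e467fbfee3ca29d097b89e91f18366c50950dc41d16669d3c53174f16e1c]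
noncomputable def bA_i : List ℕ :=
  [0x3a0000c4f82c96f7448ef744a6f744bef08404f74445b82c17bfebbff82ca4f000ba60077de81bb2cda278669d27c38a50ef7f81800ae8974c4bd83f8560ac6238bf6ce7212fa7b5,
  0xb4000fb2e840821ec0121ec206e84042000406e848b21ecc8ff6b0221ec0bb084846f6bec53e80952729cdd5289e603ab7f6849a4071c9291537e942e62d97f1e8485a360ef63f0]
noncomputable def bA_w : List (List ℕ) :=
  [W (nat_lit 0x390dc390e0390b4310d02d094230cc15080300040f01c1d),
  W (nat_lit 0xdc390dc390dc390b0320ac2f0802e0b836050320500d09021)]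
noncomputable def zE2 : Net :=
  (.cons 8 (nat_lit 0x16)
 (.cons 4 (nat_lit 0x40c)
 (.cons 2 (nat_lit 0x3112)
 (.cons 1 (nat_lit 0x4101)
 (.cons 2 (nat_lit 0x2200)
 (.cons 4 (nat_lit 0xc)
 (.cons 8 (nat_lit 0x64)
 .nil)))))))
noncomputable def zK3 : Lk :=
  ⟨zE2, 3, 2, 1⟩

theorem zw0 : (okB CoW.bw CoW.wi bA bA_w && invB bA bA_i) = true := by decide +kernel
theorem zmod1 : modB P pts bA ns0 = true := by decide +kernel
theorem zl4 : zK3.relB CL.Spor.CoLA.P CL.Std.A5.P CL.Spor.CoLA.ns [[0], [2]] [[0], [2]] = true := by decide +kernel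
theorem zl5 : allL (zK3.pl CL.Spor.CoLA.P CL.Std.A5.P CL.Spor.CoLA.ns CL.Std.A5.ns 0) (zp [] [[0], [2]] [[0], [2]]) = true := by decide +kernel
theorem zk6 : allL (keepB P.n P.N) ns0 = true := by decide +kernel
theorem ze7 : extB ns0 ns 2 ws [] = true := by decide +kernel
theorem zn8 : P.netsB ns (mkDefs ws 2) = true := by decide +kernel

variable {G X : Type*} [Group G] [MulAction G X] {e : ℕ → X} {gs : List G}

theorem keep0 : allL (keepB P.n P.N) ns0 = true := zk6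

theorem len {k} (c : Ctx P e gs ns0 [] k) : gs.length = 2 := c.len ze7

theorem ctx0 {k} (c : Ctx P e gs ns0 [] k) : Ctx P e (ext gs ws) ns D chk0 :=
  c.ext rfl ze7 zn8

theorem ctx {k} (c : Ctx P e gs ns0 [] k) {H : Subgroup G} (hF : Faithful e P.n H) (hH : ∀ g ∈ gs, g ∈ H) :
    Ctx P e (ext gs ws) ns D chk :=
  (ctx0 c).withB hF (mem_of_mem_ext hH _)

theorem bA_al : Al bA bA_i := CoW.al.al zw0

theorem c0 : Ctx P (vec2 24 pts) (els bA) ns0 [] chk0 := ctx_of hP bA_al.ok keep0 zmod1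

/-- The letters. -/
noncomputable def gs1 : List Co1 := ext (els bA) ws

theorem rel {Γ Y : Type*} [Group Γ] [MulAction Γ Y] {e' : ℕ → Y} {cs : List Γ} {D₁ D₂ : List (ℕ × List ℕ)}
    {k₁ k₂ : List (List ℕ × List ℕ) → Bool} (c : Ctx CL.Spor.CoLA.P e gs CL.Spor.CoLA.ns D₁ k₁) (c' : Ctx CL.Std.A5.P e' cs CL.Std.A5.ns D₂ k₂)
    (hF : Faithful e' CL.Std.A5.P.n (subW cs [[0], [2]])) :
    RelLe gs [[0], [2]] cs [[0], [2]] :=
  c.relLe (K := zK3) c' hF zl4 (fun (t : ℕ) (ht : t < 1) => match t, ht with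
    | 0, _ => zl5
    | t + 1, h => absurd h (by omega))

theorem com : (PG.allL (fun c => comB c CoL.bL) bA && comB CoM.x5 CoL.bL &&
    CoG.neB (Mx.mul2 24 CoM.x5 (PG.nth 0 bA 0)) (Mx.mul2 24 (PG.nth 0 bA 0) CoM.x5) 60465) = true := by decide +kernel


end CL.Spor.CoLA
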