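/-
Generation of `Co0` and of the stabiliser of a pair of opposite minimal vectors by the diagonal groups of frames.
Data generated by tools/bmk/gen.
-/
import Cfsg.Agent.Spor.Co2M
import Cfsg.Agent.Spor.M24Chain
import Cfsg.Agent.Spor.M24Octad
import Cfsg.Agent.S1565

set_option autoImplicit false
set_option maxRecDepth 100000

namespace CL.BM
open Cfsg Cfsg.Spor CL.Spor CL.Spor.Leech Finset MulAction
open scoped Pointwise

namespace Gn

/-! ### Frames and monomial parts -/

/-- `K` contains the part inside `S` of the diagonal group of the frame of `v`. -/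
def Fr (S K : Subgroup Co0) (v : leechLattice) : Prop :=
  ∀ (g : Co0) (j : GolayPt), g • e8 j = v → ∀ e ∈ Eps, g * e * g⁻¹ ∈ S → g * e * g⁻¹ ∈ K

theorem fr_of {S K : Subgroup Co0} {g : Co0} (j : GolayPt) (hg : ∀ e ∈ Eps, g * e * g⁻¹ ∈ S → g * e * g⁻¹ ∈ K) :
    Fr S K (g • e8 j) := fun k i hk e he => by
  have hn : g⁻¹ * k ∈ Nsub := mem_Nsub_of_one (i := i) (by
    rw [mul_smul, hk, inv_smul_smul]; exact mem_stdCross_iff.2 ⟨j, Or.inl (coe_e8 j)⟩)
  have := hg _ (conj_mem_Eps hn he)
  rwa [show g * (g⁻¹ * k * e * (g⁻¹ * k)⁻¹) * g⁻¹ = k * e * k⁻¹ by group] at this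

/-- The conjugate `n H n⁻¹`. -/
def cj (n : Co0) (H : Subgroup Co0) : Subgroup Co0 := H.comap (MulAut.conj n⁻¹).toMonoidHom

theorem mem_cj {n x : Co0} {H : Subgroup Co0} : x ∈ cj n H ↔ n⁻¹ * x * n ∈ H := by simp [cj]

theorem Fr.cj {S K : Subgroup Co0} {v : leechLattice} (h : Fr S K v) (n : Co0) : Fr (cj n S) (cj n K) (n • v) :=
  fun k i hk e he => by
    have := h (n⁻¹ * k) i (by rw [mul_smul, hk, inv_smul_smul]) e he
    rwa [mem_cj, mem_cj, show n⁻¹ * (k * e * k⁻¹) * n = n⁻¹ * k * e * (n⁻¹ * k)⁻¹ by group]

theorem cj_top (n : Co0) : cj n ⊤ = ⊤ := Subgroup.comap_top _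

theorem cj_cls (n : Co0) (t : leechLattice) : cj n (clsStab t) = clsStab (n • t) := Subgroup.ext fun x => by
  rw [mem_cj, mem_clsStab, mem_clsStab, ← dbl_smul_iff n, smul_sub, ← mul_smul, ← mul_smul,
    show n * (n⁻¹ * x * n) = x * n by group]

theorem cls_neg (t : leechLattice) : clsStab (-t) = clsStab t := Subgroup.ext fun x => by
  rw [mem_clsStab, mem_clsStab, smul_neg]
  exact ⟨fun h => h.neg.of_eq (by abel), fun h => h.neg.of_eq (by abel)⟩

/-- `K` contains the sign changes inside `S`. -/
def E0 (S K : Subgroup Co0) : Prop := ∀ e ∈ Eps, e ∈ S → e ∈ K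

theorem E0.cj {S K : Subgroup Co0} (h : E0 S K) {n : Co0} (hn : n ∈ Nsub) : E0 (cj n S) (cj n K) := fun e he => by
  have := h _ (conj_mem_Eps (inv_mem hn) he)
  rwa [mem_cj, mem_cj, ← inv_inv n, inv_inv n⁻¹]

/-- The permutation parts of the monomial elements of `K`. -/
noncomputable def Lk (K : Subgroup Co0) : Subgroup M24 := (K.subgroupOf Nsub).map nu

theorem nu_mem {K : Subgroup Co0} {g : Co0} (hn : g ∈ Nsub) (hg : g ∈ K) : nu ⟨g, hn⟩ ∈ Lk K := ⟨⟨g, hn⟩, hg, rfl⟩

theorem Lk_cj {K : Subgroup Co0} {n : Co0} (hn : n ∈ Nsub) {σ : M24}
    (h : nu ⟨n, hn⟩ * σ * (nu ⟨n, hn⟩)⁻¹ ∈ Lk (cj n K)) : σ ∈ Lk K := by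
  obtain ⟨g, hg, e⟩ := h
  refine ⟨(⟨n, hn⟩ : Nsub)⁻¹ * g * ⟨n, hn⟩, mem_cj.1 hg, ?_⟩
  rw [map_mul, map_mul, map_inv, e]; group

theorem mem_of_Lk {S K : Subgroup Co0} (h0 : E0 S K) (hK : K ≤ S) {g : Co0} (hn : g ∈ Nsub) (hS : g ∈ S)
    (h : nu ⟨g, hn⟩ ∈ Lk K) : g ∈ K := by
  obtain ⟨k, hk, e⟩ := h
  have h1 : nu (⟨g, hn⟩ * k⁻¹) = 1 := by rw [map_mul, map_inv, e, mul_inv_cancel]
  have h2 := mul_mem (h0 _ (nu_eq_one.1 h1) (mul_mem hS (inv_mem (hK hk)))) hk
  simpa using h2

theorem abs_nu {n : Co0} (hn : n ∈ Nsub) (v : leechLattice) (p : GolayPt) :
    |((n • v : leechLattice) : GolayPt → ℤ) (nu ⟨n, hn⟩ • p)| = |(v : GolayPt → ℤ) p| := by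
  obtain ⟨c, hc, e⟩ := mem_Eps.1 (nu_eq_iff.1 (rfl : nu ⟨n, hn⟩ = _))
  have e' : n = eps c hc * pm (nu ⟨n, hn⟩) := by rw [← e, inv_mul_cancel_right]
  generalize nu ⟨n, hn⟩ = σ at e'
  rw [e', mul_smul, eps_apply, pm_apply_smul]
  split_ifs <;> simp

/-- The support. -/
def sup (v : leechLattice) : Finset GolayPt := univ.filter fun i => (v : GolayPt → ℤ) i ≠ 0

theorem mem_sup {v : leechLattice} {i : GolayPt} : i ∈ sup v ↔ (v : GolayPt → ℤ) i ≠ 0 := by simp [sup]

theorem sup_smul {n : Co0} (hn : n ∈ Nsub) (v : leechLattice) : sup (n • v) = nu ⟨n, hn⟩ • sup v := by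
  ext p
  rw [← inv_smul_mem_iff, mem_sup, mem_sup, ← abs_ne_zero, ← abs_ne_zero (a := (v : GolayPt → ℤ) _), ← abs_nu hn v,
    smul_inv_smul]

theorem sup_neg (v : leechLattice) : sup (-v) = sup v := by ext p; simp [mem_sup]

/-! ### The base frame -/

/-- The vector coded by `c`: 24 entries of 16 bits. -/
def vq (c i : ℕ) : ℤ := Int.subNatNat (Nat.land (Nat.shiftRight c (Nat.mul 16 i)) 65535) 32768

def gT : ℕ := 0x84925128924925109229248844208240824929008845240048a24928240a04240248a24928248805249000a24929048a05048208824944926120924924140020208a45208208a24929000a44249200a24944924120924926140021048a05201240a24929240a45201008824921248844041208a24928048a44009048a24920040845249248824928208a45041240824929200805009248a24921208a04249048824944924130924924140021240a45048040a249049251289249251892449241209249241500449241209249241420449241209249241404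

/-- Four times the matrix of `g0`. -/
def gM (i j : ℕ) : ℤ := Int.subNatNat (Nat.land (Nat.shiftRight gT (Nat.mul 3 (Nat.add (Nat.mul 24 i) j))) 7) 1

theorem gM_check : checkMat gM 4 = true := by decide +kernel

noncomputable def g0 : Co0 := ofMat gM 4 (by norm_num) gM_check

def lamQ : ℕ := 0x800680008000800080008000800280008000800280008000800080008000800080008000800280007ffe800280028002
def eQ : ℕ := 0x800880008000800080008000800080008000800080008000800080008000800080008000800080008000800080008000
def uQ : ℕ := 0x800480008000800080008000800080008000800080008000800080008000800080008000800080008000800080008004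
def vQ : ℕ := 0x80c080b880b080a880a08098809080888080807880708068806080588050804880408038803080288020801880108008

theorem e_eq : (e8 none : GolayPt → ℤ) = vecOf (vq eQ) := by rw [coe_e8]; decide +kernel
theorem u_eq : (leechU : GolayPt → ℤ) = vecOf (vq uQ) := by decide +kernel

/-- The base vector `(6, ±2⁷)`. -/
noncomputable def lam0 : leechLattice := g0 • e8 none

theorem lam_eq : (lam0 : GolayPt → ℤ) = vecOf (vq lamQ) := ofMat_smul_eq _ _ e_eq (by decide +kernel)

theorem sup_lam : sup lam0 = oct0 := by rw [sup, lam_eq]; decide +kernel
theorem sup_U : sup leechU = duad0 := by decide +kernel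

def gB (x y : ℕ → ℤ) : Bool := allBelow (fun i => decide (mulN gM x i = 4 * y i)) 24

/-- A sign change given by a mask. -/
noncomputable def ep (c : ℕ) : Co0 := if h : isCode c = true then monoE c pone h else 1

theorem ep_mem (c : ℕ) : ep c ∈ Eps := by
  unfold ep; split_ifs with h
  · rw [monoE, rep_one.m24_eq, map_one, inv_one, mul_one]; exact eps_mem_Eps ..
  · exact one_mem _

theorem ep_smul {c : ℕ} (hc : isCode c = true) {v : leechLattice} {x : ℕ → ℤ} (hv : (v : GolayPt → ℤ) = vecOf x) :
    ((ep c • v : leechLattice) : GolayPt → ℤ) = vecOf (monoN c pone x) := by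
  rw [ep, dif_pos hc]; exact monoE_smul hc (by decide +kernel) hv

/-- A diagonal element of the base frame. -/
noncomputable def X (c : ℕ) : Co0 := g0 * ep c * g0⁻¹

def xB (c : ℕ) (x : ℕ → ℤ) (y z : ℕ) : Bool :=
  isCode c && inL (vq y) && gB (vq y) x && gB (monoN c pone (vq y)) (vq z)

theorem X_smul {c y z : ℕ} {v : leechLattice} {x : ℕ → ℤ} (hv : (v : GolayPt → ℤ) = vecOf x) (h : xB c x y z = true) :
    ((X c • v : leechLattice) : GolayPt → ℤ) = vecOf (vq z) := by
  simp only [xB, Bool.and_eq_true] at h
  obtain ⟨⟨⟨h1, h2⟩, h3⟩, h4⟩ := h
  have e : g0 • lv (vq y) h2 = v := Subtype.ext ((ofMat_smul_eq _ _ rfl h3).trans hv.symm)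
  rw [X, mul_smul, mul_smul, ← e, inv_smul_smul]
  exact ofMat_smul_eq _ _ (ep_smul h1 rfl) h4

theorem g0_U : g0 • leechU = leechU := Subtype.ext ((ofMat_smul_eq _ _ u_eq (by decide +kernel)).trans u_eq.symm)

def pmU (x : ℕ → ℤ) : Bool :=
  allBelow (fun i => decide (x i = vq uQ i)) 24 || allBelow (fun i => decide (x i = -vq uQ i)) 24

theorem pmU_spec {v : leechLattice} {x : ℕ → ℤ} (hv : (v : GolayPt → ℤ) = vecOf x) (h : pmU x = true) :
    v = leechU ∨ v = -leechU := by
  simp only [pmU, Bool.or_eq_true, allBelow_iff, decide_eq_true_eq] at h
  refine h.imp (fun h => Subtype.ext ?_) fun h => Subtype.ext ?_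
  · rw [hv, u_eq]; exact funext fun p => h _ (gIdx_lt p)
  · rw [hv, AddSubgroup.coe_neg, u_eq]; exact funext fun p => h _ (gIdx_lt p)

theorem mem_SU {g : Co0} : g ∈ clsStab leechU ↔ g • leechU = leechU ∨ g • leechU = -leechU :=
  mem_clsStab_of_lt (by rw [sqNorm_U]; norm_num)

def uB (c : ℕ) : Bool := isCode c && pmU (monoN c pone (vq uQ))

theorem ep_SU {c : ℕ} (h : uB c = true) : ep c ∈ clsStab leechU := by
  rw [uB, Bool.and_eq_true] at h
  exact mem_SU.2 (pmU_spec (ep_smul h.1 u_eq) h.2)

theorem X_SU {c : ℕ} (h : uB c = true) : X c ∈ clsStab leechU :=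
  have h1 : g0 ∈ clsStab leechU := mem_SU.2 (Or.inl g0_U)
  mul_mem (mul_mem h1 (ep_SU h)) (inv_mem h1)

/-- A word `X c * ep d * X c` with permutation part `P` and the intermediate vectors. -/
structure Wd where
  c : ℕ
  d : ℕ
  P : ℕ
  l : List ℕ

def Wd.ok (w : Wd) : Bool :=
  isCode w.d && inM24 w.P && xB w.c (vq eQ) (nth 0 w.l 0) (nth 0 w.l 1) &&
    xB w.c (monoN w.d pone (vq (nth 0 w.l 1))) (nth 0 w.l 2) (nth 0 w.l 3) &&
    anyBelow (fun i => decide (|vq (nth 0 w.l 3) i| = 8)) 24 &&
    xB w.c (vq vQ) (nth 0 w.l 4) (nth 0 w.l 5) &&
    xB w.c (monoN w.d pone (vq (nth 0 w.l 5))) (nth 0 w.l 6) (nth 0 w.l 7) &&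
    allBelow (fun i => decide (|vq (nth 0 w.l 7) (pf w.P i)| = |vq vQ i|)) 24

theorem vQ_inj : ∀ p q : GolayPt, |vecOf (vq vQ) p| = |vecOf (vq vQ) q| → p = q := by decide +kernel

theorem Wd.good {w : Wd} (h : w.ok = true) {K : Subgroup Co0} (h1 : X w.c ∈ K) (h2 : ep w.d ∈ K) : Good (Lk K) w.P := by
  simp only [Wd.ok, Bool.and_eq_true, anyBelow_iff, allBelow_iff, decide_eq_true_eq] at h
  obtain ⟨⟨⟨⟨⟨⟨⟨a1, a2⟩, a3⟩, a4⟩, i, hi, a5⟩, a6⟩, a7⟩, a8⟩ := h
  have b1 := X_smul (ep_smul a1 (X_smul e_eq a3)) a4
  have b2 := X_smul (ep_smul a1 (X_smul (v := lv (vq vQ) (by decide +kernel)) rfl a6)) a7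
  rw [← mul_smul, ← mul_smul] at b1 b2
  have hn : X w.c * ep w.d * X w.c ∈ Nsub := mem_Nsub_of_one (i := none)
    (mem_stdCross_of_abs (j := gPt i) (by rw [sqNorm_smul, sqNorm_e8]) (by rw [b1, vecOf, gIdx_gPt hi]; exact a5))
  have hm := nu_mem hn (mul_mem (mul_mem h1 h2) h1)
  have e : nu ⟨_, hn⟩ = m24 w.P := by
    rw [← inv_mul_eq_one]
    refine Subtype.ext (Equiv.ext fun p => vQ_inj _ _ ?_)
    have c1 := abs_nu hn (lv (vq vQ) (by decide +kernel)) (((nu ⟨_, hn⟩)⁻¹ * m24 w.P) • p)
    rw [b2, ← mul_smul, mul_inv_cancel_left, vecOf, (rep_m24 a2).apply, a8 _ (gIdx_lt p)] at c1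
    exact c1.symm
  exact ⟨_, e ▸ hm, rep_m24 a2⟩

def ws0 : List Wd :=
  [⟨3087466, 16632039, 971700361611140356443901154824849856,
    [0x800680008000800080008000800280008000800280008000800080008000800080008000800280007ffe800280028002,
     0x800480008000800080008000800080008000800080008000800080008000800080008000800480008000800480008004,
     0x7ffa800080008000800080008002800080007ffe80008000800080008000800080008000800280007ffe7ffe80027ffe,
     0x7ff880008000800080008000800080008000800080008000800080008000800080008000800080008000800080008000,
     0x80e280c280668056808a80a2806e804a8062800e805e80c6806e805a801a808e8042806a8056808280427ff67fee7fe6,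
     0x80887ff07ff480207fd07f747fec7ffc802c80047fb87fe87fe080087fb880d881007ed8806880107f648050806c8040,
     0x7f627fe27ff280567fd68116800280b6800a7fae7fbe7ffa80ea80067ffa7f967ffa7fee80127f2a7f4e7fc67faa7fd6,
     0x7f4080687f687fb87f907f5080207f807f7880107f6080b87fa07fa880407f5880507fc87fd07fd880907fe880787ff8]⟩,
   ⟨391290, 5309160, 966277589332341065069404965980768704,
    [0x800680008000800080008000800280008000800280008000800080008000800080008000800280007ffe800280028002,
     0x800480008000800080008000800480008000800080008000800080008000800080008000800080008000800480008004,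
     0x8006800080008000800080008002800080007ffe800080008000800080008000800080007ffe8000800280027ffe8002,
     0x800880008000800080008000800080008000800080008000800080008000800080008000800080008000800080008000,
     0x80e280c280668056808a80a2806e804a8062800e805e80c6806e805a801a808e8042806a8056808280427ff67fee7fe6,
     0x80b880d47f1480247fd0805c80987f1080047fd47fc480147fe880047fd8801480dc7f94801c80147f948020803c8010,
     0x809e7f167f4a80067fe2800e80b28116800a7ffe80067fee802a80567ffa7ffa7f2a80427fee7f968052803a8056802a,
     0x80c07fb87f987f6880a07f58809080887fc87ff07fa87f5080607f9080507f487fd87f807fe07fc07fd080187f888008]⟩,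
   ⟨11951489, 6228582, 24840496363859016890177502494262359,
    [0x800680008000800080008000800280008000800280008000800080008000800080008000800280007ffe800280028002,
     0x7ffc800080008000800080007ffc800080008000800080008000800080008000800080007ffc80008000800080007ffc,
     0x7ffe800080008000800080008002800080008002800080008000800080008000800080007ffe800080027ffe7ffe7ffa,
     0x800080008000800080008000800080008000800080008000800080008000800080008000800080008000800080008008,
     0x80e280c280668056808a80a2806e804a8062800e805e80c6806e805a801a808e8042806a8056808280427ff67fee7fe6,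
     0x7f3c7f488010802c7ff880187f747fc07fdc80387fb080c47fe480f87fd07ff080387ee87fd4804080607fd87fd07ffc,
     0x7fa6802e805e80a28042806a8022804e80967fc27fae80467faa80c680767f62808280ba7fce7faa80ca7fbe7fc67f92,
     0x80087f607fd880607f48805080307fc8806880207fc0808080a88048809880587f907f7880907f5080788010801880c0]⟩]

def w1 : Wd :=
  ⟨7320285, 14569443, 965143780443971029355517752693034033,
    [0x800680008000800080008000800280008000800280008000800080008000800080008000800280007ffe800280028002,
     0x800480008000800080008000800080008000800480008000800080008000800080008000800480008000800080048000,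
     0x7ffa800080008000800080008002800080007ffe800080008000800080008000800080007ffe80007ffe80027ffe8002,
     0x7ff880008000800080008000800080008000800080008000800080008000800080008000800080008000800080008000,
     0x80e280c280668056808a80a2806e804a8062800e805e80c6806e805a801a808e8042806a8056808280427ff67fee7fe6,
     0x80bc7fb07ee87fd47fa87fe87fb87fe08000807c7f487f18801c7f2c8030803480288010803480207f98803080148040,
     0x7f6a801e7f2a801e8066800e802280067fbe7fa67f027f4a7ff681027fd67ff67fee7fa67f5e800e7fbe800a7fc67f9a,
     0x7f40804080887f5880388050800880b080687f88802880807fa07fa880987fb880b880a07fd08070801880207ff08090]⟩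

def S0 : List ℕ := [971700361611140356443901154824849856, 966277589332341065069404965980768704, 24840496363859016890177502494262359]

theorem ws0_ok : ∀ w ∈ ws0, w.ok = true ∧ uB w.c = true ∧ uB w.d = true := by decide +kernel
theorem w1_ok : w1.ok = true := by decide +kernel
theorem S0_eq : S0 = ws0.map (·.P) := rfl

theorem S0_good {S K : Subgroup Co0} (hS : clsStab leechU ≤ S) (h0 : E0 S K) (h : Fr S K lam0) :
    ∀ P ∈ S0, Good (Lk K) P := by
  rw [S0_eq]
  intro P hP
  obtain ⟨w, hw, rfl⟩ := List.mem_map.1 hP
  obtain ⟨a, b, c⟩ := ws0_ok w hw
  exact Wd.good a (h g0 none rfl _ (ep_mem _) (hS (X_SU b))) (h0 _ (ep_mem _) (hS (ep_SU c)))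

theorem S0_top : ∀ P ∈ S0, Good ⊤ P := good_top_of_all (by decide +kernel)

/-! ### Generation of `Co0` -/

theorem oct_eq : (stabilizer M24 oct0 : Subgroup M24) = gen (965143780443971029355517752693034033 :: S0) :=
  eq_gen_of_slp (good_stab_all (good_top_of_all (by decide +kernel)) (by decide +kernel))
    [(3, 1, 19849155905038319124787752045020279), (2, 3, 982263677969258903066114160891955232), (3, 1, 21066179218595674579988676322966071), (6, 0, 963709290263857796106349849427348640), (3, 7, 965346966670364367458681901213092896), (8, 2, 963709290263857796106349849427348640), (2, 0, 971594185973595633136299332658611648), (8, 0, 984600170262332565272975762020961312), (3, 0, 965128854020860192151391391390468128), (11, 6, 20948291912923086058417702880511543), (13, 0, 964032531291049454090933590631581856), (7, 0, 971492776934140153080675799520021952), (13, 0, 984716789849894013237141531202634784), (11, 0, 981883193456941065583145522126326816), (9, 0, 982079684599265169493092003182970912), (13, 0, 982978599914299960816003189748303904), (14, 0, 984436632068016323118584907140532256), (19, 20, 24961636158194657440582060992411735),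 (21, 0, 984493369334060478447889424982281248), (14, 0, 965225113279737155758354497310656544), (3, 0, 966182099583441531322624363496310816), (24, 18, 963709290263857796106349849427348640), (19, 24, 14811598585067833907737305069762647), (0, 0, 966605900348290625428717261527565760), (25, 0, 981691984836572763644557931004333088), (20, 0, 981685826122343578567604990824187936), (24, 0, 983141956895601025126892051911247904), (10, 0, 971592882964418941354553515258775584), (4, 6, 963361715657078528974539697459104928), (25, 0, 971332489124080470450289217173046720), (31, 0, 984232195719088006778074644068469792), (26, 0, 965376962659599963441113497361483808), (30, 0, 961409415667826064667231448532617248), (16, 0, 976448692869377735270425038196672544)]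
    [965143780443971029355517752693034033, 971700361611140356443901154824849856, 966277589332341065069404965980768704, 24840496363859016890177502494262359, 982263677969258903066114160891955232, 965346966670364367458681901213092896, 965128854020860192151391391390468128, 984436632068016323118584907140532256, 966182099583441531322624363496310816, 971592882964418941354553515258775584, 976448692869377735270425038196672544]
    [23, 0, 1, 2, 3, 5, 4, 6] (card_stabilizer_octad oct0_mem).le (by decide +kernel)

theorem base1 {K : Subgroup Co0} (h0 : E0 ⊤ K) (h : Fr ⊤ K lam0) : stabilizer M24 oct0 ≤ Lk K := by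
  rw [oct_eq]
  refine gen_le fun P hP => ?_
  rcases List.mem_cons.1 hP with rfl | hP
  · exact Wd.good w1_ok (h g0 none rfl _ (ep_mem _) trivial) (h0 _ (ep_mem _) trivial)
  · exact S0_good le_top h0 h P hP

theorem X0_not : X 2605066 ∉ Nsub := fun h => by
  have h1 := X_smul (c := 2605066) (y := 0x800680008000800080008000800280008000800280008000800080008000800080008000800280007ffe800280028002)
    (z := 0x800480008000800080008000800080008000800480008000800080008000800080008000800080008000800480008004) e_eq (by decide +kernel)
  refine not_mem_stdCross_of_abs (i := some 0) ?_ ?_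
    (mem_Nsub_iff_cross.1 h (e8 none) (mem_stdCross_iff.2 ⟨none, Or.inl (coe_e8 _)⟩)) <;> rw [h1] <;> decide +kernel

theorem norm1 {v : leechLattice} (hn : sqNorm (v : GolayPt → ℤ) = 64) {i : GolayPt} (h6 : |(v : GolayPt → ℤ) i| = 6) :
    ∃ n ∈ Nsub, n • v = lam0 := by
  obtain ⟨a, ha, e⟩ := exists_N_vC0 hn h6
  obtain ⟨b, hb, e'⟩ := exists_N_vC0 (v := lam0) (i := none) (by rw [lam0, sqNorm_smul, sqNorm_e8])
    (by rw [lam_eq]; decide +kernel)
  exact ⟨b⁻¹ * a, mul_mem (inv_mem hb) ha, by rw [mul_smul, e, ← e', inv_smul_smul]⟩

theorem sup_eq {n : Co0} (hn : n ∈ Nsub) {v : leechLattice} (h : n • v = lam0) : nu ⟨n, hn⟩ • sup v = oct0 := by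
  rw [← sup_smul, h, sup_lam]

theorem sup_oct {n : Co0} (hn : n ∈ Nsub) {v : leechLattice} (h : n • v = lam0) : sup v ∈ octads :=
  (smul_mem_octads_iff _).1 (sup_eq hn h ▸ oct0_mem)

theorem oct1 {K : Subgroup Co0} (h0 : E0 ⊤ K) {v : leechLattice} (h : Fr ⊤ K v) {n : Co0} (hn : n ∈ Nsub)
    (e : n • v = lam0) : stabilizer M24 (sup v) ≤ Lk K := fun σ hσ => by
  have h1 := h0.cj hn
  have h2 := h.cj n
  rw [cj_top] at h1 h2
  refine Lk_cj hn (base1 h1 (e ▸ h2) ?_)
  rw [mem_stabilizer_iff, ← sup_eq hn e]
  exact conj_smul_smul _ _ hσ

end Gn
open Gn

/-- The diagonal groups of the standard frame and of two frames of octad type with different octads generate `Co0`. -/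
theorem gen1 {K : Subgroup Co0} (h0 : Eps ≤ K) {g g' : Co0} {j j' i i' p : GolayPt}
    (hg : ∀ e ∈ Eps, g * e * g⁻¹ ∈ K) (hg' : ∀ e ∈ Eps, g' * e * g'⁻¹ ∈ K)
    (h6 : |((g • e8 j : leechLattice) : GolayPt → ℤ) i| = 6) (h6' : |((g' • e8 j' : leechLattice) : GolayPt → ℤ) i'| = 6)
    (hp : ((g • e8 j : leechLattice) : GolayPt → ℤ) p = 0) (hp' : ((g' • e8 j' : leechLattice) : GolayPt → ℤ) p ≠ 0) :
    K = ⊤ := by
  have e0 : E0 ⊤ K := fun e he _ => h0 he
  have f := fr_of (S := ⊤) j fun e he _ => hg e he
  have f' := fr_of (S := ⊤) j' fun e he _ => hg' e he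
  obtain ⟨n, hn, e⟩ := norm1 (by rw [sqNorm_smul, sqNorm_e8]) h6
  obtain ⟨n', hn', e'⟩ := norm1 (by rw [sqNorm_smul, sqNorm_e8]) h6'
  have o := sup_oct hn e
  have o' := sup_oct hn' e'
  have hL : Lk K = ⊤ := by
    refine (Cfsg.Agent.S1565.result _ o').2 _ (lt_of_le_of_ne (oct1 e0 f' hn' e') fun h => ?_)
    obtain ⟨r, hr⟩ : ((sup (g • e8 j) ∪ sup (g' • e8 j'))ᶜ).Nonempty := by
      rw [← Finset.card_pos, Finset.card_compl, Leech.card_golayPt]
      have := Finset.card_union_le (sup (g • e8 j)) (sup (g' • e8 j'))
      rw [o.2, o'.2] at this
      omega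
    rw [mem_compl, mem_union, not_or] at hr
    obtain ⟨σ, h1, h2⟩ := fixS_octad_trans o (p := p) (fun h => mem_sup.1 h hp) hr.1
    have h3 := oct1 e0 f hn e (fixS_le_stabilizer _ h1)
    rw [← h, mem_stabilizer_iff] at h3
    exact hr.2 (h3 ▸ h2 ▸ Finset.smul_mem_smul_finset (mem_sup.2 hp'))
  refine Nsub_isCoatom.2 _ (lt_of_le_of_ne (fun x hx => mem_of_Lk e0 le_top hx trivial (hL ▸ trivial)) fun h => X0_not ?_)
  have h1 := f.cj n g0 none e.symm _ (ep_mem 2605066) (cj_top n ▸ trivial)
  rw [mem_cj, ← h] at h1
  have h2 := mul_mem (mul_mem hn h1) (inv_mem hn)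
  rwa [show n * (n⁻¹ * (g0 * ep 2605066 * g0⁻¹) * n) * n⁻¹ = X 2605066 by rw [X]; group] at h2

namespace Gn

/-! ### The stabiliser of `±U` -/

theorem hex_eq : (stabilizer M24 oct0 ⊓ stabilizer M24 duad0 : Subgroup M24) = gen S0 := by
  refine eq_gen_of_slp (n := 11520) (good_inf_all (good_stab_all S0_top (by decide +kernel)) (good_stab_all S0_top (by decide +kernel)))
    [(1, 1, 984818244535754528103549039458486304), (1, 3, 17051652459758517677421647685007447), (4, 0, 965346966670364367458681901213092896), (1, 2, 17051652459758517677421647685007447), (3, 6, 24840496363859016890177502494262359), (6, 1, 13279477019370678688897788367275095), (8, 0, 966320096358733541442380578386184224), (7, 8, 982263677969258903066114160891955232), (3, 9, 13601508618265572933335255824761975), (11, 0, 966277589332341065069404965980768704), (10, 0, 982263677969258903066114160891955232), (4, 0, 981685826122343578567604990824187936), (4, 0, 983141956895601025126892051911247904), (6, 0, 972512676110088067912772961567868960), (14, 14, 984818244535754528103549039458486304), (0, 16, 966277589332341065069404965980768704), (0, 18,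 24961636158194657440582060992411735), (0, 0, 966196221396570261404991613726430656), (18, 0, 981777138252528261132261428436210720), (12, 0, 981725836435042528962206590939776032), (12, 0, 982939172881146061518967929536842784), (18, 0, 983548720921252936276249910206105632), (4, 22, 976968664226114160567739778840172064), (16, 0, 971785002017174562494670530372748736), (24, 0, 984278963845281441322847895320726560), (22, 0, 964806839260055316708305579917084704), (19, 0, 984235865005994746954145143334668320), (19, 0, 981515887986994088769278604842469408), (21, 0, 981818691054096003685363657089320992), (11, 13, 961249846278898572718642977709332000), (23, 0, 970174308278860230335800702857758144), (31, 0, 970564860302320872139177600301435936), (29, 0, 968658307256919685389592140005804064), (25, 0, 980224387687010295957922729495201824)]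
    [971700361611140356443901154824849856, 966277589332341065069404965980768704, 24840496363859016890177502494262359, 965346966670364367458681901213092896, 966320096358733541442380578386184224, 982263677969258903066114160891955232, 972512676110088067912772961567868960, 983548720921252936276249910206105632, 981818691054096003685363657089320992, 980224387687010295957922729495201824]
    [23, 0, 1, 2, 3, 5, 4, 6] ?_ (by decide +kernel)
  have := chain24.card_inf_le (C := stabilizer M24 oct0 ⊓ stabilizer M24 duad0)
    (((pruneOK_set 8536111 8536111).or (pruneOK_set 8388609 8388609)).mono fun g hg => hg)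
    [8388609, 1, 147502, 147500, 147496, 8241104, 147488]
  rw [top_inf_eq] at this
  exact this.trans (by decide +kernel)

theorem duad_eq2 : (stabilizer M24 duad0 : Subgroup M24) = gen (9349497708613720740330132998269559 :: S0) :=
  eq_gen_of_slp (good_stab_all (good_top_of_all (by decide +kernel)) (by decide +kernel))
    [(0, 2, 6551791595933202128402432611002967), (1, 0, 984723134254146962827985597752386048), (1, 1, 958721124292157117790897805112554976), (4, 0, 958840030521901238579522752935546368), (2, 0, 966543237745712059789842951493208416), (3, 0, 978184252301499975441137583033603104), (8, 6, 5808434676153441203101258319214199), (7, 0, 961452897717743050059211606200759744), (9, 0, 961315750906187270532460862764305440), (8, 11, 9349497708613720740330132998269559), (10, 0, 978288524951770643743881802113425856), (12, 0, 959625021530973149411886512828928032), (3, 0, 968454102150669021998994073486401568), (4, 0, 967857864202699130800610634604677152), (7, 7, 964979501146460236992328825182791712), (9, 0, 961348609349061433055814880432107552), (2, 0, 968650063184350240714816497879916576), (8, 0, 967779203209842851463853395925141536),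 (19, 8, 11946398106556338030526856817617335), (19, 0, 970484922372432592620776877581476256), (17, 21, 983458847258957540380871092659238336), (22, 0, 979077929725343445113870484564757536), (4, 0, 984481127106095606183554021373121568), (5, 0, 967886156083173962266465756021858336), (15, 0, 984286808134369956147200099073951776), (11, 0, 967812279691448225500382947153381408), (29, 16, 972921962508571506862636789507596992), (7, 0, 974268483200787779030532585958070624), (26, 0, 973663938893976927148488851293657120), (23, 0, 970536924936625114120068219938194464), (12, 0, 976870057698355065039230351176910880), (25, 0, 976538849119035819196971810700888096), (14, 0, 975728708050008715525885598301784096), (36, 26, 983149328053606450318704441555984064), (14, 0, 982096146313425886609451929578146144), (33, 0, 967920372519637328087917075043098656), (27, 0, 984694993983523139147563676538669088), (23, 0, 967561262440615751121112427050174496), (5, 0, 966667410579994248658340418192443424), (25, 0, 979121071158219704299181131031480352), (7, 0, 972606645568131968584696805283956768)]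
    [9349497708613720740330132998269559, 971700361611140356443901154824849856, 966277589332341065069404965980768704, 24840496363859016890177502494262359, 961315750906187270532460862764305440, 967779203209842851463853395925141536, 967812279691448225500382947153381408, 975728708050008715525885598301784096, 972606645568131968584696805283956768]
    [23, 0, 1, 2, 3, 4, 5] (card_stabilizer_duad duad0_card).le (by decide +kernel)

theorem duad_eq4 : (stabilizer M24 duad0 : Subgroup M24) = gen (978002161348181872344341681050729664 :: S0) :=
  eq_gen_of_slp (good_stab_all (good_top_of_all (by decide +kernel)) (by decide +kernel))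
    [(3, 0, 6802375894877052452453607085093399), (4, 0, 978002161348181872344341681050729664), (2, 0, 971311189668169543524355839716628096), (4, 0, 984775148035875281740095869920875776), (4, 0, 978239210483687932130664009227643232), (5, 0, 971834716738576063434640563518284832), (7, 8, 982263677969258903066114160891955232), (0, 10, 17254793944596386002538519987684439), (11, 0, 965225113279737155758354497310656544), (9, 1, 10508313935960527219768009869040119), (13, 0, 968934704996753353203855351988142464), (4, 0, 980617294582890329555812387912924736), (12, 0, 983392136478756398144332411529467328), (14, 0, 979620620477707752375227382178649120), (8, 0, 966624404310788219917185392308684832), (8, 0, 971863989228759034920585190470420512), (15, 16, 19882120692473623488480642884879735), (20, 0, 971311189668169543524355839716628096), (18, 0, 976614836983393710049726684346788448), (10, 0, 963360840042948233137979015987019104), (20, 0, 981442403835650399777371181518656544), (15, 0, 979121071158219704299181131031480352), (6, 0, 963582593757073591850928955785840672), (14, 0, 971592882964418941354553515258775584), (15,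 0, 976531636853126291160407323722221600), (26, 28, 17051652459758517677421647685007447), (29, 0, 965346966670364367458681901213092896), (20, 0, 961494215712698789681948793725064224), (22, 0, 977963738258358362990221719491610656)]
    [978002161348181872344341681050729664, 971700361611140356443901154824849856, 966277589332341065069404965980768704, 24840496363859016890177502494262359, 971834716738576063434640563518284832, 965225113279737155758354497310656544, 971863989228759034920585190470420512, 976531636853126291160407323722221600, 977963738258358362990221719491610656]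
    [23, 0, 1, 2, 3, 4, 5] (card_stabilizer_duad duad0_card).le (by decide +kernel)

/-- Two hexad stabilisers generate the duad stabiliser. -/
theorem duad_le {L : Subgroup M24} (h : ∀ P ∈ S0, Good L P) {o : Finset GolayPt} (ho : o ∈ octads) (hd : duad0 ⊆ o)
    (hne : o ≠ oct0) (h' : stabilizer M24 o ⊓ stabilizer M24 duad0 ≤ L) : stabilizer M24 duad0 ≤ L := by
  have hS : ∀ P ∈ S0, Good (L ⊓ stabilizer M24 duad0) P := good_inf_all h (good_stab_all S0_top (by decide +kernel))
  have z : ∀ s, Disjoint (ofMask 0) s := fun s => (show ofMask 0 = ∅ by decide +kernel) ▸ disjoint_empty_left s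
  have key : ∀ (r ρ : ℕ), r < 2 ^ 24 → isCode r = true → pc24 r = 8 → duad0 ⊆ ofMask r →
      (oct0 ∩ o).card = (oct0 ∩ ofMask r).card → inM24 ρ = true → fixesMask r ρ = true → fixesMask 8388609 ρ = true →
      Good L ρ := fun r ρ a1 a2 a3 a4 a5 a6 a7 a8 => by
    obtain ⟨g, hg, e⟩ := cw_same (w := 8) hS 8388609 0 8536111 (by norm_num) (by norm_num) [0, 0, 81, 0, 1, 0, 0, 0, 47]
      0x1a00000000000000000000000000000000000000000000000000000000000000000000000000000000000000000000000000000000000000000000000000000000000000000000000000000000000000000000000000000000000000000000000000000000000000000000000000000000000000000000000000000000000000000000000000000000000000000000000000000000000000000000000000000000000000000000000000000000000000000000000000000000000000000000000000000000000000000000000000000000000000000000000000000000000000000000000000000000000000000000000000000000000000000000000000000000000000000000002100000000000000000000000000000000000000000000000000000000000000000000000000000000000000000000000000000000000000000000000000000000000000000000000000000000000000000000000000000000000000000000000000000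0000000000000000000000000000000000000000000000000000020000000000000000000000000001200000000000000000000000000000000000000000000000000000000000000000000000000000000000000000000000000000000000000000000000000000000000000000000000000000000000000000000000000000000000000000000000000000000000000000000000000000000000000220000000000000000000000000000000000000000000000000000000000000000000000000000000000000000000000000000000000000000000000000000001900000000000000000000000000000000000000000000000000000000000000000000000000000000000000000000000000000000000000000000000000000000000000000000000000000000000000000000000000000000000000000000000000000000000000000000000000000000000000000000000000000000000000000000000000000000000000000000000000000000000000000000000000000000000000000000000000000000000000000000000000000000000000000000000000000000000000000000000000000000000000000000000000000000000000000000000000000000000000000000000000000000000000000000000000000000000000000000000000000000000000000000000000000000000000000000000000000000000000000000000000000000000000000000000000000000000000000000000000000000000000000000000000000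00000000000000000000000000000000000000000000000000000000000000000000000000000000000000000000000000000000000000000000000000000000000000000000000000000210000000000000000000000000000000000100000000000000000000000200000000000000000000000000000000000000000000000000000000000000000000000000000000000000000000000000000000000000000000000000000000000000000000000000000000000000000000000000000000000000000000000000000000000000000000000000000000000000000000000000000000000000000000000000000000000000000000000000000000000000000000000000000000000000000000000000000000000000000000000000000000000000000000000000000000000000000000000000000000000000000000000000000003a000000000000000000000000000000000000000000000029000000000000000000320000000000000000000000000000000000000000000000000000000000000000000000000000000000000000000000000000000000000000000000000000000000000000000000000000000000000000000000000000000000000000000000000000000000280000000000000000000000000000000a00000019000000000000000000000000000000000000000000000000000000000000000000000000000000000000000000000000000000000000000000000000000000000000003a000000000052001a00000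000000000000000000000000000000000000000000000000000000000410000000000300000000000000000000000000000000000000000003800000000000000000000000000000000000000000000000000000000000000000000000000000000000000000000000000000000000000000000000000000000000000000000000000000000000000000000000000000000000000000000000000000000000000000000000000000000000000000000000000000000000000000000000000000000000000000000000000000000000000000000000000000000000000000000000000000000000000000000000000000000000000000000000000000000000000000000000000000000000000000000000000000000000000000000003800000000000000000000000000000000000000000000000000000000000000000000000000000000000000000000000000000000000000000000000000000000000000000000000000000000000000000000000000000000000000000000000000000000000000000000000000000000000000000000000000000000000000000000000000000000000000000000002a000000000000000000000000000000000000000000000000000000000000000000000000000000000000000000000000000000000000000000000000000000000000000000000000000000000000001000000000000000000000000000000000000000000000000000000000000000000000000000000000000000000000000000000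000000000000028000000000000000000000000000000000000000000000000000000000000000000000000000000000000000000000000000000000000000000000000000000000000000000000000000000000000000000000000000000000000000000000000000000000000000000000000000000000000000000000000000000000000000000210000000000000000000000000000000000000000000000000000000000000000000000000000000000000000000000000000000000000000002a00000000000000000000000000000000000000000000000000000000000000000000000000000000000000000000000000000000000000000029000000000000000000000000000000000000000000000000000000000000000000000000000000000000000000000000000000000000000000000000000000000000000000000000000000000000000900000000000000000000000000000000000000000000003200000000000000000000000000000000000000000000000000000000000000000000000000000000000000000000000000000000000000000000000000000000000000000000000000000000000000000000000000000000000000000000000000000000000000300000000000000000000000000000000000000000000000000000000000380031000000000000001a000000000029000000000031000000000000003800000000000000000000000000000000000000000000000000000000000000000000000000000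000000000000000000000000000000000000000000000000000000000000000000000000000000000000000000000000000000000000000000000000000000000000000000000000000000000000000000000000000000000000000000000000000000000000000000000000000000000000000000000000000000000000000000000000000000000000000000000000000000000000000000000000000000000000000000000000000000000000000000000000000000000000000000000000030000000000000000000000000000000000000000000000000002800120000000000000000000000000000000000000000000000000000000000000000000000000000000000000000000000000000000000000000000000000000000000000000000000000000000000000000000000000000000000000039000000000000000000000000000000000000000000000000002a0000000000000000003000000000000000000000000000000000000000000000000a000000000000000000000000000000000000000000390000000000000000000000000020000000000000000000000000000000000000003100000000000000000000000000000000000000000000000000000000000000000000000000000032000000000000001a000000000000000000000000000000000000000000000000000000000000000000000000000000000000000000000000000000000000000000000000000000000000000000000000000000000038000000000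00000000000000000000000000000000000000000000000000000000000000000000000003a0000000000000020000000000000000000000000000000000000000000000000000000000000001100000000000000000000000000000008000000000000000000000042000000000000000000000000000000000000000000000000000000000000002a00000000000000000000000000000000000000000000000000000010000000000009000000000000000000000000000000000000000000000000000000000000000000100000000000000040000000000000000000000000000000000019000000000000000000000000000000000000000000000000000000000000000000000000000000000000000000000000002a000000000000000000000000000000000022001100000000000000000000000000000000000000000000000000000000001800000000000000000000000000000000000000000049000000000000000000000000000000000000003a000000000000004000000000000000000000004200000000000000000000000000180012000000000000000000080040000000000039000000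
      (by decide +kernel) (x := o) (y := ofMask r) ho ⟨ofMask_mem_GC_of_isCode a2, by rw [card_ofMask, a3]⟩
      ⟨hd, z o⟩ ⟨a4, z _⟩ a5
    have b := rep_m24 a6
    rw [Subgroup.mem_inf] at hg
    have b1 : g⁻¹ * m24 ρ * g ∈ L := h' (Subgroup.mem_inf.2 ⟨conj_back _ _ (by rw [e]; exact b.mem_stabilizer_of_fixesMask a7),
      mul_mem (mul_mem (inv_mem hg.2) (b.mem_stabilizer_of_fixesMask a8)) hg.2⟩)
    refine ⟨_, ?_, b⟩
    have := mul_mem (mul_mem hg.1 b1) (inv_mem hg.1)
    rwa [show g * (g⁻¹ * m24 ρ * g) * g⁻¹ = m24 ρ by group] at this
  have h2 : 2 ≤ (oct0 ∩ o).card :=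
    duad0_card ▸ Finset.card_le_card (Finset.subset_inter (by decide +kernel) hd)
  rcases octad_inter_card oct0_mem ho with c | c | c | c
  · exact absurd c.symm hne
  · omega
  · rw [duad_eq2]
    exact gen_le (List.forall_mem_cons.2 ⟨key 11575377 _ (by norm_num) (by decide +kernel) (by decide +kernel)
      (by decide +kernel) (c.trans (by decide +kernel)) (by decide +kernel) (by decide +kernel) (by decide +kernel), h⟩)
  · rw [duad_eq4]
    exact gen_le (List.forall_mem_cons.2 ⟨key 13062145 _ (by norm_num) (by decide +kernel) (by decide +kernel)
      (by decide +kernel) (c.trans (by decide +kernel)) (by decide +kernel) (by decide +kernel) (by decide +kernel), h⟩)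

/-- The vector with entries `±4` at `a` and `b`. -/
def tv (a b : ℕ) (s s' : Bool) (i : ℕ) : ℤ :=
  cond (Nat.beq i a) (cond s 4 (-4)) (cond (Nat.beq i b) (cond s' 4 (-4)) 0)

def ms : List (ℕ × ℕ) := [(0, 984818244535754528103549039458486304), (1687640, 983256260726425785887899514319705102), (0, 982124130363843881489187797414806609), (4563017, 966553892140374252726169638460802499), (3444840, 981714705990115745404685856146504229), (3444840, 960884990823365562163264628805649858), (0, 968626268474162716031461510516687873)]

theorem ms_ok : ∀ m ∈ ms, isCode m.1 = true ∧ inM24 m.2 = true ∧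
    allBelow (fun i => decide (monoN m.1 m.2 (vq lamQ) i = vq lamQ i)) 24 = true := by decide +kernel

theorem ms_all : allBelow (fun a => allBelow (fun b => allL (fun s => allL (fun s' =>
    !decide (|cond s 4 (-4) * vq lamQ a + cond s' 4 (-4) * vq lamQ b| = 32) || Nat.beq a b ||
      anyL (fun m => pmU (monoN m.1 m.2 (tv a b s s'))) ms) [true, false]) [true, false]) 24) 24 = true := by
  decide +kernel

theorem monoE_mem (c p : ℕ) (hc : isCode c = true) : monoE c p hc ∈ Nsub :=
  mul_mem (eps_mem ..) (inv_mem (pm_mem _))

theorem norm2 {t v : leechLattice} (ht : sqNorm (t : GolayPt → ℤ) = 32) {a : GolayPt} (ha : |(t : GolayPt → ℤ) a| = 4)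
    (hn : sqNorm (v : GolayPt → ℤ) = 64) {i : GolayPt} (h6 : |(v : GolayPt → ℤ) i| = 6)
    (hd : |dotInt (t : GolayPt → ℤ) v| = 32) : ∃ n ∈ Nsub, n • v = lam0 ∧ (n • t = leechU ∨ n • t = -leechU) := by
  obtain ⟨n, hN, e⟩ := norm1 hn h6
  rw [← abs_nu hN] at ha
  rw [← dot_smul n, e] at hd
  obtain ⟨b, hb, h4, hz⟩ := shape32_four (n • t).2 (by rw [sqNorm_smul, ht]) ha
  generalize nu ⟨n, hN⟩ • a = a at ha hb hz
  obtain ⟨s, hs⟩ : ∃ s : Bool, ((n • t : leechLattice) : GolayPt → ℤ) a = cond s 4 (-4) :=
    (eq_or_eq_neg_of_abs_eq ha).elim (fun h => ⟨true, h⟩) fun h => ⟨false, h⟩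
  obtain ⟨s', hs'⟩ : ∃ s : Bool, ((n • t : leechLattice) : GolayPt → ℤ) b = cond s 4 (-4) :=
    (eq_or_eq_neg_of_abs_eq h4).elim (fun h => ⟨true, h⟩) fun h => ⟨false, h⟩
  have hv : ((n • t : leechLattice) : GolayPt → ℤ) = vecOf (tv (gIdx a) (gIdx b) s s') := funext fun p => by
    rw [vecOf, tv, beq_gIdx, beq_gIdx]
    by_cases e1 : p = a
    · rw [e1, hs]; simp
    by_cases e2 : p = b
    · rw [e2, hs']; simp [hb]
    · rw [hz p e1 e2]; simp [e1, e2]
  have hdot : dotInt ((n • t : leechLattice) : GolayPt → ℤ) lam0 =
      cond s 4 (-4) * vq lamQ (gIdx a) + cond s' 4 (-4) * vq lamQ (gIdx b) := by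
    rw [← hs, ← hs', lam_eq, dotInt]
    exact Finset.sum_eq_add_of_mem a b (mem_univ _) (mem_univ _) hb.symm fun p _ hp => by rw [hz p hp.1 hp.2, zero_mul]
  have h1 := ms_all
  simp only [allBelow_iff, allL_iff, Bool.or_eq_true, anyL_iff] at h1
  rcases h1 _ (gIdx_lt a) _ (gIdx_lt b) s (by cases s <;> simp) s' (by cases s' <;> simp) with (h | h) | ⟨m, hm, h⟩
  · rw [← hdot, hd] at h; simp at h
  · rw [beq_gIdx] at h; exact absurd (of_decide_eq_true h).symm hb
  · obtain ⟨c1, c2, c3⟩ := ms_ok m hm
    refine ⟨monoE m.1 m.2 c1 * n, mul_mem (monoE_mem ..) hN, ?_, ?_⟩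
    · rw [mul_smul, e]
      simp only [allBelow_iff, decide_eq_true_eq] at c3
      exact Subtype.ext ((monoE_smul c1 c2 lam_eq).trans (by rw [lam_eq]; exact funext fun p => c3 _ (gIdx_lt p)))
    · rw [mul_smul]; exact pmU_spec (monoE_smul c1 c2 hv) h

theorem nu_duad {n : Co0} (hn : n ∈ Nsub) (h : n ∈ clsStab leechU) : nu ⟨n, hn⟩ ∈ stabilizer M24 duad0 := by
  rw [mem_stabilizer_iff, ← sup_U, ← sup_smul]
  rcases mem_SU.1 h with h | h <;> rw [h]
  exact sup_neg _

/-- Reduction of a vector to `e8 none` by monomial elements and `X`. -/
def chB (l : List (ℕ × ℕ × ℕ × ℕ)) : ℕ → Bool :=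
  List.rec (motive := fun _ => ℕ → Bool) (fun a => Nat.beq a eQ) (fun m _ ih a =>
    isCode m.1 && inM24 m.2.1 && pmU (monoN m.1 m.2.1 (vq uQ)) &&
      xB 2605066 (monoN m.1 m.2.1 (vq a)) m.2.2.1 m.2.2.2 && ih m.2.2.2) l

theorem chB_spec {K : Subgroup Co0} (hN : Nsub ⊓ clsStab leechU ≤ K) (hX : X 2605066 ∈ K) :
    ∀ (l : List (ℕ × ℕ × ℕ × ℕ)) (a : ℕ) (v : leechLattice), (v : GolayPt → ℤ) = vecOf (vq a) → chB l a = true →
      ∃ k ∈ K, k • v = e8 none
  | [], a, v, hv, h => ⟨1, one_mem _, by
      rw [one_smul]; exact Subtype.ext (by rw [hv, e_eq, Nat.eq_of_beq_eq_true h])⟩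
  | m :: l, a, v, hv, h => by
      change (isCode m.1 && inM24 m.2.1 && pmU (monoN m.1 m.2.1 (vq uQ)) &&
        xB 2605066 (monoN m.1 m.2.1 (vq a)) m.2.2.1 m.2.2.2 && chB l m.2.2.2) = true at h
      simp only [Bool.and_eq_true] at h
      obtain ⟨⟨⟨⟨a1, a2⟩, a3⟩, a4⟩, a5⟩ := h
      obtain ⟨k, hk, e⟩ := chB_spec hN hX l _ _ (X_smul (monoE_smul a1 a2 hv) a4) a5
      exact ⟨k * X 2605066 * monoE m.1 m.2.1 a1, mul_mem (mul_mem hk hX)
        (hN ⟨monoE_mem .., mem_SU.2 (pmU_spec (monoE_smul a1 a2 u_eq) a3)⟩), by rw [mul_smul, mul_smul, e]⟩

open CL.PG CL.Conw.M4600 in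
theorem stabU_eq : subW (ext gs0 ws) [[0], [2]] = stabilizer Co0 leechU :=
  (UB.of_card (card_stab32 sqNorm_U) (by norm_num)).eq_of_lb ((ctx0 ctxL.1).lb G_c G_o) (subW_le_stab _ _)

open CL.Conw.M4600 in
theorem letter_mem {K : Subgroup Co0} (hK : K ≤ clsStab leechU) (hN : Nsub ⊓ clsStab leechU ≤ K) (hX : X 2605066 ∈ K)
    (c y : ℕ) (l : List (ℕ × ℕ × ℕ × ℕ)) (hc : c < bs.length)
    (h : (inL (vq y) && chB l y && mapB (vq uQ) (vq uQ) (PG.nth 0 bs c) && mapB (vq eQ) (vq y) (PG.nth 0 bs c)) = true) :
    PG.wordG (PG.ext gs0 ws) [2 * c] ∈ K := by
  simp only [Bool.and_eq_true] at h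
  obtain ⟨⟨⟨a1, a2⟩, a3⟩, a4⟩ := h
  have hb : rho.model.Ok (PG.nth 0 bs c) :=
    (bs_ok _ (by rw [PG.nth_eq, List.getD_eq_getElem _ _ hc]; exact List.getElem_mem _)).1
  rw [gs0, wordG_liftL _ _ hc]
  obtain ⟨e1, e2⟩ := liftG_spec (by rw [sqNorm_U]; norm_num) (smul_of_mapB u_eq u_eq hb a3)
  have e3 := smul_of_mapB (w := lv _ a1) e_eq rfl hb a4
  generalize liftG leechU (rho.val (PG.nth 0 bs c)) = g at e1 e2
  rw [← e1, mk1_smul_co] at e3
  obtain ⟨k, hk, e⟩ := chB_spec hN hX l y (lv _ a1) rfl a2
  have e4 := co_smul_congr k e3
  rw [e, ← mul_smul, co_eq_iff, ← mem_clsStab, clsStab_e8] at e4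
  simpa using mul_mem (inv_mem hk) (hN ⟨e4, mul_mem (hK hk) (mem_SU.2 (Or.inl e2))⟩)

theorem top2 {K : Subgroup Co0} (hK : K ≤ clsStab leechU) (hN : Nsub ⊓ clsStab leechU ≤ K) (hX : X 2605066 ∈ K) :
    clsStab leechU ≤ K := by
  have h : stabilizer Co0 leechU ≤ K := by
    rw [← stabU_eq, PG.subW_le]
    refine List.forall_mem_cons.2 ⟨letter_mem hK hN hX 0 0x80058001800380017fff8001800180017fff80017fff7fff7fff7fff800180017fff7fff80017fff80017fff80018003
      [(16486863, 7232410424802504528600958255604119,
    0x7ffd800180017fff80017fff800180017fff7fff7fff7fff8001800180017ffd7fff7fff80017fff7fff7fff80017ffb,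
    0x7ffc800080007ffe8002800080007ffe800080027ffe800080008002800080007ffe8000800280008000800080007ffc),
   (4976164, 964893070482194074434226456722770592,
    0x7ffc80028002800280028000800080008002800080008002800280008000800080008000800080028000800080007ffc,
    0x7ffc80008000800480048000800080008000800080008000800080008000800080008000800080008000800080007ffc),
   (13935771, 965105864213200789252057353394932928,
    0x8006800080008000800080007ffe800080007ffe8000800080008000800080008000800080028000800280027ffe8002,
    0x800880008000800080008000800080008000800080008000800080008000800080008000800080008000800080008000)] (by decide) (by decide +kernel),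
      List.forall_mem_cons.2 ⟨letter_mem hK hN hX 1 0x80048000800080007ffe7ffe8000800280008000800080008002800280007ffe800080008002800080007ffe80008004
      [(14544561, 11117994375877721345161526091712119,
    0x7ffb80017fff800180017fff800380017fff7fff7fff80017fff80017fff800180017fff80017fff800180017fff7ffd,
    0x7ffc800480008000800080007ffc80008000800080008000800080008000800080008000800080008000800080007ffc),
   (13807567, 26492679881276182618026713198118487,
    0x8006800080008000800080007ffe800080007ffe8000800080008000800080008000800080028000800280027ffe8002,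
    0x800880008000800080008000800080008000800080008000800080008000800080008000800080008000800080008000)] (by decide) (by decide +kernel), by simp⟩⟩
  intro g hg
  rcases mem_SU.1 hg with e | e
  · exact h e
  · have h1 : negOne ∈ K := hN ⟨negOne_mem, center_le_clsStab _ negOne_mem_center⟩
    have h2 : negOne * g ∈ K := h (by rw [mem_stabilizer_iff, mul_smul, e, negOne_smul, neg_neg])
    simpa using mul_mem (inv_mem h1) h2

theorem base2 {K : Subgroup Co0} (hK : K ≤ clsStab leechU) (h0 : E0 (clsStab leechU) K) (h : Fr (clsStab leechU) K lam0)
    {v : leechLattice} (h' : Fr (clsStab leechU) K v) (hn : sqNorm (v : GolayPt → ℤ) = 64) {i : GolayPt}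
    (h6 : |(v : GolayPt → ℤ) i| = 6) (hd : |dotInt (leechU : GolayPt → ℤ) v| = 32) (hne : sup v ≠ oct0) :
    clsStab leechU ≤ K := by
  obtain ⟨n, hN, e, e'⟩ := norm2 sqNorm_U (a := none) rfl hn h6 hd
  have hτ := nu_duad hN (mem_SU.2 e')
  have hc : cj n (clsStab leechU) = clsStab leechU := by
    rw [cj_cls]; rcases e' with e' | e' <;> rw [e']; exact cls_neg _
  have h1 := h0.cj hN
  have h2 := h'.cj n
  rw [hc] at h1 h2
  have h3 := duad_le (S0_good le_rfl h0 h) (sup_oct hN e) (by
      rw [← Finset.smul_finset_subset_smul_finset_iff (a := nu ⟨n, hN⟩), sup_eq hN e, mem_stabilizer_iff.1 hτ]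
      decide +kernel) hne fun σ hσ => Lk_cj hN (by
      refine gen_le (S0_good le_rfl h1 (e ▸ h2)) (hex_eq ▸ Subgroup.mem_inf.2 ⟨?_, mul_mem (mul_mem hτ hσ.2) (inv_mem hτ)⟩)
      rw [mem_stabilizer_iff, ← sup_eq hN e]
      exact conj_smul_smul _ _ hσ.1)
  exact top2 hK (fun g hg => mem_of_Lk h0 hK hg.1 hg.2 (h3 (nu_duad hg.1 hg.2)))
    (h g0 none rfl _ (ep_mem _) (X_SU (by decide +kernel)))

end Gn

/-- The stabiliser of `±t`, `t = (±4, ±4, 0²²)`, is generated by its intersections with the diagonal groups of the standard frame
and of two frames of octad type, with different octads, that contain a vector of inner product `±32` with `t`. -/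
theorem gen2 {K : Subgroup Co0} {t : leechLattice} (ht : sqNorm (t : GolayPt → ℤ) = 32) {a : GolayPt}
    (ha : |(t : GolayPt → ℤ) a| = 4) (h0 : ∀ e ∈ Eps, e ∈ clsStab t → e ∈ K) {g g' : Co0} {j j' i i' p : GolayPt}
    (hg : ∀ e ∈ Eps, g * e * g⁻¹ ∈ clsStab t → g * e * g⁻¹ ∈ K)
    (hg' : ∀ e ∈ Eps, g' * e * g'⁻¹ ∈ clsStab t → g' * e * g'⁻¹ ∈ K)
    (h6 : |((g • e8 j : leechLattice) : GolayPt → ℤ) i| = 6) (h6' : |((g' • e8 j' : leechLattice) : GolayPt → ℤ) i'| = 6)
    (hp : ((g • e8 j : leechLattice) : GolayPt → ℤ) p = 0) (hp' : ((g' • e8 j' : leechLattice) : GolayPt → ℤ) p ≠ 0)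
    (hd : |dotInt (t : GolayPt → ℤ) (g • e8 j : leechLattice)| = 32)
    (hd' : |dotInt (t : GolayPt → ℤ) (g' • e8 j' : leechLattice)| = 32) : clsStab t ≤ K := by
  obtain ⟨n, hN, e, e'⟩ := norm2 ht ha (by rw [sqNorm_smul, sqNorm_e8]) h6 hd
  have hc : cj n (clsStab t) = clsStab leechU := by
    rw [cj_cls]; rcases e' with e' | e' <;> rw [e']; exact cls_neg _
  have e0 : E0 (clsStab t) (K ⊓ clsStab t) := fun x hx h => ⟨h0 x hx h, h⟩
  have f := (fr_of (K := K ⊓ clsStab t) j fun x hx h => ⟨hg x hx h, h⟩).cj n
  have f' := (fr_of (K := K ⊓ clsStab t) j' fun x hx h => ⟨hg' x hx h, h⟩).cj n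
  have h1 := e0.cj hN
  rw [hc] at f f' h1
  have h2 := base2 (K := cj n (K ⊓ clsStab t)) (fun x hx => hc ▸ mem_cj.2 (mem_cj.1 hx).2) h1 (e ▸ f) f'
    (by rw [sqNorm_smul, sqNorm_smul, sqNorm_e8]) ((abs_nu hN _ i').trans h6') (by
      rw [← dot_smul n] at hd'
      rcases e' with e' | e' <;> rw [e'] at hd'
      · exact hd'
      · rwa [AddSubgroup.coe_neg, dot_neg_left, abs_neg] at hd') (fun h => by
      rw [← sup_eq hN e, sup_smul hN, smul_left_cancel_iff] at h
      exact mem_sup.1 (h ▸ mem_sup.2 hp') hp)
  intro x hx
  have h3 := mem_cj.1 (h2 (x := n * x * n⁻¹) (hc ▸ mem_cj.2 (by simpa [mul_assoc] using hx)))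
  simpa [mul_assoc] using h3.1

end CL.BM
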