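/-
The normalizer of a pure four-group of the first kind in the constructed Monster.
-/
import Cfsg.Agent.Spor.InE60
import Cfsg.Agent.Spor.InBas
import Cfsg.Agent.Even.XS3
import Cfsg.Agent.Spor.InMD2
import Cfsg.Agent.Spor.MjNor

set_option autoImplicit false

namespace CL.IN

open Cfsg Cfsg.Spor Subgroup CL.BM CL.Mj CL.Spor.Leech CL.Spor.Mon CL.Even Cfsg.Lie

theorem s33_ab {L : Type*} [Group L] {k : Nd → L} (h : Rel I2 k) (hc : ∀ m ∈ I2, ∀ n ∈ I2, Commute (k m) (k n)) :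
    k .f2 = k .f3 := by
  have c : ∀ m n, m ∈ I2 ∧ n ∈ I2 ∧ coxLabel Bimonster.edges m n = 3 → k n = k m := fun m n e =>
    ((h.br m n e).eq_of_comm (hc m e.1 n e.2.1)).symm
  have b1 := c .a .b1 (by decide)
  have b2 := c .a .b2 (by decide)
  have b3 := c .a .b3 (by decide)
  have c1 := (c .b1 .c1 (by decide)).trans b1
  have c2 := (c .b2 .c2 (by decide)).trans b2
  have c3 := (c .b3 .c3 (by decide)).trans b3
  rw [← h.w2, ← h.w3, (c .c2 .d2 (by decide)).trans c2, (c .c3 .d3 (by decide)).trans c3, b1, b2, b3, c1, c2, c3]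

theorem s33_mem {G : Type*} [Group G] {g a b : G} (h1 : g * a = a * g) (h2 : g * b = b * g) :
    g ∈ centralizer ({a} : Set G) ⊓ centralizer {b} :=
  ⟨mem_centralizer_singleton_iff.2 h1, mem_centralizer_singleton_iff.2 h2⟩

theorem s33_gen (hY : Y3Thm) {G : Type} [Group G] {y : Nd → G} (rel : Rel I2 y) (n1 : y .f3 ≠ 1) (n2 : y .f2 ≠ 1)
    (n3 : y .f2 ≠ y .f3) (hc : Nat.card (centralizer {y .f3} ⊓ centralizer {y .f2} : Subgroup G) =
      4 * 76532479683774853939200)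
    (hp : ∀ u v, u = y .f3 ∨ u = y .f2 ∨ u = y .f3 * y .f2 → v = y .f3 ∨ v = y .f2 ∨ v = y .f3 * y .f2 → u ≠ v →
      ∃ x, x * y .f3 * x⁻¹ = u ∧ x * y .f2 * x⁻¹ = v) :
    ∃ (E N : Subgroup G) (K : Subgroup N), IsKleinFour E ∧ N = normalizer (E : Set G) ∧ E.subgroupOf N ≤ K ∧
      (∃ (F : Type) (_ : Field F) (_ : Fintype F), Fintype.card F = 4 ∧
        ∃ _ : ((E.subgroupOf N).subgroupOf K).Normal, Nonempty (K ⧸ (E.subgroupOf N).subgroupOf K ≃* twistedE6 F 2)) ∧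
      (∃ _ : K.Normal, Nonempty (N ⧸ K ≃* Equiv.Perm (Fin 3))) ∧
      ∀ L : Subgroup K, ¬ ((E.subgroupOf N).subgroupOf K).IsComplement' L := by
  have ss := rel.sq (n := .f3) (by decide)
  have tt := rel.sq (n := .f2) (by decide)
  have st : y .f3 * y .f2 = y .f2 * y .f3 := rel.cm _ _
  have n4 : y .f3 * y .f2 ≠ 1 := fun e => n3 (mul_left_cancel (e.trans ss.symm))
  have h0 := exists_hom_perm_three ss tt st n1 n2 n3
  set E := closure ({y .f3, y .f2} : Set G) with hE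
  obtain ⟨φ, h1, h2⟩ := h0
  have mE : ∀ {x}, x ∈ E ↔ x = 1 ∨ x = y .f3 ∨ x = y .f2 ∨ x = y .f3 * y .f2 := mem_closure_pair_two ss tt st
  have hC : centralizer (E : Set G) = centralizer {y .f3} ⊓ centralizer {y .f2} := by
    rw [hE, centralizer_closure]; ext; simp [mem_centralizer_iff]
  have cE : Nat.card E = 4 := (congrArg (fun S : Subgroup G => Nat.card S)
    (Subgroup.ext fun _ => mE : E = V4 _ _ ss tt st.symm)).trans (card_V4 ss tt st.symm n1 n2 n4)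
  have EC : E ≤ centralizer (E : Set G) := hC ▸ (closure_le _).2 (by
    rintro _ (rfl | rfl) <;> exact s33_mem (by first | rfl | exact st.symm) (by first | rfl | exact st))
  have sq : ∀ x ∈ E, x * x = 1 := fun x hx => by
    rcases mE.1 hx with rfl | rfl | rfl | rfl
    exacts [one_mul 1, ss, tt, by rw [mul_assoc, ← mul_assoc (y .f2), ← st, mul_assoc, tt, mul_one, ss]]
  have fE : Finite E := Nat.finite_of_card_ne_zero (by omega)
  have : Nontrivial E := Finite.one_lt_card_iff_nontrivial.1 (by omega)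
  let ι : φ.ker →* G := (Subgroup.subtype _).comp φ.ker.subtype
  have hι : Function.Injective ι := Subtype.val_injective.comp Subtype.val_injective
  have rι : ι.range = centralizer (E : Set G) := le_antisymm (by rintro _ ⟨x, rfl⟩; exact (h1 _).1 x.2)
    fun x hx => ⟨⟨⟨x, centralizer_le_normalizer _ hx⟩, (h1 _).2 hx⟩, rfl⟩
  let E' := (E.subgroupOf (normalizer (E : Set G))).subgroupOf φ.ker
  have mE' : ∀ {x}, x ∈ E' ↔ ι x ∈ E := Iff.rfl
  have cen : ∀ x ∈ E', ∀ g, g * x = x * g := fun x hx g => hι (by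
    rw [map_mul, map_mul]; exact ((rι.le ⟨g, rfl⟩) _ hx).symm)
  have hn : E'.Normal := ⟨fun x hx g => by rwa [cen x hx, mul_inv_cancel_right]⟩
  have cE' : Nat.card E' = 4 := by
    rw [← cE, ← card_map_of_injective hι, show E' = E.comap ι from rfl, map_comap_eq_self (rι ▸ EC)]
  have cK : Nat.card φ.ker = 4 * 76532479683774853939200 := by
    rw [← hc, ← hC, ← rι]; exact Nat.card_congr (MonoidHom.ofInjective hι).toEquiv
  have : ∀ n, ∃ x, n ∈ I2 → ι x = y n := fun n => by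
    by_cases hn : n ∈ I2
    · have : ∀ n ∈ I2, (n ∈ I2 ∧ Bimonster.Gen.f3 ∈ I2 ∧ coxLabel Bimonster.edges n .f3 ≤ 2) ∧
        (n ∈ I2 ∧ Bimonster.Gen.f2 ∈ I2 ∧ coxLabel Bimonster.edges n .f2 ≤ 2) := by decide
      obtain ⟨x, e⟩ := (rι.trans hC).ge (s33_mem (rel.cm' _ _ (this n hn).1) (rel.cm' _ _ (this n hn).2))
      exact ⟨x, fun _ => e⟩
    · exact ⟨1, fun e => absurd e hn⟩
  choose κ hκ using this
  have rκ : Rel I2 κ := Rel.of_map hι (rel.congr (fun _ => id) fun n hn => (hκ n hn).symm)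
  have f2 : κ .f2 ∈ E' := mE'.2 (by rw [hκ _ (by decide)]; exact mE.2 (by simp))
  have f3 : κ .f3 ∈ E' := mE'.2 (by rw [hκ _ (by decide)]; exact mE.2 (by simp))
  have ne : κ .f2 ≠ κ .f3 := fun e => n3 (by rw [← hκ _ (by decide), e, hκ _ (by decide)])
  refine ⟨E, _, φ.ker, ⟨cE, (Monoid.exponent_eq_prime_iff (G := E) Nat.prime_two).2 fun x hx =>
    orderOf_eq_prime (Subtype.ext ((pow_two _).trans (sq _ x.2))) hx⟩, rfl, fun x hx => (h1 _).2 (EC hx), ?_,
    ⟨inferInstance, ⟨QuotientGroup.quotientKerEquivOfSurjective φ fun σ => ?_⟩⟩, fun L hL => ?_⟩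
  · let _ := Fintype.ofFinite (GaloisField 2 2)
    have hF : Fintype.card (GaloisField 2 2) = 4 := by
      rw [← Nat.card_eq_fintype_card, GaloisField.card 2 2 two_ne_zero]; rfl
    let k : Nd → φ.ker ⧸ E' := fun n => QuotientGroup.mk' E' (κ n)
    have rk : Rel I2 k := rκ.map _
    have k2 : k .f2 = 1 := (QuotientGroup.eq_one_iff _).2 f2
    have k3 : k .f3 = 1 := (QuotientGroup.eq_one_iff _).2 f3
    have cG : Nat.card (φ.ker ⧸ E') = 76532479683774853939200 := by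
      have h1 := card_eq_card_quotient_mul_card_subgroup E'
      rw [cK, cE'] at h1
      omega
    have nt : Gp I2 k ≠ ⊥ := fun e => ne (s33_ab rκ fun m _ n hn =>
      cen _ ((QuotientGroup.eq_one_iff _).1 (e.le (mem_Gp hn))) _)
    have := (nontrivial_iff_ne_bot _).2 nt
    have : Finite (φ.ker ⧸ E') := Nat.finite_of_card_ne_zero (by omega)
    have top : Gp I2 k = ⊤ := eq_top_of_card_eq _ ((e60 hY (rk.sub fun _ => id)
      (Subtype.ext ((sub_coe (by decide)).trans k2)) (Subtype.ext ((sub_coe (by decide)).trans k3)) Gp_sub).1.trans cG.symm)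
    have : Nontrivial (φ.ker ⧸ E') := Finite.one_lt_card_iff_nontrivial.1 (by omega)
    exact ⟨GaloisField 2 2, _, _, hF, hn, e60_twisted hY rk k2 k3 top _ hF⟩
  · obtain ⟨x, -, e⟩ := h2 _ (fun u hu v hv a b c => by
      obtain ⟨x, e1, e2⟩ := hp u v ((mE.1 hu).resolve_left a) ((mE.1 hv).resolve_left b) c
      refine ⟨x, mem_normalizer_fintype (S := (E : Set G)) fun w hw => ?_, e1, e2⟩
      rcases mE.1 hw with rfl | rfl | rfl | rfl
      exacts [by simp, e1 ▸ hu, e2 ▸ hv, by rw [← conj_mul, e1, e2]; exact mul_mem hu hv]) le_rfl σ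
    exact ⟨x, e⟩
  · have dec : ∀ g, ∃ e ∈ E', ∃ l ∈ L, e * l = g := fun g =>
      let ⟨p, e⟩ := hL.2 g; ⟨_, p.1.2, _, p.2.2, e⟩
    have : L.Normal := ⟨fun x hx g => by
      obtain ⟨e, he, l, hl, rfl⟩ := dec g
      rw [← cen e he, show l * e * x * (l * e)⁻¹ = l * (e * x * e⁻¹) * l⁻¹ by group, ← cen e he, mul_inv_cancel_right]
      exact mul_mem (mul_mem hl hx) (inv_mem hl)⟩
    have := s33_ab (rκ.map (QuotientGroup.mk' L)) fun m _ n _ => by
      obtain ⟨e, he, l, hl, k⟩ := dec (κ n)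
      rw [← k, map_mul, show QuotientGroup.mk' L l = 1 from (QuotientGroup.eq_one_iff _).2 hl, mul_one, Commute,
        SemiconjBy, ← map_mul, cen e he, map_mul]
    exact ne (inv_mul_eq_one.1 (disjoint_def.1 hL.disjoint (mul_mem (inv_mem f2) f3) (QuotientGroup.eq.1 this)))

section
variable {H : Type} [Group H] [Finite H] {V : Type} [AddCommGroup V] [Module ℝ V] {y : Nd → H} {z : H}
  {Q : Subgroup H} {π : centralizer ({z} : Set H) →* Co1} {R : leechLattice → H → Prop} {s s1 : H}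
  {mul : V →ₗ[ℝ] V →ₗ[ℝ] V} {bil : LinearMap.BilinForm ℝ V} {ρ : H →* (V ≃ₗ[ℝ] V)} {ax : H → V}

/-- **The normalizer `2².²E₆(2).S₃`** in any group isomorphic to the constructed one. -/
theorem MD.s5533 (h : MD y z Q π R s s1 mul bil ρ ax) (hY : Y3Thm) {G : Type} [Group G] (φ : G ≃* H) :
    ∃ (E N : Subgroup G) (K : Subgroup N), IsKleinFour E ∧ N = normalizer (E : Set G) ∧ E.subgroupOf N ≤ K ∧
      (∃ (F : Type) (_ : Field F) (_ : Fintype F), Fintype.card F = 4 ∧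
        ∃ _ : ((E.subgroupOf N).subgroupOf K).Normal, Nonempty (K ⧸ (E.subgroupOf N).subgroupOf K ≃* twistedE6 F 2)) ∧
      (∃ _ : K.Normal, Nonempty (N ⧸ K ≃* Equiv.Perm (Fin 3))) ∧
      ∀ L : Subgroup K, ¬ ((E.subgroupOf N).subgroupOf K).IsComplement' L := by
  have T1 := h.ma.gd.T_s1
  have ne : s1 ≠ s := fun e => h.ma.gd.t_ne_one h.T_ss1 (by rw [e, h.ss])
  refine s33_gen hY (y := fun n => φ.symm (y n)) ((h.rel.mono (by decide)).map φ.symm.toMonoidHom) ?_ ?_ ?_ ?_ ?_ <;>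
    simp only [h.f2, h.f3]
  · simpa using h.ma.gd.s_ne_one
  · simpa using h.ma.gd.t_ne_one T1
  · simpa using ne
  · rw [← h.card_Hs]
    refine Nat.card_congr (φ.toEquiv.subtypeEquiv fun g => ?_)
    simp only [mem_inf, mem_centralizer_singleton_iff, ← φ.injective.eq_iff, map_mul, MulEquiv.apply_symm_apply]
    rfl
  · intro u v hu hv huv
    simp only [← φ.injective.eq_iff, map_mul, MulEquiv.apply_symm_apply] at hu hv
    have e1 : s * (s * s1) = s1 := by rw [← mul_assoc, h.ss, one_mul]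
    have e2 : s * s1 * s = s1 := by rw [← h.s1s, mul_assoc, h.ss, mul_one]
    have e3 : s1 * (s * s1) = s := by rw [← h.s1s, ← mul_assoc, h.s1s1, one_mul]
    have e4 : s * s1 * s1 = s := by rw [mul_assoc, h.s1s1, mul_one]
    have : ∃ g, g * s * g⁻¹ = φ u ∧ g * s1 * g⁻¹ = φ v := by
      have k := φ.injective.ne huv
      rcases hu with a | a | a <;> rcases hv with b | b | b <;> rw [a, b] at k ⊢ <;> try exact absurd rfl k
      all_goals refine h.ma.two_a ?_ ?_ ?_ ?_ <;> simp only [e1, e2, e3, e4, h.s1s, T1, h.T_ss1, IsConj.refl]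
    obtain ⟨g, a, b⟩ := this
    exact ⟨φ.symm g, φ.injective (by simpa using a), φ.injective (by simpa using b)⟩

end

theorem s5533_of (hY : Y3Thm) (hM : IsSimpleGroup Monster) : ∃ (E N : Subgroup Cfsg.Spor.Monster) (K : Subgroup ↥N), IsKleinFour ↥E ∧ N = Subgroup.normalizer (E : Set Cfsg.Spor.Monster) ∧ E.subgroupOf N ≤ K ∧ (∃ (F : Type) (_ : Field F) (_ : Fintype F), Fintype.card F = 4 ∧ ∃ _ : ((E.subgroupOf N).subgroupOf K).Normal, Nonempty (↥K ⧸ (E.subgroupOf N).subgroupOf K ≃* ↥(Cfsg.Lie.twistedE6 F 2))) ∧ (∃ _ : K.Normal, Nonempty (↥N ⧸ K ≃* Equiv.Perm (Fin 3))) ∧ ∀ L : Subgroup ↥K, ¬ ((E.subgroupOf N).subgroupOf K).IsComplement' L := by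
  obtain ⟨_, H, _, _, δ, τ, ρ, π, y, g, -, -, hf, h⟩ := exists_md
  obtain ⟨e⟩ := hf.isoM hM
  exact h.s5533 hY e

theorem s5540_of (hM : IsSimpleGroup Monster) : ∃ ρ : Representation ℝ Cfsg.Spor.Monster (Fin 196883 → ℝ), Function.Injective ρ ∧ (∀ W : Submodule ℝ (Fin 196883 → ℝ), (∀ g : Cfsg.Spor.Monster, W.map (ρ g) ≤ W) → W = ⊥ ∨ W = ⊤) ∧ (∃ B : LinearMap.BilinForm ℝ (Fin 196883 → ℝ), B ≠ 0 ∧ (∀ u v, B u v = B v u) ∧ ∀ (g : Cfsg.Spor.Monster) (u v : (Fin 196883 → ℝ)), B (ρ g u) (ρ g v) = B u v) ∧ ∃ m : (Fin 196883 → ℝ) →ₗ[ℝ] (Fin 196883 → ℝ) →ₗ[ℝ] (Fin 196883 → ℝ), m ≠ 0 ∧ (∀ u v, m u v = m v u) ∧ (∀ (g : Cfsg.Spor.Monster) (u v : (Fin 196883 → ℝ)), m (ρ g u) (ρ g v) = ρ g (m u v)) ∧ ∀ m' : (Fin 196883 → ℝ) →ₗ[ℝ] (Fin 196883 → ℝ) →ₗ[ℝ] (Fin 196883 → ℝ), (∀ (g : Cfsg.Spor.Monster) (u v : (Fin 196883 → ℝ)), m' (ρ g u) (ρ g v) = ρ g (m' u v)) → ∃ c : ℝ, m' = c • m := by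
  obtain ⟨_, H, _, _, δ, τ, ρ, π, y, g, -, h, hf, -⟩ := exists_md
  obtain ⟨e⟩ := hf.isoM hM
  exact h.s5540 e

end CL.IN
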