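/-
The Monster amalgam: closed paths through the points of `{s₁, s}` lift to closed paths.
-/
import Cfsg.Agent.Spor.Am0
import Cfsg.Agent.Spor.InMain

set_option autoImplicit false
set_option linter.unusedSectionVars false

namespace CL.AM

open Cfsg Cfsg.Spor Subgroup CL.BM CL.Mj CL.Even CL.Spor.Leech CL.Spor.Mon CL.IN Relation

namespace L2x

theorem pent {G : Type*} [Group G] {a b c d e : G} (aa : a * a = 1) (bb : b * b = 1) (dd : d * d = 1) (ee : e * e = 1)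
    (ab : b * a = a * b) (bc : c * b = b * c) (de : e * d = d * e) (ea : a * e = e * a)
    (h1 : a * c = c * a * b) (h2 : e * b = b * e * a) (h3 : c * e = e * c * d) (h4 : d * a = a * d * e) :
    e * b = b * e := by
  have r1 : ∀ x, c * (a * x) = a * (b * (c * x)) := fun x => by
    rw [← mul_assoc b, ← bc, mul_assoc c, ← mul_assoc a c, h1, mul_assoc, ← mul_assoc b, bb, one_mul, mul_assoc]
  have r2 : ∀ x, e * (b * x) = a * (b * (e * x)) := fun x => by
    rw [← mul_assoc, h2, mul_assoc b, ← ea, ← mul_assoc b, ab]; simp only [mul_assoc]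
  have r3 : ∀ x, e * (c * x) = c * (d * (e * x)) := fun x => by
    rw [← mul_assoc d, ← de, mul_assoc e d, ← mul_assoc c e, h3, mul_assoc, ← mul_assoc d, dd, one_mul, mul_assoc]
  have r4 : ∀ x, d * (a * x) = a * (d * (e * x)) := fun x => by rw [← mul_assoc, h4]; simp only [mul_assoc]
  have r5 : ∀ x, e * (a * x) = a * (e * x) := fun x => by rw [← mul_assoc, ← ea, mul_assoc]
  have r6 : ∀ x, a * (a * x) = x := fun x => by rw [← mul_assoc, aa, one_mul]
  have r7 : ∀ x, e * (e * x) = x := fun x => by rw [← mul_assoc, ee, one_mul]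
  have k1 : e * (c * (a * 1)) = a * (b * (c * (d * 1))) := by rw [r3, r5, r4, r7, r1]
  have k2 : e * (c * (a * 1)) = b * (c * (d * (e * 1))) := by rw [r1, r5, r2, r6, r3]
  rw [k2, mul_one, mul_one, ← de, ← mul_assoc a, ← ab, mul_assoc, mul_right_inj, ← mul_assoc a, h1, ← mul_assoc,
    mul_left_inj, mul_assoc, mul_right_inj] at k1
  rw [k1, ← mul_assoc, ab]

variable {H : Type} [Group H] [Finite H] {V : Type} [AddCommGroup V] [Module ℝ V] {y : Nd → H} {z : H}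
  {Q : Subgroup H} {π : centralizer ({z} : Set H) →* Co1} {R : leechLattice → H → Prop} {s s1 : H}
  {mul : V →ₗ[ℝ] V →ₗ[ℝ] V} {bil : LinearMap.BilinForm ℝ V} {ρ : H →* (V ≃ₗ[ℝ] V)} {ax : H → V}
  (h : MD y z Q π R s s1 mul bil ρ ax) {u u' : H}

theorem pt_iff : Pt z Q {s1, s} u ↔ InQ z Q u s ∧ InQ z Q u s1 := by
  simp only [Pt, Set.mem_insert_iff, Set.mem_singleton_iff, forall_eq_or_imp, forall_eq]
  exact ⟨fun k => ⟨k.2.2, k.2.1⟩, fun k => ⟨k.1.isConj, k.2, k.1⟩⟩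

include h

theorem back (u : H) : u * s * s1 * s * s1 = u := by
  rw [mul_assoc (u * s), h.s1s, ← mul_assoc, mul_assoc u, h.ss, mul_one, mul_assoc, h.s1s1, mul_one]

theorem left (hu : Pt z Q {s1, s} u) : s * s1 * (u * s * s1) = u := by
  have a1 := h.ma.gd.inQ_comm (pt_iff.1 hu).1
  have a2 := h.ma.gd.inQ_comm (pt_iff.1 hu).2
  rw [← mul_assoc, ← mul_assoc, mul_assoc s s1, a2, ← mul_assoc, a1, back h]

theorem prod (u : H) (hu : Pt z Q {s1, s} u') : u * s * s1 * (u' * s * s1) = u * u' := by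
  rw [mul_assoc u, mul_assoc u, left h hu]

theorem conj_mul (k : Ad z Q u u') : IsConj z (u' * u) := by
  obtain ⟨g, rfl⟩ := isConj_iff.1 k.1.isConj
  have m := h.ma.gd.mt
  obtain ⟨v, v1, v2⟩ := m.type_of_isConj (h.ma.gd.inQ_iff.1 k.1) (by simpa using isConj_conj k.2.1 g⁻¹)
    fun e => k.2.2 (by rw [← e]; group)
  have := isConj_conj (m.isConj_of_type (m.mulZ v1 (mem_zpowers z)) v2).1 g
  rwa [show g * (g⁻¹ * u' * g * z) * g⁻¹ = u' * (g * z * g⁻¹) by group] at this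

theorem col_iff (hu : Pt z Q {s1, s} u) (hu' : Pt z Q {s1, s} u') :
    Col s (u * s * s1) (u' * s * s1) ↔ Ad z Q u u' := by
  have g0 := h.ma.gd
  obtain ⟨a1, a2⟩ := pt_iff.1 hu
  obtain ⟨b1, b2⟩ := pt_iff.1 hu'
  refine ⟨fun c => ⟨?_, hu'.1, fun e => c.2.1 (by rw [e])⟩, fun k => ⟨?_, fun e => k.2.2 (by simpa using e.symm), ?_⟩⟩
  · have := h.msi_inQ (h.inQ_pi a1 a2) (h.inQ_pi b1 b2) c
    rw [left h hu] at this
    exact back h u' ▸ g0.inQ_mul (g0.inQ_mul this a1) a2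
  · rw [prod h u hu', prod h u' hu, g0.inQ_comm k.1]
  · rw [prod h u hu', ← g0.inQ_comm k.1]
    exact fun e => g0.not_conj' e (conj_mul h k)

theorem np5 : NP5 (fun p q : Pi2 s s1 => Col s (p : H) q) fun p q : Pi2 s s1 => (q : H) ∈ Df (p : H) := by
  have g0 := h.ma.gd
  have pt : ∀ p : Pi2 s s1, Pt z Q {s1, s} (p * s * s1) := fun p => pt_iff.2 (h.pi_inQ p.2)
  have ad : ∀ {p q : Pi2 s s1}, Col s (p : H) q → InQ z Q (p * s * s1) (q * s * s1) := fun {p q} c =>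
    ((col_iff h (pt p) (pt q)).1 (by rwa [back h, back h])).1
  have sp : ∀ {p q : Pi2 s s1}, Sp (fun p q : Pi2 s s1 => Col s (p : H) q)
      (fun p q : Pi2 s s1 => (q : H) ∈ Df (p : H)) p q →
      (p : H) * s * s1 * (q * s * s1) ≠ q * s * s1 * (p * s * s1) := fun {p q} k e => by
    have e1 := prod h (p * s * s1) (pt q)
    have e2 := prod h (q * s * s1) (pt p)
    rw [back h, back h] at e1 e2
    rw [← e1, ← e2] at e
    refine k.2.2 ((mem_Df' (mem_Df.1 p.2.1).1).2 ⟨(mem_Df.1 q.2.1).1, e.symm, ?_⟩)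
    by_contra h0
    exact k.2.1 ⟨e, fun e' => k.1 (Subtype.ext e'), e ▸ h0⟩
  intro a b c d e ab bc cd de ea s1' _ s3 s4 s5
  exact sp s5 (pent (g0.uu (pt a).1) (g0.uu (pt b).1) (g0.uu (pt d).1) (g0.uu (pt e).1) (g0.inQ_comm (ad ab))
    (g0.inQ_comm (ad bc)) (g0.inQ_comm (ad de)) (g0.inQ_comm (ad ea))
    ((g0.inQ_comm_or (ad ab.symm) (ad bc)).resolve_left (sp s1'))
    ((g0.inQ_comm_or (ad ea.symm) (ad ab)).resolve_left (sp s5))
    ((g0.inQ_comm_or (ad cd.symm) (ad de)).resolve_left (sp s3))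
    ((g0.inQ_comm_or (ad de.symm) (ad ea)).resolve_left (sp s4)))

end L2x

theorem lev2 (hM : MSC) : Lev2 := fun H _ _ V _ _ y z Q π R s s1 mul bil ρ ax h U W _ _ φ p adj cv v w k e => by
  obtain ⟨th, ms⟩ := h.msi (h.nf levThm) (ldp ln3)
  let q : {v : W // Pt z Q {s1, s} (p v)} → Pi2 s s1 := fun v =>
    ⟨p v * s * s1, h.inQ_pi (L2x.pt_iff.1 v.2).1 (L2x.pt_iff.1 v.2).2⟩
  have cov : Cov (fun p q : Pi2 s s1 => Col s (p : H) q) (fun a b : {v : W // Pt z Q {s1, s} (p v)} => adj a b) q :=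
    ⟨cv.cov.symm, fun {a b} k => (L2x.col_iff h a.2 b.2).2 (cv.cov.map k),
      fun k k' e => Subtype.ext (cv.cov.inj k k' (by simpa [q] using e)), fun a t c => by
        have ht := L2x.pt_iff.2 (h.pi_inQ t.2)
        obtain ⟨b, b1, b2⟩ := cv.cov.surj a _ ((L2x.col_iff h a.2 ht).1 (by rwa [L2x.back h]))
        exact ⟨⟨b, b2 ▸ ht⟩, b1, Subtype.ext (by simp only [q, b2, L2x.back h])⟩,
      fun {_ a b} k k' c => cv.cov.tri k k' ((L2x.col_iff h a.2 b.2).1 c)⟩
  rcases ReflTransGen.cases_head k with k0 | ⟨_, k1, -⟩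
  · exact k0
  have key : ∀ w (k : Re z Q p adj {s1, s} v w), ReflTransGen (fun a b : {v : W // Pt z Q {s1, s} (p v)} => adj a b)
      ⟨v, k1.2.1⟩ ⟨w, k.pt k1.2.1⟩ := fun w k => by
    induction k with
    | refl => exact .refl
    | tail _ e ih => exact ih.tail e.1
  exact congrArg Subtype.val (hM _ _ _ th ms (L2x.np5 h) _ _ q cov _ _ (key w k) (Subtype.ext (by simp only [q, e])))

end CL.AM
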