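/-
The Monster amalgam: the facts for the level `s`.
-/
import Cfsg.Agent.Spor.Am0
import Cfsg.Agent.Spor.InMain

set_option autoImplicit false
set_option linter.unusedSectionVars false

namespace CL.AM

open Cfsg Cfsg.Spor Subgroup CL.BM CL.Mj CL.Even CL.Spor.Leech CL.Spor.Mon CL.IN Relation

variable {H : Type} [Group H] [Finite H] {V : Type} [AddCommGroup V] [Module ℝ V] {y : Nd → H} {z : H}
  {Q : Subgroup H} {π : centralizer ({z} : Set H) →* Co1} {R : leechLattice → H → Prop} {s s1 : H}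
  {mul : V →ₗ[ℝ] V →ₗ[ℝ] V} {bil : LinearMap.BilinForm ℝ V} {ρ : H →* (V ≃ₗ[ℝ] V)} {ax : H → V}

theorem edge0 (m : MT z Q π R) {v x : H} {w : leechLattice} (hv : R (e8 none) v) (hx : x ∈ Q) (hvx : InQ z Q v x)
    (hw : R w x) (nw : sqNorm (w : GolayPt → ℤ) = 32) : ∀ i, (4 : ℤ) ∣ (w : GolayPt → ℤ) i := by
  obtain ⟨g, rfl, hg⟩ := hvx
  have h' := m.xe.conj g
  have k : ∀ i j, (4 : ℤ) ∣ (w : GolayPt → ℤ) i + (w : GolayPt → ℤ) j := fun i j => by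
    obtain ⟨b, hb⟩ := m.exR (p2f i j)
    have h1 := p2_el m g hv _ b hb fun l => by rw [lt_p2f_apply]; split_ifs <;> decide
    have h2 : x * b = b * x := by
      rcases h'.mem_Z.1 (h'.comm_mem hg h1) with e | e
      · exact commutatorElement_eq_one_iff_mul_comm.1 e
      · exact absurd ((m.xe.mem_Z.1 (e ▸ m.xe.comm_mem hx (m.mem hb))).resolve_left h'.ne_one) (p2_ne m hv)
    have := (m.comm_iff hw hb).1 h2
    rw [lt_dot_p2f] at this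
    omega
  intro i
  by_contra hi
  have : ∑ _j : GolayPt, (4 : ℤ) ≤ sqNorm (w : GolayPt → ℤ) := Finset.sum_le_sum fun j _ => by
    have h1 := k i j
    have h2 := k i i
    have : (w : GolayPt → ℤ) j ≤ -2 ∨ 2 ≤ (w : GolayPt → ℤ) j := by omega
    rcases this with e | e <;> nlinarith
  rw [nw, Finset.sum_const, Finset.card_univ, card_golayPt] at this
  norm_num at this

namespace Lv3

theorem edge1 (g0 : GD z Q π R s s1) {v x : H} (hv : R (e8 none) v) (hx : x ∈ Q) (hvx : InQ z Q v x)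
    (ht : IsConj s x) : ∃ b ∈ Df x, b ∈ Q ∧ InQ z Q v b := by
  obtain ⟨w, hw, nw⟩ := g0.short_of hx ht
  obtain ⟨i, j, hij, hi, -, e⟩ := e3_shape nw (edge0 g0.mt hv hx hvx hw nw)
  obtain ⟨k, -, hk⟩ := Finset.exists_mem_notMem_of_card_lt_card (s := {i, j}) (t := Finset.univ)
    (by rw [Finset.card_univ, card_golayPt, Finset.card_pair hij]; omega)
  rw [Finset.mem_insert, Finset.mem_singleton, not_or] at hk
  obtain ⟨b, hb⟩ := g0.mt.exR (p2f i k)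
  have nb : sqNorm (p2f i k : GolayPt → ℤ) = 32 := by
    rw [show ∀ x : GolayPt → ℤ, sqNorm x = dotInt x x from fun x => Finset.sum_congr rfl fun l _ => sq _]
    simp [lt_dot_p2f, lt_p2f_apply, hk.1, Ne.symm hk.1]
  have d : |dotInt (p2f i k : GolayPt → ℤ) w| = 16 := by
    simp [e, lt_p2f_apply, hij.symm, Ne.symm hk.1, Ne.symm hk.2, abs_mul, hi]
  obtain ⟨g, rfl, -⟩ := hvx
  exact ⟨b, (mem_Df' ht).2 ⟨g0.isT hb nb, (g0.mt.comm_iff hb hw).2 ((dvd_abs _ _).1 (by rw [d])),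
    (g0.lc_Tmul hb hw nb nw).2 d⟩, g0.mt.mem hb, g, rfl,
    p2_el g0.mt g hv _ b hb fun l => by rw [lt_p2f_apply]; split_ifs <;> decide⟩

theorem edge (g0 : GD z Q π R s s1) {u u' : H} (hu : InQ z Q u s) (hu' : InQ z Q u' s) (a : Ad z Q u u') :
    ∃ b ∈ Df s, InQ z Q u b ∧ InQ z Q u' b := by
  obtain ⟨k, rfl⟩ := isConj_iff.1 hu.isConj
  obtain ⟨v, hv⟩ := g0.mt.exR (e8 none)
  obtain ⟨v1, v2⟩ := g0.mt.isConj_of_type hv (sqNorm_e8 _)
  obtain ⟨c, hc, e⟩ := g0.mt.trans_conj (g0.mt.mem hv) (g0.inQ_iff.1 a.1) v1 (by simpa using isConj_conj a.2.1 k⁻¹) v2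
    fun e => a.2.2 (by rw [← e]; group)
  have e1 : k * z * k⁻¹ = k * c * z * (k * c)⁻¹ := by rw [mul_assoc k c, mem_centralizer_singleton_iff.1 hc]; group
  have e2 : u' = k * c * v * (k * c)⁻¹ := by
    rw [show k * c * v * (k * c)⁻¹ = k * (c * v * c⁻¹) * k⁻¹ by group, e]; group
  rw [e1] at hu ⊢
  subst e2
  generalize k * c = g at hu hu' ⊢
  obtain ⟨b, b1, b2, b3⟩ := edge1 g0 hv (g0.inQ_iff.1 hu) (by simpa [mul_assoc] using GD.inQ_conj g⁻¹ hu')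
    (by simpa using isConj_conj (IsConj.refl s) g⁻¹)
  exact ⟨g * b * g⁻¹, by simpa [mul_assoc] using Df_conj g b1, GD.inQ_conj g (g0.inQ_z.2 b2), GD.inQ_conj g b3⟩

theorem pt1 {u : H} : Pt z Q {s} u ↔ InQ z Q u s :=
  ⟨fun k => k.2 s rfl, fun k => ⟨k.isConj, by rintro _ rfl; exact k⟩⟩

theorem cent2 : centralizer ({s1, s} : Set H) = centralizer {s} ⊓ centralizer {s1} := by
  ext g; simp [mem_centralizer_iff, and_comm]

theorem Gp_cons (n : Nd) (I : List Nd) : Gp (n :: I) y = Gp I y ⊔ zpowers (y n) :=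
  le_antisymm (Gp_le.2 fun _ hm => (List.mem_cons.1 hm).elim (fun e => e ▸ mem_sup_right (mem_zpowers _))
    fun e => mem_sup_left (mem_Gp e))
    (sup_le (Gp_mono fun _ => List.mem_cons_of_mem _) (zpowers_le.2 (mem_Gp List.mem_cons_self)))

variable (h : MD y z Q π R s s1 mul bil ρ ax)
include h

theorem can (u : H) : s * s1 * (s * s1 * u) = u := by rw [← mul_assoc, h.ma.gd.tt h.T_ss1, one_mul]

theorem pt_of {p : H} (hp : p ∈ Pi2 s s1) : Pt z Q {s1, s} (s * s1 * p) := by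
  obtain ⟨c1, c2⟩ := mem_Hs.1 (Pi2.mem_Hs hp)
  have := h.pi_inQ hp
  rw [c1, mul_assoc, c2, ← mul_assoc] at this
  exact Pt.insert_iff.2 ⟨this.2, pt1.2 this.1⟩

theorem of_pt {u : H} (hu : Pt z Q {s1, s} u) : s * s1 * u ∈ Pi2 s s1 := by
  obtain ⟨a, b⟩ := Pt.insert_iff.1 hu
  have := h.inQ_pi (pt1.1 b) a
  rwa [← h.ma.gd.inQ_comm (pt1.1 b), mul_assoc, ← h.ma.gd.inQ_comm a, ← mul_assoc] at this

theorem inQ_ss1 {u x : H} (hu : Pt z Q {s1, s} u) (hx : InQ z Q u x) : InQ z Q u (s * s1 * x) :=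
  h.ma.gd.inQ_mul (h.ma.gd.inQ_mul (hu.2 s (by simp)) (hu.2 s1 (by simp))) hx

theorem cn1 : Cn z Q {s1, s} := fun u u' hu hu' => by
  have := rtg_lift (r' := fun a b => Ad z Q a b ∧ Pt z Q {s1, s} a ∧ Pt z Q {s1, s} b) (fun p => s * s1 * p)
    (fun p q k => ⟨⟨inQ_ss1 h (pt_of h k.1) (h.msi_inQ k.1 k.2.1 k.2.2), (pt_of h k.2.1).1,
      fun e => k.2.2.2.1 (mul_left_cancel e).symm⟩, pt_of h k.1, pt_of h k.2.1⟩)
    (h.hog_conn (l2T _ _ _ _ _ _ _ _ _ _ _ _ _ h).full (h.nf levThm) (of_pt h hu) (of_pt h hu'))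
  simpa only [can h] using this

theorem cn2 {d : H} (hd : d ∈ Pi2 s s1) : Cn z Q {d, s1, s} := by
  have p0 := pt_of h hd
  have p1 : Pt z Q {d, s1, s} (s * s1 * d) :=
    Pt.insert_iff.2 ⟨by simpa only [can h] using inQ_ss1 h p0 (h.ma.gd.inQ_self p0.1), p0⟩
  have k : ∀ u, Pt z Q {d, s1, s} u → u = s * s1 * d ∨ Ad z Q u (s * s1 * d) ∧ Ad z Q (s * s1 * d) u := fun u hu => by
    have a := inQ_ss1 h (Pt.insert_iff.1 hu).2 (Pt.insert_iff.1 hu).1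
    exact (em _).imp_right fun e => ⟨⟨a, p0.1, Ne.symm e⟩, inQ_symm h.ma.gd a p0.1, hu.1, e⟩
  intro u u' hu hu'
  refine ReflTransGen.trans (b := s * s1 * d) ?_ ?_
  · rcases k u hu with rfl | e
    exacts [.refl, .single ⟨e.1, hu, p1⟩]
  · rcases k u' hu' with rfl | e
    exacts [.refl, .single ⟨e.2, p1, hu'⟩]

theorem loc {u x x' : H} (hu : InQ z Q u s) (hx : x ∈ Df s) (hx' : x' ∈ Df s) (ux : InQ z Q u x) (ux' : InQ z Q u x') :
    ReflTransGen (fun a b => b ∈ Pi2 s a ∧ InQ z Q u b) x x' := by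
  have g0 := h.ma.gd
  have t := g0.inQ_T hu (IsConj.refl s)
  have su := g0.inQ_comm hu
  have e : s * (s * u) = u := by rw [← mul_assoc, h.ss, one_mul]
  have k : ∀ x ∈ Df s, InQ z Q u x → x ∈ Df (s * u) := fun x hx ux => by
    obtain ⟨a1, a2, a3⟩ := mem_Df.1 hx
    exact (mem_Df' t).2 ⟨a1, Commute.mul_right a2 (g0.inQ_comm ux), mul_assoc x s u ▸ g0.inQ_T (g0.inQ_mul ux hu) a3⟩
  refine rtg_mono (fun a w hw => ⟨hw.1, ?_⟩) ((h.e2 s (s * u) (.refl s) t (by rw [mul_assoc, ← su])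
    (fun e' => g0.not_conj' (IsConj.refl s) (by
      have := hu.isConj
      rw [left_eq_mul.1 e', isConj_one_left] at this
      exact absurd this g0.mt.xe.ne_one)) fun e' => g0.not_conj' (e ▸ e') hu.isConj).2 x x' hx (k x hx ux) hx' (k x' hx' ux'))
  obtain ⟨-, a2, a3⟩ := mem_Df.1 hw.1.1
  obtain ⟨-, b2, b3⟩ := (mem_Df' t).1 hw.2.1
  have c : Commute w u := e ▸ Commute.mul_right a2 b2
  have := g0.inQ_mul (nf_inQ h.ma a3 hu.isConj (Commute.mul_left c su) (mul_assoc w s u ▸ b3)) hu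
  rwa [mul_assoc, h.ss, mul_one] at this

theorem node_pi' (n m l : Nd) (hn : y n ∈ Pi2 s s1)
    (e : (n ∈ I4 ∧ Bimonster.Gen.c1 ∈ I4 ∧ coxLabel Bimonster.edges n .c1 = 2) ∧
      (m ∈ I4 ∧ Bimonster.Gen.f3 ∈ I4 ∧ coxLabel Bimonster.edges m .f3 = 2) ∧
      (m ∈ I4 ∧ Bimonster.Gen.c1 ∈ I4 ∧ coxLabel Bimonster.edges m .c1 = 2) ∧
      (m ∈ I4 ∧ n ∈ I4 ∧ coxLabel Bimonster.edges m n = 3) ∧ (l ∈ I4 ∧ m ∈ I4 ∧ coxLabel Bimonster.edges l m = 3) ∧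
      (l ∈ I4 ∧ n ∈ I4 ∧ coxLabel Bimonster.edges l n = 2)) : y n ∈ Pi2 s (y .c1) := by
  obtain ⟨a1, a2, a3, a4, a5, a6⟩ := e
  refine ⟨hn.1, h.node_Df _ _ a1, fun e => ?_⟩
  have b4 := (h.rel.br m n a4).eq_of_comm (by rw [e, ← h.f3]; exact (h.rel.cm _ _ a2).mul_right (h.rel.cm _ _ a3))
  have b5 := (h.rel.br l m a5).eq_of_comm (b4 ▸ h.rel.cm _ _ a6)
  exact h.ma.gd.t_ne_one (h.pair l a6.1 n a6.2.1 a6.2.2) (by rw [b5, b4, h.rel.sq a1.1])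

theorem pt4 {d w : H} (hd : d ∈ Pi2 s s1) (hw : w ∈ Pi2 s s1) (e : w ∈ Df d) : ∃ u, Pt z Q {w, d, s1, s} u := by
  obtain ⟨p, hp, c1, c2⟩ := h.nf levThm d hd w hw e
  exact ⟨_, Pt.insert_iff.2 ⟨h.msi_inQ hp hw c2, Pt.insert_iff.2 ⟨h.msi_inQ hp hd c1, pt_of h hp⟩⟩⟩

end Lv3

open Lv3 in
theorem lv3 : LV3 := fun H _ _ V _ _ y z Q π R s s1 mul bil ρ ax h => by
  have g0 := h.ma.gd
  have l2 := l2T _ _ _ _ _ _ _ _ _ _ _ _ _ h
  have d2 : y .d2 ∈ Pi2 s s1 := h.node_pi (by decide) (by decide) (by decide)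
  have c1 : y .c1 ∈ Pi2 s s1 := h.node_pi (by decide) (by decide) (by decide)
  have c3 : y .c3 ∈ Pi2 s s1 := h.node_pi (by decide) (by decide) (by decide)
  have r12 := node_pi' h .c3 .b3 .a c3 (by decide)
  have r1x := node_pi' h .d2 .c2 .b2 d2 (by decide)
  refine ⟨⟨g0.s1_mem, d2, fun _ k => k.1, fun x hx => ?_, fun c hc x hx => Df_cent (mem_centralizer_singleton_iff.1 hc) hx,
    fun x hx => cent2 (s := s) ▸ h.hog_tr d2 hx, fun c hc x x' k => ?_, fun u u' hu hu' => ?_, cn1 h, cn2 h d2,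
    fun u hu x hx x' hx' => loc h (pt1.1 hu) hx hx', fun u u' hu hu' => edge g0 (pt1.1 hu) (pt1.1 hu'), fun u hu => ?_⟩,
    c1, c3, r12, r1x, pt4 h c1 c3 r12.2.1, pt4 h c1 d2 r1x.2.1, ?_, ?_⟩
  · obtain ⟨g, h1, h2⟩ := h.ma.Df_trans hx
    exact ⟨g, mem_centralizer_singleton_iff.2 h1, h2⟩
  · have := e2_Pi2_conj c k
    rwa [mem_centralizer_singleton_iff.1 hc, mul_inv_cancel_right] at this
  · obtain ⟨g, hg, e, -⟩ := h.pi_norm (of_pt h hu)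
    obtain ⟨g', hg', e', -⟩ := h.pi_norm (of_pt h hu')
    rw [can h] at e e'
    exact ⟨g' * g⁻¹, cent2 (s := s) ▸ mul_mem hg' (inv_mem hg), by rw [← e, ← e']; group⟩
  · obtain ⟨g, e1, rfl⟩ := g0.pair_z (pt1.1 hu) (IsConj.refl s)
    exact ⟨_, Df_cent (mul_inv_eq_iff_eq_mul.1 e1) g0.s1_mem, GD.inQ_conj g (g0.inQ_z.2 g0.s1Q)⟩
  · rintro _ (rfl | rfl | rfl)
    exacts [h.rel.cm .c3 .e2, h.rel.cm .c1 .e2, h.f3 ▸ h.rel.cm .f3 .e2]
  · rw [cent2, ← l2.full, ← Gp_cons, (h.l3' l2).full]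

end CL.AM
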