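/-
The Monster amalgam: the facts for the top level.
-/
import Cfsg.Agent.Spor.Am0
import Cfsg.Agent.Spor.InMain

set_option autoImplicit false
set_option linter.unusedSectionVars false

namespace CL.AM

open Cfsg Cfsg.Spor Subgroup CL.BM CL.Mj CL.Even CL.Spor.Leech CL.Spor.Mon CL.IN Relation

namespace Lv4

theorem mid_of {v w a b x : leechLattice} (g : Co0) (h1 : g • v = a) (h2 : g • w = b) (hx : Sh x) (e1 : |dt a x| = 16)
    (e2 : |dt x b| = 16) : ∃ x, Sh x ∧ |dt v x| = 16 ∧ |dt x w| = 16 :=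
  ⟨g⁻¹ • x, (sqNorm_smul _ _).trans hx, by rw [← e1, dt, ← dot_smul g, h1, smul_inv_smul],
    by rw [← e2, dt, ← dot_smul g, h2, smul_inv_smul]⟩

/-- two minimal vectors are joined by a path of length at most two in the graph of inner products `±16` -/
theorem mid {v w : leechLattice} (hv : Sh v) (hw : Sh w) :
    |dt v w| = 16 ∨ ∃ x, Sh x ∧ |dt v x| = 16 ∧ |dt x w| = 16 := by
  have k8 : ∀ {w : leechLattice}, Sh w → dt v w = -8 → ∃ x, Sh x ∧ |dt v x| = 16 ∧ |dt x w| = 16 := fun hw e => by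
    obtain ⟨g, h1, h2⟩ := pair_m8 hv hw e
    exact mid_of g h1 h2 (x := p2f p0 (some 1) - e8 (some 1)) (by decide +kernel) (by decide +kernel) (by decide +kernel)
  have ng : ∀ {w : leechLattice}, (∃ x, Sh x ∧ |dt v x| = 16 ∧ |dt x (-w)| = 16) →
      ∃ x, Sh x ∧ |dt v x| = 16 ∧ |dt x w| = 16 := fun ⟨x, h1, h2, h3⟩ =>
    ⟨x, h1, h2, by rwa [dt, AddSubgroup.coe_neg, dot_neg_right, abs_neg] at h3⟩
  have k32 : ∃ x, Sh x ∧ |dt v x| = 16 ∧ |dt x v| = 16 := by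
    obtain ⟨g, h1⟩ := trans32 hv sqNorm_U
    exact mid_of g h1 h1 (x := lX) (by decide +kernel) (by decide +kernel) (by decide +kernel)
  rcases dot_min_cases hv hw with rfl | rfl | e
  · exact .inr k32
  · exact .inr (ng (by rwa [neg_neg]))
  simp only [Finset.mem_insert, Finset.mem_singleton] at e
  rcases e with e | e | e | e | e
  · exact .inl (by rw [dt, e]; rfl)
  · exact .inr (k8 hw e)
  · obtain ⟨g, h1, h2⟩ := pair_orth hv hw e
    exact .inr (mid_of g h1 h2 (x := p2f none (some 1)) (by decide +kernel) (by decide +kernel) (by decide +kernel))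
  · exact .inr (ng (k8 ((sqNorm_neg _).trans hw) (by rw [dt, AddSubgroup.coe_neg, dot_neg_right, e])))
  · exact .inl (by rw [dt, e]; rfl)

variable {H : Type} [Group H] [Finite H] {V : Type} [AddCommGroup V] [Module ℝ V] {y : Nd → H} {z : H}
  {Q : Subgroup H} {π : centralizer ({z} : Set H) →* Co1} {R : leechLattice → H → Prop} {s s1 : H}
  {mul : V →ₗ[ℝ] V →ₗ[ℝ] V} {bil : LinearMap.BilinForm ℝ V} {ρ : H →* (V ≃ₗ[ℝ] V)} {ax : H → V}

theorem df16 (g0 : GD z Q π R s s1) {v w : leechLattice} {x u : H} (hx : R v x) (hu : R w u) (hv : Sh v) (hw : Sh w)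
    (e : |dt v w| = 16) : u ∈ Df x := by
  rcases (abs_eq (by norm_num)).1 e with e | e
  · exact e2_Df g0 hx hu hv hw e
  · exact e2_Df g0 hx (g0.lc_neg hu) hv ((sqNorm_neg _).trans hw) (by rw [AddSubgroup.coe_neg, dot_neg_right, show dotInt _ _ = _ from e]; rfl)

theorem loc (g0 : GD z Q π R s s1) {u x x' : H} (hx : IsConj s x) (hx' : IsConj s x') (h1 : InQ z Q u x)
    (h2 : InQ z Q u x') : ReflTransGen (fun a b => b ∈ Df a ∧ InQ z Q u b) x x' := by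
  obtain ⟨k, rfl⟩ := isConj_iff.1 h1.isConj
  obtain ⟨v, hv, nv⟩ := g0.short_of (g0.inQ_iff.1 h1) (by simpa using isConj_conj hx k⁻¹)
  obtain ⟨w, hw, nw⟩ := g0.short_of (g0.inQ_iff.1 h2) (by simpa using isConj_conj hx' k⁻¹)
  rcases mid nv nw with e | ⟨t, nt, e1, e2⟩
  · exact .single ⟨by simpa [mul_assoc] using Df_conj k (df16 g0 hv hw nv nw e), h2⟩
  · obtain ⟨b, hb⟩ := g0.mt.exR t
    exact .tail (.single (b := k * b * k⁻¹) ⟨by simpa [mul_assoc] using Df_conj k (df16 g0 hv hb nv nt e1),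
      GD.inQ_conj k (g0.inQ_z.2 (g0.mt.mem hb))⟩) ⟨by simpa [mul_assoc] using Df_conj k (df16 g0 hb hw nt nw e2), h2⟩

theorem edge (g0 : GD z Q π R s s1) {u u' : H} (h : Ad z Q u u') : ∃ b, IsConj s b ∧ InQ z Q u b ∧ InQ z Q u' b := by
  obtain ⟨k, rfl⟩ := isConj_iff.1 h.1.isConj
  obtain ⟨v, hv⟩ := g0.mt.exR (e8 none)
  obtain ⟨v1, v2⟩ := g0.mt.isConj_of_type hv (sqNorm_e8 _)
  obtain ⟨c, hc, e⟩ := g0.mt.trans_conj (g0.mt.mem hv) (g0.inQ_iff.1 h.1) v1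
    (by simpa using isConj_conj h.2.1 k⁻¹) v2 fun e => h.2.2 (by rw [← e]; group)
  obtain ⟨g, rfl⟩ := isConj_iff.1 v1
  obtain ⟨b, hb⟩ := g0.mt.exR (p2f none (some 0))
  have h1 := GD.inQ_conj (k * c) (g0.inQ_z.2 (g0.mt.mem hb))
  have h2 := GD.inQ_conj (k * c) (show InQ z Q _ b from ⟨g, rfl, g0.el g hv _ b hb (by decide +kernel)⟩)
  refine ⟨_, isConj_conj (g0.isT hb (by decide +kernel)) (k * c), ?_, ?_⟩
  · rwa [show k * c * z * (k * c)⁻¹ = k * z * k⁻¹ by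
      rw [mul_assoc k c, mem_centralizer_singleton_iff.1 hc]; group] at h1
  · rwa [show k * c * (g * z * g⁻¹) * (k * c)⁻¹ = u' by rw [mul_assoc k, mul_inv_rev, ← mul_assoc, mul_assoc k, e]; group]
      at h2

variable (h : MD y z Q π R s s1 mul bil ρ ax)
include h

theorem pt {n m l : Nd} (e : (Bimonster.Gen.c1 ∈ I4 ∧ Bimonster.Gen.f3 ∈ I4 ∧ coxLabel Bimonster.edges .c1 .f3 = 2) ∧
    (n ∈ I4 ∧ Bimonster.Gen.f3 ∈ I4 ∧ coxLabel Bimonster.edges n .f3 = 2) ∧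
    (n ∈ I4 ∧ Bimonster.Gen.c1 ∈ I4 ∧ coxLabel Bimonster.edges n .c1 = 2) ∧
    (m ∈ I4 ∧ n ∈ I4 ∧ coxLabel Bimonster.edges m n = 3) ∧ (l ∈ I4 ∧ m ∈ I4 ∧ coxLabel Bimonster.edges l m = 3) ∧
    coxLabel Bimonster.edges l n = 2 ∧ (∀ k ∈ [m, l], (k ∈ I4 ∧ Bimonster.Gen.f3 ∈ I4 ∧ coxLabel Bimonster.edges k .f3 = 2) ∧
      k ∈ I4 ∧ Bimonster.Gen.c1 ∈ I4 ∧ coxLabel Bimonster.edges k .c1 = 2)) :
    ∃ u, Pt z Q (insert (y n) (insert (y .c1) (insert s ∅))) u := by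
  obtain ⟨a1, a2, a3, a4, a5, a6, a7⟩ := e
  have g0 := h.ma.gd
  have t : Tr3 s s (y .c1) (y n) := ⟨IsConj.refl s, h.f3 ▸ h.node_Df _ _ a1, h.f3 ▸ h.node_Df _ _ a2, h.node_Df _ _ a3,
    fun e => by
      have b : ∀ k ∈ [m, l], Commute (y k) (y n) := fun k hk => by
        rw [e, ← h.f3]; exact (h.rel.cm _ _ (a7 k hk).1).mul_right (h.rel.cm _ _ (a7 k hk).2)
      have b4 := (h.rel.br m n a4).eq_of_comm (b m (by simp))
      have b5 := (h.rel.br l m a5).eq_of_comm (b4 ▸ b l (by simp))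
      exact g0.t_ne_one (h.pair l a5.1 n a2.1 a6) (by rw [b5, b4, h.rel.sq a2.1])⟩
  obtain ⟨g, e1, e2, -, e4⟩ := h.tr3_norm t
  refine ⟨g * z * g⁻¹, isConj_iff.2 ⟨g, rfl⟩, ?_⟩
  simp only [Set.forall_mem_insert, Set.mem_empty_iff_false, false_imp_iff, imp_true_iff, and_true]
  exact ⟨e4 ▸ GD.inQ_conj g (g0.inQ_z.2 (mul_mem (mul_mem g0.sQ g0.s1Q) g0.mt.xe.mem)),
    e2 ▸ GD.inQ_conj g (g0.inQ_z.2 g0.s1Q), by simpa only [e1] using GD.inQ_conj g (g0.inQ_z.2 g0.sQ)⟩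

end Lv4

theorem lv4 : LV4 := fun H _ _ V _ _ y z Q π R s s1 mul bil ρ ax h c2 c1 => by
  have g0 := h.ma.gd
  have top : ∀ c : H, c ∈ centralizer (∅ : Set H) := fun c => by simp [mem_centralizer_iff]
  have one : insert s (∅ : Set H) = {s} := insert_empty_eq s
  have d3 : y .d3 ∈ Df s := h.f3 ▸ h.node_Df _ _ (by decide)
  obtain ⟨g, g1, g2⟩ := h.ma.Df_trans d3
  refine ⟨⟨Finset.mem_coe.2 (mem_Tf.2 (IsConj.refl s)), d3, fun hx hx' => ?_, fun x hx => ?_, fun c _ x hx => ?_, fun x hx => ?_, fun c _ _ _ k => Df_conj c k,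
    fun u u' hu hu' => ?_, one ▸ c1, ?_, fun u _ x hx x' hx' => Lv4.loc g0 (by simpa using hx) (by simpa using hx'),
    fun u u' _ _ k => ?_, fun u hu => ?_⟩, h.f3 ▸ h.node_Df _ _ (by decide), h.f3 ▸ h.node_Df _ _ (by decide),
    h.node_Df _ _ (by decide), h.node_Df _ _ (by decide), Lv4.pt h (m := .d2) (l := .e2) ?_,
    Lv4.pt h (m := .c3) (l := .b3) ?_, ?_, ?_⟩
  · exact Finset.mem_coe.2 (mem_Tf.2 ((mem_Tf.1 hx).trans (mem_Df.1 hx').1))
  · obtain ⟨c, e⟩ := isConj_iff.1 (mem_Tf.1 hx)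
    exact ⟨c, top c, e⟩
  · exact Finset.mem_coe.2 (mem_Tf.2 (isConj_conj (mem_Tf.1 hx) c))
  · obtain ⟨k, k1, k2⟩ := h.ma.Df_trans hx
    refine ⟨k * g⁻¹, ?_, by rw [← g2, ← k2]; group⟩
    rw [one]
    exact mul_mem (mem_centralizer_singleton_iff.2 k1) (inv_mem (mem_centralizer_singleton_iff.2 g1))
  · obtain ⟨a, a1, a2⟩ := g0.pair_z (hu.2 s (by simp)) (IsConj.refl s)
    obtain ⟨b, b1, b2⟩ := g0.pair_z (hu'.2 s (by simp)) (IsConj.refl s)
    refine ⟨b * a⁻¹, ?_, by rw [← a2, ← b2]; group⟩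
    rw [one]
    exact mul_mem (mem_centralizer_singleton_iff.2 (mul_inv_eq_iff_eq_mul.1 b1))
      (inv_mem (mem_centralizer_singleton_iff.2 (mul_inv_eq_iff_eq_mul.1 a1)))
  · have := c2.conj g
    rwa [Set.image_insert_eq, Set.image_singleton, g2, g1, mul_inv_cancel_right, ← one] at this
  · obtain ⟨b, h1, h2⟩ := Lv4.edge g0 k
    exact ⟨b, by simpa using h1, h2⟩
  · obtain ⟨k, rfl⟩ := isConj_iff.1 hu.1
    exact ⟨k * s * k⁻¹, Finset.mem_coe.2 (mem_Tf.2 (isConj_conj (IsConj.refl s) k)), GD.inQ_conj k (g0.inQ_z.2 g0.sQ)⟩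
  · decide
  · decide
  · rw [mem_centralizer_iff]
    simp only [Set.forall_mem_insert, Set.mem_empty_iff_false, false_imp_iff, imp_true_iff, and_true]
    exact ⟨h.rel.cm _ _, h.rel.cm _ _⟩
  · rw [one, ← (h.l3' (l2T _ _ _ _ _ _ _ _ _ _ _ _ _ h)).full, (eq_top_iff (a := centralizer ∅)).2 fun c _ => top c, eq_top_iff, ← h.top]
    refine Gp_le.2 fun n hn => ?_
    rcases List.mem_cons.1 hn with rfl | hn
    exacts [mem_sup_right (mem_zpowers _), mem_sup_left (mem_Gp hn)]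

end CL.AM
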