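/-
The Monster amalgam: the nodes of the diagram lift to the cover, and the cover is trivial.
-/
import Cfsg.Agent.Spor.Am0
import Cfsg.Agent.Spor.InMain

set_option autoImplicit false

namespace CL.AM

open Cfsg Cfsg.Spor Subgroup CL.BM CL.Mj CL.Even CL.Spor.Leech CL.Spor.Mon CL.IN Relation

namespace Node

variable {H U W : Type} [Group H] [Group U] [MulAction U W] {z : H} {Q : Subgroup H} {φ : U →* H} {p : W → H}
  {adj : W → W → Prop} {S X : Set H} {ρ : H → H → Prop} {x₀ x₁ x x' : H} {v w : W}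

theorem cent_insert {c a : H} : c ∈ centralizer (insert a S) ↔ c * a = a * c ∧ c ∈ centralizer S := by
  simp only [mem_centralizer_iff, Set.forall_mem_insert, eq_comm (a := a * c)]

theorem cn1 (l : LV z Q S X ρ x₀ x₁) (hx : x ∈ X) : Cn z Q (insert x S) := by
  obtain ⟨c, hc, rfl⟩ := l.tX x hx
  simpa only [Set.image_insert_eq, image_cent hc] using l.cn1.conj c

theorem cn2 (l : LV z Q S X ρ x₀ x₁) (hx : x ∈ X) (r : ρ x x') : Cn z Q (insert x' (insert x S)) := by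
  obtain ⟨c, hc, rfl⟩ := l.tX x hx
  obtain ⟨c', hc', e⟩ := l.tρ (c⁻¹ * x' * c⁻¹⁻¹) (by simpa [mul_assoc] using l.cρ _ (inv_mem hc) r)
  have a := l.cn2.conj c'
  rw [Set.image_insert_eq, image_cent hc', e] at a
  simpa [Set.image_insert_eq, image_cent hc, mul_assoc] using
    show Cn z Q (insert (c * (c⁻¹ * x' * c⁻¹⁻¹) * c⁻¹) (insert (c * x₀ * c⁻¹) S)) by
      simpa only [Set.image_insert_eq, image_cent hc] using a.conj c

variable (h : CV z Q φ p adj) (hs : Function.Surjective φ) (l : LV z Q S X ρ x₀ x₁)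
  (k : II z Q p adj (insert x₀ S))
include h hs l k

theorem ii (hx : x ∈ X) : II z Q p adj (insert x S) := by
  obtain ⟨c, hc, rfl⟩ := l.tX x hx
  obtain ⟨g, rfl⟩ := hs c
  simpa only [Set.image_insert_eq, image_cent hc] using h.ii_smul g k

theorem one (hx : x ∈ X) (r : ρ x x') (e : Re z Q p adj (insert x S) v w)
    (hv : Pt z Q (insert x' (insert x S)) (p v)) (hw : Pt z Q (insert x' (insert x S)) (p w)) :
    Re z Q p adj (insert x' S) v w :=
  (h.one (ii h hs l k hx) (cn2 l hx r) (Set.subset_insert _ _) e hv hw).mono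
    (Set.insert_subset_insert (Set.subset_insert _ _))

theorem mem_Gs (hx : x ∈ X) (r : ρ x x') (hv : Pt z Q (insert x' (insert x S)) (p v)) {g : U}
    (hg : g ∈ h.Gs (insert x S) v) (e : φ g * x' = x' * φ g) : g ∈ h.Gs (insert x' S) v :=
  ⟨cent_insert.2 ⟨e, (cent_insert.1 hg.1).2⟩,
    one h hs l k hx r hg.2 hv (h.smul g v ▸ hv.cent (cent_insert.2 ⟨e, hg.1⟩))⟩

end Node

open Node in
theorem ind : Ind := fun H U W _ _ _ z Q φ p adj h S X ρ x₀ x₁ a₁ a₂ ε hs l n k => by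
  obtain ⟨u, hu⟩ := n.p2
  obtain ⟨v₀, rfl⟩ := h.exists_over hs hu.1
  have m1 := l.mρ l.m0 n.r1
  have p1 : Pt z Q (insert a₁ (insert x₀ S)) (p v₀) := hu.mono (Set.subset_insert _ _)
  have p0 : Pt z Q (insert x₀ S) (p v₀) := p1.mono (Set.subset_insert _ _)
  obtain ⟨e, he, rfl⟩ := h.Gs_onto (cn1 l m1) (p1.mono (Set.insert_subset_insert (Set.subset_insert _ _)))
    (cent_insert.1 n.c).2
  refine ⟨v₀, h.Gs (insert a₁ S) v₀, h.Gs (insert a₂ S) v₀, e, p0, rfl, he, mem_Gs h hs l k m1 n.r12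
    (hu.mono (Set.insert_subset_insert (Set.insert_subset_insert (Set.subset_insert _ _)))) he (cent_insert.1 n.c).1,
    fun g => h.Gs_inj (ii h hs l k m1), fun g => h.Gs_inj (ii h hs l k (l.mρ l.m0 n.r2)),
    fun g => mem_Gs h hs l k l.m0 n.r1 p1, fun g => mem_Gs h hs l k l.m0 n.r2
      (hu.mono (Set.insert_subset_insert (Set.subset_insert _ _))), fun τ hτ e' => ?_⟩
  obtain ⟨u, hu'⟩ := n.px
  have q1 : Pt z Q (insert a₁ (insert x₀ S)) u := hu'.mono (Set.subset_insert _ _)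
  have q0 : Pt z Q (insert x₀ S) u := q1.mono (Set.subset_insert _ _)
  obtain ⟨v, r, rfl⟩ := h.lift (l.cn1 _ _ p0 q0)
  have q2 : Pt z Q (insert x₁ (insert a₁ S)) (p v) :=
    hu'.mono (Set.insert_subset_insert (Set.insert_subset_insert (Set.subset_insert _ _)))
  rw [h.Gs_congr (one h hs l k l.m0 n.r1 r p1 q1)] at hτ
  refine ⟨v, r, q2.mono (Set.insert_subset_insert (Set.subset_insert _ _)), one h hs l k m1 n.r1x hτ.2 q2
    (Pt.insert_iff.2 ⟨?_, hτ.2.pt (Pt.insert_iff.1 q2).2⟩)⟩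
  rw [h.smul, ← e']
  exact GD.inQ_conj _ (Pt.insert_iff.1 q0).1

namespace Node

theorem conj_fd {K : Type*} [Group K] {e f d : K} (ee : e * e = 1) (ff : f * f = 1) (dd : d * d = 1)
    (fd : (f * d) ^ 2 = 1) (ef : (e * f) ^ 3 = 1) (ed : (e * d) ^ 3 = 1) :
    e * f * d * e * f * (e * f * d * e)⁻¹ = d := by
  rw [pow_two] at fd
  have ss : e * f * d * e * (e * f * d * e) = 1 :=
    calc _ = e * (f * d * (e * e) * (f * d)) * e := by simp only [mul_assoc]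
      _ = 1 := by rw [ee, mul_one, fd, mul_one, ee]
  have e1 : f * d * f = d := by rw [← mul_left_inj d, dd, mul_assoc, fd]
  have e2 : e * f * e = f * e * f := by
    rw [← mul_left_inj (f * e * f)]
    calc _ = (e * f) ^ 3 := by simp only [pow_succ, pow_zero, one_mul, mul_assoc]
      _ = f * (e * (f * f) * e) * f := by rw [ef, ff, mul_one, ee, mul_one, ff]
      _ = _ := by simp only [mul_assoc]
  rw [inv_eq_of_mul_eq_one_left ss, ← mul_left_inj d, dd, ← ed]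
  calc _ = e * f * d * (e * f * e) * f * d * e * d := by simp only [mul_assoc]
    _ = e * (f * d * f) * e * (f * f) * d * e * d := by rw [e2]; simp only [mul_assoc]
    _ = _ := by rw [e1, ff]; simp only [pow_succ, pow_zero, one_mul, mul_one, mul_assoc]

/-- One level up: the new node lifts. -/
theorem node (hS : Step) {H U W : Type} [Group H] [Group U] [MulAction U W] {z : H} {Q : Subgroup H} {φ : U →* H}
    {p : W → H} {adj : W → W → Prop} (h : CV z Q φ p adj) (hs : Function.Surjective φ) {S X : Set H}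
    {ρ : H → H → Prop} {x₀ : H} {y : Nd → H} (I : List Nd) (e f d n₁ n₂ : Nd) (hy : Rel (e :: I) y)
    (hu : UI (e :: I) y) (h0 : Gp I y = centralizer (insert x₀ S)) (h1 : Gp (e :: I) y = centralizer S)
    (hf : y f = x₀) (l : LV z Q S X ρ x₀ (y d)) (n : NV z Q S ρ x₀ (y d) (y n₁) (y n₂) (y e))
    (k : II z Q p adj (insert x₀ S))
    (c : (∀ m ∈ I2, m ∈ I) ∧ e ∉ I ∧ f ∈ I ∧ d ∈ I ∧ n₁ ∈ I ∧ n₂ ∈ I ∧ coxLabel Bimonster.edges e f = 3 ∧
      coxLabel Bimonster.edges e d = 3 ∧ coxLabel Bimonster.edges f d = 2 ∧ coxLabel Bimonster.edges f n₁ ≤ 2 ∧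
      coxLabel Bimonster.edges d n₁ ≤ 2 ∧
        ∀ m ∈ I, coxLabel Bimonster.edges m n₁ ≤ 2 ∨ coxLabel Bimonster.edges m n₂ ≤ 2) : II z Q p adj S := by
  classical
  obtain ⟨c0, ce, cf, cd, c1, c2, ef, ed, fd, f1, d1, cm⟩ := c
  obtain ⟨v₀, X₁, X₂, ε, p0, e0, e1, e2, i1, i2, g1, g2, ht⟩ := ind H U W z Q φ p adj h S X ρ _ _ _ _ _ hs l n k
  have sub : ∀ m ∈ I, m ∈ e :: I := fun m => List.mem_cons_of_mem _
  choose! κ₀ k1 k2 using fun m (hm : m ∈ I) => h.Gs_onto l.cn1 p0 (h0 ▸ mem_Gp (k := y) hm)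
  set κ := Function.update κ₀ e ε
  have κe : κ e = ε := Function.update_self _ _ _
  have κI : ∀ m ∈ I, κ m = κ₀ m := fun m hm => Function.update_of_ne (fun a : m = e => ce (a ▸ hm)) _ _
  have a0 : ∀ m ∈ I, κ m ∈ h.Gs (insert x₀ S) v₀ := fun m hm => κI m hm ▸ k1 m hm
  have a1 : ∀ m ∈ e :: I, φ (κ m) = y m := fun m hm => by
    rcases List.mem_cons.1 hm with rfl | hm
    exacts [κe ▸ e0, κI m hm ▸ k2 m hm]
  have a2 : ∀ m ∈ I, coxLabel Bimonster.edges m n₁ ≤ 2 → κ m ∈ X₁ := fun m hm a =>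
    g1 _ (a0 m hm) (a1 m (sub m hm) ▸ (hy.cm' m n₁ ⟨sub m hm, sub _ c1, a⟩).eq)
  have a3 : ∀ m ∈ I, coxLabel Bimonster.edges m n₂ ≤ 2 → κ m ∈ X₂ := fun m hm a =>
    g2 _ (a0 m hm) (a1 m (sub m hm) ▸ (hy.cm' m n₂ ⟨sub m hm, sub _ c2, a⟩).eq)
  have rI : Rel I κ := ((Rel.of_map (k := res (h.Gs (insert x₀ S) v₀) κ) (φ := φ.comp (Subgroup.subtype _))
    ((injective_iff_map_eq_one _).2 fun g a => Subtype.ext (h.Gs_inj k g.2 a))
    ((hy.mono sub).congr c0 fun m hm => by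
      rw [MonoidHom.comp_apply, coe_subtype, res_val (a0 m hm), a1 m (sub m hm)])).map (Subgroup.subtype _)).congr c0
        fun m hm => res_val (a0 m hm)
  have a4 : ∀ m ∈ e :: I, ∃ Z : Subgroup U, (∀ g ∈ Z, φ g = 1 → g = 1) ∧ κ e ∈ Z ∧ κ m ∈ Z := fun m hm => by
    rcases List.mem_cons.1 hm with rfl | hm
    · exact ⟨X₁, i1, κe ▸ e1, κe ▸ e1⟩
    · rcases cm m hm with a | a
      exacts [⟨X₁, i1, κe ▸ e1, a2 m hm a⟩, ⟨X₂, i2, κe ▸ e2, a3 m hm a⟩]
  have rJ : Rel (e :: I) κ := ⟨fun m hm m' hm' => by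
    have a : φ ((κ m * κ m') ^ coxLabel Bimonster.edges m m') = 1 := by
      rw [map_pow, map_mul, a1 m hm, a1 m' hm', hy.cox m hm m' hm']
    rcases List.mem_cons.1 hm with rfl | b
    · obtain ⟨Z, z1, z2, z3⟩ := a4 m' hm'
      exact z1 _ (pow_mem (mul_mem z2 z3) _) a
    rcases List.mem_cons.1 hm' with rfl | b'
    · obtain ⟨Z, z1, z2, z3⟩ := a4 m hm
      exact z1 _ (pow_mem (mul_mem z3 z2) _) a
    exact rI.cox m b m' b', rI.spd, rI.w1, rI.w1', rI.w2, rI.w2', rI.w3, rI.w3'⟩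
  have me : e ∈ e :: I := List.mem_cons_self
  have t1 : φ (κ e * κ f * κ d * κ e) * x₀ * (φ (κ e * κ f * κ d * κ e))⁻¹ = y d := by
    rw [map_mul, map_mul, map_mul, a1 e me, a1 f (sub f cf), a1 d (sub d cd), ← hf]
    exact conj_fd (hy.sq me) (hy.sq (sub f cf)) (hy.sq (sub d cd)) (fd ▸ hy.cox f (sub f cf) d (sub d cd))
      (ef ▸ hy.cox e me f (sub f cf)) (ed ▸ hy.cox e me d (sub d cd))
  refine hS H U W z Q φ p adj h S X ρ _ _ l k (Gp (e :: I) κ) v₀ p0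
    (fun g => hu.injOn (fun m hm => sub m (c0 m hm)) rJ a1) ((Gp_map' φ a1).trans h1) (fun g hg => ?_)
    ⟨_, mul_mem (mul_mem (mul_mem (mem_Gp me) (mem_Gp (sub f cf))) (mem_Gp (sub d cd))) (mem_Gp me), t1,
      ht _ (mul_mem (mul_mem (mul_mem (κe ▸ e1) (a2 f cf f1)) (a2 d cd d1)) (κe ▸ e1)) t1⟩
  obtain ⟨g', hg', a⟩ := mem_map.1 (((Gp_map' φ fun m hm => a1 m (sub m hm)).trans h0).ge hg.1)
  rw [← inv_mul_eq_one.1 (h.Gs_inj k (mul_mem (inv_mem (Gp_le.2 a0 hg')) hg) (by simp [a]))]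
  exact Gp_mono sub hg'

end Node

theorem covM (h2 : Lev2) (h3 : LV3) (h4 : LV4) (hS : Step) (hC : CnUp) : CovM :=
  fun H _ _ V _ _ y z Q π R s s1 mul bil ρ ax h U W _ _ φ p adj cv => by
  have l2 := l2T H V y z Q π R s s1 mul bil ρ ax h
  have l3 := h.l3' l2
  obtain ⟨a3, b3⟩ := h3 H V y z Q π R s s1 mul bil ρ ax h
  obtain ⟨a4, b4⟩ := h4 H V y z Q π R s s1 mul bil ρ ax h a3.cn1 (hC H z Q _ _ _ _ _ _ _ _ cv.dsymm a3 b3)
  have hs := cv.surj (hC H z Q _ _ _ _ _ _ _ _ cv.dsymm a4 b4)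
  have i3 := Node.node hS cv hs I2 .e2 .f2 .d2 .c1 .c3 (h.rel.mono fun _ => List.mem_cons_of_mem _) l3.uni
    (l2.full.trans (Subgroup.ext fun g => by
      rw [Node.cent_insert, mem_Hs, mem_centralizer_singleton_iff, and_comm])) l3.full h.f2 a3 b3
    (h2 H V y z Q π R s s1 mul bil ρ ax h U W φ p adj cv) (by decide)
  exact ⟨cv.inj (Node.node hS cv hs I3 .e3 .f3 .d3 .c1 .c2 h.rel (h.l4' l2) (by rw [insert_empty_eq, l3.full])
    (h.top.trans (eq_top_iff.2 fun g _ => by simp [mem_centralizer_iff]).symm) h.f3 a4 b4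
    (by rwa [insert_empty_eq]) (by decide)), hs⟩

end CL.AM
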