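/-
The 4371-dimensional representation of the Baby Monster: existence over any field of characteristic not 2.
-/
import Cfsg.Agent.Spor.MsB
import Cfsg.Agent.Spor.InMain
import Cfsg.Agent.K.BMMain

set_option autoImplicit false
set_option linter.unusedSectionVars false

namespace CL.RB

open Cfsg Cfsg.Spor CL.Spor.Leech CL.Spor.Mon CL.Gr CL.Even CL.Grp Subgroup CL.Mj CL.MS

section
variable [Theta] {H : Type} [Group H] [Finite H] {δ : Chat ℝ →* H} {τ : H} {ρ : H →* (VV ≃ₗ[ℝ] VV)}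
  {π : centralizer ({zH δ} : Set H) →* Co1}

theorem int_rep (h : CS δ τ ρ π) :
    ∃ n ≤ 4371, ∃ σ : BQ (sH δ) →* Matrix (Fin n) (Fin n) ℤ, ∃ g, σ g ≠ 1 := by
  let f : H → VV := fun t => axH ρ t - axH ρ (t * sH δ)
  have hf : ∀ {g t}, g * sH δ = sH δ * g → t ∈ Df (sH δ) → ρ g (f t) = f (g * t * g⁻¹) := fun {g t} hg ht => by
    simp only [f]
    rw [map_sub, ← h.axc g (mem_Df.1 ht).1, ← h.axc g (mem_Df.1 ht).2.2, ← conj_mul, hg, mul_inv_cancel_right]
  have h0 : f (s1H δ) ≠ 0 := fun e =>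
    h.gd.s_ne_one (left_eq_mul.1 (h.ax.ax_inj h.gd.T_s1 h.gd.T_s1s (sub_eq_zero.1 e)))
  obtain ⟨n, σ, Γ, k1, k2, k3, k4, k5⟩ := exists_int_rep (ρ.comp (centralizer ({sH δ} : Set H)).subtype) bil bil_symm
    bil_pos (fun g => h.rbil g) ((Df (sH δ)).finite_toSet.image f)
    (by rintro g _ ⟨t, ht, rfl⟩
        exact ⟨_, Df_cent (mem_centralizer_singleton_iff.1 g.2) ht, (hf (mem_centralizer_singleton_iff.1 g.2) ht).symm⟩)
    (by
      have k : ∀ {t t'}, IsConj (sH δ) t → IsConj (sH δ) t' → ∃ k : ℤ, 256 * bil (axH ρ t) (axH ρ t') = k :=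
        fun ht ht' => by
          have := lam_mem amb (h.isAx ht) (h.isAx ht')
          simp only [Set.mem_insert_iff, Set.mem_singleton_iff] at this
          rcases this with e | e | e | e | e | e | e | e <;> rw [e]
          exacts [⟨256, by norm_num⟩, ⟨32, by norm_num⟩, ⟨0, by norm_num⟩, ⟨13, by norm_num⟩, ⟨4, by norm_num⟩,
            ⟨8, by norm_num⟩, ⟨6, by norm_num⟩, ⟨5, by norm_num⟩]
      rintro _ ⟨t, ht, rfl⟩ _ ⟨t', ht', rfl⟩
      obtain ⟨a, ha⟩ := k (mem_Df.1 ht).1 (mem_Df.1 ht').1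
      obtain ⟨b, hb⟩ := k (mem_Df.1 ht).1 (mem_Df.1 ht').2.2
      obtain ⟨c, hc⟩ := k (mem_Df.1 ht).2.2 (mem_Df.1 ht').1
      obtain ⟨d, hd⟩ := k (mem_Df.1 ht).2.2 (mem_Df.1 ht').2.2
      refine ⟨a - b - c + d, ?_⟩
      simp only [f, map_sub, LinearMap.sub_apply]
      push_cast
      linarith)
    (LinearMap.ker (Mj.sg UM 0 + LinearMap.id))
    (by
      rintro _ ⟨t, ht, rfl⟩
      obtain ⟨g, hg, rfl⟩ := h.ma.Df_trans ht
      rw [← hf hg h.gd.s1_mem, LinearMap.mem_ker, LinearMap.add_apply, LinearMap.id_apply, ← h.r_sg hg, ← map_add]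
      simp only [f]
      rw [map_sub, h.sg_a1, h.sg_a2, sub_add_sub_cancel, sub_self, map_zero])
    ⟨_, ⟨_, h.gd.s1_mem, rfl⟩, h0⟩
  rw [rank_neg (T := (tq UM 0).toLinearMap) (h.sg UM 0).2.1 (h.sg UM 0).2.2.1 h.tv.1 (h.tv.2.1 UM 0)
    (h.tv.2.2.1 UM 0)] at k1
  have k6 : ∀ x ∈ (zpowers (sH δ)).subgroupOf (centralizer ({sH δ} : Set H)), σ x = 1 := fun x hx => by
    refine (k5 x).2 ?_
    rintro _ ⟨t, ht, rfl⟩
    refine (hf (mem_centralizer_singleton_iff.1 x.2) ht).trans (congrArg f ?_)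
    obtain ⟨k, hk⟩ := mem_zpowers_iff.1 (mem_subgroupOf.1 hx)
    rw [← hk, ((show Commute t (sH δ) from (mem_Df.1 ht).2.1).zpow_right k).symm.eq, mul_inv_cancel_right]
  obtain ⟨g, e1, e2⟩ := h.ma.Df_trans (Df_mul h.gd.ss h.gd.s1_mem)
  refine ⟨n, k1, QuotientGroup.lift _ σ k6, QuotientGroup.mk ⟨g, mem_centralizer_singleton_iff.2 e1⟩,
    fun e => h0 ?_⟩
  have k7 := (hf e1 h.gd.s1_mem).symm.trans ((k5 _).1 e _ ⟨_, h.gd.s1_mem, rfl⟩)
  simp only [f] at k7 ⊢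
  rw [e2, mul_assoc, h.gd.ss, mul_one] at k7
  linear_combination (norm := module) (-2⁻¹ : ℝ) • k7

end

/-- An integral involution does not reduce to `1` in characteristic not 2. -/
theorem red_ne {F : Type*} [Field F] (h2 : (2 : F) ≠ 0) {n : ℕ} {A : Matrix (Fin n) (Fin n) ℤ} (hA : A * A = 1)
    (h1 : A ≠ 1) : (Int.castRingHom F).mapMatrix A ≠ 1 := fun e => by
  set N := A - 1 with hN
  have hNN : N * N = (-2 : ℤ) • N := by
    rw [hN, sub_mul, mul_sub, mul_sub, hA, mul_one, one_mul, mul_one]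
    module
  have h0 : ∀ i j, ((N i j : ℤ) : F) = 0 := fun i j => by
    have : (Int.castRingHom F).mapMatrix N = 0 := by rw [hN, map_sub, e, map_one, sub_self]
    exact congrFun (congrFun this i) j
  set d : ℤ := Finset.univ.gcd fun x : Fin n × Fin n => N x.1 x.2 with hd
  have hdv : ∀ i j, d ∣ N i j := fun i j =>
    Finset.gcd_dvd (f := fun x : Fin n × Fin n => N x.1 x.2) (Finset.mem_univ (i, j))
  have hd0 : d ≠ 0 := fun e0 => h1 (sub_eq_zero.1 (Matrix.ext fun i j => zero_dvd_iff.1 (e0 ▸ hdv i j)))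
  have hp : ((ringChar F : ℕ) : ℤ) ∣ d :=
    Finset.dvd_gcd fun x _ => (CharP.intCast_eq_zero_iff F (ringChar F) _).1 (h0 x.1 x.2)
  have h3 : d * d ∣ 2 * d := by
    have h4 : d * d ∣ Finset.univ.gcd fun x : Fin n × Fin n => 2 * N x.1 x.2 := Finset.dvd_gcd fun x _ => by
      have h5 : (N * N) x.1 x.2 = -(2 * N x.1 x.2) := by rw [hNN, Matrix.smul_apply, smul_eq_mul, neg_mul]
      rw [← dvd_neg, ← h5, Matrix.mul_apply]
      exact Finset.dvd_sum fun k _ => mul_dvd_mul (hdv _ _) (hdv _ _)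
    rwa [Finset.gcd_mul_left] at h4
  have h4 : ((ringChar F : ℕ) : ℤ) ∣ 2 := hp.trans ((mul_dvd_mul_iff_right hd0).1 h3)
  exact h2 (by exact_mod_cast (CharP.intCast_eq_zero_iff F (ringChar F) 2).2 h4)

theorem pad {F B W : Type*} [Field F] [Group B] [IsSimpleGroup B] [AddCommGroup W] [Module F W]
    [Module.Finite F W] {d : ℕ} (hd : Module.finrank F W ≤ d) (ψ : B →* Module.End F W) {g0 : B}
    (hg : ψ g0 ≠ 1) : ∃ φ : B →* GL (Fin d) F, Function.Injective φ := by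
  let U := W × (Fin (d - Module.finrank F W) → F)
  have hU : Module.finrank F U = d := by
    rw [Module.finrank_prod, Module.finrank_fin_fun]; omega
  let χ : B →* Module.End F U :=
    { toFun g := (ψ g).prodMap LinearMap.id
      map_one' := by rw [map_one]; rfl
      map_mul' g k := by rw [map_mul]; rfl }
  let e := (LinearMap.toMatrixAlgEquiv (Module.finBasisOfFinrankEq F U hU)).toMulEquiv
  refine ⟨(e.toMonoidHom.comp χ).toHomUnits, (MonoidHom.ker_eq_bot_iff _).1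
    ((IsSimpleGroup.eq_bot_or_eq_top_of_normal _ inferInstance).resolve_right fun h => hg ?_)⟩
  have h1 : e (χ g0) = 1 := congrArg Units.val (h.ge (Subgroup.mem_top g0))
  have h2 : χ g0 = 1 := e.map_eq_one_iff.1 h1
  exact LinearMap.ext fun w => congrArg Prod.fst (LinearMap.congr_fun h2 (w, 0))

theorem rep_of_int {F B : Type*} [Field F] [Group B] [IsSimpleGroup B] (h2 : (2 : F) ≠ 0) {n d : ℕ} (hn : n ≤ d)
    (σ : B →* Matrix (Fin n) (Fin n) ℤ) (h1 : ∃ g, σ g ≠ 1) {a : B} (ha : orderOf a = 2) :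
    ∃ φ : B →* GL (Fin d) F, Function.Injective φ := by
  have h3 : σ a ≠ 1 := fun e => by
    obtain ⟨g, h1⟩ := h1
    rcases IsSimpleGroup.eq_bot_or_eq_top_of_normal σ.toHomUnits.ker inferInstance with h | h
    · have : a = 1 := Subgroup.mem_bot.1 (h.le (Units.ext e))
      simp [this] at ha
    · exact h1 (congrArg Units.val (h.ge (Subgroup.mem_top g)))
  have h4 := red_ne h2 (by rw [← map_mul, ← pow_two, ← ha, pow_orderOf_eq_one, map_one]) h3
  let ρ : B →* Module.End F (Fin n → F) :=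
    (Matrix.toLinAlgEquiv' (R := F) (n := Fin n)).toMulEquiv.toMonoidHom.comp
      ((Int.castRingHom F).mapMatrix.toMonoidHom.comp σ)
  exact pad (by rw [Module.finrank_fin_fun]; exact hn) ρ (g0 := a) fun e =>
    h4 ((Matrix.toLinAlgEquiv' (R := F) (n := Fin n)).toMulEquiv.map_eq_one_iff.1 e)

theorem exists_rep (F : Type*) [Field F] (h2 : (2 : F) ≠ 0) :
    ∃ ρ : Cfsg.Spor.BabyMonster →* GL (Fin 4371) F, Function.Injective ρ := by
  obtain ⟨_, H, _, _, δ, τ, ρ, π, y, g, -, hs, hf, h⟩ := CL.IN.exists_md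
  obtain ⟨b⟩ := h.isoB (h.l3' (CL.IN.l2T _ _ _ _ _ _ _ _ _ _ _ _ _ h)) CL.BM.nontrivialB
  have := hs.simpleB
  obtain ⟨n, hn, σ, h1⟩ := int_rep hs
  obtain ⟨a, ha⟩ := exists_prime_orderOf_dvd_card' (G := BQ (sH δ)) 2 (by rw [hs.isB.2]; norm_num)
  obtain ⟨φ, hφ⟩ := rep_of_int h2 hn σ h1 ha
  exact ⟨φ.comp b.toMonoidHom, hφ.comp b.injective⟩

end CL.RB
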