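/-
The 4371-dimensional representation of the Baby Monster: the support of the weights (Leech lattice, Golay cocode).
-/
import Cfsg.Agent.Spor.Rb1
import Cfsg.Agent.K.BMOut

set_option autoImplicit false
set_option linter.unusedSectionVars false

namespace CL.RB
open Cfsg Cfsg.Spor Subgroup CL.Even CL.Grp CL.Spor.Leech CL.Spor.Mon CL.Mj Module MulAction

/-- the coordinates congruent to `± 3` modulo `8` -/
def latT (v : GolayPt → ℤ) : Finset GolayPt := Finset.univ.filter fun i => v i % 8 = 3 ∨ v i % 8 = 5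

theorem mem_latT {v : GolayPt → ℤ} {i : GolayPt} : i ∈ latT v ↔ v i % 8 = 3 ∨ v i % 8 = 5 := by simp [latT]

theorem latT_dbl {v v' : leechLattice} (h : Dbl (v - v')) (ho : ∀ i, (v' : GolayPt → ℤ) i % 2 = 1) :
    symmDiff (latT v) (latT v') ∈ Cset := by
  obtain ⟨x, hx, e⟩ := h.coe
  have e' : ∀ i, (v : GolayPt → ℤ) i = (v' : GolayPt → ℤ) i + 2 * x i := fun i => by
    have := congrFun e i
    simp only [Pi.sub_apply, Pi.smul_apply, nsmul_eq_mul, Nat.cast_ofNat] at this
    omega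
  rcases parity_cases hx with hp | hp
  · convert cres_mem hx (r := 2) (by norm_num) (by norm_num) using 1
    ext i
    have h1 := e' i
    have h2 := ho i
    have h3 := hp i
    simp only [Finset.mem_symmDiff, mem_latT, cres, Finset.mem_filter, Finset.mem_univ, true_and]
    omega
  · convert Cset_compl (Cset_symmDiff (cres_mem v'.2 (r := 1) (by norm_num) (by norm_num))
      (cres_mem hx (r := 1) (by norm_num) (by norm_num))) using 1
    ext i
    have h1 := e' i
    have h2 := ho i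
    have h3 := hp i
    simp only [Finset.mem_symmDiff, mem_latT, cres, Finset.mem_filter, Finset.mem_univ, true_and, Finset.mem_compl]
    omega

theorem latT_eps {c : Finset GolayPt} (hc : c ∈ Cset) (v : leechLattice) : latT (eps c hc • v : leechLattice) = latT v := by
  ext i
  rw [mem_latT, mem_latT, eps_apply]
  split_ifs <;> omega

theorem latT_add_U {v : leechLattice} (ho : ∀ i, (v : GolayPt → ℤ) i % 2 = 1) :
    latT (v + leechU : leechLattice) = symmDiff (latT v) {none, p0} := by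
  ext i
  have h2 := ho i
  have hn : (none : GolayPt) ≠ p0 := by decide
  simp only [Finset.mem_symmDiff, mem_latT, AddSubgroup.coe_add, coe_U, Pi.add_apply, Pi.single_apply,
    Finset.mem_insert, Finset.mem_singleton]
  by_cases h3 : i = none
  · subst h3
    simp only [if_true, if_neg hn, true_or, not_true, and_false, false_or, true_and]
    omega
  · by_cases h4 : i = p0
    · subst h4
      simp only [if_true, if_neg h3, or_true, not_true, and_false, false_or, true_and]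
      omega
    · simp only [h3, h4, or_self, not_false_iff, and_true, false_and, or_false, if_false, add_zero]

theorem latT_pm (σ : M24) (v : leechLattice) :
    latT (pm σ • v : leechLattice) = (latT v).image (σ : Equiv.Perm GolayPt) := by
  ext i
  rw [Finset.mem_image, mem_latT, pm_apply]
  constructor
  · intro h
    exact ⟨σ⁻¹ • i, mem_latT.2 h, smul_inv_smul σ i⟩
  · rintro ⟨j, hj, rfl⟩
    rw [show σ⁻¹ • (σ : Equiv.Perm GolayPt) j = j from inv_smul_smul σ j]
    exact mem_latT.1 hj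

theorem latT_short {x : GolayPt → ℤ} (hn : sqNorm x ≤ 64) : (latT x).card = (lev x 3).card + (lev x 5).card := by
  rw [← Finset.card_union_of_disjoint (Finset.disjoint_left.2 fun i h1 h2 => by
    simp only [lev, Finset.mem_filter, Finset.mem_univ, true_and] at h1 h2; omega)]
  congr 1
  ext i
  have := abs_le_of_sqNorm_le (x := x) (k := 8) (by norm_num) (by omega) i
  simp only [mem_latT, lev, Finset.mem_union, Finset.mem_filter, Finset.mem_univ, true_and]
  rcases abs_cases (x i) with h | h <;> omega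

theorem lat_sd1 {α : Type*} [DecidableEq α] {T X T' X' : Finset α} {e : α} :
    e ∈ symmDiff (symmDiff (symmDiff T X) (symmDiff T' X')) (symmDiff T T') ↔ (e ∈ X ↔ e ∉ X') := by
  simp only [Finset.mem_symmDiff]; tauto

theorem lat_sd2 {α : Type*} [DecidableEq α] {T X T' X' P : Finset α} {e : α} (h : e ∉ P) :
    e ∈ symmDiff (symmDiff (symmDiff T X) (symmDiff T' X')) (symmDiff (symmDiff T P) T') ↔ (e ∈ X ↔ e ∉ X') := by
  simp only [Finset.mem_symmDiff]; tauto

/-- a vector of shape `(3^3, 1^21)` with inner product `16` with `U` -/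
def latW : leechLattice := lv (lf [1,-1,-1,-1,-1,-3,-1,-3,1,1,1,1,1,1,1,-1,1,1,-1,1,1,1,1,3]) (by decide +kernel)

section
variable {B : Set leechLattice} (b1 : ∀ v ∈ B, (16 : ℤ) ∣ dotInt (v : GolayPt → ℤ) leechU)
  (b2 : ∀ v ∈ B, ∀ w, Dbl (w - v) → w ∈ B) (b3 : ∀ k : Co0, k • leechU = leechU → ∀ v ∈ B, k • v ∈ B)
  (b4 : ∀ v ∈ B, ∀ v' ∈ B, (v : GolayPt → ℤ) none % 2 = 1 → (v' : GolayPt → ℤ) none % 2 = 1 →
    ∃ k ∈ EE, Dbl (k • v - v') ∨ Dbl (k • v + leechU - v'))
include b3 b4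

theorem lat_dich {v : leechLattice} (hv : v ∈ B) (ho : (v : GolayPt → ℤ) none % 2 = 1) {σ : M24}
    (h1 : σ • (none : GolayPt) = none) (h2 : σ • p0 = p0) :
    symmDiff (latT v) ((latT v).image (σ : Equiv.Perm GolayPt)) ∈ Cset ∨
      symmDiff (symmDiff (latT v) {none, p0}) ((latT v).image (σ : Equiv.Perm GolayPt)) ∈ Cset := by
  have h3 : ((pm σ • v : leechLattice) : GolayPt → ℤ) none % 2 = 1 := by
    rw [← h1, pm_apply_smul]; exact ho
  obtain ⟨k, ⟨⟨c, hc, rfl⟩, -⟩, h⟩ := b4 v hv _ (b3 _ (pm_fix h1 h2).1 v hv) ho h3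
  have h4 := odd_of_one (pm σ • v).2 h3
  have h5 : ∀ i, ((eps c hc • v : leechLattice) : GolayPt → ℤ) i % 2 = 1 := fun i => by
    have := odd_of_one v.2 ho i
    rw [eps_apply]
    split_ifs <;> omega
  refine h.imp (fun h => ?_) fun h => ?_
  · have := latT_dbl h h4
    rwa [latT_eps, latT_pm] at this
  · have := latT_dbl h h4
    rwa [latT_add_U h5, latT_eps, latT_pm] at this

theorem lat_star {v : leechLattice} (hv : v ∈ B) (ho : (v : GolayPt → ℤ) none % 2 = 1) {X : Finset GolayPt}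
    (hX : X.card ≤ 3) (h : symmDiff (latT v) X ∈ Cset) : X ⊆ {none, p0} := fun i hi => by
  by_contra hP
  have c2 : ({none, p0} : Finset GolayPt).card ≤ 2 := Finset.card_le_two
  have c5 : (X ∪ {none, p0}).card ≤ 5 := (Finset.card_union_le _ _).trans (by omega)
  obtain ⟨j, -, hj⟩ := Finset.exists_mem_notMem_of_card_lt_card (s := X ∪ {none, p0}) (t := Finset.univ)
    (by rw [Finset.card_univ, CL.Spor.card_golayPt]; omega)
  obtain ⟨σ, hσ⟩ := CL.Spor.M24_exists_eq_on (X ∪ {none, p0}) c5 (Equiv.swap i j)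
  have fx : ∀ x ∈ X ∪ {none, p0}, x ≠ i → σ • x = x := fun x hx e =>
    (hσ x hx).trans (Equiv.swap_apply_of_ne_of_ne e fun e' => hj (e' ▸ hx))
  have fi : σ • i = j := (hσ i (Finset.mem_union_left _ hi)).trans (Equiv.swap_apply_left _ _)
  have h1 := fx none (by simp) fun e => hP (by simp [← e])
  have h2 := fx p0 (by simp) fun e => hP (by simp [← e])
  have h3 := image_mem_Cset σ.2 h
  rw [Finset.image_symmDiff _ _ (σ : Equiv.Perm GolayPt).injective] at h3
  have ni : i ∉ X.image (σ : Equiv.Perm GolayPt) := fun e => by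
    obtain ⟨x, hx, e⟩ := Finset.mem_image.1 e
    by_cases e' : x = i
    · exact hj (Finset.mem_union_left _ (by rw [← fi, ← e', show σ • x = i from e]; exact hi))
    · exact e' ((fx x (Finset.mem_union_left _ hx) e').symm.trans e)
  have eqv : ∀ e, e ≠ i → e ≠ j → (e ∈ X.image (σ : Equiv.Perm GolayPt) ↔ e ∈ X) := fun e e1 e2 => by
    rw [Finset.mem_image]
    constructor
    · rintro ⟨x, hx, rfl⟩
      by_cases e' : x = i
      · exact absurd (e' ▸ fi) e2
      · rwa [show (σ : Equiv.Perm GolayPt) x = x from fx x (Finset.mem_union_left _ hx) e']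
    · exact fun he => ⟨e, he, fx e (Finset.mem_union_left _ he) e1⟩
  have key : ∀ D ∈ Cset, i ∈ D → D ⊆ {i, j, none, p0} → False := fun D hD h1 h2 => by
    have a1 := Finset.card_pos.2 ⟨i, h1⟩
    have a2 : D.card ≤ 4 := (Finset.card_le_card h2).trans Finset.card_le_four
    have := Cset_card hD
    omega
  rcases lat_dich b3 b4 hv ho h1 h2 with h4 | h4
  · refine key _ (Cset_symmDiff (Cset_symmDiff h h3) h4) (lat_sd1.2 (iff_of_true hi ni)) fun e he => ?_
    by_contra e0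
    simp only [Finset.mem_insert, Finset.mem_singleton, not_or] at e0
    exact iff_not_self ((eqv e e0.1 e0.2.1).trans (lat_sd1.1 he))
  · refine key _ (Cset_symmDiff (Cset_symmDiff h h3) h4) ((lat_sd2 hP).2 (iff_of_true hi ni)) fun e he => ?_
    by_contra e0
    simp only [Finset.mem_insert, Finset.mem_singleton, not_or] at e0
    exact iff_not_self ((eqv e e0.1 e0.2.1).trans ((lat_sd2 (by simp [e0.2.2.1, e0.2.2.2])).1 he))

theorem lat_sub {v : leechLattice} (hv : v ∈ B) (ho : (v : GolayPt → ℤ) none % 2 = 1) (h : (latT v).card ≤ 3) :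
    latT v ⊆ {none, p0} := lat_star b3 b4 hv ho h (by rw [symmDiff_self]; exact Cset_empty)

theorem lat_ne3 {v : leechLattice} (hv : v ∈ B) (ho : (v : GolayPt → ℤ) none % 2 = 1) : (latT v).card ≠ 3 := fun h => by
  have := (Finset.card_le_card (lat_sub b3 b4 hv ho h.le)).trans Finset.card_le_two
  omega

theorem lat_ne5 {v : leechLattice} (hv : v ∈ B) (ho : (v : GolayPt → ℤ) none % 2 = 1) : (latT v).card ≠ 5 := fun h => by
  obtain ⟨o, ⟨o1, o2⟩, hs⟩ := CL.Spor.exists_octad_superset h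
  have c3 : (o \ latT v).card = 3 := by rw [Finset.card_sdiff_of_subset hs, o2, h]
  have := (Finset.card_le_card (lat_star b3 b4 hv ho c3.le (by
    convert o1 using 1
    ext i
    have := @hs i
    simp only [Finset.mem_symmDiff, Finset.mem_sdiff]; tauto))).trans Finset.card_le_two
  omega

include b1

theorem lat_dot {v : leechLattice} (hv : v ∈ B) (ho : (v : GolayPt → ℤ) none % 2 = 1)
    (hn : sqNorm (v : GolayPt → ℤ) ≤ 48) (h : (latT v).card = 1) :
    dotInt (v : GolayPt → ℤ) leechU = 16 ∨ dotInt (v : GolayPt → ℤ) leechU = -16 := by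
  have hs := lat_sub b3 b4 hv ho (by omega)
  obtain ⟨i, hi⟩ := Finset.card_eq_one.1 h
  have bd : ∀ j, -7 < (v : GolayPt → ℤ) j ∧ (v : GolayPt → ℤ) j < 7 := fun j => by
    have := sq_le_sqNorm (v : GolayPt → ℤ) j
    constructor <;> nlinarith
  have h1 := b1 v hv
  have h2 := bd none
  have h3 := bd p0
  have h4 := odd_of_one v.2 ho p0
  have h5 := mem_latT (v := v) (i := none)
  have h6 := mem_latT (v := v) (i := p0)
  have hn : (none : GolayPt) ≠ p0 := by decide
  rw [dot_U] at h1 ⊢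
  rw [hi, Finset.mem_singleton] at h5 h6
  rw [hi, Finset.singleton_subset_iff, Finset.mem_insert, Finset.mem_singleton] at hs
  rcases hs with rfl | rfl
  · have h7 := h5.1 rfl
    have h8 := mt h6.2 hn.symm
    omega
  · have h7 := h6.1 rfl
    have h8 := mt h5.2 hn
    omega

include b2

theorem lat_ne48 {v : leechLattice} (hv : v ∈ B) (ho : (v : GolayPt → ℤ) none % 2 = 1) :
    sqNorm (v : GolayPt → ℤ) ≠ 48 := fun hn => by
  have key : ∀ u ∈ B, sqNorm (u : GolayPt → ℤ) = 48 → dotInt (u : GolayPt → ℤ) leechU = 16 → False :=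
    fun u hu h1 h2 => by
    have nU : sqNorm ((-leechU : leechLattice) : GolayPt → ℤ) = 32 := by rw [AddSubgroup.coe_neg, sqNorm_neg, sqNorm_U]
    obtain ⟨g, g1, g2⟩ := pair_48_m16 h1 nU (by rw [AddSubgroup.coe_neg, dot_neg_right, h2])
    obtain ⟨k, k1, k2⟩ := pair_48_m16 (u := latW) (by decide +kernel) nU (by decide +kernel)
    have := b3 (k⁻¹ * g) (by
      rw [mul_smul, inv_smul_eq_iff, ← neg_inj, ← smul_neg, ← smul_neg, g2, k2]) u hu
    rw [mul_smul, g1, ← k1, inv_smul_smul] at this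
    exact lat_ne3 b3 b4 this (by decide +kernel) (by decide +kernel)
  have h1 := odd_shape (x := v) (by omega) (odd_of_one v.2 ho)
  have h2 := latT_short (x := v) (by omega)
  have h3 := lat_ne3 b3 b4 hv ho
  rcases lat_dot b1 b3 b4 hv ho hn.le (by omega) with e | e
  · exact key v hv hn e
  · exact key (-v) (b2 v hv _ (Dbl.neg_sub v)) (by rw [AddSubgroup.coe_neg, sqNorm_neg, hn])
      (by rw [AddSubgroup.coe_neg, dot_comm, dot_neg_right, dot_comm, e]; rfl)

theorem lat_odd {v : leechLattice} (hv : v ∈ B) (ho : (v : GolayPt → ℤ) none % 2 = 1) :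
    ∃ w ∈ nbr leechU 16, Dbl (v - w) := by
  obtain ⟨u, h1, h2⟩ := exists_short' v
  have hu := b2 v hv u h1.symm
  have uo : (u : GolayPt → ℤ) none % 2 = 1 := by
    obtain ⟨x, -, e⟩ := h1.coe
    have := congrFun e none
    simp only [Pi.sub_apply, Pi.smul_apply, nsmul_eq_mul, Nat.cast_ofNat] at this
    omega
  have n3 := lat_ne3 b3 b4 hu uo
  have n5 := lat_ne5 b3 b4 hu uo
  rcases h2 with rfl | hn | hn | hn
  · exact absurd uo (by decide)
  · have h3 := odd_shape (x := u) (by omega) (odd_of_one u.2 uo)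
    have h4 := latT_short (x := u) (by omega)
    rcases lat_dot b1 b3 b4 hu uo (by omega) (by omega) with e | e
    · exact ⟨u, ⟨hn, by rw [dot_comm, e]⟩, h1⟩
    · exact ⟨-u, ⟨by rw [AddSubgroup.coe_neg, sqNorm_neg, hn],
        by rw [AddSubgroup.coe_neg, dot_neg_right, dot_comm, e]; rfl⟩, h1.trans (Dbl.neg_sub u).symm⟩
  · exact absurd hn (lat_ne48 b1 b2 b3 b4 hu uo)
  · have h3 := odd_shape (x := u) (by omega) (odd_of_one u.2 uo)
    have h4 := latT_short (x := u) (by omega)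
    omega

/-- The lattice theorem. -/
theorem latS : ∀ v ∈ B, (∀ w : leechLattice, (16 : ℤ) ∣ dotInt (w : GolayPt → ℤ) leechU →
    (16 : ℤ) ∣ dotInt (w : GolayPt → ℤ) v) ∨ ∃ w ∈ nbr leechU 16, Dbl (v - w) := fun v hv => by
  by_cases h : ∀ w : leechLattice, sqNorm (w : GolayPt → ℤ) = 32 → dotInt (leechU : GolayPt → ℤ) w = 0 →
      (16 : ℤ) ∣ dotInt (w : GolayPt → ℤ) v
  · let S0 : AddSubgroup leechLattice :=
      { carrier := {w | (16 : ℤ) ∣ dotInt (w : GolayPt → ℤ) leechU ∧ (16 : ℤ) ∣ dotInt (w : GolayPt → ℤ) v}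
        zero_mem' := ⟨(Dbl.dvd_dot ⟨0, by simp⟩ _), (Dbl.dvd_dot ⟨0, by simp⟩ _)⟩
        add_mem' := fun {a b} ha hb => by
          simp only [Set.mem_ofPred_eq, AddSubgroup.coe_add, dot_add_left]
          exact ⟨dvd_add ha.1 hb.1, dvd_add ha.2 hb.2⟩
        neg_mem' := fun {a} ha => by
          simp only [Set.mem_ofPred_eq, AddSubgroup.coe_neg, dot_neg_left, dvd_neg]
          exact ha }
    exact Or.inl fun w hw => (CL.BM.perp_span (S := S0) (fun u hu => ⟨hu.dvd_dot _, hu.dvd_dot _⟩)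
      (fun u hu => hu.1) (fun u h1 h2 => ⟨by rw [dot_comm, h2]; exact dvd_zero _, h u h1 h2⟩) hw).2
  push Not at h
  obtain ⟨w, h1, h2, h3⟩ := h
  obtain ⟨g, g1, g2⟩ := pair_orth sqNorm_U h1 h2
  have hv1 := b3 g g1 v hv
  have a1 := b1 _ hv1
  have a2 := eight_dvd_dot w.2 v.2
  rw [← dot_smul g, g2, dot_comm, dot_U'] at h3 a2
  rw [dot_U] at a1
  obtain ⟨u, u1, u2⟩ := lat_odd b1 b2 b3 b4 hv1 (by omega)
  refine Or.inr ⟨g⁻¹ • u, ⟨by rw [sqNorm_smul, u1.1], ?_⟩, (u2.smul g⁻¹).of_eq (by rw [smul_sub, inv_smul_smul])⟩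
  rw [← dot_smul g, g1, smul_inv_smul, u1.2]

end

namespace Su
variable {G : Type*} [Group G] [Finite G] (S : Su G)

/-- The support of the weights. -/
theorem gf_supp (h : ∀ r ∈ S.R2, ∃ k ∈ EE, S.Im r k) : ∀ A : Set G, A ⊆ S.Q1 →
    (∀ c ∈ S.C, ∀ y ∈ A, c * y * c⁻¹ ∈ A) → (∀ y ∈ A, S.z * y ∈ A ∧ S.s * y ∈ A) →
    (∀ y ∈ A, ∀ y' ∈ A, y * S.t ≠ S.t * y → y' * S.t ≠ S.t * y' → ∃ r ∈ S.R2, S.Cl (r * y * r⁻¹) y') →
    ∀ y ∈ A, S.Cl 1 y ∨ y ∈ S.SY := fun A hA hC _ hR y hy => by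
  have od : ∀ {v : leechLattice} {x : G}, S.R v x → (v : GolayPt → ℤ) none % 2 = 1 → x * S.t ≠ S.t * x :=
    fun hx ho e => by
      have := (S.mt.comm_iff hx S.ht).1 e
      rw [dot_e8] at this
      omega
  obtain ⟨v, hv⟩ := S.mt.exL y (hA hy).1
  refine (latS (B := {v | ∃ y ∈ A, S.R v y}) ?_ ?_ ?_ ?_ v ⟨y, hy, hv⟩).imp (fun h1 => S.cent_Q1 fun a ha => ?_)
    fun ⟨w, h1, h2⟩ => S.SY_iff.2 ⟨w, h1, S.mt.congr hv h2.symm⟩
  · rintro u ⟨x, hx, hu⟩
    exact (S.mt.comm_iff hu S.gd.hs).1 (S.mem_Q1.1 (hA hx)).2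
  · rintro u ⟨x, hx, hu⟩ w hw
    exact ⟨x, hx, S.mt.congr hu hw⟩
  · rintro k hk u ⟨x, hx, hu⟩
    obtain ⟨c, hc, e⟩ := S.lift_C (k := k) hk
    exact ⟨_, hC c hc x hx, Im.R S e hu⟩
  · rintro u ⟨x, hx, hu⟩ u' ⟨x', hx', hu'⟩ o o'
    obtain ⟨r, hr, hcl⟩ := hR x hx x' hx' (od hu o) (od hu' o')
    obtain ⟨k, hk, e⟩ := h r hr
    have h1 := Im.R S e hu
    have h2 := S.mt.mul S.gd.hs h1
    rw [add_comm] at h2
    refine ⟨k, hk, ?_⟩
    rcases hcl with e | e | e | e
    · exact Or.inl ((S.mt.dbl_iff' hu' h1).2 (Or.inl e)).symm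
    · exact Or.inl ((S.mt.dbl_iff' hu' h1).2 (Or.inr e)).symm
    · exact Or.inr ((S.mt.dbl_iff' hu' h2).2 (Or.inl e)).symm
    · exact Or.inr ((S.mt.dbl_iff' hu' h2).2 (Or.inr (e.trans (mul_assoc _ _ _)))).symm
  · obtain ⟨w, hw⟩ := S.mt.exL a ha.1
    exact (S.mt.comm_iff hw hv).2 (h1 w ((S.mt.comm_iff hw S.gd.hs).1 (S.mem_Q1.1 ha).2))

end Su

end CL.RB
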