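/-
The 4371-dimensional representation of the Baby Monster: existence of the setting.
-/
import Cfsg.Agent.Spor.Rb1
import Cfsg.Agent.Spor.InMain
import Cfsg.Agent.K.BMMain

set_option autoImplicit false
set_option linter.unusedSectionVars false

namespace CL.RB
open Cfsg Cfsg.Spor Subgroup CL.Even CL.Grp CL.Spor.Leech CL.Spor.Mon CL.Mj Module MulAction

variable {G : Type*} [Group G]

namespace Set0

theorem U_abs : ∀ k, |(leechU : GolayPt → ℤ) k| = if k ∈ ({none, p0} : Finset GolayPt) then 4 else 0 := by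
  decide +kernel

open scoped Pointwise in
theorem exists_N {v : leechLattice} (hn : sqNorm (v : GolayPt → ℤ) = 32) (h4 : ∀ i, (4 : ℤ) ∣ (v : GolayPt → ℤ) i) :
    ∃ n ∈ Nsub, n • v = leechU := by
  obtain ⟨i, hi⟩ : ∃ i, (v : GolayPt → ℤ) i ≠ 0 := Function.ne_iff.1 fun e : (v : GolayPt → ℤ) = 0 => by
    rw [e, sqNorm_zero] at hn; omega
  have hi4 : |(v : GolayPt → ℤ) i| = 4 := by
    have h1 := sq_le_sqNorm (v : GolayPt → ℤ) i
    obtain ⟨a, ha⟩ := h4 i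
    rw [ha] at hi h1 ⊢
    have h2 : a ≤ 1 := by nlinarith
    have h3 : -1 ≤ a := by nlinarith
    obtain rfl | rfl : a = 1 ∨ a = -1 := by omega
    all_goals rfl
  obtain ⟨j, h1, h2, h3⟩ := shape32_four v.2 hn hi4
  obtain ⟨g, hg⟩ := CL.Spor.M24_exists_smul_finset (s := {i, j}) (t := {none, p0})
    (Finset.card_le_two.trans (by omega)) (by rw [Finset.card_pair h1.symm, Finset.card_pair p0_ne.symm])
  have h5 : ∀ k, |((pm g • v : leechLattice) : GolayPt → ℤ) k| = |(leechU : GolayPt → ℤ) k| := fun k => by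
    obtain ⟨k, rfl⟩ := MulAction.surjective g k
    rw [U_abs, ← hg]
    simp only [pm_apply_smul, Finset.smul_mem_smul_finset_iff, Finset.mem_insert, Finset.mem_singleton]
    split_ifs with h
    · rcases h with rfl | rfl
      exacts [hi4, h2]
    · rw [h3 k (not_or.1 h).1 (not_or.1 h).2, abs_zero]
  obtain ⟨c, hc, -, e⟩ := exists_eps_of_small h5 (S := {none, p0}) (fun k hk => abs_eq_zero.1 (by
    rw [h5, U_abs, if_neg hk])) (Finset.card_le_two.trans (by omega))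
  exact ⟨eps c hc * pm g, mul_mem (eps_mem c hc) (pm_mem g), by rw [mul_smul, e]⟩

variable [Finite G]

theorem su_of {z : G} {Q : Subgroup G} {π : centralizer ({z} : Set G) →* Co1} {R : leechLattice → G → Prop} {s s1 : G}
    (h : GD z Q π R s s1) : ∃ S : Su G, S.z = z ∧ S.Q = Q ∧ S.s = s := by
  have mv : ∀ t ∈ Q, IsConj z t → t ≠ z → ∃ q ∈ Q ⊓ centralizer {s}, q * t * q⁻¹ = z * t := fun t ht hc ne => by
    obtain ⟨q, hq, hqt⟩ : ∃ q ∈ Q ⊓ centralizer {s}, q * t ≠ t * q := by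
      by_contra! h3
      rcases (mem_closure_pair_two h.mt.xe.mul_self h.ss h.sz.symm).1
        (h.mt.xe.cent_inf_cent_le h.sQ ((pow_two s).trans h.ss) h3) with e | e | e | e
      exacts [h.mt.xe.ne_one (isConj_one_left.1 (e ▸ hc)), ne e, h.not_conj (e ▸ hc),
        h.not_conj' h.T_sz (h.sz ▸ e ▸ hc)]
    exact ⟨q, hq, conj_eq_of_ne h.mt.xe hq.1 ht hqt⟩
  obtain ⟨t, ht⟩ := h.mt.exR (e8 none)
  obtain ⟨g, gs, rfl⟩ := h.bs_frame ht
  obtain ⟨tc, tz⟩ := h.mt.isConj_of_type ht (sqNorm_e8 _)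
  have tQ := h.mt.mem ht
  obtain ⟨q, hq, e⟩ := mv _ tQ tc tz
  obtain ⟨b, hb, e'⟩ := mv (g⁻¹ * z * g) (mem_cj.1 (h.mt.xe.mem_cj_of_conj_mem tQ))
    (isConj_iff.2 ⟨g⁻¹, by rw [inv_inv]⟩) fun e => tz ((congrArg (g * · * g⁻¹) e).symm.trans (by group))
  have gK : g ∈ centralizer ({s} : Set G) := mem_cent_singleton.2 gs
  obtain ⟨σ, hσ, e1, e2⟩ := XS.exists_conj_pair_of (X := centralizer {s}) (b := g * b * g⁻¹) h.mt.xe.mul_self
    (h.mt.xe.conj g).mul_self (h.mt.xe.comm tQ).symm (h.mt.xe.comm hq.1) e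
    (by rw [conj_mul, conj_mul, h.mt.xe.comm hb.1])
    (calc _ = g * (b * (g⁻¹ * z * g) * b⁻¹) * g⁻¹ := by group
      _ = _ := by rw [e']; group) hq.2 (mul_mem (mul_mem gK hb.2) (inv_mem gK))
    (subset_closure (.inr rfl)) (subset_closure (.inl rfl)) (h.mt.xe.conj g).ne_one h.mt.xe.ne_one tz
  exact ⟨⟨z, Q, π, R, s, s1, _, σ, q, h, ht, mem_cent_singleton.1 hσ, e1, e2, hq.1, mem_cent_singleton.1 hq.2, e⟩,
    rfl, rfl, rfl⟩

theorem key (S : Su G) {L : Subgroup G} (hC : S.C ≤ L) (hσ : S.σ ∈ L) {w : G} (hw : w ∈ S.K)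
    (h1 : w * S.z * w⁻¹ ∈ S.Q) (h2 : w * S.z * w⁻¹ ≠ S.z) : w ∈ L := by
  obtain ⟨c0, hc0, e0⟩ := S.mt.trans_conj h1 S.tQ (isConj_iff.2 ⟨w, rfl⟩) (isConj_iff.2 ⟨S.σ, S.σz⟩) h2 (S.sw.ne S.mt)
  have ws : w * S.s * w⁻¹ = S.s := mul_inv_eq_iff_eq_mul.2 (S.mem_K.1 hw)
  have hj : cj (c0 * w) S.Q = cj S.σ S.Q := S.xe.cj_eq_cj (by rw [S.σz, ← e0]; group)
  have ic : IsConj S.s (c0 * S.s * c0⁻¹) := isConj_iff.2 ⟨c0, rfl⟩
  obtain ⟨v, hv, hn, h4⟩ := S.sw.of_SS S.mt (y := c0 * S.s * c0⁻¹) (CL.INC.mem_SS.2 ⟨⟨conj_mem (S.xe.norm hc0) S.sQ, by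
    have := conj_mem_cj (c0 * w) S.sQ
    rwa [hj, show c0 * w * S.s * (c0 * w)⁻¹ = c0 * (w * S.s * w⁻¹) * c0⁻¹ by group, ws] at this⟩, S.gd.t_ne_one ic, S.gd.not_conj' ic⟩)
  obtain ⟨n, hN, e⟩ := exists_N hn h4
  obtain ⟨c1, hc1⟩ := S.mt.lift n
  obtain ⟨a, ha, e1, e2⟩ := p2_pair S.mt (e ▸ S.mt.conj c1 n hc1 hv) (S.mt.congr (S.mt.conj c1 n hc1 S.ht)
    (mem_clsStab.1 ((clsStab_e8 none).symm ▸ hN)).symm) S.gd.hs S.ht
    (not_dbl_of_short (by rw [sqNorm_U]; omega) (by rw [sqNorm_U]; omega))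
    (not_dbl_of_short (by rw [sqNorm_e8]) (by rw [sqNorm_e8]; omega))
    fun d => not_dbl_of_short (v := leechU') (by rw [sqNorm_U']; omega) (by rw [sqNorm_U']; omega)
      ((d.sub ⟨leechU, rfl⟩).of_eq (by rw [← U_add_U']; abel))
  have c1K : a * c1 * c0 ∈ S.K := S.mem_K.2 (mul_inv_eq_iff_eq_mul.1 (Eq.trans (by group) e1))
  have hc : a * c1 * c0 ∈ S.C := ⟨mul_mem (mul_mem (S.xe.le ha) c1.2) hc0, c1K⟩
  have hd : S.σ⁻¹ * (a * c1 * c0) * w ∈ S.C := ⟨mem_cent_singleton.2 (mul_inv_eq_iff_eq_mul.1 (by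
    calc _ = S.σ⁻¹ * (a * (c1 * (c0 * (w * S.z * w⁻¹) * c0⁻¹) * (c1 : G)⁻¹) * a⁻¹) * S.σ := by group
      _ = _ := by rw [e0, e2, S.σt'])), S.K.mul_mem (mul_mem (inv_mem S.σK) c1K) hw⟩
  have := mul_mem (mul_mem (inv_mem (hC hc)) hσ) (hC hd)
  convert this using 1
  group

end Set0

open Set0 CL.IN in
theorem exists_su : ∃ (G : Type) (_ : Group G) (_ : Finite G) (S : Su G),
    (∀ L : Subgroup G, S.C ≤ L → S.σ ∈ L → S.K ≤ L) ∧ Nonempty (BabyMonster ≃* BQ S.s) := by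
  obtain ⟨_, H, _, _, δ, τ, ρ, π, y, g, -, -, hf, h⟩ := CL.IN.exists_md
  have h3 := h.l3' (l2T _ _ _ _ _ _ _ _ _ _ _ _ _ h)
  have g0 := h.ma.gd
  obtain ⟨S, e1, e2, e3⟩ := su_of g0
  refine ⟨H, _, ‹_›, S, fun L hC hσ x hx => ?_, e3 ▸ h.isoB h3 CL.BM.nontrivialB⟩
  obtain ⟨v, hv, hn⟩ := hf.tv
  obtain ⟨c, hc, e⟩ := g0.isT_cent hv hn
  have full := h3.full
  have f3 : g * y .f3 * g⁻¹ = _ := h.f3
  have nb := hf.nb
  rw [← e1] at hc nb
  rw [← e2] at nb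
  rw [← e3] at e full f3
  have gK : g * c ∈ S.K := S.mem_K.2 (mul_inv_eq_iff_eq_mul.1 (Eq.trans (by rw [← e]; group) f3))
  have le : Gp I3 (fun n => g * y n * g⁻¹) ≤ cj (g * c) L := (closure_le _).2 (by
    rintro _ ⟨n, hn, rfl⟩
    have uK : (g * c)⁻¹ * (g * y n * g⁻¹) * (g * c) ∈ S.K :=
      mul_mem (mul_mem (inv_mem gK) (full.le (subset_closure ⟨n, hn, rfl⟩))) gK
    refine mem_cj.2 ?_
    by_cases uz : (g * c)⁻¹ * (g * y n * g⁻¹) * (g * c) ∈ centralizer {S.z}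
    · exact hC ⟨uz, uK⟩
    obtain ⟨k, k1, k2⟩ := nb n (by rintro rfl; exact absurd hn (by decide))
    obtain ⟨q, hq, q1, -, q2, -⟩ := CL.BM.nbr (g := c⁻¹ * k) S.xe S.sQ ((pow_two _).trans S.ss) S.gd.not_conj
      (S.sz ▸ S.gd.not_conj' S.gd.T_sz) (by
        have := conj_mem (S.xe.norm (inv_mem hc)) k1
        convert this using 1
        group) (mem_cj.2 (by
        have := mem_cj.1 k2
        convert this using 1
        group)) uz
    have := mul_mem (inv_mem (hC (S.Q1_le_C hq))) (key S hC hσ (mul_mem hq.2 uK) q1 q2)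
    rwa [inv_mul_cancel_left] at this)
  have := mem_cj.1 (le (full.ge (mul_mem (mul_mem gK hx) (inv_mem gK))))
  convert this using 1
  group

end CL.RB
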