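/-
The 4371-dimensional representation of the Baby Monster: assembly.
-/
import Cfsg.Agent.Spor.RbAN1
import Cfsg.Agent.Spor.RbAN2
import Cfsg.Agent.Spor.RbTR
import Cfsg.Agent.Spor.RbGA
import Cfsg.Agent.Spor.RbG1
import Cfsg.Agent.Spor.RbG2
import Cfsg.Agent.Spor.RbG3
import Cfsg.Agent.Spor.RbGFa
import Cfsg.Agent.Spor.RbGFb
import Cfsg.Agent.Spor.RbLat
import Cfsg.Agent.Spor.RbSet
import Cfsg.Agent.Spor.RbEx
import Cfsg.Agent.Spor.RbFin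
import Cfsg.Agent.Spor.RbCF
import Cfsg.Agent.Spor.RbCoS
import Cfsg.Agent.Spor.RbCoG

set_option autoImplicit false

namespace CL.RB
open Cfsg Cfsg.Spor Subgroup Module

variable {G : Type*} [Group G] {F V V' : Type*} [Field F] [AddCommGroup V] [Module F V] [AddCommGroup V']
  [Module F V']

namespace Su
variable [Finite G] {S : Su G} {ρ : G → End F V} {ρ' : G → End F V'}

theorem gf (h : ∀ L : Subgroup G, S.C ≤ L → S.σ ∈ L → S.K ≤ L) : S.GF :=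
  ⟨h, S.gf_perfC, S.gf_perfU, S.gf_trans, S.gf_odd S.gf_lift2, S.gf_outer S.gf_liftP, S.gf_ty, S.gf_img2, S.gf_lift2,
    S.gf_imgP, S.gf_liftP, S.gf_tyi, S.gf_ity, S.gf_supp S.gf_img2⟩

theorem small [Module.Finite F V] (hG : S.GF) (h : S.Ok ρ) (hd : finrank F V ≤ 4371) :
    S.Gd ρ ∧ S.Sm ρ ∧ S.E0 ρ ∧ S.Irr ρ := by
  obtain ⟨h1, h2, h3⟩ := an1 h.1 h.2.1 h.2.2 hd
  obtain ⟨h4, h5⟩ := an2 hG h.1 h.2.1 h.2.2 hd h1 h2 h3
  obtain ⟨h6, h7, h8⟩ := tr_sm hG h4 h5 exists_cf.coS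
  exact ⟨h4, h5, h6, irr hG h4 h5 h7 h8⟩

theorem uniq [Module.Finite F V] [Module.Finite F V'] (hG : S.GF) (h : S.Ok ρ) (h' : S.Ok ρ')
    (hd : finrank F V ≤ 4371) (hd' : finrank F V' ≤ 4371) :
    ∃ f : V ≃ₗ[F] V', ∀ g ∈ S.K, ∀ v, f (ρ g v) = ρ' g (f v) := by
  obtain ⟨a1, a2, a3, a4⟩ := small hG h hd
  obtain ⟨b1, b2, b3, b4⟩ := small hG h' hd'
  obtain ⟨Γ, y, γ, c1, c2, c3, c4⟩ := ga hG a1 a2 b1 b2
  have d := a1.prod b1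
  obtain ⟨e1, e2, e3, e4⟩ := g1 hG d c1
  obtain ⟨ΓD, f1, f2, f3, f4⟩ := g3 d hG (a3.prod b3) (tr_gl hG d exists_cf.coG (a3.prod b3)) (inv_GB d.rp γ)
  obtain ⟨T, hT, e⟩ := glue_of hG d c1.le c1.inv (inv_GB d.rp γ) e1 e2 e3 e4 (g2 hG d (inv_GB d.rp γ)) f1 f2 f3 f4
  exact iso_of h.1 h'.1 h.2.2 h'.2.2 a4 b4 hT e c2 c3 c4

end Su

theorem s5587 (F : Type*) [Field F] (hF : ringChar F ≠ 2) :
    (∃ ρ : BabyMonster →* GL (Fin 4371) F, Function.Injective ρ) ∧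
    ∀ ρ : BabyMonster →* GL (Fin 4371) F, Function.Injective ρ →
      (∀ W : Submodule F (Fin 4371 → F), (∀ g : BabyMonster, ∀ v ∈ W,
        (ρ g : Matrix (Fin 4371) (Fin 4371) F).mulVec v ∈ W) → W = ⊥ ∨ W = ⊤) ∧
      ∀ ρ' : BabyMonster →* GL (Fin 4371) F, Function.Injective ρ' →
        ∃ P : GL (Fin 4371) F, ∀ g : BabyMonster, ρ' g = P * ρ g * P⁻¹ := by
  have h2 : (2 : F) ≠ 0 := Ring.two_ne_zero hF
  obtain ⟨G, _, _, S, hg, ⟨e⟩⟩ := exists_su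
  have hd : finrank F (Fin 4371 → F) ≤ 4371 := (Module.finrank_fin_fun F).le
  exact ⟨exists_rep F h2, S.fin e F h2 (fun _ h => (Su.small (Su.gf hg) h hd).2.2.2)
    fun _ _ h h' => Su.uniq (Su.gf hg) h h' hd hd⟩

end CL.RB
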