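/-
Extensions of the Baby Monster by the 4371-dimensional module: the common neighbours of the five frames.
-/
import Cfsg.Agent.Spor.Bx0
import Cfsg.Agent.Spor.BkF

set_option autoImplicit false
set_option linter.unusedSectionVars false

namespace CL.BX.Geo
open Cfsg Cfsg.Spor CL.Spor CL.Spor.Leech CL.BM CL.BM.BkF

/-- the vectors -/
def TW : ℕ := 0x84a529425284a1084250842108421084a5084a1284a5084a108421084a1094a5084252942509421084210842108421294212849d083a10741d08421084a1283a1274a1074210841d08421094a107421283a1093a108420e842109425284a5084a5084210842508421094a109425084a50842109421084a1094a5094a1094a108421084a108421093a1094a12841d0841d0841d08421094a1073a1284250841d0841d0842109421084a12739d0842109420e84210842108421084210842108420c842148421084210842108420c84210842148421084210842108421084210841948421084210842108420c85210842108421084210842108421084210832908421084210842108420c8421084290842108421064210a4210842108421084210842108421083210a4210842108421084210842108419084290842108419084290842108421084210842108421084210842148421084210a42108421084210742127420e83a0e9420e84210842108421283a107420e939ce8420e8421084212841ce841d0941ce8425084250842128420e83a10939d08421084210842148421084210a4210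
/-- the witnesses of adjacency -/
def TA : ℕ := 0x842528425084a0e84210842129420e84a108421084a4e842128421094a0e94a50842109420e84210842109424e8421094212841ce84212839d09421084a1083a128420e84210841d0949d0942108421283a0e842128420e941d084210842109420e7421283a129420e84210842108420e84a107421293a4e84210842108420e84a1074212949ce84212842108420e8424e841d09424e84212842108420e84252841d0941ce84250841d08420e8421283a10949d084250841d08420e8421284a10939d08421084210842106421084210a42107be2f8c62f8bded8c62f8be318c6318421084210842108421064210a42108c6318c6318c62d8c6318c6318c6318421084210842108421084210a420c8421084210842108421084190a42108bdef7c5ef8be2d8c5f18c6318c6317c5f17bdef8c62d8be317c6318c6317bdef8c5ef8bded8be317c62f8c62f8c5f17c5f17bded8be318c62f8c6318421084210842108421083210a42108421084210842108421084210a41908421084210842108421084210a42148421084210842108421085210a42108421084210842108421084210a4290842108421084210a421084210a421084210842108421084210a4210a42108421084210842108421084290a42108421084290842108421084210a4210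
/-- their numbers -/
def TJ : ℕ := 0x7c00000007c000000000000000000000000000000000000001e00000001e00000000000000000000000000000000000000074000000074000000000000000000000000000000000000001c00000001c0000000000000000000000000000000000000006c00000006c000000000000000000000000000000000000001a00000001a0000000000000000000000000000000000000000000000006590190000000000000000000000000000000000000000005c06005c000000000000000000000000000000000000000001558001500000000000000000000000000000000000000000001451300000000000000000000000000000000000000000000000000000000000000000000030f00c0003cf00b00038e0080004800000000000000000003003c03003c03c04403801c01c001000000000000000000000f3c000900f3c000900e1c000700034000000000000000000000c28900000b2890000081c70000000000000000000000000000000000000001861051040c2040000000000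
/-- the numbers of the pairs -/
def TQ : ℕ := 0xb10a19118011000000
def Wv (i : ℕ) : ℕ → ℤ := rowZ TW i
def Av (i j : ℕ) : ℕ → ℤ := rowZ TA (Nat.land (Nat.shiftRight TJ (6 * (32 * i + j))) 63)
def pq (m n : ℕ) : ℕ := Nat.land (Nat.shiftRight TQ (3 * (5 * m + n))) 7
def vB (i : ℕ) : Bool := inL (Wv i) && decide (dotN (Wv i) (Wv i) = 32) && decide (dotN (Wv i) (X 7) = 0)
def aB (i j : ℕ) : Bool := decide (i < 28) && decide (j < 28) && decide (dotN (Wv i) (Wv j) = 0) && inL (Av i j) &&
  decide (dotN (Av i j) (Av i j) = 32) && decide (dotN (Av i j) (X 7) = 16) && decide (|dotN (Av i j) (Wv i)| = 16) &&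
  decide (|dotN (Av i j) (Wv j)| = 16)
def nB (i j : ℕ) : Bool := decide (i < 28) && decide (j < 28) && decide (|dotN (Wv i) (Wv j)| = 16)
def n1 : Fin 5 → Fin 5 := ![0, 2, 1, 1, 1]
def n2 : Fin 5 → Fin 5 := ![0, 3, 3, 2, 2]

theorem cV : allBelow vB 28 = true := by decide +kernel
theorem cL : ∀ m : Fin 5, ∀ i : Fin 24, Lv m i = X 7 i + Wv m i := by decide +kernel
theorem c1 : ∀ m n : Fin 5, m ≠ n → nB m n = true := by decide +kernel
theorem c2 : ∀ m : Fin 5, m ≠ 0 → aB 0 (5 + m) = true ∧ aB m (5 + m) = true ∧ n1 m ≠ 0 ∧ n1 m ≠ m ∧ n2 m ≠ 0 ∧ n2 m ≠ m ∧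
    nB (10 + pq m (n1 m)) (10 + pq m (n2 m)) = true := by decide +kernel
theorem c3 : ∀ m n : Fin 5, m ≠ 0 → n ≠ 0 → m ≠ n → pq m n = pq n m ∧ aB 0 (10 + pq m n) = true ∧
    aB m (10 + pq m n) = true ∧ aB (5 + m) (10 + pq m n) = true ∧ aB (10 + pq m n) (16 + pq m n) = true ∧
    aB m (16 + pq m n) = true ∧ aB n (16 + pq m n) = true ∧ aB (10 + pq m n) (22 + pq m n) = true ∧
    aB m (22 + pq m n) = true ∧ aB n (22 + pq m n) = true ∧ nB (16 + pq m n) (22 + pq m n) = true := by decide +kernel

theorem i7 : inL (X 7) = true := by decide +kernel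

end CL.BX.Geo

namespace CL.RB.Su
open Cfsg Cfsg.Spor CL.Spor CL.Spor.Leech CL.BM CL.BM.BkF CL.BX.Geo

variable {G : Type*} [Group G] [Finite G] {S : Su G}

theorem bx_geo (hL : S.Lat) {γ : Co0} (hγ : γ • lz (X 7) = leechU) {t : Fin 5 → G}
    (ht : ∀ m : Fin 5, S.R (γ • lz (Lv m)) (t m)) : S.Geo t ∧ ∀ m, t m ∈ S.TT := by
  have d : ∀ {x y : ℕ → ℤ}, inL x = true → inL y = true →
      dotInt ((γ • lz x : leechLattice) : GolayPt → ℤ) (γ • lz y : leechLattice) = dotN x y := fun hx hy =>
    (dL_smul γ _ _).trans (dL_lz hx hy)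
  have v : ∀ i < 28, inL (Wv i) = true ∧ dotN (Wv i) (Wv i) = 32 ∧ dotN (Wv i) (X 7) = 0 := fun i hi => by
    simpa only [vB, Bool.and_eq_true, decide_eq_true_eq, and_assoc] using (allBelow_iff _ _).1 cV i hi
  have ov : ∀ i < 28, ∀ x, S.R (leechU + γ • lz (Wv i)) x → S.Ov (γ • lz (Wv i)) x := fun i hi x hx =>
    ⟨(sqNorm_eq_dot _).trans ((d (v i hi).1 (v i hi).1).trans (v i hi).2.1),
      hγ ▸ (d (v i hi).1 i7).trans (v i hi).2.2, hx⟩
  choose e he using fun i => S.mt.exR (leechU + γ • lz (Wv i))
  have ht' : ∀ m : Fin 5, S.R (leechU + γ • lz (Wv m)) (t m) := fun m => by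
    have := ht m
    rwa [show lz (Lv m) = lz (X 7) + lz (Wv m) from Subtype.ext (by
      rw [AddSubgroup.coe_add, lz_val i7, lz_val (v m (by omega)).1, lz_val (inLv (by omega)).1]
      exact funext fun p => cL m ⟨_, gIdx_lt p⟩), smul_add, hγ] at this
  have a : ∀ {i j x y}, aB i j = true → S.R (leechU + γ • lz (Wv i)) x → S.R (leechU + γ • lz (Wv j)) y → S.Adj x y :=
    fun {i j x y} h hx hy => by
      simp only [aB, Bool.and_eq_true, decide_eq_true_eq] at h
      obtain ⟨⟨⟨⟨⟨⟨⟨h1, h2⟩, h3⟩, h4⟩, h5⟩, h6⟩, h7⟩, h8⟩ := h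
      exact hL.adj _ _ x y (γ • lz (Av i j)) (ov i h1 x hx) (ov j h2 y hy) ((d (v i h1).1 (v j h2).1).trans h3)
        ((sqNorm_eq_dot _).trans ((d h4 h4).trans h5)) (hγ ▸ (d h4 i7).trans h6) (by rw [d h4 (v i h1).1, h7])
        (by rw [d h4 (v j h2).1, h8])
  have n : ∀ {i j x y}, nB i j = true → S.R (leechU + γ • lz (Wv i)) x → S.R (leechU + γ • lz (Wv j)) y → S.NAdj x y :=
    fun {i j x y} h hx hy => by
      simp only [nB, Bool.and_eq_true, decide_eq_true_eq] at h
      exact hL.nadj _ _ x y (ov i h.1.1 x hx) (ov j h.1.2 y hy) (by rw [d (v i h.1.1).1 (v j h.1.2).1, h.2])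
  refine ⟨⟨fun m => e (5 + m), fun m k => e (10 + pq m k), fun m k => e (16 + pq m k), fun m k => e (22 + pq m k),
    fun m k h => n (c1 m k h) (ht' m) (ht' k), fun m h => ?_, fun m k h1 h2 h3 => ?_⟩,
    fun m => hL.tt _ _ (ov m (by omega) _ (ht' m))⟩
  · obtain ⟨b1, b2, b3, b4, b5, b6, b7⟩ := c2 m h
    exact ⟨a b1 (ht' 0) (he _), a b2 (ht' m) (he _), _, _, b3, b4, b5, b6, n b7 (he _) (he _)⟩
  · obtain ⟨b0, b1, b2, b3, b4, b5, b6, b7, b8, b9, b10⟩ := c3 m k h1 h2 h3
    exact ⟨congrArg (fun j => e (10 + j)) b0, a b1 (ht' 0) (he _), a b2 (ht' m) (he _), a b3 (he _) (he _), a b4 (he _) (he _),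
      a b5 (ht' m) (he _), a b6 (ht' k) (he _), a b7 (he _) (he _), a b8 (ht' m) (he _), a b9 (ht' k) (he _),
      n b10 (he _) (he _)⟩

end CL.RB.Su
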