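/-
Extensions of the Baby Monster by the 4371-dimensional module: the nodes exist.
-/
import Cfsg.Agent.Spor.BxGeo
import Cfsg.Agent.Spor.RbSet

set_option autoImplicit false
set_option linter.unusedSectionVars false

namespace CL.BX
open Cfsg Cfsg.Spor Subgroup CL.Even CL.Grp CL.Spor CL.Spor.Leech CL.Spor.Mon CL.Mj CL.RB CL.BM CL.BM.BkF CL.Gr CL.IN
open Cfsg.Spor.Bimonster (Gen edges)

theorem su_of {G : Type*} [Group G] [Finite G] {z : G} {Q : Subgroup G} {π : centralizer ({z} : Set G) →* Co1} {R : leechLattice → G → Prop} {s s1 : G}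
    (h : GD z Q π R s s1) : ∃ S : Su G, S.z = z ∧ S.Q = Q ∧ S.s = s ∧ S.R = R := by
  have mv : ∀ t ∈ Q, IsConj z t → t ≠ z → ∃ q ∈ Q ⊓ centralizer {s}, q * t * q⁻¹ = z * t := fun t ht hc ne => by
    obtain ⟨q, hq, hqt⟩ : ∃ q ∈ Q ⊓ centralizer {s}, q * t ≠ t * q := by
      by_contra! h3
      rcases (mem_closure_pair_two h.mt.xe.mul_self h.ss h.sz.symm).1
        (h.mt.xe.cent_inf_cent_le h.sQ ((pow_two s).trans h.ss) h3) with e | e | e | e
      exacts [h.mt.xe.ne_one (isConj_one_left.1 (e ▸ hc)), ne e, h.not_conj (e ▸ hc),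
        h.not_conj' h.T_sz (h.sz ▸ e ▸ hc)]
    exact ⟨q, hq, conj_eq_of_ne h.mt.xe hq.1 ht hqt⟩
  obtain ⟨t, ht⟩ := h.mt.exR (e8 none)
  obtain ⟨g, gs, rfl⟩ := h.bs_frame ht
  obtain ⟨tc, tz⟩ := h.mt.isConj_of_type ht (sqNorm_e8 _)
  have tQ := h.mt.mem ht
  obtain ⟨q, hq, e⟩ := mv _ tQ tc tz
  obtain ⟨b, hb, e'⟩ := mv (g⁻¹ * z * g) (mem_cj.1 (h.mt.xe.mem_cj_of_conj_mem tQ))
    (isConj_iff.2 ⟨g⁻¹, by rw [inv_inv]⟩) fun e => tz ((congrArg (g * · * g⁻¹) e).symm.trans (by group))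
  have gK : g ∈ centralizer ({s} : Set G) := mem_cent_singleton.2 gs
  obtain ⟨σ, hσ, e1, e2⟩ := XS.exists_conj_pair_of (X := centralizer {s}) (b := g * b * g⁻¹) h.mt.xe.mul_self
    (h.mt.xe.conj g).mul_self (h.mt.xe.comm tQ).symm (h.mt.xe.comm hq.1) e
    (by rw [conj_mul, conj_mul, h.mt.xe.comm hb.1])
    (calc _ = g * (b * (g⁻¹ * z * g) * b⁻¹) * g⁻¹ := by group
      _ = _ := by rw [e']; group) hq.2 (mul_mem (mul_mem gK hb.2) (inv_mem gK))
    (subset_closure (.inr rfl)) (subset_closure (.inl rfl)) (h.mt.xe.conj g).ne_one h.mt.xe.ne_one tz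
  exact ⟨⟨z, Q, π, R, s, s1, _, σ, q, h, ht, mem_cent_singleton.1 hσ, e1, e2, hq.1, mem_cent_singleton.1 hq.2, e⟩,
    rfl, rfl, rfl, rfl⟩

theorem gen_of_nd {G : Type*} [Group G] [Finite G] {S : Su G} {y : Gen → G} (h : S.Nd y) (L : Subgroup G)
    (hC : S.C ≤ L) (hσ : S.σ ∈ L) : S.K ≤ L := h.gen.trans ((closure_le _).2 (by
  have k : ∀ i, y (Su.lnode i) ∈ L := fun i =>
    Set0.key S hC hσ (h.ln i).mK (S.TT_Q1 (h.ln i).tT).1 (S.TT_ne (h.ln i).tT)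
  have p : ∀ n ∈ [Gen.b1, .b2, .b3, .d1, .d2, .d3], y n ∈ L := fun n hn => hC (S.Q1_le_C (h.pt n hn))
  rintro _ ⟨n, hn, rfl⟩
  simp only [bNodes, Set.mem_ofPred_eq, List.mem_cons, List.not_mem_nil, or_false] at hn
  rcases hn with rfl | rfl | rfl | rfl | rfl | rfl | rfl | rfl | rfl | rfl | rfl
  exacts [k 4, p _ (by decide), k 2, p _ (by decide), k 0, p _ (by decide), k 3, p _ (by decide), p _ (by decide), k 1,
    p _ (by decide)]))

theorem f2_mem {H : Type} [Group H] {y : Gen → H} (hy : YD y) (hs : spider y = 1) : y .f2 ∈ JB y := by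
  rw [← (md_yd_rel hy hs).w2]
  refine pow_mem ?_ _
  repeat' refine mul_mem ?_ ?_
  all_goals exact mem_JB (by decide)

theorem exists_nd (hL : ∀ (G : Type) [Group G] [Finite G] (S : Su G), S.Lat) :
    ∃ (G : Type) (_ : Group G) (_ : Finite G) (S : Su G) (y : Gen → G), S.Nd y ∧ Nonempty (BabyMonster ≃* BQ S.s) := by
  obtain ⟨T, hT⟩ := exists_thB
  obtain ⟨H, _, δ, τ, ρ, π, h⟩ := exists_ct
  have := h.fin
  have hb := bitSp hT
  obtain ⟨u, hu⟩ := exists_u hb h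
  have hf := fd hb h hu
  obtain ⟨g, hm⟩ := md_of' h.cs.ma h.cs.tr h.cs.cntB h.cs.cntM h.cs.isM.1 hf
  have h3 := hm.l3' (l2T _ _ _ _ _ _ _ _ _ _ _ _ _ hm)
  have g0 := hm.ma.gd
  have mt := g0.mt
  obtain ⟨S, e1, e2, e3, e4⟩ := su_of g0
  have n7 : sqNorm (lz (X 7) : GolayPt → ℤ) = 32 := (norm_lz Geo.i7).trans (by decide +kernel)
  obtain ⟨c, hc, e⟩ := g0.isT_cent (rh δ (X 7) (E 7)) n7
  have es : c⁻¹ * yN δ u .f3 * c⁻¹⁻¹ = sH δ := by rw [show yN δ u .f3 = _ from e.symm]; group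
  obtain ⟨γ, hγ, hγ'⟩ : ∃ γ : Co0, π ⟨c⁻¹, inv_mem hc⟩ = mk1 γ ∧ γ • lz (X 7) = leechU := by
    obtain ⟨γ, hγ⟩ := mk1_surjective (π ⟨c⁻¹, inv_mem hc⟩)
    have h1 : RH δ _ (c⁻¹ * yN δ u .f3 * c⁻¹⁻¹) := mt.conj _ γ hγ.symm (rh δ (X 7) (E 7))
    rcases ((mt.dbl_iff' h1 g0.hs).2 (Or.inl es)).pm_of_lt (by rw [sqNorm_smul, n7]; norm_num)
      (by rw [sqNorm_U]; norm_num) with e | e
    · exact ⟨γ, hγ.symm, e⟩
    · exact ⟨negOne * γ, by rw [map_mul, mk1_eq_one.2 negOne_mem_center, one_mul, hγ],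
        by rw [mul_smul, e, negOne_smul, neg_neg]⟩
  let φ := (MulAut.conj c⁻¹).toMonoidHom
  have hφ : ∀ x, φ x = c⁻¹ * x * c⁻¹⁻¹ := fun _ => rfl
  have φz : φ (zH δ) = zH δ := by rw [hφ, inv_inv, Su.conj_fix (mem_cent_singleton.1 hc)]
  have φQ : ∀ x ∈ QH δ, φ x ∈ S.Q := fun x hx => e2 ▸ conj_mem (mt.xe.norm (inv_mem hc)) hx
  have φe : ∀ n, φ (el δ n) ∈ S.Q := fun n => φQ _ (mt.mem (rh δ _ _))
  have hy := md_yd_map hf.yd φ
  have hs : spider (fun n => φ (yN δ u n)) = 1 := hy.spider_eq (by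
    rw [← md_yd_Gp hy, md_Gp_map, md_yd_Gp hf.yd, hf.top, map_top_of_surjective _ (MulAut.conj c⁻¹).surjective]) hf.cen
  have f3 : φ (yN δ u .f3) = S.s := e3 ▸ es
  have hK : JB (fun n => φ (yN δ u n)) ≤ S.K := by
    have := hy.JB_le
    rwa [f3] at this
  have ln : ∀ i : Fin 5, yN δ u (Su.lnode i) = u i := fun i => by
    rw [← yL_eq δ u (l := i) (by omega)]
    fin_cases i <;> rfl
  have lb : ∀ i : Fin 5, Su.lnode i ∈ bNodes ∧ Su.lnode i ≠ .e1 := by decide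
  obtain ⟨geo, tt⟩ := Su.bx_geo (hL H S) hγ' (t := fun i => S.tm (φ (yN δ u (Su.lnode i)))) fun i => by
    have := mt.conj _ γ hγ (h.lnGen _ _ _ (hu i (by omega))).1
    rw [e4, Su.tm, e1, ln, ← φz, ← map_inv, ← map_mul, ← map_mul]
    exact this
  have x := extra
  simp only [Bool.and_eq_true] at x
  obtain ⟨⟨⟨⟨x1, x2⟩, -⟩, -⟩, -⟩ := x
  have s9 : hi (u 0) (el δ 1 * el δ 2 * el δ 3) = _ := hS hb h hu (n := 9) (by decide) (by decide) (by decide +kernel)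
  have s10 : hi (u 1) (el δ 1 * el δ 4 * el δ 9) = _ := hS hb h hu (n := 10) (by decide) (by decide) (by decide +kernel)
  have s11 : hi (u 2) (el δ 2 * el δ 5 * el δ 9) = _ := hS hb h hu (n := 11) (by decide) (by decide) (by decide +kernel)
  have s12 : hi (u 3) (el δ 3 * el δ 6 * el δ 9) = _ := hS hb h hu (n := 12) (by decide) (by decide) (by decide +kernel)
  have s13 : hi (u 2) (el δ 2 * el δ 9 * el δ 10) = _ := hS hb h hu (n := 13) (by decide) (by decide) (by decide +kernel)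
  have s14 : hi (u 3) (el δ 3 * el δ 9 * el δ 11) = _ := hS hb h hu (n := 14) (by decide) (by decide) (by decide +kernel)
  have s15 : hi (u 1) (el δ 1 * el δ 9 * el δ 12) = _ := hS hb h hu (n := 15) (by decide) (by decide) (by decide +kernel)
  have l0 := yL_eq δ u (l := 0) (by decide)
  have l1 := yL_eq δ u (l := 1) (by decide)
  have l2 := yL_eq δ u (l := 2) (by decide)
  have l3 := yL_eq δ u (l := 3) (by decide)
  refine ⟨H, _, this, S, fun n => φ (yN δ u n), ⟨fun m _ n hn => hy.cox' m (by revert n; decide), fun n hn => ?_,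
    fun i => ⟨hK (mem_JB (lb i).1), hy.sq (lb i).2, tt i, ?_⟩, ⟨?_, ?_, ?_, hy.r1⟩, ⟨?_, ?_, ?_, hy.r2⟩,
    ⟨?_, ?_, ?_, hy.r3⟩, hs, f3 ▸ (hy.e7' hs).1, (hy.e7' hs).2, fun a ha => ?_, geo⟩,
    e3 ▸ hm.isoB h3 nontrivialB⟩
  · refine ⟨?_, hK (mem_JB (by revert n; decide))⟩
    simp only [List.mem_cons, List.not_mem_nil, or_false] at hn
    rcases hn with rfl | rfl | rfl | rfl | rfl | rfl <;> exact φe _
  · obtain ⟨a, a1, a2⟩ := hf.nb _ (lb i).2
    have b1 : φ a * S.z * (φ a)⁻¹ ∈ S.Q := by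
      have := φQ _ a1
      rwa [map_mul, map_mul, map_inv, φz, ← e1] at this
    have b2 : φ (yN δ u (Su.lnode i)) ∈ cj (φ a) S.Q := by
      have := φQ _ (mem_cj.1 a2)
      rwa [map_mul, map_mul, map_inv, ← mem_cj] at this
    rcases conj_cases (S.xe.conj (φ a)) b2 (S.xe.mem_cj_of_conj_mem b1) with k | k
    · exact absurd k (S.TT_ne (tt i))
    · rwa [S.Qv_eq (g := φ a) (by rw [Su.tm, k, S.xe.comm b1, ← mul_assoc, S.zz, one_mul])]
  iterate 9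
    simp only [← map_mul, ← map_hi, yN, isL, num, cond_true, cond_false, l0, l1, l2, l3, s9, s10, s11, s12, s13, s14,
      s15, hV hb h hu (by decide) x1, hV hb h hu (by decide) x2]
    exact φe _
  · have f3' : g * yN δ u .f3 * g⁻¹ = _ := hm.f3
    have gK : g * c ∈ S.K := S.mem_K.2 (e3 ▸ mul_inv_eq_iff_eq_mul.1 (Eq.trans (by
      rw [show yN δ u .f3 = _ from e.symm]; group) f3'))
    have le : Gp I3 (fun n => g * yN δ u n * g⁻¹) ≤ cj (g * c) (JB fun n => φ (yN δ u n)) := (closure_le _).2 (by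
      rintro _ ⟨n, hn, rfl⟩
      refine mem_cj.2 ?_
      rw [show (g * c)⁻¹ * (g * yN δ u n * g⁻¹) * (g * c) = φ (yN δ u n) by rw [hφ]; group]
      rcases (by decide : ∀ n ∈ I3, n ∈ bNodes ∨ n = .f2 ∨ n = .f3) n hn with k | rfl | rfl
      · exact mem_JB k
      · exact f2_mem hy hs
      · exact hy.f3_mem hs)
    have := mem_cj.1 (le (h3.full.ge (show _ ∈ centralizer {sH δ} from
      e3 ▸ show _ ∈ centralizer {S.s} from S.K.mul_mem (mul_mem gK ha) (inv_mem gK))))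
    convert this using 1
    group

end CL.BX
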