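/-
Extensions of the Baby Monster by the 4371-dimensional module: lattice criteria for adjacency, sign changes.
-/
import Cfsg.Agent.Spor.Bx0
import Cfsg.Agent.Spor.RbSet

set_option autoImplicit false
set_option linter.unusedSectionVars false

namespace CL.RB.Su
open Cfsg Cfsg.Spor Subgroup CL.Even CL.Grp CL.Spor.Leech CL.Spor.Mon CL.Mj CL.BX CL.BM Module MulAction

namespace BxLat

theorem four {v : leechLattice} (hn : sqNorm (v : GolayPt → ℤ) = 32) {i : GolayPt} (h : |(v : GolayPt → ℤ) i| = 4)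
    (k : GolayPt) : (4 : ℤ) ∣ (v : GolayPt → ℤ) k := by
  obtain ⟨j, -, h2, h3⟩ := shape32_four v.2 hn h
  by_cases a : k = i
  · exact (dvd_abs _ _).1 (by rw [a, h])
  · by_cases b : k = j
    · exact (dvd_abs _ _).1 (by rw [b, h2])
    · rw [h3 k a b]; exact dvd_zero _

theorem std {w : leechLattice} (hn : sqNorm (w : GolayPt → ℤ) = 32) (hd : dotInt (w : GolayPt → ℤ) leechU = 0) :
    ∃ k ∈ stabilizer Co0 leechU, k • w = leechU' ∨ k • w = -leechU' := by
  obtain ⟨g, hg⟩ := trans64 (v := leechU + w) (w := e8 none)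
    (by rw [AddSubgroup.coe_add, sqNorm_add, hn, sqNorm_U, dot_comm, hd]; rfl) (sqNorm_e8 _)
  have h1 := dot_smul g leechU (leechU + w)
  rw [hg, dot_e8, AddSubgroup.coe_add, dot_add_right, ← sqNorm_eq_dot, sqNorm_U, dot_comm, hd] at h1
  have hU := (sqNorm_smul g leechU).trans sqNorm_U
  obtain ⟨n, hN, e⟩ := Set0.exists_N hU (four hU (i := none) ((abs_eq (by omega)).2 (.inl (by omega))))
  refine ⟨n * g, by rw [mem_stabilizer_iff, mul_smul, e], Dbl.pm_of_lt ?_ (by rw [sqNorm_smul, hn]; omega)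
    (by rw [sqNorm_U']; omega)⟩
  refine (mem_clsStab.1 ((clsStab_e8 none).symm ▸ hN)).of_eq ?_
  conv_lhs => rw [← hg, smul_add, smul_add, e, ← smul_add, hg, ← U_add_U']
  rw [mul_smul]
  abel

theorem pm_of_dot {v w : leechLattice} (hv : sqNorm (v : GolayPt → ℤ) = 32) (hw : sqNorm (w : GolayPt → ℤ) = 32)
    (h : dotInt (v : GolayPt → ℤ) w = 32 ∨ dotInt (v : GolayPt → ℤ) w = -32) : v = w ∨ v = -w := by
  refine h.imp (fun h => Subtype.ext (sub_eq_zero.1 (sqNorm_eq_zero ?_)))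
    fun h => Subtype.ext (eq_neg_of_add_eq_zero_left (sqNorm_eq_zero ?_))
  · rw [sqNorm_sub, hv, hw, h]; rfl
  · rw [sqNorm_add, hv, hw, h]; rfl

variable {G : Type*} [Group G] [Finite G] {S : Su G} {w : leechLattice} {y u : G}

theorem over_t (h : S.R (leechU + w) y) (e : w = leechU' ∨ w = -leechU') : y = S.t ∨ y = S.z * S.t := by
  refine (S.mt.dbl_iff' h S.ht).1 ?_
  rw [← U_add_U']
  rcases e with rfl | rfl
  exacts [Dbl.refl _, (Dbl.neg_sub leechU').of_eq (by abel)]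

theorem ov_conj (h : S.Ov w y) {c : G} {k : Co0} (hk : k ∈ stabilizer Co0 leechU) (e : S.Im c k) :
    S.Ov (k • w) (c * y * c⁻¹) := by
  have := Im.R S e h.2.2
  rw [smul_add, hk] at this
  exact ⟨(sqNorm_smul _ _).trans h.1, by rw [← h.2.1, ← dot_smul k w, hk], this⟩

theorem ov_std (h : S.Ov w y) : ∃ c ∈ S.C, ∃ k ∈ stabilizer Co0 leechU, S.Im c k ∧
    (k • w = leechU' ∨ k • w = -leechU') ∧ (c * y * c⁻¹ = S.t ∨ c * y * c⁻¹ = S.z * S.t) := by
  obtain ⟨k, hk, e⟩ := std h.1 h.2.1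
  obtain ⟨c, hc, hi⟩ := S.lift_C hk
  exact ⟨c, hc, k, hk, hi, e, over_t (ov_conj h hk hi).2.2 e⟩

theorem tt (h : S.Ov w y) : y ∈ S.TT := by
  obtain ⟨c, hc, -, -, -, -, e⟩ := ov_std h
  have : c * y * c⁻¹ ∈ S.TT := by
    rcases e with e | e <;> rw [e]
    exacts [S.t_TT, S.TT_z S.t_TT]
  simpa [mul_assoc] using S.TT_conj (inv_mem hc) this

theorem adj_t {l : leechLattice} (h : S.Ov w y) (h0 : dotInt (w : GolayPt → ℤ) leechU' = 0)
    (hl : sqNorm (l : GolayPt → ℤ) = 32) (l1 : dotInt (l : GolayPt → ℤ) leechU = 16)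
    (l2 : |dotInt (l : GolayPt → ℤ) leechU'| = 16) (l3 : |dotInt (l : GolayPt → ℤ) w| = 16) : S.Adj S.t y := by
  have nd := (S.mt.dbl_iff' h.2.2 S.ht).not.1 fun d => not_dbl_of_short (v := w - leechU')
    (by rw [AddSubgroup.coe_sub, sqNorm_sub, h.1, sqNorm_U', h0]; omega)
    (by rw [AddSubgroup.coe_sub, sqNorm_sub, h.1, sqNorm_U', h0]; omega) (d.of_eq (by rw [← U_add_U']; abel))
  have h1 := h.2.1
  rw [dot_U] at h1 l1
  rw [dot_U'] at h0 l2
  obtain ⟨i, hi, wi⟩ : ∃ i, |(l : GolayPt → ℤ) i| = 4 ∧ (w : GolayPt → ℤ) i = 0 := by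
    rcases (abs_eq (by omega)).1 l2 with e | e
    · exact ⟨none, (abs_eq (by omega)).2 (.inl (by omega)), by omega⟩
    · exact ⟨p0, (abs_eq (by omega)).2 (.inl (by omega)), by omega⟩
  obtain ⟨j, ji, hj, hz⟩ := shape32_four l.2 hl hi
  rw [dotInt, Fintype.sum_eq_add i j ji.symm fun k hk => by rw [hz k hk.1 hk.2, zero_mul], wi, mul_zero, zero_add,
    abs_mul, hj] at l3
  refine ⟨S.t_TT, tt h, S.Qv_t ▸ (S.sw.mem_P S.mt h.2.2 fun k => ?_).2, fun e => nd (.inl e), fun e => nd (.inr e)⟩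
  exact dvd_add (four sqNorm_U (i := none) (by decide +kernel) k) (four h.1 (i := j) (by omega) k)

theorem cases (hu : u ∈ S.TT) (hY : u ∈ S.Y) : u = S.t ∨ u = S.z * S.t ∨ ∃ w i j, S.Ov w u ∧ i ∈ rest ∧ j ∈ rest ∧
    ∀ k, k ≠ i → k ≠ j → (w : GolayPt → ℤ) k = 0 := by
  have c1 : IsConj S.s (S.s * u) := by
    obtain ⟨c, hc, rfl⟩ := hu
    have := isConj_conj (S.gd.isT (S.mt.congr (w := leechU') (S.mt.mul S.gd.hs S.ht)
      ((Dbl.neg_sub leechU).of_eq (by rw [← U_add_U']; abel))) sqNorm_U') c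
    rwa [← conj_mul, S.C_s hc] at this
  obtain ⟨w, hw, hn, h4⟩ := S.sw.of_SS S.mt (CL.INC.mem_SS.2 ⟨mul_mem S.sY hY, S.gd.t_ne_one c1, S.gd.not_conj' c1⟩)
  have hR := S.mt.mul S.gd.hs hw
  rw [← mul_assoc, S.ss, one_mul] at hR
  have c3 : ∀ i, (w : GolayPt → ℤ) i = 0 ∨ (w : GolayPt → ℤ) i = 4 ∨ (w : GolayPt → ℤ) i = -4 := fun i => by
    have h1 := sq_le_sqNorm (w : GolayPt → ℤ) i
    obtain ⟨a, ha⟩ := h4 i
    rw [ha] at h1 ⊢
    have h2 : a ≤ 1 := by nlinarith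
    have h3 : -1 ≤ a := by nlinarith
    omega
  have d1 := dot_U (w : GolayPt → ℤ)
  have d2 := dot_U' (w : GolayPt → ℤ)
  have n1 : dotInt (w : GolayPt → ℤ) leechU ≠ -16 := fun e => S.TT_ns hu (S.gd.isT hR (by
    rw [AddSubgroup.coe_add, sqNorm_add, hn, sqNorm_U, dot_comm, e]; rfl))
  have n2 : dotInt (w : GolayPt → ℤ) leechU ≠ 16 := fun e => S.TT_ns hu (S.gd.isT (S.mt.congr (w := leechU - w) hR
    ((Dbl.neg_sub w).of_eq (by abel))) (by rw [AddSubgroup.coe_sub, sqNorm_sub, hn, sqNorm_U, dot_comm, e]; rfl))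
  have n3 : ¬ (dotInt (w : GolayPt → ℤ) leechU = 32 ∨ dotInt (w : GolayPt → ℤ) leechU = -32) := fun e => by
    have : Dbl (leechU + w) := by
      rcases pm_of_dot hn sqNorm_U e with rfl | rfl
      exacts [⟨_, rfl⟩, Dbl.zero.of_eq (by abel)]
    exact (S.xe.mem_Z.1 ((S.mt.zero hR).1 this)).elim (S.TT_xe hu).ne_one (S.TT_ne hu)
  have a := c3 none
  have b := c3 p0
  by_cases h0 : (w : GolayPt → ℤ) none = 0
  · obtain ⟨i, hi⟩ : ∃ i, (w : GolayPt → ℤ) i ≠ 0 := Function.ne_iff.1 fun e : (w : GolayPt → ℤ) = 0 => by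
      rw [e, sqNorm_zero] at hn; omega
    obtain ⟨j, -, h2, h3⟩ := shape32_four w.2 hn (i := i) (by rcases c3 i with e | e | e <;> simp [e] at hi ⊢)
    have k : ∀ j, (w : GolayPt → ℤ) j ≠ 0 → j ∈ rest := fun j hj => mem_rest.2 ⟨fun e => hj (e ▸ h0), fun e => hj (by
      rw [e]; omega)⟩
    exact .inr (.inr ⟨w, i, j, ⟨hn, by omega, hR⟩, k i hi, k j fun e => by simp [e] at h2, h3⟩)
  · exact (over_t hR (pm_of_dot hn sqNorm_U' (by omega))).imp_right .inl

theorem sign (hu : u ∈ S.TT) (hY : u ∈ S.Y) : ∃ d ⊆ rest, d.card ≤ 2 ∧ ∀ c hc, d ⊆ c → ∀ r ∈ S.R2, eps c hc ∈ EE →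
    S.Im r (eps c hc) → r * u = u * r ∧ (u ≠ S.t → u ≠ S.z * S.t → ∃ w, S.Ov w u ∧ eps c hc • w = -w) := by
  rcases cases hu hY with e | e | ⟨w, i, j, hw, hi, hj, hz⟩
  · exact ⟨∅, by simp, by simp, fun c hc _ r hr _ _ => ⟨e ▸ (S.mem_P0.1 (S.R2_le_P0 hr)).2, fun n => absurd e n⟩⟩
  · refine ⟨∅, by simp, by simp, fun c hc _ r hr _ _ => ⟨?_, fun _ n => absurd e n⟩⟩
    have := S.mem_P0.1 (S.R2_le_P0 hr)
    rw [e, ← mul_assoc, (S.mem_C.1 this.1).1, mul_assoc, this.2, mul_assoc]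
  · refine ⟨{i, j}, by simp [Finset.insert_subset_iff, hi, hj], Finset.card_le_two, fun c hc hd r hr hE e => ?_⟩
    have k : eps c hc • w = -w := Subtype.ext (funext fun a => by
      rw [eps_apply]
      split_ifs with h
      · rfl
      · have := hz a (fun e => h (hd (by simp [e]))) fun e => h (hd (by simp [e]))
        simp [this])
    refine ⟨mul_inv_eq_iff_eq_mul.1 ((S.R2_cases hr hY).resolve_right fun e1 => ?_), fun _ _ => ⟨w, hw, k⟩⟩
    have h1 := (ov_conj hw hE.2 e).2.2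
    rw [k, e1] at h1
    rcases (S.mt.dbl_iff' h1 hw.2.2).1 ((Dbl.neg_sub w).of_eq (by abel)) with e2 | e2
    · exact S.xe'.ne_one (mul_eq_right.1 e2)
    · exact S.sw.ne S.mt (mul_right_cancel e2)

end BxLat

open BxLat

variable {G : Type*} [Group G] [Finite G] {S : Su G}

theorem bx_lat (S : Su G) : S.Lat := by
  refine ⟨fun _ _ => BxLat.tt, fun w w' y y' l h h' h0 hl l1 l2 l3 => ?_, fun w w' y y' h h' hd => ?_⟩
  · obtain ⟨c, hc, k, hk, hi, e, e'⟩ := ov_std h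
    have a : S.Adj S.t (c * y' * c⁻¹) := by
      refine adj_t (l := k • l) (ov_conj h' hk hi) ?_ ((sqNorm_smul _ _).trans hl) (by rw [← l1, ← dot_smul k l, hk])
        ?_ (by rw [dot_smul, l3])
      · rw [← dot_smul k, dot_comm] at h0
        rcases e with e | e <;> rw [e] at h0
        exacts [h0, by rwa [AddSubgroup.coe_neg, dot_neg_right, neg_eq_zero] at h0]
      · rw [← dot_smul k] at l2
        rcases e with e | e <;> rw [e] at l2
        exacts [l2, by rwa [AddSubgroup.coe_neg, dot_neg_right, abs_neg] at l2]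
    have b : S.Adj (c * y * c⁻¹) (c * y' * c⁻¹) := by
      rcases e' with e' | e' <;> rw [e']
      exacts [a, a.zl]
    simpa [mul_assoc] using b.conj (inv_mem hc)
  · have hR := S.mt.mul h.2.2 h'.2.2
    rcases (abs_eq (by omega)).1 hd with e | e
    · exact S.gd.isT (S.mt.congr (w := w - w') hR ((Dbl.neg_sub (leechU + w')).of_eq (by abel)))
        (by rw [AddSubgroup.coe_sub, sqNorm_sub, h.1, h'.1, e]; rfl)
    · exact S.gd.isT (S.mt.congr (w := w + w') hR ((Dbl.neg_sub leechU).of_eq (by abel)))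
        (by rw [AddSubgroup.coe_add, sqNorm_add, h.1, h'.1, e]; rfl)

theorem bx_sg (hG : S.GF) : S.Sg := by
  intro u hu hY u' hu' hY' i hi
  obtain ⟨d, d1, d2, d3⟩ := sign hu hY
  obtain ⟨d', d1', d2', d3'⟩ := sign hu' hY'
  have hA : insert i (d ∪ d') ⊆ rest := Finset.insert_subset hi (Finset.union_subset d1 d1')
  obtain ⟨c, hc, e⟩ := exists_Cset_inter_of_card_le (S := insert none (insert p0 (insert i (d ∪ d'))))
    (A := insert i (d ∪ d')) ((Finset.subset_insert _ _).trans (Finset.subset_insert _ _)) (by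
      have := Finset.card_insert_le none (insert p0 (insert i (d ∪ d')))
      have := Finset.card_insert_le p0 (insert i (d ∪ d'))
      have := Finset.card_insert_le i (d ∪ d')
      have := Finset.card_union_le d d'
      omega)
  have hs : insert i (d ∪ d') ⊆ c := e ▸ Finset.inter_subset_left
  have hE : eps c hc ∈ EE := eps_mem_EE.2
    ⟨fun h => (mem_rest.1 (hA (e ▸ Finset.mem_inter.2 ⟨h, by simp⟩))).1 rfl,
      fun h => (mem_rest.1 (hA (e ▸ Finset.mem_inter.2 ⟨h, by simp⟩))).2 rfl⟩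
  obtain ⟨r, hr, hI⟩ := hG.lift2 _ hE
  have k := d3 c hc (Finset.subset_union_left.trans ((Finset.subset_insert _ _).trans hs)) r hr hE hI
  exact ⟨r, hr, _, hE, hI, fun h => eps_e8_iff.1 h (hs (Finset.mem_insert_self _ _)), k.1,
    (d3' c hc (Finset.subset_union_right.trans ((Finset.subset_insert _ _).trans hs)) r hr hE hI).1, k.2⟩

end CL.RB.Su
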