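/-
Extensions of the Baby Monster by the 4371-dimensional module split: assembly.
-/
import Cfsg.Agent.Spor.BxAvg
import Cfsg.Agent.Spor.BxGZ
import Cfsg.Agent.Spor.BxP0
import Cfsg.Agent.Spor.BxLat
import Cfsg.Agent.Spor.BxRig
import Cfsg.Agent.Spor.BxKill
import Cfsg.Agent.Spor.BxTr
import Cfsg.Agent.Spor.BxPair
import Cfsg.Agent.Spor.BxTop
import Cfsg.Agent.Spor.BxE7
import Cfsg.Agent.Spor.BxFin
import Cfsg.Agent.Spor.BxCfg
import Cfsg.Agent.Spor.RbMain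

set_option autoImplicit false

namespace CL.BX
open Cfsg Cfsg.Spor Subgroup CL.RB CL.RB.Su Module

theorem s5590 (F : Type*) [Field F] (hF2 : ringChar F ≠ 2) (hF3 : ringChar F ≠ 3) (ρ : BabyMonster →* GL (Fin 4371) F)
    (hρ : Function.Injective ρ) (E : Type*) [Group E] (A : Subgroup E) [A.Normal] (e : E ⧸ A ≃* BabyMonster)
    (φ : Additive ↥A ≃+ (Fin 4371 → F))
    (hφ : ∀ (g : E) (a b : ↥A), (b : E) = g * a * g⁻¹ → φ (Additive.ofMul b) =
      (ρ (e (QuotientGroup.mk g)) : Matrix (Fin 4371) (Fin 4371) F).mulVec (φ (Additive.ofMul a))) :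
    ∃ K : Subgroup E, A.IsComplement' K := by
  have h2 : (2 : F) ≠ 0 := Ring.two_ne_zero hF2
  have h3 : (3 : F) ≠ 0 := fun h => by
    rcases (Nat.dvd_prime Nat.prime_three).1 ((ringChar.spec F 3).1 (by exact_mod_cast h)) with k | k
    exacts [CharP.ringChar_ne_one k, hF3 k]
  obtain ⟨G, _, _, S, y, hy, ⟨eB⟩⟩ := exists_nd fun _ _ _ S => bx_lat S
  have hG := Su.gf (gen_of_nd hy)
  obtain ⟨a1, -, a3, -⟩ := Su.small hG (S.finLift_ok eB h2 hρ) (Module.finrank_fin_fun F).le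
  refine split_of S eB hy h2 ρ hρ E A e φ hφ e7_sq fun E' _ X => ?_
  obtain ⟨P1, c, td⟩ := bx_td hG a1 a3 h3
  have hP := X.hp_of_td X.avg td
  have hR := bx_rig hG a1 a3 (bx_sg hG)
  exact bx_top hP (bx_fam hP (bx_tr X.avg hP hR)) (bx_qeq hP hR) (bx_pair hP hR (bx_kill X.rp hR) (bx_cm S)) hy

end CL.BX
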