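/-
Three classes of absolutely irreducible subgroups of the twisted group of type E6 over the field with four elements.
-/
import Cfsg.Agent.Spor.E6FiR
import Cfsg.Agent.Spor.Fi22Model
import Cfsg.Agent.Chev.StReg
import Cfsg.Agent.Chev.TwOutReal
import Cfsg.Agent.Chev.StFix
import Cfsg.Agent.Chev.RealAut

set_option autoImplicit false

namespace CL.E6Fi

open CL.Mx CL.Chev CL.Chev.StSys CL.Chev.Cert CL.Cox Cfsg Cfsg.Spor Cfsg.Lie

theorem sq_mem_inn {G H : Type*} [Group G] [Group H] (hO : Nat.card (Out H) = 2) {f : H →* G}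
    (hf : Function.Injective f) (P : Subgroup (MulAut G)) (hI : Inn G ≤ P)
    (hP : ∀ β ∈ P, (∀ x, β (f x) = f x) → β = 1) {a b : MulAut G} (ha : a ∈ P) (hb : b ∈ P) {g : G}
    (e : (a.toMonoidHom.comp f).range.map (MulAut.conj g).toMonoidHom = (b.toMonoidHom.comp f).range) :
    (b⁻¹ * a) ^ 2 ∈ Inn G := by
  set k := (MulAut.conj g).toMonoidHom.comp (a.toMonoidHom.comp f)
  set k' := b.toMonoidHom.comp f
  have hk : Function.Injective k := (MulAut.conj g).injective.comp (a.injective.comp hf)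
  have hk' : Function.Injective k' := b.injective.comp hf
  rw [MonoidHom.map_range] at e
  let θ : MulAut H := (MonoidHom.ofInjective hk).trans ((MulEquiv.subgroupCongr e).trans (MonoidHom.ofInjective hk').symm)
  have hθ : ∀ x, (b⁻¹ * MulAut.conj g * a) (f x) = f (θ x) := fun x => by
    have := (MonoidHom.ofInjective hk').apply_symm_apply ((MulEquiv.subgroupCongr e) (MonoidHom.ofInjective hk x))
    have h2 : b (f (θ x)) = MulAut.conj g (a (f x)) := congrArg Subtype.val this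
    rw [MulAut.mul_apply, MulAut.mul_apply, ← h2]
    exact b.symm_apply_apply _
  obtain ⟨y, hy⟩ : θ ^ 2 ∈ Inn H := by
    rw [← QuotientGroup.eq_one_iff, QuotientGroup.mk_pow, ← hO]
    exact pow_card_eq_one'
  have h1 := hP ((MulAut.conj (f y))⁻¹ * (b⁻¹ * MulAut.conj g * a) ^ 2)
    (mul_mem (inv_mem (hI ⟨_, rfl⟩)) (pow_mem (mul_mem (mul_mem (inv_mem hb) (hI ⟨_, rfl⟩)) ha) _)) fun x => by
      rw [MulAut.mul_apply, pow_two, MulAut.mul_apply _ (b⁻¹ * MulAut.conj g * a), hθ, hθ, ← MulAut.mul_apply, ← pow_two, ← hy]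
      simp [mul_assoc]
  have h2 : (QuotientGroup.mk (MulAut.conj g) : Out G) = 1 := (QuotientGroup.eq_one_iff _).2 ⟨_, rfl⟩
  have h3 : (QuotientGroup.mk ((b⁻¹ * MulAut.conj g * a) ^ 2) : Out G) = 1 :=
    (QuotientGroup.eq_one_iff _).2 ⟨_, inv_mul_eq_one.1 h1⟩
  rw [← QuotientGroup.eq_one_iff]
  simpa only [QuotientGroup.mk_pow, QuotientGroup.mk_mul, h2, mul_one] using h3

variable {F : Type*} [Field F]

/-- the automorphisms induced by matrices -/
def matAut (G : Subgroup (GL I F)) : Subgroup (MulAut G) where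
  carrier := {β | ∃ X : GL I F, ∀ g : G, (β g : GL I F) = X * g * X⁻¹}
  one_mem' := ⟨1, by simp⟩
  mul_mem' := fun ⟨X, hX⟩ ⟨Y, hY⟩ => ⟨X * Y, fun g => by rw [MulAut.mul_apply, hX, hY]; group⟩
  inv_mem' := fun {β} ⟨X, hX⟩ => ⟨X⁻¹, fun g => by
    have := hX (β⁻¹ g)
    rw [← MulAut.mul_apply, mul_inv_cancel, MulAut.one_apply] at this
    rw [this]; group⟩

theorem diag_mem (c : Fin chevE6.rank → Fˣ) : (realE6.full_res F).diagHom c ∈ matAut (realE6.S F).grp := by
  obtain ⟨χ, hχ, e⟩ := realE6.exists_char (F := F) c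
  let d : GL I F := ⟨_, _, Real.charDiag_mul_inv χ, mul_eq_one_comm.1 (Real.charDiag_mul_inv χ)⟩
  have key : ∀ r t, (((realE6.full_res F).diagHom c ((realE6.S F).res.x r t) : (realE6.S F).grp) : GL I F) =
      d * (realE6.S F).res.x r t * d⁻¹ := fun r t => Units.ext (by
    rw [StSys.Full.diagHom_x, ← funext e, ← realE6.char_eq hχ, coe_restrict_x, realE6.x_val, ← realE6.charDiag_conj hχ,
      ← realE6.x_val r t]; rfl)
  have := (realE6.S F).res.hom_ext_top (realE6.full_res F).top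
    (a := (realE6.S F).grp.subtype.comp ((realE6.full_res F).diagHom c).toMonoidHom)
    (b := (MulAut.conj d).toMonoidHom.comp (realE6.S F).grp.subtype) (fun i t => key _ t) fun i t => key _ t
  exact ⟨d, fun g => DFunLike.congr_fun this g⟩

theorem aux {Φ : Type} [Finite Φ] {R : RS (Fin 6) Φ} {F G H : Type*} [Field F] [Group G] [Group H] {S : StSys R F G}
    {K : Subgroup G} (h : S.IsTwE6 K 2) (hF : S.res.Full) (hO : Nat.card (Out H) = 2) {f : H →* K}
    (hf : Function.Injective f) (P : Subgroup (MulAut S.grp)) (hI : Inn S.grp ≤ P) (hD : ∀ c, hF.diagHom c ∈ P)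
    (hP : ∀ β ∈ P, (∀ x, β (Subgroup.inclusion h.le (f x)) = Subgroup.inclusion h.le (f x)) → β = 1) :
    ∃ L : Fin 3 → Subgroup K, (∀ i, Nonempty ((L i) ≃* H)) ∧
      ∀ i j, i ≠ j → ∀ g : K, (L i).map (MulAut.conj g).toMonoidHom ≠ L j := by
  obtain ⟨A, θ, a, hθ, hK⟩ := h.ex
  have D := hK ▸ a.twData
  have := h.finite
  have c3 : Nat.card Fˣ = 3 := by rw [Nat.card_units, h.card]; rfl
  obtain ⟨ω, hω⟩ := IsCyclic.exists_ofOrder_eq_natCard (α := Fˣ)
  rw [c3] at hω
  let f' : H →* S.grp := (Subgroup.inclusion h.le).comp f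
  have hf' : Function.Injective f' := (Subgroup.inclusion_injective h.le).comp hf
  let c : Fin 3 → Fin 6 → Fˣ := fun i => ![ω ^ (i : ℕ), 1, 1, 1, 1, (ω ^ (i : ℕ)) ^ 2]
  have m1 : ∀ i x, hF.diagHom (c i) (f' x) ∈ K.subgroupOf S.grp := fun i x =>
    D.map_mem hF.faithful (hF.σ_dfAut A (fun j => ⟨2, fun t => by rw [a.φ_eq, hθ]⟩)
      ((a.τ_eq_iff _).2 (by simp [c, hθ])) (RingEquiv.refl F)) (fun r t => ⟨_, hF.diagHom_x _ r t⟩) (f x).2
  let k : Fin 3 → H →* S.grp := fun i => (hF.diagHom (c i)).toMonoidHom.comp f'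
  let k' : Fin 3 → H →* K := fun i => (S.grp.subtype.comp (k i)).codRestrict K (m1 i)
  have hk : ∀ i, (Subgroup.inclusion h.le).comp (k' i) = k i := fun i => rfl
  refine ⟨fun i => (k' i).range, fun i => ⟨(MonoidHom.ofInjective fun x y e => hf' ((hF.diagHom (c i)).injective
    (congrArg (Subgroup.inclusion h.le) e))).symm⟩, fun i j hij g e => hij ?_⟩
  obtain ⟨y, hy⟩ := sq_mem_inn hO hf' P hI hP (hD (c i)) (hD (c j)) (g := Subgroup.inclusion h.le g) (by
      change (k i).range.map _ = (k j).range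
      rw [← hk, ← hk, ← MonoidHom.map_range, ← MonoidHom.map_range, ← show _ = (k' j).range from e, Subgroup.map_map, Subgroup.map_map]
      exact congrArg (Subgroup.map · _) (MonoidHom.ext fun _ => rfl))
  rw [← map_inv, ← map_mul, ← map_pow] at hy
  obtain ⟨d, hd⟩ := hF.hMul.mem_H_iff.1 (hF.conj_mem_A0_iff.1 (hy ▸ hF.diagHom_mem_A0 _))
  have q1 : matPow Fˣ cE6 d * c j ^ 2 = c i ^ 2 := by
    rw [← eq_mul_inv_iff_mul_eq, ← inv_pow, ← mul_pow, mul_comm]
    refine funext fun l => Units.ext ?_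
    have h1 := hF.hMul.conj_torus d (R.simple l) 1
    rw [hd, ← MulAut.conj_apply, hy, hF.diagHom_pos, RS.chi_simple] at h1
    have := hF.faithful.uFaithful.x_injective (R.simple l) h1
    rw [← a.cartan]
    simpa [RS.cartanM] using this.symm
  have q2 := congrArg (fun x => matPow Fˣ (!![4; 3; 5; 6; 4; 2] : Matrix (Fin 6) (Fin 1) ℤ) x 0) q1
  have q3 : cE6 * (!![4; 3; 5; 6; 4; 2] : Matrix (Fin 6) (Fin 1) ℤ) = !![3; 0; 0; 0; 0; 0] := by decide +kernel
  have q4 : ∀ x : Fˣ, x ^ (3 : ℤ) = 1 := fun x => by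
    have := pow_card_eq_one' (x := x)
    rw [c3] at this
    exact_mod_cast this
  simp only [map_mul, map_pow, ← matPow_mul, q3, Pi.mul_apply, Pi.pow_apply] at q2
  simp only [matPow_apply, Fin.prod_univ_six, c] at q2
  simp [q4] at q2
  simp only [← pow_mul, ← pow_add, pow_eq_pow_iff_modEq, hω] at q2
  clear hd q1 e hij hy
  revert q2 i j
  decide

theorem three [Fintype F] (hF : Fintype.card F = 4) {H : Type*} [Group H] (hO : Nat.card (Out H) = 2)
    {f : H →* twistedE6 F 2} (hf : Function.Injective f)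
    (hc : ∀ X : Matrix I I F, (∀ x, X * ((f x : GL I F) : Matrix I I F) = ((f x : GL I F) : Matrix I I F) * X) →
      ∃ c : F, X = c • 1) :
    ∃ L : Fin 3 → Subgroup (twistedE6 F 2), (∀ i, Nonempty ((L i) ≃* H)) ∧
      ∀ i j, i ≠ j → ∀ g : twistedE6 F 2, (L i).map (MulAut.conj g).toMonoidHom ≠ L j := by
  refine aux (R := realE6.R) (S := realE6.S F) (isTwE6 realE6 Nat.prime_two.isPrimePow hF) (realE6.full_res F) hO hf
    (matAut _) ?_ diag_mem ?_
  · rintro _ ⟨g, rfl⟩
    exact ⟨g, fun _ => rfl⟩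
  · rintro β ⟨X, hX⟩ h
    obtain ⟨c, e⟩ := hc X fun x => congrArg Units.val
      (mul_inv_eq_iff_eq_mul.1 ((hX _).symm.trans (congrArg Subtype.val (h x))))
    refine MulEquiv.ext fun g => Subtype.ext ((hX g).trans (mul_inv_eq_iff_eq_mul.2 (Units.ext ?_)))
    rw [Units.val_mul, Units.val_mul, e]
    simp

theorem exists_fi22 [Fintype F] (hF : Fintype.card F = 4) : ∃ f : Fi22 →* twistedE6 F 2, Function.Injective f ∧
    ∀ X : Matrix I I F, (∀ y : Fi22.Gen, y ≠ .a → X * ((f (PresentedGroup.of y) : GL I F) : Matrix I I F) =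
      ((f (PresentedGroup.of y) : GL I F) : Matrix I I F) * X) → ∃ c : F, X = c • 1 := by
  have c3 : Nat.card Fˣ = 3 := by rw [Nat.card_units, Nat.card_eq_fintype_card, hF]
  obtain ⟨ω, hω⟩ := IsCyclic.exists_ofOrder_eq_natCard (α := Fˣ)
  rw [c3] at hω
  have h1 : (ω : F) ^ 3 = 1 := by rw [← hω, ← Units.val_pow_eq_pow_val, pow_orderOf_eq_one, Units.val_one]
  have h2 : (ω : F) - 1 ≠ 0 := fun e => by
    rw [show ω = 1 from Units.ext (sub_eq_zero.1 e), orderOf_one] at hω
    omega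
  obtain ⟨f, hf⟩ := exists_hom (⟨ω, mul_left_cancel₀ h2 (by linear_combination h1), by
    rw [Nat.card_eq_fintype_card, hF]⟩ : F4 F)
  refine ⟨f, ?_, hf⟩
  have := Fi22P.simple
  rcases (inferInstance : f.ker.Normal).eq_bot_or_eq_top with e | e
  · exact (MonoidHom.ker_eq_bot_iff f).1 e
  · obtain ⟨c, hc⟩ := hf (Matrix.single i0 i0 1) fun y _ => by
      rw [show f (PresentedGroup.of y) = 1 from (e ▸ trivial : _ ∈ f.ker)]; simp
    have e1 := congrFun (congrFun hc i0) i0
    have e2 := congrFun (congrFun hc (.inr (0 : Fin 72))) (.inr (0 : Fin 72))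
    rw [Matrix.single_apply_of_row_ne (by simp [i0])] at e2
    simp at e1 e2
    exact absurd (e1.trans e2.symm) one_ne_zero

end CL.E6Fi
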