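/-
The Schur multiplier of the fourth Janko group: its presentation lifts through every central extension.
-/
import Cfsg.Agent.Spor.M24Pres
import Cfsg.Agent.Spor.M24Simple
import Cfsg.Agent.Spor.PGStruct
import Cfsg.Agent.Spor.CentLift
import Cfsg.Agent.S2038

set_option autoImplicit false

namespace CL.J4Rep

open CL.PG CL.TC CL.Lift Cfsg Cfsg.Spor Subgroup
open scoped commutatorElement

local notation "𝑥" => (PresentedGroup.of J4.Gen.x : J4)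
local notation "𝑦" => (PresentedGroup.of J4.Gen.y : J4)
local notation "𝑡" => (PresentedGroup.of J4.Gen.t : J4)

theorem rel_of {r : FreeGroup J4.Gen} (h : r ∈ J4.extra) : (PresentedGroup.mk _ r : J4) = 1 :=
  PresentedGroup.one_of_mem (Or.inr h)

theorem pw (hi : Function.Injective rho) (w : List ℕ) (n : ℕ)
    (e : P.run ms [(false, w)] (P.relT [(List.replicate n 6, [])]) = true) : wordG gs w ^ n = 1 :=
  pow_of_rels (rels_of hi e)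

theorem rels (hi : Function.Injective rho) :
    (𝑦 * 𝑥 * 𝑦 * (𝑥 * 𝑦⁻¹) ^ 2 * (𝑥 * 𝑦) ^ 3 * 𝑥) ^ 21 = 1 ∧ ((𝑦 * 𝑥 * 𝑦 * 𝑥 * 𝑦 * 𝑥 * 𝑦) ^ 3) ^ 4 = 1 ∧
    Commute 𝑡 ((𝑦 * 𝑥 * 𝑦 * 𝑥 * 𝑦 * 𝑥 * 𝑦) ^ 3) ∧ IsConj 𝑥 (𝑡 * 𝑥) ∧
    ((𝑥 * 𝑦 * 𝑥 * 𝑦 * 𝑥 * 𝑦⁻¹ * 𝑥 * 𝑦 * 𝑥 * 𝑦⁻¹ * 𝑥 * 𝑦⁻¹) ^ 2) ^ 2 = 1 ∧
    IsConj ((𝑥 * 𝑦 * 𝑥 * 𝑦 * 𝑥 * 𝑦⁻¹ * 𝑥 * 𝑦 * 𝑥 * 𝑦⁻¹ * 𝑥 * 𝑦⁻¹) ^ 2) 𝑡 ∧
    IsConj 𝑥 ((𝑦 * 𝑥 * 𝑦 * 𝑥 * 𝑦 * 𝑥 * 𝑦) ^ 3 * 𝑡 *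
      (((𝑥 * 𝑦) ^ 3 * 𝑦 * (𝑥 * 𝑦) ^ 6 * 𝑦)⁻¹ * 𝑡 * ((𝑥 * 𝑦) ^ 3 * 𝑦 * (𝑥 * 𝑦) ^ 6 * 𝑦))) := by
  have hx : 𝑥 ^ 2 = 1 := rel_of (r := J4.x ^ 2) (by simp [J4.extra])
  have k : ∀ {w : List ℕ} {n : ℕ} {a : J4}, wordG gs w ^ n = 1 → wordG gs w = a → a ^ n = 1 := fun h e => e ▸ h
  have h5 := k (pw hi [0, 2, 0, 2, 0, 3, 0, 2, 0, 3, 0, 3] 4 (by decide +kernel))
    (a := 𝑥 * 𝑦 * 𝑥 * 𝑦 * 𝑥 * 𝑦⁻¹ * 𝑥 * 𝑦 * 𝑥 * 𝑦⁻¹ * 𝑥 * 𝑦⁻¹) (by simp [gs, letG, mul_assoc])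
  rw [pow_mul _ 2 2] at h5
  refine ⟨k (pw hi [2, 0, 2, 0, 3, 0, 3, 0, 2, 0, 2, 0, 2, 0] 21 (by decide +kernel)) ?_,
    (pow_mul _ 3 4).symm.trans (k (pw hi [2, 0, 2, 0, 2, 0, 2] 12 (by decide +kernel)) ?_),
    commutatorElement_eq_one_iff_commute.1 ((pow_one _).symm.trans (k (pw hi
      ([4] ++ powW [2, 0, 2, 0, 2, 0, 2] 3 ++ [5] ++ powW [3, 1, 3, 1, 3, 1, 3] 3) 1 (by decide +kernel)) ?_)),
    isConj_of_odd' (k (pw hi [4, 0] 2 (by decide +kernel)) ?_) hx (g := wordG gs [3, 0, 2, 0, 2, 0, 3, 0, 2]) (k := 2)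
      (k (pw hi ([4, 0] ++ [3, 0, 2, 0, 2, 0, 3, 0, 2] ++ [0] ++ [3, 1, 2, 1, 3, 1, 3, 1, 2]) 5 (by decide +kernel)) ?_),
    h5, isConj_of_odd' (rel_of (r := J4.t ^ 2) (by simp [J4.extra])) h5 (g := wordG gs [2, 4, 0, 3]) (k := 5)
      (k (pw hi ([4, 2, 4, 0, 3] ++ powW [0, 2, 0, 2, 0, 3, 0, 2, 0, 3, 0, 3] 2 ++ [2, 1, 5, 3]) 11 (by decide +kernel)) ?_),
    isConj_of_odd' (rel_of (r := J4.extra[11]) (List.getElem_mem _)) hx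
      (g := wordG gs [0, 2, 0, 2, 0, 3, 0, 3, 0, 3, 0, 2, 0, 3, 0, 2, 0, 3, 0, 3, 0, 3]) (k := 2)
      (k (pw hi (powW [2, 0, 2, 0, 2, 0, 2] 3 ++ [4, 3] ++ powW [3, 1] 6 ++ [3] ++ powW [3, 1] 3 ++ [4] ++ powW [0, 2] 3 ++
        [2] ++ powW [0, 2] 6 ++ [2] ++ [0, 2, 0, 2, 0, 3, 0, 3, 0, 3, 0, 2, 0, 3, 0, 2, 0, 3, 0, 3, 0, 3] ++ [0] ++
        [2, 1, 2, 1, 2, 1, 3, 1, 2, 1, 3, 1, 2, 1, 2, 1, 2, 1, 3, 1, 3, 1]) 5 (by decide +kernel)) ?_)⟩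
  all_goals simp [wordG_append, wordG_powW, gs, letG, pow_succ, mul_assoc, commutatorElement_def]

theorem mult [Finite J4] (hi : Function.Injective rho) : HasCyclicSchurMultiplier J4 1 := by
  refine trivial_of_lifts rfl ix (gs := gs) (fun a => by cases a <;> rfl) 7 2 (by decide +kernel)
    fun Γ _ τ hs hc p hp he => ?_
  have h8 : ∀ z ∈ τ.ker, z ^ 8 = 1 → z ^ 2 = 1 := fun z hz => h8_of_prime hp (he z hz) (k := 3)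
  obtain ⟨e⟩ := M24P.equiv_J4
  have := Spor.M24_simple
  have := (PG.isQuasisimple_of_simple Spor.card_M24 (by norm_num)).1
  have hp := (Subgroup.isPerfect_iff.1 (Group.IsPerfect.ofSurjective (f := e.symm.toMonoidHom) e.symm.surjective)).ge
  have hS := der_disj hs hc (Schur.HasSM.congr_left Cfsg.Agent.S2038.result e.symm)
  obtain ⟨X, hX, eX⟩ := exists_der hs hp (mem_subL (x := J4.x) (by simp))
  obtain ⟨Y, hY, eY⟩ := exists_der hs hp (mem_subL (x := J4.y) (by simp))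
  replace eX : τ X = 𝑥 := eX
  replace eY : τ Y = 𝑦 := eY
  obtain ⟨r1, r2, r3, r4, r5, r6, r7⟩ := rels hi
  have k : ∀ a ∈ der τ _, ∀ n : ℕ, τ a ^ n = 1 → a ^ n = 1 := fun a ha n h =>
    disjoint_def.1 hS (pow_mem ha n) ((map_pow τ a n).trans h)
  have hX2 := k X hX 2 (eX ▸ rel_of (r := J4.x ^ 2) (by simp [J4.extra]))
  have hY3 := k Y hY 3 (eY ▸ rel_of (r := J4.y ^ 3) (by simp [J4.extra]))
  have t1 := rel_of (r := J4.extra[8]) (List.getElem_mem _)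
  have t2 := rel_of (r := J4.extra[9]) (List.getElem_mem _)
  have t3 := rel_of (r := J4.extra[10]) (List.getElem_mem _)
  have t4 := rel_of (r := J4.extra[11]) (List.getElem_mem _)
  obtain ⟨T, eT, hT⟩ := exists_of_isConj hs (b := (X * Y * X * Y * X * Y⁻¹ * X * Y * X * Y⁻¹ * X * Y⁻¹) ^ 2) (u := 𝑡)
    (by simpa only [map_pow, map_mul, map_inv, eX, eY] using r6)
    (k _ (pow_mem (by repeat' first | exact hX | exact hY | apply mul_mem | apply inv_mem) 2) 2 (by simpa only [map_pow, map_mul, map_inv, eX, eY] using r5))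
  have c1 : Commute 𝑡 𝑥 := Commute.inv_inv_iff.1 (commutatorElement_eq_one_iff_commute.1 (by
    rw [commutatorElement_def, inv_inv, inv_inv]; exact t2))
  have c2 : Commute 𝑡 (𝑦 * 𝑥 * 𝑦 * (𝑥 * 𝑦⁻¹) ^ 2 * (𝑥 * 𝑦) ^ 3) :=
    Commute.inv_inv_iff.1 (commutatorElement_eq_one_iff_commute.1 (by
      rw [commutatorElement_def, inv_inv, inv_inv]; exact t1))
  have hG : (( Y * X * Y⁻¹ * X * Y * X * Y⁻¹ * X)⁻¹ * T * (Y * X * Y⁻¹ * X * Y * X * Y⁻¹ * X)) ^ 2 = 1 := by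
    simpa only [inv_inv, hT, mul_one, inv_mul_cancel] using conj_pow (i := 2) (a := (Y * X * Y⁻¹ * X * Y * X * Y⁻¹ * X)⁻¹) (b := T)
  generalize hg : Y * X * Y⁻¹ * X * Y * X * Y⁻¹ * X = g at hG
  have h1 : τ (Y * (g⁻¹ * T * g)) ^ 3 = 1 := by
    simp only [← hg, map_mul, map_inv, eX, eY, eT]; exact t3
  have h2 : (Y * (g⁻¹ * T * g)) ^ 3 ∈ τ.ker := (map_pow τ _ 3).trans h1
  have h3 := h8 _ h2 (by rw [pow_mul _ 4 2, pow_of_tetra hc hY3 hG h1, one_pow])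
  obtain ⟨T', eT', hT', h4⟩ : ∃ T', τ T' = 𝑡 ∧ T' ^ 2 = 1 ∧ (Y * (g⁻¹ * T' * g)) ^ 3 = 1 :=
    ⟨T * (Y * (g⁻¹ * T * g)) ^ 3, by rw [map_mul, h2, eT, mul_one], by rw [(comm hc h2 T).mul_pow, hT, h3, mul_one], by
      rw [← mul_assoc g⁻¹, ← mul_assoc Y, ← mul_assoc Y, mul_pow_ker hc h2, mul_assoc Y, ← pow_succ', pow_mul _ 2 2, h3,
        one_pow]⟩
  have h5 : Commute T' X := commute_of_isConj hc hs h8 hT' hX2 (eT' ▸ eX ▸ c1) hX2 (by rwa [map_mul, eT', eX])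
  have h6 : Commute T' (Y * X * Y * (X * Y⁻¹) ^ 2 * (X * Y) ^ 3) := by
    rw [← mul_inv_cancel_right (_ * (X * Y) ^ 3) X]
    exact (commute_of_coprime hc (a := T') (m := 2) (n := 21)
      (b := Y * X * Y * (X * Y⁻¹) ^ 2 * (X * Y) ^ 3 * X)
      (by simpa only [map_pow, map_mul, map_inv, eX, eY, eT'] using c2.mul_right c1) (by rw [← map_pow, hT', map_one])
      (by simpa only [map_pow, map_mul, map_inv, eX, eY] using r1) (by norm_num)).mul_right h5.inv_right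
  have h7 := mul_pow_four hc (k ((Y * X * Y * X * Y * X * Y) ^ 3) (pow_mem (by repeat' first | exact hX | exact hY | apply mul_mem) 3) 4
    (by simpa only [map_pow, map_mul, eX, eY] using r2)) hT' (by simpa only [map_pow, map_mul, eX, eY, eT'] using r3)
  have h9 := sq_of_isConj hc hs h8 (a := (Y * X * Y * X * Y * X * Y) ^ 3 * T' *
      (((X * Y) ^ 3 * Y * (X * Y) ^ 6 * Y)⁻¹ * T' * ((X * Y) ^ 3 * Y * (X * Y) ^ 6 * Y)))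
    (by simpa only [map_pow, map_mul, map_inv, eX, eY, eT'] using r7) hX2 ((pow_mul _ 2 4).trans (pow_of_sq hc
      (by simpa only [inv_inv, hT', mul_one, inv_mul_cancel] using
        conj_pow (i := 2) (a := ((X * Y) ^ 3 * Y * (X * Y) ^ 6 * Y)⁻¹) (b := T'))
      (by simp only [map_pow, map_mul, map_inv, eX, eY, eT']; exact t4) h7))
  refine ⟨_, hS, [X, Y], [T'], by simp [hX, hY], rfl, by simp [eX, eY, eT', gs], ?_⟩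
  have h10 := h5.inv_inv.commutator_eq
  have h11 := h6.inv_inv.commutator_eq
  rw [commutatorElement_def, inv_inv, inv_inv] at h10 h11
  subst hg
  simpa only [J4.extra, List.drop_succ_cons, List.drop_zero, List.forall_mem_cons, map_mul, map_pow, map_inv,
    FreeGroup.lift_apply_of, ix, List.cons_append, List.nil_append, List.getD_cons_zero, List.getD_cons_succ,
    List.not_mem_nil, false_imp_iff, implies_true, and_true] using ⟨hT', h11, h10, h4, h9⟩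

end CL.J4Rep
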