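/-
Auxiliary models for `Co1D`.
Generated by tools/pg.
-/
import Cfsg.Agent.Spor.PGCtx
import Cfsg.Agent.Spor.PGSub
import Cfsg.Agent.Spor.StdSym

set_option autoImplicit false
set_option maxRecDepth 200000
set_option Elab.async false
set_option linter.unusedVariables false

namespace CL.Spor.CoD.B.T
open CL.PG

def P : Par := ⟨120, 128, 7, 3⟩
theorem hP : P.Ok := by decide
noncomputable def a0 : Net := (.cons 64 (nat_lit 0xeb8388c52d4588ed)
 (.cons 32 (nat_lit 0x1278e4620000000056a0b940)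
 (.cons 16 (nat_lit 0xfad60000bf4c00001a1600000ef0)
 (.cons 8 (nat_lit 0xa3006d00f1008a00f800c8006100f0)
 (.cons 4 (nat_lit 0xa0d0e080c02020b06050303040f000c)
 (.cons 2 (nat_lit 0x103313301002132003031313323001)
 (.cons 1 (nat_lit 0x41051544544141415401454451104441)
 (.cons 2 (nat_lit 0x2000022022222000200200200202022)
 (.cons 4 (nat_lit 0x20e080008080e0804040c040c0c040e)
 (.cons 8 (nat_lit 0x4800340014000200a400180064006c)
 (.cons 16 (nat_lit 0x4a200000b51600005a4400003b68)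
 (.cons 32 (nat_lit 0xb0f988340000000056fa9f5c)
 (.cons 64 (nat_lit 0xebcac3f82490470e)
 .nil)))))))))))))
noncomputable def a1 : Net := (.cons 64 (nat_lit 0x901e39aaaed40c7a)
 (.cons 32 (nat_lit 0x6f86206f00000000b4664332)
 (.cons 16 (nat_lit 0xde2b0000d5420000353a00000969)
 (.cons 8 (nat_lit 0xe3003500d4004000c6006e000800c8)
 (.cons 4 (nat_lit 0x40b0b010505060a0d0b010f040a0d09)
 (.cons 2 (nat_lit 0x32010203113002220301211323122011)
 (.cons 1 (nat_lit 0x14154411001414144055111545504110)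
 (.cons 2 (nat_lit 0x200002200002000222020000020)
 (.cons 4 (nat_lit 0xc000004000c06020400080c00040208)
 (.cons 8 (nat_lit 0xd00018001000e0003800e80026006c)
 (.cons 16 (nat_lit 0x99980000d5100000dec600006d20)
 (.cons 32 (nat_lit 0x7fe7f00400000000b2cee134)
 (.cons 64 (nat_lit 0x904f63418699ec26)
 .nil)))))))))))))
noncomputable def a2 : Net := .nil
noncomputable def a3 : Net := .nil
noncomputable def a4 : Net := (.cons 64 (nat_lit 0xf5d30bd980a41e7c)
 (.cons 32 (nat_lit 0xdf5665b200000000ef7637d0)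
 (.cons 16 (nat_lit 0x9c9d0000b1020000ef9e000038da)
 (.cons 8 (nat_lit 0xbd005b00350058009f000b003a00ce)
 (.cons 4 (nat_lit 0x50b02020d0e000f0300070e000b0104)
 (.cons 2 (nat_lit 0x31102311232310112323000300202230)
 (.cons 1 (nat_lit 0x11414415411014415100454000101444)
 (.cons 2 (nat_lit 0x20220220222020200000200000002020)
 (.cons 4 (nat_lit 0xe0a00080400080004000e00080406)
 (.cons 8 (nat_lit 0xc600c20004000a00d000280028008a)
 (.cons 16 (nat_lit 0x2916000045b400000a2000002880)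
 (.cons 32 (nat_lit 0xca8593ec00000000e7eeeff2)
 (.cons 64 (nat_lit 0xf50c56b96f041e84)
 .nil)))))))))))))
noncomputable def a5 : Net := (.cons 64 (nat_lit 0x8733635de66566b0)
 (.cons 32 (nat_lit 0x5421213c000000002430d9f0)
 (.cons 16 (nat_lit 0xc29300007b95000033d00000144a)
 (.cons 8 (nat_lit 0x53005b00f8002800c4001400030098)
 (.cons 4 (nat_lit 0xf0b030500080a0c06080c0300020102)
 (.cons 2 (nat_lit 0x10031302330020021121303010202210)
 (.cons 1 (nat_lit 0x14104114140401511110444151540114)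
 (.cons 2 (nat_lit 0x200000200020200002200000200)
 (.cons 4 (nat_lit 0xa0a040a0a0c0a00080c040c00060808)
 (.cons 8 (nat_lit 0x8000880066000200f40004005e0052)
 (.cons 16 (nat_lit 0xd04000005b0a00007b1000002dac)
 (.cons 32 (nat_lit 0xd63949a4000000003c213b3e)
 (.cons 64 (nat_lit 0x8780f91d3ba74c80)
 .nil)))))))))))))
noncomputable def a6 : Net := (.cons 64 (nat_lit 0x2638179addef172)
 (.cons 32 (nat_lit 0x58af104700000000c7546bf0)
 (.cons 16 (nat_lit 0xa3a500000c710000abab0000432e)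
 (.cons 8 (nat_lit 0xfa004400f900cd00970012003e00f0)
 (.cons 4 (nat_lit 0xb0e08010a060b0004030f0b00060404)
 (.cons 2 (nat_lit 0x10013030130230203123211210103102)
 (.cons 1 (nat_lit 0x41501054104140415150114140111054)
 (.cons 2 (nat_lit 0x2000002200000200222220022002)
 (.cons 4 (nat_lit 0x80c08000a040e020402000c04040008)
 (.cons 8 (nat_lit 0x380048005800ba00a00092000a0020)
 (.cons 16 (nat_lit 0xfba8000028c80000e0cc0000ef08)
 (.cons 32 (nat_lit 0x5a94f57200000000eb19e586)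
 (.cons 64 (nat_lit 0x24d923d3f54eed2)
 .nil)))))))))))))
noncomputable def a7 : Net := (.cons 64 (nat_lit 0xeabc25c7bd06e75c)
 (.cons 32 (nat_lit 0x662cda2800000000c8c54a58)
 (.cons 16 (nat_lit 0x1adc00002d440000e35b00008240)
 (.cons 8 (nat_lit 0xb0002b007800f1002d00dc00e9003a)
 (.cons 4 (nat_lit 0x6030a0306000400010e000104050d00)
 (.cons 2 (nat_lit 0x10012332230003321220011302303130)
 (.cons 1 (nat_lit 0x10410151551401404111401405014004)
 (.cons 2 (nat_lit 0x20000200002200002020000200000002)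
 (.cons 4 (nat_lit 0xa0208040804040800000c0206040800)
 (.cons 8 (nat_lit 0xe400c000c200a200e40084005c0072)
 (.cons 16 (nat_lit 0xf28c0000250000006b1000009130)
 (.cons 32 (nat_lit 0x8c51e46800000000d8c6e5c8)
 (.cons 64 (nat_lit 0xea95c19148c8171c)
 .nil)))))))))))))
noncomputable def ns0 : List Net := [a0, a1, a2, a3]
noncomputable def ws : List (List ℕ) :=
  [W (nat_lit 0x40300c0102008004030080501c0201007010080100100c02),
  W (nat_lit 0x6010080100800c0601808014040100101c0400403),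
  W (nat_lit 0xb0280b0240c0240c0280a),
  W (nat_lit 0x280c0240b02c0b02409)]
noncomputable def ns : List Net := [a0, a1, a2, a3, a4, a5, a6, a7]
noncomputable def D : List (ℕ × List ℕ) := app [] (mkDefs ws 4)
noncomputable def chk : List (List ℕ × List ℕ) → Bool := P.relsB ns
noncomputable def G_v0 : Lev :=
  ⟨0, 120, sg (W (nat_lit 0xc0100c0100c0100c0100c0100c01)), [[8], [10]], 0, 2⟩
noncomputable def G_v1 : Lev :=
  ⟨1, 56, sg (W (nat_lit 0x2c0902c0902c0902c0902c09)), [[12], [14]], 2, 2⟩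
noncomputable def G_v2 : Lev :=
  ⟨71, 9, sg (W (nat_lit 0xd0340f0340d)), [[14]], 4, 0⟩
noncomputable def G_v3 : Lev :=
  ⟨2, 3, sg (W (nat_lit 0x3c0f)), [], 4, 0⟩
noncomputable def G_vs4 : List Lev :=
  []
noncomputable def G_vs3 : List Lev :=
  G_v3 :: G_vs4
noncomputable def G_vs2 : List Lev :=
  G_v2 :: G_vs3
noncomputable def G_vs1 : List Lev :=
  G_v1 :: G_vs2
noncomputable def G_vs : List Lev :=
  G_v0 :: G_vs1

theorem zc0 : P.chainB ns D G_vs [[0], [2], [4], [6]] = true := by decide +kernel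
theorem zk1 : allL (keepB P.n P.N) ns0 = true := by decide +kernel
theorem ze2 : extB ns0 ns 4 ws [] = true := by decide +kernel
theorem zn3 : P.netsB ns (mkDefs ws 4) = true := by decide +kernel

section
variable {G X : Type*} [Group G] [MulAction G X] {e : ℕ → X} {gs : List G}

theorem keep0 : allL (keepB P.n P.N) ns0 = true := zk1

theorem len {k} (c : Ctx P e gs ns0 [] k) : gs.length = 4 := c.len ze2

theorem ctx0 {k} (c : Ctx P e gs ns0 [] k) : Ctx P e (ext gs ws) ns D chk0 :=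
  c.ext rfl ze2 zn3

theorem ctx {k} (c : Ctx P e gs ns0 [] k) {H : Subgroup G} (hF : Faithful e P.n H) (hH : ∀ g ∈ gs, g ∈ H) :
    Ctx P e (ext gs ws) ns D chk :=
  (ctx0 c).withB hF (mem_of_mem_ext hH _)

instance instNe : NeZero P.n := ⟨by decide⟩
noncomputable def gs0 : List (Equiv.Perm (Fin P.n)) := permsOf P.n P.N ns0
noncomputable def gs1 : List (Equiv.Perm (Fin P.n)) := ext gs0 ws
theorem c1 : Ctx P (eF P.n) gs1 ns D chk :=
  ctx (ctx_permsOf hP keep0) (faithful_eF _) fun _ _ => trivial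

theorem G_c : P.chainB ns D G_vs [[0], [2], [4], [6]] = true :=
  zc0

theorem G_o : prodL G_vs 1 = 181440 := by decide +kernel

theorem G_lb (c : Ctx P e gs ns D chk) :
    LB (subW gs [[0], [2], [4], [6]]) 181440 :=
  c.lb G_c G_o

end
end CL.Spor.CoD.B.T

namespace CL.Spor.CoD.B.S
open CL.PG

def P : Par := ⟨129, 160, 8, 3⟩
theorem hP : P.Ok := by decide
noncomputable def a0 : Net := (.cons 80 (nat_lit 0x7cb15d0b184000000800)
 (.cons 40 (nat_lit 0x725d2251540000000000a62a58c06d)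
 (.cons 20 (nat_lit 0x3c74100000465b9000008a24800000ab964)
 (.cons 10 (nat_lit 0x10a00299000a500252000bb002e7001d2000e4)
 (.cons 5 (nat_lit 0x401a0401c03c080401505007000000480606411)
 (.cons 1 (nat_lit 0x8020000000000000000000a0)
 (.cons 1 (nat_lit 0x5000800100500081014000808400000084012148)
 (.cons 1 (nat_lit 0x2008529484290a5200a00940428405014a0210a5)
 (.cons 1 (nat_lit 0x50142109481094a501481280252802408404094a)
 (.cons 1 (nat_lit 0x8029001004a1080a009005014010040401480)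
 (.cons 5 (nat_lit 0x401a00808038040400e04002058000780006010)
 (.cons 10 (nat_lit 0x88003dc000240005000092000ee0015c002e6)
 (.cons 20 (nat_lit 0x686040000056798000002b26200000a3854)
 (.cons 40 (nat_lit 0x4e7d2b5a420000000000a720d8048e)
 (.cons 80 (nat_lit 0x7cb15d0b185000000000)
 .nil)))))))))))))))
noncomputable def a1 : Net := (.cons 80 (nat_lit 0x3f2535e1870730b666a1)
 (.cons 40 (nat_lit 0x10705ad40400000000000ece32ff09)
 (.cons 20 (nat_lit 0x3d17900000e73e600000c597000000f0cda)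
 (.cons 10 (nat_lit 0x32b00305001a2001fe000fe002e9002100019b)
 (.cons 5 (nat_lit 0x20000700e008160481003c07020100380a01803)
 (.cons 1 (nat_lit 0x800108001000a00000000000000010000000020)
 (.cons 1 (nat_lit 0x500021004a001405204002000100020200000140)
 (.cons 1 (nat_lit 0x2000420084290a5210802902028024014a021481)
 (.cons 1 (nat_lit 0x5200a5010a109425090852848120481284242942)
 (.cons 1 (nat_lit 0x214212008509025090842008028020010a001081)
 (.cons 5 (nat_lit 0x50000601c0280e0001803806060180300802806)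
 (.cons 10 (nat_lit 0x31600280001e800304000c400240001920019a)
 (.cons 20 (nat_lit 0x3413c00000b1b7e00000459340000020a5e)
 (.cons 40 (nat_lit 0x38716bd5000000000000ce1c32e1b0)
 (.cons 80 (nat_lit 0x3f2535e1c37e310f0558)
 .nil)))))))))))))))
noncomputable def a2 : Net := .nil
noncomputable def a3 : Net := .nil
noncomputable def a4 : Net := (.cons 80 (nat_lit 0x45bdbd33bc9ab5108a4c)
 (.cons 40 (nat_lit 0x6ef20b3452000000000094e0391082)
 (.cons 20 (nat_lit 0x3b162000008314b000002caa100000141ac)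
 (.cons 10 (nat_lit 0x2de003c4001100018a000830022000230001f8)
 (.cons 5 (nat_lit 0x181f014040080202805070040441a0541c00c1c)
 (.cons 1 (nat_lit 0x802000000004a4080a000000)
 (.cons 1 (nat_lit 0x1090050000008401004a400004294a5014002002)
 (.cons 1 (nat_lit 0x21481280a4010802108428421214a5204a001024)
 (.cons 1 (nat_lit 0x52842101424214a4090a108425294a509480084a)
 (.cons 1 (nat_lit 0x1401090a101080210012042108080094a401080)
 (.cons 5 (nat_lit 0x301a03000020180000603000040000501800010)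
 (.cons 10 (nat_lit 0x38e000cc00000002ac00020000000021800078)
 (.cons 20 (nat_lit 0x5832800000c611c000002ca82000003c560)
 (.cons 40 (nat_lit 0x6be717245c00000000002ee2791900)
 (.cons 80 (nat_lit 0x45bdbd33e9a0d39a4f94)
 .nil)))))))))))))))
noncomputable def a5 : Net := (.cons 80 (nat_lit 0x60e7310b297c91cedf64)
 (.cons 40 (nat_lit 0x1d4e6986b5000000000033822f3990)
 (.cons 20 (nat_lit 0x519600000084c490000022842000001a6ca)
 (.cons 10 (nat_lit 0x3f3002e9000ea001ee0011e00223002a5001b4)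
 (.cons 5 (nat_lit 0x44020681106814034120381e074070701b05418)
 (.cons 1 (nat_lit 0x400000000000000020080200048000020)
 (.cons 1 (nat_lit 0x1280a009401000a5014000040501400094040140)
 (.cons 1 (nat_lit 0x2900401484200052948109080210a0010a4280a0)
 (.cons 1 (nat_lit 0x1284a02948501021094a10942509400214250148)
 (.cons 1 (nat_lit 0x400014050800501404290a0014040048101084)
 (.cons 5 (nat_lit 0x804058020400c00000030180600e0400806018)
 (.cons 10 (nat_lit 0x390002ca001f8001a40013c00232002bc0033c)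
 (.cons 20 (nat_lit 0x4938400000c6500000009604c000009a196)
 (.cons 40 (nat_lit 0x1d2c698ee40000000000a28263d94c)
 (.cons 80 (nat_lit 0x60e7310a9ad4117e9c6c)
 .nil)))))))))))))))
noncomputable def a6 : Net := (.cons 80 (nat_lit 0xfa616a1b297418205614)
 (.cons 40 (nat_lit 0xf81d34c12400000000005a0f05bd9c)
 (.cons 20 (nat_lit 0x5b77c00000f5fa60000007120000007c200)
 (.cons 10 (nat_lit 0x84003580033000054000a0001a600368001b0)
 (.cons 5 (nat_lit 0x301c040240a03017000000300006c040401c)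
 (.cons 1 (nat_lit 0x1204000000000000000000040008000)
 (.cons 1 (nat_lit 0x20080a509001010000000020024084010000)
 (.cons 1 (nat_lit 0x280042100429480200a508085014a42148121480)
 (.cons 1 (nat_lit 0x100481214a128404014212842028481294250840)
 (.cons 1 (nat_lit 0x802121485294202102401085094a40902129400)
 (.cons 5 (nat_lit 0x58180380a0200400008030000700000008)
 (.cons 10 (nat_lit 0x480031200044000c0001f40022a001a0)
 (.cons 20 (nat_lit 0x336bc0000044b8c0000051890000007c304)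
 (.cons 40 (nat_lit 0x901d14ca0400000000005b85101868)
 (.cons 80 (nat_lit 0xfa616a1ae17b16d35060)
 .nil)))))))))))))))
noncomputable def a7 : Net := (.cons 80 (nat_lit 0x1a9d84350238dbd65332)
 (.cons 40 (nat_lit 0xdb0244460800000000009d9de38e18)
 (.cons 20 (nat_lit 0x5c44c00000dd6b9000009446300000d0d3a)
 (.cons 10 (nat_lit 0x2d80026a000e7003540001c00155000280032a)
 (.cons 5 (nat_lit 0x78180080500c0802c060040e004040480600c16)
 (.cons 1 (nat_lit 0x1000010000500000080000000000000)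
 (.cons 1 (nat_lit 0x90010002000025080a02140128084090000002)
 (.cons 1 (nat_lit 0x14a0200840148429005290812140421085200a4)
 (.cons 1 (nat_lit 0x40840508485084a1280a5094a4280a129424004a)
 (.cons 1 (nat_lit 0x200a4080a5294a420000084240800109085280a0)
 (.cons 5 (nat_lit 0x68000280c02006038060001e01016018060081a)
 (.cons 10 (nat_lit 0x3c40020a000040038c0028800386002300032e)
 (.cons 20 (nat_lit 0x1d51800000f7bb8000003c01200000f7d38)
 (.cons 40 (nat_lit 0xdb97c442340000000000199dea4c68)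
 (.cons 80 (nat_lit 0x1a9d8434144d52370042)
 .nil)))))))))))))))
noncomputable def a8 : Net := (.cons 80 (nat_lit 0x6528bbc7071d3e3b9c54)
 (.cons 40 (nat_lit 0x4d0e2281060000000000b0105a6a80)
 (.cons 20 (nat_lit 0x1512300000a8e0e000007796000000d3744)
 (.cons 10 (nat_lit 0x1f000220002f20011900222000e8001cc00390)
 (.cons 5 (nat_lit 0x304007058060081302005020180300806800)
 (.cons 1 (nat_lit 0x4050002000001000000040000000)
 (.cons 1 (nat_lit 0xa000081280a400480214a100400280000100)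
 (.cons 1 (nat_lit 0x200042048421005204a5014a42808029480014a0)
 (.cons 1 (nat_lit 0x1010a409024284a129420094a1010a1284012840)
 (.cons 1 (nat_lit 0x81204a42042121401214200008100084210a0)
 (.cons 5 (nat_lit 0x800006048180281403016020180080800000)
 (.cons 10 (nat_lit 0x1f00000400160003c000202002e0000a8003d0)
 (.cons 20 (nat_lit 0x3d12000000ace04000007794000000c3a80)
 (.cons 40 (nat_lit 0x90ea9c7040000000000b8135a6a00)
 (.cons 80 (nat_lit 0x6528bbc7071d3e3b1c54)
 .nil)))))))))))))))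
noncomputable def a9 : Net := (.cons 80 (nat_lit 0x8882a1140b38d38ddd12)
 (.cons 40 (nat_lit 0x795ebb74470000000000e65ea568e0)
 (.cons 20 (nat_lit 0xe9586000000e24a0000056ab500000ba2c8)
 (.cons 10 (nat_lit 0xe3000ae0021c0000a00182003520027c0012c)
 (.cons 5 (nat_lit 0x4000581b030020700b0600f060140600800c04)
 (.cons 1 (nat_lit 0xa0000210000100000)
 (.cons 1 (nat_lit 0x2940100000214a021420200a02940)
 (.cons 1 (nat_lit 0x81200202108029485210a50908401424010a0)
 (.cons 1 (nat_lit 0x8421094042940509421294a1094a1094a02948)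
 (.cons 1 (nat_lit 0x80852042500020290852040529085214a528424)
 (.cons 5 (nat_lit 0x80c0381e030000500a0401c068000400800014)
 (.cons 10 (nat_lit 0xa6000660021c00000002ca00112003e40002c)
 (.cons 20 (nat_lit 0x590c6000000e26a00000828f200000b9898)
 (.cons 40 (nat_lit 0x71de3a65160000000000a37abd48e0)
 (.cons 80 (nat_lit 0x8882a11511d8d3a9f582)
 .nil)))))))))))))))
noncomputable def a10 : Net := (.cons 80 (nat_lit 0x754011df3a08108910)
 (.cons 40 (nat_lit 0xbcf5a2908000000000003e97017000)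
 (.cons 20 (nat_lit 0x2d108000008333000000ff0f200000ecb42)
 (.cons 10 (nat_lit 0xe0000f00009800012001e0002d00037400028)
 (.cons 5 (nat_lit 0x401c00005070000200d0381e0281e0001806c04)
 (.cons 1 (nat_lit 0x42000000004000040000080080200800100020)
 (.cons 1 (nat_lit 0x294000000028000294010140501425080a52940)
 (.cons 1 (nat_lit 0x14a400000210a521080280a0290852142521084)
 (.cons 1 (nat_lit 0x294a10002428421294812940529425094a5294a)
 (.cons 1 (nat_lit 0x42400080214a52140000085090a50802100024)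
 (.cons 5 (nat_lit 0x401c0000407000020080381e0281e0001800004)
 (.cons 10 (nat_lit 0xe0000e00009800010001e0002d00023400028)
 (.cons 20 (nat_lit 0x2d1000000083330000007f0f200000ccb42)
 (.cons 40 (nat_lit 0xbcf1a2908000000000003e97017000)
 (.cons 80 (nat_lit 0x754011df3a08108910)
 .nil)))))))))))))))
noncomputable def ns0 : List Net := [a0, a1, a2, a3]
noncomputable def ws : List (List ℕ) :=
  [W (nat_lit 0x200200c010100800807018010100201002),
  W (nat_lit 0x200600c020180700c030080300403),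
  W (nat_lit 0x300c0300a0300c0300a),
  W (nat_lit 0xc0280a02c0a030090300a),
  W (nat_lit 0x3c0d03c0f),
  W (nat_lit 0xb02c09),
  W (nat_lit 0x300c0300a02c0a0280c)]
noncomputable def ns : List Net := [a0, a1, a2, a3, a4, a5, a6, a7, a8, a9, a10]
noncomputable def D : List (ℕ × List ℕ) := app [] (mkDefs ws 4)
noncomputable def chk : List (List ℕ × List ℕ) → Bool := P.relsB ns
noncomputable def zt0 : List ℕ :=
  []
noncomputable def zcj1 : List (List ℕ) :=
  []
noncomputable def zus4 : List (List ℕ) :=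
  [[12],
  [13],
  [14],
  [15],
  W (nat_lit 0x340f),
  W (nat_lit 0x3410),
  W (nat_lit 0x380f),
  W (nat_lit 0x3810)]
noncomputable def zF5 : List (List (ℕ × List ℕ)) :=
  [[(1, []),
   (2, []),
   (0, []),
   (7, [17]),
   (4, [16]),
   (3, [17]),
   (6, [16]),
   (5, [17]),
   (8, [16])],
  [(3, []),
   (5, []),
   (7, []),
   (6, [17]),
   (0, []),
   (8, [17]),
   (1, []),
   (4, [17]),
   (2, [])]]
noncomputable def zrs8 : List (ℕ × List ℕ) :=
  [(18, [8]),
  (95, W (nat_lit 0xa0480a)),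
  (3, W (nat_lit 0xa034100280a))]
noncomputable def G_w1_1_v0 : Lev :=
  ⟨18, 27, sg (W (nat_lit 0xd03c0d03c0d03c0d)), [], 5, 0⟩
noncomputable def G_w1_1_vs1 : List Lev :=
  []
noncomputable def G_w1_1_vs : List Lev :=
  G_w1_1_v0 :: G_w1_1_vs1
noncomputable def zcj10 : List (List ℕ) :=
  []
noncomputable def G_w1_2_v0 : Lev :=
  ⟨95, 27, sg (W (nat_lit 0xd03c0d03c0d03c0d)), [], 5, 0⟩
noncomputable def G_w1_2_vs1 : List Lev :=
  []
noncomputable def G_w1_2_vs : List Lev :=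
  G_w1_2_v0 :: G_w1_2_vs1
noncomputable def zcj14 : List (List ℕ) :=
  []
noncomputable def G_w1_3_v0 : Lev :=
  ⟨3, 1, sg [], [[12], [14]], 5, 0⟩
noncomputable def G_w1_3_v1 : Lev :=
  ⟨2, 27, sg (W (nat_lit 0xd03c0d03c0d03c0d)), [], 5, 0⟩
noncomputable def G_w1_3_vs2 : List Lev :=
  []
noncomputable def G_w1_3_vs1 : List Lev :=
  G_w1_3_v1 :: G_w1_3_vs2
noncomputable def G_w1_3_vs : List Lev :=
  G_w1_3_v0 :: G_w1_3_vs1
noncomputable def zcj18 : List (List ℕ) :=
  [[12],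
  W (nat_lit 0x1203410)]
noncomputable def zB21 : List BG :=
  [⟨[9], [],
  [([⟨[], W (nat_lit 0x480f), 1, W (nat_lit 0x480f)⟩], []),
   ([⟨[], [], 0, []⟩,
    ⟨[12], [14], 1, W (nat_lit 0x1103810)⟩,
    ⟨[13], W (nat_lit 0x3810), 1, W (nat_lit 0x440d)⟩,
    ⟨[14], W (nat_lit 0x3c0f), 1, W (nat_lit 0x380f)⟩,
    ⟨[15], W (nat_lit 0x3412), 1, W (nat_lit 0x3810)⟩,
    ⟨[16], W (nat_lit 0xd0480f), 1, W (nat_lit 0x120340f)⟩,
    ⟨[17], [13], 1, [17]⟩,
    ⟨W (nat_lit 0x340f), W (nat_lit 0x400e), 1, W (nat_lit 0x4410)⟩,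
    ⟨W (nat_lit 0x3410), W (nat_lit 0x3410), 1, W (nat_lit 0x110340f)⟩,
    ⟨W (nat_lit 0x3411), [16], 2, W (nat_lit 0x120380f)⟩,
    ⟨W (nat_lit 0x3412), W (nat_lit 0x3c0d), 2, W (nat_lit 0x3810)⟩,
    ⟨W (nat_lit 0x380f), [12], 1, W (nat_lit 0x110380f)⟩,
    ⟨W (nat_lit 0x3810), W (nat_lit 0x400e), 2, [14]⟩,
    ⟨W (nat_lit 0x3811), W (nat_lit 0x3410), 2, [13]⟩,
    ⟨W (nat_lit 0x3812), W (nat_lit 0x3411), 2, W (nat_lit 0x480f)⟩,
    ⟨W (nat_lit 0x3c0d), [], 2, W (nat_lit 0x1203810)⟩,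
    ⟨W (nat_lit 0x3c0e), W (nat_lit 0x3811), 1, W (nat_lit 0x3410)⟩,
    ⟨W (nat_lit 0x3c0f), W (nat_lit 0x440f), 1, [16]⟩,
    ⟨W (nat_lit 0x400d), W (nat_lit 0x3411), 1, W (nat_lit 0x120380f)⟩,
    ⟨W (nat_lit 0x400e), W (nat_lit 0x4011), 1, W (nat_lit 0x1203410)⟩,
    ⟨W (nat_lit 0x4010), W (nat_lit 0x3c0d), 1, W (nat_lit 0x480e)⟩,
    ⟨W (nat_lit 0x4011), W (nat_lit 0x3412), 2, [16]⟩,
    ⟨W (nat_lit 0x4012), [15], 1, W (nat_lit 0x340f)⟩,
    ⟨W (nat_lit 0x440f), W (nat_lit 0x3812), 1, W (nat_lit 0x4810)⟩,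
    ⟨W (nat_lit 0x480f), W (nat_lit 0x380f), 2, W (nat_lit 0x110380f)⟩,
    ⟨W (nat_lit 0xd04012), W (nat_lit 0xd04012), 2, W (nat_lit 0x480d)⟩,
    ⟨W (nat_lit 0xd0480f), W (nat_lit 0x4010), 2, W (nat_lit 0x1103810)⟩], []),
   ([⟨[], W (nat_lit 0x400d), 2, W (nat_lit 0x440f)⟩,
    ⟨[12], W (nat_lit 0x340f), 2, W (nat_lit 0x4810)⟩,
    ⟨[13], W (nat_lit 0x3c0e), 1, W (nat_lit 0x120380f)⟩,
    ⟨[14], [16], 1, [15]⟩,
    ⟨[15], W (nat_lit 0x4010), 1, W (nat_lit 0x1203810)⟩,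
    ⟨[16], [13], 2, W (nat_lit 0x480e)⟩,
    ⟨[17], W (nat_lit 0x3810), 2, W (nat_lit 0x380f)⟩,
    ⟨W (nat_lit 0x340f), [17], 2, [12]⟩,
    ⟨W (nat_lit 0x3410), [], 3, W (nat_lit 0x4810)⟩,
    ⟨W (nat_lit 0x3411), W (nat_lit 0xd0480f), 2, W (nat_lit 0x340f)⟩,
    ⟨W (nat_lit 0x3412), W (nat_lit 0x4012), 2, W (nat_lit 0x1203410)⟩,
    ⟨W (nat_lit 0x380f), [15], 2, W (nat_lit 0x1203810)⟩,
    ⟨W (nat_lit 0x3810), W (nat_lit 0x340f), 1, W (nat_lit 0x3810)⟩,
    ⟨W (nat_lit 0x3811), W (nat_lit 0x400d), 1, W (nat_lit 0x1203410)⟩,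
    ⟨W (nat_lit 0x3812), W (nat_lit 0x4012), 1, W (nat_lit 0x120340f)⟩,
    ⟨W (nat_lit 0x3c0d), [17], 1, W (nat_lit 0x440e)⟩,
    ⟨W (nat_lit 0x3c0e), W (nat_lit 0x380f), 1, [12]⟩,
    ⟨W (nat_lit 0x3c0f), [14], 2, W (nat_lit 0x440d)⟩,
    ⟨W (nat_lit 0x400d), [], 1, [17]⟩,
    ⟨W (nat_lit 0x400e), W (nat_lit 0x3812), 2, W (nat_lit 0x1103810)⟩,
    ⟨W (nat_lit 0x4010), W (nat_lit 0x440f), 2, W (nat_lit 0x4410)⟩,
    ⟨W (nat_lit 0x4011), W (nat_lit 0xd04012), 1, W (nat_lit 0x480f)⟩,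
    ⟨W (nat_lit 0x4012), [12], 2, W (nat_lit 0x120340f)⟩,
    ⟨W (nat_lit 0x440f), W (nat_lit 0x4011), 2, W (nat_lit 0x480f)⟩,
    ⟨W (nat_lit 0x480f), W (nat_lit 0x480f), 2, W (nat_lit 0x1103410)⟩,
    ⟨W (nat_lit 0xd04012), W (nat_lit 0x3c0f), 2, [13]⟩,
    ⟨W (nat_lit 0xd0480f), W (nat_lit 0x3c0e), 2, W (nat_lit 0x110380f)⟩], []),
   ([⟨[], W (nat_lit 0x3811), 2, W (nat_lit 0x440e)⟩], [])]⟩]
noncomputable def zE22 : List (ℕ × List ℕ) :=
  [(10, W (nat_lit 0x400a0480a))]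
noncomputable def G_v0 : Lev :=
  ⟨0, 120, sg (W (nat_lit 0xc0100c0100c0100c0100c0100c01)), [[8], [10]], 0, 2⟩
noncomputable def G_v1 : Lev :=
  ⟨1, 56, sg (W (nat_lit 0x240b02c0902c0902c0902c09)), [[12], [14]], 2, 2⟩
noncomputable def G_v2 : Lev :=
  ⟨71, 9, sg (W (nat_lit 0xf0340f03c0d)), [[16]], 4, 1⟩
noncomputable def G_v3 : Lev :=
  ⟨2, 3, sg (W (nat_lit 0x4411)), [], 5, 0⟩
noncomputable def G_vs4 : List Lev :=
  []
noncomputable def G_vs3 : List Lev :=
  G_v3 :: G_vs4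
noncomputable def G_vs2 : List Lev :=
  G_v2 :: G_vs3
noncomputable def G_vs1 : List Lev :=
  G_v1 :: G_vs2
noncomputable def G_vs : List Lev :=
  G_v0 :: G_vs1
noncomputable def zrs28 : List (ℕ × List ℕ) :=
  [(1, [0]),
  (2, W (nat_lit 0x80a0080b))]
noncomputable def zcj29 : List (List ℕ) :=
  [[12],
  W (nat_lit 0x480f)]
noncomputable def G_w0_2_v0 : Lev :=
  ⟨2, 63, sg (W (nat_lit 0x24090240902c0902c0902c0902c09)), [[18], [20]], 5, 2⟩
noncomputable def G_w0_2_v1 : Lev :=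
  ⟨1, 24, sg (W (nat_lit 0x13054130541305413)), [], 7, 0⟩
noncomputable def G_w0_2_vs2 : List Lev :=
  []
noncomputable def G_w0_2_vs1 : List Lev :=
  G_w0_2_v1 :: G_w0_2_vs2
noncomputable def G_w0_2_vs : List Lev :=
  G_w0_2_v0 :: G_w0_2_vs1
noncomputable def zcj33 : List (List ℕ) :=
  [W (nat_lit 0x440e03c090240c),
  W (nat_lit 0x120380f03012)]
noncomputable def zB36 : List BG :=
  [⟨[1], [([12], [12]), ([14], W (nat_lit 0x480f))],
  [([⟨[], W (nat_lit 0x90380b), 1, W (nat_lit 0x90380b)⟩], []),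
   ([⟨[], [], 0, []⟩,
    ⟨[8], W (nat_lit 0x3012), 1, W (nat_lit 0x110400a)⟩,
    ⟨[10], W (nat_lit 0x3410), 2, W (nat_lit 0xf0280d)⟩,
    ⟨W (nat_lit 0x90380b), [], 1, W (nat_lit 0x90380b)⟩], W (nat_lit 0x1008010080100801)),
   ([⟨[], W (nat_lit 0xa0440f), 1, W (nat_lit 0x120340f0280a)⟩,
    ⟨[8], W (nat_lit 0x280e), 2, W (nat_lit 0x90240d)⟩,
    ⟨W (nat_lit 0x340b), W (nat_lit 0x904009), 2, W (nat_lit 0x480d0400c)⟩], W (nat_lit 0x1008010080100801))]⟩]
noncomputable def zE37 : List (ℕ × List ℕ) :=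
  [(2, W (nat_lit 0x480e0400a0440f0080a0080b)),
  (4, []),
  (6, [])]
noncomputable def zE42 : Net :=
  .nil
noncomputable def zK43 : Lk :=
  ⟨zE42, 1, 3, 1⟩
noncomputable def zE46 : Net :=
  (.cons 80 (nat_lit 0xffffffffff0000000000)
 (.cons 40 (nat_lit 0xff800000000000000000ffffffffff)
 (.cons 20 (nat_lit 0xff80000000ff80000000ff8000000000000)
 (.cons 10 (nat_lit 0x3fe003fe003fe003fe003fe003fe0000000000)
 (.cons 5 (nat_lit 0x40100401004010040100401004010000000000)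
 (.cons 1 (nat_lit 0x842108421084210842108421084210000000000)
 (.cons 1 (nat_lit 0x1084210842108421084210842108420000000000)
 (.cons 1 (nat_lit 0x2108421084210842108421084210840000000000)
 (.cons 1 (nat_lit 0x4210842108421084210842108421080000000000)
 (.cons 40 (nat_lit 0xfffffffe00)
 (.cons 80 (nat_lit 0xfffffffe000000000000)
 .nil)))))))))))
noncomputable def zK47 : Lk :=
  ⟨zE46, 1, 2, 1⟩

theorem zb2 : bnd (pcB D [] 3 zt0 zcj1) (leB (app D []) [[16]] ([16] :: [])) = true := by decide +kernel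
theorem zr3 : chk (pcR [] [16] 3 zt0 zcj1) = true := by decide +kernel
theorem zb6 : schB D [[12], [14]] [[16]] zus4 zF5 9 = true := by decide +kernel
theorem zr7 : chk (schR [[12], [14]] zus4 zF5) = true := by decide +kernel
theorem zc9 : P.chainB ns D G_w1_1_vs [[12], [14]] = true := by decide +kernel
theorem zb11 : wdB D [[12], [14]] G_w1_1_v0.nx zcj10 = true := by decide +kernel
theorem zr12 : chk (wdR G_w1_1_v0.nx [8] zcj10) = true := by decide +kernel
theorem zc13 : P.chainB ns D G_w1_2_vs [[12], [14]] = true := by decide +kernel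
theorem zb15 : wdB D [[12], [14]] G_w1_2_v0.nx zcj14 = true := by decide +kernel
theorem zr16 : chk (wdR G_w1_2_v0.nx (W (nat_lit 0xa0480a)) zcj14) = true := by decide +kernel
theorem zc17 : P.chainB ns D G_w1_3_vs [[12], [14]] = true := by decide +kernel
theorem zb19 : wdB D [[12], [14]] G_w1_3_v0.nx zcj18 = true := by decide +kernel
theorem zr20 : chk (wdR G_w1_3_v0.nx (W (nat_lit 0xa034100280a)) zcj18) = true := by decide +kernel
theorem zb23 : bB P.n P.N ns (app D zE22) [[8], [10]] [[12], [14]] 1 zrs8 zB21 = true := by decide +kernel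
theorem zc24 : P.chainB ns D G_vs [[0], [2], [4], [6]] = true := by decide +kernel
theorem zb25 : P.invSz ns [[8], [10]] 1 (orbM P.N ns G_v1) 56 = true := by decide +kernel
theorem zr26 : chk (bR 1 zrs8 zB21) = true := by decide +kernel
theorem zr27 : chk (defRels zE22) = true := by decide +kernel
theorem zb30 : wdB D [[8], [10]] G_v1.nx zcj29 = true := by decide +kernel
theorem zr31 : chk (wdR G_v1.nx [0] zcj29) = true := by decide +kernel
theorem zc32 : P.chainB ns D G_w0_2_vs [[8], [10]] = true := by decide +kernel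
theorem zb34 : wdB D [[8], [10]] G_w0_2_v0.nx zcj33 = true := by decide +kernel
theorem zr35 : chk (wdR G_w0_2_v0.nx (W (nat_lit 0x80a0080b)) zcj33) = true := by decide +kernel
theorem zb38 : bB P.n P.N ns (app D zE37) [[0], [2], [4], [6]] [[8], [10]] 0 zrs28 zB36 = true := by decide +kernel
theorem zb39 : P.invSz ns [[0], [2], [4], [6]] 0 (orbM P.N ns G_v0) 120 = true := by decide +kernel
theorem zr40 : chk (bR 0 zrs28 zB36) = true := by decide +kernel
theorem zr41 : chk (defRels zE37) = true := by decide +kernel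
theorem zl44 : zK43.relB CL.Spor.CoD.B.S.P CL.Spor.CoD.B.T.P CL.Spor.CoD.B.S.ns [[0], [2], [4], [6]] [[0], [2], [4], [6]] = true := by decide +kernel
theorem zl45 : allL (zK43.pl CL.Spor.CoD.B.S.P CL.Spor.CoD.B.T.P CL.Spor.CoD.B.S.ns CL.Spor.CoD.B.T.ns 0) (zp [] [[0], [2], [4], [6]] [[0], [2], [4], [6]]) = true := by decide +kernel
theorem zl48 : zK47.relB CL.Spor.CoD.B.S.P CL.Std.A9.P CL.Spor.CoD.B.S.ns [[0], [2], [4], [6]] [[0], [2]] = true := by decide +kernel
theorem zl49 : allL (zK47.pl CL.Spor.CoD.B.S.P CL.Std.A9.P CL.Spor.CoD.B.S.ns CL.Std.A9.ns 0) (zp [] [[0], [2], [4], [6]] [[0], [2]]) = true := by decide +kernel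
theorem zk50 : allL (keepB P.n P.N) ns0 = true := by decide +kernel
theorem ze51 : extB ns0 ns 4 ws [] = true := by decide +kernel
theorem zn52 : P.netsB ns (mkDefs ws 4) = true := by decide +kernel

section
variable {G X : Type*} [Group G] [MulAction G X] {e : ℕ → X} {gs : List G}

theorem keep0 : allL (keepB P.n P.N) ns0 = true := zk50

theorem len {k} (c : Ctx P e gs ns0 [] k) : gs.length = 4 := c.len ze51

theorem ctx0 {k} (c : Ctx P e gs ns0 [] k) : Ctx P e (ext gs ws) ns D chk0 :=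
  c.ext rfl ze51 zn52

theorem ctx {k} (c : Ctx P e gs ns0 [] k) {H : Subgroup G} (hF : Faithful e P.n H) (hH : ∀ g ∈ gs, g ∈ H) :
    Ctx P e (ext gs ws) ns D chk :=
  (ctx0 c).withB hF (mem_of_mem_ext hH _)

instance instNe : NeZero P.n := ⟨by decide⟩
noncomputable def gs0 : List (Equiv.Perm (Fin P.n)) := permsOf P.n P.N ns0
noncomputable def gs1 : List (Equiv.Perm (Fin P.n)) := ext gs0 ws
theorem c1 : Ctx P (eF P.n) gs1 ns D chk :=
  ctx (ctx_permsOf hP keep0) (faithful_eF _) fun _ _ => trivial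

theorem G_u3 (c : Ctx P e gs ns D chk) :
    UB (subW gs [[16]]) 3 :=
  (c.pc_step (UB.nil gs) (Rels.nil _)
    (c.rels _ zr3) zb2).le (by decide)

theorem G_u2 (c : Ctx P e gs ns D chk) :
    UB (subW gs [[12], [14]]) 27 :=
  (c.sch_step (G_u3 c)
    (c.rels _ zr7) zb6).le (by decide)

theorem G_w1_1_c : P.chainB ns D G_w1_1_vs [[12], [14]] = true :=
  zc9

theorem G_w1_1_o : prodL G_w1_1_vs 1 = 27 := by decide +kernel

theorem G_w1_2_c : P.chainB ns D G_w1_2_vs [[12], [14]] = true :=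
  zc13

theorem G_w1_2_o : prodL G_w1_2_vs 1 = 27 := by decide +kernel

theorem G_w1_3_c : P.chainB ns D G_w1_3_vs [[12], [14]] = true :=
  zc17

theorem G_w1_3_o : prodL G_w1_3_vs 1 = 27 := by decide +kernel

theorem G_u1w (c : Ctx P e gs ns D chk) :
    AllWd e gs [[12], [14]] zrs8 :=
  ⟨c.wd (v := G_w1_1_v0) (vs := G_w1_1_vs1) (G_u2 c) G_w1_1_c G_w1_1_o
      (c.rels _ zr12) zb11,
    ⟨c.wd (v := G_w1_2_v0) (vs := G_w1_2_vs1) (G_u2 c) G_w1_2_c G_w1_2_o
      (c.rels _ zr16) zb15,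
    ⟨c.wd (v := G_w1_3_v0) (vs := G_w1_3_vs1) (G_u2 c) G_w1_3_c G_w1_3_o
      (c.rels _ zr20) zb19,
    trivial⟩⟩⟩

theorem G_c : P.chainB ns D G_vs [[0], [2], [4], [6]] = true :=
  zc24

theorem G_o : prodL G_vs 1 = 181440 := by decide +kernel

theorem G_u1 (c : Ctx P e gs ns D chk) :
    UB (subW gs [[8], [10]]) 1512 :=
  (c.b_step (G_u2 c) (G_u1w c) (c.rels _ zr27)
    (c.rels _ zr26) zb23 zb25).le (by decide)

theorem G_w0_2_c : P.chainB ns D G_w0_2_vs [[8], [10]] = true :=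
  zc32

theorem G_w0_2_o : prodL G_w0_2_vs 1 = 1512 := by decide +kernel

theorem G_u0w (c : Ctx P e gs ns D chk) :
    AllWd e gs [[8], [10]] zrs28 :=
  ⟨c.wd (v := G_v1) (vs := G_vs2) (G_u1 c) (Par.chainB_tail G_c) (by decide +kernel)
      (c.rels _ zr31) zb30,
    ⟨c.wd (v := G_w0_2_v0) (vs := G_w0_2_vs1) (G_u1 c) G_w0_2_c G_w0_2_o
      (c.rels _ zr35) zb34,
    trivial⟩⟩

theorem G_u0 (c : Ctx P e gs ns D chk) :
    UB (subW gs [[0], [2], [4], [6]]) 181440 :=
  (c.b_step (G_u1 c) (G_u0w c) (c.rels _ zr41)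
    (c.rels _ zr40) zb38 zb39).le (by decide)

theorem G_ub (c : Ctx P e gs ns D chk) :
    UB (subW gs [[0], [2], [4], [6]]) 181440 :=
  (G_u0 c)

theorem toT {Γ Y : Type*} [Group Γ] [MulAction Γ Y] {e' : ℕ → Y} {cs : List Γ} {D₁ D₂ : List (ℕ × List ℕ)}
    {k₁ k₂ : List (List ℕ × List ℕ) → Bool} (c : Ctx CL.Spor.CoD.B.S.P e gs CL.Spor.CoD.B.S.ns D₁ k₁) (c' : Ctx CL.Spor.CoD.B.T.P e' cs CL.Spor.CoD.B.T.ns D₂ k₂)
    (hF : Faithful e' CL.Spor.CoD.B.T.P.n (subW cs [[0], [2], [4], [6]])) :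
    RelLe gs [[0], [2], [4], [6]] cs [[0], [2], [4], [6]] :=
  c.relLe (K := zK43) c' hF zl44 (fun (t : ℕ) (ht : t < 1) => match t, ht with
    | 0, _ => zl45
    | t + 1, h => absurd h (by omega))

theorem toB {Γ Y : Type*} [Group Γ] [MulAction Γ Y] {e' : ℕ → Y} {cs : List Γ} {D₁ D₂ : List (ℕ × List ℕ)}
    {k₁ k₂ : List (List ℕ × List ℕ) → Bool} (c : Ctx CL.Spor.CoD.B.S.P e gs CL.Spor.CoD.B.S.ns D₁ k₁) (c' : Ctx CL.Std.A9.P e' cs CL.Std.A9.ns D₂ k₂)
    (hF : Faithful e' CL.Std.A9.P.n (subW cs [[0], [2]])) :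
    RelLe gs [[0], [2], [4], [6]] cs [[0], [2]] :=
  c.relLe (K := zK47) c' hF zl48 (fun (t : ℕ) (ht : t < 1) => match t, ht with
    | 0, _ => zl49
    | t + 1, h => absurd h (by omega))

theorem rel {Γ Y : Type*} [Group Γ] [MulAction Γ Y] {e' : ℕ → Y} {cs : List Γ} {D₂ : List (ℕ × List ℕ)}
    {k₂ : List (List ℕ × List ℕ) → Bool} (c' : Ctx CL.Std.A9.P e' cs CL.Std.A9.ns D₂ k₂) (hF : Faithful e' CL.Std.A9.P.n (subW cs [[0], [2]])) :
    RelLe CL.Spor.CoD.B.T.gs1 [[0], [2], [4], [6]] cs [[0], [2]] :=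
  ((toT c1 CL.Spor.CoD.B.T.c1 ((faithful_eF _).mono le_top)).symm_of_card (G_ub c1) (CL.Spor.CoD.B.T.G_lb CL.Spor.CoD.B.T.c1)).trans (toB c1 c' hF)

end
end CL.Spor.CoD.B.S

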