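/-
A standard permutation model (W+, dimension 8, field with 2 elements): degree 120, order 174182400.
Generated by tools/pg.
-/
import Cfsg.Agent.Spor.PGCls
import Cfsg.Agent.Spor.PGCtx

set_option autoImplicit false
set_option maxRecDepth 200000
set_option Elab.async false
set_option linter.unusedVariables false

namespace CL.Std.O8p2.M
open CL.PG

def P : Par := ⟨120, 128, 7, 3⟩
theorem hP : P.Ok := by decide
noncomputable def a0 : Net := (.cons 64 (nat_lit 0xaa00000000000000)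
 (.cons 32 (nat_lit 0xaa00000000000000aa000000)
 (.cons 16 (nat_lit 0xff000000ff000000ff0000005500)
 (.cons 8 (nat_lit 0x6900a800a500700099008800550000)
 (.cons 4 (nat_lit 0xe000000000000000000)
 (.cons 2 (nat_lit 0x220000020200000220000000000)
 (.cons 1 (nat_lit 0x14000014500014004400004400000000)
 (.cons 2 (nat_lit 0x20000020000000000000000000)
 (.cons 4 (nat_lit 0xc000000000000000000)
 (.cons 8 (nat_lit 0x28008800a000700088008800000000)
 (.cons 16 (nat_lit 0xff000000ff000000ff0000005500)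
 (.cons 32 (nat_lit 0xaa00000000000000aa000000)
 (.cons 64 (nat_lit 0xaa00000000000000)
 .nil)))))))))))))
noncomputable def a1 : Net := (.cons 64 (nat_lit 0xafaf6f000000)
 (.cons 32 (nat_lit 0xe700000000000000eb00)
 (.cons 8 (nat_lit 0xe000e000e0009200e000e200e0)
 (.cons 4 (nat_lit 0xa060c04060a000c0a0a04020a0a)
 (.cons 2 (nat_lit 0x12000000210000002200000)
 (.cons 1 (nat_lit 0x401004401040401014044414001)
 (.cons 2 (nat_lit 0x2000000200000002200000)
 (.cons 4 (nat_lit 0x802040402080004020804020802)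
 (.cons 8 (nat_lit 0xe000e000e0009200e000a000e0)
 (.cons 32 (nat_lit 0xe700000000000000eb00)
 (.cons 64 (nat_lit 0xafaf6f000000)
 .nil)))))))))))
noncomputable def a2 : Net := (.cons 64 (nat_lit 0xa500000000000000)
 (.cons 32 (nat_lit 0xed11000000000000ee2200)
 (.cons 16 (nat_lit 0xbd080000db810000660000007788)
 (.cons 8 (nat_lit 0xf0008500b000d20066000000e200d0)
 (.cons 4 (nat_lit 0xa0904080a090c05060600000a0a0404)
 (.cons 2 (nat_lit 0x2002000002020000000000000110)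
 (.cons 1 (nat_lit 0x41004004010404040000000004404004)
 (.cons 2 (nat_lit 0x2002000002020000000000000000)
 (.cons 4 (nat_lit 0xa000400020804040000000008080404)
 (.cons 8 (nat_lit 0xf0008400b000900000000000c000d0)
 (.cons 16 (nat_lit 0x3d000000c3000000660000003300)
 (.cons 32 (nat_lit 0xcc00000000000000cc0000)
 (.cons 64 (nat_lit 0xa500000000000000)
 .nil)))))))))))))
noncomputable def a3 : Net := (.cons 64 (nat_lit 0x9600000000000000)
 (.cons 32 (nat_lit 0xed12000000000000dd22)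
 (.cons 8 (nat_lit 0xb0006a002c00a6000000aa00cc0066)
 (.cons 4 (nat_lit 0x2000000000000000000000000000000)
 (.cons 2 (nat_lit 0x2100000210000000000000011000000)
 (.cons 1 (nat_lit 0x14000110401001100000110000001100)
 (.cons 2 (nat_lit 0x2000000200000000000000000000000)
 (.cons 4 (nat_lit 0x2000000000000000000000000000000)
 (.cons 8 (nat_lit 0x300022002400220000002200440022)
 (.cons 32 (nat_lit 0xcc00000000000000cc00)
 (.cons 64 (nat_lit 0x9600000000000000)
 .nil)))))))))))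
noncomputable def a4 : Net := (.cons 64 (nat_lit 0xf00000000000000)
 (.cons 32 (nat_lit 0xff0f0f00000000000f0f0f0)
 (.cons 4 (nat_lit 0xc0c0c000c0c0c000c0c0c000c0c0c)
 (.cons 2 (nat_lit 0x3300303030330300003303000300303)
 (.cons 1 (nat_lit 0x5500505050550500005505000500505)
 (.cons 4 (nat_lit 0xc0c0c000c0c0c000c0c0c000c0c0c)
 (.cons 32 (nat_lit 0xf0f0f00000000000f0f0f0)
 (.cons 64 (nat_lit 0xf00000000000000)
 .nil))))))))
noncomputable def a5 : Net := (.cons 64 (nat_lit 0x6600000000000000)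
 (.cons 32 (nat_lit 0xff0000000000000099000000)
 (.cons 8 (nat_lit 0xc900cc00d000cc009900cc000000cc)
 (.cons 4 (nat_lit 0x40000000000000000000000)
 (.cons 2 (nat_lit 0x10021221022022220022221100002222)
 (.cons 1 (nat_lit 0x544041140000000000001144)
 (.cons 2 (nat_lit 0x22022220000000000002222)
 (.cons 4 (nat_lit 0x40000000000000000000000)
 (.cons 8 (nat_lit 0x4800cc00d000cc008800cc000000cc)
 (.cons 32 (nat_lit 0xff0000000000000099000000)
 (.cons 64 (nat_lit 0x6600000000000000)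
 .nil)))))))))))
noncomputable def a6 : Net := (.cons 64 (nat_lit 0x3c00000000000000)
 (.cons 32 (nat_lit 0x6600990000000000660099)
 (.cons 16 (nat_lit 0x30aa0000ccaa000000aa0000ccaa)
 (.cons 4 (nat_lit 0xc000000000000000000000000000000)
 (.cons 2 (nat_lit 0x30003000030030000000000033000000)
 (.cons 1 (nat_lit 0x50445011054450110044001155440011)
 (.cons 4 (nat_lit 0xc000000000000000000000000000000)
 (.cons 16 (nat_lit 0x30aa0000ccaa000000aa0000ccaa)
 (.cons 64 (nat_lit 0x3c00000000000000)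
 .nil)))))))))
noncomputable def a7 : Net := (.cons 64 (nat_lit 0xaf5f9f000000)
 (.cons 32 (nat_lit 0xbd42000000000000be41)
 (.cons 8 (nat_lit 0xd800b000e4009c00d400b800e8)
 (.cons 4 (nat_lit 0xc08060a040c000a040c0a080c08)
 (.cons 2 (nat_lit 0x2122100221220202121220202222)
 (.cons 1 (nat_lit 0x1010001140400011040111140401)
 (.cons 2 (nat_lit 0x2020000220200002020220200202)
 (.cons 4 (nat_lit 0xc08040a040c000a040c0a080c08)
 (.cons 8 (nat_lit 0xc000b000c0009800c000a000c0)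
 (.cons 32 (nat_lit 0x3c000000000000003c00)
 (.cons 64 (nat_lit 0xaf5f9f000000)
 .nil)))))))))))
noncomputable def a8 : Net := (.cons 64 (nat_lit 0x55a5aacc3c5a0f0f)
 (.cons 32 (nat_lit 0xff00000000000000ff000000)
 (.cons 16 (nat_lit 0x69b800005a5000006b1c00005afa)
 (.cons 8 (nat_lit 0xaa00c100af006c00e7002e00f00033)
 (.cons 4 (nat_lit 0xc080d050a050c0805030c0706050802)
 (.cons 2 (nat_lit 0x2030231131203033333210222102121)
 (.cons 1 (nat_lit 0x45551414050541145104411514501545)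
 (.cons 2 (nat_lit 0x20002000000022000202222020000000)
 (.cons 4 (nat_lit 0x400040e0000080800080c080c000208)
 (.cons 8 (nat_lit 0x8000c200a0009c002e00180000009c)
 (.cons 16 (nat_lit 0x898200005fea00001e20000050e0)
 (.cons 32 (nat_lit 0xff00000000000000ff000000)
 (.cons 64 (nat_lit 0x55df0f8f005aaf00)
 .nil)))))))))))))
noncomputable def a9 : Net := (.cons 64 (nat_lit 0xaaf65fffef000000)
 (.cons 32 (nat_lit 0xea7ed7c000000000babed700)
 (.cons 16 (nat_lit 0xf74000087960000c3b1000005f0)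
 (.cons 8 (nat_lit 0xad0010009500f2007100d800890050)
 (.cons 4 (nat_lit 0x40d080c08000e0d010204050d010404)
 (.cons 2 (nat_lit 0x200200220003000100023031000000)
 (.cons 1 (nat_lit 0x40044010100401040400001010000010)
 (.cons 2 (nat_lit 0x2000200002020000000)
 (.cons 4 (nat_lit 0x80c0002020004000800080400000002)
 (.cons 8 (nat_lit 0xa000d800940020001400cc00880010)
 (.cons 16 (nat_lit 0x47f000008796000047a4000005f0)
 (.cons 32 (nat_lit 0x4aff960000000000baff9600)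
 (.cons 64 (nat_lit 0xaaff5affef000000)
 .nil)))))))))))))
noncomputable def a10 : Net := (.cons 64 (nat_lit 0xf2f6f6f2f0f1f4)
 (.cons 32 (nat_lit 0xaadd88000000000015cf8182)
 (.cons 16 (nat_lit 0xa84f000091f20000a5d90000428c)
 (.cons 8 (nat_lit 0x8800aa0054002d0045004100f600b0)
 (.cons 4 (nat_lit 0x809090d080a02020d0a0f07000f010c)
 (.cons 2 (nat_lit 0x22302000101110013133202303211112)
 (.cons 1 (nat_lit 0x454040040114400054044450100054)
 (.cons 2 (nat_lit 0x202000000000000000002000000002)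
 (.cons 4 (nat_lit 0x800040c08020c0200060008)
 (.cons 8 (nat_lit 0x800200004007800a4004000d80044)
 (.cons 16 (nat_lit 0x88a60000919a000015160000c962)
 (.cons 32 (nat_lit 0xaaed8800000000008e81ee74)
 (.cons 64 (nat_lit 0x509f0f00606f0)
 .nil)))))))))))))
noncomputable def a11 : Net := (.cons 64 (nat_lit 0xcff009600ff00)
 (.cons 32 (nat_lit 0xff0d0e00000000006c0e0d0)
 (.cons 8 (nat_lit 0x3800c80098003b00900037003c00c4)
 (.cons 4 (nat_lit 0x20c0c06080d0a0c00090c060e0c0a0c)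
 (.cons 2 (nat_lit 0x3031222202222000302121210132222)
 (.cons 1 (nat_lit 0x15450044104050140000144400050014)
 (.cons 2 (nat_lit 0x22202000220000002200000022)
 (.cons 4 (nat_lit 0x20c0c00080c000c00080c00040c000c)
 (.cons 8 (nat_lit 0x3800c0009800c0009000c0002800c0)
 (.cons 32 (nat_lit 0xff0d0e00000000006c0e0d0)
 (.cons 64 (nat_lit 0xcff009600ff00)
 .nil)))))))))))
noncomputable def a12 : Net := (.cons 64 (nat_lit 0xff0ff0f00f0ff0f0)
 (.cons 32 (nat_lit 0x993ce2690000000093f3ad5a)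
 (.cons 16 (nat_lit 0x3d4400004511000071000000b9cc)
 (.cons 8 (nat_lit 0xe700ed006b004c00e50058002100e0)
 (.cons 4 (nat_lit 0x500050908080f0d0a0908060e050c04)
 (.cons 2 (nat_lit 0x30301123011022111032313232102010)
 (.cons 1 (nat_lit 0x14401440400414140410101010040410)
 (.cons 2 (nat_lit 0x202220200202020220202020020000)
 (.cons 4 (nat_lit 0x2080c04000608080a080e0a0a0400)
 (.cons 8 (nat_lit 0xbe004a00ee00520004004400180088)
 (.cons 16 (nat_lit 0x5314000018740000e11c0000dd10)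
 (.cons 32 (nat_lit 0xa300242800000000933c0428)
 (.cons 64 (nat_lit 0xfff00f0ff00ff0f0)
 .nil)))))))))))))
noncomputable def a13 : Net := (.cons 64 (nat_lit 0xefecfccc4fdcbccc)
 (.cons 32 (nat_lit 0x290d4ecb00000000cce1c378)
 (.cons 16 (nat_lit 0xce7c0000dbd9000085bd0000bc62)
 (.cons 8 (nat_lit 0x39009a00c900c100b90020002100e0)
 (.cons 4 (nat_lit 0x6080608030c0c04050e08060c060f0c)
 (.cons 2 (nat_lit 0x12200230023000130330301230120230)
 (.cons 1 (nat_lit 0x45041014404040014110004540100400)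
 (.cons 2 (nat_lit 0x20002000020022200000000000000)
 (.cons 4 (nat_lit 0x2000a00080c080800020c0a040a0c08)
 (.cons 8 (nat_lit 0x7c00280060006800a80000009000a0)
 (.cons 16 (nat_lit 0x67e00000b0a400005d900000bf06)
 (.cons 32 (nat_lit 0xa6c3c81800000000cc014328)
 (.cons 64 (nat_lit 0xeff73ff3fac08000)
 .nil)))))))))))))
noncomputable def a14 : Net := (.cons 64 (nat_lit 0x55f95f0ca0555fa0)
 (.cons 32 (nat_lit 0xff00000000000000ff000000)
 (.cons 16 (nat_lit 0x330c0000c4130000c30300005a7c)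
 (.cons 8 (nat_lit 0xf000f000d1007400f000f000f000f0)
 (.cons 4 (nat_lit 0xe0000000d0e0707070f0f0f0a000a00)
 (.cons 2 (nat_lit 0x222212111211210311111230023222)
 (.cons 1 (nat_lit 0x4441041041401140444011400515004)
 (.cons 2 (nat_lit 0x2022022002000020222022000020002)
 (.cons 4 (nat_lit 0x4000a000804020402000a0000000a00)
 (.cons 8 (nat_lit 0x4000100000000000000050)
 (.cons 16 (nat_lit 0x484c000091c8000084ce0000f04c)
 (.cons 32 (nat_lit 0xff00000000000000ff000000)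
 (.cons 64 (nat_lit 0x55f05af05af05af0)
 .nil)))))))))))))
noncomputable def a15 : Net := (.cons 64 (nat_lit 0xdd00000000000000)
 (.cons 32 (nat_lit 0xff00000000000000bb000000)
 (.cons 16 (nat_lit 0xd6ac00005aaa000011cc000011cc)
 (.cons 8 (nat_lit 0xf000f000f00d80099000d00110044)
 (.cons 4 (nat_lit 0x50408030300000d00020b0b07010404)
 (.cons 2 (nat_lit 0x33131120031031232222100100220022)
 (.cons 1 (nat_lit 0x10445105115000000044400400110044)
 (.cons 2 (nat_lit 0x20220000020000000000000000220022)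
 (.cons 4 (nat_lit 0x2080000020a08000000040400000000)
 (.cons 8 (nat_lit 0xf000f0000a0078008800d000000000)
 (.cons 16 (nat_lit 0x5e2a00008aae000022cc000011cc)
 (.cons 32 (nat_lit 0xff00000000000000bb000000)
 (.cons 64 (nat_lit 0xdd00000000000000)
 .nil)))))))))))))
noncomputable def a16 : Net := (.cons 64 (nat_lit 0xff00000000000000)
 (.cons 32 (nat_lit 0xff0000ff0000000000000000)
 (.cons 16 (nat_lit 0xffff0000ffff0000000000000000)
 (.cons 8 (nat_lit 0xff00ff00ff00ff0000000000000000)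
 (.cons 4 (nat_lit 0xc0a00050f0a000a0009050c0a050500)
 (.cons 2 (nat_lit 0x21000021120000210000000000000000)
 (.cons 1 (nat_lit 0x11141414115050140000000000000000)
 (.cons 2 (nat_lit 0x22000022220000220000000000000000)
 (.cons 4 (nat_lit 0xa000a000a000a0c0000000000000000)
 (.cons 64 (nat_lit 0xff00000000000000)
 .nil))))))))))
noncomputable def a17 : Net := (.cons 64 (nat_lit 0xff00000000000000)
 (.cons 32 (nat_lit 0xff00000000000000ff000000)
 (.cons 16 (nat_lit 0xffff0000ffff00000000)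
 (.cons 4 (nat_lit 0x30a0c050c05000a0c0a0c050005000a)
 (.cons 2 (nat_lit 0x220311302230110011002200110022)
 (.cons 1 (nat_lit 0x5500550055005500000000)
 (.cons 4 (nat_lit 0xc0000000c000000000000000000)
 (.cons 32 (nat_lit 0xff00000000000000ff000000)
 (.cons 64 (nat_lit 0xff00000000000000)
 .nil)))))))))
noncomputable def a18 : Net := (.cons 64 (nat_lit 0x7700000000000000)
 (.cons 32 (nat_lit 0x7700000000000000ee000000)
 (.cons 16 (nat_lit 0xf0f000004eaa0000f0f0000050f0)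
 (.cons 8 (nat_lit 0x1a005a002a0096009400b60050005a)
 (.cons 4 (nat_lit 0xc0801030c060c020c07070c000f0f00)
 (.cons 2 (nat_lit 0x1000010100000010200002000000000)
 (.cons 1 (nat_lit 0x54040115411414414405504400055000)
 (.cons 2 (nat_lit 0x20000000200000000000000000000)
 (.cons 4 (nat_lit 0xa0c02080c060a0a000a0a00000a0a00)
 (.cons 8 (nat_lit 0xde0048002a009600dc00320050005a)
 (.cons 16 (nat_lit 0xf0f000004daa0000f0f0000050f0)
 (.cons 32 (nat_lit 0x7700000000000000ee000000)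
 (.cons 64 (nat_lit 0x7700000000000000)
 .nil)))))))))))))
noncomputable def a19 : Net := (.cons 64 (nat_lit 0xee00000000000000)
 (.cons 32 (nat_lit 0xee00000000000000ee000000)
 (.cons 16 (nat_lit 0x995a00008daa000099aa000055aa)
 (.cons 8 (nat_lit 0x3d00ac003500f800dd00cc00550000)
 (.cons 4 (nat_lit 0x2000c0c0000000000000000)
 (.cons 2 (nat_lit 0x32000020002030202200000000000000)
 (.cons 1 (nat_lit 0x44114414104544144411444400550000)
 (.cons 2 (nat_lit 0x20000000000020000000000000000000)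
 (.cons 4 (nat_lit 0xc0c0000000000000000)
 (.cons 8 (nat_lit 0xc00c00030000800cc000000000000)
 (.cons 16 (nat_lit 0xb54a00004daa000055aa000055aa)
 (.cons 32 (nat_lit 0xee00000000000000ee000000)
 (.cons 64 (nat_lit 0xee00000000000000)
 .nil)))))))))))))
noncomputable def ns0 : List Net := [a0, a1, a2, a3, a4, a5, a6, a7]
noncomputable def ws : List (List ℕ) :=
  [W (nat_lit 0x180e0240304007030050100a034050180b0200f),
  W (nat_lit 0x10020140f0280100c0904006),
  W (nat_lit 0x50120481204c12),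
  W (nat_lit 0x1304c130441404414048140441304812),
  W (nat_lit 0x5c1605816),
  W (nat_lit 0x601505c1605816),
  W (nat_lit 0x6c1b0681b0641b),
  W (nat_lit 0x1906c1906c190701a),
  W (nat_lit 0x1d07c1d0741d),
  W (nat_lit 0x78200801d07c1d),
  W (nat_lit 0x1f07c1f0901f),
  W (nat_lit 0x230841f)]
noncomputable def ns : List Net := [a0, a1, a2, a3, a4, a5, a6, a7, a8, a9, a10, a11, a12, a13, a14, a15, a16, a17, a18, a19]
noncomputable def D : List (ℕ × List ℕ) := app [] (mkDefs ws 8)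
noncomputable def chk : List (List ℕ × List ℕ) → Bool := P.relsB ns
noncomputable def V : List ℕ :=
  [(nat_lit 0x69aac3aaa5aa0faa99aa33aa55aaff0096553c555a55f0556655cc55aa5500),
  (nat_lit 0xaac3aaccaa0faaccaa33aaccaaffaa00553c553355f0553355cc5533550055),
  (nat_lit 0xcccccc0fccccccf0ccccccffcccccc00333333f03333330f33333300333333),
  (nat_lit 0xf0f0f0f0f0f0f0fff0f0f0f0f0f0f0000f0f0f0f0f0f0f000f0f0f0f0f0f0f),
  (nat_lit 0xff00ff00ff00ff00ff00ff00ff00ff0000ff00ff00ff00ff00ff00ff00ff00),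
  (nat_lit 0xffff0000ffff0000ffff0000ffff00000000ffff0000ffff0000ffff0000ff),
  (nat_lit 0xffffffff00000000ffffffff0000000000000000ffffffff00000000ffffff),
  (nat_lit 0xffffffffffffffff00000000000000000000000000000000ffffffffffffff)]
noncomputable def ms : List (List (List ℕ) × List (List ℕ)) :=
  [([[0, 0, 0, 0, 1, 1, 0, 0], [1, 1, 0, 0, 1, 1, 0, 0], [0, 0, 1, 0, 0, 0, 0, 0], [0, 0, 0, 1, 0, 0, 0, 0], [1, 0, 0, 0, 0, 1, 0, 0], [0, 0, 0, 0, 0, 1, 0, 0], [0, 0, 0, 0, 0, 0, 1, 0], [0, 0, 0, 0, 0, 0, 0, 1]],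
   [[0, 0, 0, 0, 1, 1, 0, 0], [1, 1, 0, 0, 1, 1, 0, 0], [0, 0, 1, 0, 0, 0, 0, 0], [0, 0, 0, 1, 0, 0, 0, 0], [1, 0, 0, 0, 0, 1, 0, 0], [0, 0, 0, 0, 0, 1, 0, 0], [0, 0, 0, 0, 0, 0, 1, 0], [0, 0, 0, 0, 0, 0, 0, 1]]),
  ([[1, 0, 0, 0, 0, 0, 0, 0], [0, 1, 0, 0, 0, 0, 0, 0], [0, 0, 1, 0, 0, 0, 0, 0], [1, 1, 1, 0, 0, 0, 0, 1], [1, 1, 1, 1, 1, 0, 0, 1], [1, 1, 1, 1, 0, 1, 0, 1], [1, 1, 1, 1, 0, 0, 1, 1], [1, 1, 1, 1, 0, 0, 0, 0]],
   [[1, 0, 0, 0, 0, 0, 0, 0], [0, 1, 0, 0, 0, 0, 0, 0], [0, 0, 1, 0, 0, 0, 0, 0], [1, 1, 1, 0, 0, 0, 0, 1], [1, 1, 1, 1, 1, 0, 0, 1], [1, 1, 1, 1, 0, 1, 0, 1], [1, 1, 1, 1, 0, 0, 1, 1], [1, 1, 1, 1, 0, 0, 0, 0]]),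
  ([[0, 0, 1, 0, 1, 0, 0, 1], [0, 1, 0, 0, 0, 0, 0, 0], [0, 0, 1, 0, 0, 0, 0, 0], [1, 0, 1, 1, 1, 0, 0, 1], [1, 0, 1, 0, 0, 0, 0, 1], [0, 0, 0, 0, 0, 1, 0, 0], [1, 0, 1, 0, 1, 0, 1, 1], [0, 0, 0, 0, 0, 0, 0, 1]],
   [[0, 0, 1, 0, 1, 0, 0, 1], [0, 1, 0, 0, 0, 0, 0, 0], [0, 0, 1, 0, 0, 0, 0, 0], [1, 0, 1, 1, 1, 0, 0, 1], [1, 0, 1, 0, 0, 0, 0, 1], [0, 0, 0, 0, 0, 1, 0, 0], [1, 0, 1, 0, 1, 0, 1, 1], [0, 0, 0, 0, 0, 0, 0, 1]]),
  ([[0, 1, 1, 0, 1, 0, 0, 0], [0, 1, 0, 0, 0, 0, 0, 0], [0, 0, 1, 0, 0, 0, 0, 0], [0, 0, 0, 1, 0, 0, 0, 0], [1, 1, 1, 0, 0, 0, 0, 0], [1, 1, 1, 0, 1, 1, 0, 0], [1, 1, 1, 0, 1, 0, 1, 0], [0, 0, 0, 0, 0, 0, 0, 1]],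
   [[0, 1, 1, 0, 1, 0, 0, 0], [0, 1, 0, 0, 0, 0, 0, 0], [0, 0, 1, 0, 0, 0, 0, 0], [0, 0, 0, 1, 0, 0, 0, 0], [1, 1, 1, 0, 0, 0, 0, 0], [1, 1, 1, 0, 1, 1, 0, 0], [1, 1, 1, 0, 1, 0, 1, 0], [0, 0, 0, 0, 0, 0, 0, 1]]),
  ([[1, 0, 1, 0, 1, 1, 1, 1], [0, 1, 1, 0, 1, 1, 1, 1], [0, 0, 0, 0, 1, 1, 1, 1], [0, 0, 1, 1, 1, 1, 1, 1], [0, 0, 0, 0, 1, 0, 0, 0], [0, 0, 0, 0, 0, 1, 0, 0], [0, 0, 1, 0, 1, 1, 0, 1], [0, 0, 0, 0, 0, 0, 0, 1]],
   [[1, 0, 1, 0, 1, 1, 1, 1], [0, 1, 1, 0, 1, 1, 1, 1], [0, 0, 0, 0, 1, 1, 1, 1], [0, 0, 1, 1, 1, 1, 1, 1], [0, 0, 0, 0, 1, 0, 0, 0], [0, 0, 0, 0, 0, 1, 0, 0], [0, 0, 1, 0, 1, 1, 0, 1], [0, 0, 0, 0, 0, 0, 0, 1]]),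
  ([[0, 1, 0, 0, 1, 0, 1, 0], [0, 1, 0, 0, 0, 0, 0, 0], [1, 1, 1, 0, 1, 0, 1, 0], [0, 0, 0, 1, 0, 0, 0, 0], [1, 1, 0, 0, 0, 0, 1, 0], [1, 1, 0, 0, 1, 1, 1, 0], [0, 0, 0, 0, 0, 0, 1, 0], [0, 0, 0, 0, 0, 0, 0, 1]],
   [[0, 1, 0, 0, 1, 0, 1, 0], [0, 1, 0, 0, 0, 0, 0, 0], [1, 1, 1, 0, 1, 0, 1, 0], [0, 0, 0, 1, 0, 0, 0, 0], [1, 1, 0, 0, 0, 0, 1, 0], [1, 1, 0, 0, 1, 1, 1, 0], [0, 0, 0, 0, 0, 0, 1, 0], [0, 0, 0, 0, 0, 0, 0, 1]]),
  ([[1, 1, 1, 0, 1, 1, 0, 0], [0, 0, 1, 0, 1, 1, 0, 0], [0, 0, 1, 0, 0, 0, 0, 0], [0, 0, 0, 1, 0, 0, 0, 0], [0, 0, 0, 0, 1, 0, 0, 0], [0, 1, 1, 0, 1, 0, 0, 0], [0, 1, 1, 0, 1, 1, 1, 0], [0, 0, 0, 0, 0, 0, 0, 1]],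
   [[1, 1, 1, 0, 1, 1, 0, 0], [0, 0, 1, 0, 1, 1, 0, 0], [0, 0, 1, 0, 0, 0, 0, 0], [0, 0, 0, 1, 0, 0, 0, 0], [0, 0, 0, 0, 1, 0, 0, 0], [0, 1, 1, 0, 1, 0, 0, 0], [0, 1, 1, 0, 1, 1, 1, 0], [0, 0, 0, 0, 0, 0, 0, 1]]),
  ([[1, 0, 0, 0, 0, 0, 0, 0], [1, 0, 1, 1, 0, 1, 1, 1], [1, 1, 0, 1, 0, 1, 1, 1], [1, 1, 1, 0, 0, 1, 1, 1], [1, 1, 1, 1, 1, 1, 1, 1], [1, 1, 1, 1, 0, 0, 1, 1], [1, 1, 1, 1, 0, 1, 0, 1], [1, 1, 1, 1, 0, 1, 1, 0]],
   [[1, 0, 0, 0, 0, 0, 0, 0], [1, 0, 1, 1, 0, 1, 1, 1], [1, 1, 0, 1, 0, 1, 1, 1], [1, 1, 1, 0, 0, 1, 1, 1], [1, 1, 1, 1, 1, 1, 1, 1], [1, 1, 1, 1, 0, 0, 1, 1], [1, 1, 1, 1, 0, 1, 0, 1], [1, 1, 1, 1, 0, 1, 1, 0]])]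
noncomputable def ps : List (List ℕ × List ℕ) :=
  [(W (nat_lit 0x180b0200f), W (nat_lit 0x100a03405)), (W (nat_lit 0x904006), W (nat_lit 0x403))]
noncomputable def G_v0 : Lev :=
  ⟨0, 120, sg (W (nat_lit 0x1104c110441104411044130441104c1104c11044130441304411)), [[20], [22]], 2, 2⟩
noncomputable def G_v1 : Lev :=
  ⟨9, 56, sg (W (nat_lit 0x541705415054170541505417054150541505c1505415)), [[24], [26]], 4, 2⟩
noncomputable def G_v2 : Lev :=
  ⟨2, 27, sg (W (nat_lit 0x1b0641906c1906c1906c19)), [[28], [30]], 6, 2⟩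
noncomputable def G_v3 : Lev :=
  ⟨4, 10, sg (W (nat_lit 0x741d0741f0741d)), [[32], [30], [34]], 8, 2⟩
noncomputable def G_v4 : Lev :=
  ⟨24, 8, sg (W (nat_lit 0x8c1f08c1f)), [[36], [38]], 10, 2⟩
noncomputable def G_v5 : Lev :=
  ⟨56, 4, sg (W (nat_lit 0x2709425)), [[38]], 12, 0⟩
noncomputable def G_v6 : Lev :=
  ⟨1, 3, sg (W (nat_lit 0x9c27)), [], 12, 0⟩
noncomputable def G_vs7 : List Lev :=
  []
noncomputable def G_vs6 : List Lev :=
  G_v6 :: G_vs7
noncomputable def G_vs5 : List Lev :=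
  G_v5 :: G_vs6
noncomputable def G_vs4 : List Lev :=
  G_v4 :: G_vs5
noncomputable def G_vs3 : List Lev :=
  G_v3 :: G_vs4
noncomputable def G_vs2 : List Lev :=
  G_v2 :: G_vs3
noncomputable def G_vs1 : List Lev :=
  G_v1 :: G_vs2
noncomputable def G_vs : List Lev :=
  G_v0 :: G_vs1

theorem zv0 : vecB (tabP 2).q 1 8 P V = true := by decide +kernel
theorem zv1 : Nat.beq (lenL ms) (lenL ns0) = true := by decide +kernel
theorem zv2 : allL ((tabP 2).actB 1 8 P V) (zp Net.nil ms ns0) = true := by decide +kernel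
theorem zv3 : (tabP 2).basB 8 P V [0, 1, 2, 4, 8, 9, 24, 56] [[0, 1, 1, 1, 1, 1, 1, 1], [0, 1, 0, 0, 0, 1, 0, 0], [0, 0, 1, 0, 0, 0, 1, 0], [0, 0, 0, 1, 0, 0, 0, 1], [1, 0, 0, 0, 1, 1, 0, 0], [1, 0, 0, 0, 1, 0, 0, 0], [0, 0, 0, 0, 0, 0, 1, 0], [0, 0, 0, 0, 0, 0, 0, 1]] = true := by decide +kernel
theorem zv4 : allL ((tabP 2).quadB 8 (aPlus 4)) ms = true := by decide +kernel
theorem zr5 : chk (zp [] [[16], [18]] (mapL comW ps)) = true := by decide +kernel
theorem zc6 : P.chainB ns D G_vs [[16], [18]] = true := by decide +kernel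
theorem zk7 : allL (keepB P.n P.N) ns0 = true := by decide +kernel
theorem ze8 : extB ns0 ns 8 ws [] = true := by decide +kernel
theorem zn9 : P.netsB ns (mkDefs ws 8) = true := by decide +kernel

section
variable {G X : Type*} [Group G] [MulAction G X] {e : ℕ → X} {gs : List G}

theorem keep0 : allL (keepB P.n P.N) ns0 = true := zk7

theorem len {k} (c : Ctx P e gs ns0 [] k) : gs.length = 8 := c.len ze8

theorem ctx0 {k} (c : Ctx P e gs ns0 [] k) : Ctx P e (ext gs ws) ns D chk0 :=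
  c.ext rfl ze8 zn9

theorem ctx {k} (c : Ctx P e gs ns0 [] k) {H : Subgroup G} (hF : Faithful e P.n H) (hH : ∀ g ∈ gs, g ∈ H) :
    Ctx P e (ext gs ws) ns D chk :=
  (ctx0 c).withB hF (mem_of_mem_ext hH _)

theorem hV : vecB (tabP 2).q 1 8 P V = true := zv0
theorem hact : allL ((tabP 2).actB 1 8 P V) (zp Net.nil ms ns0) = true := zv2
theorem hinv : allL ((tabP 2).invB 8) ms = true := actB_invB hact
theorem base {F : Type*} [Field F] {el : ℕ → F} (h : FC (tabP 2) el) : Ctx P (vecOf el (sPlus 4) (tabP 2).q P.N V) (List.map (glF el (sPlus 4)) ms) ns0 [] chk0 :=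
  ctx_mat h (ix_plus 4) hP hV zv1 hact
theorem faith {F : Type*} [Field F] {el : ℕ → F} (h : FC (tabP 2) el) : Faithful (vecOf el (sPlus 4) (tabP 2).q P.N V) P.n (⊤ : Subgroup (GL (Fin 4 ⊕ Fin 4) F)) :=
  faithful_vecOf h (ix_plus 4) hP hV zv3
theorem c1 {F : Type*} [Field F] {el : ℕ → F} (h : FC (tabP 2) el) : Ctx P (vecOf el (sPlus 4) (tabP 2).q P.N V) (ext (List.map (glF el (sPlus 4)) ms) ws) ns D chk :=
  ctx (base h) (faith h) fun _ _ => trivial

theorem hq : allL ((tabP 2).quadB 8 (aPlus 4)) ms = true := zv4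

theorem hcom (c : Ctx P e gs ns D chk) :
    Rels gs (zp [] [[16], [18]] (mapL comW ps)) :=
  (c.rels _ zr5)

theorem G_c : P.chainB ns D G_vs [[16], [18]] = true :=
  zc6

theorem G_o : prodL G_vs 1 = 174182400 := by decide +kernel

theorem G_lb (c : Ctx P e gs ns D chk) :
    LB (subW gs [[16], [18]]) 174182400 :=
  c.lb G_c G_o

end
end CL.Std.O8p2.M

namespace CL.Std.O8p2
open CL.PG

def P : Par := ⟨120, 128, 7, 3⟩
theorem hP : P.Ok := by decide
noncomputable def a0 : Net := (.cons 64 (nat_lit 0x55a5aacc3c5a0f0f)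
 (.cons 32 (nat_lit 0xff00000000000000ff000000)
 (.cons 16 (nat_lit 0x69b800005a5000006b1c00005afa)
 (.cons 8 (nat_lit 0xaa00c100af006c00e7002e00f00033)
 (.cons 4 (nat_lit 0xc080d050a050c0805030c0706050802)
 (.cons 2 (nat_lit 0x2030231131203033333210222102121)
 (.cons 1 (nat_lit 0x45551414050541145104411514501545)
 (.cons 2 (nat_lit 0x20002000000022000202222020000000)
 (.cons 4 (nat_lit 0x400040e0000080800080c080c000208)
 (.cons 8 (nat_lit 0x8000c200a0009c002e00180000009c)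
 (.cons 16 (nat_lit 0x898200005fea00001e20000050e0)
 (.cons 32 (nat_lit 0xff00000000000000ff000000)
 (.cons 64 (nat_lit 0x55df0f8f005aaf00)
 .nil)))))))))))))
noncomputable def a1 : Net := (.cons 64 (nat_lit 0xaaf65fffef000000)
 (.cons 32 (nat_lit 0xea7ed7c000000000babed700)
 (.cons 16 (nat_lit 0xf74000087960000c3b1000005f0)
 (.cons 8 (nat_lit 0xad0010009500f2007100d800890050)
 (.cons 4 (nat_lit 0x40d080c08000e0d010204050d010404)
 (.cons 2 (nat_lit 0x200200220003000100023031000000)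
 (.cons 1 (nat_lit 0x40044010100401040400001010000010)
 (.cons 2 (nat_lit 0x2000200002020000000)
 (.cons 4 (nat_lit 0x80c0002020004000800080400000002)
 (.cons 8 (nat_lit 0xa000d800940020001400cc00880010)
 (.cons 16 (nat_lit 0x47f000008796000047a4000005f0)
 (.cons 32 (nat_lit 0x4aff960000000000baff9600)
 (.cons 64 (nat_lit 0xaaff5affef000000)
 .nil)))))))))))))
noncomputable def a2 : Net := (.cons 64 (nat_lit 0xaa865a0cf30a5310)
 (.cons 32 (nat_lit 0xea7faa1200000000a7fb8b12)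
 (.cons 16 (nat_lit 0x889800009ed70000b24700004e78)
 (.cons 8 (nat_lit 0x4003c00ab00b100900018000a002a)
 (.cons 4 (nat_lit 0xe08000d020106010a010a0205050700)
 (.cons 2 (nat_lit 0x23233001313231221130113100230)
 (.cons 1 (nat_lit 0x414014141044110001104101101010)
 (.cons 2 (nat_lit 0x2020200002200000202202002000)
 (.cons 4 (nat_lit 0xa0e0a0a000c000c0e000600040808)
 (.cons 8 (nat_lit 0x4004400a80042006000d0004c00fe)
 (.cons 16 (nat_lit 0x809a000028480000862c00005ae8)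
 (.cons 32 (nat_lit 0x4ae683c000000000f29b0780)
 (.cons 64 (nat_lit 0xaacef73cfd00c400)
 .nil)))))))))))))
noncomputable def a3 : Net := (.cons 64 (nat_lit 0xaa665a99a599a566)
 (.cons 32 (nat_lit 0xe155695500000000faaa96aa)
 (.cons 16 (nat_lit 0xe46e0000555e0000a2570000155a)
 (.cons 8 (nat_lit 0x1f000600d4008000ea00ba00fb0000)
 (.cons 4 (nat_lit 0x60c00030f0f000a0f0709050504060a)
 (.cons 2 (nat_lit 0x3202122102020112311110111102122)
 (.cons 1 (nat_lit 0x10444041105400414114140041000014)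
 (.cons 2 (nat_lit 0x20002000200022000200000000000)
 (.cons 4 (nat_lit 0xc08060a0606080a080a0a040a04080a)
 (.cons 8 (nat_lit 0x30009c0014008000e0009a00ea0050)
 (.cons 16 (nat_lit 0xecb20000f55a0000615c0000055a)
 (.cons 32 (nat_lit 0xeb00000000000000ff000000)
 (.cons 64 (nat_lit 0xaaf65ff3af05a000)
 .nil)))))))))))))
noncomputable def a4 : Net := (.cons 64 (nat_lit 0x77522cd0835a2cd0)
 (.cons 32 (nat_lit 0x47d33c340000000017835c5e)
 (.cons 16 (nat_lit 0x258a00008912000004430000b1e0)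
 (.cons 8 (nat_lit 0xc7001c008b00f1009e00bf00c000a8)
 (.cons 4 (nat_lit 0xc000d0d0c02070d0e050101010e000e)
 (.cons 2 (nat_lit 0x13020333101300201032332330100022)
 (.cons 1 (nat_lit 0x14044001410000545014410000414040)
 (.cons 2 (nat_lit 0x20002000000020002020000200000)
 (.cons 4 (nat_lit 0x8000a080a08000206040e0008040808)
 (.cons 8 (nat_lit 0xd0002800680090008000ee004000c8)
 (.cons 16 (nat_lit 0x658a00001968000093b40000112e)
 (.cons 32 (nat_lit 0x6333ccc4000000001f3c9ccc)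
 (.cons 64 (nat_lit 0x770ff05a780fa5f0)
 .nil)))))))))))))
noncomputable def a5 : Net := (.cons 64 (nat_lit 0xaaff5affa500a500)
 (.cons 32 (nat_lit 0x12cc4ccc00000000a1de8cde)
 (.cons 16 (nat_lit 0x1da2000054df00009aa800001d3c)
 (.cons 8 (nat_lit 0xa60032008c00530095008b000a00f0)
 (.cons 4 (nat_lit 0x60708090205080e0a00000f05050e0a)
 (.cons 2 (nat_lit 0x20120231302132022103111102230302)
 (.cons 1 (nat_lit 0x41001014044540410401410100140114)
 (.cons 2 (nat_lit 0x22000022000020000002000200020000)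
 (.cons 4 (nat_lit 0x4040808040806040804080a00000602)
 (.cons 8 (nat_lit 0x3c007000d000d400a0005e00080030)
 (.cons 16 (nat_lit 0x9f2800007e940000afb0000010f0)
 (.cons 32 (nat_lit 0x38cccccc00000000b496cccc)
 (.cons 64 (nat_lit 0xaa5653a3a3a5a050)
 .nil)))))))))))))
noncomputable def a6 : Net := (.cons 64 (nat_lit 0x33fcf90606f0f55a)
 (.cons 32 (nat_lit 0xf700000000000000df000000)
 (.cons 16 (nat_lit 0x8dcc0000e4cc00006dac0000c4cc)
 (.cons 8 (nat_lit 0xd8006700140066003800d700640096)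
 (.cons 4 (nat_lit 0x90000000000000008000000)
 (.cons 2 (nat_lit 0x20202102122313200030011220032300)
 (.cons 1 (nat_lit 0x10044105004104101014010540011400)
 (.cons 2 (nat_lit 0x20022000002202202002000000022200)
 (.cons 4 (nat_lit 0x80000000000000008000000)
 (.cons 8 (nat_lit 0x880040009400460008004000240006)
 (.cons 16 (nat_lit 0x4ecc0000d4cc0000ee2c0000c4cc)
 (.cons 32 (nat_lit 0xf700000000000000df000000)
 (.cons 64 (nat_lit 0x33f0f0000050f000)
 .nil)))))))))))))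
noncomputable def a7 : Net := (.cons 64 (nat_lit 0x55c65a63a547aae2)
 (.cons 32 (nat_lit 0xff00000000000000ff000000)
 (.cons 16 (nat_lit 0xbe2e0000a4810000c28b000058de)
 (.cons 8 (nat_lit 0xfe00ff0000005900fb00bf0098002a)
 (.cons 4 (nat_lit 0x9070b00000c080d060a0e0b080c0208)
 (.cons 2 (nat_lit 0x10120323303110022310300232212132)
 (.cons 1 (nat_lit 0x15045104004040051040100410150014)
 (.cons 2 (nat_lit 0x20000002000000002020000020000002)
 (.cons 4 (nat_lit 0xc0804040c0e000e0c0002040004)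
 (.cons 8 (nat_lit 0xb000f000f0004c00b000b000800028)
 (.cons 16 (nat_lit 0xdca40000a5bc00001cae00005aec)
 (.cons 32 (nat_lit 0xff00000000000000ff000000)
 (.cons 64 (nat_lit 0x559000c00053cf50)
 .nil)))))))))))))
noncomputable def a8 : Net := (.cons 64 (nat_lit 0xff00000000000000)
 (.cons 32 (nat_lit 0xff00000000000000ff000000)
 (.cons 16 (nat_lit 0xffff0000ffff0000000000000000)
 (.cons 8 (nat_lit 0xff00ff0000000000ff00ff00000000)
 (.cons 4 (nat_lit 0xa06050c09050a0a0a0305030005000a)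
 (.cons 2 (nat_lit 0x3301121210330120022111100001122)
 (.cons 1 (nat_lit 0x11501414005500554444114400000000)
 (.cons 2 (nat_lit 0x22002222000000002200222200000000)
 (.cons 4 (nat_lit 0xc000000000c000000000000000000)
 (.cons 32 (nat_lit 0xff00000000000000ff000000)
 (.cons 64 (nat_lit 0xff00000000000000)
 .nil)))))))))))
noncomputable def a9 : Net := (.cons 64 (nat_lit 0xbb00000000000000)
 (.cons 32 (nat_lit 0xff00000000000000dd000000)
 (.cons 16 (nat_lit 0xff000000db800000ff0000005f0)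
 (.cons 8 (nat_lit 0x8c008600a50058001200fe00050050)
 (.cons 4 (nat_lit 0x90a06070b02080500090900000a000a)
 (.cons 2 (nat_lit 0x3202330230100211200002101011010)
 (.cons 1 (nat_lit 0x45104411001040500014410000050050)
 (.cons 2 (nat_lit 0x200002000000002200000000000)
 (.cons 4 (nat_lit 0xa0a0004000208000c08080c000a000a)
 (.cons 8 (nat_lit 0xcc008600800050001200d600000000)
 (.cons 16 (nat_lit 0xff000000eb800000ff0000005f0)
 (.cons 32 (nat_lit 0xff00000000000000dd000000)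
 (.cons 64 (nat_lit 0xbb00000000000000)
 .nil)))))))))))))
noncomputable def a10 : Net := (.cons 64 (nat_lit 0xee00000000000000)
 (.cons 32 (nat_lit 0xff00000000000000dd000000)
 (.cons 16 (nat_lit 0xcaaa00004daa0000aaaa000055aa)
 (.cons 8 (nat_lit 0xcd008c00cc00e000dd00cc00cc0000)
 (.cons 4 (nat_lit 0x40006000000000000000000)
 (.cons 2 (nat_lit 0x12203003030332302200003333330000)
 (.cons 1 (nat_lit 0x44110000411414504411000011440000)
 (.cons 2 (nat_lit 0x220000000000022220000)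
 (.cons 4 (nat_lit 0x80006000000000000000000)
 (.cons 8 (nat_lit 0xcc004c00ec008000cc00cc00cc0000)
 (.cons 16 (nat_lit 0xc6aa00008daa000066aa000055aa)
 (.cons 32 (nat_lit 0xff00000000000000dd000000)
 (.cons 64 (nat_lit 0xee00000000000000)
 .nil)))))))))))))
noncomputable def a11 : Net := (.cons 64 (nat_lit 0xee00000000000000)
 (.cons 32 (nat_lit 0xee00000000000000ee000000)
 (.cons 16 (nat_lit 0x995a00008daa000099aa000055aa)
 (.cons 8 (nat_lit 0x3d00ac003500f800dd00cc00550000)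
 (.cons 4 (nat_lit 0x2000c0c0000000000000000)
 (.cons 2 (nat_lit 0x32000020002030202200000000000000)
 (.cons 1 (nat_lit 0x44114414104544144411444400550000)
 (.cons 2 (nat_lit 0x20000000000020000000000000000000)
 (.cons 4 (nat_lit 0xc0c0000000000000000)
 (.cons 8 (nat_lit 0xc00c00030000800cc000000000000)
 (.cons 16 (nat_lit 0xb54a00004daa000055aa000055aa)
 (.cons 32 (nat_lit 0xee00000000000000ee000000)
 (.cons 64 (nat_lit 0xee00000000000000)
 .nil)))))))))))))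
noncomputable def a12 : Net := (.cons 64 (nat_lit 0xff00000000000000)
 (.cons 32 (nat_lit 0xffff00000000000000000000)
 (.cons 8 (nat_lit 0xff00ff00ff00ff0000000000000000)
 (.cons 4 (nat_lit 0x609050505060505000c09060600050a)
 (.cons 2 (nat_lit 0x12120000211200000000000000000000)
 (.cons 1 (nat_lit 0x44144114441405500000000000000000)
 (.cons 2 (nat_lit 0x22000000220000000000000000000000)
 (.cons 4 (nat_lit 0xa000a0a0a0c0a0a0000000000000000)
 (.cons 64 (nat_lit 0xff00000000000000)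
 .nil)))))))))
noncomputable def ns0 : List Net := [a0, a1]
noncomputable def ws : List (List ℕ) :=
  [W (nat_lit 0x8040040300804010020080300802),
  W (nat_lit 0x40300804),
  W (nat_lit 0x18080200602006),
  W (nat_lit 0x180701407),
  W (nat_lit 0x300902409),
  W (nat_lit 0x300c0300902c0a),
  W (nat_lit 0xd0400d0400e),
  W (nat_lit 0xf03410),
  W (nat_lit 0xe0400d03c0d),
  W (nat_lit 0x4813),
  W (nat_lit 0x1304c1604812)]
noncomputable def ns : List Net := [a0, a1, a2, a3, a4, a5, a6, a7, a8, a9, a10, a11, a12]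
noncomputable def D : List (ℕ × List ℕ) := app [] (mkDefs ws 2)
noncomputable def chk : List (List ℕ × List ℕ) → Bool := P.relsB ns
noncomputable def G_v0 : Lev :=
  ⟨0, 120, sg (W (nat_lit 0x100c010040100401004030040100c0100c01004030040300401)), [[4], [6]], 0, 2⟩
noncomputable def G_v1 : Lev :=
  ⟨9, 56, sg (W (nat_lit 0x501c0501c05014070140501c05)), [[8], [10]], 2, 2⟩
noncomputable def G_v2 : Lev :=
  ⟨2, 27, sg (W (nat_lit 0x90240902c0902c0902c09)), [[12], [14]], 4, 2⟩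
noncomputable def G_v3 : Lev :=
  ⟨4, 10, sg (W (nat_lit 0x3c0f03c0d03c0d)), [[16], [18], [20]], 6, 3⟩
noncomputable def G_v4 : Lev :=
  ⟨24, 8, sg (W (nat_lit 0x110441105411)), [[22], [24]], 9, 2⟩
noncomputable def G_v5 : Lev :=
  ⟨56, 4, sg (W (nat_lit 0x1705c19)), [[22]], 11, 0⟩
noncomputable def G_v6 : Lev :=
  ⟨1, 3, sg (W (nat_lit 0x5c17)), [], 11, 0⟩
noncomputable def G_vs7 : List Lev :=
  []
noncomputable def G_vs6 : List Lev :=
  G_v6 :: G_vs7
noncomputable def G_vs5 : List Lev :=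
  G_v5 :: G_vs6
noncomputable def G_vs4 : List Lev :=
  G_v4 :: G_vs5
noncomputable def G_vs3 : List Lev :=
  G_v3 :: G_vs4
noncomputable def G_vs2 : List Lev :=
  G_v2 :: G_vs3
noncomputable def G_vs1 : List Lev :=
  G_v1 :: G_vs2
noncomputable def G_vs : List Lev :=
  G_v0 :: G_vs1
noncomputable def zE1 : Net :=
  .nil
noncomputable def zK2 : Lk :=
  ⟨zE1, 1, 3, 1⟩

theorem zc0 : P.chainB ns D G_vs [[0], [2]] = true := by decide +kernel
theorem zl3 : zK2.relB CL.Std.O8p2.M.P CL.Std.O8p2.P CL.Std.O8p2.M.ns [[16], [18]] [[0], [2]] = true := by decide +kernel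
theorem zl4 : allL (zK2.pl CL.Std.O8p2.M.P CL.Std.O8p2.P CL.Std.O8p2.M.ns CL.Std.O8p2.ns 0) (zp [] [[16], [18]] [[0], [2]]) = true := by decide +kernel
theorem zk5 : allL (keepB P.n P.N) ns0 = true := by decide +kernel
theorem ze6 : extB ns0 ns 2 ws [] = true := by decide +kernel
theorem zn7 : P.netsB ns (mkDefs ws 2) = true := by decide +kernel

section
variable {G X : Type*} [Group G] [MulAction G X] {e : ℕ → X} {gs : List G}

theorem keep0 : allL (keepB P.n P.N) ns0 = true := zk5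

theorem len {k} (c : Ctx P e gs ns0 [] k) : gs.length = 2 := c.len ze6

theorem ctx0 {k} (c : Ctx P e gs ns0 [] k) : Ctx P e (ext gs ws) ns D chk0 :=
  c.ext rfl ze6 zn7

theorem ctx {k} (c : Ctx P e gs ns0 [] k) {H : Subgroup G} (hF : Faithful e P.n H) (hH : ∀ g ∈ gs, g ∈ H) :
    Ctx P e (ext gs ws) ns D chk :=
  (ctx0 c).withB hF (mem_of_mem_ext hH _)

instance instNe : NeZero P.n := ⟨by decide⟩
noncomputable def gs0 : List (Equiv.Perm (Fin P.n)) := permsOf P.n P.N ns0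
noncomputable def gs1 : List (Equiv.Perm (Fin P.n)) := ext gs0 ws
theorem c1 : Ctx P (eF P.n) gs1 ns D chk :=
  ctx (ctx_permsOf hP keep0) (faithful_eF _) fun _ _ => trivial

theorem G_c : P.chainB ns D G_vs [[0], [2]] = true :=
  zc0

theorem G_o : prodL G_vs 1 = 174182400 := by decide +kernel

theorem G_lb (c : Ctx P e gs ns D chk) :
    LB (subW gs [[0], [2]]) 174182400 :=
  c.lb G_c G_o

theorem rel {Γ Y : Type*} [Group Γ] [MulAction Γ Y] {e' : ℕ → Y} {cs : List Γ} {D₁ D₂ : List (ℕ × List ℕ)}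
    {k₁ k₂ : List (List ℕ × List ℕ) → Bool} (c : Ctx CL.Std.O8p2.M.P e gs CL.Std.O8p2.M.ns D₁ k₁) (c' : Ctx CL.Std.O8p2.P e' cs CL.Std.O8p2.ns D₂ k₂)
    (hF : Faithful e' CL.Std.O8p2.P.n (subW cs [[0], [2]])) :
    RelLe gs [[16], [18]] cs [[0], [2]] :=
  c.relLe (K := zK2) c' hF zl3 (fun (t : ℕ) (ht : t < 1) => match t, ht with
    | 0, _ => zl4
    | t + 1, h => absurd h (by omega))

theorem iso {F : Type*} [Field F] [Fintype F] (hF : Fintype.card F = 2) :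
    Nonempty ((subW gs1 [[0], [2]]) ≃* Cfsg.Omega F (Cfsg.quadFormPlus 4 F)) := by
  obtain ⟨el, h⟩ := Tab.exists_fc (tabP 2) (by decide +kernel) F hF
  have hc : Nat.card (Cfsg.Omega F (Cfsg.quadFormPlus 4 F)) = 174182400 := card_om_even (Cls.qfPlus 4 F) Cls.nondeg_qfPlus (h.two_eq (by decide +kernel)) (by simp) (o := 348364800) (card_o_plus hF 3 (by decide +kernel)) (by decide +kernel)
  have hK := subW_eq_range (l := [[16], [18]]) (omegaHom (Cfsg.quadFormPlus 4 F)) (omegaHom_inj _) hc (by norm_num)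
    ((subW_le_commutator (mem_of_mem_ext (forall_mem_isom h (ix_plus 4) (by decide +kernel) (quadFormPlus_eq h 4) M.hinv M.hq) _) (M.hcom (M.c1 h))).trans (range_omegaHom _).ge) (M.G_lb (M.c1 h))
  exact (rel (M.c1 h) c1 ((faithful_eF _).mono le_top)).iso_of_range (omegaHom (Cfsg.quadFormPlus 4 F)) (omegaHom_inj _) hc (by norm_num) hK (G_lb c1)
theorem card : Nat.card (subW gs1 [[0], [2]]) = 174182400 := by
  obtain ⟨F, _, _, hF⟩ := exists_field 2 1 (by norm_num)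
  replace hF : Fintype.card F = 2 := hF
  obtain ⟨el, h⟩ := Tab.exists_fc (tabP 2) (by decide +kernel) F hF
  exact (Nat.card_congr (iso hF).some.toEquiv).trans (card_om_even (Cls.qfPlus 4 F) Cls.nondeg_qfPlus (h.two_eq (by decide +kernel)) (by simp) (o := 348364800) (card_o_plus hF 3 (by decide +kernel)) (by decide +kernel))
theorem ub : UB (subW gs1 [[0], [2]]) 174182400 := UB.of_card card (by norm_num)

end
end CL.Std.O8p2

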