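/-
A standard permutation model (W-, dimension 4, field with 2 elements): degree 5, order 60.
Generated by tools/pg.
-/
import Cfsg.Agent.Spor.PGCls
import Cfsg.Agent.Spor.PGCtx

set_option autoImplicit false
set_option maxRecDepth 200000
set_option Elab.async false
set_option linter.unusedVariables false

namespace CL.Std.W4m2.M
open CL.PG

def P : Par := ⟨5, 5, 3, 2⟩
theorem hP : P.Ok := by decide
noncomputable def a0 : Net := (.cons 1 (nat_lit 0x1)
 .nil)
noncomputable def a1 : Net := (.cons 1 (nat_lit 0x4)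
 (.cons 1 (nat_lit 0x8)
 (.cons 1 (nat_lit 0x4)
 .nil)))
noncomputable def a2 : Net := (.cons 1 (nat_lit 0x5)
 (.cons 1 (nat_lit 0x2)
 (.cons 1 (nat_lit 0x5)
 .nil)))
noncomputable def a3 : Net := (.cons 1 (nat_lit 0x8)
 .nil)
noncomputable def a4 : Net := (.cons 1 (nat_lit 0x4)
 (.cons 1 (nat_lit 0xa)
 (.cons 1 (nat_lit 0x5)
 (.cons 1 (nat_lit 0x2)
 (.cons 1 (nat_lit 0x5)
 .nil)))))
noncomputable def a5 : Net := (.cons 1 (nat_lit 0x5)
 (.cons 1 (nat_lit 0xa)
 (.cons 1 (nat_lit 0x5)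
 (.cons 1 (nat_lit 0xa)
 (.cons 1 (nat_lit 0x5)
 .nil)))))
noncomputable def a6 : Net := (.cons 1 (nat_lit 0x4)
 (.cons 1 (nat_lit 0x8)
 .nil))
noncomputable def a7 : Net := (.cons 1 (nat_lit 0x2)
 (.cons 1 (nat_lit 0x4)
 (.cons 1 (nat_lit 0xa)
 .nil)))
noncomputable def ns0 : List Net := [a0, a1, a2, a3]
noncomputable def ws : List (List ℕ) :=
  [W (nat_lit 0x140101c040080400c080080600c01),
  W (nat_lit 0x200100805020010200201c070080701801),
  W (nat_lit 0x240b),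
  W (nat_lit 0x300c0280c02409)]
noncomputable def ns : List Net := [a0, a1, a2, a3, a4, a5, a6, a7]
noncomputable def D : List (ℕ × List ℕ) := app [] (mkDefs ws 4)
noncomputable def chk : List (List ℕ × List ℕ) → Bool := P.relsB ns
noncomputable def V : List ℕ :=
  [(nat_lit 0x3a2),
  (nat_lit 0x3c1),
  (nat_lit 0x28b),
  (nat_lit 0x307)]
noncomputable def ms : List (List (List ℕ) × List (List ℕ)) :=
  [([[0, 1, 0, 0], [1, 0, 0, 0], [0, 0, 1, 0], [0, 0, 0, 1]],
   [[0, 1, 0, 0], [1, 0, 0, 0], [0, 0, 1, 0], [0, 0, 0, 1]]),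
  ([[1, 0, 0, 0], [0, 1, 0, 0], [0, 0, 1, 0], [0, 0, 1, 1]],
   [[1, 0, 0, 0], [0, 1, 0, 0], [0, 0, 1, 0], [0, 0, 1, 1]]),
  ([[1, 0, 0, 0], [1, 1, 1, 0], [0, 0, 1, 0], [1, 0, 1, 1]],
   [[1, 0, 0, 0], [1, 1, 1, 0], [0, 0, 1, 0], [1, 0, 1, 1]]),
  ([[1, 0, 0, 0], [0, 1, 0, 0], [0, 0, 1, 1], [0, 0, 0, 1]],
   [[1, 0, 0, 0], [0, 1, 0, 0], [0, 0, 1, 1], [0, 0, 0, 1]])]
noncomputable def ps : List (List ℕ × List ℕ) :=
  [(W (nat_lit 0xc01), W (nat_lit 0xc0800806)), (W (nat_lit 0x70080701801), W (nat_lit 0x807))]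
noncomputable def G_v0 : Lev :=
  ⟨0, 5, sg (W (nat_lit 0x902c09)), [[12], [14]], 2, 2⟩
noncomputable def G_v1 : Lev :=
  ⟨1, 4, sg (W (nat_lit 0xd0340f)), [[12]], 4, 0⟩
noncomputable def G_v2 : Lev :=
  ⟨2, 3, sg (W (nat_lit 0x340d)), [], 4, 0⟩
noncomputable def G_vs3 : List Lev :=
  []
noncomputable def G_vs2 : List Lev :=
  G_v2 :: G_vs3
noncomputable def G_vs1 : List Lev :=
  G_v1 :: G_vs2
noncomputable def G_vs : List Lev :=
  G_v0 :: G_vs1

theorem zv0 : vecB (tabP 2).q 1 4 P V = true := by decide +kernel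
theorem zv1 : Nat.beq (lenL ms) (lenL ns0) = true := by decide +kernel
theorem zv2 : allL ((tabP 2).actB 1 4 P V) (zp Net.nil ms ns0) = true := by decide +kernel
theorem zv3 : (tabP 2).basB 4 P V [0, 1, 2, 3] [[1, 0, 1, 1], [0, 1, 1, 1], [0, 0, 1, 0], [0, 0, 0, 1]] = true := by decide +kernel
theorem zv4 : allL ((tabP 2).quadB 4 (aMinus 1 1 1)) ms = true := by decide +kernel
theorem zr5 : chk (zp [] [[8], [10]] (mapL comW ps)) = true := by decide +kernel
theorem zc6 : P.chainB ns D G_vs [[8], [10]] = true := by decide +kernel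
theorem zk7 : allL (keepB P.n P.N) ns0 = true := by decide +kernel
theorem ze8 : extB ns0 ns 4 ws [] = true := by decide +kernel
theorem zn9 : P.netsB ns (mkDefs ws 4) = true := by decide +kernel

section
variable {G X : Type*} [Group G] [MulAction G X] {e : ℕ → X} {gs : List G}

theorem keep0 : allL (keepB P.n P.N) ns0 = true := zk7

theorem len {k} (c : Ctx P e gs ns0 [] k) : gs.length = 4 := c.len ze8

theorem ctx0 {k} (c : Ctx P e gs ns0 [] k) : Ctx P e (ext gs ws) ns D chk0 :=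
  c.ext rfl ze8 zn9

theorem ctx {k} (c : Ctx P e gs ns0 [] k) {H : Subgroup G} (hF : Faithful e P.n H) (hH : ∀ g ∈ gs, g ∈ H) :
    Ctx P e (ext gs ws) ns D chk :=
  (ctx0 c).withB hF (mem_of_mem_ext hH _)

theorem hV : vecB (tabP 2).q 1 4 P V = true := zv0
theorem hact : allL ((tabP 2).actB 1 4 P V) (zp Net.nil ms ns0) = true := zv2
theorem hinv : allL ((tabP 2).invB 4) ms = true := actB_invB hact
theorem base {F : Type*} [Field F] {el : ℕ → F} (h : FC (tabP 2) el) : Ctx P (vecOf el (sMinus 1) (tabP 2).q P.N V) (List.map (glF el (sMinus 1)) ms) ns0 [] chk0 :=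
  ctx_mat h (ix_minus 1) hP hV zv1 hact
theorem faith {F : Type*} [Field F] {el : ℕ → F} (h : FC (tabP 2) el) : Faithful (vecOf el (sMinus 1) (tabP 2).q P.N V) P.n (⊤ : Subgroup (GL ((Fin 1 ⊕ Fin 1) ⊕ Fin 2) F)) :=
  faithful_vecOf h (ix_minus 1) hP hV zv3
theorem c1 {F : Type*} [Field F] {el : ℕ → F} (h : FC (tabP 2) el) : Ctx P (vecOf el (sMinus 1) (tabP 2).q P.N V) (ext (List.map (glF el (sMinus 1)) ms) ws) ns D chk :=
  ctx (base h) (faith h) fun _ _ => trivial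

theorem hq : allL ((tabP 2).quadB 4 (aMinus 1 1 1)) ms = true := zv4

theorem hcom (c : Ctx P e gs ns D chk) :
    Rels gs (zp [] [[8], [10]] (mapL comW ps)) :=
  (c.rels _ zr5)

theorem G_c : P.chainB ns D G_vs [[8], [10]] = true :=
  zc6

theorem G_o : prodL G_vs 1 = 60 := by decide +kernel

theorem G_lb (c : Ctx P e gs ns D chk) :
    LB (subW gs [[8], [10]]) 60 :=
  c.lb G_c G_o

end
end CL.Std.W4m2.M

namespace CL.Std.W4m2
open CL.PG

def P : Par := ⟨5, 5, 3, 2⟩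
theorem hP : P.Ok := by decide
noncomputable def a0 : Net := (.cons 1 (nat_lit 0x4)
 (.cons 1 (nat_lit 0xa)
 (.cons 1 (nat_lit 0x5)
 (.cons 1 (nat_lit 0x2)
 (.cons 1 (nat_lit 0x5)
 .nil)))))
noncomputable def a1 : Net := (.cons 1 (nat_lit 0x5)
 (.cons 1 (nat_lit 0xa)
 (.cons 1 (nat_lit 0x5)
 (.cons 1 (nat_lit 0xa)
 (.cons 1 (nat_lit 0x5)
 .nil)))))
noncomputable def a2 : Net := (.cons 1 (nat_lit 0x2)
 (.cons 1 (nat_lit 0x4)
 (.cons 1 (nat_lit 0xa)
 .nil)))
noncomputable def a3 : Net := (.cons 1 (nat_lit 0x4)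
 (.cons 1 (nat_lit 0x8)
 .nil))
noncomputable def ns0 : List Net := [a0, a1]
noncomputable def ws : List (List ℕ) :=
  [W (nat_lit 0x20100200802),
  W (nat_lit 0x404)]
noncomputable def ns : List Net := [a0, a1, a2, a3]
noncomputable def D : List (ℕ × List ℕ) := app [] (mkDefs ws 2)
noncomputable def chk : List (List ℕ × List ℕ) → Bool := P.relsB ns
noncomputable def G_v0 : Lev :=
  ⟨0, 5, sg (W (nat_lit 0x100c01)), [[4], [6]], 0, 2⟩
noncomputable def G_v1 : Lev :=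
  ⟨1, 4, sg (W (nat_lit 0x701405)), [[6]], 2, 0⟩
noncomputable def G_v2 : Lev :=
  ⟨2, 3, sg (W (nat_lit 0x1c07)), [], 2, 0⟩
noncomputable def G_vs3 : List Lev :=
  []
noncomputable def G_vs2 : List Lev :=
  G_v2 :: G_vs3
noncomputable def G_vs1 : List Lev :=
  G_v1 :: G_vs2
noncomputable def G_vs : List Lev :=
  G_v0 :: G_vs1
noncomputable def zE1 : Net :=
  .nil
noncomputable def zK2 : Lk :=
  ⟨zE1, 1, 2, 1⟩

theorem zc0 : P.chainB ns D G_vs [[0], [2]] = true := by decide +kernel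
theorem zl3 : zK2.relB CL.Std.W4m2.M.P CL.Std.W4m2.P CL.Std.W4m2.M.ns [[8], [10]] [[0], [2]] = true := by decide +kernel
theorem zl4 : allL (zK2.pl CL.Std.W4m2.M.P CL.Std.W4m2.P CL.Std.W4m2.M.ns CL.Std.W4m2.ns 0) (zp [] [[8], [10]] [[0], [2]]) = true := by decide +kernel
theorem zk5 : allL (keepB P.n P.N) ns0 = true := by decide +kernel
theorem ze6 : extB ns0 ns 2 ws [] = true := by decide +kernel
theorem zn7 : P.netsB ns (mkDefs ws 2) = true := by decide +kernel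

section
variable {G X : Type*} [Group G] [MulAction G X] {e : ℕ → X} {gs : List G}

theorem keep0 : allL (keepB P.n P.N) ns0 = true := zk5

theorem len {k} (c : Ctx P e gs ns0 [] k) : gs.length = 2 := c.len ze6

theorem ctx0 {k} (c : Ctx P e gs ns0 [] k) : Ctx P e (ext gs ws) ns D chk0 :=
  c.ext rfl ze6 zn7

theorem ctx {k} (c : Ctx P e gs ns0 [] k) {H : Subgroup G} (hF : Faithful e P.n H) (hH : ∀ g ∈ gs, g ∈ H) :
    Ctx P e (ext gs ws) ns D chk :=
  (ctx0 c).withB hF (mem_of_mem_ext hH _)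

instance instNe : NeZero P.n := ⟨by decide⟩
noncomputable def gs0 : List (Equiv.Perm (Fin P.n)) := permsOf P.n P.N ns0
noncomputable def gs1 : List (Equiv.Perm (Fin P.n)) := ext gs0 ws
theorem c1 : Ctx P (eF P.n) gs1 ns D chk :=
  ctx (ctx_permsOf hP keep0) (faithful_eF _) fun _ _ => trivial

theorem G_c : P.chainB ns D G_vs [[0], [2]] = true :=
  zc0

theorem G_o : prodL G_vs 1 = 60 := by decide +kernel

theorem G_lb (c : Ctx P e gs ns D chk) :
    LB (subW gs [[0], [2]]) 60 :=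
  c.lb G_c G_o

theorem rel {Γ Y : Type*} [Group Γ] [MulAction Γ Y] {e' : ℕ → Y} {cs : List Γ} {D₁ D₂ : List (ℕ × List ℕ)}
    {k₁ k₂ : List (List ℕ × List ℕ) → Bool} (c : Ctx CL.Std.W4m2.M.P e gs CL.Std.W4m2.M.ns D₁ k₁) (c' : Ctx CL.Std.W4m2.P e' cs CL.Std.W4m2.ns D₂ k₂)
    (hF : Faithful e' CL.Std.W4m2.P.n (subW cs [[0], [2]])) :
    RelLe gs [[8], [10]] cs [[0], [2]] :=
  c.relLe (K := zK2) c' hF zl3 (fun (t : ℕ) (ht : t < 1) => match t, ht with
    | 0, _ => zl4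
    | t + 1, h => absurd h (by omega))

theorem iso {F : Type*} [Field F] [Fintype F] (hF : Fintype.card F = 2) :
    Nonempty ((subW gs1 [[0], [2]]) ≃* Cfsg.Omega F (Cfsg.quadFormMinus 1 F 1 1)) := by
  obtain ⟨el, h⟩ := Tab.exists_fc (tabP 2) (by decide +kernel) F hF
  have hc : Nat.card (Cfsg.Omega F (Cfsg.quadFormMinus 1 F 1 1)) = 60 := card_om_of_lb (Cls.qfMinus 1 F 1 1) (Cls.nondeg_qfMinus _ _ (fun x y e => h.aniso (a := 1) (b := 1) (by decide +kernel) x y (by simpa only [h.zero, h.one] using e))) (by simp) (o := 120) (card_o_minus hF 1 (fun x y e => h.aniso (a := 1) (b := 1) (by decide +kernel) x y (by simpa only [h.zero, h.one] using e)) (by decide +kernel)) (by decide +kernel) ((subW_le_commutator (mem_of_mem_ext (forall_mem_isom (Q := (Cfsg.quadFormMinus 1 F 1 1)) h (ix_minus 1) (by decide +kernel) (fun v => by simpa only [h.zero, h.one] using quadFormMinus_eq h 1 1 1 v) M.hinv M.hq) _) (M.hcom (M.c1 h))).trans (range_omegaHom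 _).ge) (M.G_lb (M.c1 h))
  have hK := subW_eq_range (l := [[8], [10]]) (omegaHom (Cfsg.quadFormMinus 1 F 1 1)) (omegaHom_inj _) hc (by norm_num)
    ((subW_le_commutator (mem_of_mem_ext (forall_mem_isom (Q := (Cfsg.quadFormMinus 1 F 1 1)) h (ix_minus 1) (by decide +kernel) (fun v => by simpa only [h.zero, h.one] using quadFormMinus_eq h 1 1 1 v) M.hinv M.hq) _) (M.hcom (M.c1 h))).trans (range_omegaHom _).ge) (M.G_lb (M.c1 h))
  exact (rel (M.c1 h) c1 ((faithful_eF _).mono le_top)).iso_of_range (omegaHom (Cfsg.quadFormMinus 1 F 1 1)) (omegaHom_inj _) hc (by norm_num) hK (G_lb c1)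
theorem card : Nat.card (subW gs1 [[0], [2]]) = 60 := by
  obtain ⟨F, _, _, hF⟩ := exists_field 2 1 (by norm_num)
  replace hF : Fintype.card F = 2 := hF
  obtain ⟨el, h⟩ := Tab.exists_fc (tabP 2) (by decide +kernel) F hF
  exact (Nat.card_congr (iso hF).some.toEquiv).trans (card_om_of_lb (Cls.qfMinus 1 F 1 1) (Cls.nondeg_qfMinus _ _ (fun x y e => h.aniso (a := 1) (b := 1) (by decide +kernel) x y (by simpa only [h.zero, h.one] using e))) (by simp) (o := 120) (card_o_minus hF 1 (fun x y e => h.aniso (a := 1) (b := 1) (by decide +kernel) x y (by simpa only [h.zero, h.one] using e)) (by decide +kernel)) (by decide +kernel) ((subW_le_commutator (mem_of_mem_ext (forall_mem_isom (Q := (Cfsg.quadFormMinus 1 F 1 1)) h (ix_minus 1) (by decide +kernel) (fun v => by simpa only [h.zero, h.one] using quadFormMinus_eq h 1 1 1 v) M.hinv M.hq) _) (M.hcom (M.c1 h))).trans (range_omegaHom _).ge) (M.G_lb (M.c1 h)))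
theorem ub : UB (subW gs1 [[0], [2]]) 60 := UB.of_card card (by norm_num)

end
end CL.Std.W4m2

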