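/-
Auxiliary models for `Co1O`.
Generated by tools/pg.
-/
import Cfsg.Agent.Even.XS1
import Cfsg.Agent.Spor.PGCov
import Cfsg.Agent.Spor.PGCtx
import Cfsg.Agent.Spor.PGSearch
import Cfsg.Agent.Spor.PGStruct
import Cfsg.Agent.Spor.PGSub
import Cfsg.Agent.Spor.StdO8p2
import Cfsg.Agent.Spor.StdW4m2
import Cfsg.Agent.Spor.StdW6m2

set_option autoImplicit false
set_option maxRecDepth 200000
set_option Elab.async false
set_option linter.unusedVariables false

namespace CL.Spor.Co1O.A3.T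
open CL.PG

def P : Par := ⟨40, 40, 6, 3⟩
theorem hP : P.Ok := by decide
noncomputable def a0 : Net := (.cons 20 (nat_lit 0xc85a4)
 (.cons 10 (nat_lit 0x32b003d8)
 (.cons 5 (nat_lit 0x141200404)
 (.cons 1 (nat_lit 0x100400)
 (.cons 1 (nat_lit 0xa02840)
 (.cons 1 (nat_lit 0x2948501485)
 (.cons 1 (nat_lit 0x5094a4294a)
 (.cons 1 (nat_lit 0x9001200a0)
 (.cons 5 (nat_lit 0x1807012)
 (.cons 10 (nat_lit 0x28003f8)
 (.cons 20 (nat_lit 0x2823a)
 .nil)))))))))))
noncomputable def a1 : Net := (.cons 20 (nat_lit 0x9776d)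
 (.cons 10 (nat_lit 0xe500280)
 (.cons 5 (nat_lit 0x280705c1c)
 (.cons 1 (nat_lit 0x408000)
 (.cons 1 (nat_lit 0x5210a10000)
 (.cons 1 (nat_lit 0x2908521424)
 (.cons 1 (nat_lit 0x1084250948)
 (.cons 1 (nat_lit 0x21025090a1)
 (.cons 5 (nat_lit 0x10100000e)
 (.cons 10 (nat_lit 0x288003d0)
 (.cons 20 (nat_lit 0x70ffa)
 .nil)))))))))))
noncomputable def a2 : Net := .nil
noncomputable def a3 : Net := (.cons 20 (nat_lit 0x9852c)
 (.cons 10 (nat_lit 0x272001c8)
 (.cons 5 (nat_lit 0x38080241e)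
 (.cons 1 (nat_lit 0x200a5010a)
 (.cons 1 (nat_lit 0x29085280a4)
 (.cons 1 (nat_lit 0x1290a5014a)
 (.cons 1 (nat_lit 0x1484004a0)
 (.cons 5 (nat_lit 0xc0400c)
 (.cons 10 (nat_lit 0x25200202)
 (.cons 20 (nat_lit 0x3208a)
 .nil))))))))))
noncomputable def a4 : Net := (.cons 20 (nat_lit 0x961e8)
 (.cons 10 (nat_lit 0x15200324)
 (.cons 5 (nat_lit 0x740e07010)
 (.cons 1 (nat_lit 0x108000000)
 (.cons 1 (nat_lit 0x1294052900)
 (.cons 1 (nat_lit 0x214a129484)
 (.cons 1 (nat_lit 0x508421094a)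
 (.cons 1 (nat_lit 0x902428024)
 (.cons 5 (nat_lit 0x1400808)
 (.cons 10 (nat_lit 0x29c00204)
 (.cons 20 (nat_lit 0x8d642)
 .nil)))))))))))
noncomputable def a5 : Net := (.cons 20 (nat_lit 0x30640)
 (.cons 10 (nat_lit 0x22b00182)
 (.cons 5 (nat_lit 0x3c0003006)
 (.cons 1 (nat_lit 0x2100000400)
 (.cons 1 (nat_lit 0x5284000900)
 (.cons 1 (nat_lit 0x29481094a4)
 (.cons 1 (nat_lit 0x5094a12942)
 (.cons 1 (nat_lit 0x2100421024)
 (.cons 5 (nat_lit 0x120600c)
 (.cons 10 (nat_lit 0x11e000a4)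
 (.cons 20 (nat_lit 0xb6044)
 .nil)))))))))))
noncomputable def a6 : Net := (.cons 20 (nat_lit 0xbd40e)
 (.cons 10 (nat_lit 0x15e000ba)
 (.cons 5 (nat_lit 0x601706008)
 (.cons 1 (nat_lit 0x40001020)
 (.cons 1 (nat_lit 0x4080012940)
 (.cons 1 (nat_lit 0x2940029484)
 (.cons 1 (nat_lit 0x1294010942)
 (.cons 1 (nat_lit 0x200a008400)
 (.cons 5 (nat_lit 0x701c04018)
 (.cons 10 (nat_lit 0x28000010)
 (.cons 20 (nat_lit 0xca5e0)
 .nil)))))))))))
noncomputable def a7 : Net := (.cons 20 (nat_lit 0x4364a)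
 (.cons 10 (nat_lit 0x32001ea)
 (.cons 5 (nat_lit 0x280705814)
 (.cons 1 (nat_lit 0x2000000)
 (.cons 1 (nat_lit 0x4204840048)
 (.cons 1 (nat_lit 0x29084294a4)
 (.cons 1 (nat_lit 0x1290252842)
 (.cons 1 (nat_lit 0x2042408020)
 (.cons 5 (nat_lit 0x140201e)
 (.cons 10 (nat_lit 0x11200140)
 (.cons 20 (nat_lit 0xcc840)
 .nil)))))))))))
noncomputable def a8 : Net := (.cons 20 (nat_lit 0x30640)
 (.cons 10 (nat_lit 0x22b00182)
 (.cons 5 (nat_lit 0x3c0003006)
 (.cons 1 (nat_lit 0x2100000400)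
 (.cons 1 (nat_lit 0x5284000900)
 (.cons 1 (nat_lit 0x29481094a4)
 (.cons 1 (nat_lit 0x5094a12942)
 (.cons 1 (nat_lit 0x2100421024)
 (.cons 5 (nat_lit 0x120600c)
 (.cons 10 (nat_lit 0x11e000a4)
 (.cons 20 (nat_lit 0xb6044)
 .nil)))))))))))
noncomputable def a9 : Net := (.cons 20 (nat_lit 0x5e5da)
 (.cons 10 (nat_lit 0x1a000078)
 (.cons 5 (nat_lit 0x4c0b0340e)
 (.cons 1 (nat_lit 0x800000080)
 (.cons 1 (nat_lit 0x100004014a)
 (.cons 1 (nat_lit 0x20001214a4)
 (.cons 1 (nat_lit 0x429021284a)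
 (.cons 1 (nat_lit 0x140420020)
 (.cons 5 (nat_lit 0x80006806)
 (.cons 10 (nat_lit 0x1c200020)
 (.cons 20 (nat_lit 0xd12dc)
 .nil)))))))))))
noncomputable def a10 : Net := (.cons 20 (nat_lit 0xc2042)
 (.cons 10 (nat_lit 0x1a000c0)
 (.cons 5 (nat_lit 0x700a04802)
 (.cons 1 (nat_lit 0x40000000)
 (.cons 1 (nat_lit 0x1280050840)
 (.cons 1 (nat_lit 0x29084210a0)
 (.cons 1 (nat_lit 0x5284a52040)
 (.cons 1 (nat_lit 0x2848121480)
 (.cons 5 (nat_lit 0x300000002)
 (.cons 10 (nat_lit 0x3a00140)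
 (.cons 20 (nat_lit 0x47402)
 .nil)))))))))))
noncomputable def ns0 : List Net := [a0, a1, a2]
noncomputable def ws : List (List ℕ) :=
  [W (nat_lit 0x14020100400803),
  W (nat_lit 0x404),
  W (nat_lit 0x2009),
  W (nat_lit 0x280a0200a),
  W (nat_lit 0xe0300d),
  W (nat_lit 0x300c),
  W (nat_lit 0x340d),
  W (nat_lit 0xf04c11)]
noncomputable def ns : List Net := [a0, a1, a2, a3, a4, a5, a6, a7, a8, a9, a10]
noncomputable def D : List (ℕ × List ℕ) := app [] (mkDefs ws 3)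
noncomputable def chk : List (List ℕ × List ℕ) → Bool := P.relsB ns
noncomputable def G_v0 : Lev :=
  ⟨0, 40, sg (W (nat_lit 0x1004030040300403004030040300c0100c01)), [[6], [8]], 0, 2⟩
noncomputable def G_v1 : Lev :=
  ⟨4, 12, sg (W (nat_lit 0x240901c0901c07)), [[10], [12]], 2, 2⟩
noncomputable def G_v2 : Lev :=
  ⟨27, 2, sg [12], [[14], [16], [18]], 4, 3⟩
noncomputable def G_v3 : Lev :=
  ⟨1, 9, sg (W (nat_lit 0x3c130440f)), [[20]], 7, 1⟩
noncomputable def G_v4 : Lev :=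
  ⟨5, 3, sg (W (nat_lit 0x5415)), [], 8, 0⟩
noncomputable def G_vs5 : List Lev :=
  []
noncomputable def G_vs4 : List Lev :=
  G_v4 :: G_vs5
noncomputable def G_vs3 : List Lev :=
  G_v3 :: G_vs4
noncomputable def G_vs2 : List Lev :=
  G_v2 :: G_vs3
noncomputable def G_vs1 : List Lev :=
  G_v1 :: G_vs2
noncomputable def G_vs : List Lev :=
  G_v0 :: G_vs1

theorem zc0 : P.chainB ns D G_vs [[0], [2], [4]] = true := by decide +kernel
theorem zk1 : allL (keepB P.n P.N) ns0 = true := by decide +kernel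
theorem ze2 : extB ns0 ns 3 ws [] = true := by decide +kernel
theorem zn3 : P.netsB ns (mkDefs ws 3) = true := by decide +kernel

section
variable {G X : Type*} [Group G] [MulAction G X] {e : ℕ → X} {gs : List G}

theorem keep0 : allL (keepB P.n P.N) ns0 = true := zk1

theorem len {k} (c : Ctx P e gs ns0 [] k) : gs.length = 3 := c.len ze2

theorem ctx0 {k} (c : Ctx P e gs ns0 [] k) : Ctx P e (ext gs ws) ns D chk0 :=
  c.ext rfl ze2 zn3

theorem ctx {k} (c : Ctx P e gs ns0 [] k) {H : Subgroup G} (hF : Faithful e P.n H) (hH : ∀ g ∈ gs, g ∈ H) :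
    Ctx P e (ext gs ws) ns D chk :=
  (ctx0 c).withB hF (mem_of_mem_ext hH _)

instance instNe : NeZero P.n := ⟨by decide⟩
noncomputable def gs0 : List (Equiv.Perm (Fin P.n)) := permsOf P.n P.N ns0
noncomputable def gs1 : List (Equiv.Perm (Fin P.n)) := ext gs0 ws
theorem c1 : Ctx P (eF P.n) gs1 ns D chk :=
  ctx (ctx_permsOf hP keep0) (faithful_eF _) fun _ _ => trivial

theorem G_c : P.chainB ns D G_vs [[0], [2], [4]] = true :=
  zc0

theorem G_o : prodL G_vs 1 = 25920 := by decide +kernel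

theorem G_lb (c : Ctx P e gs ns D chk) :
    LB (subW gs [[0], [2], [4]]) 25920 :=
  c.lb G_c G_o

end
end CL.Spor.Co1O.A3.T

namespace CL.Spor.Co1O.A3.S
open CL.PG

def P : Par := ⟨67, 80, 7, 3⟩
theorem hP : P.Ok := by decide
noncomputable def a0 : Net := (.cons 20 (nat_lit 0x6590000000c85a4)
 (.cons 10 (nat_lit 0x18000b00032b003d8)
 (.cons 5 (nat_lit 0x1008028080141200404)
 (.cons 1 (nat_lit 0x100400)
 (.cons 1 (nat_lit 0x808029000000a02840)
 (.cons 1 (nat_lit 0x1005010a02948501485)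
 (.cons 1 (nat_lit 0x2002428405094a4294a)
 (.cons 1 (nat_lit 0x21005204a009001200a0)
 (.cons 5 (nat_lit 0x3008028080001807012)
 (.cons 10 (nat_lit 0x18000b000028003f8)
 (.cons 20 (nat_lit 0x65900000002823a)
 .nil)))))))))))
noncomputable def a1 : Net := (.cons 20 (nat_lit 0x5117a000009776d)
 (.cons 10 (nat_lit 0x1660009c000e500280)
 (.cons 5 (nat_lit 0x1808068080280705c1c)
 (.cons 1 (nat_lit 0x80010000408000)
 (.cons 1 (nat_lit 0x81010a5210a10000)
 (.cons 1 (nat_lit 0x8085204a42908521424)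
 (.cons 1 (nat_lit 0x1004a5084a1084250948)
 (.cons 1 (nat_lit 0x280850040021025090a1)
 (.cons 5 (nat_lit 0x100006808010100000e)
 (.cons 10 (nat_lit 0x620009c00288003d0)
 (.cons 20 (nat_lit 0x511640000070ffa)
 .nil)))))))))))
noncomputable def a2 : Net := .nil
noncomputable def a3 : Net := (.cons 20 (nat_lit 0x9819800000f2a2c)
 (.cons 10 (nat_lit 0xb400018001c5002e6)
 (.cons 5 (nat_lit 0x809030000180e03c1e)
 (.cons 1 (nat_lit 0x42000008000080050000)
 (.cons 1 (nat_lit 0x29084010000908528080)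
 (.cons 1 (nat_lit 0x52842028001204210902)
 (.cons 1 (nat_lit 0x80a52000008484294a0)
 (.cons 5 (nat_lit 0x800020000700807812)
 (.cons 10 (nat_lit 0xb40001800384003e4)
 (.cons 20 (nat_lit 0x98198000009d8e0)
 .nil))))))))))
noncomputable def a4 : Net := (.cons 20 (nat_lit 0xd2fb6000008d642)
 (.cons 10 (nat_lit 0x11f0002c0029c00204)
 (.cons 5 (nat_lit 0x68080101102c1404408)
 (.cons 1 (nat_lit 0x202002000420)
 (.cons 1 (nat_lit 0x100001405004010840)
 (.cons 1 (nat_lit 0xa408080284a429484)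
 (.cons 1 (nat_lit 0x4094212140529425290a)
 (.cons 1 (nat_lit 0x484090212108108084)
 (.cons 5 (nat_lit 0x4000000120100e00010)
 (.cons 10 (nat_lit 0x35e000380015200324)
 (.cons 20 (nat_lit 0xd2fc200000961e8)
 .nil)))))))))))
noncomputable def a5 : Net := (.cons 20 (nat_lit 0x82ea40000025608)
 (.cons 10 (nat_lit 0xbb0008c0015b0033e)
 (.cons 5 (nat_lit 0x18100780b06c1502c14)
 (.cons 1 (nat_lit 0x400000000040008000)
 (.cons 1 (nat_lit 0x800000001084810102)
 (.cons 1 (nat_lit 0x10000902421484204a4)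
 (.cons 1 (nat_lit 0x280a50848429425084a)
 (.cons 1 (nat_lit 0x9405290210908408080)
 (.cons 5 (nat_lit 0x18100580e0001402810)
 (.cons 10 (nat_lit 0x2b8001ec002e0000d0)
 (.cons 20 (nat_lit 0x82eca000008c0e0)
 .nil)))))))))))
noncomputable def a6 : Net := (.cons 20 (nat_lit 0xae47100000c7574)
 (.cons 10 (nat_lit 0xe9003640013200158)
 (.cons 5 (nat_lit 0x804070000100505406)
 (.cons 1 (nat_lit 0x8001000000000500000)
 (.cons 1 (nat_lit 0x5200a0200a0000a02100)
 (.cons 1 (nat_lit 0x214040908500085294a4)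
 (.cons 1 (nat_lit 0x5080a108421010a50842)
 (.cons 1 (nat_lit 0x9004010010800529424)
 (.cons 5 (nat_lit 0x800070000100604004)
 (.cons 10 (nat_lit 0xd8003640013200278)
 (.cons 20 (nat_lit 0xae46200000c7574)
 .nil)))))))))))
noncomputable def a7 : Net := (.cons 20 (nat_lit 0x81818000004c242)
 (.cons 10 (nat_lit 0x4003e000208000a0)
 (.cons 5 (nat_lit 0x4018038000480f0181c)
 (.cons 1 (nat_lit 0xa0084000000000000)
 (.cons 1 (nat_lit 0x2140128400000002842)
 (.cons 1 (nat_lit 0x10a1210a000000014a4)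
 (.cons 1 (nat_lit 0x294252842420400284a)
 (.cons 1 (nat_lit 0xa0090810800101000)
 (.cons 5 (nat_lit 0x4018038000080605014)
 (.cons 10 (nat_lit 0x40026000302002e2)
 (.cons 20 (nat_lit 0x818000000044246)
 .nil)))))))))))
noncomputable def a8 : Net := (.cons 20 (nat_lit 0x74874000006d06a)
 (.cons 10 (nat_lit 0x17c00221002230030e)
 (.cons 5 (nat_lit 0x8120441703c0c03002)
 (.cons 1 (nat_lit 0x10048020400)
 (.cons 1 (nat_lit 0x40001424294050900)
 (.cons 1 (nat_lit 0x1080004a4214a429084)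
 (.cons 1 (nat_lit 0x121400294a1284212942)
 (.cons 1 (nat_lit 0x800101401280a520480)
 (.cons 5 (nat_lit 0x812040180181e0300c)
 (.cons 10 (nat_lit 0x13c0002c002580032c)
 (.cons 20 (nat_lit 0x74874000006c06a)
 .nil)))))))))))
noncomputable def a9 : Net := (.cons 20 (nat_lit 0xaf46900000c7574)
 (.cons 10 (nat_lit 0x264003640013200278)
 (.cons 5 (nat_lit 0x3800070000101903404)
 (.cons 1 (nat_lit 0x2100000000a008020)
 (.cons 1 (nat_lit 0x2942008020014010040)
 (.cons 1 (nat_lit 0x108501004080a021484)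
 (.cons 1 (nat_lit 0x294a1284a1014852902)
 (.cons 1 (nat_lit 0x2042008081000a409424)
 (.cons 5 (nat_lit 0x2800070000101a02006)
 (.cons 10 (nat_lit 0x244003640013200158)
 (.cons 20 (nat_lit 0xaf46200000c7574)
 .nil)))))))))))
noncomputable def a10 : Net := (.cons 20 (nat_lit 0xfe07800000c2042)
 (.cons 10 (nat_lit 0x1b8003800001a000c0)
 (.cons 5 (nat_lit 0x16070180700a04802)
 (.cons 1 (nat_lit 0x8000000a00040000000)
 (.cons 1 (nat_lit 0x50100029401280050840)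
 (.cons 1 (nat_lit 0x20080014a129084210a0)
 (.cons 1 (nat_lit 0x50040009425284a52040)
 (.cons 1 (nat_lit 0x8085000a02848121480)
 (.cons 5 (nat_lit 0x12060180300000002)
 (.cons 10 (nat_lit 0x1d8003800003a00140)
 (.cons 20 (nat_lit 0xfe0600000047402)
 .nil)))))))))))
noncomputable def a11 : Net := (.cons 20 (nat_lit 0x5e1300000ee2d0)
 (.cons 10 (nat_lit 0x26c002da00256002cf)
 (.cons 5 (nat_lit 0x24000480d0381204411)
 (.cons 1 (nat_lit 0x20000080000000008000)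
 (.cons 1 (nat_lit 0x50002500000010010140)
 (.cons 1 (nat_lit 0x280042000509480200a0)
 (.cons 1 (nat_lit 0x5080850102508404004a)
 (.cons 1 (nat_lit 0x20405080a128021090a1)
 (.cons 5 (nat_lit 0x280004000000040400a)
 (.cons 10 (nat_lit 0x27800372000ac000ba)
 (.cons 20 (nat_lit 0x5e3c00000ccda0)
 .nil)))))))))))
noncomputable def a12 : Net := (.cons 20 (nat_lit 0x981e000000718d2)
 (.cons 10 (nat_lit 0x27800028000c20024e)
 (.cons 5 (nat_lit 0x601f05c080240f04800)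
 (.cons 1 (nat_lit 0x20000280000000001020)
 (.cons 1 (nat_lit 0x50000500400004042842)
 (.cons 1 (nat_lit 0x2802429480284a4214a4)
 (.cons 1 (nat_lit 0x5004a509405094252948)
 (.cons 1 (nat_lit 0x2802109400294a521004)
 (.cons 5 (nat_lit 0x601804818000000001e)
 (.cons 10 (nat_lit 0x278000300024e00144)
 (.cons 20 (nat_lit 0x981e00000097b8a)
 .nil)))))))))))
noncomputable def a13 : Net := (.cons 20 (nat_lit 0x199890000095362)
 (.cons 10 (nat_lit 0x60003e000241000ec)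
 (.cons 5 (nat_lit 0x10040281a0700c0281e)
 (.cons 1 (nat_lit 0x84000040000000)
 (.cons 1 (nat_lit 0x128000080000040)
 (.cons 1 (nat_lit 0x4210810100528084)
 (.cons 1 (nat_lit 0x1000a5284a029021210a)
 (.cons 1 (nat_lit 0x8025080010040120080)
 (.cons 5 (nat_lit 0x18080280e0600c0280c)
 (.cons 10 (nat_lit 0x3e000308000ec)
 (.cons 20 (nat_lit 0x1998200000b0022)
 .nil)))))))))))
noncomputable def ns0 : List Net := [a0, a1, a2]
noncomputable def ws : List (List ℕ) :=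
  [W (nat_lit 0x40100200c03),
  W (nat_lit 0x301802),
  W (nat_lit 0x902408),
  W (nat_lit 0x280a0200a),
  W (nat_lit 0x380c0380c),
  W (nat_lit 0xd0300c),
  W (nat_lit 0x340d),
  W (nat_lit 0x1203c0f04c10),
  W (nat_lit 0x1001),
  W (nat_lit 0x280802407),
  W (nat_lit 0xa0280a01c07)]
noncomputable def ns : List Net := [a0, a1, a2, a3, a4, a5, a6, a7, a8, a9, a10, a11, a12, a13]
noncomputable def D : List (ℕ × List ℕ) := app [] (mkDefs ws 3)
noncomputable def chk : List (List ℕ × List ℕ) → Bool := P.relsB ns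
noncomputable def zt0 : List ℕ :=
  []
noncomputable def zcj1 : List (List ℕ) :=
  []
noncomputable def zus4 : List (List ℕ) :=
  [[14],
  [15],
  [16],
  [17],
  [18],
  [19],
  W (nat_lit 0x3c11),
  W (nat_lit 0x3c14)]
noncomputable def zF5 : List (List (ℕ × List ℕ)) :=
  [[(1, []),
   (2, []),
   (0, []),
   (7, []),
   (6, [20]),
   (3, [20]),
   (8, []),
   (5, [21]),
   (4, [21])],
  [(3, []),
   (7, []),
   (5, [21]),
   (4, []),
   (0, []),
   (8, [21]),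
   (1, [21]),
   (6, [20]),
   (2, [21])],
  [(5, []),
   (3, [20]),
   (7, [20]),
   (8, [21]),
   (2, [20]),
   (6, []),
   (0, []),
   (4, [20]),
   (1, [])]]
noncomputable def zE8 : List (ℕ × List ℕ) :=
  [(12, [19])]
noncomputable def zt9 : List ℕ :=
  W (nat_lit 0x1603c11)
noncomputable def zcj10 : List (List ℕ) :=
  [[14],
  W (nat_lit 0x1503c14),
  [20]]
noncomputable def zus14 : List (List ℕ) :=
  [[6],
  [7],
  [8],
  W (nat_lit 0x1c0c),
  W (nat_lit 0x1c0d),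
  W (nat_lit 0x703007),
  W (nat_lit 0x1c11),
  W (nat_lit 0x703407),
  W (nat_lit 0x1c12),
  W (nat_lit 0x2411),
  W (nat_lit 0x1c15)]
noncomputable def zF15 : List (List (ℕ × List ℕ)) :=
  [[(1, []),
   (2, []),
   (0, []),
   (3, W (nat_lit 0x5411)),
   (6, []),
   (8, []),
   (7, W (nat_lit 0x5410)),
   (4, W (nat_lit 0x580f)),
   (9, W (nat_lit 0x3c0b)),
   (5, W (nat_lit 0x160500b)),
   (10, W (nat_lit 0x5814)),
   (11, W (nat_lit 0x540f))],
  [(3, []),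
   (0, W (nat_lit 0x160500b)),
   (4, [15]),
   (1, [10]),
   (5, [10]),
   (2, W (nat_lit 0x580f0500b)),
   (10, W (nat_lit 0x1603c14)),
   (8, W (nat_lit 0x1503c11)),
   (11, W (nat_lit 0x580b)),
   (6, W (nat_lit 0x480b)),
   (9, W (nat_lit 0x150500b)),
   (7, W (nat_lit 0x1503c0b))]]
noncomputable def zrs18 : List (ℕ × List ℕ) :=
  [(1, W (nat_lit 0x1705c12)),
  (4, [23])]
noncomputable def G_w0_1_v0 : Lev :=
  ⟨1, 27, sg (W (nat_lit 0x240701c0901c070240702407)), [[24], [26]], 9, 2⟩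
noncomputable def G_w0_1_v1 : Lev :=
  ⟨43, 24, sg (W (nat_lit 0x1906c1906c1906c19)), [], 11, 0⟩
noncomputable def G_w0_1_vs2 : List Lev :=
  []
noncomputable def G_w0_1_vs1 : List Lev :=
  G_w0_1_v1 :: G_w0_1_vs2
noncomputable def G_w0_1_vs : List Lev :=
  G_w0_1_v0 :: G_w0_1_vs1
noncomputable def zcj20 : List (List ℕ) :=
  [W (nat_lit 0x1604809),
  W (nat_lit 0x3c0b01c12)]
noncomputable def G_v0 : Lev :=
  ⟨0, 40, sg (W (nat_lit 0x1004030040300403004030040300c0100c01)), [[6], [8]], 0, 2⟩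
noncomputable def G_v1 : Lev :=
  ⟨4, 12, sg (W (nat_lit 0x240701c0902407)), [[10], [12]], 2, 2⟩
noncomputable def G_v2 : Lev :=
  ⟨27, 2, sg [10], [[14], [16], [18]], 4, 3⟩
noncomputable def G_v3 : Lev :=
  ⟨1, 9, sg (W (nat_lit 0x3c130440f)), [[20]], 7, 1⟩
noncomputable def G_v4 : Lev :=
  ⟨5, 3, sg (W (nat_lit 0x5415)), [], 8, 0⟩
noncomputable def G_vs5 : List Lev :=
  []
noncomputable def G_vs4 : List Lev :=
  G_v4 :: G_vs5
noncomputable def G_vs3 : List Lev :=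
  G_v3 :: G_vs4
noncomputable def G_vs2 : List Lev :=
  G_v2 :: G_vs3
noncomputable def G_vs1 : List Lev :=
  G_v1 :: G_vs2
noncomputable def G_vs : List Lev :=
  G_v0 :: G_vs1
noncomputable def zcj24 : List (List ℕ) :=
  [W (nat_lit 0x581301c15),
  W (nat_lit 0x500b01c15)]
noncomputable def zB27 : List BG :=
  [⟨[22], [([10], W (nat_lit 0x581301c15)), ([12], W (nat_lit 0x500b01c15))],
  [([⟨[], [6], 2, W (nat_lit 0x4c07)⟩], []),
   ([⟨[], [], 1, W (nat_lit 0x160500b01c0d)⟩,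
    ⟨W (nat_lit 0x2407), [8], 2, W (nat_lit 0x1504c0b02411)⟩], W (nat_lit 0x100401008010040100801)),
   ([⟨[], [], 0, []⟩,
    ⟨[6], [16], 1, W (nat_lit 0x540f0440b01c15)⟩,
    ⟨W (nat_lit 0x703007), W (nat_lit 0x1c11), 2, W (nat_lit 0x160440b)⟩], W (nat_lit 0x10040100801))]⟩]
noncomputable def zE28 : List (ℕ × List ℕ) :=
  [(0, W (nat_lit 0x540f0440b0201705c12)),
  (2, W (nat_lit 0xb01c0c01c1705c12)),
  (4, [])]
noncomputable def zE33 : Net :=
  .nil
noncomputable def zK34 : Lk :=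
  ⟨zE33, 1, 3, 1⟩
noncomputable def zE37 : Net :=
  (.cons 40 (nat_lit 0xffffffffff)
 (.cons 20 (nat_lit 0x1fff0000000000)
 (.cons 10 (nat_lit 0x3f8003f80000000000)
 (.cons 5 (nat_lit 0x1c0701c070000000000)
 (.cons 1 (nat_lit 0x21084210840000000000)
 (.cons 1 (nat_lit 0x5294a5294a0000000000)
 (.cons 1 (nat_lit 0x294a5294a50000000000)
 (.cons 1 (nat_lit 0x10842108420000000000)
 (.cons 40 (nat_lit 0xfff8000000)
 .nil)))))))))
noncomputable def zK38 : Lk :=
  ⟨zE37, 1, 3, 1⟩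

theorem zb2 : bnd (pcB D [] 3 zt0 zcj1) (leB (app D []) [[20]] ([20] :: [])) = true := by decide +kernel
theorem zr3 : chk (pcR [] [20] 3 zt0 zcj1) = true := by decide +kernel
theorem zb6 : schB D [[14], [16], [18]] [[20]] zus4 zF5 9 = true := by decide +kernel
theorem zr7 : chk (schR [[14], [16], [18]] zus4 zF5) = true := by decide +kernel
theorem zb11 : bnd (pcB D [[14], [16], [18]] 2 zt9 zcj10) (leB (app D zE8) [[10], [12]] ([10] :: [[14], [16], [18]])) = true := by decide +kernel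
theorem zr12 : chk (pcR [[14], [16], [18]] [10] 2 zt9 zcj10) = true := by decide +kernel
theorem zr13 : chk (defRels zE8) = true := by decide +kernel
theorem zb16 : schB D [[6], [8]] [[10], [12]] zus14 zF15 12 = true := by decide +kernel
theorem zr17 : chk (schR [[6], [8]] zus14 zF15) = true := by decide +kernel
theorem zc19 : P.chainB ns D G_w0_1_vs [[6], [8]] = true := by decide +kernel
theorem zb21 : wdB D [[6], [8]] G_w0_1_v0.nx zcj20 = true := by decide +kernel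
theorem zr22 : chk (wdR G_w0_1_v0.nx (W (nat_lit 0x1705c12)) zcj20) = true := by decide +kernel
theorem zc23 : P.chainB ns D G_vs [[0], [2], [4]] = true := by decide +kernel
theorem zb25 : wdB D [[6], [8]] G_v1.nx zcj24 = true := by decide +kernel
theorem zr26 : chk (wdR G_v1.nx [23] zcj24) = true := by decide +kernel
theorem zb29 : bB P.n P.N ns (app D zE28) [[0], [2], [4]] [[6], [8]] 0 zrs18 zB27 = true := by decide +kernel
theorem zb30 : P.invSz ns [[0], [2], [4]] 0 (orbM P.N ns G_v0) 40 = true := by decide +kernel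
theorem zr31 : chk (bR 0 zrs18 zB27) = true := by decide +kernel
theorem zr32 : chk (defRels zE28) = true := by decide +kernel
theorem zl35 : zK34.relB CL.Spor.Co1O.A3.S.P CL.Spor.Co1O.A3.T.P CL.Spor.Co1O.A3.S.ns [[0], [2], [4]] [[0], [2], [4]] = true := by decide +kernel
theorem zl36 : allL (zK34.pl CL.Spor.Co1O.A3.S.P CL.Spor.Co1O.A3.T.P CL.Spor.Co1O.A3.S.ns CL.Spor.Co1O.A3.T.ns 0) (zp [] [[0], [2], [4]] [[0], [2], [4]]) = true := by decide +kernel
theorem zl39 : zK38.relB CL.Spor.Co1O.A3.S.P CL.Std.W6m2.P CL.Spor.Co1O.A3.S.ns [[0], [2], [4]] [[0], [2]] = true := by decide +kernel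
theorem zl40 : allL (zK38.pl CL.Spor.Co1O.A3.S.P CL.Std.W6m2.P CL.Spor.Co1O.A3.S.ns CL.Std.W6m2.ns 0) (zp [] [[0], [2], [4]] [[0], [2]]) = true := by decide +kernel
theorem zk41 : allL (keepB P.n P.N) ns0 = true := by decide +kernel
theorem ze42 : extB ns0 ns 3 ws [] = true := by decide +kernel
theorem zn43 : P.netsB ns (mkDefs ws 3) = true := by decide +kernel

section
variable {G X : Type*} [Group G] [MulAction G X] {e : ℕ → X} {gs : List G}

theorem keep0 : allL (keepB P.n P.N) ns0 = true := zk41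

theorem len {k} (c : Ctx P e gs ns0 [] k) : gs.length = 3 := c.len ze42

theorem ctx0 {k} (c : Ctx P e gs ns0 [] k) : Ctx P e (ext gs ws) ns D chk0 :=
  c.ext rfl ze42 zn43

theorem ctx {k} (c : Ctx P e gs ns0 [] k) {H : Subgroup G} (hF : Faithful e P.n H) (hH : ∀ g ∈ gs, g ∈ H) :
    Ctx P e (ext gs ws) ns D chk :=
  (ctx0 c).withB hF (mem_of_mem_ext hH _)

instance instNe : NeZero P.n := ⟨by decide⟩
noncomputable def gs0 : List (Equiv.Perm (Fin P.n)) := permsOf P.n P.N ns0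
noncomputable def gs1 : List (Equiv.Perm (Fin P.n)) := ext gs0 ws
theorem c1 : Ctx P (eF P.n) gs1 ns D chk :=
  ctx (ctx_permsOf hP keep0) (faithful_eF _) fun _ _ => trivial

theorem G_u4 (c : Ctx P e gs ns D chk) :
    UB (subW gs [[20]]) 3 :=
  (c.pc_step (UB.nil gs) (Rels.nil _)
    (c.rels _ zr3) zb2).le (by decide)

theorem G_u3 (c : Ctx P e gs ns D chk) :
    UB (subW gs [[14], [16], [18]]) 27 :=
  (c.sch_step (G_u4 c)
    (c.rels _ zr7) zb6).le (by decide)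

theorem G_u2 (c : Ctx P e gs ns D chk) :
    UB (subW gs [[10], [12]]) 54 :=
  (c.pc_step (G_u3 c) (c.rels _ zr13)
    (c.rels _ zr12) zb11).le (by decide)

theorem G_u1 (c : Ctx P e gs ns D chk) :
    UB (subW gs [[6], [8]]) 648 :=
  (c.sch_step (G_u2 c)
    (c.rels _ zr17) zb16).le (by decide)

theorem G_w0_1_c : P.chainB ns D G_w0_1_vs [[6], [8]] = true :=
  zc19

theorem G_w0_1_o : prodL G_w0_1_vs 1 = 648 := by decide +kernel

theorem G_c : P.chainB ns D G_vs [[0], [2], [4]] = true :=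
  zc23

theorem G_o : prodL G_vs 1 = 25920 := by decide +kernel

theorem G_u0w (c : Ctx P e gs ns D chk) :
    AllWd e gs [[6], [8]] zrs18 :=
  ⟨c.wd (v := G_w0_1_v0) (vs := G_w0_1_vs1) (G_u1 c) G_w0_1_c G_w0_1_o
      (c.rels _ zr22) zb21,
    ⟨c.wd (v := G_v1) (vs := G_vs2) (G_u1 c) (Par.chainB_tail G_c) (by decide +kernel)
      (c.rels _ zr26) zb25,
    trivial⟩⟩

theorem G_u0 (c : Ctx P e gs ns D chk) :
    UB (subW gs [[0], [2], [4]]) 25920 :=
  (c.b_step (G_u1 c) (G_u0w c) (c.rels _ zr32)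
    (c.rels _ zr31) zb29 zb30).le (by decide)

theorem G_ub (c : Ctx P e gs ns D chk) :
    UB (subW gs [[0], [2], [4]]) 25920 :=
  (G_u0 c)

theorem toT {Γ Y : Type*} [Group Γ] [MulAction Γ Y] {e' : ℕ → Y} {cs : List Γ} {D₁ D₂ : List (ℕ × List ℕ)}
    {k₁ k₂ : List (List ℕ × List ℕ) → Bool} (c : Ctx CL.Spor.Co1O.A3.S.P e gs CL.Spor.Co1O.A3.S.ns D₁ k₁) (c' : Ctx CL.Spor.Co1O.A3.T.P e' cs CL.Spor.Co1O.A3.T.ns D₂ k₂)
    (hF : Faithful e' CL.Spor.Co1O.A3.T.P.n (subW cs [[0], [2], [4]])) :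
    RelLe gs [[0], [2], [4]] cs [[0], [2], [4]] :=
  c.relLe (K := zK34) c' hF zl35 (fun (t : ℕ) (ht : t < 1) => match t, ht with
    | 0, _ => zl36
    | t + 1, h => absurd h (by omega))

theorem toB {Γ Y : Type*} [Group Γ] [MulAction Γ Y] {e' : ℕ → Y} {cs : List Γ} {D₁ D₂ : List (ℕ × List ℕ)}
    {k₁ k₂ : List (List ℕ × List ℕ) → Bool} (c : Ctx CL.Spor.Co1O.A3.S.P e gs CL.Spor.Co1O.A3.S.ns D₁ k₁) (c' : Ctx CL.Std.W6m2.P e' cs CL.Std.W6m2.ns D₂ k₂)
    (hF : Faithful e' CL.Std.W6m2.P.n (subW cs [[0], [2]])) :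
    RelLe gs [[0], [2], [4]] cs [[0], [2]] :=
  c.relLe (K := zK38) c' hF zl39 (fun (t : ℕ) (ht : t < 1) => match t, ht with
    | 0, _ => zl40
    | t + 1, h => absurd h (by omega))

theorem rel {Γ Y : Type*} [Group Γ] [MulAction Γ Y] {e' : ℕ → Y} {cs : List Γ} {D₂ : List (ℕ × List ℕ)}
    {k₂ : List (List ℕ × List ℕ) → Bool} (c' : Ctx CL.Std.W6m2.P e' cs CL.Std.W6m2.ns D₂ k₂) (hF : Faithful e' CL.Std.W6m2.P.n (subW cs [[0], [2]])) :
    RelLe CL.Spor.Co1O.A3.T.gs1 [[0], [2], [4]] cs [[0], [2]] :=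
  ((toT c1 CL.Spor.Co1O.A3.T.c1 ((faithful_eF _).mono le_top)).symm_of_card (G_ub c1) (CL.Spor.Co1O.A3.T.G_lb CL.Spor.Co1O.A3.T.c1)).trans (toB c1 c' hF)

end
end CL.Spor.Co1O.A3.S

namespace CL.Spor.Co1O.A5.T
open CL.PG

def P : Par := ⟨12, 12, 4, 2⟩
theorem hP : P.Ok := by decide
noncomputable def a0 : Net := (.cons 3 (nat_lit 0x40)
 (.cons 1 (nat_lit 0x41)
 (.cons 1 (nat_lit 0x92)
 (.cons 1 (nat_lit 0x200)
 (.cons 3 (nat_lit 0x4)
 .nil)))))
noncomputable def a1 : Net := (.cons 6 (nat_lit 0x33)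
 (.cons 3 (nat_lit 0x183)
 (.cons 1 (nat_lit 0x240)
 (.cons 1 (nat_lit 0x492)
 (.cons 1 (nat_lit 0x9)
 (.cons 6 (nat_lit 0xc)
 .nil))))))
noncomputable def a2 : Net := .nil
noncomputable def a3 : Net := (.cons 6 (nat_lit 0x22)
 (.cons 3 (nat_lit 0x84)
 (.cons 1 (nat_lit 0x208)
 (.cons 1 (nat_lit 0x412)
 (.cons 1 (nat_lit 0x40)
 (.cons 6 (nat_lit 0xa)
 .nil))))))
noncomputable def ns0 : List Net := [a0, a1, a2]
noncomputable def ws : List (List ℕ) :=
  [W (nat_lit 0x100404)]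
noncomputable def ns : List Net := [a0, a1, a2, a3]
noncomputable def D : List (ℕ × List ℕ) := app [] (mkDefs ws 3)
noncomputable def chk : List (List ℕ × List ℕ) → Bool := P.relsB ns
noncomputable def G_v0 : Lev :=
  ⟨0, 12, sg (W (nat_lit 0x3004030040100c01)), [[6]], 0, 1⟩
noncomputable def G_v1 : Lev :=
  ⟨1, 5, sg (W (nat_lit 0x1c0701c07)), [], 1, 0⟩
noncomputable def G_vs2 : List Lev :=
  []
noncomputable def G_vs1 : List Lev :=
  G_v1 :: G_vs2
noncomputable def G_vs : List Lev :=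
  G_v0 :: G_vs1

theorem zc0 : P.chainB ns D G_vs [[0], [2], [4]] = true := by decide +kernel
theorem zk1 : allL (keepB P.n P.N) ns0 = true := by decide +kernel
theorem ze2 : extB ns0 ns 3 ws [] = true := by decide +kernel
theorem zn3 : P.netsB ns (mkDefs ws 3) = true := by decide +kernel

section
variable {G X : Type*} [Group G] [MulAction G X] {e : ℕ → X} {gs : List G}

theorem keep0 : allL (keepB P.n P.N) ns0 = true := zk1

theorem len {k} (c : Ctx P e gs ns0 [] k) : gs.length = 3 := c.len ze2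

theorem ctx0 {k} (c : Ctx P e gs ns0 [] k) : Ctx P e (ext gs ws) ns D chk0 :=
  c.ext rfl ze2 zn3

theorem ctx {k} (c : Ctx P e gs ns0 [] k) {H : Subgroup G} (hF : Faithful e P.n H) (hH : ∀ g ∈ gs, g ∈ H) :
    Ctx P e (ext gs ws) ns D chk :=
  (ctx0 c).withB hF (mem_of_mem_ext hH _)

instance instNe : NeZero P.n := ⟨by decide⟩
noncomputable def gs0 : List (Equiv.Perm (Fin P.n)) := permsOf P.n P.N ns0
noncomputable def gs1 : List (Equiv.Perm (Fin P.n)) := ext gs0 ws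
theorem c1 : Ctx P (eF P.n) gs1 ns D chk :=
  ctx (ctx_permsOf hP keep0) (faithful_eF _) fun _ _ => trivial

theorem G_c : P.chainB ns D G_vs [[0], [2], [4]] = true :=
  zc0

theorem G_o : prodL G_vs 1 = 60 := by decide +kernel

theorem G_lb (c : Ctx P e gs ns D chk) :
    LB (subW gs [[0], [2], [4]]) 60 :=
  c.lb G_c G_o

end
end CL.Spor.Co1O.A5.T

namespace CL.Spor.Co1O.A5.S
open CL.PG

def P : Par := ⟨17, 20, 5, 3⟩
theorem hP : P.Ok := by decide
noncomputable def a0 : Net := (.cons 10 (nat_lit 0x3d0)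
 (.cons 5 (nat_lit 0x1c05)
 (.cons 1 (nat_lit 0x8001)
 (.cons 1 (nat_lit 0x1000a)
 (.cons 1 (nat_lit 0x20404)
 (.cons 1 (nat_lit 0x4284a)
 (.cons 1 (nat_lit 0x9000)
 (.cons 5 (nat_lit 0x806)
 (.cons 10 (nat_lit 0x3c4)
 .nil)))))))))
noncomputable def a1 : Net := (.cons 10 (nat_lit 0x300)
 (.cons 5 (nat_lit 0x7410)
 (.cons 1 (nat_lit 0x1000)
 (.cons 1 (nat_lit 0x12942)
 (.cons 1 (nat_lit 0x294a5)
 (.cons 1 (nat_lit 0x12942)
 (.cons 1 (nat_lit 0x29000)
 (.cons 5 (nat_lit 0x5010)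
 (.cons 10 (nat_lit 0x300)
 .nil)))))))))
noncomputable def a2 : Net := .nil
noncomputable def a3 : Net := (.cons 10 (nat_lit 0x2b0)
 (.cons 5 (nat_lit 0x5c0a)
 (.cons 1 (nat_lit 0x2000)
 (.cons 1 (nat_lit 0x1084)
 (.cons 1 (nat_lit 0x10848)
 (.cons 1 (nat_lit 0x90a4)
 (.cons 5 (nat_lit 0x8)
 (.cons 10 (nat_lit 0x2c4)
 .nil))))))))
noncomputable def ns0 : List Net := [a0, a1, a2]
noncomputable def ws : List (List ℕ) :=
  [W (nat_lit 0x180101002008030080400406010060100500401)]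
noncomputable def ns : List Net := [a0, a1, a2, a3]
noncomputable def D : List (ℕ × List ℕ) := app [] (mkDefs ws 3)
noncomputable def chk : List (List ℕ × List ℕ) → Bool := P.relsB ns
noncomputable def zt0 : List ℕ :=
  []
noncomputable def zcj1 : List (List ℕ) :=
  []
noncomputable def zus4 : List (List ℕ) :=
  [[0],
  [1],
  [2],
  W (nat_lit 0x403),
  W (nat_lit 0x802),
  W (nat_lit 0x803),
  W (nat_lit 0x407),
  W (nat_lit 0x200c01),
  W (nat_lit 0x808),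
  W (nat_lit 0x200808),
  W (nat_lit 0x200c07)]
noncomputable def zF5 : List (List (ℕ × List ℕ)) :=
  [[(1, []),
   (3, [6]),
   (0, []),
   (5, [7]),
   (4, [7]),
   (2, []),
   (8, []),
   (6, [6]),
   (10, [7]),
   (7, [7]),
   (9, [6]),
   (11, [6])],
  [(3, []),
   (4, []),
   (6, []),
   (0, []),
   (1, []),
   (7, []),
   (2, []),
   (5, []),
   (9, [6]),
   (8, [7]),
   (11, [6]),
   (10, [7])],
  [(0, []),
   (1, []),
   (2, []),
   (3, []),
   (4, []),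
   (5, []),
   (6, []),
   (7, []),
   (8, []),
   (9, []),
   (10, []),
   (11, [])]]
noncomputable def zE8 : Net :=
  .nil
noncomputable def zK9 : Lk :=
  ⟨zE8, 1, 2, 1⟩
noncomputable def zE12 : Net :=
  (.cons 10 (nat_lit 0x3fc)
 (.cons 5 (nat_lit 0x7c03)
 (.cons 1 (nat_lit 0x2)
 (.cons 1 (nat_lit 0x5)
 (.cons 1 (nat_lit 0xa)
 (.cons 1 (nat_lit 0x4)
 (.cons 10 (nat_lit 0x380)
 .nil)))))))
noncomputable def zK13 : Lk :=
  ⟨zE12, 1, 2, 1⟩

theorem zb2 : bnd (pcB D [] 5 zt0 zcj1) (leB (app D []) [[6]] ([6] :: [])) = true := by decide +kernel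
theorem zr3 : chk (pcR [] [6] 5 zt0 zcj1) = true := by decide +kernel
theorem zb6 : schB D [[0], [2], [4]] [[6]] zus4 zF5 12 = true := by decide +kernel
theorem zr7 : chk (schR [[0], [2], [4]] zus4 zF5) = true := by decide +kernel
theorem zl10 : zK9.relB CL.Spor.Co1O.A5.S.P CL.Spor.Co1O.A5.T.P CL.Spor.Co1O.A5.S.ns [[0], [2], [4]] [[0], [2], [4]] = true := by decide +kernel
theorem zl11 : allL (zK9.pl CL.Spor.Co1O.A5.S.P CL.Spor.Co1O.A5.T.P CL.Spor.Co1O.A5.S.ns CL.Spor.Co1O.A5.T.ns 0) (zp [] [[0], [2], [4]] [[0], [2], [4]]) = true := by decide +kernel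
theorem zl14 : zK13.relB CL.Spor.Co1O.A5.S.P CL.Std.W4m2.P CL.Spor.Co1O.A5.S.ns [[0], [2], [4]] [[0], [2]] = true := by decide +kernel
theorem zl15 : allL (zK13.pl CL.Spor.Co1O.A5.S.P CL.Std.W4m2.P CL.Spor.Co1O.A5.S.ns CL.Std.W4m2.ns 0) (zp [] [[0], [2], [4]] [[0], [2]]) = true := by decide +kernel
theorem zk16 : allL (keepB P.n P.N) ns0 = true := by decide +kernel
theorem ze17 : extB ns0 ns 3 ws [] = true := by decide +kernel
theorem zn18 : P.netsB ns (mkDefs ws 3) = true := by decide +kernel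

section
variable {G X : Type*} [Group G] [MulAction G X] {e : ℕ → X} {gs : List G}

theorem keep0 : allL (keepB P.n P.N) ns0 = true := zk16

theorem len {k} (c : Ctx P e gs ns0 [] k) : gs.length = 3 := c.len ze17

theorem ctx0 {k} (c : Ctx P e gs ns0 [] k) : Ctx P e (ext gs ws) ns D chk0 :=
  c.ext rfl ze17 zn18

theorem ctx {k} (c : Ctx P e gs ns0 [] k) {H : Subgroup G} (hF : Faithful e P.n H) (hH : ∀ g ∈ gs, g ∈ H) :
    Ctx P e (ext gs ws) ns D chk :=
  (ctx0 c).withB hF (mem_of_mem_ext hH _)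

instance instNe : NeZero P.n := ⟨by decide⟩
noncomputable def gs0 : List (Equiv.Perm (Fin P.n)) := permsOf P.n P.N ns0
noncomputable def gs1 : List (Equiv.Perm (Fin P.n)) := ext gs0 ws
theorem c1 : Ctx P (eF P.n) gs1 ns D chk :=
  ctx (ctx_permsOf hP keep0) (faithful_eF _) fun _ _ => trivial

theorem G_u1 (c : Ctx P e gs ns D chk) :
    UB (subW gs [[6]]) 5 :=
  (c.pc_step (UB.nil gs) (Rels.nil _)
    (c.rels _ zr3) zb2).le (by decide)

theorem G_u0 (c : Ctx P e gs ns D chk) :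
    UB (subW gs [[0], [2], [4]]) 60 :=
  (c.sch_step (G_u1 c)
    (c.rels _ zr7) zb6).le (by decide)

theorem G_ub (c : Ctx P e gs ns D chk) :
    UB (subW gs [[0], [2], [4]]) 60 :=
  (G_u0 c)

theorem toT {Γ Y : Type*} [Group Γ] [MulAction Γ Y] {e' : ℕ → Y} {cs : List Γ} {D₁ D₂ : List (ℕ × List ℕ)}
    {k₁ k₂ : List (List ℕ × List ℕ) → Bool} (c : Ctx CL.Spor.Co1O.A5.S.P e gs CL.Spor.Co1O.A5.S.ns D₁ k₁) (c' : Ctx CL.Spor.Co1O.A5.T.P e' cs CL.Spor.Co1O.A5.T.ns D₂ k₂)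
    (hF : Faithful e' CL.Spor.Co1O.A5.T.P.n (subW cs [[0], [2], [4]])) :
    RelLe gs [[0], [2], [4]] cs [[0], [2], [4]] :=
  c.relLe (K := zK9) c' hF zl10 (fun (t : ℕ) (ht : t < 1) => match t, ht with
    | 0, _ => zl11
    | t + 1, h => absurd h (by omega))

theorem toB {Γ Y : Type*} [Group Γ] [MulAction Γ Y] {e' : ℕ → Y} {cs : List Γ} {D₁ D₂ : List (ℕ × List ℕ)}
    {k₁ k₂ : List (List ℕ × List ℕ) → Bool} (c : Ctx CL.Spor.Co1O.A5.S.P e gs CL.Spor.Co1O.A5.S.ns D₁ k₁) (c' : Ctx CL.Std.W4m2.P e' cs CL.Std.W4m2.ns D₂ k₂)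
    (hF : Faithful e' CL.Std.W4m2.P.n (subW cs [[0], [2]])) :
    RelLe gs [[0], [2], [4]] cs [[0], [2]] :=
  c.relLe (K := zK13) c' hF zl14 (fun (t : ℕ) (ht : t < 1) => match t, ht with
    | 0, _ => zl15
    | t + 1, h => absurd h (by omega))

theorem rel {Γ Y : Type*} [Group Γ] [MulAction Γ Y] {e' : ℕ → Y} {cs : List Γ} {D₂ : List (ℕ × List ℕ)}
    {k₂ : List (List ℕ × List ℕ) → Bool} (c' : Ctx CL.Std.W4m2.P e' cs CL.Std.W4m2.ns D₂ k₂) (hF : Faithful e' CL.Std.W4m2.P.n (subW cs [[0], [2]])) :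
    RelLe CL.Spor.Co1O.A5.T.gs1 [[0], [2], [4]] cs [[0], [2]] :=
  ((toT c1 CL.Spor.Co1O.A5.T.c1 ((faithful_eF _).mono le_top)).symm_of_card (G_ub c1) (CL.Spor.Co1O.A5.T.G_lb CL.Spor.Co1O.A5.T.c1)).trans (toB c1 c' hF)

end
end CL.Spor.Co1O.A5.S

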