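/-
Elements of order 3 and 5 in O8+(2).
Generated by tools/pg.
-/
import Cfsg.Agent.Spor.StdO8p2
import Cfsg.Agent.Spor.StdW6m2
import Cfsg.Agent.Spor.StdW4m2
import Cfsg.Agent.Spor.PGCov
import Cfsg.Agent.Spor.PGStruct
import Cfsg.Agent.Spor.PGSearch
import Cfsg.Agent.Spor.PGTm2
import Cfsg.Agent.Even.XS1
import Cfsg.Agent.Spor.Co1OA
import Cfsg.Agent.Spor.PGCtx

set_option autoImplicit false
set_option maxRecDepth 200000
set_option Elab.async false
set_option linter.unusedVariables false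

namespace CL.Spor.Co1O
open CL.PG

noncomputable def a13 : Net := (.cons 64 (nat_lit 0xf0f0f0f0f0f0f0)
 (.cons 32 (nat_lit 0x3cb4c10e00000000c8ea4a49)
 (.cons 16 (nat_lit 0xe8b2000081b60000a7840000220f)
 (.cons 8 (nat_lit 0xd800100072003f007c000a00d40035)
 (.cons 4 (nat_lit 0xc0704040f0e0c0a04070905020d040e)
 (.cons 2 (nat_lit 0x30232200012331302231220230001213)
 (.cons 1 (nat_lit 0x10054114144105454115414544154454)
 (.cons 2 (nat_lit 0x2220022200200220200002200202)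
 (.cons 4 (nat_lit 0x8040e0c020c080e0208000c080608)
 (.cons 8 (nat_lit 0x7800100070002800000000006c0074)
 (.cons 16 (nat_lit 0xf4620000032e0000fa6400005ecc)
 (.cons 32 (nat_lit 0x3ca5318c00000000e4aa12a8)
 (.cons 64 (nat_lit 0xf0f0f0ff0f0f0)
 .nil)))))))))))))
noncomputable def a14 : Net := (.cons 64 (nat_lit 0xa7f0f6fc0f690)
 (.cons 32 (nat_lit 0xbb00000000000000ff00)
 (.cons 16 (nat_lit 0x55000072b900008b0a0000a76b)
 (.cons 8 (nat_lit 0x570096008100f9000c00a20052)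
 (.cons 4 (nat_lit 0x50d0e0d07010b0a070b0d06080509)
 (.cons 2 (nat_lit 0x331232012332000212122002031030)
 (.cons 1 (nat_lit 0x54410111040145411504144111444)
 (.cons 2 (nat_lit 0x20022000220002002220002220)
 (.cons 4 (nat_lit 0x4040c000408000c0c0a040c0204)
 (.cons 8 (nat_lit 0x6400c8009800e800ee00760010)
 (.cons 16 (nat_lit 0xf00000292c00008ef800006f68)
 (.cons 32 (nat_lit 0x80bf00000000000000ff00)
 (.cons 64 (nat_lit 0x55ffaa23aa0000)
 .nil)))))))))))))
noncomputable def a15 : Net := (.cons 64 (nat_lit 0xc4003300c0003000)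
 (.cons 32 (nat_lit 0x8c22c46a00000000dcee386a)
 (.cons 16 (nat_lit 0xf720000875a0000eca500000ff5)
 (.cons 8 (nat_lit 0xa10050004b00bd006f003400e900f5)
 (.cons 4 (nat_lit 0x20c0e0107070f010409010d0c0303)
 (.cons 2 (nat_lit 0x23200033303023013012030123100212)
 (.cons 1 (nat_lit 0x44141414154001141054411050414411)
 (.cons 2 (nat_lit 0x20002002000002000000222000200202)
 (.cons 4 (nat_lit 0x20a00020c040e0a0c0a0406060c040a)
 (.cons 8 (nat_lit 0x2c009c00ae005c008a008400fc0044)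
 (.cons 16 (nat_lit 0x87f0000070f00000f3e000001df0)
 (.cons 32 (nat_lit 0xccaa63ca00000000ccaa93ca)
 (.cons 64 (nat_lit 0xc40affafff000000)
 .nil)))))))))))))
noncomputable def a16 : Net := (.cons 64 (nat_lit 0xf03c0dc306f3c3f4)
 (.cons 32 (nat_lit 0x89e7cc8d00000000023f4ece)
 (.cons 16 (nat_lit 0x436d0000b27a0000caaa00003ca5)
 (.cons 8 (nat_lit 0x6f005500f800b200500034000e007c)
 (.cons 4 (nat_lit 0xa060d0c0e0c080e010c05000a04040b)
 (.cons 2 (nat_lit 0x33031320323112201202103101132103)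
 (.cons 1 (nat_lit 0x14014154144410154440101154501101)
 (.cons 2 (nat_lit 0x200222000000000002000000200)
 (.cons 4 (nat_lit 0xa060c06000c0e040c00060a020c0a08)
 (.cons 8 (nat_lit 0x4008400e800720018000a00b0002e)
 (.cons 16 (nat_lit 0x1ab0000084320000ce5200003b2a)
 (.cons 32 (nat_lit 0xb9bbce540000000002b3804c)
 (.cons 64 (nat_lit 0xf0c03002060004c0)
 .nil)))))))))))))
noncomputable def a17 : Net := (.cons 64 (nat_lit 0x43a358597f6acf35)
 (.cons 32 (nat_lit 0xe558fb8600000000f57b7ba4)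
 (.cons 16 (nat_lit 0xcf0c00000bc200008ee70000e48b)
 (.cons 8 (nat_lit 0x3b00000006003d00f800910090009d)
 (.cons 4 (nat_lit 0x508000c05090d040a03050b000b090e)
 (.cons 2 (nat_lit 0x20011302110232120331310110030220)
 (.cons 1 (nat_lit 0x41014415041110041011405014041414)
 (.cons 2 (nat_lit 0x2220000220000002000020000200)
 (.cons 4 (nat_lit 0x2020000000a0e000a00000c04080200)
 (.cons 8 (nat_lit 0x9c006000040080006c005400a40030)
 (.cons 16 (nat_lit 0xfe000004b400000ef980000fe3e)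
 (.cons 32 (nat_lit 0xe5d2ff800000000041124cc4)
 (.cons 64 (nat_lit 0x4334dc83df002c80)
 .nil)))))))))))))
noncomputable def a18 : Net := (.cons 64 (nat_lit 0x400053a3df006393)
 (.cons 32 (nat_lit 0x794e874b000000000e7274b8)
 (.cons 16 (nat_lit 0x655a0000956a00009a6600006972)
 (.cons 8 (nat_lit 0x61004f0095006a0093006c008c0072)
 (.cons 4 (nat_lit 0x90305000c030c030e0f080306020403)
 (.cons 2 (nat_lit 0x20102102123122310232030312330132)
 (.cons 1 (nat_lit 0x10514141014004155010154415411014)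
 (.cons 2 (nat_lit 0x20020000002000200000002200200020)
 (.cons 4 (nat_lit 0x804080a0800000004060e080a020400)
 (.cons 8 (nat_lit 0x44003c000000000014008800a40084)
 (.cons 16 (nat_lit 0x54d0000057900000ab700000f818)
 (.cons 32 (nat_lit 0x39c3c6cc000000008bc306cc)
 (.cons 64 (nat_lit 0x4055fb0000aa0000)
 .nil)))))))))))))
noncomputable def a19 : Net := (.cons 64 (nat_lit 0x8002ffff00ff0000)
 (.cons 32 (nat_lit 0xf3072b10000000066f071b2)
 (.cons 16 (nat_lit 0x2b7800001e3c0000368b00004d95)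
 (.cons 8 (nat_lit 0x75002c005200410036005400fd00c6)
 (.cons 4 (nat_lit 0xb0200090003010c0303010d04090301)
 (.cons 2 (nat_lit 0x33232111301100331010101310111321)
 (.cons 1 (nat_lit 0x14051101441510011001511041100441)
 (.cons 2 (nat_lit 0x22000202022020020002020022000220)
 (.cons 4 (nat_lit 0x4000c0002040000040e000204020404)
 (.cons 8 (nat_lit 0xf200b400a400f0001000ee003c0072)
 (.cons 16 (nat_lit 0x2e940000fe2c0000632200009e72)
 (.cons 32 (nat_lit 0xfc0c0300000000000c0c030)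
 (.cons 64 (nat_lit 0x8000f7ff00ff0000)
 .nil)))))))))))))
noncomputable def a20 : Net := (.cons 64 (nat_lit 0x30ff00fa008f03)
 (.cons 32 (nat_lit 0xa3da69cd00000000dcfa68af)
 (.cons 16 (nat_lit 0xff000002ff200005fcf00003fe1)
 (.cons 8 (nat_lit 0x85006b003c0096001600b5004200aa)
 (.cons 4 (nat_lit 0x8050d040d0e0409050d02080d020b01)
 (.cons 2 (nat_lit 0x22322123321232223201313121011031)
 (.cons 1 (nat_lit 0x4111114444110514414451455501441)
 (.cons 2 (nat_lit 0x202002020020020200200000002200)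
 (.cons 4 (nat_lit 0x80c0c040a0c0c0c000c0c0408080206)
 (.cons 8 (nat_lit 0xa400c8006800c6002600940064009c)
 (.cons 16 (nat_lit 0xff000002f700000386e0000abb0)
 (.cons 32 (nat_lit 0xa3028cc400000000c90aaca8)
 (.cons 64 (nat_lit 0x5f0fff001f00)
 .nil)))))))))))))
noncomputable def a21 : Net := (.cons 64 (nat_lit 0xc9250cfac52500)
 (.cons 32 (nat_lit 0xcccccc00000000f0ccccfc)
 (.cons 16 (nat_lit 0xa5000000ff080000f5000000ff08)
 (.cons 8 (nat_lit 0xe5000000f700de0045007000a7003e)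
 (.cons 4 (nat_lit 0x70000000000)
 (.cons 2 (nat_lit 0x20230000121222202023313032022230)
 (.cons 1 (nat_lit 0x40150000015414414015114051041451)
 (.cons 2 (nat_lit 0x20000000020020220020202002000002)
 (.cons 4 (nat_lit 0x20000000000)
 (.cons 8 (nat_lit 0x60000000a60084006000c000060044)
 (.cons 16 (nat_lit 0xa5000000fd000000f5000000fd00)
 (.cons 32 (nat_lit 0xcccccc00000000a0cccc0c)
 (.cons 64 (nat_lit 0xf06000f0000000)
 .nil)))))))))))))
noncomputable def a22 : Net := (.cons 64 (nat_lit 0x82065faf80f50000)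
 (.cons 32 (nat_lit 0xa5d37e8100000000f5eb7d82)
 (.cons 16 (nat_lit 0x6b20000895000001ff900000fbc)
 (.cons 8 (nat_lit 0x300a4008c00c800a40009001800d6)
 (.cons 4 (nat_lit 0xb0403050a080c08080d0200050104)
 (.cons 2 (nat_lit 0x21012003102212012301011010022330)
 (.cons 1 (nat_lit 0x1054014001040000540401100501414)
 (.cons 2 (nat_lit 0x2000000000000200000002222)
 (.cons 4 (nat_lit 0x208000004020804080008000404040c)
 (.cons 8 (nat_lit 0xa20080008c00c80084006800180080)
 (.cons 16 (nat_lit 0x4a00000015000001bb000000e38)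
 (.cons 32 (nat_lit 0xa5d33c0000000000f5eb3c00)
 (.cons 64 (nat_lit 0x820055af80f50000)
 .nil)))))))))))))
noncomputable def a23 : Net := (.cons 64 (nat_lit 0x3c3b839accf87f5a)
 (.cons 32 (nat_lit 0x994338f900000000667ff7c6)
 (.cons 16 (nat_lit 0x134d00000f8f0000374f0000274d)
 (.cons 8 (nat_lit 0xf00f4008f0062004d00ef00cd00df)
 (.cons 4 (nat_lit 0xb0d030c000f080d000d0a0f0102020f)
 (.cons 2 (nat_lit 0x1122113033032031310012313212023)
 (.cons 1 (nat_lit 0x14441145111104544004414055155411)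
 (.cons 2 (nat_lit 0x22022220200000022002020000000020)
 (.cons 4 (nat_lit 0x20a02040c0c080c040e060000060204)
 (.cons 8 (nat_lit 0x80009800f000b20058002c00a4005c)
 (.cons 16 (nat_lit 0x8f6000007f200000571000006f60)
 (.cons 32 (nat_lit 0x958a080000000000658a0400)
 (.cons 64 (nat_lit 0x3cec3fccc0200000)
 .nil)))))))))))))
noncomputable def a24 : Net := (.cons 64 (nat_lit 0xff83f383f07c0c7c)
 (.cons 32 (nat_lit 0x363a283a00000000ffa403a4)
 (.cons 16 (nat_lit 0xc8cb0000dcee0000013100000cd6)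
 (.cons 8 (nat_lit 0x4900710087000200a7000600aa0096)
 (.cons 4 (nat_lit 0x30b0009010c010b030f0602090606)
 (.cons 2 (nat_lit 0x30003223300213121232233302100123)
 (.cons 1 (nat_lit 0x11145141444450054454154100405005)
 (.cons 2 (nat_lit 0x2200022002000000000002000000000)
 (.cons 4 (nat_lit 0xa080e0800040c0c00000a080c0606)
 (.cons 8 (nat_lit 0xa6004800a400e20040007a00ae0034)
 (.cons 16 (nat_lit 0x8cda0000287600009c4600000caa)
 (.cons 32 (nat_lit 0x5a00140000000000ff3c3c00)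
 (.cons 64 (nat_lit 0xffcfcff3fa303000)
 .nil)))))))))))))
noncomputable def a25 : Net := (.cons 64 (nat_lit 0x33329e5c3a0aaaa0)
 (.cons 32 (nat_lit 0xf517ae2b000000004afb5660)
 (.cons 16 (nat_lit 0xc76c00009ecf000091cc0000b3cc)
 (.cons 8 (nat_lit 0x1300a4003b008c005e004e00e800f9)
 (.cons 4 (nat_lit 0x20702050a040e0b030e0205060e0907)
 (.cons 2 (nat_lit 0x3312023033130302211202201221222)
 (.cons 1 (nat_lit 0x54544415151101510110044141140114)
 (.cons 2 (nat_lit 0x2000200000000000200000222220220)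
 (.cons 4 (nat_lit 0x406080c0a000608020204040e00080c)
 (.cons 8 (nat_lit 0xa2009e009000c400000080003c0058)
 (.cons 16 (nat_lit 0xd29000009e9c0000dd020000e700)
 (.cons 32 (nat_lit 0xf64668980000000006966a6e)
 (.cons 64 (nat_lit 0x3309cccc50cca000)
 .nil)))))))))))))
noncomputable def a26 : Net := (.cons 64 (nat_lit 0x96e15a5a963c961e)
 (.cons 32 (nat_lit 0x6403e422000000005cea91e6)
 (.cons 16 (nat_lit 0xd537000024c9000047220000bfaa)
 (.cons 8 (nat_lit 0x5e00d4000100ec003a00e1008d0052)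
 (.cons 4 (nat_lit 0xd0904020503010b0f0c0c040e00080e)
 (.cons 2 (nat_lit 0x31000231120101201001013131302002)
 (.cons 1 (nat_lit 0x41044440404040501140504010401044)
 (.cons 2 (nat_lit 0x22020000020002020000020000002)
 (.cons 4 (nat_lit 0x800000600000e0c0600040006080c)
 (.cons 8 (nat_lit 0xf8009e00b400a0000a00f800900070)
 (.cons 16 (nat_lit 0x27a20000252000000b9a0000de94)
 (.cons 32 (nat_lit 0xf2bec7d20000000075f11fa8)
 (.cons 64 (nat_lit 0x96fe55ae658a6580)
 .nil)))))))))))))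
noncomputable def a27 : Net := (.cons 64 (nat_lit 0x890f900fd096f00)
 (.cons 32 (nat_lit 0x91b2ccd4000000002fb0c2f0)
 (.cons 16 (nat_lit 0x8c50000a9180000a4a900008578)
 (.cons 8 (nat_lit 0x73003c00d4000800a900b0000500c4)
 (.cons 4 (nat_lit 0xa0a0f02080a0e0f070c000f0206)
 (.cons 2 (nat_lit 0x12020023320310033220232010223320)
 (.cons 1 (nat_lit 0x50011041110510110144045000140450)
 (.cons 2 (nat_lit 0x20020020020200220000000220200)
 (.cons 4 (nat_lit 0x20c08080a060e04080a00080c0e)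
 (.cons 8 (nat_lit 0x6200d40034005800b8009c00520042)
 (.cons 16 (nat_lit 0x81480000818a000033d00000e150)
 (.cons 32 (nat_lit 0x99bc27c8000000003be8dfa0)
 (.cons 64 (nat_lit 0x880f02f00f70000)
 .nil)))))))))))))
noncomputable def a28 : Net := (.cons 64 (nat_lit 0xc399f0990f66f066)
 (.cons 32 (nat_lit 0xfb7fef0200000000fbffff02)
 (.cons 16 (nat_lit 0x81690000f76900006a6600000066)
 (.cons 8 (nat_lit 0x7b00b90098002e00d900ff006e0000)
 (.cons 4 (nat_lit 0x60c0d0e0f070e0d0209000700080000)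
 (.cons 2 (nat_lit 0x21122212110022132220112222211100)
 (.cons 1 (nat_lit 0x10010410040040004045501444000050)
 (.cons 2 (nat_lit 0x20000020000000000000000220000000)
 (.cons 4 (nat_lit 0xc000800000000000002000400080000)
 (.cons 8 (nat_lit 0x1000c4008800a800480000006a0000)
 (.cons 16 (nat_lit 0xc37a000070960000c35c00000066)
 (.cons 32 (nat_lit 0xbbeeff0000000000fbfeff00)
 (.cons 64 (nat_lit 0xc3f0f00ff0f0f0f0)
 .nil)))))))))))))
noncomputable def a29 : Net := (.cons 64 (nat_lit 0xeb0000ffffffff00)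
 (.cons 32 (nat_lit 0x39621bb90000000055991424)
 (.cons 16 (nat_lit 0x316e000096e1000000db0000d766)
 (.cons 8 (nat_lit 0x7d00b000cf008800f8003500360066)
 (.cons 4 (nat_lit 0xc07090f080508020b010e000f020600)
 (.cons 2 (nat_lit 0x11100133003211300110121212220)
 (.cons 1 (nat_lit 0x40105440104000550501014440040410)
 (.cons 2 (nat_lit 0x20000220000000000000022020020020)
 (.cons 4 (nat_lit 0x6000c020e0c0c06000a0002060000)
 (.cons 8 (nat_lit 0x3400f60054000000f800c0000c0064)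
 (.cons 16 (nat_lit 0x6b660000f0b0000044aa00007766)
 (.cons 32 (nat_lit 0x5a4800000000000055114400)
 (.cons 64 (nat_lit 0xeb00000000000000)
 .nil)))))))))))))
noncomputable def a30 : Net := (.cons 64 (nat_lit 0xeb00000000000000)
 (.cons 32 (nat_lit 0xebff7f0000000000aaee7700)
 (.cons 16 (nat_lit 0x87f0000013d800000ff0000005f0)
 (.cons 8 (nat_lit 0x3500a00095004a0065005800290050)
 (.cons 4 (nat_lit 0xc0c0304070c00060c06020c0c04040c)
 (.cons 2 (nat_lit 0x20210032310003030030020101011010)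
 (.cons 1 (nat_lit 0x10004110041401000400004040000004)
 (.cons 2 (nat_lit 0x20002020002202000200002020000002)
 (.cons 4 (nat_lit 0x80c0a0e000c00040c04000c0c04040c)
 (.cons 8 (nat_lit 0x10002a0016000a0060002000280040)
 (.cons 16 (nat_lit 0x8fe0000013d800000ff0000005f0)
 (.cons 32 (nat_lit 0xebff7f0000000000aaff6600)
 (.cons 64 (nat_lit 0xeb00000000000000)
 .nil)))))))))))))
noncomputable def a31 : Net := (.cons 64 (nat_lit 0xffffffffff000000)
 (.cons 32 (nat_lit 0xf03c818100000000003cc3c3)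
 (.cons 16 (nat_lit 0x5b680000f0c3000095b200000f5a)
 (.cons 8 (nat_lit 0x33005b009c00d2000f00f200de00d2)
 (.cons 4 (nat_lit 0xd0b000c0b03070c02090e060a010102)
 (.cons 2 (nat_lit 0x13033230211213100013220030320310)
 (.cons 1 (nat_lit 0x40454441011511141401140101151150)
 (.cons 2 (nat_lit 0x22000002022002200200000000)
 (.cons 4 (nat_lit 0x80e080002040a080a080c0006040806)
 (.cons 8 (nat_lit 0x9e001200b600b8001a009000b60018)
 (.cons 16 (nat_lit 0xd4f800008dcc0000956000002d3c)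
 (.cons 32 (nat_lit 0xf0cccccc0000000000cccccc)
 (.cons 64 (nat_lit 0xff00000000000000)
 .nil)))))))))))))
noncomputable def a32 : Net := (.cons 64 (nat_lit 0xf033c62e62279eca)
 (.cons 32 (nat_lit 0xf0d37f0000000003a3d26e0)
 (.cons 16 (nat_lit 0xd7410000b6aa000021f6000039ba)
 (.cons 8 (nat_lit 0x5a009e0070008000b1005300dc00f4)
 (.cons 4 (nat_lit 0xe00000f0604090003010b010a070a04)
 (.cons 2 (nat_lit 0x31232222320332332201011000001100)
 (.cons 1 (nat_lit 0x401410044411411401405004140104)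
 (.cons 2 (nat_lit 0x200220022022200202000000020200)
 (.cons 4 (nat_lit 0x608020604000208040800080e0800)
 (.cons 8 (nat_lit 0x6400a4009800ba0058000c00f2)
 (.cons 16 (nat_lit 0xc4760000b62a000019e60000b9ea)
 (.cons 32 (nat_lit 0xf1f87e000000000344f38b0)
 (.cons 64 (nat_lit 0xf03ec85cc0cccccc)
 .nil)))))))))))))
noncomputable def a33 : Net := (.cons 64 (nat_lit 0x223f40fc000a5f00)
 (.cons 32 (nat_lit 0xfe000000000000007f000180)
 (.cons 16 (nat_lit 0xe70000002e800002bf100000ae0)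
 (.cons 8 (nat_lit 0xaa00640002006c004a006a00ff0050)
 (.cons 4 (nat_lit 0x80c020c0204040d070c030f0c05010c)
 (.cons 2 (nat_lit 0x30020232000212210121003121010122)
 (.cons 1 (nat_lit 0x50440404000410140044015444000014)
 (.cons 2 (nat_lit 0x20202000200200000000020000022)
 (.cons 4 (nat_lit 0xc04000c00040404040c02040c04000c)
 (.cons 8 (nat_lit 0xb8003c000000640048006200a00000)
 (.cons 16 (nat_lit 0xe70000002e80000097000001bf0)
 (.cons 32 (nat_lit 0xfe000000000000002f000000)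
 (.cons 64 (nat_lit 0x223f40fc00005500)
 .nil)))))))))))))
noncomputable def a34 : Net := (.cons 64 (nat_lit 0x5a53c3f0a06c3ccc)
 (.cons 32 (nat_lit 0xff00000000000000ff0000)
 (.cons 16 (nat_lit 0x5f000000ff000000af000000ff00)
 (.cons 8 (nat_lit 0xf0005c00f000f000f0000d00f000f0)
 (.cons 4 (nat_lit 0xf000005000f0f000f000a00000f0f00)
 (.cons 2 (nat_lit 0x22013222110111031102123212322200)
 (.cons 1 (nat_lit 0x11000404004414004100040400144400)
 (.cons 2 (nat_lit 0x2000202002022000200020200202200)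
 (.cons 4 (nat_lit 0x4000000000000020000000000)
 (.cons 8 (nat_lit 0xf0005400f000f000f0000c00f000f0)
 (.cons 16 (nat_lit 0x5f000000ff000000af000000ff00)
 (.cons 32 (nat_lit 0xff00000000000000ff0000)
 (.cons 64 (nat_lit 0x5a0cc00000cccccc)
 .nil)))))))))))))
noncomputable def a35 : Net := (.cons 64 (nat_lit 0x1339cd4dedcc1a14)
 (.cons 32 (nat_lit 0x543e3d3c00000000909a3cac)
 (.cons 16 (nat_lit 0xff700008b5e000082bc00001e1a)
 (.cons 8 (nat_lit 0x52008a00b600330056007f00cc0028)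
 (.cons 4 (nat_lit 0x1040d07090a0a06020e07050e08000a)
 (.cons 2 (nat_lit 0x13030110203030022021020110132112)
 (.cons 1 (nat_lit 0x4405041051000404011540014004444)
 (.cons 2 (nat_lit 0x20000000002020020020002202)
 (.cons 4 (nat_lit 0x4040a0008020804000e04000000080a)
 (.cons 8 (nat_lit 0x58009e00a400480040002600960022)
 (.cons 16 (nat_lit 0xaa80000ab780000c20800001404)
 (.cons 32 (nat_lit 0x44341c3c00000000b0dc3eb8)
 (.cons 64 (nat_lit 0x133ace4cd5c01240)
 .nil)))))))))))))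
noncomputable def a36 : Net := (.cons 64 (nat_lit 0xf500000000000000)
 (.cons 32 (nat_lit 0xaa33cccc000000005533cccc)
 (.cons 16 (nat_lit 0xff000000f6000000ff0000009900)
 (.cons 8 (nat_lit 0xf0000a00f600f000f000f000990000)
 (.cons 4 (nat_lit 0xe08000a0006000f0b0b0e0e09090000)
 (.cons 2 (nat_lit 0x1320033102300110110122100330000)
 (.cons 1 (nat_lit 0x10100110404000144004011000000000)
 (.cons 2 (nat_lit 0x20200220202000222002000000000000)
 (.cons 4 (nat_lit 0xa0a0008060000000a0a0a0a00000000)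
 (.cons 8 (nat_lit 0xf0000e009000f000f000f000000000)
 (.cons 16 (nat_lit 0xff000000f6000000ff0000009900)
 (.cons 32 (nat_lit 0x5a33cccc000000005533cccc)
 (.cons 64 (nat_lit 0xf500000000000000)
 .nil)))))))))))))
noncomputable def a37 : Net := (.cons 64 (nat_lit 0xff0a05f6fc0906)
 (.cons 32 (nat_lit 0x5a5ab74800000000a1585f08)
 (.cons 16 (nat_lit 0x62e500006e8c00009a050000962c)
 (.cons 8 (nat_lit 0x5a00ca004a006c00ca005c006a005a)
 (.cons 4 (nat_lit 0xe00040004000000)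
 (.cons 2 (nat_lit 0x22021322221212023222230203021312)
 (.cons 1 (nat_lit 0x40000510400001140410050400100500)
 (.cons 2 (nat_lit 0x20000020200002020220000200000000)
 (.cons 4 (nat_lit 0xe00040004000000)
 (.cons 8 (nat_lit 0x4000ca0040006c00c0004c0060000a)
 (.cons 16 (nat_lit 0x220800006e4000009a0800001600)
 (.cons 32 (nat_lit 0x5a12840000000000a1505c00)
 (.cons 64 (nat_lit 0xf00000f0f00000)
 .nil)))))))))))))
noncomputable def a38 : Net := (.cons 64 (nat_lit 0x6703d0ec9f0f639c)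
 (.cons 32 (nat_lit 0x2bb00a7100000000e23c3c38)
 (.cons 16 (nat_lit 0x1a150000142d000050240000adda)
 (.cons 8 (nat_lit 0xfd00ae004c00e500ce00eb00000064)
 (.cons 4 (nat_lit 0x30f0004090602060e05000f09060a0e)
 (.cons 2 (nat_lit 0x12230122300201311001032320123220)
 (.cons 1 (nat_lit 0x45040514101445541410450400140410)
 (.cons 2 (nat_lit 0x20020000200002220000200000200)
 (.cons 4 (nat_lit 0xe040208020a060606080c08000a0a)
 (.cons 8 (nat_lit 0x9200e8000e00a4001e00aa00300034)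
 (.cons 16 (nat_lit 0x7b16000047280000307000003d50)
 (.cons 32 (nat_lit 0x4adb457c00000000f23c3c1c)
 (.cons 64 (nat_lit 0x6707d9e095096190)
 .nil)))))))))))))
noncomputable def a39 : Net := (.cons 64 (nat_lit 0x66f3ffff6f000000)
 (.cons 32 (nat_lit 0x603cf0f00000000006f0f0f0)
 (.cons 8 (nat_lit 0xf6002200aa00bb004800bb005200ee)
 (.cons 4 (nat_lit 0x6020b0808080d0108080d0102060704)
 (.cons 2 (nat_lit 0x2010000032200003200000000030000)
 (.cons 1 (nat_lit 0x54041054414451401004150410045410)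
 (.cons 2 (nat_lit 0x2020000020200002000000000020000)
 (.cons 4 (nat_lit 0x2060202040808080c08080800060202)
 (.cons 8 (nat_lit 0x9000aa00aa00aa00c800aa005200aa)
 (.cons 32 (nat_lit 0x603cf0f00000000006f0f0f0)
 (.cons 64 (nat_lit 0x66ffffff69000000)
 .nil)))))))))))
noncomputable def a40 : Net := (.cons 64 (nat_lit 0xff0a05f6fc0906)
 (.cons 32 (nat_lit 0x5a5ab74800000000a1585f08)
 (.cons 16 (nat_lit 0x62e500006e8c00009a050000962c)
 (.cons 8 (nat_lit 0x5a00ca004a006c00ca005c006a005a)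
 (.cons 4 (nat_lit 0xe00040004000000)
 (.cons 2 (nat_lit 0x22021322221212023222230203021312)
 (.cons 1 (nat_lit 0x40000510400001140410050400100500)
 (.cons 2 (nat_lit 0x20000020200002020220000200000000)
 (.cons 4 (nat_lit 0xe00040004000000)
 (.cons 8 (nat_lit 0x4000ca0040006c00c0004c0060000a)
 (.cons 16 (nat_lit 0x220800006e4000009a0800001600)
 (.cons 32 (nat_lit 0x5a12840000000000a1505c00)
 (.cons 64 (nat_lit 0xf00000f0f00000)
 .nil)))))))))))))
noncomputable def a41 : Net := (.cons 64 (nat_lit 0xf3333cc0f3333cc)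
 (.cons 32 (nat_lit 0xf00f0ff000000000f00f0ff0)
 (.cons 4 (nat_lit 0xf000000000000000000000000000000)
 (.cons 2 (nat_lit 0x33000000030000000000000003000000)
 (.cons 1 (nat_lit 0x140014001400140014001400140014)
 (.cons 32 (nat_lit 0xf00000000000000000000000)
 (.cons 64 (nat_lit 0xf00000000000000)
 .nil)))))))
noncomputable def a42 : Net := (.cons 64 (nat_lit 0xff0000ffffffff00)
 (.cons 32 (nat_lit 0x50c3c33f0000000000c3c33c)
 (.cons 16 (nat_lit 0x5508000055110000aa000000aa18)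
 (.cons 8 (nat_lit 0x750045005500f000f2000000f800b8)
 (.cons 4 (nat_lit 0xd0604080505010e000e0000090a0200)
 (.cons 2 (nat_lit 0x23313003121232013002100313212320)
 (.cons 1 (nat_lit 0x40140054001450501040001414041044)
 (.cons 2 (nat_lit 0x220002000000000000000022000020)
 (.cons 4 (nat_lit 0xc0604080000040e0a0400000c00020c)
 (.cons 8 (nat_lit 0x480044000000f000d0000000d00090)
 (.cons 16 (nat_lit 0x1500000014000000aa0000008800)
 (.cons 32 (nat_lit 0xf0cccccc0000000000cccccc)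
 (.cons 64 (nat_lit 0xff00000000000000)
 .nil)))))))))))))
noncomputable def a43 : Net := (.cons 64 (nat_lit 0xffffffff00)
 (.cons 32 (nat_lit 0xff00000000000000ff000000)
 (.cons 16 (nat_lit 0xff000000ff000000ff000000ff00)
 (.cons 8 (nat_lit 0xff00ff0000000000ff00ff0000)
 (.cons 4 (nat_lit 0xf0f0f0f000000000f0f0f0f0a00)
 (.cons 2 (nat_lit 0x12221200121200332122220322212230)
 (.cons 1 (nat_lit 0x441414005000550041414405000050)
 (.cons 2 (nat_lit 0x220022000000000022002200000000)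
 (.cons 16 (nat_lit 0xff000000ff000000ff000000ff00)
 (.cons 32 (nat_lit 0xff00000000000000ff000000)
 .nil))))))))))
noncomputable def a44 : Net := (.cons 64 (nat_lit 0x55f00ff00f0ff0f0)
 (.cons 32 (nat_lit 0xff00000000000000fa000000)
 (.cons 16 (nat_lit 0xff000000ff000000ff000000af00)
 (.cons 8 (nat_lit 0x8b003e00af00ee00a900dc00a50000)
 (.cons 4 (nat_lit 0xf00030805060c05000f0407000f0a00)
 (.cons 2 (nat_lit 0x3300112212202013003320120031030)
 (.cons 1 (nat_lit 0x40100140001411000404100400000000)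
 (.cons 2 (nat_lit 0x200002202000000200200000000)
 (.cons 4 (nat_lit 0xa0a0a06000c020408080c0400000000)
 (.cons 8 (nat_lit 0xaa004200aa00ea0088008400000000)
 (.cons 16 (nat_lit 0xff000000ff000000ff000000af00)
 (.cons 32 (nat_lit 0xff00000000000000fa000000)
 (.cons 64 (nat_lit 0x550ff00ff00ff0f0)
 .nil)))))))))))))
noncomputable def a45 : Net := (.cons 64 (nat_lit 0xaac9a5cc5a35a500)
 (.cons 32 (nat_lit 0xaf000000000000005f000000)
 (.cons 16 (nat_lit 0xf0f0000fa2000000f0f0000f500)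
 (.cons 8 (nat_lit 0xf000f00f000e0000f000f00f00070)
 (.cons 4 (nat_lit 0x8000000000000000600)
 (.cons 2 (nat_lit 0x1122001301103200122203131111020)
 (.cons 1 (nat_lit 0x1040404105040100104040440000110)
 (.cons 2 (nat_lit 0x2000202200000200200020220000020)
 (.cons 4 (nat_lit 0x8000000000000000600)
 (.cons 8 (nat_lit 0xc00000000000000030)
 (.cons 16 (nat_lit 0xda00000000000000f500)
 (.cons 32 (nat_lit 0xaf000000000000005f000000)
 (.cons 64 (nat_lit 0xaac000c00000c000)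
 .nil)))))))))))))
noncomputable def a46 : Net := (.cons 64 (nat_lit 0xffffffff000000)
 (.cons 4 (nat_lit 0xf00000000000000)
 (.cons 2 (nat_lit 0x303030003030300030303000303030)
 .nil)))
noncomputable def a47 : Net := (.cons 4 (nat_lit 0xf0f0f0f0000000f0f0f0f0f000000)
 (.cons 2 (nat_lit 0x333333003333330000000000000000)
 .nil))
noncomputable def a48 : Net := (.cons 64 (nat_lit 0xdf00000000000000)
 (.cons 32 (nat_lit 0xa3591de2000000003366dddd)
 (.cons 16 (nat_lit 0x332a0000aff50000aaaa0000aa44)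
 (.cons 8 (nat_lit 0xa00089008f008a0000006600440055)
 (.cons 4 (nat_lit 0x10204090e0609090c020700020508)
 (.cons 2 (nat_lit 0x21130100310300200033220000330000)
 (.cons 1 (nat_lit 0x1414151154110111144444444444444)
 (.cons 2 (nat_lit 0x202000000020022200220022000022)
 (.cons 4 (nat_lit 0xe000800040402000000000000000000)
 (.cons 8 (nat_lit 0x38009a001c00580000000000880088)
 (.cons 16 (nat_lit 0x70aa0000e9d40000aaaa0000aa44)
 (.cons 32 (nat_lit 0x66482dc0000000003388dd00)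
 (.cons 64 (nat_lit 0xdf00000000000000)
 .nil)))))))))))))
noncomputable def a49 : Net := (.cons 64 (nat_lit 0xa555fecfc599ce03)
 (.cons 32 (nat_lit 0xecf9e3c6000000007336ec39)
 (.cons 16 (nat_lit 0x37ac0000183e0000043f000023ce)
 (.cons 8 (nat_lit 0xf0006000f400f000f500f000f00060)
 (.cons 4 (nat_lit 0x20c0e0a0c0a0301070f0300030c0407)
 (.cons 2 (nat_lit 0x21030113030030032110300330010202)
 (.cons 1 (nat_lit 0x10150514151140144040505101501441)
 (.cons 2 (nat_lit 0x22200200000000000000000022)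
 (.cons 4 (nat_lit 0x600060200000000060800000002000e)
 (.cons 8 (nat_lit 0x480040000000980000000000a4)
 (.cons 16 (nat_lit 0xda0000000c1400000c3c0000ff28)
 (.cons 32 (nat_lit 0xcc022c800000000033022c80)
 (.cons 64 (nat_lit 0xa5ceee3b5a002200)
 .nil)))))))))))))
noncomputable def a50 : Net := (.cons 64 (nat_lit 0xbf0c40fcff0000)
 (.cons 32 (nat_lit 0xd05a0772000000006fcff0f0)
 (.cons 16 (nat_lit 0xeb9400000439000082e20000ea30)
 (.cons 8 (nat_lit 0xf9002000ff003e001900a100d6001a)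
 (.cons 4 (nat_lit 0xc030001020a0d060e00000b0d0d0102)
 (.cons 2 (nat_lit 0x20023022222122300210202012130122)
 (.cons 1 (nat_lit 0x14040014140014041450400414400504)
 (.cons 2 (nat_lit 0x22000022220020022000200222000002)
 (.cons 4 (nat_lit 0xc00040c0c080404080a00040c08020c)
 (.cons 8 (nat_lit 0x9a002000d600b800d400b800d60038)
 (.cons 16 (nat_lit 0xebba00002e920000880a00004f04)
 (.cons 32 (nat_lit 0xd0e06d800000000055a9d188)
 (.cons 64 (nat_lit 0xff0600fff00000)
 .nil)))))))))))))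
noncomputable def a51 : Net := (.cons 64 (nat_lit 0xd70bf40fd8e41be4)
 (.cons 32 (nat_lit 0x56510220000000089452002)
 (.cons 16 (nat_lit 0x552e00000efb0000ed7b0000f8be)
 (.cons 8 (nat_lit 0xb7007400f7004f003a00df004c008c)
 (.cons 4 (nat_lit 0x50d06040a0b0b04070c0702060f0e02)
 (.cons 2 (nat_lit 0x3121203001032321202030020323020)
 (.cons 1 (nat_lit 0x14404411144000501441411004001040)
 (.cons 2 (nat_lit 0x2000222202000000202002000000020)
 (.cons 4 (nat_lit 0xc04080402000c0404040204000600)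
 (.cons 8 (nat_lit 0xf2004600cc004e0032006400400098)
 (.cons 16 (nat_lit 0xd23c0000cb360000cc6e0000fa4c)
 (.cons 32 (nat_lit 0xd05399aa00000000a1ca695a)
 (.cons 64 (nat_lit 0xd70ff0d01182e0f0)
 .nil)))))))))))))
noncomputable def a52 : Net := (.cons 64 (nat_lit 0x8200f530ff03cf00)
 (.cons 32 (nat_lit 0xfbffff0200000000ffffff00)
 (.cons 16 (nat_lit 0xf890000a17200002d67000078f4)
 (.cons 8 (nat_lit 0x6d00e700600004007800b5008400f0)
 (.cons 4 (nat_lit 0xf0c01040006000603070e0200060904)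
 (.cons 2 (nat_lit 0x22101003013212013112210211010002)
 (.cons 1 (nat_lit 0x4044500404100411010144040044404)
 (.cons 2 (nat_lit 0x2020000202200220000220000022002)
 (.cons 4 (nat_lit 0x802020c000608060a0c0c0400060804)
 (.cons 8 (nat_lit 0x1400be004400000050005a009400d0)
 (.cons 16 (nat_lit 0xb4f80000a37400005a70000078f4)
 (.cons 32 (nat_lit 0xfbfffe0000000000ffffff00)
 (.cons 64 (nat_lit 0x8200f5f5305f0000)
 .nil)))))))))))))
noncomputable def a53 : Net := (.cons 64 (nat_lit 0xc369f069cc963396)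
 (.cons 32 (nat_lit 0xff00000000000000ff0000)
 (.cons 16 (nat_lit 0x3ff000003c0f0000000f00003cf0)
 (.cons 4 (nat_lit 0xa0c0a000a0f0a000a000a0f0a000a)
 (.cons 2 (nat_lit 0x30300330000330030003000333300330)
 (.cons 1 (nat_lit 0x440011004400110011004400110044)
 (.cons 2 (nat_lit 0x220022002200220022002200220022)
 (.cons 4 (nat_lit 0xc0a0c0a000a000a000a000a000a000a)
 (.cons 16 (nat_lit 0x3c0000003c00000000000000cc00)
 (.cons 32 (nat_lit 0xff00000000000000ff0000)
 (.cons 64 (nat_lit 0xc300f000c0003000)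
 .nil)))))))))))
noncomputable def a54 : Net := (.cons 64 (nat_lit 0xeb00000000000000)
 (.cons 32 (nat_lit 0xebff7f0000000000aaee7700)
 (.cons 16 (nat_lit 0x87f0000013d800000ff0000005f0)
 (.cons 8 (nat_lit 0x3500a00095004a0065005800290050)
 (.cons 4 (nat_lit 0xc0c0304070c00060c06020c0c04040c)
 (.cons 2 (nat_lit 0x20210032310003030030020101011010)
 (.cons 1 (nat_lit 0x10004110041401000400004040000004)
 (.cons 2 (nat_lit 0x20002020002202000200002020000002)
 (.cons 4 (nat_lit 0x80c0a0e000c00040c04000c0c04040c)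
 (.cons 8 (nat_lit 0x10002a0016000a0060002000280040)
 (.cons 16 (nat_lit 0x8fe0000013d800000ff0000005f0)
 (.cons 32 (nat_lit 0xebff7f0000000000aaff6600)
 (.cons 64 (nat_lit 0xeb00000000000000)
 .nil)))))))))))))
noncomputable def a55 : Net := (.cons 64 (nat_lit 0xfffc09f606f005fa)
 (.cons 32 (nat_lit 0xee74080000000000ff0000)
 (.cons 16 (nat_lit 0x8d5500001f1d000069ff00003767)
 (.cons 8 (nat_lit 0x2500ce00e6009100700000005700f2)
 (.cons 4 (nat_lit 0xf060f030803080807060606090c0800)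
 (.cons 2 (nat_lit 0x30022200033213300100100322120101)
 (.cons 1 (nat_lit 0x45111501445001050404404410411150)
 (.cons 2 (nat_lit 0x20000220000000200202200022200)
 (.cons 4 (nat_lit 0xc08000000040204060006000000080c)
 (.cons 8 (nat_lit 0x6a007400d000840070000000180066)
 (.cons 16 (nat_lit 0x13b6000077a40000695a0000ccaa)
 (.cons 32 (nat_lit 0x5216bf00000000000000ff00)
 (.cons 64 (nat_lit 0xfff0f00f0f000000)
 .nil)))))))))))))
noncomputable def a56 : Net := (.cons 64 (nat_lit 0xf03a6cc5c4f3c05d)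
 (.cons 32 (nat_lit 0xd05f01f0000000092769634)
 (.cons 16 (nat_lit 0x550000fe82000056860000fffe)
 (.cons 8 (nat_lit 0xf200ff00c8009300470040000800f9)
 (.cons 4 (nat_lit 0x80f0c000a0b090f03050709070f060e)
 (.cons 2 (nat_lit 0x21120312302312211031112130012201)
 (.cons 1 (nat_lit 0x54044414001411111051510411051441)
 (.cons 2 (nat_lit 0x2000000000002000002020002002000)
 (.cons 4 (nat_lit 0xc06080c0806080006060c000a020e08)
 (.cons 8 (nat_lit 0x9200000006003000c600c000e000fc)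
 (.cons 16 (nat_lit 0x990000005e800000ce8000009014)
 (.cons 32 (nat_lit 0x2d7070f0000000009fdfb708)
 (.cons 64 (nat_lit 0xf0f8a2fcf0ca30c0)
 .nil)))))))))))))
noncomputable def a57 : Net := (.cons 64 (nat_lit 0xff00000000000000)
 (.cons 32 (nat_lit 0xff00000000ddffff00)
 (.cons 16 (nat_lit 0x552d0000aa5c000055770000aa00)
 (.cons 8 (nat_lit 0xb300d9009a004e00cc003300220066)
 (.cons 4 (nat_lit 0x30103020a0c040e01030302080c040c)
 (.cons 2 (nat_lit 0x13011220312221230011223300333300)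
 (.cons 1 (nat_lit 0x14040141144005010011440000114444)
 (.cons 2 (nat_lit 0x22220000222200)
 (.cons 4 (nat_lit 0x80004000000000000000000)
 (.cons 8 (nat_lit 0x34001800f40068004400ee00880022)
 (.cons 16 (nat_lit 0x4400000c00000000440000aa00)
 (.cons 32 (nat_lit 0xff00000000000000dd000000)
 (.cons 64 (nat_lit 0xff00000000000000)
 .nil)))))))))))))
noncomputable def a58 : Net := (.cons 64 (nat_lit 0x4000005c95cfffb)
 (.cons 32 (nat_lit 0xffffff0000000000ffffff00)
 (.cons 16 (nat_lit 0xf0f0000f0f600002a1f0000fd62)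
 (.cons 8 (nat_lit 0x17000500fe006d004f007500980025)
 (.cons 4 (nat_lit 0xd00060d0a0f060a05040e0903070e02)
 (.cons 2 (nat_lit 0x20131131000000001020212213330332)
 (.cons 1 (nat_lit 0x14151404500504104445011414540111)
 (.cons 2 (nat_lit 0x2200000000000000000200000002)
 (.cons 4 (nat_lit 0x8080004020a0002000402000e000800)
 (.cons 8 (nat_lit 0xd40048001a006000e200d6006200dc)
 (.cons 16 (nat_lit 0xf0f00000f0a0000072c0000025f0)
 (.cons 32 (nat_lit 0xff00000000000000ff000000)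
 (.cons 64 (nat_lit 0x40cc93900bf0000)
 .nil)))))))))))))
noncomputable def a59 : Net := (.cons 64 (nat_lit 0xaa97a5689ae9a516)
 (.cons 32 (nat_lit 0x312225ce0000000049cfabf7)
 (.cons 16 (nat_lit 0x4d4b000028960000030900008c9e)
 (.cons 8 (nat_lit 0x3f00aa000c00460092009d009d0040)
 (.cons 4 (nat_lit 0x302090200000b060b0e0f020803040e)
 (.cons 2 (nat_lit 0x33110212220020120023032132011213)
 (.cons 1 (nat_lit 0x41410141041155501414450440041441)
 (.cons 2 (nat_lit 0x22200222020000002022000200002220)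
 (.cons 4 (nat_lit 0x402080800000404020a02040c040402)
 (.cons 8 (nat_lit 0x8000b80004004c008800b800960014)
 (.cons 16 (nat_lit 0xc5c800000c9600001b6c00003cd2)
 (.cons 32 (nat_lit 0x191787940000000058122104)
 (.cons 64 (nat_lit 0xaaf33f3f95c00c0c)
 .nil)))))))))))))
noncomputable def a60 : Net := (.cons 64 (nat_lit 0xa5e5660fa5e96603)
 (.cons 32 (nat_lit 0x9cea9c4a000000006c2a6c8a)
 (.cons 16 (nat_lit 0x552c000057ec0000aa2c0000abec)
 (.cons 8 (nat_lit 0xf0007000f000f000f0007000f000d0)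
 (.cons 4 (nat_lit 0x100000004000000060000000800)
 (.cons 2 (nat_lit 0x2130220302310200223032030132010)
 (.cons 1 (nat_lit 0x51104410411501454440151001451115)
 (.cons 2 (nat_lit 0x2202200002000200220002000202020)
 (.cons 4 (nat_lit 0x4000000060000000800)
 (.cons 8 (nat_lit 0x50000000100000001000000010)
 (.cons 16 (nat_lit 0xc54c0000348c0000ca4c0000388c)
 (.cons 32 (nat_lit 0x9c2aa08a000000006c2aa08a)
 (.cons 64 (nat_lit 0xa520a000a020a000)
 .nil)))))))))))))
noncomputable def a61 : Net := (.cons 64 (nat_lit 0xaa75a5a2a55d5a8a)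
 (.cons 32 (nat_lit 0xf3d2ed00000000028b1a0c2)
 (.cons 16 (nat_lit 0x7adb00008ac50000aec00000753c)
 (.cons 8 (nat_lit 0x900d700560002003e006f001400ae)
 (.cons 4 (nat_lit 0xa04050a040b0c0f05090500030e060e)
 (.cons 2 (nat_lit 0x32211003100202011101132101220110)
 (.cons 1 (nat_lit 0x4111404041044441400044000454140)
 (.cons 2 (nat_lit 0x2000000020020002000020000200220)
 (.cons 4 (nat_lit 0x40c060200000c00080400040008000e)
 (.cons 8 (nat_lit 0x4200d2004e00ae00340032000400a8)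
 (.cons 16 (nat_lit 0xdc8a000012a20000cb54000033aa)
 (.cons 32 (nat_lit 0x5472efc000000002de8b1c4)
 (.cons 64 (nat_lit 0xaa3ff33ffa0cc00c)
 .nil)))))))))))))
noncomputable def a62 : Net := (.cons 64 (nat_lit 0xcc5a633f3c5ac0ac)
 (.cons 32 (nat_lit 0x20f0f48b000000005ff0d62f)
 (.cons 16 (nat_lit 0x3484000050c60000698b00006c22)
 (.cons 8 (nat_lit 0xa000ee002200fc009c007000e9003d)
 (.cons 4 (nat_lit 0x8060e040c0d01020109070c01010e)
 (.cons 2 (nat_lit 0x30322230031200320202021213232201)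
 (.cons 1 (nat_lit 0x54014101510141015001111550141414)
 (.cons 2 (nat_lit 0x20002000220020000200000002002)
 (.cons 4 (nat_lit 0x80808040408000804000806080e080c)
 (.cons 8 (nat_lit 0x40004800a400b600f0004000da00bc)
 (.cons 16 (nat_lit 0xd406000001d40000649200005fd4)
 (.cons 32 (nat_lit 0x20016b14000000006c046710)
 (.cons 64 (nat_lit 0xccfa9f5ff5000f00)
 .nil)))))))))))))
noncomputable def a63 : Net := (.cons 64 (nat_lit 0xa5a65a0f5595a530)
 (.cons 32 (nat_lit 0xff00000000000000ff00)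
 (.cons 16 (nat_lit 0xf50000000ff00000fa0100000ff0)
 (.cons 8 (nat_lit 0x15000000000000001800000000)
 (.cons 4 (nat_lit 0xf040e0f000f00000f020a0f000f00)
 (.cons 2 (nat_lit 0x21023023201101131231300110120210)
 (.cons 1 (nat_lit 0x10411041501410144011401100444044)
 (.cons 2 (nat_lit 0x202000002020200020200000202020)
 (.cons 4 (nat_lit 0x404000000000000020400000000)
 (.cons 8 (nat_lit 0xf0003400f000f000f0005200f000f0)
 (.cons 16 (nat_lit 0xf500000000000000ba0000000000)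
 (.cons 32 (nat_lit 0xff00000000000000ff0000)
 (.cons 64 (nat_lit 0xa5cccc0000c00ccc)
 .nil)))))))))))))
noncomputable def a64 : Net := (.cons 64 (nat_lit 0xfcccc03f03333c0)
 (.cons 32 (nat_lit 0xf0f0f30000000005f0f0f0)
 (.cons 16 (nat_lit 0x55000000af10000055200000aa80)
 (.cons 8 (nat_lit 0xc9005f000a0028004900b700aa001a)
 (.cons 4 (nat_lit 0xd070f0a0f0f070e0000000000000006)
 (.cons 2 (nat_lit 0x2210120131110031022211130212122)
 (.cons 1 (nat_lit 0x41404004000540110444410400501004)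
 (.cons 2 (nat_lit 0x2200002000020200022020200002000)
 (.cons 4 (nat_lit 0xc0000000000000808)
 (.cons 8 (nat_lit 0x8c00f4000a0078004800a8000000ba)
 (.cons 16 (nat_lit 0x55000000f2000000150000008a00)
 (.cons 32 (nat_lit 0xf00003000000000f5000000)
 (.cons 64 (nat_lit 0xff0f0f0f0f0f03c)
 .nil)))))))))))))
noncomputable def a65 : Net := (.cons 64 (nat_lit 0xc98503f5ca4a00)
 (.cons 32 (nat_lit 0xa533c6cc00000000a533c63c)
 (.cons 16 (nat_lit 0xf70000009e000000f79000009f00)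
 (.cons 8 (nat_lit 0x6a00ab00580000005a00fb00a800f0)
 (.cons 4 (nat_lit 0x500)
 (.cons 2 (nat_lit 0x11202231122300002110222122130100)
 (.cons 1 (nat_lit 0x14400440400000000400444010004000)
 (.cons 2 (nat_lit 0x20200020000000000000202000002000)
 (.cons 4 (nat_lit 0x400)
 (.cons 8 (nat_lit 0x8002a0044000000c8000a002400f0)
 (.cons 16 (nat_lit 0xf70000009e000000670000009f00)
 (.cons 32 (nat_lit 0xa531c4cc000000005531c43c)
 (.cons 64 (nat_lit 0xf09000f0000000)
 .nil)))))))))))))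
noncomputable def a66 : Net := (.cons 64 (nat_lit 0xaac3c3c3a03c3c3c)
 (.cons 32 (nat_lit 0xffcc333f000000005033cc00)
 (.cons 16 (nat_lit 0xff040000fe400000bf000000f700)
 (.cons 8 (nat_lit 0xac00f4009a00c000280055009600aa)
 (.cons 4 (nat_lit 0xf000f05020d000c0a0a0102000f0d0e)
 (.cons 2 (nat_lit 0x10321210101020302130102230300010)
 (.cons 1 (nat_lit 0x1100414040440001100000400004000)
 (.cons 2 (nat_lit 0x2200222020220002200000200002000)
 (.cons 4 (nat_lit 0x60600040606000c0a0c04080c0c0804)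
 (.cons 8 (nat_lit 0xaa004000a0004000aa0054000000ba)
 (.cons 16 (nat_lit 0xef000000de000000bf0000007f00)
 (.cons 32 (nat_lit 0xf533cc3c000000000533cc3c)
 (.cons 64 (nat_lit 0xaa0000000a000000)
 .nil)))))))))))))
noncomputable def a67 : Net := (.cons 64 (nat_lit 0xf0c3c3c3f03c3c3c)
 (.cons 32 (nat_lit 0xf0f0f0f000000000fff0f0f0)
 (.cons 4 (nat_lit 0xf0f0f0f0000000f0f0f0f00000000)
 (.cons 2 (nat_lit 0x303030000303030003030300303030)
 (.cons 32 (nat_lit 0xf0000000)
 (.cons 64 (nat_lit 0xf000000000000000)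
 .nil))))))
noncomputable def a68 : Net := (.cons 64 (nat_lit 0xff000000)
 (.cons 32 (nat_lit 0xffffff00000000ff000000)
 (.cons 4 (nat_lit 0x30303000c0c0c0f030303000c0c0c)
 (.cons 2 (nat_lit 0x30303000303030030303000303030)
 (.cons 64 (nat_lit 0xffffff00000000)
 .nil)))))
noncomputable def a69 : Net := (.cons 64 (nat_lit 0xffffffff000000)
 (.cons 4 (nat_lit 0xf00000000000000)
 (.cons 2 (nat_lit 0x303030003030300030303000303030)
 .nil)))
noncomputable def a70 : Net := (.cons 64 (nat_lit 0xffffffff000000)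
 (.cons 4 (nat_lit 0xf0f0f0f000000000f0f0f0f000000)
 (.cons 2 (nat_lit 0x303030000303030003030300303030)
 .nil)))
noncomputable def a71 : Net := (.cons 64 (nat_lit 0x3c6944693c96bb96)
 (.cons 32 (nat_lit 0x4369f396000000003c964469)
 (.cons 16 (nat_lit 0x5f6f00002ca30000cc3300003fcf)
 (.cons 8 (nat_lit 0xcc00330080003f000000ff00fc0003)
 (.cons 4 (nat_lit 0x80408040801000d000000000c0c00)
 (.cons 2 (nat_lit 0x23200310102013233030030303000330)
 (.cons 1 (nat_lit 0x5511100504044501500441015050010)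
 (.cons 2 (nat_lit 0x2000002000000000000000000000)
 (.cons 4 (nat_lit 0xc0c0c040c04040c0c0c0c0c0c000c0c)
 (.cons 8 (nat_lit 0xf80008001800080000000000c00000)
 (.cons 16 (nat_lit 0x27d8000014180000000000003ffc)
 (.cons 32 (nat_lit 0x6700000000000000ff000000)
 (.cons 64 (nat_lit 0x3c000030ca000000)
 .nil)))))))))))))
noncomputable def a72 : Net := (.cons 64 (nat_lit 0xcdffbfa3953ffff)
 (.cons 32 (nat_lit 0xffffff0000000000ffffff00)
 (.cons 16 (nat_lit 0x2e0f0000f4f900000e0f0000a2e8)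
 (.cons 8 (nat_lit 0xdd003f0058004300c300c000a30043)
 (.cons 4 (nat_lit 0x80f0d0f000f04090c030b0e030c0c0c)
 (.cons 2 (nat_lit 0x10210221300201202120210110232020)
 (.cons 1 (nat_lit 0x1441444044500144541411400514451)
 (.cons 2 (nat_lit 0x2022220000000200000202200022002)
 (.cons 4 (nat_lit 0xc0c0606040404000c0604060004080c)
 (.cons 8 (nat_lit 0x92007a00e400480000001a003200b6)
 (.cons 16 (nat_lit 0xc0f00000f0a00000f0e00000c3a0)
 (.cons 32 (nat_lit 0xff00000000000000ff000000)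
 (.cons 64 (nat_lit 0xcfcc6390020fb00)
 .nil)))))))))))))
noncomputable def a73 : Net := (.cons 64 (nat_lit 0xfca36a095c6963c)
 (.cons 32 (nat_lit 0x30aa3fe200000000729a25c2)
 (.cons 16 (nat_lit 0x2add0000b2c20000002c0000f872)
 (.cons 8 (nat_lit 0x72001200260065004600dd00e100f4)
 (.cons 4 (nat_lit 0x10f0802000a060a0809060b01020f00)
 (.cons 2 (nat_lit 0x23323021202321000002023200013012)
 (.cons 1 (nat_lit 0x40101001511001140441440000140404)
 (.cons 2 (nat_lit 0x20200002022000200202220000220202)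
 (.cons 4 (nat_lit 0xc0a0c08040a0208000004000e0404)
 (.cons 8 (nat_lit 0x46007200bc00640016006600dc0094)
 (.cons 16 (nat_lit 0x34f0000074d0000052f40000e570)
 (.cons 32 (nat_lit 0x33aa47300000000032a2bf40)
 (.cons 64 (nat_lit 0xfc53cacc0cccccc)
 .nil)))))))))))))
noncomputable def ws : List (List ℕ) :=
  [W (nat_lit 0x1806412034120240d01408004010140e),
  W (nat_lit 0x5c19060110500f028100140903c010040c),
  W (nat_lit 0x17064170441803409048010140b),
  W (nat_lit 0x170641804418034100240b0240601c130040102c09),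
  W (nat_lit 0x18064180440d0400b044050140102c02),
  W (nat_lit 0x9021078210801c08020084210781c),
  W (nat_lit 0x7c240801c08c2306c2307c240841b07c24),
  W (nat_lit 0x260a025),
  W (nat_lit 0x98280982709c26),
  W (nat_lit 0xa82a0ac29),
  W (nat_lit 0x40100c020100100403008040040100c02010010040300804),
  W (nat_lit 0x1904c100240902c0501c090040102803),
  W (nat_lit 0x5c1905c110440f024070040101016),
  W (nat_lit 0x340c8330cc330cc33),
  W (nat_lit 0x310cc330c8320cc32),
  W (nat_lit 0x380d8360d836),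
  W (nat_lit 0x380e0350e0350dc35),
  W (nat_lit 0xf03a0e83a),
  W (nat_lit 0x350c834),
  W (nat_lit 0xd8380d836),
  W (nat_lit 0xe0350e0360e038),
  W (nat_lit 0x4310c41),
  W (nat_lit 0xd4380e0350d438),
  W (nat_lit 0x370dc350d4350e035),
  W (nat_lit 0x11c47),
  W (nat_lit 0x350dc370d435),
  W (nat_lit 0xdc350dc350e035),
  W (nat_lit 0x1385013850),
  W (nat_lit 0xdc360dc360dc36),
  W (nat_lit 0xd8360e036),
  W (nat_lit 0x541545515454),
  W (nat_lit 0xe03c0f03c0f),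
  W (nat_lit 0x400e03c0e),
  W (nat_lit 0x591645b1645c16459),
  W (nat_lit 0x5a170591645c),
  W (nat_lit 0x3d0e8350f0310d431),
  W (nat_lit 0x390f4370d8320cc37),
  W (nat_lit 0x19030184640bc6218c3018463),
  W (nat_lit 0x18c611842f),
  W (nat_lit 0x651a0681986719465),
  W (nat_lit 0x1986719c67),
  W (nat_lit 0x691b06a),
  W (nat_lit 0x601905c13034190240b04006050010140f),
  W (nat_lit 0x5c11034140240902c0802c0101412),
  W (nat_lit 0x1c870),
  W (nat_lit 0x4010040300803004010040300803004010040300803004010040300803),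
  W (nat_lit 0x180641804c0f0240d0140a0140101819),
  W (nat_lit 0x6019060110440e0240b0400601c130040100c13),
  W (nat_lit 0x1e0781e8771e8771e878),
  W (nat_lit 0x1ec781e47b1ec79),
  W (nat_lit 0x140701405),
  W (nat_lit 0x701808),
  W (nat_lit 0x200812008020480),
  W (nat_lit 0x7f2047f2047f2047f20480),
  W (nat_lit 0x8521084),
  W (nat_lit 0x8621883214842188321884),
  W (nat_lit 0x8822088),
  W (nat_lit 0x220882288a22887),
  W (nat_lit 0x7b1e477),
  W (nat_lit 0x7c1e4781f079),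
  W (nat_lit 0x23c922409024890)]
noncomputable def ns : List Net := [CL.Std.O8p2.a0, CL.Std.O8p2.a1, CL.Std.O8p2.a2, CL.Std.O8p2.a3, CL.Std.O8p2.a4, CL.Std.O8p2.a5, CL.Std.O8p2.a6, CL.Std.O8p2.a7, CL.Std.O8p2.a8, CL.Std.O8p2.a9, CL.Std.O8p2.a10, CL.Std.O8p2.a11, CL.Std.O8p2.a12, a13, a14, a15, a16, a17, a18, a19, a20, a21, a22, a23, a24, a25, a26, a27, a28, a29, a30, a31, a32, a33, a34, a35, a36, a37, a38, a39, a40, a41, a42, a43, a44, a45, a46, a47, a48, a49, a50, a51, a52, a53, a54, a55, a56, a57, a58, a59, a60, a61, a62, a63, a64, a65, a66, a67, a68, a69, a70, a71, a72, a73]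
noncomputable def D : List (ℕ × List ℕ) := app CL.Std.O8p2.D (mkDefs ws 13)
noncomputable def chk : List (List ℕ × List ℕ) → Bool := CL.Std.O8p2.P.relsB ns
noncomputable def P3_v0 : Lev :=
  ⟨3, 3, sg (W (nat_lit 0x6c1b)), [[36], [38]], 16, 2⟩
noncomputable def P3_v1 : Lev :=
  ⟨17, 9, sg (W (nat_lit 0x94250942709425)), [[40], [42]], 18, 2⟩
noncomputable def P3_v2 : Lev :=
  ⟨0, 3, sg (W (nat_lit 0xa429)), [[44]], 20, 1⟩
noncomputable def P3_v3 : Lev :=
  ⟨1, 3, sg (W (nat_lit 0xb42d)), [], 21, 0⟩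
noncomputable def P3_vs4 : List Lev :=
  []
noncomputable def P3_vs3 : List Lev :=
  P3_v3 :: P3_vs4
noncomputable def P3_vs2 : List Lev :=
  P3_v2 :: P3_vs3
noncomputable def P3_vs1 : List Lev :=
  P3_v1 :: P3_vs2
noncomputable def P3_vs : List Lev :=
  P3_v0 :: P3_vs1
noncomputable def P3_ps : List PcG :=
  [⟨[26], 3, [], [W (nat_lit 0x8c1f07c1d), [30], [32], [34]]⟩,
  ⟨[28], 3, [], [W (nat_lit 0x8c1f), W (nat_lit 0x2308c21), [34]]⟩,
  ⟨[30], 3, [], [[32], [34]]⟩,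
  ⟨[32], 3, [], [[34]]⟩,
  ⟨[34], 3, [], []⟩]
noncomputable def v30_E : List (ℕ × List CE) :=
  [(7, [])]
noncomputable def v30_R : List (List ℕ) :=
  [[],
  [26],
  W (nat_lit 0x6c1b)]
noncomputable def zcj7 : List (List (List ℕ)) :=
  [[W (nat_lit 0x8c1f07c1d), [30], [32], [34]],
  [[28], W (nat_lit 0x8c1f), W (nat_lit 0x2308c21), [34]],
  [W (nat_lit 0x2308c1d), [30], [32], [34]],
  [W (nat_lit 0x8c1d), [30], [32], [34]],
  [[28], [30], [32], [34]]]
noncomputable def v31_E : List (ℕ × List CE) :=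
  [(7, []),
  (7, []),
  (7, [])]
noncomputable def v31_R : List (List ℕ) :=
  [[],
  [28],
  W (nat_lit 0x741d),
  [26],
  W (nat_lit 0x741b),
  W (nat_lit 0x1d0741b),
  W (nat_lit 0x6c1b),
  W (nat_lit 0x1d06c1b),
  W (nat_lit 0x741d06c1b)]
noncomputable def zcj15 : List (List (List ℕ)) :=
  [[[30], [32], [34]],
  [W (nat_lit 0x8c1f), W (nat_lit 0x2308c21), [34]],
  [[30], [32], [34]],
  [[30], [32], [34]],
  [[30], [32], [34]]]
noncomputable def v32_E : List (ℕ × List CE) :=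
  [(7, []),
  (1, [ceD, ⟨false, [27], 0, [34]⟩, ⟨false, [26], 0, W (nat_lit 0x8c23)⟩]),
  (1, [ceD, ⟨false, [26], 0, W (nat_lit 0x8c23)⟩, ⟨false, [27], 0, [34]⟩]),
  (1, [ceD, ⟨false, [28], 0, [34]⟩, ⟨false, [29], 0, [34]⟩]),
  (1, [ceD, ⟨false, [27], 0, [34]⟩, ⟨false, [26], 0, W (nat_lit 0x8c23)⟩]),
  (1, [ceD, ⟨false, [26], 0, W (nat_lit 0x8c23)⟩, ⟨false, [27], 0, [34]⟩]),
  (1, [ceD, ⟨false, [29], 0, W (nat_lit 0x8c23)⟩, ⟨false, [28], 0, W (nat_lit 0x8c23)⟩]),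
  (1, [ceD, ⟨false, [27], 0, [34]⟩, ⟨false, [26], 0, W (nat_lit 0x8c23)⟩]),
  (1, [ceD, ⟨false, [26], 0, W (nat_lit 0x8c23)⟩, ⟨false, [27], 0, [34]⟩])]
noncomputable def v32_R : List (List ℕ) :=
  [[],
  [30],
  W (nat_lit 0x7c1f),
  [28],
  W (nat_lit 0x741d),
  [26],
  W (nat_lit 0x741b),
  W (nat_lit 0x1d0741b),
  W (nat_lit 0x6c1b),
  W (nat_lit 0x1d06c1b),
  W (nat_lit 0x741d06c1b)]
noncomputable def zcj23 : List (List (List ℕ)) :=
  [[[32], [34]],
  [W (nat_lit 0x2308c21), [34]],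
  [[32], [34]],
  [[32], [34]],
  [[32], [34]]]
noncomputable def v33_E : List (ℕ × List CE) :=
  [(7, []),
  (7, []),
  (7, []),
  (7, []),
  (7, []),
  (7, []),
  (7, []),
  (7, []),
  (7, []),
  (7, []),
  (7, [])]
noncomputable def v33_R : List (List ℕ) :=
  [[],
  [32],
  W (nat_lit 0x8421),
  [30],
  W (nat_lit 0x841f),
  W (nat_lit 0x210841f),
  W (nat_lit 0x7c1f),
  W (nat_lit 0x2107c1f),
  W (nat_lit 0x842107c1f),
  [28],
  W (nat_lit 0x841d),
  W (nat_lit 0x210841d),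
  W (nat_lit 0x741d),
  W (nat_lit 0x210741d),
  W (nat_lit 0x84210741d),
  [26],
  W (nat_lit 0x841b),
  W (nat_lit 0x210841b),
  W (nat_lit 0x741b),
  W (nat_lit 0x210741b),
  W (nat_lit 0x84210741b),
  W (nat_lit 0x1d0741b),
  W (nat_lit 0x841d0741b),
  W (nat_lit 0x210841d0741b),
  W (nat_lit 0x6c1b),
  W (nat_lit 0x2106c1b),
  W (nat_lit 0x842106c1b),
  W (nat_lit 0x1d06c1b),
  W (nat_lit 0x841d06c1b),
  W (nat_lit 0x210841d06c1b),
  W (nat_lit 0x741d06c1b),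
  W (nat_lit 0x210741d06c1b),
  W (nat_lit 0x84210741d06c1b)]
noncomputable def zcj31 : List (List (List ℕ)) :=
  [[[34]],
  [[34]],
  [[34]],
  [[34]],
  [[34]]]
noncomputable def v34_E : List (ℕ × List CE) :=
  [(7, []),
  (1, [ceD, ⟨false, [29], 0, []⟩, ⟨false, [28], 0, []⟩]),
  (1, [ceD, ⟨false, [28], 0, []⟩, ⟨false, [29], 0, []⟩]),
  (1, [ceD, ⟨false, [28], 0, []⟩, ⟨false, [29], 0, []⟩]),
  (7, []),
  (1, [ceD, ⟨false, [29], 0, []⟩, ⟨false, [28], 0, []⟩]),
  (1, [ceD, ⟨false, [29], 0, []⟩, ⟨false, [28], 0, []⟩]),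
  (1, [ceD, ⟨false, [28], 0, []⟩, ⟨false, [29], 0, []⟩]),
  (7, []),
  (1, [ceD, ⟨false, [31], 0, []⟩, ⟨false, [30], 0, []⟩]),
  (1, [ceD, ⟨false, [29], 0, []⟩, ⟨false, [28], 0, []⟩]),
  (1, [ceD, ⟨false, [28], 0, []⟩, ⟨false, [29], 0, []⟩]),
  (1, [ceD, ⟨false, [30], 0, []⟩, ⟨false, [31], 0, []⟩]),
  (1, [ceD, ⟨false, [29], 0, []⟩, ⟨false, [28], 0, []⟩]),
  (1, [ceD, ⟨false, [28], 0, []⟩, ⟨false, [29], 0, []⟩]),
  (7, []),
  (7, []),
  (7, []),
  (0, [⟨true, [], 1, []⟩, ⟨true, [], 1, []⟩, ⟨true, [], 1, []⟩]),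
  (0, [⟨true, [], 1, []⟩, ⟨true, [], 1, []⟩, ⟨true, [], 1, []⟩]),
  (0, [⟨true, [], 1, []⟩, ⟨true, [], 1, []⟩, ⟨true, [], 1, []⟩]),
  (0, [⟨true, [], 1, []⟩, ⟨true, [], 1, []⟩, ⟨true, [], 1, []⟩]),
  (0, [⟨true, [], 1, []⟩, ⟨true, [], 1, []⟩, ⟨true, [], 1, []⟩]),
  (0, [⟨true, [], 1, []⟩, ⟨true, [], 1, []⟩, ⟨true, [], 1, []⟩]),
  (7, []),
  (7, []),
  (7, []),
  (0, [⟨true, [], 2, []⟩, ⟨true, [], 2, []⟩, ⟨true, [], 2, []⟩]),
  (0, [⟨true, [], 2, []⟩, ⟨true, [], 2, []⟩, ⟨true, [], 2, []⟩]),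
  (0, [⟨true, [], 2, []⟩, ⟨true, [], 2, []⟩, ⟨true, [], 2, []⟩]),
  (0, [⟨true, [], 2, []⟩, ⟨true, [], 2, []⟩, ⟨true, [], 2, []⟩]),
  (0, [⟨true, [], 2, []⟩, ⟨true, [], 2, []⟩, ⟨true, [], 2, []⟩]),
  (0, [⟨true, [], 2, []⟩, ⟨true, [], 2, []⟩, ⟨true, [], 2, []⟩])]
noncomputable def v34_R : List (List ℕ) :=
  [[],
  [34],
  W (nat_lit 0x8c23),
  [32],
  W (nat_lit 0x8421),
  [30],
  W (nat_lit 0x841f),
  W (nat_lit 0x230841f),
  W (nat_lit 0x8c230841f),
  W (nat_lit 0x210841f),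
  W (nat_lit 0x7c1f),
  W (nat_lit 0x2107c1f),
  W (nat_lit 0x842107c1f),
  W (nat_lit 0x230842107c1f),
  W (nat_lit 0x8c230842107c1f),
  [28],
  W (nat_lit 0x841d),
  W (nat_lit 0x210841d),
  W (nat_lit 0x741d),
  W (nat_lit 0x210741d),
  W (nat_lit 0x84210741d),
  [26],
  W (nat_lit 0x8c1b),
  W (nat_lit 0x2308c1b),
  W (nat_lit 0x841b),
  W (nat_lit 0x230841b),
  W (nat_lit 0x8c230841b),
  W (nat_lit 0x210841b),
  W (nat_lit 0x8c210841b),
  W (nat_lit 0x2308c210841b),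
  W (nat_lit 0x6c1b),
  W (nat_lit 0x2306c1b),
  W (nat_lit 0x8c2306c1b),
  W (nat_lit 0x2106c1b),
  W (nat_lit 0x8c2106c1b),
  W (nat_lit 0x2308c2106c1b),
  W (nat_lit 0x842106c1b),
  W (nat_lit 0x230842106c1b),
  W (nat_lit 0x8c230842106c1b)]
noncomputable def v35_F : List (List ℕ × ℕ × List ℕ) :=
  [([], 0, []),
  (W (nat_lit 0x601905c110601002c05024080040101009), 3, []),
  (W (nat_lit 0x1706417048180400c0300601c060040102803), 3, []),
  (W (nat_lit 0x19048180340f0240902c0501c12), 3, []),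
  (W (nat_lit 0x5c19060110500e02c0501c090040100c06), 3, []),
  (W (nat_lit 0x170640d03c09040070040101c0a), 2, []),
  (W (nat_lit 0x5c190441403c090240b01c07004060040c), 4, []),
  (W (nat_lit 0x48180380a030080400102c02), 5, []),
  (W (nat_lit 0x110500d02c050140102c02), 1, []),
  (W (nat_lit 0x60120600f0240d0140501c0103002), 3, []),
  (W (nat_lit 0x18044140340f02c050080a), 2, []),
  (W (nat_lit 0x641804c0d0400b0440501c100080900403), 3, []),
  (W (nat_lit 0x64120600e030080400103405), 4, []),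
  (W (nat_lit 0x6019044180400a0400501c090040103004), 1, []),
  (W (nat_lit 0x6019060120600a06405038080040101007), 5, []),
  (W (nat_lit 0x19060110501002411018070040101012), 2, []),
  (W (nat_lit 0x5c19044180400c0140a0300101809), 3, []),
  (W (nat_lit 0x6019060130380b0240605001004030140a), 3, []),
  (W (nat_lit 0x18064170481803410028190180704c0101407), 2, []),
  (W (nat_lit 0x17064170441403c0902c05014070040100c13), 3, []),
  (W (nat_lit 0x180440d028050281900806), 3, []),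
  (W (nat_lit 0x180641804411034120240b040050380800405), 3, []),
  (W (nat_lit 0x19048180341002811018070180101819), 2, []),
  (W (nat_lit 0x5c190400c0300501c0a0040102803), 1, []),
  (W (nat_lit 0x19060110500d02c06004060040c), 2, []),
  (W (nat_lit 0x5c19060110500d0400902c0f0140700409), 5, []),
  (W (nat_lit 0x5c130340902c1001409040010140f), 3, []),
  (W (nat_lit 0x1905c110600d0480a040070300103405), 4, []),
  (W (nat_lit 0x5c19060110600d0640a030050280c), 3, []),
  (W (nat_lit 0x6019038090480501c090180103003), 2, []),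
  (W (nat_lit 0x170641804c0f0240c048060500102c08), 3, []),
  (W (nat_lit 0x1706418044110340902c0501c100040100c0c), 1, []),
  (W (nat_lit 0x1806417044180400a04405038080040c), 2, []),
  (W (nat_lit 0x18044140340f0280a0140501c0a), 4, []),
  (W (nat_lit 0x641804818034120240501c0f0040102c09), 2, []),
  (W (nat_lit 0x5c0d0640b014070640101407), 3, []),
  (W (nat_lit 0x48180280a014070540103405), 2, []),
  (W (nat_lit 0x1905c11034100240b018070040101009), 3, []),
  (W (nat_lit 0x1905c0d0400b0380603c01004030140c), 5, [])]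
noncomputable def v35_R : List (List ℕ) :=
  [[], W (nat_lit 0x40100c020100100403008040040100c02010010040300804), W (nat_lit 0x4010040400404004010040400404), W (nat_lit 0x401004040040100404), W (nat_lit 0x40400404004040040400404004040040400404), [2]]
noncomputable def r3 : List ℕ :=
  W (nat_lit 0x40100c020100100403008040040100c02010010040300804)
noncomputable def R3 : List (List ℕ) :=
  [W (nat_lit 0x4010040400404004010040400404), W (nat_lit 0x401004040040100404), W (nat_lit 0x40400404004040040400404004040040400404), [2]]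
noncomputable def zt43 : List ℕ :=
  []
noncomputable def zcj44 : List (List ℕ) :=
  []
noncomputable def zus47 : List (List ℕ) :=
  [[56],
  [57],
  [58],
  W (nat_lit 0xe439),
  W (nat_lit 0xe43c),
  W (nat_lit 0xe83a),
  W (nat_lit 0xe43d)]
noncomputable def zF48 : List (List (ℕ × List ℕ)) :=
  [[(1, []),
   (4, []),
   (0, []),
   (6, [61]),
   (3, [60]),
   (7, [60]),
   (2, []),
   (5, [60])],
  [(3, []),
   (2, [60]),
   (7, [61]),
   (0, [60]),
   (5, [61]),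
   (1, []),
   (4, [60]),
   (6, [])]]
noncomputable def zus51 : List (List ℕ) :=
  [[52],
  [53],
  [54],
  [55],
  W (nat_lit 0xd435),
  W (nat_lit 0xd437),
  W (nat_lit 0xd438),
  W (nat_lit 0xd836),
  W (nat_lit 0xd837),
  W (nat_lit 0xd838),
  W (nat_lit 0xdc35),
  W (nat_lit 0xdc36),
  W (nat_lit 0xe035),
  W (nat_lit 0xe036),
  W (nat_lit 0xd43c),
  W (nat_lit 0xd839),
  W (nat_lit 0x350d439),
  W (nat_lit 0x350d43a),
  W (nat_lit 0x350e036),
  W (nat_lit 0xd43e),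
  W (nat_lit 0x350e03b),
  W (nat_lit 0x350f038),
  W (nat_lit 0x350f039),
  W (nat_lit 0xd439),
  W (nat_lit 0xd43b),
  W (nat_lit 0x350f036)]
noncomputable def zF52 : List (List (ℕ × List ℕ)) :=
  [[(1, []),
   (5, []),
   (0, []),
   (11, []),
   (13, []),
   (14, [57]),
   (16, [56]),
   (18, W (nat_lit 0xe43c)),
   (2, []),
   (20, W (nat_lit 0x3d0e439)),
   (23, [61]),
   (8, [57]),
   (3, []),
   (25, [57]),
   (4, []),
   (24, W (nat_lit 0xf43b)),
   (26, W (nat_lit 0x3d0e439)),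
   (6, [61]),
   (22, W (nat_lit 0xf43b)),
   (7, []),
   (21, [61]),
   (9, [56]),
   (17, W (nat_lit 0xe83a)),
   (19, W (nat_lit 0xf83a)),
   (10, W (nat_lit 0x3d0e439)),
   (12, W (nat_lit 0xf43b)),
   (15, [])],
  [(3, []),
   (6, []),
   (9, []),
   (4, W (nat_lit 0xf43b)),
   (0, []),
   (10, W (nat_lit 0xf83b)),
   (13, W (nat_lit 0x3d0e43d)),
   (1, []),
   (16, W (nat_lit 0xf83b)),
   (22, W (nat_lit 0xe43c)),
   (2, []),
   (7, W (nat_lit 0xf43a)),
   (21, W (nat_lit 0xf83b)),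
   (24, [61]),
   (20, W (nat_lit 0xf83b)),
   (5, W (nat_lit 0x3d0e43c)),
   (12, [56]),
   (8, []),
   (14, W (nat_lit 0x3d0e439)),
   (25, W (nat_lit 0x3e0e43d)),
   (26, W (nat_lit 0x3e0e83a)),
   (23, []),
   (15, []),
   (17, W (nat_lit 0x3d0e43c)),
   (11, [56]),
   (18, W (nat_lit 0xe439)),
   (19, W (nat_lit 0xe43d))]]
noncomputable def zrs55 : List (ℕ × List ℕ) :=
  [(67, W (nat_lit 0x3f0dc40)),
  (3, [63]),
  (39, W (nat_lit 0x401003e)),
  (69, W (nat_lit 0x3f0e43f)),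
  (119, W (nat_lit 0xfc3f0fc3f)),
  (111, W (nat_lit 0x1004010040))]
noncomputable def C3_w0_1_v0 : Lev :=
  ⟨67, 36, sg (W (nat_lit 0xd4350d4350dc350dc350dc35)), [[64], [66]], 30, 2⟩
noncomputable def C3_w0_1_v1 : Lev :=
  ⟨1, 9, sg (W (nat_lit 0x411044310441)), [[68]], 32, 1⟩
noncomputable def C3_w0_1_v2 : Lev :=
  ⟨2, 2, sg [68], [], 33, 0⟩
noncomputable def C3_w0_1_vs3 : List Lev :=
  []
noncomputable def C3_w0_1_vs2 : List Lev :=
  C3_w0_1_v2 :: C3_w0_1_vs3
noncomputable def C3_w0_1_vs1 : List Lev :=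
  C3_w0_1_v1 :: C3_w0_1_vs2
noncomputable def C3_w0_1_vs : List Lev :=
  C3_w0_1_v0 :: C3_w0_1_vs1
noncomputable def zcj57 : List (List ℕ) :=
  [W (nat_lit 0xe4390d43b),
  W (nat_lit 0x3d0e4390e035)]
noncomputable def C3_v0 : Lev :=
  ⟨0, 120, sg (W (nat_lit 0x310cc310cc310cc310cc310cc310cc31)), [[52], [54]], 24, 2⟩
noncomputable def C3_v1 : Lev :=
  ⟨3, 27, sg (W (nat_lit 0xd4350dc350dc350dc35)), [[56], [58]], 26, 2⟩
noncomputable def C3_v2 : Lev :=
  ⟨4, 8, sg (W (nat_lit 0xec390ec39)), [[60]], 28, 1⟩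
noncomputable def C3_v3 : Lev :=
  ⟨1, 3, sg (W (nat_lit 0xf43d)), [], 29, 0⟩
noncomputable def C3_vs4 : List Lev :=
  []
noncomputable def C3_vs3 : List Lev :=
  C3_v3 :: C3_vs4
noncomputable def C3_vs2 : List Lev :=
  C3_v2 :: C3_vs3
noncomputable def C3_vs1 : List Lev :=
  C3_v1 :: C3_vs2
noncomputable def C3_vs : List Lev :=
  C3_v0 :: C3_vs1
noncomputable def zcj61 : List (List ℕ) :=
  [W (nat_lit 0x3e0e43c0d435),
  W (nat_lit 0xf43a0e8350e03b)]
noncomputable def C3_w0_3_v0 : Lev :=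
  ⟨39, 27, sg (W (nat_lit 0x350dc350dc350dc35)), [[70], [72]], 33, 2⟩
noncomputable def C3_w0_3_v1 : Lev :=
  ⟨7, 12, sg (W (nat_lit 0x491244712447)), [[74]], 35, 1⟩
noncomputable def C3_w0_3_v2 : Lev :=
  ⟨1, 2, sg [74], [], 36, 0⟩
noncomputable def C3_w0_3_vs3 : List Lev :=
  []
noncomputable def C3_w0_3_vs2 : List Lev :=
  C3_w0_3_v2 :: C3_w0_3_vs3
noncomputable def C3_w0_3_vs1 : List Lev :=
  C3_w0_3_v1 :: C3_w0_3_vs2
noncomputable def C3_w0_3_vs : List Lev :=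
  C3_w0_3_v0 :: C3_w0_3_vs1
noncomputable def zcj65 : List (List ℕ) :=
  [W (nat_lit 0xf83a0d437),
  W (nat_lit 0xf43a0d837)]
noncomputable def C3_w0_4_v0 : Lev :=
  ⟨69, 27, sg (W (nat_lit 0x350dc350dc350dc35)), [[76], [78]], 36, 2⟩
noncomputable def C3_w0_4_v1 : Lev :=
  ⟨7, 12, sg (W (nat_lit 0x4f1344d13c4d)), [[80]], 38, 1⟩
noncomputable def C3_w0_4_v2 : Lev :=
  ⟨1, 2, sg [80], [], 39, 0⟩
noncomputable def C3_w0_4_vs3 : List Lev :=
  []
noncomputable def C3_w0_4_vs2 : List Lev :=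
  C3_w0_4_v2 :: C3_w0_4_vs3
noncomputable def C3_w0_4_vs1 : List Lev :=
  C3_w0_4_v1 :: C3_w0_4_vs2
noncomputable def C3_w0_4_vs : List Lev :=
  C3_w0_4_v0 :: C3_w0_4_vs1
noncomputable def zcj69 : List (List ℕ) :=
  [W (nat_lit 0xf43b0d43c),
  W (nat_lit 0xf8390d437)]
noncomputable def C3_w0_5_v0 : Lev :=
  ⟨119, 1, sg [], [[52], [54]], 39, 0⟩
noncomputable def C3_w0_5_v1 : Lev :=
  ⟨1, 36, sg (W (nat_lit 0x350d4350dc350dc350dc35)), [[82], [84]], 39, 2⟩
noncomputable def C3_w0_5_v2 : Lev :=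
  ⟨2, 9, sg (W (nat_lit 0x5514c5515453)), [[86]], 41, 1⟩
noncomputable def C3_w0_5_v3 : Lev :=
  ⟨4, 2, sg [86], [], 42, 0⟩
noncomputable def C3_w0_5_vs4 : List Lev :=
  []
noncomputable def C3_w0_5_vs3 : List Lev :=
  C3_w0_5_v3 :: C3_w0_5_vs4
noncomputable def C3_w0_5_vs2 : List Lev :=
  C3_w0_5_v2 :: C3_w0_5_vs3
noncomputable def C3_w0_5_vs1 : List Lev :=
  C3_w0_5_v1 :: C3_w0_5_vs2
noncomputable def C3_w0_5_vs : List Lev :=
  C3_w0_5_v0 :: C3_w0_5_vs1
noncomputable def zcj73 : List (List ℕ) :=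
  [[52],
  [54]]
noncomputable def C3_w0_6_v0 : Lev :=
  ⟨111, 1, sg [], [[52], [54]], 42, 0⟩
noncomputable def C3_w0_6_v1 : Lev :=
  ⟨1, 36, sg (W (nat_lit 0x350d4350dc350dc350dc35)), [[82], [84]], 39, 2⟩
noncomputable def C3_w0_6_v2 : Lev :=
  ⟨2, 9, sg (W (nat_lit 0x5514c5515453)), [[86]], 41, 1⟩
noncomputable def C3_w0_6_v3 : Lev :=
  ⟨4, 2, sg [86], [], 42, 0⟩
noncomputable def C3_w0_6_vs4 : List Lev :=
  []
noncomputable def C3_w0_6_vs3 : List Lev :=
  C3_w0_6_v3 :: C3_w0_6_vs4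
noncomputable def C3_w0_6_vs2 : List Lev :=
  C3_w0_6_v2 :: C3_w0_6_vs3
noncomputable def C3_w0_6_vs1 : List Lev :=
  C3_w0_6_v1 :: C3_w0_6_vs2
noncomputable def C3_w0_6_vs : List Lev :=
  C3_w0_6_v0 :: C3_w0_6_vs1
noncomputable def zcj77 : List (List ℕ) :=
  [[52],
  [54]]
noncomputable def zB80 : List BG :=
  [⟨[62], [([56], W (nat_lit 0x3e0e43c0d435)), ([58], W (nat_lit 0xf43a0e8350e03b))],
  [([⟨[], W (nat_lit 0x350f038), 2, W (nat_lit 0x3d0ec350f038)⟩], []),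
   ([⟨[], W (nat_lit 0xd43c), 2, W (nat_lit 0x3d0ec350f038)⟩,
    ⟨[52], W (nat_lit 0xe035), 1, W (nat_lit 0x3e0e83a0d43c)⟩,
    ⟨[54], [52], 4, W (nat_lit 0xf83a0e8350f036)⟩,
    ⟨[55], W (nat_lit 0xdc35), 3, W (nat_lit 0xe8350e03b)⟩], W (nat_lit 0x10080100801)),
   ([⟨[], [], 0, []⟩,
    ⟨[52], [55], 1, W (nat_lit 0xf4390e036)⟩,
    ⟨[54], W (nat_lit 0x350f036), 2, W (nat_lit 0xe83a0dc35)⟩,
    ⟨[55], W (nat_lit 0x350f039), 2, W (nat_lit 0x3e0e43c0d836)⟩,
    ⟨W (nat_lit 0xd435), W (nat_lit 0xd43c), 3, W (nat_lit 0x3d0e43c0d438)⟩,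
    ⟨W (nat_lit 0xd438), [61], 4, W (nat_lit 0xf43a0e8350d439)⟩], W (nat_lit 0x40100801)),
   ([⟨[], W (nat_lit 0xd437), 2, W (nat_lit 0xf83a0e8350e03b)⟩,
    ⟨[52], W (nat_lit 0xdc39), 1, W (nat_lit 0xf83b)⟩,
    ⟨[53], W (nat_lit 0xf036), 3, W (nat_lit 0x390f0350f038)⟩,
    ⟨[55], [56], 4, W (nat_lit 0xf83b0d836)⟩,
    ⟨W (nat_lit 0xd837), [], 5, W (nat_lit 0xf43a)⟩,
    ⟨W (nat_lit 0xd838), W (nat_lit 0xf038), 3, W (nat_lit 0xf43a0e8350d43a)⟩], W (nat_lit 0x40100801)),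
   ([⟨[], [55], 3, W (nat_lit 0x3e0e43c0d838)⟩,
    ⟨[52], [], 1, W (nat_lit 0xf43b0dc35)⟩,
    ⟨[53], W (nat_lit 0xf036), 4, W (nat_lit 0x3d0e43d0d438)⟩,
    ⟨[55], W (nat_lit 0xd438), 2, W (nat_lit 0xe83a0d437)⟩,
    ⟨W (nat_lit 0xd837), [], 6, W (nat_lit 0xe43c)⟩,
    ⟨W (nat_lit 0xd838), W (nat_lit 0xf038), 4, W (nat_lit 0x3d0e83a0dc35)⟩], W (nat_lit 0x40100801)),
   ([⟨[], W (nat_lit 0xf039), 3, W (nat_lit 0x3d0e43c0e036)⟩], []),
   ([⟨[], W (nat_lit 0xf039), 4, W (nat_lit 0x3e0e43c0e036)⟩], [])]⟩]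
noncomputable def zE81 : List (ℕ × List ℕ) :=
  [(48, W (nat_lit 0x3a0d4380d83f0dc40)),
  (50, W (nat_lit 0x3a0e0350fc36))]
noncomputable def X3_v0 : Lev :=
  ⟨0, 3, sg (W (nat_lit 0xbc2f)), [], 29, 0⟩
noncomputable def X3_vs1 : List Lev :=
  []
noncomputable def X3_vs : List Lev :=
  X3_v0 :: X3_vs1
noncomputable def c3_F : List (List ℕ × ℕ × ℕ) :=
  []
noncomputable def c3G_v0 : Lev :=
  ⟨0, 120, sg (W (nat_lit 0x100c010040100401004030040100c0100c01004030040300401)), [[4], [6]], 0, 2⟩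
noncomputable def c3G_v1 : Lev :=
  ⟨9, 56, sg (W (nat_lit 0x501c0501c05014070140501c05)), [[8], [10]], 2, 2⟩
noncomputable def c3G_v2 : Lev :=
  ⟨2, 27, sg (W (nat_lit 0x90240902c0902c0902c09)), [[12], [14]], 4, 2⟩
noncomputable def c3G_v3 : Lev :=
  ⟨1, 20, sg (W (nat_lit 0x3c0d03c0d03c0f0340d)), [[88], [90]], 42, 2⟩
noncomputable def c3G_v4 : Lev :=
  ⟨8, 12, sg (W (nat_lit 0x5916c5916c59)), [[92], [94]], 44, 2⟩
noncomputable def c3G_v5 : Lev :=
  ⟨24, 4, sg (W (nat_lit 0x17c5d)), [], 46, 0⟩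
noncomputable def c3G_vs6 : List Lev :=
  []
noncomputable def c3G_vs5 : List Lev :=
  c3G_v5 :: c3G_vs6
noncomputable def c3G_vs4 : List Lev :=
  c3G_v4 :: c3G_vs5
noncomputable def c3G_vs3 : List Lev :=
  c3G_v3 :: c3G_vs4
noncomputable def c3G_vs2 : List Lev :=
  c3G_v2 :: c3G_vs3
noncomputable def c3G_vs1 : List Lev :=
  c3G_v1 :: c3G_vs2
noncomputable def c3G_vs : List Lev :=
  c3G_v0 :: c3G_vs1
noncomputable def c3_x : List (ℕ × List ℕ) :=
  [((nat_lit 0), [(nat_lit 0xffffffffffffffffffffffffffffff)]),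
  ((nat_lit 0), [(nat_lit 0x96aa3caa5aaaf0aa66aaccaaaaaa00),
   (nat_lit 0x6955c355a5550f55995533555555fe)]),
  ((nat_lit 0), [(nat_lit 0x28144144a050054488441144000054)]),
  ((nat_lit 0), [(nat_lit 0x5050a11000000005555aa),
   (nat_lit 0x281441440000000088441144000000)]),
  ((nat_lit 0), [(nat_lit 0x505000000000000555500),
   (nat_lit 0xa11000000000000a0)]),
  ((nat_lit 0), [(nat_lit 0x110000000000000011000000)])]
noncomputable def c3_G : Gl :=
  ⟨CL.Std.O8p2.P, ns, (app D []), (diag [[46]]), [], [], memM (app D []) [[48], [50]], true⟩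
noncomputable def c3_s : St :=
  ⟨(mkS CL.Std.O8p2.P.n c3G_vs c3_x), [[0], [2]], [], mapL Prod.snd c3_F, memM (app D []) [[48], [50]], []⟩
noncomputable def zt90 : ST :=
  (.orb 0 (.br 0 [W (nat_lit 0xf83b0d8360c433), W (nat_lit 0x3d0e8350f0360d037)] (W (nat_lit 0x100c0100c0100c0100c0100c0100c01)) [(0, [])] (.cons (.orb 0 (.orb 1 (.img [1] 0 (.and 2 0 (.br 0 [W (nat_lit 0xf8390d43b), [54]] (W (nat_lit 0x300c0100c0100c01)) [(9, [])] (.cons (.orb 0 (.img [0] 0 (.and 1 0 (.br 0 [W (nat_lit 0xe43c0d837), W (nat_lit 0x350f036)] (W (nat_lit 0x40100c01)) [(2, [])] (.cons (.orb 0 (.orb 1 (.img [0] 0 (.and 2 0 (.br 0 [W (nat_lit 0x3e0e4390d836)] (W (nat_lit 0x401)) [(1, [])] (.cons (.orb 0 (.orb 1 (.img [0] 0 (.and 2 0 (.br 0 [] [] [(8, [])] (.cons (.orb 0 (.img [0] 19 (.dif 1 0 (.br 0 [] [] [(24, [])] (.cons .fnd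
 .nil)))))
 .nil))))))
 .nil))))))
 .nil)))))
 .nil))))))
 .nil)))
noncomputable def zE94 : Net :=
  (.cons 64 (nat_lit 0xfb61ea47cc872900)
 (.cons 32 (nat_lit 0x3591d3fc00000000e79f6b5c)
 (.cons 16 (nat_lit 0xc6d200004d0c0000ce3400004578)
 (.cons 8 (nat_lit 0x30004400390035001a006600be00a6)
 (.cons 4 (nat_lit 0xd020d0c000a07030b04040700090e08)
 (.cons 2 (nat_lit 0x11232330131233220203300032011000)
 (.cons 1 (nat_lit 0x14004154044114401544404115405040)
 (.cons 2 (nat_lit 0x20002200000002002022002000000020)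
 (.cons 4 (nat_lit 0x4040a0c000802080a0a020c0c0c060c)
 (.cons 8 (nat_lit 0x36007c008c00240038009400f60010)
 (.cons 16 (nat_lit 0xa5c200001d5a0000897c0000498e)
 (.cons 32 (nat_lit 0x6458d10600000000e70e4648)
 (.cons 64 (nat_lit 0xfb7d1c59313042c8)
 .nil)))))))))))))
noncomputable def zK95 : Lk :=
  ⟨zE94, 3, 3, 1⟩
noncomputable def zts98 : List (List ℕ) :=
  [W (nat_lit 0x1b0671a86d184661a864),
  W (nat_lit 0x6e1a4651a0611986a)]
noncomputable def zts101 : List (List ℕ) :=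
  [W (nat_lit 0x3d0e8350f0310d431),
  W (nat_lit 0x390f4370d8320cc37),
  W (nat_lit 0x3e0e4390e0360c4330c433)]
noncomputable def P5_v0 : Lev :=
  ⟨0, 5, sg (W (nat_lit 0x1bc6f1bc6f)), [[114]], 55, 1⟩
noncomputable def P5_v1 : Lev :=
  ⟨1, 5, sg (W (nat_lit 0x1cc731cc73)), [], 56, 0⟩
noncomputable def P5_vs2 : List Lev :=
  []
noncomputable def P5_vs1 : List Lev :=
  P5_v1 :: P5_vs2
noncomputable def P5_vs : List Lev :=
  P5_v0 :: P5_vs1
noncomputable def P5_ps : List PcG :=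
  [⟨[110], 5, [], [[112]]⟩,
  ⟨[112], 5, [], []⟩]
noncomputable def v50_E : List (ℕ × List CE) :=
  [(31, [])]
noncomputable def v50_R : List (List ℕ) :=
  [[],
  [110],
  W (nat_lit 0x1bc6f),
  W (nat_lit 0x6f1bc6f),
  W (nat_lit 0x1bc6f1bc6f)]
noncomputable def zcj112 : List (List (List ℕ)) :=
  [[[112]],
  [[112]]]
noncomputable def v51_E : List (ℕ × List CE) :=
  [(31, []),
  (31, []),
  (31, []),
  (31, []),
  (31, [])]
noncomputable def v51_R : List (List ℕ) :=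
  [[],
  [112],
  W (nat_lit 0x1c471),
  W (nat_lit 0x711c471),
  W (nat_lit 0x1c4711c471),
  [110],
  W (nat_lit 0x1c46f),
  W (nat_lit 0x711c46f),
  W (nat_lit 0x1c4711c46f),
  W (nat_lit 0x711c4711c46f),
  W (nat_lit 0x1bc6f),
  W (nat_lit 0x711bc6f),
  W (nat_lit 0x1c4711bc6f),
  W (nat_lit 0x711c4711bc6f),
  W (nat_lit 0x1c4711c4711bc6f),
  W (nat_lit 0x6f1bc6f),
  W (nat_lit 0x1c46f1bc6f),
  W (nat_lit 0x711c46f1bc6f),
  W (nat_lit 0x1c4711c46f1bc6f),
  W (nat_lit 0x711c4711c46f1bc6f),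
  W (nat_lit 0x1bc6f1bc6f),
  W (nat_lit 0x711bc6f1bc6f),
  W (nat_lit 0x1c4711bc6f1bc6f),
  W (nat_lit 0x711c4711bc6f1bc6f),
  W (nat_lit 0x1c4711c4711bc6f1bc6f)]
noncomputable def v52_F : List (List ℕ × ℕ × List ℕ) :=
  [([], 0, []),
  (W (nat_lit 0x60120600d02405014070040502408), 1, []),
  (W (nat_lit 0x17064170440d0240501c0f0080900403), 1, []),
  (W (nat_lit 0x19044110341902c110140e), 1, []),
  (W (nat_lit 0x60190341902c0a01c070040502408), 1, []),
  (W (nat_lit 0x1704414034120240c0140800410), 2, []),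
  (W (nat_lit 0x170641704c0d0480c030010140f), 3, []),
  (W (nat_lit 0x19060120600a0440601c090040100c0a), 3, []),
  (W (nat_lit 0x1203c0904805014070280202401), 2, []),
  (W (nat_lit 0xe0280a018120080e), 1, []),
  (W (nat_lit 0xe024090140702c010140b), 2, []),
  (W (nat_lit 0x5c1905c0d0500902c100140800409), 2, []),
  (W (nat_lit 0x5c0f0240b0240601c0f00409), 3, []),
  (W (nat_lit 0x19060110500d0640a064050300101816), 1, []),
  (W (nat_lit 0x17044180341002409014050040101c13), 3, []),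
  (W (nat_lit 0x180641703c0a06405028190040b), 2, []),
  (W (nat_lit 0x6019060130340f0240b03c050140102c02), 3, []),
  (W (nat_lit 0x18064170441804009034070300101816), 1, []),
  (W (nat_lit 0x5c1904810024090181400409), 3, []),
  (W (nat_lit 0x19060120600d0640c01802), 2, []),
  (W (nat_lit 0x601904c0f0240c014080040a), 2, []),
  (W (nat_lit 0x5c19060120240c0480601c0f0040101009), 1, []),
  (W (nat_lit 0x18064180480d0480a0640501c0703c010140b), 2, []),
  (W (nat_lit 0x601905c110500d0480902c100040b00803), 3, []),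
  (W (nat_lit 0x601905c110600e0240d0180703c010140f), 3, [])]
noncomputable def v52_R : List (List ℕ) :=
  [[], W (nat_lit 0x4010040300803004010040300803004010040300803004010040300803), W (nat_lit 0x4030040400403004040040300404), W (nat_lit 0x40300804)]
noncomputable def r5 : List ℕ :=
  W (nat_lit 0x4010040300803004010040300803004010040300803004010040300803)
noncomputable def R5 : List (List ℕ) :=
  [W (nat_lit 0x4030040400403004040040300404), W (nat_lit 0x40300804)]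
noncomputable def zt124 : List ℕ :=
  []
noncomputable def zcj125 : List (List ℕ) :=
  []
noncomputable def zrs128 : List (ℕ × List ℕ) :=
  [(119, W (nat_lit 0x7a1ec7a1ec7a)),
  (101, W (nat_lit 0x7a1f07a1f07a)),
  (97, [121]),
  (72, W (nat_lit 0x1e87b1e87b1ec7a1ec7a)),
  (46, W (nat_lit 0x1e87b1e87b)),
  (67, W (nat_lit 0x1e87c1e87c1f07a1f07a)),
  (92, W (nat_lit 0x1e87c1e87c)),
  (89, W (nat_lit 0x7a1ec7a1ec7b1e87b)),
  (81, W (nat_lit 0x7a1f07a1f07c1e87c)),
  (45, W (nat_lit 0x7a1f07a1ec7b1e87c)),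
  (79, W (nat_lit 0x1e87b1e87c1f07a)),
  (23, W (nat_lit 0x1e87b1ec7a)),
  (100, W (nat_lit 0x1e87c1f07a)),
  (60, W (nat_lit 0x7a1ec7a1f07a)),
  (37, W (nat_lit 0x7a1ec7b1e87c1f07a))]
noncomputable def C5_w0_1_v0 : Lev :=
  ⟨119, 1, sg [], [[122]], 60, 0⟩
noncomputable def C5_w0_1_v1 : Lev :=
  ⟨1, 5, sg (W (nat_lit 0x1ec7b1ec7b)), [], 60, 0⟩
noncomputable def C5_w0_1_vs2 : List Lev :=
  []
noncomputable def C5_w0_1_vs1 : List Lev :=
  C5_w0_1_v1 :: C5_w0_1_vs2
noncomputable def C5_w0_1_vs : List Lev :=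
  C5_w0_1_v0 :: C5_w0_1_vs1
noncomputable def zcj130 : List (List ℕ) :=
  [[122]]
noncomputable def C5_w0_2_v0 : Lev :=
  ⟨101, 1, sg [], [[122]], 60, 0⟩
noncomputable def C5_w0_2_v1 : Lev :=
  ⟨1, 5, sg (W (nat_lit 0x1ec7b1ec7b)), [], 60, 0⟩
noncomputable def C5_w0_2_vs2 : List Lev :=
  []
noncomputable def C5_w0_2_vs1 : List Lev :=
  C5_w0_2_v1 :: C5_w0_2_vs2
noncomputable def C5_w0_2_vs : List Lev :=
  C5_w0_2_v0 :: C5_w0_2_vs1
noncomputable def zcj134 : List (List ℕ) :=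
  [[122]]
noncomputable def C5_w0_3_v0 : Lev :=
  ⟨97, 5, sg (W (nat_lit 0x1ec7b1ec7b)), [], 60, 0⟩
noncomputable def C5_w0_3_vs1 : List Lev :=
  []
noncomputable def C5_w0_3_vs : List Lev :=
  C5_w0_3_v0 :: C5_w0_3_vs1
noncomputable def zcj138 : List (List ℕ) :=
  []
noncomputable def C5_w0_4_v0 : Lev :=
  ⟨72, 1, sg [], [[122]], 60, 0⟩
noncomputable def C5_w0_4_v1 : Lev :=
  ⟨1, 5, sg (W (nat_lit 0x1ec7b1ec7b)), [], 60, 0⟩
noncomputable def C5_w0_4_vs2 : List Lev :=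
  []
noncomputable def C5_w0_4_vs1 : List Lev :=
  C5_w0_4_v1 :: C5_w0_4_vs2
noncomputable def C5_w0_4_vs : List Lev :=
  C5_w0_4_v0 :: C5_w0_4_vs1
noncomputable def zcj142 : List (List ℕ) :=
  [[122]]
noncomputable def C5_w0_5_v0 : Lev :=
  ⟨46, 5, sg (W (nat_lit 0x1ec7b1ec7b)), [], 60, 0⟩
noncomputable def C5_w0_5_vs1 : List Lev :=
  []
noncomputable def C5_w0_5_vs : List Lev :=
  C5_w0_5_v0 :: C5_w0_5_vs1
noncomputable def zcj146 : List (List ℕ) :=
  []
noncomputable def C5_w0_6_v0 : Lev :=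
  ⟨67, 1, sg [], [[122]], 60, 0⟩
noncomputable def C5_w0_6_v1 : Lev :=
  ⟨1, 5, sg (W (nat_lit 0x1ec7b1ec7b)), [], 60, 0⟩
noncomputable def C5_w0_6_vs2 : List Lev :=
  []
noncomputable def C5_w0_6_vs1 : List Lev :=
  C5_w0_6_v1 :: C5_w0_6_vs2
noncomputable def C5_w0_6_vs : List Lev :=
  C5_w0_6_v0 :: C5_w0_6_vs1
noncomputable def zcj150 : List (List ℕ) :=
  [[122]]
noncomputable def C5_w0_7_v0 : Lev :=
  ⟨92, 5, sg (W (nat_lit 0x1ec7b1ec7b)), [], 60, 0⟩
noncomputable def C5_w0_7_vs1 : List Lev :=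
  []
noncomputable def C5_w0_7_vs : List Lev :=
  C5_w0_7_v0 :: C5_w0_7_vs1
noncomputable def zcj154 : List (List ℕ) :=
  []
noncomputable def C5_w0_8_v0 : Lev :=
  ⟨89, 5, sg (W (nat_lit 0x1ec7b1ec7b)), [], 60, 0⟩
noncomputable def C5_w0_8_vs1 : List Lev :=
  []
noncomputable def C5_w0_8_vs : List Lev :=
  C5_w0_8_v0 :: C5_w0_8_vs1
noncomputable def zcj158 : List (List ℕ) :=
  []
noncomputable def C5_w0_9_v0 : Lev :=
  ⟨81, 5, sg (W (nat_lit 0x1ec7b1ec7b)), [], 60, 0⟩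
noncomputable def C5_w0_9_vs1 : List Lev :=
  []
noncomputable def C5_w0_9_vs : List Lev :=
  C5_w0_9_v0 :: C5_w0_9_vs1
noncomputable def zcj162 : List (List ℕ) :=
  []
noncomputable def C5_w0_10_v0 : Lev :=
  ⟨45, 5, sg (W (nat_lit 0x1ec7b1ec7b)), [], 60, 0⟩
noncomputable def C5_w0_10_vs1 : List Lev :=
  []
noncomputable def C5_w0_10_vs : List Lev :=
  C5_w0_10_v0 :: C5_w0_10_vs1
noncomputable def zcj166 : List (List ℕ) :=
  []
noncomputable def C5_w0_11_v0 : Lev :=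
  ⟨79, 5, sg (W (nat_lit 0x1ec7b1ec7b)), [], 60, 0⟩
noncomputable def C5_w0_11_vs1 : List Lev :=
  []
noncomputable def C5_w0_11_vs : List Lev :=
  C5_w0_11_v0 :: C5_w0_11_vs1
noncomputable def zcj170 : List (List ℕ) :=
  []
noncomputable def C5_w0_12_v0 : Lev :=
  ⟨23, 5, sg (W (nat_lit 0x1ec7b1ec7b)), [], 60, 0⟩
noncomputable def C5_w0_12_vs1 : List Lev :=
  []
noncomputable def C5_w0_12_vs : List Lev :=
  C5_w0_12_v0 :: C5_w0_12_vs1
noncomputable def zcj174 : List (List ℕ) :=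
  []
noncomputable def C5_w0_13_v0 : Lev :=
  ⟨100, 5, sg (W (nat_lit 0x1ec7b1ec7b)), [], 60, 0⟩
noncomputable def C5_w0_13_vs1 : List Lev :=
  []
noncomputable def C5_w0_13_vs : List Lev :=
  C5_w0_13_v0 :: C5_w0_13_vs1
noncomputable def zcj178 : List (List ℕ) :=
  []
noncomputable def C5_w0_14_v0 : Lev :=
  ⟨60, 5, sg (W (nat_lit 0x1ec7b1ec7b)), [], 60, 0⟩
noncomputable def C5_w0_14_vs1 : List Lev :=
  []
noncomputable def C5_w0_14_vs : List Lev :=
  C5_w0_14_v0 :: C5_w0_14_vs1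
noncomputable def zcj182 : List (List ℕ) :=
  []
noncomputable def C5_w0_15_v0 : Lev :=
  ⟨37, 5, sg (W (nat_lit 0x1ec7b1ec7b)), [], 60, 0⟩
noncomputable def C5_w0_15_vs1 : List Lev :=
  []
noncomputable def C5_w0_15_vs : List Lev :=
  C5_w0_15_v0 :: C5_w0_15_vs1
noncomputable def zcj186 : List (List ℕ) :=
  []
noncomputable def zB189 : List BG :=
  [⟨[121], [],
  [([⟨[], [], 3, []⟩], []),
   ([⟨[], [], 5, []⟩], []),
   ([⟨[], [], 7, []⟩], []),
   ([⟨[], [], 0, []⟩,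
    ⟨[122], [123], 5, []⟩,
    ⟨[123], [122], 7, []⟩,
    ⟨W (nat_lit 0x1ec7b), [], 12, []⟩,
    ⟨W (nat_lit 0x1f07c), [], 13, []⟩], []),
   ([⟨[], [], 8, []⟩], []),
   ([⟨[], [], 1, []⟩,
    ⟨[122], [123], 8, []⟩,
    ⟨[123], [122], 3, []⟩,
    ⟨W (nat_lit 0x1ec7b), [], 11, []⟩,
    ⟨W (nat_lit 0x1f07c), [], 14, []⟩], []),
   ([⟨[], [], 9, []⟩], []),
   ([⟨[], [], 2, []⟩,
    ⟨[122], [123], 3, []⟩,
    ⟨[123], [122], 9, []⟩,
    ⟨W (nat_lit 0x1ec7b), [123], 14, [122]⟩,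
    ⟨W (nat_lit 0x1f07c), [122], 10, []⟩], []),
   ([⟨[], [], 4, []⟩,
    ⟨[122], [123], 9, []⟩,
    ⟨[123], [122], 5, []⟩,
    ⟨W (nat_lit 0x1ec7b), [], 10, [122]⟩,
    ⟨W (nat_lit 0x1f07c), [122], 12, [123]⟩], []),
   ([⟨[], [], 6, []⟩,
    ⟨[122], [123], 7, []⟩,
    ⟨[123], [122], 8, []⟩,
    ⟨W (nat_lit 0x1ec7b), [123], 13, [122]⟩,
    ⟨W (nat_lit 0x1f07c), [122], 11, [123]⟩], []),
   ([⟨[], W (nat_lit 0x1ec7b), 8, [123]⟩,
    ⟨[122], W (nat_lit 0x1f07c), 7, []⟩,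
    ⟨[123], [122], 14, W (nat_lit 0x1f07c)⟩,
    ⟨W (nat_lit 0x1ec7b), [123], 12, [122]⟩,
    ⟨W (nat_lit 0x1f07c), W (nat_lit 0x1f07c), 15, []⟩], []),
   ([⟨[], W (nat_lit 0x1ec7b), 5, []⟩,
    ⟨[122], W (nat_lit 0x1f07c), 9, [122]⟩,
    ⟨[123], [122], 13, [123]⟩,
    ⟨W (nat_lit 0x1ec7b), W (nat_lit 0x1f07c), 14, W (nat_lit 0x1f07c)⟩,
    ⟨W (nat_lit 0x1f07c), [123], 15, W (nat_lit 0x1f07c)⟩], []),
   ([⟨[], W (nat_lit 0x1ec7b), 3, []⟩,
    ⟨[122], W (nat_lit 0x1f07c), 8, [122]⟩,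
    ⟨[123], W (nat_lit 0x1ec7b), 10, [123]⟩,
    ⟨W (nat_lit 0x1ec7b), W (nat_lit 0x1f07c), 13, W (nat_lit 0x1f07c)⟩,
    ⟨W (nat_lit 0x1f07c), [], 15, []⟩], []),
   ([⟨[], W (nat_lit 0x1f07c), 3, []⟩,
    ⟨[122], [123], 11, [122]⟩,
    ⟨[123], W (nat_lit 0x1ec7b), 9, [123]⟩,
    ⟨W (nat_lit 0x1ec7b), W (nat_lit 0x1ec7b), 15, W (nat_lit 0x1f07c)⟩,
    ⟨W (nat_lit 0x1f07c), W (nat_lit 0x1ec7b), 12, W (nat_lit 0x1ec7b)⟩], []),
   ([⟨[], W (nat_lit 0x1f07c), 5, []⟩,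
    ⟨[122], [123], 10, W (nat_lit 0x1ec7b)⟩,
    ⟨[123], W (nat_lit 0x1ec7b), 7, [123]⟩,
    ⟨W (nat_lit 0x1ec7b), [122], 15, [122]⟩,
    ⟨W (nat_lit 0x1f07c), W (nat_lit 0x1ec7b), 11, W (nat_lit 0x1ec7b)⟩], []),
   ([⟨[], W (nat_lit 0x1f07c), 12, []⟩,
    ⟨[122], W (nat_lit 0x1ec7b), 14, [123]⟩,
    ⟨[123], W (nat_lit 0x1f07c), 11, W (nat_lit 0x1ec7b)⟩,
    ⟨W (nat_lit 0x1ec7b), W (nat_lit 0x1ec7b), 13, W (nat_lit 0x1ec7b)⟩,
    ⟨W (nat_lit 0x1f07c), W (nat_lit 0x1f07c), 10, []⟩], [])]⟩]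
noncomputable def zE190 : List (ℕ × List ℕ) :=
  [(118, W (nat_lit 0x7b1ec7a1ec7a1ec7a))]
noncomputable def C5_v0 : Lev :=
  ⟨0, 60, sg (W (nat_lit 0x1e4771e4771e4771e4771dc791dc771e477)), [[122]], 59, 1⟩
noncomputable def C5_v1 : Lev :=
  ⟨1, 5, sg (W (nat_lit 0x1ec7b1ec7b)), [], 60, 0⟩
noncomputable def C5_vs2 : List Lev :=
  []
noncomputable def C5_vs1 : List Lev :=
  C5_v1 :: C5_vs2
noncomputable def C5_vs : List Lev :=
  C5_v0 :: C5_vs1
noncomputable def X5_v0 : Lev :=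
  ⟨0, 5, sg (W (nat_lit 0x1d4751d475)), [], 60, 0⟩
noncomputable def X5_vs1 : List Lev :=
  []
noncomputable def X5_vs : List Lev :=
  X5_v0 :: X5_vs1
noncomputable def c5_F : List (List ℕ × ℕ × ℕ) :=
  []
noncomputable def c5G_v0 : Lev :=
  ⟨0, 120, sg (W (nat_lit 0x100c010040100401004030040100c0100c01004030040300401)), [[4], [6]], 0, 2⟩
noncomputable def c5G_v1 : Lev :=
  ⟨1, 63, sg (W (nat_lit 0x1c0501c0501c0501c0501c05)), [[126], [128]], 61, 2⟩
noncomputable def c5G_v2 : Lev :=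
  ⟨8, 32, sg (W (nat_lit 0x1fc7f2047f2047f2047f)), [[130], [132]], 63, 2⟩
noncomputable def c5G_v3 : Lev :=
  ⟨9, 20, sg (W (nat_lit 0x214832148520c8520c83)), [[134], [136]], 65, 2⟩
noncomputable def c5G_v4 : Lev :=
  ⟨2, 9, sg (W (nat_lit 0x8721c8722487)), [[138], [140]], 67, 2⟩
noncomputable def c5G_v5 : Lev :=
  ⟨24, 4, sg (W (nat_lit 0x2348b)), [], 69, 0⟩
noncomputable def c5G_vs6 : List Lev :=
  []
noncomputable def c5G_vs5 : List Lev :=
  c5G_v5 :: c5G_vs6
noncomputable def c5G_vs4 : List Lev :=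
  c5G_v4 :: c5G_vs5
noncomputable def c5G_vs3 : List Lev :=
  c5G_v3 :: c5G_vs4
noncomputable def c5G_vs2 : List Lev :=
  c5G_v2 :: c5G_vs3
noncomputable def c5G_vs1 : List Lev :=
  c5G_v1 :: c5G_vs2
noncomputable def c5G_vs : List Lev :=
  c5G_v0 :: c5G_vs1
noncomputable def c5_x : List (ℕ × List ℕ) :=
  [((nat_lit 0x10000000000000001), [(nat_lit 0xffffffffffffffffffffffffffffff)]),
  ((nat_lit 0), [(nat_lit 0x6955c355a5550f55995533555555fe),
   (nat_lit 0x96aa3caa5aaaf0aa66aaccaaaaaa00)]),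
  ((nat_lit 0), [(nat_lit 0x69550000a555000099550000555500),
   (nat_lit 0x96aa00005aaa000066aa0000aaaa00)]),
  ((nat_lit 0), [(nat_lit 0x828200000a0a000022220000aaaa00),
   (nat_lit 0x824400000a44000022440000a8)]),
  ((nat_lit 0), [(nat_lit 0x41000000050000001100000054)]),
  ((nat_lit 0), [(nat_lit 0x110000000000000011000000)])]
noncomputable def c5_G : Gl :=
  ⟨CL.Std.O8p2.P, ns, (app D []), (diag [[116]]), [], [], memM (app D []) [[118], [120]], true⟩
noncomputable def c5_s : St :=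
  ⟨(mkS CL.Std.O8p2.P.n c5G_vs c5_x), [[0], [2]], [], mapL Prod.snd c5_F, memM (app D []) [[118], [120]], []⟩
noncomputable def zt200 : ST :=
  (.orb 0 (.br 0 [[122], [124]] (W (nat_lit 0xc0100c030040300403004030040300403)) [(1, W (nat_lit 0x40120402)), (0, [])] (.cons (.orb 0 (.img [0] 0 (.and 2 0 (.mis 0))))
 (.cons (.orb 0 (.img [1] 0 (.and 1 0 (.orb 1 (.img (W (nat_lit 0x401)) 0 (.and 2 0 (.img [0] 2 (.and 1 0 (.br 0 [W (nat_lit 0x1f07c)] (W (nat_lit 0x40100401)) [(1, [])] (.cons (.orb 0 (.img [0] 0 (.and 1 0 (.orb 1 (.img [1] 0 (.and 2 0 (.img (W (nat_lit 0x401)) 2 (.and 1 0 (.br 0 [] [] [(8, [])] (.cons (.orb 0 (.orb 1 (.img [0] 0 (.and 2 0 (.img [1] 2 (.and 1 0 (.br 0 [] [] [(9, [])] (.cons (.orb 0 (.img (W (nat_lit 0x802)) 6 (.and 1 0 (.br 0 [] [] [(2, [])] (.cons (.orb 0 (.img [0] 0 (.and 1 0 (.br 0 [] [] [(24, [])] (.cons .fnd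
 .nil)))))
 .nil)))))
 .nil))))))))
 .nil))))))))))
 .nil))))))))))
 .nil))))
noncomputable def zE204 : Net :=
  (.cons 64 (nat_lit 0xad1f84d645987dec)
 (.cons 32 (nat_lit 0x8671a84900000000398b6e1e)
 (.cons 16 (nat_lit 0x47580000b8b90000733900002668)
 (.cons 8 (nat_lit 0x20001e0079004f004d005e00dc00a4)
 (.cons 4 (nat_lit 0xa0f0009060a0203080a09080b0500)
 (.cons 2 (nat_lit 0x2333200213201300210020310030010)
 (.cons 1 (nat_lit 0x51114000514100510144410004504)
 (.cons 2 (nat_lit 0x202000022200020220220002002)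
 (.cons 4 (nat_lit 0x8080c0204000a08020a020c0c0c000c)
 (.cons 8 (nat_lit 0x640094000800000046008a00ce00be)
 (.cons 16 (nat_lit 0x483a00003cf200003aae00006440)
 (.cons 32 (nat_lit 0x8634b690000000002b753632)
 (.cons 64 (nat_lit 0xadf9c78fa8e31772)
 .nil)))))))))))))
noncomputable def zK205 : Lk :=
  ⟨zE204, 5, 2, 1⟩
noncomputable def zts208 : List (List ℕ) :=
  [W (nat_lit 0x250941d475),
  W (nat_lit 0x2509423c91)]
noncomputable def zts211 : List (List ℕ) :=
  [W (nat_lit 0x7b1e477),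
  W (nat_lit 0x7c1e4781f079),
  W (nat_lit 0x1ec7b1e078)]

theorem zc0 : CL.Std.O8p2.P.chainB ns D P3_vs [[26], [28], [30], [32], [34]] = true := by decide +kernel
theorem zr1 : chk (pcsR P3_ps []) = true := by decide +kernel
theorem zb2 : bnd (pcsB D P3_ps []) (leB (app D []) [[26], [28], [30], [32], [34]] (pcGens P3_ps [])) = true := by decide +kernel
theorem zq3 : cvN 3 [26] [[]] v30_E = v30_R := by decide +kernel
theorem zr4 : chk (cvR 3 3 [26] [[]] v30_E) = true := by decide +kernel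
theorem zb5 : cvB D [[26], [28], [30], [32], [34]] [[28], [30], [32], [34]] 3 [26] [[]] v30_E = true := by decide +kernel
theorem zm6 : leB D [[26], [28], [30], [32], [34]] [[0], [2]] = true := by decide +kernel
theorem zm8 : nrmB D [[26], [28], [30], [32], [34]] [[28], [30], [32], [34]] zcj7 = true := by decide +kernel
theorem zr9 : chk (nrmR [[26], [28], [30], [32], [34]] [[28], [30], [32], [34]] zcj7) = true := by decide +kernel
theorem zm10 : leB D [[28], [30], [32], [34]] [[26], [28], [30], [32], [34]] = true := by decide +kernel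
theorem zq11 : cvN 3 [28] v30_R v31_E = v31_R := by decide +kernel
theorem zr12 : chk (cvR 3 3 [28] v30_R v31_E) = true := by decide +kernel
theorem zb13 : cvB D [[26], [28], [30], [32], [34]] [[30], [32], [34]] 3 [28] v30_R v31_E = true := by decide +kernel
theorem zm14 : leB D [[26], [28], [30], [32], [34]] [[0], [2]] = true := by decide +kernel
theorem zm16 : nrmB D [[26], [28], [30], [32], [34]] [[30], [32], [34]] zcj15 = true := by decide +kernel
theorem zr17 : chk (nrmR [[26], [28], [30], [32], [34]] [[30], [32], [34]] zcj15) = true := by decide +kernel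
theorem zm18 : leB D [[30], [32], [34]] [[26], [28], [30], [32], [34]] = true := by decide +kernel
theorem zq19 : cvN 3 [30] v31_R v32_E = v32_R := by decide +kernel
theorem zr20 : chk (cvR 3 3 [30] v31_R v32_E) = true := by decide +kernel
theorem zb21 : cvB D [[26], [28], [30], [32], [34]] [[32], [34]] 3 [30] v31_R v32_E = true := by decide +kernel
theorem zm22 : leB D [[26], [28], [30], [32], [34]] [[0], [2]] = true := by decide +kernel
theorem zm24 : nrmB D [[26], [28], [30], [32], [34]] [[32], [34]] zcj23 = true := by decide +kernel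
theorem zr25 : chk (nrmR [[26], [28], [30], [32], [34]] [[32], [34]] zcj23) = true := by decide +kernel
theorem zm26 : leB D [[32], [34]] [[26], [28], [30], [32], [34]] = true := by decide +kernel
theorem zq27 : cvN 3 [32] v32_R v33_E = v33_R := by decide +kernel
theorem zr28 : chk (cvR 3 3 [32] v32_R v33_E) = true := by decide +kernel
theorem zb29 : cvB D [[26], [28], [30], [32], [34]] [[34]] 3 [32] v32_R v33_E = true := by decide +kernel
theorem zm30 : leB D [[26], [28], [30], [32], [34]] [[0], [2]] = true := by decide +kernel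
theorem zm32 : nrmB D [[26], [28], [30], [32], [34]] [[34]] zcj31 = true := by decide +kernel
theorem zr33 : chk (nrmR [[26], [28], [30], [32], [34]] [[34]] zcj31) = true := by decide +kernel
theorem zm34 : leB D [[34]] [[26], [28], [30], [32], [34]] = true := by decide +kernel
theorem zq35 : cvN 3 [34] v33_R v34_E = v34_R := by decide +kernel
theorem zr36 : chk (cvR 3 3 [34] v33_R v34_E) = true := by decide +kernel
theorem zb37 : cvB D [[26], [28], [30], [32], [34]] [] 3 [34] v33_R v34_E = true := by decide +kernel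
theorem zm38 : leB D [[26], [28], [30], [32], [34]] [[0], [2]] = true := by decide +kernel
theorem zr39 : chk (fuR v34_R v35_R v35_F) = true := by decide +kernel
theorem zb40 : fuB D [[0], [2]] [] v34_R v35_R v35_F = true := by decide +kernel
theorem zm41 : leB D [[0], [2]] [[0], [2]] = true := by decide +kernel
theorem zm42 : leB D [[26], [28], [30], [32], [34]] [[0], [2]] = true := by decide +kernel
theorem zb45 : bnd (pcB D [] 3 zt43 zcj44) (leB (app D []) [[60]] ([60] :: [])) = true := by decide +kernel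
theorem zr46 : chk (pcR [] [60] 3 zt43 zcj44) = true := by decide +kernel
theorem zb49 : schB D [[56], [58]] [[60]] zus47 zF48 8 = true := by decide +kernel
theorem zr50 : chk (schR [[56], [58]] zus47 zF48) = true := by decide +kernel
theorem zb53 : schB D [[52], [54]] [[56], [58]] zus51 zF52 27 = true := by decide +kernel
theorem zr54 : chk (schR [[52], [54]] zus51 zF52) = true := by decide +kernel
theorem zc56 : CL.Std.O8p2.P.chainB ns D C3_w0_1_vs [[52], [54]] = true := by decide +kernel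
theorem zb58 : wdB D [[52], [54]] C3_w0_1_v0.nx zcj57 = true := by decide +kernel
theorem zr59 : chk (wdR C3_w0_1_v0.nx (W (nat_lit 0x3f0dc40)) zcj57) = true := by decide +kernel
theorem zc60 : CL.Std.O8p2.P.chainB ns D C3_vs [[48], [50]] = true := by decide +kernel
theorem zb62 : wdB D [[52], [54]] C3_v1.nx zcj61 = true := by decide +kernel
theorem zr63 : chk (wdR C3_v1.nx [63] zcj61) = true := by decide +kernel
theorem zc64 : CL.Std.O8p2.P.chainB ns D C3_w0_3_vs [[52], [54]] = true := by decide +kernel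
theorem zb66 : wdB D [[52], [54]] C3_w0_3_v0.nx zcj65 = true := by decide +kernel
theorem zr67 : chk (wdR C3_w0_3_v0.nx (W (nat_lit 0x401003e)) zcj65) = true := by decide +kernel
theorem zc68 : CL.Std.O8p2.P.chainB ns D C3_w0_4_vs [[52], [54]] = true := by decide +kernel
theorem zb70 : wdB D [[52], [54]] C3_w0_4_v0.nx zcj69 = true := by decide +kernel
theorem zr71 : chk (wdR C3_w0_4_v0.nx (W (nat_lit 0x3f0e43f)) zcj69) = true := by decide +kernel
theorem zc72 : CL.Std.O8p2.P.chainB ns D C3_w0_5_vs [[52], [54]] = true := by decide +kernel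
theorem zb74 : wdB D [[52], [54]] C3_w0_5_v0.nx zcj73 = true := by decide +kernel
theorem zr75 : chk (wdR C3_w0_5_v0.nx (W (nat_lit 0xfc3f0fc3f)) zcj73) = true := by decide +kernel
theorem zc76 : CL.Std.O8p2.P.chainB ns D C3_w0_6_vs [[52], [54]] = true := by decide +kernel
theorem zb78 : wdB D [[52], [54]] C3_w0_6_v0.nx zcj77 = true := by decide +kernel
theorem zr79 : chk (wdR C3_w0_6_v0.nx (W (nat_lit 0x1004010040)) zcj77) = true := by decide +kernel
theorem zb82 : bB CL.Std.O8p2.P.n CL.Std.O8p2.P.N ns (app D zE81) [[48], [50]] [[52], [54]] 0 zrs55 zB80 = true := by decide +kernel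
theorem zb83 : CL.Std.O8p2.P.invSz ns [[48], [50]] 0 (orbM CL.Std.O8p2.P.N ns C3_v0) 120 = true := by decide +kernel
theorem zr84 : chk (bR 0 zrs55 zB80) = true := by decide +kernel
theorem zr85 : chk (defRels zE81) = true := by decide +kernel
theorem zc86 : CL.Std.O8p2.P.chainB ns D X3_vs [[46]] = true := by decide +kernel
theorem zf87 : CL.Std.O8p2.P.fixXB ns (diag [[46]]) c3_F = true := by decide +kernel
theorem zc88 : CL.Std.O8p2.P.chainB ns D c3G_vs [[0], [2]] = true := by decide +kernel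
theorem zs89 : ssB CL.Std.O8p2.P.N ns D (mkS CL.Std.O8p2.P.n c3G_vs c3_x) [[0], [2]] = true := by decide +kernel
theorem zs91 : c3_G.chk zt90 c3_s none = true := by decide +kernel
theorem zr92 : chk (comR [[48], [50]] (mapL Prod.snd (diag [[46]]))) = true := by decide +kernel
theorem zm93 : leB D [[48], [50]] [[0], [2]] = true := by decide +kernel
theorem zl96 : zK95.relB CL.Std.O8p2.P CL.Spor.Co1O.A3.T.P CL.Spor.Co1O.ns [[96], [98], [46]] [[0], [2], [4]] = true := by decide +kernel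
theorem zl97 : allL (zK95.pl CL.Std.O8p2.P CL.Spor.Co1O.A3.T.P CL.Spor.Co1O.ns CL.Spor.Co1O.A3.T.ns 0) (zp [] [[96], [98], [46]] [[0], [2], [4]]) = true := by decide +kernel
theorem zm99 : leB D zts98 [[96], [98], [46]] = true := by decide +kernel
theorem zr100 : chk (zp [] [[48], [50]] zts98) = true := by decide +kernel
theorem zm102 : leB D zts101 [[48], [50]] = true := by decide +kernel
theorem zr103 : chk (zp [] [[96], [98], [46]] zts101) = true := by decide +kernel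
theorem zr104 : chk [([46], r3)] = true := by decide +kernel
theorem zc105 : CL.Std.O8p2.P.chainB ns D P5_vs [[110], [112]] = true := by decide +kernel
theorem zr106 : chk (pcsR P5_ps []) = true := by decide +kernel
theorem zb107 : bnd (pcsB D P5_ps []) (leB (app D []) [[110], [112]] (pcGens P5_ps [])) = true := by decide +kernel
theorem zq108 : cvN 5 [110] [[]] v50_E = v50_R := by decide +kernel
theorem zr109 : chk (cvR 5 5 [110] [[]] v50_E) = true := by decide +kernel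
theorem zb110 : cvB D [[110], [112]] [[112]] 5 [110] [[]] v50_E = true := by decide +kernel
theorem zm111 : leB D [[110], [112]] [[0], [2]] = true := by decide +kernel
theorem zm113 : nrmB D [[110], [112]] [[112]] zcj112 = true := by decide +kernel
theorem zr114 : chk (nrmR [[110], [112]] [[112]] zcj112) = true := by decide +kernel
theorem zm115 : leB D [[112]] [[110], [112]] = true := by decide +kernel
theorem zq116 : cvN 5 [112] v50_R v51_E = v51_R := by decide +kernel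
theorem zr117 : chk (cvR 5 5 [112] v50_R v51_E) = true := by decide +kernel
theorem zb118 : cvB D [[110], [112]] [] 5 [112] v50_R v51_E = true := by decide +kernel
theorem zm119 : leB D [[110], [112]] [[0], [2]] = true := by decide +kernel
theorem zr120 : chk (fuR v51_R v52_R v52_F) = true := by decide +kernel
theorem zb121 : fuB D [[0], [2]] [] v51_R v52_R v52_F = true := by decide +kernel
theorem zm122 : leB D [[0], [2]] [[0], [2]] = true := by decide +kernel
theorem zm123 : leB D [[110], [112]] [[0], [2]] = true := by decide +kernel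
theorem zb126 : bnd (pcB D [] 5 zt124 zcj125) (leB (app D []) [[122]] ([122] :: [])) = true := by decide +kernel
theorem zr127 : chk (pcR [] [122] 5 zt124 zcj125) = true := by decide +kernel
theorem zc129 : CL.Std.O8p2.P.chainB ns D C5_w0_1_vs [[122]] = true := by decide +kernel
theorem zb131 : wdB D [[122]] C5_w0_1_v0.nx zcj130 = true := by decide +kernel
theorem zr132 : chk (wdR C5_w0_1_v0.nx (W (nat_lit 0x7a1ec7a1ec7a)) zcj130) = true := by decide +kernel
theorem zc133 : CL.Std.O8p2.P.chainB ns D C5_w0_2_vs [[122]] = true := by decide +kernel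
theorem zb135 : wdB D [[122]] C5_w0_2_v0.nx zcj134 = true := by decide +kernel
theorem zr136 : chk (wdR C5_w0_2_v0.nx (W (nat_lit 0x7a1f07a1f07a)) zcj134) = true := by decide +kernel
theorem zc137 : CL.Std.O8p2.P.chainB ns D C5_w0_3_vs [[122]] = true := by decide +kernel
theorem zb139 : wdB D [[122]] C5_w0_3_v0.nx zcj138 = true := by decide +kernel
theorem zr140 : chk (wdR C5_w0_3_v0.nx [121] zcj138) = true := by decide +kernel
theorem zc141 : CL.Std.O8p2.P.chainB ns D C5_w0_4_vs [[122]] = true := by decide +kernel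
theorem zb143 : wdB D [[122]] C5_w0_4_v0.nx zcj142 = true := by decide +kernel
theorem zr144 : chk (wdR C5_w0_4_v0.nx (W (nat_lit 0x1e87b1e87b1ec7a1ec7a)) zcj142) = true := by decide +kernel
theorem zc145 : CL.Std.O8p2.P.chainB ns D C5_w0_5_vs [[122]] = true := by decide +kernel
theorem zb147 : wdB D [[122]] C5_w0_5_v0.nx zcj146 = true := by decide +kernel
theorem zr148 : chk (wdR C5_w0_5_v0.nx (W (nat_lit 0x1e87b1e87b)) zcj146) = true := by decide +kernel
theorem zc149 : CL.Std.O8p2.P.chainB ns D C5_w0_6_vs [[122]] = true := by decide +kernel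
theorem zb151 : wdB D [[122]] C5_w0_6_v0.nx zcj150 = true := by decide +kernel
theorem zr152 : chk (wdR C5_w0_6_v0.nx (W (nat_lit 0x1e87c1e87c1f07a1f07a)) zcj150) = true := by decide +kernel
theorem zc153 : CL.Std.O8p2.P.chainB ns D C5_w0_7_vs [[122]] = true := by decide +kernel
theorem zb155 : wdB D [[122]] C5_w0_7_v0.nx zcj154 = true := by decide +kernel
theorem zr156 : chk (wdR C5_w0_7_v0.nx (W (nat_lit 0x1e87c1e87c)) zcj154) = true := by decide +kernel
theorem zc157 : CL.Std.O8p2.P.chainB ns D C5_w0_8_vs [[122]] = true := by decide +kernel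
theorem zb159 : wdB D [[122]] C5_w0_8_v0.nx zcj158 = true := by decide +kernel
theorem zr160 : chk (wdR C5_w0_8_v0.nx (W (nat_lit 0x7a1ec7a1ec7b1e87b)) zcj158) = true := by decide +kernel
theorem zc161 : CL.Std.O8p2.P.chainB ns D C5_w0_9_vs [[122]] = true := by decide +kernel
theorem zb163 : wdB D [[122]] C5_w0_9_v0.nx zcj162 = true := by decide +kernel
theorem zr164 : chk (wdR C5_w0_9_v0.nx (W (nat_lit 0x7a1f07a1f07c1e87c)) zcj162) = true := by decide +kernel
theorem zc165 : CL.Std.O8p2.P.chainB ns D C5_w0_10_vs [[122]] = true := by decide +kernel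
theorem zb167 : wdB D [[122]] C5_w0_10_v0.nx zcj166 = true := by decide +kernel
theorem zr168 : chk (wdR C5_w0_10_v0.nx (W (nat_lit 0x7a1f07a1ec7b1e87c)) zcj166) = true := by decide +kernel
theorem zc169 : CL.Std.O8p2.P.chainB ns D C5_w0_11_vs [[122]] = true := by decide +kernel
theorem zb171 : wdB D [[122]] C5_w0_11_v0.nx zcj170 = true := by decide +kernel
theorem zr172 : chk (wdR C5_w0_11_v0.nx (W (nat_lit 0x1e87b1e87c1f07a)) zcj170) = true := by decide +kernel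
theorem zc173 : CL.Std.O8p2.P.chainB ns D C5_w0_12_vs [[122]] = true := by decide +kernel
theorem zb175 : wdB D [[122]] C5_w0_12_v0.nx zcj174 = true := by decide +kernel
theorem zr176 : chk (wdR C5_w0_12_v0.nx (W (nat_lit 0x1e87b1ec7a)) zcj174) = true := by decide +kernel
theorem zc177 : CL.Std.O8p2.P.chainB ns D C5_w0_13_vs [[122]] = true := by decide +kernel
theorem zb179 : wdB D [[122]] C5_w0_13_v0.nx zcj178 = true := by decide +kernel
theorem zr180 : chk (wdR C5_w0_13_v0.nx (W (nat_lit 0x1e87c1f07a)) zcj178) = true := by decide +kernel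
theorem zc181 : CL.Std.O8p2.P.chainB ns D C5_w0_14_vs [[122]] = true := by decide +kernel
theorem zb183 : wdB D [[122]] C5_w0_14_v0.nx zcj182 = true := by decide +kernel
theorem zr184 : chk (wdR C5_w0_14_v0.nx (W (nat_lit 0x7a1ec7a1f07a)) zcj182) = true := by decide +kernel
theorem zc185 : CL.Std.O8p2.P.chainB ns D C5_w0_15_vs [[122]] = true := by decide +kernel
theorem zb187 : wdB D [[122]] C5_w0_15_v0.nx zcj186 = true := by decide +kernel
theorem zr188 : chk (wdR C5_w0_15_v0.nx (W (nat_lit 0x7a1ec7b1e87c1f07a)) zcj186) = true := by decide +kernel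
theorem zb191 : bB CL.Std.O8p2.P.n CL.Std.O8p2.P.N ns (app D zE190) [[118], [120]] [[122]] 0 zrs128 zB189 = true := by decide +kernel
theorem zc192 : CL.Std.O8p2.P.chainB ns D C5_vs [[118], [120]] = true := by decide +kernel
theorem zb193 : CL.Std.O8p2.P.invSz ns [[118], [120]] 0 (orbM CL.Std.O8p2.P.N ns C5_v0) 60 = true := by decide +kernel
theorem zr194 : chk (bR 0 zrs128 zB189) = true := by decide +kernel
theorem zr195 : chk (defRels zE190) = true := by decide +kernel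
theorem zc196 : CL.Std.O8p2.P.chainB ns D X5_vs [[116]] = true := by decide +kernel
theorem zf197 : CL.Std.O8p2.P.fixXB ns (diag [[116]]) c5_F = true := by decide +kernel
theorem zc198 : CL.Std.O8p2.P.chainB ns D c5G_vs [[0], [2]] = true := by decide +kernel
theorem zs199 : ssB CL.Std.O8p2.P.N ns D (mkS CL.Std.O8p2.P.n c5G_vs c5_x) [[0], [2]] = true := by decide +kernel
theorem zs201 : c5_G.chk zt200 c5_s none = true := by decide +kernel
theorem zr202 : chk (comR [[118], [120]] (mapL Prod.snd (diag [[116]]))) = true := by decide +kernel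
theorem zm203 : leB D [[118], [120]] [[0], [2]] = true := by decide +kernel
theorem zl206 : zK205.relB CL.Std.O8p2.P CL.Spor.Co1O.A5.T.P CL.Spor.Co1O.ns [[142], [144], [116]] [[0], [2], [4]] = true := by decide +kernel
theorem zl207 : allL (zK205.pl CL.Std.O8p2.P CL.Spor.Co1O.A5.T.P CL.Spor.Co1O.ns CL.Spor.Co1O.A5.T.ns 0) (zp [] [[142], [144], [116]] [[0], [2], [4]]) = true := by decide +kernel
theorem zm209 : leB D zts208 [[142], [144], [116]] = true := by decide +kernel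
theorem zr210 : chk (zp [] [[118], [120]] zts208) = true := by decide +kernel
theorem zm212 : leB D zts211 [[118], [120]] = true := by decide +kernel
theorem zr213 : chk (zp [] [[142], [144], [116]] zts211) = true := by decide +kernel
theorem zr214 : chk [([116], r5)] = true := by decide +kernel
theorem ze215 : extB CL.Std.O8p2.ns ns 13 ws CL.Std.O8p2.D = true := by decide +kernel
theorem zn216 : CL.Std.O8p2.P.netsB ns (mkDefs ws 13) = true := by decide +kernel

variable {G X : Type*} [Group G] [MulAction G X] {e : ℕ → X} {gs : List G}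

theorem len {k} (c : Ctx CL.Std.O8p2.P e gs CL.Std.O8p2.ns CL.Std.O8p2.D k) : gs.length = 13 := c.len ze215

theorem ctx0 {k} (c : Ctx CL.Std.O8p2.P e gs CL.Std.O8p2.ns CL.Std.O8p2.D k) : Ctx CL.Std.O8p2.P e (ext gs ws) ns D chk0 :=
  c.ext rfl ze215 zn216

theorem ctx {k} (c : Ctx CL.Std.O8p2.P e gs CL.Std.O8p2.ns CL.Std.O8p2.D k) {H : Subgroup G} (hF : Faithful e CL.Std.O8p2.P.n H) (hH : ∀ g ∈ gs, g ∈ H) :
    Ctx CL.Std.O8p2.P e (ext gs ws) ns D chk :=
  (ctx0 c).withB hF (mem_of_mem_ext hH _)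

/-- The letters. -/
noncomputable def gs2 := ext CL.Std.O8p2.gs1 ws

theorem c2 : Ctx CL.Std.O8p2.P (eF CL.Std.O8p2.P.n) gs2 ns D chk := ctx CL.Std.O8p2.c1 (faithful_eF _) fun _ _ => trivial

theorem e2 : subW gs2 [[0], [2]] = subW CL.Std.O8p2.gs1 [[0], [2]] := subW_ext (len CL.Std.O8p2.c1) ws (by decide)

theorem w2 {w : List ℕ} (h : boundB 13 [w] = true) : wordG gs2 w = wordG CL.Std.O8p2.gs1 w := wordG_ext (len CL.Std.O8p2.c1) ws h

theorem P3_c : CL.Std.O8p2.P.chainB ns D P3_vs [[26], [28], [30], [32], [34]] = true :=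
  zc0

theorem P3_o : prodL P3_vs 1 = 243 := by decide +kernel

theorem P3_lb (c : Ctx CL.Std.O8p2.P e gs ns D chk) :
    LB (subW gs [[26], [28], [30], [32], [34]]) 243 :=
  c.lb P3_c P3_o

theorem P3_pr (c : Ctx CL.Std.O8p2.P e gs ns D chk) :
    Rels gs (pcsR P3_ps []) :=
  (c.rels _ zr1)

theorem P3_pe (c : Ctx CL.Std.O8p2.P e gs ns D chk) :
    Rels gs (defRels []) :=
  (Rels.nil _)

theorem P3_pb : bnd (pcsB D P3_ps []) (leB (app D []) [[26], [28], [30], [32], [34]] (pcGens P3_ps [])) = true := zb2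

theorem P3_ub (c : Ctx CL.Std.O8p2.P e gs ns D chk) :
    UB (subW gs [[26], [28], [30], [32], [34]]) 243 :=
  c.pcs (UB.nil gs) (P3_pe c) (P3_pr c) P3_pb (by decide +kernel)

theorem P3_card (c : Ctx CL.Std.O8p2.P e gs ns D chk) :
    Nat.card (subW gs [[26], [28], [30], [32], [34]]) = 243 :=
  (P3_ub c).card_eq (P3_lb c)

theorem v30 (c : Ctx CL.Std.O8p2.P e gs ns D chk) :
    Cov 3 (subW gs [[26], [28], [30], [32], [34]]) (subW gs [[0], [2]]) gs v30_R (subW gs [[28], [30], [32], [34]]) :=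
  Cov.step' (q := 3) (g := [26]) c.defs (by norm_num) (Cov.init 3 (subW gs [[26], [28], [30], [32], [34]]) (subW gs [[0], [2]]) gs)
    (pc_lvl' c.defs (P3_pr c) P3_pb (P3_lb c) 0 (by decide +kernel))
    (c.le_normalizer (cj := zcj7) (((P3_ub c).mono (c.le zm10)).1) (c.rels _ zr9) zm8) (c.le zm6)
    (c.rels _ zr4) zb5 zq3

theorem v31 (c : Ctx CL.Std.O8p2.P e gs ns D chk) :
    Cov 3 (subW gs [[26], [28], [30], [32], [34]]) (subW gs [[0], [2]]) gs v31_R (subW gs [[30], [32], [34]]) :=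
  Cov.step' (q := 3) (g := [28]) c.defs (by norm_num) (v30 c)
    (pc_lvl' c.defs (P3_pr c) P3_pb (P3_lb c) 1 (by decide +kernel))
    (c.le_normalizer (cj := zcj15) (((P3_ub c).mono (c.le zm18)).1) (c.rels _ zr17) zm16) (c.le zm14)
    (c.rels _ zr12) zb13 zq11

theorem v32 (c : Ctx CL.Std.O8p2.P e gs ns D chk) :
    Cov 3 (subW gs [[26], [28], [30], [32], [34]]) (subW gs [[0], [2]]) gs v32_R (subW gs [[32], [34]]) :=
  Cov.step' (q := 3) (g := [30]) c.defs (by norm_num) (v31 c)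
    (pc_lvl' c.defs (P3_pr c) P3_pb (P3_lb c) 2 (by decide +kernel))
    (c.le_normalizer (cj := zcj23) (((P3_ub c).mono (c.le zm26)).1) (c.rels _ zr25) zm24) (c.le zm22)
    (c.rels _ zr20) zb21 zq19

theorem v33 (c : Ctx CL.Std.O8p2.P e gs ns D chk) :
    Cov 3 (subW gs [[26], [28], [30], [32], [34]]) (subW gs [[0], [2]]) gs v33_R (subW gs [[34]]) :=
  Cov.step' (q := 3) (g := [32]) c.defs (by norm_num) (v32 c)
    (pc_lvl' c.defs (P3_pr c) P3_pb (P3_lb c) 3 (by decide +kernel))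
    (c.le_normalizer (cj := zcj31) (((P3_ub c).mono (c.le zm34)).1) (c.rels _ zr33) zm32) (c.le zm30)
    (c.rels _ zr28) zb29 zq27

theorem v34 (c : Ctx CL.Std.O8p2.P e gs ns D chk) :
    Cov 3 (subW gs [[26], [28], [30], [32], [34]]) (subW gs [[0], [2]]) gs v34_R (subW gs []) :=
  Cov.step' (q := 3) (g := [34]) c.defs (by norm_num) (v33 c)
    (pc_lvl' c.defs (P3_pr c) P3_pb (P3_lb c) 4 (by decide +kernel))
    (le_normalizer_nil gs _) (c.le zm38)
    (c.rels _ zr36) zb37 zq35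

theorem v35 (c : Ctx CL.Std.O8p2.P e gs ns D chk) :
    Cov 3 (subW gs [[26], [28], [30], [32], [34]]) (subW gs [[0], [2]]) gs v35_R (subW gs []) :=
  Cov.fuse c.defs (v34 c) (le_normalizer_nil gs _) (c.le zm41)
    (c.rels _ zr39) zb40

theorem v3_cls (c : Ctx CL.Std.O8p2.P e gs ns D chk) :
    Cls 3 (subW gs [[26], [28], [30], [32], [34]]) (subW gs [[0], [2]]) gs [[], W (nat_lit 0x40100c020100100403008040040100c02010010040300804), W (nat_lit 0x4010040400404004010040400404), W (nat_lit 0x401004040040100404), W (nat_lit 0x40400404004040040400404004040040400404), [2]] :=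
  (v35 c).cls

theorem le3 (c : Ctx CL.Std.O8p2.P e gs ns D chk) :
    (subW gs [[26], [28], [30], [32], [34]]) ≤ (subW gs [[0], [2]]) :=
  (c.le zm42)

theorem C3_u3 (c : Ctx CL.Std.O8p2.P e gs ns D chk) :
    UB (subW gs [[60]]) 3 :=
  (c.pc_step (UB.nil gs) (Rels.nil _)
    (c.rels _ zr46) zb45).le (by decide)

theorem C3_u2 (c : Ctx CL.Std.O8p2.P e gs ns D chk) :
    UB (subW gs [[56], [58]]) 24 :=
  (c.sch_step (C3_u3 c)
    (c.rels _ zr50) zb49).le (by decide)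

theorem C3_u1 (c : Ctx CL.Std.O8p2.P e gs ns D chk) :
    UB (subW gs [[52], [54]]) 648 :=
  (c.sch_step (C3_u2 c)
    (c.rels _ zr54) zb53).le (by decide)

theorem C3_w0_1_c : CL.Std.O8p2.P.chainB ns D C3_w0_1_vs [[52], [54]] = true :=
  zc56

theorem C3_w0_1_o : prodL C3_w0_1_vs 1 = 648 := by decide +kernel

theorem C3_c : CL.Std.O8p2.P.chainB ns D C3_vs [[48], [50]] = true :=
  zc60

theorem C3_o : prodL C3_vs 1 = 77760 := by decide +kernel

theorem C3_w0_3_c : CL.Std.O8p2.P.chainB ns D C3_w0_3_vs [[52], [54]] = true :=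
  zc64

theorem C3_w0_3_o : prodL C3_w0_3_vs 1 = 648 := by decide +kernel

theorem C3_w0_4_c : CL.Std.O8p2.P.chainB ns D C3_w0_4_vs [[52], [54]] = true :=
  zc68

theorem C3_w0_4_o : prodL C3_w0_4_vs 1 = 648 := by decide +kernel

theorem C3_w0_5_c : CL.Std.O8p2.P.chainB ns D C3_w0_5_vs [[52], [54]] = true :=
  zc72

theorem C3_w0_5_o : prodL C3_w0_5_vs 1 = 648 := by decide +kernel

theorem C3_w0_6_c : CL.Std.O8p2.P.chainB ns D C3_w0_6_vs [[52], [54]] = true :=
  zc76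

theorem C3_w0_6_o : prodL C3_w0_6_vs 1 = 648 := by decide +kernel

theorem C3_u0w (c : Ctx CL.Std.O8p2.P e gs ns D chk) :
    AllWd e gs [[52], [54]] zrs55 :=
  ⟨c.wd (v := C3_w0_1_v0) (vs := C3_w0_1_vs1) (C3_u1 c) C3_w0_1_c C3_w0_1_o
      (c.rels _ zr59) zb58,
    ⟨c.wd (v := C3_v1) (vs := C3_vs2) (C3_u1 c) (Par.chainB_tail C3_c) (by decide +kernel)
      (c.rels _ zr63) zb62,
    ⟨c.wd (v := C3_w0_3_v0) (vs := C3_w0_3_vs1) (C3_u1 c) C3_w0_3_c C3_w0_3_o
      (c.rels _ zr67) zb66,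
    ⟨c.wd (v := C3_w0_4_v0) (vs := C3_w0_4_vs1) (C3_u1 c) C3_w0_4_c C3_w0_4_o
      (c.rels _ zr71) zb70,
    ⟨c.wd (v := C3_w0_5_v0) (vs := C3_w0_5_vs1) (C3_u1 c) C3_w0_5_c C3_w0_5_o
      (c.rels _ zr75) zb74,
    ⟨c.wd (v := C3_w0_6_v0) (vs := C3_w0_6_vs1) (C3_u1 c) C3_w0_6_c C3_w0_6_o
      (c.rels _ zr79) zb78,
    trivial⟩⟩⟩⟩⟩⟩

theorem C3_u0 (c : Ctx CL.Std.O8p2.P e gs ns D chk) :
    UB (subW gs [[48], [50]]) 77760 :=
  (c.b_step (C3_u1 c) (C3_u0w c) (c.rels _ zr85)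
    (c.rels _ zr84) zb82 zb83).le (by decide)

theorem C3_ub (c : Ctx CL.Std.O8p2.P e gs ns D chk) :
    UB (subW gs [[48], [50]]) 77760 :=
  (C3_u0 c)

theorem X3_c : CL.Std.O8p2.P.chainB ns D X3_vs [[46]] = true :=
  zc86

theorem X3_o : prodL X3_vs 1 = 3 := by decide +kernel

theorem X3_lb (c : Ctx CL.Std.O8p2.P e gs ns D chk) :
    LB (subW gs [[46]]) 3 :=
  c.lb X3_c X3_o

theorem c3G_c : CL.Std.O8p2.P.chainB ns D c3G_vs [[0], [2]] = true :=
  zc88

theorem c3G_o : prodL c3G_vs 1 = 174182400 := by decide +kernel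

theorem c3 (c : Ctx CL.Std.O8p2.P e gs ns D chk) (hU : UB (subW gs [[0], [2]]) 174182400) :
    (subW gs [[0], [2]]) ⊓ Subgroup.centralizer (subW gs [[46]] : Set G) = (subW gs [[48], [50]]) :=
  c.cent (lx := [[46]]) (Rels.nil _) (c.sOk (c.exact c3G_c c3G_o hU) zs89) (fun _ h => by cases h)
    (c.fixX zf87) (c.rels _ zr92) zm93 zs91

theorem q3_r_T {Γ Y : Type*} [Group Γ] [MulAction Γ Y] {e' : ℕ → Y} {cs : List Γ} {D₁ D₂ : List (ℕ × List ℕ)}
    {k₁ k₂ : List (List ℕ × List ℕ) → Bool} (c : Ctx CL.Std.O8p2.P e gs CL.Spor.Co1O.ns D₁ k₁) (c' : Ctx CL.Spor.Co1O.A3.T.P e' cs CL.Spor.Co1O.A3.T.ns D₂ k₂)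
    (hF : Faithful e' CL.Spor.Co1O.A3.T.P.n (subW cs [[0], [2], [4]])) :
    RelLe gs [[96], [98], [46]] cs [[0], [2], [4]] :=
  c.relLe (K := zK95) c' hF zl96 (fun (t : ℕ) (ht : t < 1) => match t, ht with
    | 0, _ => zl97
    | t + 1, h => absurd h (by omega))

theorem q3_r {Γ Y : Type*} [Group Γ] [MulAction Γ Y] {e' : ℕ → Y} {cs : List Γ} {D₁ D₂ : List (ℕ × List ℕ)}
    {k₁ k₂ : List (List ℕ × List ℕ) → Bool} (c : Ctx CL.Std.O8p2.P e gs CL.Spor.Co1O.ns D₁ k₁) (c' : Ctx CL.Std.W6m2.P e' cs CL.Std.W6m2.ns D₂ k₂)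
    (hF : Faithful e' CL.Std.W6m2.P.n (subW cs [[0], [2]])) :
    RelLe gs [[96], [98], [46]] cs [[0], [2]] :=
  (q3_r_T c CL.Spor.Co1O.A3.T.c1 ((faithful_eF _).mono le_top)).trans (CL.Spor.Co1O.A3.S.rel c' hF)

theorem q3_e (c : Ctx CL.Std.O8p2.P e gs ns D chk) :
    subW gs (app [[96], [98]] [[46]]) = (subW gs [[48], [50]]) :=
  le_antisymm (c.le_of_rels (ws := [[96], [98], [46]]) (l := [[48], [50]]) (c.rels _ zr103) zm102) (c.le_of_rels (ws := [[48], [50]]) (l := [[96], [98], [46]]) (c.rels _ zr100) zm99)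

theorem q3 (c : Ctx CL.Std.O8p2.P e gs ns D chk) :
    Quo (subW gs [[48], [50]]) (subW gs [[46]]) (subW CL.Std.W6m2.gs1 [[0], [2]]) :=
  RelLe.quo' (l := [[96], [98]]) (lQ := [[46]]) (q3_r c CL.Std.W6m2.c1 ((faithful_eF _).mono le_top)) (by decide) (q3_e c) (a := 3) (b := 25920) (C3_ub c)
    (X3_lb c) (LB.of_card CL.Std.W6m2.card)

theorem e3 (c : Ctx CL.Std.O8p2.P e gs ns D chk) :
    wordG gs [46] = wordG gs r3 :=
  c.eq zr104

theorem cls3 : Cls 3 (subW CL.Std.O8p2.gs1 [[0], [2]]) (subW CL.Std.O8p2.gs1 [[0], [2]]) gs2 ([] :: r3 :: R3) := by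
  have := CL.Std.O8p2.ub.1
  rw [← e2] at this ⊢
  exact Cls.up (k := 5) (by norm_num) (e2 ▸ CL.Std.O8p2.card) (fact_eq (m := 716800) (by norm_num) (by norm_num) (by norm_num))
    (P3_card c2) (le3 c2) (v3_cls c2)

theorem quo3 : Quo ((subW CL.Std.O8p2.gs1 [[0], [2]]) ⊓ Subgroup.centralizer {wordG gs2 r3}) (Subgroup.zpowers (wordG gs2 r3)) (subW CL.Std.W6m2.gs1 [[0], [2]]) := by
  have h := c3 c2 (e2 ▸ CL.Std.O8p2.ub)
  rw [subW_single, CL.Even.cent_zpowers, e2] at h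
  rw [← e3 c2, h, ← subW_single]
  exact q3 c2

theorem P5_c : CL.Std.O8p2.P.chainB ns D P5_vs [[110], [112]] = true :=
  zc105

theorem P5_o : prodL P5_vs 1 = 25 := by decide +kernel

theorem P5_lb (c : Ctx CL.Std.O8p2.P e gs ns D chk) :
    LB (subW gs [[110], [112]]) 25 :=
  c.lb P5_c P5_o

theorem P5_pr (c : Ctx CL.Std.O8p2.P e gs ns D chk) :
    Rels gs (pcsR P5_ps []) :=
  (c.rels _ zr106)

theorem P5_pe (c : Ctx CL.Std.O8p2.P e gs ns D chk) :
    Rels gs (defRels []) :=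
  (Rels.nil _)

theorem P5_pb : bnd (pcsB D P5_ps []) (leB (app D []) [[110], [112]] (pcGens P5_ps [])) = true := zb107

theorem P5_ub (c : Ctx CL.Std.O8p2.P e gs ns D chk) :
    UB (subW gs [[110], [112]]) 25 :=
  c.pcs (UB.nil gs) (P5_pe c) (P5_pr c) P5_pb (by decide +kernel)

theorem P5_card (c : Ctx CL.Std.O8p2.P e gs ns D chk) :
    Nat.card (subW gs [[110], [112]]) = 25 :=
  (P5_ub c).card_eq (P5_lb c)

theorem v50 (c : Ctx CL.Std.O8p2.P e gs ns D chk) :
    Cov 5 (subW gs [[110], [112]]) (subW gs [[0], [2]]) gs v50_R (subW gs [[112]]) :=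
  Cov.step' (q := 5) (g := [110]) c.defs (by norm_num) (Cov.init 5 (subW gs [[110], [112]]) (subW gs [[0], [2]]) gs)
    (pc_lvl' c.defs (P5_pr c) P5_pb (P5_lb c) 0 (by decide +kernel))
    (c.le_normalizer (cj := zcj112) (((P5_ub c).mono (c.le zm115)).1) (c.rels _ zr114) zm113) (c.le zm111)
    (c.rels _ zr109) zb110 zq108

theorem v51 (c : Ctx CL.Std.O8p2.P e gs ns D chk) :
    Cov 5 (subW gs [[110], [112]]) (subW gs [[0], [2]]) gs v51_R (subW gs []) :=
  Cov.step' (q := 5) (g := [112]) c.defs (by norm_num) (v50 c)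
    (pc_lvl' c.defs (P5_pr c) P5_pb (P5_lb c) 1 (by decide +kernel))
    (le_normalizer_nil gs _) (c.le zm119)
    (c.rels _ zr117) zb118 zq116

theorem v52 (c : Ctx CL.Std.O8p2.P e gs ns D chk) :
    Cov 5 (subW gs [[110], [112]]) (subW gs [[0], [2]]) gs v52_R (subW gs []) :=
  Cov.fuse c.defs (v51 c) (le_normalizer_nil gs _) (c.le zm122)
    (c.rels _ zr120) zb121

theorem v5_cls (c : Ctx CL.Std.O8p2.P e gs ns D chk) :
    Cls 5 (subW gs [[110], [112]]) (subW gs [[0], [2]]) gs [[], W (nat_lit 0x4010040300803004010040300803004010040300803004010040300803), W (nat_lit 0x4030040400403004040040300404), W (nat_lit 0x40300804)] :=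
  (v52 c).cls

theorem le5 (c : Ctx CL.Std.O8p2.P e gs ns D chk) :
    (subW gs [[110], [112]]) ≤ (subW gs [[0], [2]]) :=
  (c.le zm123)

theorem C5_u1 (c : Ctx CL.Std.O8p2.P e gs ns D chk) :
    UB (subW gs [[122]]) 5 :=
  (c.pc_step (UB.nil gs) (Rels.nil _)
    (c.rels _ zr127) zb126).le (by decide)

theorem C5_w0_1_c : CL.Std.O8p2.P.chainB ns D C5_w0_1_vs [[122]] = true :=
  zc129

theorem C5_w0_1_o : prodL C5_w0_1_vs 1 = 5 := by decide +kernel

theorem C5_w0_2_c : CL.Std.O8p2.P.chainB ns D C5_w0_2_vs [[122]] = true :=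
  zc133

theorem C5_w0_2_o : prodL C5_w0_2_vs 1 = 5 := by decide +kernel

theorem C5_w0_3_c : CL.Std.O8p2.P.chainB ns D C5_w0_3_vs [[122]] = true :=
  zc137

theorem C5_w0_3_o : prodL C5_w0_3_vs 1 = 5 := by decide +kernel

theorem C5_w0_4_c : CL.Std.O8p2.P.chainB ns D C5_w0_4_vs [[122]] = true :=
  zc141

theorem C5_w0_4_o : prodL C5_w0_4_vs 1 = 5 := by decide +kernel

theorem C5_w0_5_c : CL.Std.O8p2.P.chainB ns D C5_w0_5_vs [[122]] = true :=
  zc145

theorem C5_w0_5_o : prodL C5_w0_5_vs 1 = 5 := by decide +kernel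

theorem C5_w0_6_c : CL.Std.O8p2.P.chainB ns D C5_w0_6_vs [[122]] = true :=
  zc149

theorem C5_w0_6_o : prodL C5_w0_6_vs 1 = 5 := by decide +kernel

theorem C5_w0_7_c : CL.Std.O8p2.P.chainB ns D C5_w0_7_vs [[122]] = true :=
  zc153

theorem C5_w0_7_o : prodL C5_w0_7_vs 1 = 5 := by decide +kernel

theorem C5_w0_8_c : CL.Std.O8p2.P.chainB ns D C5_w0_8_vs [[122]] = true :=
  zc157

theorem C5_w0_8_o : prodL C5_w0_8_vs 1 = 5 := by decide +kernel

theorem C5_w0_9_c : CL.Std.O8p2.P.chainB ns D C5_w0_9_vs [[122]] = true :=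
  zc161

theorem C5_w0_9_o : prodL C5_w0_9_vs 1 = 5 := by decide +kernel

theorem C5_w0_10_c : CL.Std.O8p2.P.chainB ns D C5_w0_10_vs [[122]] = true :=
  zc165

theorem C5_w0_10_o : prodL C5_w0_10_vs 1 = 5 := by decide +kernel

theorem C5_w0_11_c : CL.Std.O8p2.P.chainB ns D C5_w0_11_vs [[122]] = true :=
  zc169

theorem C5_w0_11_o : prodL C5_w0_11_vs 1 = 5 := by decide +kernel

theorem C5_w0_12_c : CL.Std.O8p2.P.chainB ns D C5_w0_12_vs [[122]] = true :=
  zc173

theorem C5_w0_12_o : prodL C5_w0_12_vs 1 = 5 := by decide +kernel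

theorem C5_w0_13_c : CL.Std.O8p2.P.chainB ns D C5_w0_13_vs [[122]] = true :=
  zc177

theorem C5_w0_13_o : prodL C5_w0_13_vs 1 = 5 := by decide +kernel

theorem C5_w0_14_c : CL.Std.O8p2.P.chainB ns D C5_w0_14_vs [[122]] = true :=
  zc181

theorem C5_w0_14_o : prodL C5_w0_14_vs 1 = 5 := by decide +kernel

theorem C5_w0_15_c : CL.Std.O8p2.P.chainB ns D C5_w0_15_vs [[122]] = true :=
  zc185

theorem C5_w0_15_o : prodL C5_w0_15_vs 1 = 5 := by decide +kernel

theorem C5_u0w (c : Ctx CL.Std.O8p2.P e gs ns D chk) :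
    AllWd e gs [[122]] zrs128 :=
  ⟨c.wd (v := C5_w0_1_v0) (vs := C5_w0_1_vs1) (C5_u1 c) C5_w0_1_c C5_w0_1_o
      (c.rels _ zr132) zb131,
    ⟨c.wd (v := C5_w0_2_v0) (vs := C5_w0_2_vs1) (C5_u1 c) C5_w0_2_c C5_w0_2_o
      (c.rels _ zr136) zb135,
    ⟨c.wd (v := C5_w0_3_v0) (vs := C5_w0_3_vs1) (C5_u1 c) C5_w0_3_c C5_w0_3_o
      (c.rels _ zr140) zb139,
    ⟨c.wd (v := C5_w0_4_v0) (vs := C5_w0_4_vs1) (C5_u1 c) C5_w0_4_c C5_w0_4_o
      (c.rels _ zr144) zb143,
    ⟨c.wd (v := C5_w0_5_v0) (vs := C5_w0_5_vs1) (C5_u1 c) C5_w0_5_c C5_w0_5_o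
      (c.rels _ zr148) zb147,
    ⟨c.wd (v := C5_w0_6_v0) (vs := C5_w0_6_vs1) (C5_u1 c) C5_w0_6_c C5_w0_6_o
      (c.rels _ zr152) zb151,
    ⟨c.wd (v := C5_w0_7_v0) (vs := C5_w0_7_vs1) (C5_u1 c) C5_w0_7_c C5_w0_7_o
      (c.rels _ zr156) zb155,
    ⟨c.wd (v := C5_w0_8_v0) (vs := C5_w0_8_vs1) (C5_u1 c) C5_w0_8_c C5_w0_8_o
      (c.rels _ zr160) zb159,
    ⟨c.wd (v := C5_w0_9_v0) (vs := C5_w0_9_vs1) (C5_u1 c) C5_w0_9_c C5_w0_9_o
      (c.rels _ zr164) zb163,
    ⟨c.wd (v := C5_w0_10_v0) (vs := C5_w0_10_vs1) (C5_u1 c) C5_w0_10_c C5_w0_10_o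
      (c.rels _ zr168) zb167,
    ⟨c.wd (v := C5_w0_11_v0) (vs := C5_w0_11_vs1) (C5_u1 c) C5_w0_11_c C5_w0_11_o
      (c.rels _ zr172) zb171,
    ⟨c.wd (v := C5_w0_12_v0) (vs := C5_w0_12_vs1) (C5_u1 c) C5_w0_12_c C5_w0_12_o
      (c.rels _ zr176) zb175,
    ⟨c.wd (v := C5_w0_13_v0) (vs := C5_w0_13_vs1) (C5_u1 c) C5_w0_13_c C5_w0_13_o
      (c.rels _ zr180) zb179,
    ⟨c.wd (v := C5_w0_14_v0) (vs := C5_w0_14_vs1) (C5_u1 c) C5_w0_14_c C5_w0_14_o
      (c.rels _ zr184) zb183,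
    ⟨c.wd (v := C5_w0_15_v0) (vs := C5_w0_15_vs1) (C5_u1 c) C5_w0_15_c C5_w0_15_o
      (c.rels _ zr188) zb187,
    trivial⟩⟩⟩⟩⟩⟩⟩⟩⟩⟩⟩⟩⟩⟩⟩

theorem C5_c : CL.Std.O8p2.P.chainB ns D C5_vs [[118], [120]] = true :=
  zc192

theorem C5_o : prodL C5_vs 1 = 300 := by decide +kernel

theorem C5_u0 (c : Ctx CL.Std.O8p2.P e gs ns D chk) :
    UB (subW gs [[118], [120]]) 300 :=
  (c.b_step (C5_u1 c) (C5_u0w c) (c.rels _ zr195)
    (c.rels _ zr194) zb191 zb193).le (by decide)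

theorem C5_ub (c : Ctx CL.Std.O8p2.P e gs ns D chk) :
    UB (subW gs [[118], [120]]) 300 :=
  (C5_u0 c)

theorem X5_c : CL.Std.O8p2.P.chainB ns D X5_vs [[116]] = true :=
  zc196

theorem X5_o : prodL X5_vs 1 = 5 := by decide +kernel

theorem X5_lb (c : Ctx CL.Std.O8p2.P e gs ns D chk) :
    LB (subW gs [[116]]) 5 :=
  c.lb X5_c X5_o

theorem c5G_c : CL.Std.O8p2.P.chainB ns D c5G_vs [[0], [2]] = true :=
  zc198

theorem c5G_o : prodL c5G_vs 1 = 174182400 := by decide +kernel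

theorem c5 (c : Ctx CL.Std.O8p2.P e gs ns D chk) (hU : UB (subW gs [[0], [2]]) 174182400) :
    (subW gs [[0], [2]]) ⊓ Subgroup.centralizer (subW gs [[116]] : Set G) = (subW gs [[118], [120]]) :=
  c.cent (lx := [[116]]) (Rels.nil _) (c.sOk (c.exact c5G_c c5G_o hU) zs199) (fun _ h => by cases h)
    (c.fixX zf197) (c.rels _ zr202) zm203 zs201

theorem q5_r_T {Γ Y : Type*} [Group Γ] [MulAction Γ Y] {e' : ℕ → Y} {cs : List Γ} {D₁ D₂ : List (ℕ × List ℕ)}
    {k₁ k₂ : List (List ℕ × List ℕ) → Bool} (c : Ctx CL.Std.O8p2.P e gs CL.Spor.Co1O.ns D₁ k₁) (c' : Ctx CL.Spor.Co1O.A5.T.P e' cs CL.Spor.Co1O.A5.T.ns D₂ k₂)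
    (hF : Faithful e' CL.Spor.Co1O.A5.T.P.n (subW cs [[0], [2], [4]])) :
    RelLe gs [[142], [144], [116]] cs [[0], [2], [4]] :=
  c.relLe (K := zK205) c' hF zl206 (fun (t : ℕ) (ht : t < 1) => match t, ht with
    | 0, _ => zl207
    | t + 1, h => absurd h (by omega))

theorem q5_r {Γ Y : Type*} [Group Γ] [MulAction Γ Y] {e' : ℕ → Y} {cs : List Γ} {D₁ D₂ : List (ℕ × List ℕ)}
    {k₁ k₂ : List (List ℕ × List ℕ) → Bool} (c : Ctx CL.Std.O8p2.P e gs CL.Spor.Co1O.ns D₁ k₁) (c' : Ctx CL.Std.W4m2.P e' cs CL.Std.W4m2.ns D₂ k₂)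
    (hF : Faithful e' CL.Std.W4m2.P.n (subW cs [[0], [2]])) :
    RelLe gs [[142], [144], [116]] cs [[0], [2]] :=
  (q5_r_T c CL.Spor.Co1O.A5.T.c1 ((faithful_eF _).mono le_top)).trans (CL.Spor.Co1O.A5.S.rel c' hF)

theorem q5_e (c : Ctx CL.Std.O8p2.P e gs ns D chk) :
    subW gs (app [[142], [144]] [[116]]) = (subW gs [[118], [120]]) :=
  le_antisymm (c.le_of_rels (ws := [[142], [144], [116]]) (l := [[118], [120]]) (c.rels _ zr213) zm212) (c.le_of_rels (ws := [[118], [120]]) (l := [[142], [144], [116]]) (c.rels _ zr210) zm209)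

theorem q5 (c : Ctx CL.Std.O8p2.P e gs ns D chk) :
    Quo (subW gs [[118], [120]]) (subW gs [[116]]) (subW CL.Std.W4m2.gs1 [[0], [2]]) :=
  RelLe.quo' (l := [[142], [144]]) (lQ := [[116]]) (q5_r c CL.Std.W4m2.c1 ((faithful_eF _).mono le_top)) (by decide) (q5_e c) (a := 5) (b := 60) (C5_ub c)
    (X5_lb c) (LB.of_card CL.Std.W4m2.card)

theorem e5 (c : Ctx CL.Std.O8p2.P e gs ns D chk) :
    wordG gs [116] = wordG gs r5 :=
  c.eq zr214

theorem cls5 : Cls 5 (subW CL.Std.O8p2.gs1 [[0], [2]]) (subW CL.Std.O8p2.gs1 [[0], [2]]) gs2 ([] :: r5 :: R5) := by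
  have := CL.Std.O8p2.ub.1
  rw [← e2] at this ⊢
  exact Cls.up (k := 2) (by norm_num) (e2 ▸ CL.Std.O8p2.card) (fact_eq (m := 6967296) (by norm_num) (by norm_num) (by norm_num))
    (P5_card c2) (le5 c2) (v5_cls c2)

theorem quo5 : Quo ((subW CL.Std.O8p2.gs1 [[0], [2]]) ⊓ Subgroup.centralizer {wordG gs2 r5}) (Subgroup.zpowers (wordG gs2 r5)) (subW CL.Std.W4m2.gs1 [[0], [2]]) := by
  have h := c5 c2 (e2 ▸ CL.Std.O8p2.ub)
  rw [subW_single, CL.Even.cent_zpowers, e2] at h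
  rw [← e5 c2, h, ← subW_single]
  exact q5 c2


end CL.Spor.Co1O
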