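/-
Auxiliary models for `Co1S`.
Generated by tools/pg.
-/
import Cfsg.Agent.Spor.PGCtx
import Cfsg.Agent.Spor.PGSub
import Cfsg.Agent.Spor.StdSym

set_option autoImplicit false
set_option maxRecDepth 200000
set_option Elab.async false
set_option linter.unusedVariables false

namespace CL.Spor.CoS.Z
open CL.PG

def P : Par := ⟨7, 8, 3, 2⟩
theorem hP : P.Ok := by decide
noncomputable def a0 : Net := (.cons 4 (nat_lit 0x1)
 (.cons 2 (nat_lit 0x11)
 (.cons 1 (nat_lit 0x15)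
 .nil)))
noncomputable def ns0 : List Net := [a0]
noncomputable def ws : List (List ℕ) :=
  []
noncomputable def ns : List Net := [a0]
noncomputable def D : List (ℕ × List ℕ) := app [] (mkDefs ws 1)
noncomputable def chk : List (List ℕ × List ℕ) → Bool := P.relsB ns
noncomputable def G_ps : List PcG :=
  [⟨[0], 7, [], []⟩]
noncomputable def G_v0 : Lev :=
  ⟨0, 7, sg (W (nat_lit 0x4010040100401)), [], 0, 0⟩
noncomputable def G_vs1 : List Lev :=
  []
noncomputable def G_vs : List Lev :=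
  G_v0 :: G_vs1

theorem zr0 : chk (pcsR G_ps []) = true := by decide +kernel
theorem zb1 : bnd (pcsB D G_ps []) (leB (app D []) [[0]] (pcGens G_ps [])) = true := by decide +kernel
theorem zc2 : P.chainB ns D G_vs [[0]] = true := by decide +kernel
theorem zk3 : allL (keepB P.n P.N) ns0 = true := by decide +kernel
theorem ze4 : extB ns0 ns 1 ws [] = true := by decide +kernel
theorem zn5 : P.netsB ns (mkDefs ws 1) = true := by decide +kernel

section
variable {G X : Type*} [Group G] [MulAction G X] {e : ℕ → X} {gs : List G}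

theorem keep0 : allL (keepB P.n P.N) ns0 = true := zk3

theorem len {k} (c : Ctx P e gs ns0 [] k) : gs.length = 1 := c.len ze4

theorem ctx0 {k} (c : Ctx P e gs ns0 [] k) : Ctx P e (ext gs ws) ns D chk0 :=
  c.ext rfl ze4 zn5

theorem ctx {k} (c : Ctx P e gs ns0 [] k) {H : Subgroup G} (hF : Faithful e P.n H) (hH : ∀ g ∈ gs, g ∈ H) :
    Ctx P e (ext gs ws) ns D chk :=
  (ctx0 c).withB hF (mem_of_mem_ext hH _)

instance instNe : NeZero P.n := ⟨by decide⟩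
noncomputable def gs0 : List (Equiv.Perm (Fin P.n)) := permsOf P.n P.N ns0
noncomputable def gs1 : List (Equiv.Perm (Fin P.n)) := ext gs0 ws
theorem c1 : Ctx P (eF P.n) gs1 ns D chk :=
  ctx (ctx_permsOf hP keep0) (faithful_eF _) fun _ _ => trivial

theorem G_pr (c : Ctx P e gs ns D chk) :
    Rels gs (pcsR G_ps []) :=
  (c.rels _ zr0)

theorem G_pe (c : Ctx P e gs ns D chk) :
    Rels gs (defRels []) :=
  (Rels.nil _)

theorem G_pb : bnd (pcsB D G_ps []) (leB (app D []) [[0]] (pcGens G_ps [])) = true := zb1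

theorem G_ub (c : Ctx P e gs ns D chk) :
    UB (subW gs [[0]]) 7 :=
  c.pcs (UB.nil gs) (G_pe c) (G_pr c) G_pb (by decide +kernel)

theorem G_c : P.chainB ns D G_vs [[0]] = true :=
  zc2

theorem G_o : prodL G_vs 1 = 7 := by decide +kernel

theorem G_lb (c : Ctx P e gs ns D chk) :
    LB (subW gs [[0]]) 7 :=
  c.lb G_c G_o

theorem G_card (c : Ctx P e gs ns D chk) :
    Nat.card (subW gs [[0]]) = 7 :=
  (G_ub c).card_eq (G_lb c)

end
end CL.Spor.CoS.Z

namespace CL.Spor.CoS.B.T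
open CL.PG

def P : Par := ⟨15, 16, 4, 2⟩
theorem hP : P.Ok := by decide
noncomputable def a0 : Net := (.cons 8 (nat_lit 0x2d)
 (.cons 4 (nat_lit 0x209)
 (.cons 2 (nat_lit 0x3330)
 (.cons 1 (nat_lit 0x4145)
 (.cons 2 (nat_lit 0x2020)
 (.cons 8 (nat_lit 0x4e)
 .nil))))))
noncomputable def a1 : Net := (.cons 8 (nat_lit 0xc0)
 (.cons 4 (nat_lit 0x60b)
 (.cons 2 (nat_lit 0x2101)
 (.cons 1 (nat_lit 0x1110)
 (.cons 2 (nat_lit 0x2220)
 (.cons 4 (nat_lit 0xa)
 (.cons 8 (nat_lit 0xf0)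
 .nil)))))))
noncomputable def a2 : Net := .nil
noncomputable def a3 : Net := (.cons 8 (nat_lit 0x14)
 (.cons 4 (nat_lit 0x308)
 (.cons 2 (nat_lit 0x2010)
 (.cons 1 (nat_lit 0x4114)
 (.cons 2 (nat_lit 0x2220)
 (.cons 4 (nat_lit 0x406)
 (.cons 8 (nat_lit 0x40)
 .nil)))))))
noncomputable def a4 : Net := (.cons 8 (nat_lit 0x4e)
 (.cons 4 (nat_lit 0x908)
 (.cons 2 (nat_lit 0x2312)
 (.cons 1 (nat_lit 0x404)
 (.cons 2 (nat_lit 0x200)
 (.cons 4 (nat_lit 0x80c)
 (.cons 8 (nat_lit 0x50)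
 .nil)))))))
noncomputable def a5 : Net := (.cons 8 (nat_lit 0xb2)
 (.cons 4 (nat_lit 0x404)
 (.cons 2 (nat_lit 0x1200)
 (.cons 1 (nat_lit 0x114)
 (.cons 2 (nat_lit 0x202)
 (.cons 4 (nat_lit 0x804)
 (.cons 8 (nat_lit 0x92)
 .nil)))))))
noncomputable def a6 : Net := (.cons 8 (nat_lit 0x48)
 (.cons 4 (nat_lit 0xc02)
 (.cons 2 (nat_lit 0x3022)
 (.cons 1 (nat_lit 0x5110)
 (.cons 2 (nat_lit 0x20)
 (.cons 4 (nat_lit 0xc02)
 (.cons 8 (nat_lit 0x8)
 .nil)))))))
noncomputable def ns0 : List Net := [a0, a1, a2]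
noncomputable def ws : List (List ℕ) :=
  [W (nat_lit 0x804),
  W (nat_lit 0x40600c03),
  W (nat_lit 0x802807),
  W (nat_lit 0x701c09)]
noncomputable def ns : List Net := [a0, a1, a2, a3, a4, a5, a6]
noncomputable def D : List (ℕ × List ℕ) := app [] (mkDefs ws 3)
noncomputable def chk : List (List ℕ × List ℕ) → Bool := P.relsB ns
noncomputable def G_v0 : Lev :=
  ⟨0, 15, sg (W (nat_lit 0x40300c010040300401)), [[6], [8]], 0, 2⟩
noncomputable def G_v1 : Lev :=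
  ⟨1, 14, sg (W (nat_lit 0x1c0901c0901c07)), [[10], [12]], 2, 2⟩
noncomputable def G_v2 : Lev :=
  ⟨3, 12, sg (W (nat_lit 0xb0340b0340b)), [], 4, 0⟩
noncomputable def G_vs3 : List Lev :=
  []
noncomputable def G_vs2 : List Lev :=
  G_v2 :: G_vs3
noncomputable def G_vs1 : List Lev :=
  G_v1 :: G_vs2
noncomputable def G_vs : List Lev :=
  G_v0 :: G_vs1

theorem zc0 : P.chainB ns D G_vs [[0], [2], [4]] = true := by decide +kernel
theorem zk1 : allL (keepB P.n P.N) ns0 = true := by decide +kernel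
theorem ze2 : extB ns0 ns 3 ws [] = true := by decide +kernel
theorem zn3 : P.netsB ns (mkDefs ws 3) = true := by decide +kernel

section
variable {G X : Type*} [Group G] [MulAction G X] {e : ℕ → X} {gs : List G}

theorem keep0 : allL (keepB P.n P.N) ns0 = true := zk1

theorem len {k} (c : Ctx P e gs ns0 [] k) : gs.length = 3 := c.len ze2

theorem ctx0 {k} (c : Ctx P e gs ns0 [] k) : Ctx P e (ext gs ws) ns D chk0 :=
  c.ext rfl ze2 zn3

theorem ctx {k} (c : Ctx P e gs ns0 [] k) {H : Subgroup G} (hF : Faithful e P.n H) (hH : ∀ g ∈ gs, g ∈ H) :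
    Ctx P e (ext gs ws) ns D chk :=
  (ctx0 c).withB hF (mem_of_mem_ext hH _)

instance instNe : NeZero P.n := ⟨by decide⟩
noncomputable def gs0 : List (Equiv.Perm (Fin P.n)) := permsOf P.n P.N ns0
noncomputable def gs1 : List (Equiv.Perm (Fin P.n)) := ext gs0 ws
theorem c1 : Ctx P (eF P.n) gs1 ns D chk :=
  ctx (ctx_permsOf hP keep0) (faithful_eF _) fun _ _ => trivial

theorem G_c : P.chainB ns D G_vs [[0], [2], [4]] = true :=
  zc0

theorem G_o : prodL G_vs 1 = 2520 := by decide +kernel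

theorem G_lb (c : Ctx P e gs ns D chk) :
    LB (subW gs [[0], [2], [4]]) 2520 :=
  c.lb G_c G_o

end
end CL.Spor.CoS.B.T

namespace CL.Spor.CoS.B.S
open CL.PG

def P : Par := ⟨22, 24, 5, 3⟩
theorem hP : P.Ok := by decide
noncomputable def a0 : Net := (.cons 6 (nat_lit 0x11)
 (.cons 3 (nat_lit 0x41)
 (.cons 1 (nat_lit 0x8201)
 (.cons 1 (nat_lit 0x12412)
 (.cons 1 (nat_lit 0x1008)
 (.cons 3 (nat_lit 0x180)
 (.cons 6 (nat_lit 0x24)
 .nil)))))))
noncomputable def a1 : Net := (.cons 12 (nat_lit 0x5a2)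
 (.cons 6 (nat_lit 0xd031)
 (.cons 3 (nat_lit 0x85041)
 (.cons 1 (nat_lit 0x9048)
 (.cons 1 (nat_lit 0x12492)
 (.cons 1 (nat_lit 0x40009)
 (.cons 3 (nat_lit 0x100)
 (.cons 6 (nat_lit 0x1403c)
 (.cons 12 (nat_lit 0x4d0)
 .nil)))))))))
noncomputable def a2 : Net := .nil
noncomputable def a3 : Net := (.cons 12 (nat_lit 0xa5e)
 (.cons 6 (nat_lit 0x1c01c)
 (.cons 3 (nat_lit 0x1851c2)
 (.cons 1 (nat_lit 0x208200)
 (.cons 1 (nat_lit 0x490400)
 (.cons 1 (nat_lit 0x8208)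
 (.cons 3 (nat_lit 0x4100)
 (.cons 6 (nat_lit 0x12000)
 (.cons 12 (nat_lit 0x9d0)
 .nil)))))))))
noncomputable def a4 : Net := (.cons 12 (nat_lit 0xf3e)
 (.cons 6 (nat_lit 0x1402a)
 (.cons 3 (nat_lit 0x1100)
 (.cons 1 (nat_lit 0x8200)
 (.cons 1 (nat_lit 0x492482)
 (.cons 1 (nat_lit 0x241248)
 (.cons 3 (nat_lit 0x4000)
 (.cons 6 (nat_lit 0x20)
 (.cons 12 (nat_lit 0xe7e)
 .nil)))))))))
noncomputable def a5 : Net := (.cons 12 (nat_lit 0x2b8)
 (.cons 6 (nat_lit 0x2008)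
 (.cons 3 (nat_lit 0x841c0)
 (.cons 1 (nat_lit 0x200)
 (.cons 1 (nat_lit 0x490)
 (.cons 1 (nat_lit 0x209040)
 (.cons 3 (nat_lit 0x80000)
 (.cons 6 (nat_lit 0x2008)
 (.cons 12 (nat_lit 0x2b8)
 .nil)))))))))
noncomputable def a6 : Net := (.cons 12 (nat_lit 0xfb0)
 (.cons 6 (nat_lit 0x10030)
 (.cons 3 (nat_lit 0x1460c0)
 (.cons 1 (nat_lit 0x40)
 (.cons 1 (nat_lit 0x92480)
 (.cons 1 (nat_lit 0x1040)
 (.cons 6 (nat_lit 0x38)
 (.cons 12 (nat_lit 0xdf0)
 .nil))))))))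
noncomputable def ns0 : List Net := [a0, a1, a2]
noncomputable def ws : List (List ℕ) :=
  [W (nat_lit 0x40180400401),
  W (nat_lit 0x100100c0101001),
  W (nat_lit 0x200a01c0702808),
  W (nat_lit 0xa02009)]
noncomputable def ns : List Net := [a0, a1, a2, a3, a4, a5, a6]
noncomputable def D : List (ℕ × List ℕ) := app [] (mkDefs ws 3)
noncomputable def chk : List (List ℕ × List ℕ) → Bool := P.relsB ns
noncomputable def zus0 : List (List ℕ) :=
  [[10],
  [12],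
  [13],
  W (nat_lit 0x2c0d),
  W (nat_lit 0x2c0e),
  W (nat_lit 0x340b),
  W (nat_lit 0x380b),
  W (nat_lit 0xb0340b),
  W (nat_lit 0xb0380b),
  W (nat_lit 0xd02c0e),
  W (nat_lit 0xe02c0d)]
noncomputable def zF1 : List (List (ℕ × List ℕ)) :=
  [[(1, []),
   (0, []),
   (6, []),
   (7, []),
   (8, []),
   (9, []),
   (2, []),
   (3, []),
   (4, []),
   (5, []),
   (11, []),
   (10, [])],
  [(2, []),
   (4, []),
   (3, []),
   (0, []),
   (5, []),
   (1, []),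
   (9, []),
   (11, []),
   (7, []),
   (10, []),
   (6, []),
   (8, [])]]
noncomputable def zus4 : List (List ℕ) :=
  [[6],
  [7],
  [8],
  [9],
  W (nat_lit 0x1c09),
  W (nat_lit 0x2009),
  W (nat_lit 0x1c0e),
  W (nat_lit 0x2407),
  W (nat_lit 0x200d),
  W (nat_lit 0x1c0d),
  W (nat_lit 0x200b),
  W (nat_lit 0x702c08),
  W (nat_lit 0x1c0b)]
noncomputable def zF5 : List (List (ℕ × List ℕ)) :=
  [[(1, []),
   (2, []),
   (0, []),
   (8, []),
   (4, [13]),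
   (7, W (nat_lit 0xb0340b)),
   (6, [12]),
   (11, W (nat_lit 0xe02c0d)),
   (9, W (nat_lit 0x2c0e)),
   (3, W (nat_lit 0x340b)),
   (12, W (nat_lit 0xb0340b)),
   (5, W (nat_lit 0x2c0e)),
   (13, []),
   (10, W (nat_lit 0xb0380b))],
  [(3, []),
   (5, []),
   (6, []),
   (1, W (nat_lit 0xe02c0d)),
   (0, []),
   (9, [10]),
   (12, [13]),
   (2, W (nat_lit 0x2c0e)),
   (7, W (nat_lit 0xe02c0d)),
   (10, W (nat_lit 0xb0340b)),
   (4, W (nat_lit 0x380b)),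
   (13, [10]),
   (11, W (nat_lit 0xd02c0e)),
   (8, W (nat_lit 0xb0380b))]]
noncomputable def zus8 : List (List ℕ) :=
  [[0],
  [1],
  [3],
  W (nat_lit 0x404),
  W (nat_lit 0x803),
  W (nat_lit 0x40a),
  W (nat_lit 0x807),
  W (nat_lit 0x101001),
  W (nat_lit 0x1007),
  W (nat_lit 0x408),
  W (nat_lit 0x80a),
  W (nat_lit 0x100e),
  W (nat_lit 0x407),
  W (nat_lit 0x1008)]
noncomputable def zF9 : List (List (ℕ × List ℕ)) :=
  [[(1, []),
   (2, []),
   (0, []),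
   (6, [6]),
   (8, []),
   (11, []),
   (7, W (nat_lit 0x340b01c0e)),
   (3, [8]),
   (9, [7]),
   (4, [6]),
   (14, W (nat_lit 0xb03807)),
   (12, W (nat_lit 0x380b03409)),
   (5, W (nat_lit 0x2c0e0200d)),
   (10, W (nat_lit 0x340b01c0e)),
   (13, W (nat_lit 0xb0340b01c0b))],
  [(2, [9]),
   (3, [7]),
   (5, []),
   (0, []),
   (1, []),
   (10, []),
   (12, W (nat_lit 0x3408)),
   (9, W (nat_lit 0x2c08)),
   (8, W (nat_lit 0xd02c0e01c0e)),
   (6, W (nat_lit 0x1c09)),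
   (4, W (nat_lit 0x2407)),
   (13, W (nat_lit 0x340b01c09)),
   (14, W (nat_lit 0xb0380b01c09)),
   (7, W (nat_lit 0x340b0380a)),
   (11, W (nat_lit 0x2c0d0200d))],
  [(0, []),
   (1, []),
   (2, []),
   (3, []),
   (4, []),
   (5, []),
   (6, []),
   (7, []),
   (8, []),
   (9, []),
   (10, []),
   (11, []),
   (12, []),
   (13, []),
   (14, [])]]
noncomputable def zE12 : Net :=
  .nil
noncomputable def zK13 : Lk :=
  ⟨zE12, 1, 2, 1⟩
noncomputable def zE16 : Net :=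
  (.cons 12 (nat_lit 0xff8)
 (.cons 6 (nat_lit 0x1f007)
 (.cons 3 (nat_lit 0x1041c7)
 (.cons 1 (nat_lit 0x492400)
 (.cons 1 (nat_lit 0x249200)
 (.cons 3 (nat_lit 0x180)
 (.cons 12 (nat_lit 0xc00)
 .nil)))))))
noncomputable def zK17 : Lk :=
  ⟨zE16, 1, 2, 1⟩

theorem zb2 : schB D [[10], [12]] [] zus0 zF1 12 = true := by decide +kernel
theorem zr3 : chk (schR [[10], [12]] zus0 zF1) = true := by decide +kernel
theorem zb6 : schB D [[6], [8]] [[10], [12]] zus4 zF5 14 = true := by decide +kernel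
theorem zr7 : chk (schR [[6], [8]] zus4 zF5) = true := by decide +kernel
theorem zb10 : schB D [[0], [2], [4]] [[6], [8]] zus8 zF9 15 = true := by decide +kernel
theorem zr11 : chk (schR [[0], [2], [4]] zus8 zF9) = true := by decide +kernel
theorem zl14 : zK13.relB CL.Spor.CoS.B.S.P CL.Spor.CoS.B.T.P CL.Spor.CoS.B.S.ns [[0], [2], [4]] [[0], [2], [4]] = true := by decide +kernel
theorem zl15 : allL (zK13.pl CL.Spor.CoS.B.S.P CL.Spor.CoS.B.T.P CL.Spor.CoS.B.S.ns CL.Spor.CoS.B.T.ns 0) (zp [] [[0], [2], [4]] [[0], [2], [4]]) = true := by decide +kernel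
theorem zl18 : zK17.relB CL.Spor.CoS.B.S.P CL.Std.A7.P CL.Spor.CoS.B.S.ns [[0], [2], [4]] [[0], [2]] = true := by decide +kernel
theorem zl19 : allL (zK17.pl CL.Spor.CoS.B.S.P CL.Std.A7.P CL.Spor.CoS.B.S.ns CL.Std.A7.ns 0) (zp [] [[0], [2], [4]] [[0], [2]]) = true := by decide +kernel
theorem zk20 : allL (keepB P.n P.N) ns0 = true := by decide +kernel
theorem ze21 : extB ns0 ns 3 ws [] = true := by decide +kernel
theorem zn22 : P.netsB ns (mkDefs ws 3) = true := by decide +kernel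

section
variable {G X : Type*} [Group G] [MulAction G X] {e : ℕ → X} {gs : List G}

theorem keep0 : allL (keepB P.n P.N) ns0 = true := zk20

theorem len {k} (c : Ctx P e gs ns0 [] k) : gs.length = 3 := c.len ze21

theorem ctx0 {k} (c : Ctx P e gs ns0 [] k) : Ctx P e (ext gs ws) ns D chk0 :=
  c.ext rfl ze21 zn22

theorem ctx {k} (c : Ctx P e gs ns0 [] k) {H : Subgroup G} (hF : Faithful e P.n H) (hH : ∀ g ∈ gs, g ∈ H) :
    Ctx P e (ext gs ws) ns D chk :=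
  (ctx0 c).withB hF (mem_of_mem_ext hH _)

instance instNe : NeZero P.n := ⟨by decide⟩
noncomputable def gs0 : List (Equiv.Perm (Fin P.n)) := permsOf P.n P.N ns0
noncomputable def gs1 : List (Equiv.Perm (Fin P.n)) := ext gs0 ws
theorem c1 : Ctx P (eF P.n) gs1 ns D chk :=
  ctx (ctx_permsOf hP keep0) (faithful_eF _) fun _ _ => trivial

theorem G_u2 (c : Ctx P e gs ns D chk) :
    UB (subW gs [[10], [12]]) 12 :=
  (c.sch_step (UB.nil gs)
    (c.rels _ zr3) zb2).le (by decide)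

theorem G_u1 (c : Ctx P e gs ns D chk) :
    UB (subW gs [[6], [8]]) 168 :=
  (c.sch_step (G_u2 c)
    (c.rels _ zr7) zb6).le (by decide)

theorem G_u0 (c : Ctx P e gs ns D chk) :
    UB (subW gs [[0], [2], [4]]) 2520 :=
  (c.sch_step (G_u1 c)
    (c.rels _ zr11) zb10).le (by decide)

theorem G_ub (c : Ctx P e gs ns D chk) :
    UB (subW gs [[0], [2], [4]]) 2520 :=
  (G_u0 c)

theorem toT {Γ Y : Type*} [Group Γ] [MulAction Γ Y] {e' : ℕ → Y} {cs : List Γ} {D₁ D₂ : List (ℕ × List ℕ)}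
    {k₁ k₂ : List (List ℕ × List ℕ) → Bool} (c : Ctx CL.Spor.CoS.B.S.P e gs CL.Spor.CoS.B.S.ns D₁ k₁) (c' : Ctx CL.Spor.CoS.B.T.P e' cs CL.Spor.CoS.B.T.ns D₂ k₂)
    (hF : Faithful e' CL.Spor.CoS.B.T.P.n (subW cs [[0], [2], [4]])) :
    RelLe gs [[0], [2], [4]] cs [[0], [2], [4]] :=
  c.relLe (K := zK13) c' hF zl14 (fun (t : ℕ) (ht : t < 1) => match t, ht with
    | 0, _ => zl15
    | t + 1, h => absurd h (by omega))

theorem toB {Γ Y : Type*} [Group Γ] [MulAction Γ Y] {e' : ℕ → Y} {cs : List Γ} {D₁ D₂ : List (ℕ × List ℕ)}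
    {k₁ k₂ : List (List ℕ × List ℕ) → Bool} (c : Ctx CL.Spor.CoS.B.S.P e gs CL.Spor.CoS.B.S.ns D₁ k₁) (c' : Ctx CL.Std.A7.P e' cs CL.Std.A7.ns D₂ k₂)
    (hF : Faithful e' CL.Std.A7.P.n (subW cs [[0], [2]])) :
    RelLe gs [[0], [2], [4]] cs [[0], [2]] :=
  c.relLe (K := zK17) c' hF zl18 (fun (t : ℕ) (ht : t < 1) => match t, ht with
    | 0, _ => zl19
    | t + 1, h => absurd h (by omega))

theorem rel {Γ Y : Type*} [Group Γ] [MulAction Γ Y] {e' : ℕ → Y} {cs : List Γ} {D₂ : List (ℕ × List ℕ)}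
    {k₂ : List (List ℕ × List ℕ) → Bool} (c' : Ctx CL.Std.A7.P e' cs CL.Std.A7.ns D₂ k₂) (hF : Faithful e' CL.Std.A7.P.n (subW cs [[0], [2]])) :
    RelLe CL.Spor.CoS.B.T.gs1 [[0], [2], [4]] cs [[0], [2]] :=
  ((toT c1 CL.Spor.CoS.B.T.c1 ((faithful_eF _).mono le_top)).symm_of_card (G_ub c1) (CL.Spor.CoS.B.T.G_lb CL.Spor.CoS.B.T.c1)).trans (toB c1 c' hF)

end
end CL.Spor.CoS.B.S

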