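/-
The subgroup `7 × A7` of `Co1`.
Generated by tools/pg.
-/
import Cfsg.Agent.Spor.Co1V
import Cfsg.Agent.Spor.StdSym
import Cfsg.Agent.Spor.Co1SA
import Cfsg.Agent.Spor.PGCtx

set_option autoImplicit false
set_option maxRecDepth 200000
set_option Elab.async false
set_option linter.unusedVariables false

namespace CL.Spor.CoS
open CL.PG CL.Spor.Leech CL.Spor.Mon CL.Spor.CoE Cfsg Cfsg.Spor MulAction
open CL.Mx (vec2)
open CL.Pc (pt2)

def P : Par := ⟨105, 128, 7, 3⟩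
theorem hP : P.Ok := by decide
noncomputable def a0 : Net := (.cons 64 (nat_lit 0x66026b49d51dbaab)
 (.cons 32 (nat_lit 0x1362643500000000e3bbc28f)
 (.cons 16 (nat_lit 0x7470000022f40000808700008946)
 (.cons 8 (nat_lit 0x2000280016003a006200a000e500cc)
 (.cons 4 (nat_lit 0x6060a0804000303080f0c020e000009)
 (.cons 2 (nat_lit 0x20021121300030230220003001233220)
 (.cons 1 (nat_lit 0x41145044444510115001110401144104)
 (.cons 2 (nat_lit 0x20020000002000220000020000200200)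
 (.cons 4 (nat_lit 0x604080000000a000202080e06000408)
 (.cons 8 (nat_lit 0x2200600010002800a000a0007000e4)
 (.cons 16 (nat_lit 0x33500000826c0000814800000cea)
 (.cons 32 (nat_lit 0x73624e3400000000f31a5336)
 (.cons 64 (nat_lit 0x66026bd33704e1ae)
 .nil)))))))))))))
noncomputable def a1 : Net := (.cons 64 (nat_lit 0x89402144b6cf0b1a)
 (.cons 32 (nat_lit 0x7364b13500000000a83b0b45)
 (.cons 16 (nat_lit 0x2380000418e000077f1000060b5)
 (.cons 8 (nat_lit 0x20006700410061008900380043000b)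
 (.cons 4 (nat_lit 0x80c050a0c0506090d06020205070607)
 (.cons 2 (nat_lit 0x30303200011323000322320113333232)
 (.cons 1 (nat_lit 0x10001401004144104505140514011441)
 (.cons 2 (nat_lit 0x20000202000020000000000002022000)
 (.cons 4 (nat_lit 0x808040804080202000a04080000020a)
 (.cons 8 (nat_lit 0xc4000000420040000800000070)
 (.cons 16 (nat_lit 0x238000040d6000039d4000004be)
 (.cons 32 (nat_lit 0xf364917000000000fa290754)
 (.cons 64 (nat_lit 0x894021c4b1674bd0)
 .nil)))))))))))))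
noncomputable def a2 : Net := (.cons 64 (nat_lit 0xf1440e2cb6b10c21)
 (.cons 32 (nat_lit 0xc1cbba3700000000662418b6)
 (.cons 16 (nat_lit 0x94a500006c14000023060000cdc1)
 (.cons 8 (nat_lit 0xd200b800d000ae006900b2004100ff)
 (.cons 4 (nat_lit 0x60d0002080a08060002080f0c0b0009)
 (.cons 2 (nat_lit 0x2120031201202330302202001103320)
 (.cons 1 (nat_lit 0x44010044110440410154104104104510)
 (.cons 2 (nat_lit 0x2020022200000220202000000002020)
 (.cons 4 (nat_lit 0x4000000080a0c040008080408000000)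
 (.cons 8 (nat_lit 0xf20028008000e20068008a005000f4)
 (.cons 16 (nat_lit 0x846c0000623400000b1000005860)
 (.cons 32 (nat_lit 0xb18bbedc000000006a0608a0)
 (.cons 64 (nat_lit 0xf1440f396053908a)
 .nil)))))))))))))
noncomputable def ns0 : List Net := [a0, a1, a2]
noncomputable def ws : List (List ℕ) :=
  []
noncomputable def ns : List Net := [a0, a1, a2]
noncomputable def D : List (ℕ × List ℕ) := app [] (mkDefs ws 3)
noncomputable def chk : List (List ℕ × List ℕ) → Bool := P.relsB ns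
noncomputable def pts : List ℕ :=
  [(nat_lit 0x1fffffffffffffe000000000000),
  (nat_lit 0x1fffffffe000001fffffe000000),
  (nat_lit 0x1ffff8001fff801ff8001fff800),
  (nat_lit 0x1f8007f81f80781e07e01fe07e0),
  (nat_lit 0x187e07879e78661dc7df1f1071c),
  (nat_lit 0x1771876679f65d190638d8ce4db),
  (nat_lit 0x4c9c6dd5c4d23d7e716fc3c436),
  (nat_lit 0x12fd2572762910eabf8d908f6cf),
  (nat_lit 0x170695432d1498c7158c862cf9b),
  (nat_lit 0x7ac41ad05988e92612ac4b96fc),
  (nat_lit 0x1614f01e5ae45ba74abb715b3b9),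
  (nat_lit 0x1b363edd5c4d5c37e0e903c3c36),
  (nat_lit 0x1913dd204c92a172561d097a8de),
  (nat_lit 0x1fdfac4c35e5948bdcca1cead40),
  (nat_lit 0x12f5c8af22b42d3553d9ce7226f),
  (nat_lit 0x991f7a25ffc1d9d2330e8fa459),
  (nat_lit 0x16191a78f4e127a33084b618f19),
  (nat_lit 0x8d93ef0e70e8c4cceb96539adb),
  (nat_lit 0xc4a54226bbe02d564ee03b1c4d),
  (nat_lit 0x340948533cdfbfbfa77a32c38a),
  (nat_lit 0x1ec8ceaab88d163015967223962),
  (nat_lit 0x13bd06027a46c31b46505c4e4ed),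
  (nat_lit 0x12f5cf50c2b452caabd9d18da6f),
  (nat_lit 0x1a5be47a915864a78ed4f5a93f4)]
noncomputable def t7 : ℕ :=
  0xcb58249e8311b68b6d1a3b00c076818235d1f5513481910c8129640ea584406edce1fda08f7ea4c2d784728d89a785fcafe36c537031d5a6b1562851c9dc2de1833f59526b84570a
noncomputable def bS : List ℕ :=
  [t7,
  0x48f36c0105ad330ac577157f3ddaffd9fd4d7cf7af767b4f27bcf55efbf43320177f7c8efaf0f2c5c77c50a69eb5ff35b1ce59dbbf7a3a5be85e0464516dca94e7558d09ee095985,
  0x2d7190f70a410e11db84b629f1e9d06e5de5f2e848465d396748ca7159527a5bd04f5de7215b46130ea323ede37c904644123a7ca7fd971303feea4e09a6fd62a4bca68f5d2573c]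
noncomputable def bS_i : List ℕ :=
  [0x921d8092d8edda108bf7be009ed0005a408b98c5900f55561849c08a65209a4a86106efb8c4aa0862163c450bb2395f690ab383799d674cd205c24c65cf3ebeb09f06f4114da5ed0,
  0xc8f36c4105ad130ac567157f35daffddfd4d7ef7af777b4f273cf55ebbf43300177f6c8efaf8f2c5c37c50a49eb5fe35b1ced9dbbf3a3a5bc85e0474516dc294e7518d09ec095984,
  0x3478ec351e3fe2ca2cb5e1de4840d5ea4a339a0003cc8a73dd70d38a735b7ef7c3db0007247cbe47ac6e328afc67b40a84e216366273a0d699d8a9a8ea296dff308f4696353611d]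
noncomputable def bS_w : List (List ℕ) :=
  [W (nat_lit 0x370dc2e0cc2b0c01f0bc2e0b0150d02501009),
  W (nat_lit 0xdc370e4380c8390ac330802e09c3704c130cc030a039),
  W (nat_lit 0x390e0310e4360dc200a0290b01709c200040503034)]
noncomputable def zE2 : Net :=
  (.cons 64 (nat_lit 0x364191b8b706f530)
 (.cons 32 (nat_lit 0x3a01e8e600000000a9a5736a)
 (.cons 16 (nat_lit 0x21f60000e36900003e790000ec62)
 (.cons 8 (nat_lit 0xcd0040002400cc0050004800e000be)
 (.cons 4 (nat_lit 0xe020804020600050c090202040a0d00)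
 (.cons 2 (nat_lit 0x33033003230202230113003003120002)
 (.cons 1 (nat_lit 0x44111001045150040150015444045144)
 (.cons 2 (nat_lit 0x20002002020200020200000020000202)
 (.cons 4 (nat_lit 0x8000004000202000608020a020e0804)
 (.cons 8 (nat_lit 0xde000000b2001800c60068008800f8)
 (.cons 16 (nat_lit 0x11b60000e5c400007fcc00006190)
 (.cons 32 (nat_lit 0x3e40e8c800000000a8391f96)
 (.cons 64 (nat_lit 0x364191703c047706)
 .nil)))))))))))))
noncomputable def zK3 : Lk :=
  ⟨zE2, 15, 2, 1⟩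
noncomputable def zE6 : Net :=
  (.cons 64 (nat_lit 0xf9cf6a86b139b028)
 (.cons 32 (nat_lit 0xc5675bf60000000042559d5e)
 (.cons 16 (nat_lit 0xd5fc0000d6920000502000000ed2)
 (.cons 8 (nat_lit 0x980008005700ad001000ce0020009a)
 (.cons 4 (nat_lit 0x7050a060805090001040c0f060f02)
 (.cons 2 (nat_lit 0x20232301210131320001011132021302)
 (.cons 1 (nat_lit 0x10400044540055410010051440140110)
 (.cons 2 (nat_lit 0x200020000000200000002020220000)
 (.cons 4 (nat_lit 0x6040a0a040408000404000c040008)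
 (.cons 8 (nat_lit 0xc00066001c00fe00100042009200b8)
 (.cons 16 (nat_lit 0xcd9a00001c1c0000545400000c60)
 (.cons 32 (nat_lit 0x75273a3a00000000446599d6)
 (.cons 64 (nat_lit 0xf9cf6aa797fe7058)
 .nil)))))))))))))
noncomputable def zK7 : Lk :=
  ⟨zE6, 7, 2, 1⟩

theorem zw0 : (okB CoW.bw CoW.wi bS bS_w && invB bS bS_i) = true := by decide +kernel
theorem zmod1 : modB P pts bS ns0 = true := by decide +kernel
theorem zl4 : zK3.relB CL.Spor.CoS.P CL.Spor.CoS.Z.P CL.Spor.CoS.ns [[0], [2], [4]] [[0]] = true := by decide +kernel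
theorem zl5 : allL (zK3.pl CL.Spor.CoS.P CL.Spor.CoS.Z.P CL.Spor.CoS.ns CL.Spor.CoS.Z.ns 0) (zp [] [[0], [2], [4]] [[0]]) = true := by decide +kernel
theorem zl8 : zK7.relB CL.Spor.CoS.P CL.Spor.CoS.B.T.P CL.Spor.CoS.ns [[2], [4], [0]] [[0], [2], [4]] = true := by decide +kernel
theorem zl9 : allL (zK7.pl CL.Spor.CoS.P CL.Spor.CoS.B.T.P CL.Spor.CoS.ns CL.Spor.CoS.B.T.ns 0) (zp [] [[2], [4], [0]] [[0], [2], [4]]) = true := by decide +kernel
theorem zk10 : allL (keepB P.n P.N) ns0 = true := by decide +kernel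
theorem ze11 : extB ns0 ns 3 ws [] = true := by decide +kernel
theorem zn12 : P.netsB ns (mkDefs ws 3) = true := by decide +kernel

variable {G X : Type*} [Group G] [MulAction G X] {e : ℕ → X} {gs : List G}

theorem keep0 : allL (keepB P.n P.N) ns0 = true := zk10

theorem len {k} (c : Ctx P e gs ns0 [] k) : gs.length = 3 := c.len ze11

theorem ctx0 {k} (c : Ctx P e gs ns0 [] k) : Ctx P e (ext gs ws) ns D chk0 :=
  c.ext rfl ze11 zn12

theorem ctx {k} (c : Ctx P e gs ns0 [] k) {H : Subgroup G} (hF : Faithful e P.n H) (hH : ∀ g ∈ gs, g ∈ H) :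
    Ctx P e (ext gs ws) ns D chk :=
  (ctx0 c).withB hF (mem_of_mem_ext hH _)

theorem bS_al : Al bS bS_i := CoW.al.al zw0

theorem c0 : Ctx P (vec2 24 pts) (els bS) ns0 [] chk0 := ctx_of hP bS_al.ok keep0 zmod1

/-- The letters. -/
noncomputable def gs1 : List Co1 := ext (els bS) ws

theorem r1 {Γ Y : Type*} [Group Γ] [MulAction Γ Y] {e' : ℕ → Y} {cs : List Γ} {D₁ D₂ : List (ℕ × List ℕ)}
    {k₁ k₂ : List (List ℕ × List ℕ) → Bool} (c : Ctx CL.Spor.CoS.P e gs CL.Spor.CoS.ns D₁ k₁) (c' : Ctx CL.Spor.CoS.Z.P e' cs CL.Spor.CoS.Z.ns D₂ k₂)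
    (hF : Faithful e' CL.Spor.CoS.Z.P.n (subW cs [[0]])) :
    RelLe gs [[0], [2], [4]] cs [[0]] :=
  c.relLe (K := zK3) c' hF zl4 (fun (t : ℕ) (ht : t < 1) => match t, ht with
    | 0, _ => zl5
    | t + 1, h => absurd h (by omega))

theorem r2_T {Γ Y : Type*} [Group Γ] [MulAction Γ Y] {e' : ℕ → Y} {cs : List Γ} {D₁ D₂ : List (ℕ × List ℕ)}
    {k₁ k₂ : List (List ℕ × List ℕ) → Bool} (c : Ctx CL.Spor.CoS.P e gs CL.Spor.CoS.ns D₁ k₁) (c' : Ctx CL.Spor.CoS.B.T.P e' cs CL.Spor.CoS.B.T.ns D₂ k₂)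
    (hF : Faithful e' CL.Spor.CoS.B.T.P.n (subW cs [[0], [2], [4]])) :
    RelLe gs [[2], [4], [0]] cs [[0], [2], [4]] :=
  c.relLe (K := zK7) c' hF zl8 (fun (t : ℕ) (ht : t < 1) => match t, ht with
    | 0, _ => zl9
    | t + 1, h => absurd h (by omega))

theorem r2 {Γ Y : Type*} [Group Γ] [MulAction Γ Y] {e' : ℕ → Y} {cs : List Γ} {D₁ D₂ : List (ℕ × List ℕ)}
    {k₁ k₂ : List (List ℕ × List ℕ) → Bool} (c : Ctx CL.Spor.CoS.P e gs CL.Spor.CoS.ns D₁ k₁) (c' : Ctx CL.Std.A7.P e' cs CL.Std.A7.ns D₂ k₂)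
    (hF : Faithful e' CL.Std.A7.P.n (subW cs [[0], [2]])) :
    RelLe gs [[2], [4], [0]] cs [[0], [2]] :=
  (r2_T c CL.Spor.CoS.B.T.c1 ((faithful_eF _).mono le_top)).trans (CL.Spor.CoS.B.S.rel c' hF)

theorem com : comB t7 bS = true := by decide +kernel

theorem ord : (Nat.beq (CoG.pw t7 7) (Mx.one2 24) && CoG.neB t7 (Mx.one2 24) 2) = true := by decide +kernel


end CL.Spor.CoS
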