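/-
Auxiliary models for `2·Sp₆(2)` on 240 points.
Generated by tools/pg.
-/
import Cfsg.Agent.Spor.PGCtx
import Cfsg.Agent.Spor.StdPS62
import Cfsg.Agent.Spor.PGSub

set_option autoImplicit false
set_option maxRecDepth 200000
set_option Elab.async false
set_option linter.unusedVariables false

namespace CL.Co3M.HAux.T
open CL.PG

def P : Par := ⟨120, 128, 7, 3⟩
theorem hP : P.Ok := by decide
noncomputable def a0 : Net := (.cons 64 (nat_lit 0x1443be4b5f201d20)
 (.cons 32 (nat_lit 0xd719011d000000000eeb0135)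
 (.cons 16 (nat_lit 0xa04e0000044d0000c95700002174)
 (.cons 8 (nat_lit 0xbd00f70004009f00ad003500570035)
 (.cons 4 (nat_lit 0x60b06090404050a0e06070008040f04)
 (.cons 2 (nat_lit 0x1101323101130120322211203230330)
 (.cons 1 (nat_lit 0x11145111105140450441514441101441)
 (.cons 2 (nat_lit 0x20000220000200000020022202200022)
 (.cons 4 (nat_lit 0x8080c0c04080e020202020a040e040c)
 (.cons 8 (nat_lit 0xce0060000000200004001c003c0030)
 (.cons 16 (nat_lit 0xf1c400000c3a0000ac6a0000c0a4)
 (.cons 32 (nat_lit 0xd7e3c608000000000dc772e4)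
 (.cons 64 (nat_lit 0x147946c29fa7c0e4)
 .nil)))))))))))))
noncomputable def a1 : Net := (.cons 64 (nat_lit 0x60635f936e593148)
 (.cons 32 (nat_lit 0x675e25a000000000c8763643)
 (.cons 16 (nat_lit 0xd12a0000f74a00000f6100004f6b)
 (.cons 8 (nat_lit 0x6c00c1003500f2006900e7005a0000)
 (.cons 4 (nat_lit 0x3070e04050a0c0d04010309040d0c03)
 (.cons 2 (nat_lit 0x30210000120322031312100102302201)
 (.cons 1 (nat_lit 0x44414404440114011401140515044114)
 (.cons 2 (nat_lit 0x2200200220222022202020000022022)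
 (.cons 4 (nat_lit 0x80408000a0c04000e04000c08040600)
 (.cons 8 (nat_lit 0x2a0084000800c200fe0070001000b0)
 (.cons 16 (nat_lit 0xf0180000e7240000076c00004e44)
 (.cons 32 (nat_lit 0x472d5ff800000000c2df9e78)
 (.cons 64 (nat_lit 0x605a5cf84bc5d48c)
 .nil)))))))))))))
noncomputable def a2 : Net := .nil
noncomputable def a3 : Net := (.cons 64 (nat_lit 0x6d5f87bdd0aa68f8)
 (.cons 32 (nat_lit 0x10d86243000000009d0eef5c)
 (.cons 16 (nat_lit 0x5923000041530000d03f00005f9e)
 (.cons 8 (nat_lit 0x9d00a5008d00d0008b005c005c00f2)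
 (.cons 4 (nat_lit 0xb040e0b0e01020a070e00020b050004)
 (.cons 2 (nat_lit 0x10010331212110322323202011123032)
 (.cons 1 (nat_lit 0x45014401444140104141411554100040)
 (.cons 2 (nat_lit 0x2200200220000222222002000020)
 (.cons 4 (nat_lit 0xa000a000c000204020a0e0a080c0002)
 (.cons 8 (nat_lit 0xd000d000280074008000e000a200a0)
 (.cons 16 (nat_lit 0x554a00002d500000cd0a0000cd14)
 (.cons 32 (nat_lit 0x1198138c000000009fb6d8da)
 (.cons 64 (nat_lit 0x6dd993bbf6f3bbce)
 .nil)))))))))))))
noncomputable def a4 : Net := (.cons 64 (nat_lit 0x77184f59f586c134)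
 (.cons 32 (nat_lit 0x2cb534dc0000000048da4a90)
 (.cons 16 (nat_lit 0x208a00006e5d0000cc560000e93c)
 (.cons 8 (nat_lit 0x4e00b00091009c00a4008a00380026)
 (.cons 4 (nat_lit 0x3090a0c0f020f0800010d0f07000c)
 (.cons 2 (nat_lit 0x11330032023102202003101230220120)
 (.cons 1 (nat_lit 0x11400410044110440405410444011040)
 (.cons 2 (nat_lit 0x200220000200200000020022022000)
 (.cons 4 (nat_lit 0xc000c0c0800080c0800000a00000c)
 (.cons 8 (nat_lit 0x6007e0008008c00a400c800880080)
 (.cons 16 (nat_lit 0x4d9e00002f3800008cd2000048b8)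
 (.cons 32 (nat_lit 0x2eb7fa54000000004892cb94)
 (.cons 64 (nat_lit 0x77db06d9166c7614)
 .nil)))))))))))))
noncomputable def a5 : Net := (.cons 64 (nat_lit 0x65f40d80569052e0)
 (.cons 32 (nat_lit 0xb1ff5481000000006a21cdc6)
 (.cons 16 (nat_lit 0xe87000039fa0000cc4000001004)
 (.cons 8 (nat_lit 0xb008000910060002c00980091008a)
 (.cons 4 (nat_lit 0x2090a0a030102050008020201060c04)
 (.cons 2 (nat_lit 0x30330112200003103211320001223302)
 (.cons 1 (nat_lit 0x50100151441141104010101001050104)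
 (.cons 2 (nat_lit 0x200200220000202020200000000200)
 (.cons 4 (nat_lit 0xa0a08000c0c06000a0200000808)
 (.cons 8 (nat_lit 0x1000c400ea004800cc00e8009a004c)
 (.cons 16 (nat_lit 0xefc600001c36000024c000000064)
 (.cons 32 (nat_lit 0xf05bdfb800000000e22dd5a4)
 (.cons 64 (nat_lit 0x65b184bc80b4d2c0)
 .nil)))))))))))))
noncomputable def a6 : Net := (.cons 64 (nat_lit 0xfd71cba438a7ead8)
 (.cons 32 (nat_lit 0x6f17d1c600000000a43f0630)
 (.cons 16 (nat_lit 0xd02e0000d51b0000b17300007e6c)
 (.cons 8 (nat_lit 0x7f0004003b003c00be001e00b00034)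
 (.cons 4 (nat_lit 0x90206090e0c05010a0c0e0204090602)
 (.cons 2 (nat_lit 0x10213010111031322210322312302330)
 (.cons 1 (nat_lit 0x1011445451041040501404145104040)
 (.cons 2 (nat_lit 0x2022200200022020002200020000000)
 (.cons 4 (nat_lit 0x600000200000e020a0c0408000a000a)
 (.cons 8 (nat_lit 0x40004e002e00ca00ba009400e800ae)
 (.cons 16 (nat_lit 0xf1700000dc640000b1c800003ccc)
 (.cons 32 (nat_lit 0x466ddf6000000000a4071730)
 (.cons 64 (nat_lit 0xfddc64fca8023630)
 .nil)))))))))))))
noncomputable def a7 : Net := (.cons 64 (nat_lit 0x8afe62a771b0a4c0)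
 (.cons 32 (nat_lit 0x206a309f00000000b5859150)
 (.cons 16 (nat_lit 0xe2f70000098e0000b45800001e44)
 (.cons 8 (nat_lit 0x20001d008a00a5005300ec009b001a)
 (.cons 4 (nat_lit 0xa09050c0407030e020403040c070906)
 (.cons 2 (nat_lit 0x2230200032121131320031032013030)
 (.cons 1 (nat_lit 0x40414104444444101440504141041044)
 (.cons 2 (nat_lit 0x222200002020000200002000022002)
 (.cons 4 (nat_lit 0x4000c000a080404000406060408)
 (.cons 8 (nat_lit 0x4a0090009400b40016006c00980022)
 (.cons 16 (nat_lit 0x6ae600001958000020b8000079f4)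
 (.cons 32 (nat_lit 0x222b14d000000000b196a020)
 (.cons 64 (nat_lit 0x8abbe6330a7da5d0)
 .nil)))))))))))))
noncomputable def a8 : Net := (.cons 64 (nat_lit 0x9a164b92b1b7711e)
 (.cons 32 (nat_lit 0x7bcd2a18000000006a919008)
 (.cons 16 (nat_lit 0x7f0f000009c100002ae700003ad6)
 (.cons 8 (nat_lit 0x7b00f9008700ba00e5006e00f10010)
 (.cons 4 (nat_lit 0x50f0001050c090c0308070d0c0f04)
 (.cons 2 (nat_lit 0x2220110011310302220210223120110)
 (.cons 1 (nat_lit 0x4540414004140104141444150440140)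
 (.cons 2 (nat_lit 0x2020022000000000020202000020200)
 (.cons 4 (nat_lit 0xc0000080c020a060e06020e0a04)
 (.cons 8 (nat_lit 0x6000aa009000b2008600e400f600b4)
 (.cons 16 (nat_lit 0x8c2a00000b1000000ce000002a32)
 (.cons 32 (nat_lit 0x7b166f58000000006fa4b0bc)
 (.cons 64 (nat_lit 0x9a845876b33fb54e)
 .nil)))))))))))))
noncomputable def a9 : Net := (.cons 64 (nat_lit 0xad84b911dfc83100)
 (.cons 32 (nat_lit 0x3c64a4dc000000007a994200)
 (.cons 16 (nat_lit 0x3bb000008ec40000aa14000083e0)
 (.cons 8 (nat_lit 0xb000040020007800d0001600700054)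
 (.cons 4 (nat_lit 0xb0a09000808000606000702020c0d04)
 (.cons 2 (nat_lit 0x332032200203020203221030032200)
 (.cons 1 (nat_lit 0x4500451445140411455440001000400)
 (.cons 2 (nat_lit 0x2200200020200220000000200)
 (.cons 4 (nat_lit 0x80a08000808000406000000020c0c00)
 (.cons 8 (nat_lit 0xb000000024006800d0001600700054)
 (.cons 16 (nat_lit 0x3bb000008ec40000a214000083e0)
 (.cons 32 (nat_lit 0x3c6420d8000000007a194200)
 (.cons 64 (nat_lit 0xad84b911dfc83100)
 .nil)))))))))))))
noncomputable def ns0 : List Net := [a0, a1, a2]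
noncomputable def ws : List (List ℕ) :=
  [W (nat_lit 0x80200c030040300802),
  W (nat_lit 0x40401002),
  W (nat_lit 0x8020080240701c07),
  W (nat_lit 0x1c0a02008),
  W (nat_lit 0x340b0380e0380c0380c),
  W (nat_lit 0xd02c0d02c0b0340b),
  W (nat_lit 0x4812)]
noncomputable def ns : List Net := [a0, a1, a2, a3, a4, a5, a6, a7, a8, a9]
noncomputable def D : List (ℕ × List ℕ) := app [] (mkDefs ws 3)
noncomputable def chk : List (List ℕ × List ℕ) → Bool := P.relsB ns
noncomputable def G_v0 : Lev :=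
  ⟨0, 120, sg (W (nat_lit 0x10040100c0100c0100c0100c0100c01)), [[6], [8]], 0, 2⟩
noncomputable def G_v1 : Lev :=
  ⟨2, 56, sg (W (nat_lit 0x701c0702407024070240702407)), [[10], [12]], 2, 2⟩
noncomputable def G_v2 : Lev :=
  ⟨1, 27, sg (W (nat_lit 0x340b0340b0340b0340b)), [[14], [16]], 4, 2⟩
noncomputable def G_v3 : Lev :=
  ⟨3, 4, sg (W (nat_lit 0x440f)), [[18]], 6, 1⟩
noncomputable def G_v4 : Lev :=
  ⟨4, 2, sg [18], [], 7, 0⟩
noncomputable def G_vs5 : List Lev :=
  []
noncomputable def G_vs4 : List Lev :=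
  G_v4 :: G_vs5
noncomputable def G_vs3 : List Lev :=
  G_v3 :: G_vs4
noncomputable def G_vs2 : List Lev :=
  G_v2 :: G_vs3
noncomputable def G_vs1 : List Lev :=
  G_v1 :: G_vs2
noncomputable def G_vs : List Lev :=
  G_v0 :: G_vs1

theorem zc0 : P.chainB ns D G_vs [[0], [2], [4]] = true := by decide +kernel
theorem zk1 : allL (keepB P.n P.N) ns0 = true := by decide +kernel
theorem ze2 : extB ns0 ns 3 ws [] = true := by decide +kernel
theorem zn3 : P.netsB ns (mkDefs ws 3) = true := by decide +kernel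

section
variable {G X : Type*} [Group G] [MulAction G X] {e : ℕ → X} {gs : List G}

theorem keep0 : allL (keepB P.n P.N) ns0 = true := zk1

theorem len {k} (c : Ctx P e gs ns0 [] k) : gs.length = 3 := c.len ze2

theorem ctx0 {k} (c : Ctx P e gs ns0 [] k) : Ctx P e (ext gs ws) ns D chk0 :=
  c.ext rfl ze2 zn3

theorem ctx {k} (c : Ctx P e gs ns0 [] k) {H : Subgroup G} (hF : Faithful e P.n H) (hH : ∀ g ∈ gs, g ∈ H) :
    Ctx P e (ext gs ws) ns D chk :=
  (ctx0 c).withB hF (mem_of_mem_ext hH _)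

instance instNe : NeZero P.n := ⟨by decide⟩
noncomputable def gs0 : List (Equiv.Perm (Fin P.n)) := permsOf P.n P.N ns0
noncomputable def gs1 : List (Equiv.Perm (Fin P.n)) := ext gs0 ws
theorem c1 : Ctx P (eF P.n) gs1 ns D chk :=
  ctx (ctx_permsOf hP keep0) (faithful_eF _) fun _ _ => trivial

theorem G_c : P.chainB ns D G_vs [[0], [2], [4]] = true :=
  zc0

theorem G_o : prodL G_vs 1 = 1451520 := by decide +kernel

theorem G_lb (c : Ctx P e gs ns D chk) :
    LB (subW gs [[0], [2], [4]]) 1451520 :=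
  c.lb G_c G_o

end
end CL.Co3M.HAux.T

namespace CL.Co3M.HAux.S
open CL.PG

def P : Par := ⟨183, 192, 8, 3⟩
theorem hP : P.Ok := by decide
noncomputable def a0 : Net := (.cons 96 (nat_lit 0xdcffa9bf2bd7bb5e6b070445)
 (.cons 48 (nat_lit 0xa6f0d77364520000000000006b9f9c539a7d)
 (.cons 24 (nat_lit 0x72b37000000a5abfa0000001e18f20000009a0368)
 (.cons 12 (nat_lit 0x246000d1a000db1000f6200039500083e000022000d65)
 (.cons 6 (nat_lit 0x3302b00502803102601f02701901901400c03d00f035005)
 (.cons 3 (nat_lit 0x1051460811c70c00450420860841051031021850810c5181)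
 (.cons 1 (nat_lit 0x48041200048000001001000008000200000040209040008)
 (.cons 1 (nat_lit 0x90092480490402012002002090080410492482412080090)
 (.cons 1 (nat_lit 0x248048049200041200009041249248201049040240008209)
 (.cons 3 (nat_lit 0x80102100186186084004000004000000080000080080180)
 (.cons 6 (nat_lit 0x1803800803603002202400001001400001c02a018008)
 (.cons 12 (nat_lit 0xa84000134000d260002d40002000004860003c0000840)
 (.cons 24 (nat_lit 0x73aa80000000bc260800000074acec0000000f7c82)
 (.cons 48 (nat_lit 0x62d76eb753fc0000000000004881015fded6)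
 (.cons 96 (nat_lit 0xdcd7ffe7ec7d0bcd9fba4620)
 .nil)))))))))))))))
noncomputable def a1 : Net := (.cons 96 (nat_lit 0xbb8c7459dbbc34951b91ecd8)
 (.cons 48 (nat_lit 0x33e2dfaf940d000000000000b08ca50c7650)
 (.cons 24 (nat_lit 0x2ce5510000004110e4000000a76c1600000063b873)
 (.cons 12 (nat_lit 0x9e10002410008ad000ef60001d900020c000283000e53)
 (.cons 6 (nat_lit 0x2f02400b00e00302c00200301502902401b01402c03a018)
 (.cons 3 (nat_lit 0x61801451820c30c20c71861871850c6105143103185140)
 (.cons 1 (nat_lit 0x200040201008049200201001001040000041008041048200)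
 (.cons 1 (nat_lit 0x410492482410092482492082402082080482410482092402)
 (.cons 1 (nat_lit 0x201241249009248041249040008009008209209009001201)
 (.cons 3 (nat_lit 0x100000002106082182004180000180002002180106100102)
 (.cons 6 (nat_lit 0x3c00a02803402400402c01002200000c03c01a00c)
 (.cons 12 (nat_lit 0x99e000f600000b8000d7a0006940007c8000230000f44)
 (.cons 24 (nat_lit 0xfe18c000000d5e32c0000000798960000002f9eb2)
 (.cons 48 (nat_lit 0x2be9ed00d378000000000000b4e9b80be4c6)
 (.cons 96 (nat_lit 0xbb803ded0557299dbda0e186)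
 .nil)))))))))))))))
noncomputable def a2 : Net := .nil
noncomputable def a3 : Net := (.cons 96 (nat_lit 0xf61ccb6c668dd78d06c50e86)
 (.cons 48 (nat_lit 0x737bbb1cd0ec00000000000025f7b35bb2d6)
 (.cons 24 (nat_lit 0xb8968f0000008267d30000006072f1000000e8b144)
 (.cons 12 (nat_lit 0xd4b0008d10002b80003590009cd00038b00062a000600)
 (.cons 6 (nat_lit 0x2902f00503100200703902e03303d015034002004016034)
 (.cons 3 (nat_lit 0x1070860040421051c20071010c10420831460851460c2100)
 (.cons 1 (nat_lit 0x40040200041008009200041009000008041000048241008)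
 (.cons 1 (nat_lit 0x480090402482490412400492012480090082480090482092)
 (.cons 1 (nat_lit 0x201249240048240001208208208008200248209001209040)
 (.cons 3 (nat_lit 0x2184000000002102000182082002182000000000004004)
 (.cons 6 (nat_lit 0x2803e00000000000803400002c02c010008032026018034)
 (.cons 12 (nat_lit 0xf200003d40000dc000cc8000d4a000a3e000e0a00076a)
 (.cons 24 (nat_lit 0x1dcc16000000909da200000045002400000038c53e)
 (.cons 48 (nat_lit 0xb70e785bd4180000000000002c1fadf2816a)
 (.cons 96 (nat_lit 0xf651fc1695236aa7e19c2088)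
 .nil)))))))))))))))
noncomputable def a4 : Net := (.cons 96 (nat_lit 0xb606e92b34d57aab01b9eca6)
 (.cons 48 (nat_lit 0xcba2c064314e000000000000cb9d81ebf370)
 (.cons 24 (nat_lit 0xa1fddd000000c24ed3000000c422a1000000507c60)
 (.cons 12 (nat_lit 0x9710000b500026a000388000d2100033c000680000cde)
 (.cons 6 (nat_lit 0x800201501201d02100d01f00102100601a00801103b012)
 (.cons 3 (nat_lit 0x51431000c21051821450400871451830010441821010c2)
 (.cons 1 (nat_lit 0x200200049201040000209201048000208000000240008008)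
 (.cons 1 (nat_lit 0x402490492402092080412402090090492010010480492012)
 (.cons 1 (nat_lit 0x201049201009049001249249049208008000201200009208)
 (.cons 3 (nat_lit 0x106180100186000100100082106106102004004080004080)
 (.cons 6 (nat_lit 0x400002800201000202600201001802c010000036038006)
 (.cons 12 (nat_lit 0x3d400049400060a00033a000de00005000006dc000778)
 (.cons 24 (nat_lit 0xe3f46800000044222a00000005a0a000000035bc10)
 (.cons 48 (nat_lit 0xcdfc60a286640000000000008a85bcc8b2e0)
 (.cons 96 (nat_lit 0xb60cfb6b742ca965019ce122)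
 .nil)))))))))))))))
noncomputable def a5 : Net := (.cons 96 (nat_lit 0x2c88f79dd2631bbe94dc9f5e)
 (.cons 48 (nat_lit 0xa9487fe06d100000000000005571b4909b80)
 (.cons 24 (nat_lit 0x9e86b50000003d70b80000009d449f00000095f89c)
 (.cons 12 (nat_lit 0x84e000dca0009c5000022000afa0003a1000d49000c28)
 (.cons 6 (nat_lit 0x1601402503a00102c01401f00402102d00303d02b034020)
 (.cons 3 (nat_lit 0x861010030450031450061c50c30841c31441c4047002046)
 (.cons 1 (nat_lit 0x200040000001209048009001208040040001000240208200)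
 (.cons 1 (nat_lit 0x410482002402492490092092412082090402402492490482)
 (.cons 1 (nat_lit 0x248201248049240201008248240001200041049000208248)
 (.cons 3 (nat_lit 0x6100004000000004100104084102100180180000100100)
 (.cons 6 (nat_lit 0x1e02202e03a02a02801c00600202603801200800c034026)
 (.cons 12 (nat_lit 0x934000d9a000d08000fca000f9a000bbe000170000884)
 (.cons 24 (nat_lit 0x37950a0000000d3678000000090c9a0000002cc002)
 (.cons 48 (nat_lit 0x89d97237e7a0000000000000561ac8e08332)
 (.cons 96 (nat_lit 0x2ccdb2ab697ad0878f098226)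
 .nil)))))))))))))))
noncomputable def a6 : Net := (.cons 96 (nat_lit 0xb9bdabeff7bdbde27a189626)
 (.cons 48 (nat_lit 0xdf263ae3a22000000000000034c3bc171a34)
 (.cons 24 (nat_lit 0x9472e1000000a7b27b000000173107000000ba1b90)
 (.cons 12 (nat_lit 0xe37000cb80002ab000aa1000d03000a6f0000f2000e0c)
 (.cons 6 (nat_lit 0x2701d03f01600703602602903000602602901503001d00a)
 (.cons 3 (nat_lit 0xc70070810c50070c31870810440050c11821040061840c6)
 (.cons 1 (nat_lit 0x1008049208040000000000208041209040201200001000)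
 (.cons 1 (nat_lit 0x82412092412080402080010412082412092402482082082)
 (.cons 1 (nat_lit 0x48041208000041241001001008240208201240201209240)
 (.cons 3 (nat_lit 0x184180102180000004100002102086100002102186006100)
 (.cons 6 (nat_lit 0x1e00201000802c01002602802c018000020000034016038)
 (.cons 12 (nat_lit 0x99a0009c0000258000baa000b40000328000e02000640)
 (.cons 24 (nat_lit 0xd8e7180000008720c800000065601c000000300b3e)
 (.cons 48 (nat_lit 0x5fe25506863000000000000072ad7be6400c)
 (.cons 96 (nat_lit 0xb9f782fffc7f6b7ef2d6aa26)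
 .nil)))))))))))))))
noncomputable def a7 : Net := (.cons 96 (nat_lit 0x5bd551ff57faff51f708a5a0)
 (.cons 48 (nat_lit 0x22c665956116000000000000ef11828ff084)
 (.cons 24 (nat_lit 0xda8e1f000000853edb000000ca31880000006b0a34)
 (.cons 12 (nat_lit 0x609000c730009520006d40001d5000a7900073d000b66)
 (.cons 6 (nat_lit 0x3c00002e00a02e02901c00702702100003c00f01502501a)
 (.cons 3 (nat_lit 0x1870451841c70020841840420860061431070c30071041c4)
 (.cons 1 (nat_lit 0x40201000008200200200000200001040008048008)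
 (.cons 1 (nat_lit 0x482080082402080412490402480410402082090092090410)
 (.cons 1 (nat_lit 0x9201201001201209201008041009000200001041048200)
 (.cons 3 (nat_lit 0x4080100180182180186182080004080102000084104004)
 (.cons 6 (nat_lit 0x1e01002c00600a02800e02e01400000002400002402800e)
 (.cons 12 (nat_lit 0x498000c12000564000fb2000d0000093000072c000962)
 (.cons 24 (nat_lit 0xd9265800000002b726000000ce48e80000006f1d38)
 (.cons 48 (nat_lit 0x616b21896ab6000000000000ef61924ca6f4)
 (.cons 96 (nat_lit 0x5b99bdf368ffdf66f78e1330)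
 .nil)))))))))))))))
noncomputable def a8 : Net := (.cons 96 (nat_lit 0x75892d5a9cc0eb53153a55a2)
 (.cons 48 (nat_lit 0xd7ca0035be61000000000000b3bcbaf6865c)
 (.cons 24 (nat_lit 0x601b2d00000014d9550000003d93580000004109d2)
 (.cons 12 (nat_lit 0x26c000225000b5b0008ac000940000ad2000b7b000840)
 (.cons 6 (nat_lit 0x1403e00101902a01f01902400b02100a02401702603003e)
 (.cons 3 (nat_lit 0x1861421821050440800c60440830861c6001005182007104)
 (.cons 1 (nat_lit 0x201040001001001008008008041200001000000000001040)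
 (.cons 1 (nat_lit 0x412490092482092010092090092402402002402480082090)
 (.cons 1 (nat_lit 0x241040240049041208248048248001000201249040048008)
 (.cons 3 (nat_lit 0x86004000000080004102080084000002004104000104104)
 (.cons 6 (nat_lit 0x3003c00601c03e00803002000203401a01e010026012038)
 (.cons 12 (nat_lit 0xa18000090000f54000a800008d0000ac0000bac000d40)
 (.cons 24 (nat_lit 0x670b6000000030eccc000000b4f6400000000b2f16)
 (.cons 48 (nat_lit 0xc6cfd3e7501c000000000000b19c91213d6c)
 (.cons 96 (nat_lit 0x75d08095fcd15a172deaed0a)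
 .nil)))))))))))))))
noncomputable def a9 : Net := (.cons 96 (nat_lit 0x4845c5041344841013fc1220)
 (.cons 48 (nat_lit 0xc805fdca0040000000000000c3cd6f2694c4)
 (.cons 24 (nat_lit 0x1c4168000000f27d6c000000d611d2000000e90d30)
 (.cons 12 (nat_lit 0x868000fa80007c0000c28000a20000d44000eea000970)
 (.cons 6 (nat_lit 0x1002401403a01003601803003f010022009036015030)
 (.cons 3 (nat_lit 0x1011001061c0002106082000102180040182082080182004)
 (.cons 1 (nat_lit 0x8040208000208001200000041040008001008048200200)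
 (.cons 1 (nat_lit 0x412480412010410082410080482082490012092492480490)
 (.cons 1 (nat_lit 0x49040200240248009008208041001009201008048208200)
 (.cons 3 (nat_lit 0x104100100000000106082000100006000082006082082004)
 (.cons 6 (nat_lit 0x20010004014012000008000030000010022028036034030)
 (.cons 12 (nat_lit 0x868000fa80006c0000c28000a20000944000b7a000b40)
 (.cons 24 (nat_lit 0x1c6940000000f26d68000000d611d2000000e84700)
 (.cons 48 (nat_lit 0xc805fdca0040000000000000c3cd6f2694c4)
 (.cons 96 (nat_lit 0x4845c5041344841013fc1220)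
 .nil)))))))))))))))
noncomputable def a10 : Net := (.cons 96 (nat_lit 0x14d5cad0500f3bb7ff3f94e0)
 (.cons 48 (nat_lit 0x62c49276b54400000000000078fd7e59ff6c)
 (.cons 24 (nat_lit 0x9b8734000000157881000000c93b2400000001dd34)
 (.cons 12 (nat_lit 0x33f000d7b00083c0004040008b900055b0007ff0000e6)
 (.cons 6 (nat_lit 0x2b00202700c01003202a02d00003900503002701501702a)
 (.cons 3 (nat_lit 0xc70060860401810031450851050860010030431c40c40c0)
 (.cons 1 (nat_lit 0x1201001001001000000200208041048001201040241000)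
 (.cons 1 (nat_lit 0x82402482002082010410490490482090082482482482482)
 (.cons 1 (nat_lit 0x201040000000040048248201200048008041049208200200)
 (.cons 3 (nat_lit 0x104002006000184082104100102084080100102084082080)
 (.cons 6 (nat_lit 0x2402a02200c03402800000e03603000402002001c032004)
 (.cons 12 (nat_lit 0x63800087800002c0007fc0004980001c6000d80000922)
 (.cons 24 (nat_lit 0x99c20000000094e59a000000ca0eb400000021a854)
 (.cons 48 (nat_lit 0x62cd6525340000000000000030c8f6cce4b4)
 (.cons 96 (nat_lit 0x14d8cf1eaf6b2ee11ea518b8)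
 .nil)))))))))))))))
noncomputable def a11 : Net := (.cons 96 (nat_lit 0x5bd551ff57faff51f708a5a0)
 (.cons 48 (nat_lit 0x22c665956116000000000000ef11828ff084)
 (.cons 24 (nat_lit 0xda8e1f000000853edb000000ca31880000006b0a34)
 (.cons 12 (nat_lit 0x609000c730009520006d40001d5000a7900073d000b66)
 (.cons 6 (nat_lit 0x3c00002e00a02e02901c00702702100003c00f01502501a)
 (.cons 3 (nat_lit 0x1870451841c70020841840420860061431070c30071041c4)
 (.cons 1 (nat_lit 0x40201000008200200200000200001040008048008)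
 (.cons 1 (nat_lit 0x482080082402080412490402480410402082090092090410)
 (.cons 1 (nat_lit 0x9201201001201209201008041009000200001041048200)
 (.cons 3 (nat_lit 0x4080100180182180186182080004080102000084104004)
 (.cons 6 (nat_lit 0x1e01002c00600a02800e02e01400000002400002402800e)
 (.cons 12 (nat_lit 0x498000c12000564000fb2000d0000093000072c000962)
 (.cons 24 (nat_lit 0xd9265800000002b726000000ce48e80000006f1d38)
 (.cons 48 (nat_lit 0x616b21896ab6000000000000ef61924ca6f4)
 (.cons 96 (nat_lit 0x5b99bdf368ffdf66f78e1330)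
 .nil)))))))))))))))
noncomputable def a12 : Net := (.cons 96 (nat_lit 0x48d63b6fff577b5b13bff06c)
 (.cons 48 (nat_lit 0xc87f20954470000000000008e40ec458dd0)
 (.cons 24 (nat_lit 0xc0dd20000000e2b2d6000000b413740000009d47de)
 (.cons 12 (nat_lit 0x4c60000c3000ca20005b60006550008eb000e4a000546)
 (.cons 6 (nat_lit 0x3a01001d02700c01f01901103700b00a01a03c01701c038)
 (.cons 3 (nat_lit 0xc40020c00821820831441451c6145087146184140043040)
 (.cons 1 (nat_lit 0x1208040201201008009248041048009001040200241008)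
 (.cons 1 (nat_lit 0x2412080412402010092490492090092092090482482412)
 (.cons 1 (nat_lit 0x200008248008009008001040241000201001240200249208)
 (.cons 3 (nat_lit 0x86006002086082004102006104104182104180084000084)
 (.cons 6 (nat_lit 0x3803800e01c00600803a02000000a00600e03c012020004)
 (.cons 12 (nat_lit 0x48e000708000c8c0003ea000ec000024c000e80000956)
 (.cons 24 (nat_lit 0x80c9b80000006ad6b2000000bc4cf00000006cc380)
 (.cons 48 (nat_lit 0x4442420dfc6c000000000000286c58d93008)
 (.cons 96 (nat_lit 0x48ca61df7f59ffbd0f0df84c)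
 .nil)))))))))))))))
noncomputable def a13 : Net := (.cons 96 (nat_lit 0xcdda1f2ecf6e9b2ef90b8daa)
 (.cons 48 (nat_lit 0x2bc9cb266a730000000000000d202ecb7838)
 (.cons 24 (nat_lit 0x189e6300000040aae2000000ace71b000000bd20c0)
 (.cons 12 (nat_lit 0xafb000aff000c9c00044c0000bd0002f500098600093c)
 (.cons 6 (nat_lit 0x2200d01402800602a01003503c02203601703302a00a01a)
 (.cons 3 (nat_lit 0x831c40821801021460420860440831c00c51810c51011c6)
 (.cons 1 (nat_lit 0x40208208008040200041200200200200040048248000200)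
 (.cons 1 (nat_lit 0x480410490090482412082402482492480490090492080400)
 (.cons 1 (nat_lit 0x49048201049008008040249000248040041209048208000)
 (.cons 3 (nat_lit 0x4180182000180000104000000180082100006180080)
 (.cons 6 (nat_lit 0x3a00800e00200203e00a00403200003201601000c032018)
 (.cons 12 (nat_lit 0x2160000440008800003840008380003b2000a7c00053c)
 (.cons 24 (nat_lit 0x3692f400000049ec70000000a2e862000000edb872)
 (.cons 48 (nat_lit 0x2341ebdad2e00000000000003d51ee3f488a)
 (.cons 96 (nat_lit 0xcdc59d9ad7f3c32b7fe111aa)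
 .nil)))))))))))))))
noncomputable def a14 : Net := (.cons 96 (nat_lit 0x4845c5041344841013fc1220)
 (.cons 48 (nat_lit 0xc805fdca0040000000000000c3cd6f2694c4)
 (.cons 24 (nat_lit 0x1c4168000000f27d6c000000d611d2000000e90d30)
 (.cons 12 (nat_lit 0x868000fa80007c0000c28000a20000d44000eea000970)
 (.cons 6 (nat_lit 0x1002401403a01003601803003f010022009036015030)
 (.cons 3 (nat_lit 0x1011001061c0002106082000102180040182082080182004)
 (.cons 1 (nat_lit 0x8040208000208001200000041040008001008048200200)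
 (.cons 1 (nat_lit 0x412480412010410082410080482082490012092492480490)
 (.cons 1 (nat_lit 0x49040200240248009008208041001009201008048208200)
 (.cons 3 (nat_lit 0x104100100000000106082000100006000082006082082004)
 (.cons 6 (nat_lit 0x20010004014012000008000030000010022028036034030)
 (.cons 12 (nat_lit 0x868000fa80006c0000c28000a20000944000b7a000b40)
 (.cons 24 (nat_lit 0x1c6940000000f26d68000000d611d2000000e84700)
 (.cons 48 (nat_lit 0xc805fdca0040000000000000c3cd6f2694c4)
 (.cons 96 (nat_lit 0x4845c5041344841013fc1220)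
 .nil)))))))))))))))
noncomputable def a15 : Net := (.cons 96 (nat_lit 0xa77a78b6df0ae5fef328a000)
 (.cons 48 (nat_lit 0x376668d5848400000000000095f1c5992a50)
 (.cons 24 (nat_lit 0xc5fd88000000c1e20000000026f54c000000633e70)
 (.cons 12 (nat_lit 0x974000a00000a4a000757000b4c0002010006880004b0)
 (.cons 6 (nat_lit 0x3502c01400103a01801b03100a03a00203202c02000f002)
 (.cons 3 (nat_lit 0x1430001060450040400000021001430450031061c20c7100)
 (.cons 1 (nat_lit 0x48200041048001008001001000208048001208240201040)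
 (.cons 1 (nat_lit 0x90410492490402410482092012492490002490490492080)
 (.cons 1 (nat_lit 0x249048041048041008048240040041208041208241201040)
 (.cons 3 (nat_lit 0x102000106004004000080000000084184000104002004100)
 (.cons 6 (nat_lit 0x801001400c03201800e02400203a002012020020030000)
 (.cons 12 (nat_lit 0x870000a00000a4a000880000b4c00020c0006880004b0)
 (.cons 24 (nat_lit 0xc5fd88000000c1e20000000026f54c000000633e70)
 (.cons 48 (nat_lit 0x356668d4848400000000000095f1c5992a50)
 (.cons 96 (nat_lit 0xa77a78b6df0ae5fef328a000)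
 .nil)))))))))))))))
noncomputable def a16 : Net := (.cons 96 (nat_lit 0x40804100a004008a10d48000)
 (.cons 48 (nat_lit 0x7524db41481400000000000075b6e4ec0200)
 (.cons 24 (nat_lit 0xbe4810000000729090000000299101000000e17728)
 (.cons 12 (nat_lit 0x830000800000249000d30000027000b81000116000620)
 (.cons 6 (nat_lit 0x200c02801c00000c02803002400903103101400003d000)
 (.cons 3 (nat_lit 0x861c50061440841000860011c41071c0082006146143082)
 (.cons 1 (nat_lit 0x8001000008048000040008240048040008201200000008)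
 (.cons 1 (nat_lit 0x412492000410090082080412492092480010402480010012)
 (.cons 1 (nat_lit 0x8008200009048000241001241048000009241041201208)
 (.cons 3 (nat_lit 0x4002000104004100082006002102000002004082002082)
 (.cons 6 (nat_lit 0x3000c02801c00000402803001400c034020010000024000)
 (.cons 12 (nat_lit 0x830000800000248000d30000c56000fd0000116000620)
 (.cons 24 (nat_lit 0x8a4810000000729090000000615610000000e13708)
 (.cons 48 (nat_lit 0x7524db41481400000000000075b6e4ec0200)
 (.cons 96 (nat_lit 0x40804100a004008a10d48000)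
 .nil)))))))))))))))
noncomputable def a17 : Net := (.cons 96 (nat_lit 0xce576fdeadeba227588c909c)
 (.cons 48 (nat_lit 0xcd9f5f9fb9040000000000004d8dedcfb73a)
 (.cons 24 (nat_lit 0xa5158500000058b857000000000655000000312a84)
 (.cons 12 (nat_lit 0x9e8000f3e0008ee00017500020a000918000d51000948)
 (.cons 6 (nat_lit 0x1c00400801d01800f03503800202e02f02901200e00303a)
 (.cons 3 (nat_lit 0x1050810071c20801050421471451831800050451010461c2)
 (.cons 1 (nat_lit 0x40040208000200001001000200208240040040008040040)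
 (.cons 1 (nat_lit 0x92480490090412482412402410492482490490090490490)
 (.cons 1 (nat_lit 0x8209249200000240041040249241041240208001041048)
 (.cons 3 (nat_lit 0x6004080002184104104004080000180004080184)
 (.cons 6 (nat_lit 0x1800c00800801400403602000000000600000a00c038038)
 (.cons 12 (nat_lit 0x7300002a80002c6000492000798000b340006440008bc)
 (.cons 24 (nat_lit 0x2f0fa40000000ae4f400000040f560000000919d20)
 (.cons 48 (nat_lit 0x87854a6423d80000000000004c77757f0f56)
 (.cons 96 (nat_lit 0xce257cb726df9e88fdc1bd20)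
 .nil)))))))))))))))
noncomputable def a18 : Net := (.cons 96 (nat_lit 0xa58b7cb83fc0b0f39382a86a)
 (.cons 48 (nat_lit 0x196f4f64f7f000000000000089b317f4dc6c)
 (.cons 24 (nat_lit 0x8f546e000000be29b3000000c17c51000000c47854)
 (.cons 12 (nat_lit 0x2a60008fa000fb90004ea0005f30006fe000f440001ac)
 (.cons 6 (nat_lit 0x1500802c00200a02d03703e01b01a03901201d037007004)
 (.cons 3 (nat_lit 0x400070460821411841c31051860830400c5006104007080)
 (.cons 1 (nat_lit 0x208001208200008201248201040200041001001048040000)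
 (.cons 1 (nat_lit 0x412082492482092402490492492480082402092090080090)
 (.cons 1 (nat_lit 0x248000208241209009048009201208241049049249000040)
 (.cons 3 (nat_lit 0x180006006100180104080104080100104084100106080000)
 (.cons 6 (nat_lit 0x3002802400800000801601201a02002002001e010004032)
 (.cons 12 (nat_lit 0xb96000ee000029c0002c40005720008d6000ea000040e)
 (.cons 24 (nat_lit 0x8a1450000000bb6472000000889d64000000f84d0c)
 (.cons 48 (nat_lit 0x9d6ce4acffd8000000000000d98b001e475c)
 (.cons 96 (nat_lit 0xa58b27f1f4c87aed1186b24a)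
 .nil)))))))))))))))
noncomputable def a19 : Net := (.cons 96 (nat_lit 0x40804100a004008a10d48000)
 (.cons 48 (nat_lit 0x7524db41481400000000000075b6e4ec0200)
 (.cons 24 (nat_lit 0xbe4810000000729090000000299101000000e17728)
 (.cons 12 (nat_lit 0x830000800000249000d30000027000b81000116000620)
 (.cons 6 (nat_lit 0x200c02801c00000c02803002400903103101400003d000)
 (.cons 3 (nat_lit 0x861c50061440841000860011c41071c0082006146143082)
 (.cons 1 (nat_lit 0x8001000008048000040008240048040008201200000008)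
 (.cons 1 (nat_lit 0x412492000410090082080412492092480010402480010012)
 (.cons 1 (nat_lit 0x8008200009048000241001241048000009241041201208)
 (.cons 3 (nat_lit 0x4002000104004100082006002102000002004082002082)
 (.cons 6 (nat_lit 0x3000c02801c00000402803001400c034020010000024000)
 (.cons 12 (nat_lit 0x830000800000248000d30000c56000fd0000116000620)
 (.cons 24 (nat_lit 0x8a4810000000729090000000615610000000e13708)
 (.cons 48 (nat_lit 0x7524db41481400000000000075b6e4ec0200)
 (.cons 96 (nat_lit 0x40804100a004008a10d48000)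
 .nil)))))))))))))))
noncomputable def ns0 : List Net := [a0, a1, a2]
noncomputable def ws : List (List ℕ) :=
  [W (nat_lit 0x140300403),
  W (nat_lit 0x10180401002),
  W (nat_lit 0xa01c0701c07),
  W (nat_lit 0x240701c0701c0a02807),
  W (nat_lit 0xe0380b),
  W (nat_lit 0x340c),
  W (nat_lit 0x4010),
  W (nat_lit 0xe0380b0340c),
  W (nat_lit 0xd0340c0300c),
  W (nat_lit 0x380e0300d0340c0300e),
  W (nat_lit 0xe0300c0340d02c0d02c0b),
  W (nat_lit 0x340c0340c),
  W (nat_lit 0x300d0300e02c0d0340c),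
  W (nat_lit 0x280a),
  W (nat_lit 0x7028080200902408),
  W (nat_lit 0x842408423),
  W (nat_lit 0x21090240902409024)]
noncomputable def ns : List Net := [a0, a1, a2, a3, a4, a5, a6, a7, a8, a9, a10, a11, a12, a13, a14, a15, a16, a17, a18, a19]
noncomputable def D : List (ℕ × List ℕ) := app [] (mkDefs ws 3)
noncomputable def chk : List (List ℕ × List ℕ) → Bool := P.relsB ns
noncomputable def zt0 : List ℕ :=
  []
noncomputable def zcj1 : List (List ℕ) :=
  []
noncomputable def zus4 : List (List ℕ) :=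
  [[14],
  [16],
  W (nat_lit 0x3c11)]
noncomputable def zF5 : List (List (ℕ × List ℕ)) :=
  [[(1, []),
   (0, [18]),
   (3, [18]),
   (2, [])],
  [(2, []),
   (3, []),
   (0, [18]),
   (1, [18])]]
noncomputable def zus8 : List (List ℕ) :=
  [[10],
  [11],
  [13],
  W (nat_lit 0x2c0b),
  W (nat_lit 0x2c0d),
  W (nat_lit 0x300c),
  W (nat_lit 0x300e),
  W (nat_lit 0x2c0f),
  W (nat_lit 0x3011),
  W (nat_lit 0xb02c0d),
  W (nat_lit 0x2c12),
  W (nat_lit 0xb0340b),
  W (nat_lit 0xb02c10),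
  W (nat_lit 0xb02c0f),
  W (nat_lit 0x3810),
  W (nat_lit 0xc0380c),
  W (nat_lit 0x3010),
  W (nat_lit 0xb03c0d),
  W (nat_lit 0x3013),
  W (nat_lit 0xc0440c),
  W (nat_lit 0xc0440e),
  W (nat_lit 0xc04c0c),
  W (nat_lit 0x2c13),
  W (nat_lit 0xb0480b),
  W (nat_lit 0x2c0d02c0b),
  W (nat_lit 0x2c0b03412)]
noncomputable def zF9 : List (List (ℕ × List ℕ)) :=
  [[(1, []),
   (4, []),
   (0, []),
   (8, [16]),
   (5, W (nat_lit 0x1303c11)),
   (12, []),
   (2, []),
   (6, W (nat_lit 0x1303c11)),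
   (17, W (nat_lit 0x4c0f)),
   (3, W (nat_lit 0x4c0f)),
   (22, [16]),
   (24, []),
   (25, []),
   (18, W (nat_lit 0x1303c11)),
   (13, [14]),
   (11, []),
   (7, []),
   (14, []),
   (23, W (nat_lit 0x1303c11)),
   (20, [16]),
   (9, []),
   (26, []),
   (19, []),
   (10, W (nat_lit 0x3c11)),
   (15, W (nat_lit 0x4c0f)),
   (21, W (nat_lit 0x1303c11)),
   (16, W (nat_lit 0x1303c11))],
  [(1, [16]),
   (5, []),
   (3, W (nat_lit 0x4c0f)),
   (0, []),
   (10, []),
   (13, []),
   (14, W (nat_lit 0x4c11)),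
   (2, []),
   (18, []),
   (20, [16]),
   (23, W (nat_lit 0x4c0f)),
   (4, []),
   (25, W (nat_lit 0x4c11)),
   (12, [14]),
   (17, [16]),
   (6, W (nat_lit 0x4c0f)),
   (7, W (nat_lit 0x4c11)),
   (11, []),
   (19, W (nat_lit 0x4c0f)),
   (8, [16]),
   (15, W (nat_lit 0x1303c11)),
   (9, []),
   (16, [18]),
   (24, []),
   (21, W (nat_lit 0x4c0f)),
   (26, []),
   (22, [16])]]
noncomputable def zrs12 : List (ℕ × List ℕ) :=
  [(21, [6]),
  (56, W (nat_lit 0x200b01c07)),
  (110, W (nat_lit 0x802c0701c07))]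
noncomputable def G_w1_1_v0 : Lev :=
  ⟨21, 27, sg (W (nat_lit 0x2c0d02c0b0340b0340b)), [[20], [22]], 7, 2⟩
noncomputable def G_w1_1_v1 : Lev :=
  ⟨4, 8, sg (W (nat_lit 0x541505c15)), [], 9, 0⟩
noncomputable def G_w1_1_vs2 : List Lev :=
  []
noncomputable def G_w1_1_vs1 : List Lev :=
  G_w1_1_v1 :: G_w1_1_vs2
noncomputable def G_w1_1_vs : List Lev :=
  G_w1_1_v0 :: G_w1_1_vs1
noncomputable def zcj14 : List (List ℕ) :=
  [W (nat_lit 0x3011),
  W (nat_lit 0xf02c0f)]
noncomputable def G_w1_2_v0 : Lev :=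
  ⟨56, 27, sg (W (nat_lit 0x340b0340b0340b0340b)), [[24], [26]], 9, 2⟩
noncomputable def G_w1_2_v1 : Lev :=
  ⟨1, 8, sg (W (nat_lit 0x641906c19)), [], 11, 0⟩
noncomputable def G_w1_2_vs2 : List Lev :=
  []
noncomputable def G_w1_2_vs1 : List Lev :=
  G_w1_2_v1 :: G_w1_2_vs2
noncomputable def G_w1_2_vs : List Lev :=
  G_w1_2_v0 :: G_w1_2_vs1
noncomputable def zcj18 : List (List ℕ) :=
  [W (nat_lit 0x1102c0f),
  W (nat_lit 0x440c)]
noncomputable def G_w1_3_v0 : Lev :=
  ⟨110, 1, sg [], [[10], [12]], 11, 0⟩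
noncomputable def G_w1_3_v1 : Lev :=
  ⟨3, 36, sg (W (nat_lit 0x2c0b0340b0340b0340b)), [[28], [30]], 11, 2⟩
noncomputable def G_w1_3_v2 : Lev :=
  ⟨5, 6, sg (W (nat_lit 0x1d07c1d)), [], 13, 0⟩
noncomputable def G_w1_3_vs3 : List Lev :=
  []
noncomputable def G_w1_3_vs2 : List Lev :=
  G_w1_3_v2 :: G_w1_3_vs3
noncomputable def G_w1_3_vs1 : List Lev :=
  G_w1_3_v1 :: G_w1_3_vs2
noncomputable def G_w1_3_vs : List Lev :=
  G_w1_3_v0 :: G_w1_3_vs1
noncomputable def zcj22 : List (List ℕ) :=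
  [W (nat_lit 0x4c0f0440c0440e),
  W (nat_lit 0x3c0c04c0c)]
noncomputable def zB25 : List BG :=
  [⟨[7], [([20], W (nat_lit 0x3011)), ([22], W (nat_lit 0xf02c0f))],
  [([⟨[], W (nat_lit 0xc0440e), 1, W (nat_lit 0x4c0c0440e)⟩], []),
   ([⟨[], [], 0, []⟩,
    ⟨[10], W (nat_lit 0x3411), 2, W (nat_lit 0x1302c13)⟩,
    ⟨[11], W (nat_lit 0xc0300c), 2, W (nat_lit 0x4c0f)⟩,
    ⟨W (nat_lit 0xb02c0d), [10], 1, W (nat_lit 0x440b0480b)⟩,
    ⟨W (nat_lit 0xb0340b), W (nat_lit 0x2c0b), 1, W (nat_lit 0x4c0f0300e)⟩,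
    ⟨W (nat_lit 0xc0380c), W (nat_lit 0x300c), 1, W (nat_lit 0xf02c0d02c0b)⟩], W (nat_lit 0x40100801)),
   ([⟨[], W (nat_lit 0xb04c0c), 2, W (nat_lit 0x3c0e)⟩,
    ⟨[12], W (nat_lit 0xb0340b), 1, W (nat_lit 0x3011)⟩,
    ⟨W (nat_lit 0x2c0b), W (nat_lit 0x3410), 2, W (nat_lit 0x130440c04c0c)⟩,
    ⟨W (nat_lit 0x300c), W (nat_lit 0x3c0e), 2, W (nat_lit 0x4c0f0440b02c10)⟩,
    ⟨W (nat_lit 0x380c), W (nat_lit 0x300e), 1, W (nat_lit 0x2c13)⟩,
    ⟨W (nat_lit 0xd02c0d), [], 3, W (nat_lit 0xf0440c0440e)⟩], W (nat_lit 0x40100801)),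
   ([⟨[], [], 2, []⟩], [])]⟩]
noncomputable def zE26 : List (ℕ × List ℕ) :=
  [(8, W (nat_lit 0x130440c0440c0200b01c07))]
noncomputable def G_v0 : Lev :=
  ⟨0, 120, sg (W (nat_lit 0x10040100c0100c0100c0100c0100c01)), [[6], [8]], 0, 2⟩
noncomputable def G_v1 : Lev :=
  ⟨2, 56, sg (W (nat_lit 0x1c0701c070240701c0901c0702407)), [[10], [12]], 2, 2⟩
noncomputable def G_v2 : Lev :=
  ⟨1, 27, sg (W (nat_lit 0x2c0d02c0b0340b0340b)), [[14], [16]], 4, 2⟩
noncomputable def G_v3 : Lev :=
  ⟨3, 4, sg (W (nat_lit 0x440f)), [[18]], 6, 1⟩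
noncomputable def G_v4 : Lev :=
  ⟨4, 2, sg [18], [], 7, 0⟩
noncomputable def G_vs5 : List Lev :=
  []
noncomputable def G_vs4 : List Lev :=
  G_v4 :: G_vs5
noncomputable def G_vs3 : List Lev :=
  G_v3 :: G_vs4
noncomputable def G_vs2 : List Lev :=
  G_v2 :: G_vs3
noncomputable def G_vs1 : List Lev :=
  G_v1 :: G_vs2
noncomputable def G_vs : List Lev :=
  G_v0 :: G_vs1
noncomputable def zrs32 : List (ℕ × List ℕ) :=
  [(1, W (nat_lit 0x401c04)),
  (2, [2])]
noncomputable def G_w0_1_v0 : Lev :=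
  ⟨1, 63, sg (W (nat_lit 0x240702407024070240702407)), [[32], [34]], 13, 2⟩
noncomputable def G_w0_1_v1 : Lev :=
  ⟨6, 32, sg (W (nat_lit 0x2108c230842308c2108c2108c23)), [[36], [38]], 15, 2⟩
noncomputable def G_w0_1_v2 : Lev :=
  ⟨2, 6, sg (W (nat_lit 0x2509c25)), [], 17, 0⟩
noncomputable def G_w0_1_vs3 : List Lev :=
  []
noncomputable def G_w0_1_vs2 : List Lev :=
  G_w0_1_v2 :: G_w0_1_vs3
noncomputable def G_w0_1_vs1 : List Lev :=
  G_w0_1_v1 :: G_w0_1_vs2
noncomputable def G_w0_1_vs : List Lev :=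
  G_w0_1_v0 :: G_w0_1_vs1
noncomputable def zcj34 : List (List ℕ) :=
  [W (nat_lit 0x4c110301103807),
  W (nat_lit 0x1303c1102c1201c0c)]
noncomputable def zcj37 : List (List ℕ) :=
  [W (nat_lit 0x4c0b02c0f01c0a),
  W (nat_lit 0x4c0f02c0b0341202411)]
noncomputable def zB40 : List BG :=
  [⟨[3], [([10], W (nat_lit 0x4c0b02c0f01c0a)), ([12], W (nat_lit 0x4c0f02c0b0341202411))],
  [([⟨[], W (nat_lit 0x280d), 2, W (nat_lit 0x30100280d)⟩], []),
   ([⟨[], W (nat_lit 0x2409), 2, W (nat_lit 0x1303c1102c1201c07)⟩,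
    ⟨[6], W (nat_lit 0x2c0b), 1, W (nat_lit 0x4c110301303008)⟩], W (nat_lit 0x100801008010080100801)),
   ([⟨[], [], 0, []⟩,
    ⟨[6], W (nat_lit 0x2c13), 1, W (nat_lit 0x2c0b034120280b)⟩,
    ⟨[8], W (nat_lit 0x1c0a), 2, W (nat_lit 0x4c0f02c0b0400702408)⟩,
    ⟨W (nat_lit 0x200a), W (nat_lit 0x70240f), 2, W (nat_lit 0x1302c0d02c0b01c09)⟩], W (nat_lit 0x100801008010080100801))]⟩]
noncomputable def zE41 : List (ℕ × List ℕ) :=
  [(0, W (nat_lit 0x401c04)),
  (4, [])]
noncomputable def zE46 : Net :=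
  .nil
noncomputable def zK47 : Lk :=
  ⟨zE46, 1, 3, 1⟩
noncomputable def zE50 : Net :=
  (.cons 96 (nat_lit 0xffffffffffffffffff000000)
 (.cons 48 (nat_lit 0x1ffffffff000000000000000000ffffff)
 (.cons 24 (nat_lit 0xfffe00000000fffe00000000ffffff000000ffffff)
 (.cons 12 (nat_lit 0x1ff0001ff0001ff0001ff0001ff000000000000000000)
 (.cons 6 (nat_lit 0x38038038038038038038038038038000000000000000000)
 (.cons 3 (nat_lit 0x1c71c71c71c71c71c71c71c71c71c7000000000000000000)
 (.cons 24 (nat_lit 0xff8000000000000000)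
 (.cons 96 (nat_lit 0xff8000000000000000000000)
 .nil))))))))
noncomputable def zK51 : Lk :=
  ⟨zE50, 1, 3, 1⟩

theorem zb2 : bnd (pcB D [] 2 zt0 zcj1) (leB (app D []) [[18]] ([18] :: [])) = true := by decide +kernel
theorem zr3 : chk (pcR [] [18] 2 zt0 zcj1) = true := by decide +kernel
theorem zb6 : schB D [[14], [16]] [[18]] zus4 zF5 4 = true := by decide +kernel
theorem zr7 : chk (schR [[14], [16]] zus4 zF5) = true := by decide +kernel
theorem zb10 : schB D [[10], [12]] [[14], [16]] zus8 zF9 27 = true := by decide +kernel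
theorem zr11 : chk (schR [[10], [12]] zus8 zF9) = true := by decide +kernel
theorem zc13 : P.chainB ns D G_w1_1_vs [[10], [12]] = true := by decide +kernel
theorem zb15 : wdB D [[10], [12]] G_w1_1_v0.nx zcj14 = true := by decide +kernel
theorem zr16 : chk (wdR G_w1_1_v0.nx [6] zcj14) = true := by decide +kernel
theorem zc17 : P.chainB ns D G_w1_2_vs [[10], [12]] = true := by decide +kernel
theorem zb19 : wdB D [[10], [12]] G_w1_2_v0.nx zcj18 = true := by decide +kernel
theorem zr20 : chk (wdR G_w1_2_v0.nx (W (nat_lit 0x200b01c07)) zcj18) = true := by decide +kernel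
theorem zc21 : P.chainB ns D G_w1_3_vs [[10], [12]] = true := by decide +kernel
theorem zb23 : wdB D [[10], [12]] G_w1_3_v0.nx zcj22 = true := by decide +kernel
theorem zr24 : chk (wdR G_w1_3_v0.nx (W (nat_lit 0x802c0701c07)) zcj22) = true := by decide +kernel
theorem zb27 : bB P.n P.N ns (app D zE26) [[6], [8]] [[10], [12]] 2 zrs12 zB25 = true := by decide +kernel
theorem zc28 : P.chainB ns D G_vs [[0], [2], [4]] = true := by decide +kernel
theorem zb29 : P.invSz ns [[6], [8]] 2 (orbM P.N ns G_v1) 56 = true := by decide +kernel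
theorem zr30 : chk (bR 2 zrs12 zB25) = true := by decide +kernel
theorem zr31 : chk (defRels zE26) = true := by decide +kernel
theorem zc33 : P.chainB ns D G_w0_1_vs [[6], [8]] = true := by decide +kernel
theorem zb35 : wdB D [[6], [8]] G_w0_1_v0.nx zcj34 = true := by decide +kernel
theorem zr36 : chk (wdR G_w0_1_v0.nx (W (nat_lit 0x401c04)) zcj34) = true := by decide +kernel
theorem zb38 : wdB D [[6], [8]] G_v1.nx zcj37 = true := by decide +kernel
theorem zr39 : chk (wdR G_v1.nx [2] zcj37) = true := by decide +kernel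
theorem zb42 : bB P.n P.N ns (app D zE41) [[0], [2], [4]] [[6], [8]] 0 zrs32 zB40 = true := by decide +kernel
theorem zb43 : P.invSz ns [[0], [2], [4]] 0 (orbM P.N ns G_v0) 120 = true := by decide +kernel
theorem zr44 : chk (bR 0 zrs32 zB40) = true := by decide +kernel
theorem zr45 : chk (defRels zE41) = true := by decide +kernel
theorem zl48 : zK47.relB CL.Co3M.HAux.S.P CL.Co3M.HAux.T.P CL.Co3M.HAux.S.ns [[0], [2], [4]] [[0], [2], [4]] = true := by decide +kernel
theorem zl49 : allL (zK47.pl CL.Co3M.HAux.S.P CL.Co3M.HAux.T.P CL.Co3M.HAux.S.ns CL.Co3M.HAux.T.ns 0) (zp [] [[0], [2], [4]] [[0], [2], [4]]) = true := by decide +kernel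
theorem zl52 : zK51.relB CL.Co3M.HAux.S.P CL.Std.PS62.P CL.Co3M.HAux.S.ns [[0], [2], [4]] [[0], [2]] = true := by decide +kernel
theorem zl53 : allL (zK51.pl CL.Co3M.HAux.S.P CL.Std.PS62.P CL.Co3M.HAux.S.ns CL.Std.PS62.ns 0) (zp [] [[0], [2], [4]] [[0], [2]]) = true := by decide +kernel
theorem zk54 : allL (keepB P.n P.N) ns0 = true := by decide +kernel
theorem ze55 : extB ns0 ns 3 ws [] = true := by decide +kernel
theorem zn56 : P.netsB ns (mkDefs ws 3) = true := by decide +kernel

section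
variable {G X : Type*} [Group G] [MulAction G X] {e : ℕ → X} {gs : List G}

theorem keep0 : allL (keepB P.n P.N) ns0 = true := zk54

theorem len {k} (c : Ctx P e gs ns0 [] k) : gs.length = 3 := c.len ze55

theorem ctx0 {k} (c : Ctx P e gs ns0 [] k) : Ctx P e (ext gs ws) ns D chk0 :=
  c.ext rfl ze55 zn56

theorem ctx {k} (c : Ctx P e gs ns0 [] k) {H : Subgroup G} (hF : Faithful e P.n H) (hH : ∀ g ∈ gs, g ∈ H) :
    Ctx P e (ext gs ws) ns D chk :=
  (ctx0 c).withB hF (mem_of_mem_ext hH _)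

instance instNe : NeZero P.n := ⟨by decide⟩
noncomputable def gs0 : List (Equiv.Perm (Fin P.n)) := permsOf P.n P.N ns0
noncomputable def gs1 : List (Equiv.Perm (Fin P.n)) := ext gs0 ws
theorem c1 : Ctx P (eF P.n) gs1 ns D chk :=
  ctx (ctx_permsOf hP keep0) (faithful_eF _) fun _ _ => trivial

theorem G_u4 (c : Ctx P e gs ns D chk) :
    UB (subW gs [[18]]) 2 :=
  (c.pc_step (UB.nil gs) (Rels.nil _)
    (c.rels _ zr3) zb2).le (by decide)

theorem G_u3 (c : Ctx P e gs ns D chk) :
    UB (subW gs [[14], [16]]) 8 :=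
  (c.sch_step (G_u4 c)
    (c.rels _ zr7) zb6).le (by decide)

theorem G_u2 (c : Ctx P e gs ns D chk) :
    UB (subW gs [[10], [12]]) 216 :=
  (c.sch_step (G_u3 c)
    (c.rels _ zr11) zb10).le (by decide)

theorem G_w1_1_c : P.chainB ns D G_w1_1_vs [[10], [12]] = true :=
  zc13

theorem G_w1_1_o : prodL G_w1_1_vs 1 = 216 := by decide +kernel

theorem G_w1_2_c : P.chainB ns D G_w1_2_vs [[10], [12]] = true :=
  zc17

theorem G_w1_2_o : prodL G_w1_2_vs 1 = 216 := by decide +kernel

theorem G_w1_3_c : P.chainB ns D G_w1_3_vs [[10], [12]] = true :=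
  zc21

theorem G_w1_3_o : prodL G_w1_3_vs 1 = 216 := by decide +kernel

theorem G_u1w (c : Ctx P e gs ns D chk) :
    AllWd e gs [[10], [12]] zrs12 :=
  ⟨c.wd (v := G_w1_1_v0) (vs := G_w1_1_vs1) (G_u2 c) G_w1_1_c G_w1_1_o
      (c.rels _ zr16) zb15,
    ⟨c.wd (v := G_w1_2_v0) (vs := G_w1_2_vs1) (G_u2 c) G_w1_2_c G_w1_2_o
      (c.rels _ zr20) zb19,
    ⟨c.wd (v := G_w1_3_v0) (vs := G_w1_3_vs1) (G_u2 c) G_w1_3_c G_w1_3_o
      (c.rels _ zr24) zb23,
    trivial⟩⟩⟩

theorem G_c : P.chainB ns D G_vs [[0], [2], [4]] = true :=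
  zc28

theorem G_o : prodL G_vs 1 = 1451520 := by decide +kernel

theorem G_u1 (c : Ctx P e gs ns D chk) :
    UB (subW gs [[6], [8]]) 12096 :=
  (c.b_step (G_u2 c) (G_u1w c) (c.rels _ zr31)
    (c.rels _ zr30) zb27 zb29).le (by decide)

theorem G_w0_1_c : P.chainB ns D G_w0_1_vs [[6], [8]] = true :=
  zc33

theorem G_w0_1_o : prodL G_w0_1_vs 1 = 12096 := by decide +kernel

theorem G_u0w (c : Ctx P e gs ns D chk) :
    AllWd e gs [[6], [8]] zrs32 :=
  ⟨c.wd (v := G_w0_1_v0) (vs := G_w0_1_vs1) (G_u1 c) G_w0_1_c G_w0_1_o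
      (c.rels _ zr36) zb35,
    ⟨c.wd (v := G_v1) (vs := G_vs2) (G_u1 c) (Par.chainB_tail G_c) (by decide +kernel)
      (c.rels _ zr39) zb38,
    trivial⟩⟩

theorem G_u0 (c : Ctx P e gs ns D chk) :
    UB (subW gs [[0], [2], [4]]) 1451520 :=
  (c.b_step (G_u1 c) (G_u0w c) (c.rels _ zr45)
    (c.rels _ zr44) zb42 zb43).le (by decide)

theorem G_ub (c : Ctx P e gs ns D chk) :
    UB (subW gs [[0], [2], [4]]) 1451520 :=
  (G_u0 c)

theorem toT {Γ Y : Type*} [Group Γ] [MulAction Γ Y] {e' : ℕ → Y} {cs : List Γ} {D₁ D₂ : List (ℕ × List ℕ)}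
    {k₁ k₂ : List (List ℕ × List ℕ) → Bool} (c : Ctx CL.Co3M.HAux.S.P e gs CL.Co3M.HAux.S.ns D₁ k₁) (c' : Ctx CL.Co3M.HAux.T.P e' cs CL.Co3M.HAux.T.ns D₂ k₂)
    (hF : Faithful e' CL.Co3M.HAux.T.P.n (subW cs [[0], [2], [4]])) :
    RelLe gs [[0], [2], [4]] cs [[0], [2], [4]] :=
  c.relLe (K := zK47) c' hF zl48 (fun (t : ℕ) (ht : t < 1) => match t, ht with
    | 0, _ => zl49
    | t + 1, h => absurd h (by omega))

theorem toB {Γ Y : Type*} [Group Γ] [MulAction Γ Y] {e' : ℕ → Y} {cs : List Γ} {D₁ D₂ : List (ℕ × List ℕ)}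
    {k₁ k₂ : List (List ℕ × List ℕ) → Bool} (c : Ctx CL.Co3M.HAux.S.P e gs CL.Co3M.HAux.S.ns D₁ k₁) (c' : Ctx CL.Std.PS62.P e' cs CL.Std.PS62.ns D₂ k₂)
    (hF : Faithful e' CL.Std.PS62.P.n (subW cs [[0], [2]])) :
    RelLe gs [[0], [2], [4]] cs [[0], [2]] :=
  c.relLe (K := zK51) c' hF zl52 (fun (t : ℕ) (ht : t < 1) => match t, ht with
    | 0, _ => zl53
    | t + 1, h => absurd h (by omega))

theorem rel {Γ Y : Type*} [Group Γ] [MulAction Γ Y] {e' : ℕ → Y} {cs : List Γ} {D₂ : List (ℕ × List ℕ)}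
    {k₂ : List (List ℕ × List ℕ) → Bool} (c' : Ctx CL.Std.PS62.P e' cs CL.Std.PS62.ns D₂ k₂) (hF : Faithful e' CL.Std.PS62.P.n (subW cs [[0], [2]])) :
    RelLe CL.Co3M.HAux.T.gs1 [[0], [2], [4]] cs [[0], [2]] :=
  ((toT c1 CL.Co3M.HAux.T.c1 ((faithful_eF _).mono le_top)).symm_of_card (G_ub c1) (CL.Co3M.HAux.T.G_lb CL.Co3M.HAux.T.c1)).trans (toB c1 c' hF)

end
end CL.Co3M.HAux.S

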