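/-
Auxiliary models for the centraliser of a `2`-central involution of `Co3`.
Generated by tools/pg.
-/
import Cfsg.Agent.Spor.PGCtx
import Cfsg.Agent.Spor.PGSub
import Cfsg.Agent.Spor.StdPS62

set_option autoImplicit false
set_option maxRecDepth 200000
set_option Elab.async false
set_option linter.unusedVariables false

namespace CL.Co3R.Aux.T
open CL.PG

def P : Par := ⟨72, 80, 7, 3⟩
theorem hP : P.Ok := by decide
noncomputable def a0 : Net := (.cons 40 (nat_lit 0xb6b12b8000)
 (.cons 20 (nat_lit 0x8734d00000aaa58)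
 (.cons 10 (nat_lit 0x470000400284001a0)
 (.cons 5 (nat_lit 0x5810010180400a02404)
 (.cons 1 (nat_lit 0x40000000)
 (.cons 1 (nat_lit 0x140500020290000000)
 (.cons 1 (nat_lit 0x10a5284242908000420)
 (.cons 1 (nat_lit 0x204a1284a1294a02948)
 (.cons 1 (nat_lit 0x424014a028485010a1)
 (.cons 5 (nat_lit 0x8040000a060100380c)
 (.cons 10 (nat_lit 0x2540017600020000f0)
 (.cons 20 (nat_lit 0xb3a0600000eb40c)
 (.cons 40 (nat_lit 0xb677542d00)
 .nil)))))))))))))
noncomputable def a1 : Net := (.cons 40 (nat_lit 0x4950edb8e8)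
 (.cons 20 (nat_lit 0xc52300000ed822)
 (.cons 10 (nat_lit 0x340022c002b700398)
 (.cons 5 (nat_lit 0x2c1b0580d018180180b)
 (.cons 1 (nat_lit 0x800000400)
 (.cons 1 (nat_lit 0x21020084a1004002942)
 (.cons 1 (nat_lit 0x14a5010a421084214a4)
 (.cons 1 (nat_lit 0x94a0284a5094212848)
 (.cons 1 (nat_lit 0x84a009084010a5200a5)
 (.cons 5 (nat_lit 0x280c06004000100781e)
 (.cons 10 (nat_lit 0x36000a2002ca00310)
 (.cons 20 (nat_lit 0x45084000006d5a0)
 (.cons 40 (nat_lit 0x498d5eb2ee)
 .nil)))))))))))))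
noncomputable def a2 : Net := .nil
noncomputable def a3 : Net := (.cons 40 (nat_lit 0x4df3552aa6)
 (.cons 20 (nat_lit 0x6ed7900000068b4)
 (.cons 10 (nat_lit 0x121001530004b001b8)
 (.cons 5 (nat_lit 0x101c034030080c0280e)
 (.cons 1 (nat_lit 0xa0000000000009020)
 (.cons 1 (nat_lit 0x2148501005010012840)
 (.cons 1 (nat_lit 0x10a528085200a021480)
 (.cons 1 (nat_lit 0x94a520425014252942)
 (.cons 1 (nat_lit 0x2142000081004a021400)
 (.cons 5 (nat_lit 0x201007008048020500c)
 (.cons 10 (nat_lit 0x4000120004200214)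
 (.cons 20 (nat_lit 0x638f80000026cc8)
 (.cons 40 (nat_lit 0x4d2fb5fa0a)
 .nil)))))))))))))
noncomputable def a4 : Net := (.cons 40 (nat_lit 0xfabc391c4c)
 (.cons 20 (nat_lit 0xbd5fc00000debdc)
 (.cons 10 (nat_lit 0x3b80031a003a200226)
 (.cons 5 (nat_lit 0x3c04054130500405008)
 (.cons 1 (nat_lit 0x401000000000400000)
 (.cons 1 (nat_lit 0x2942408081200a42008)
 (.cons 1 (nat_lit 0x1484290242142529484)
 (.cons 1 (nat_lit 0x529481284a4094a5284a)
 (.cons 1 (nat_lit 0x9000294210042508484)
 (.cons 5 (nat_lit 0x1010050140481400000)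
 (.cons 10 (nat_lit 0x28600078003b800232)
 (.cons 20 (nat_lit 0xa760800000da000)
 (.cons 40 (nat_lit 0xfae701ed80)
 .nil)))))))))))))
noncomputable def a5 : Net := (.cons 40 (nat_lit 0xe151228bd8)
 (.cons 20 (nat_lit 0x2ebc000000c0930)
 (.cons 10 (nat_lit 0x2a8003f70029600330)
 (.cons 5 (nat_lit 0x181f0300e07c1307818)
 (.cons 1 (nat_lit 0x400004a0010a0)
 (.cons 1 (nat_lit 0x210a408000094002940)
 (.cons 1 (nat_lit 0x2148421400294a0014a0)
 (.cons 1 (nat_lit 0x4284a528421294810940)
 (.cons 1 (nat_lit 0x940408004014a021420)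
 (.cons 5 (nat_lit 0x810028080601805018)
 (.cons 10 (nat_lit 0x338002b6001dc00328)
 (.cons 20 (nat_lit 0xaeb8000000c0f80)
 (.cons 40 (nat_lit 0xe11d4cadd8)
 .nil)))))))))))))
noncomputable def a6 : Net := (.cons 40 (nat_lit 0x6e78ebe916)
 (.cons 20 (nat_lit 0xedf2a000006d5d2)
 (.cons 10 (nat_lit 0x2a9001230008e0020a)
 (.cons 5 (nat_lit 0xc080000901c0404806)
 (.cons 1 (nat_lit 0x20001000010840000000)
 (.cons 1 (nat_lit 0x5000a0004a1280200100)
 (.cons 1 (nat_lit 0x29484010842102401084)
 (.cons 1 (nat_lit 0x5290a0094a428480214a)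
 (.cons 1 (nat_lit 0x28421290800042501480)
 (.cons 5 (nat_lit 0x4814008100301004804)
 (.cons 10 (nat_lit 0x33000038003a80004c)
 (.cons 20 (nat_lit 0xabcda00000ec296)
 (.cons 40 (nat_lit 0x6e6c95b556)
 .nil)))))))))))))
noncomputable def a7 : Net := (.cons 40 (nat_lit 0x8825e05900)
 (.cons 20 (nat_lit 0x6882000000d8090)
 (.cons 10 (nat_lit 0x12400374003d4001c0)
 (.cons 5 (nat_lit 0x400a054140201600010)
 (.cons 1 (nat_lit 0x1200a000400)
 (.cons 1 (nat_lit 0x28000280a5014a02800)
 (.cons 1 (nat_lit 0x140521084280a401480)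
 (.cons 1 (nat_lit 0x28025290a5294a02900)
 (.cons 1 (nat_lit 0x20085200a5200a420480)
 (.cons 5 (nat_lit 0x4008050140201600010)
 (.cons 10 (nat_lit 0x104003600019400180)
 (.cons 20 (nat_lit 0x6882000000d8090)
 (.cons 40 (nat_lit 0x8825e05900)
 .nil)))))))))))))
noncomputable def a8 : Net := (.cons 40 (nat_lit 0x6a78e1d5d8)
 (.cons 20 (nat_lit 0xeaa800000090f00)
 (.cons 10 (nat_lit 0x2e700203000310031a)
 (.cons 5 (nat_lit 0x80d0200c01c0c0541a)
 (.cons 1 (nat_lit 0x8000000000040008400)
 (.cons 1 (nat_lit 0x50002100004284850848)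
 (.cons 1 (nat_lit 0x20005200202108421084)
 (.cons 1 (nat_lit 0x50802500485290252942)
 (.cons 1 (nat_lit 0x8404280250008528484)
 (.cons 5 (nat_lit 0xc0000e0101401000)
 (.cons 10 (nat_lit 0x1e4002960006200242)
 (.cons 20 (nat_lit 0xa2a800000000040)
 (.cons 40 (nat_lit 0x6a8c849088)
 .nil)))))))))))))
noncomputable def a9 : Net := (.cons 40 (nat_lit 0x950449140)
 (.cons 20 (nat_lit 0x315b800000a0600)
 (.cons 10 (nat_lit 0x18c000c1003a4003f8)
 (.cons 5 (nat_lit 0xc150300805c0204800)
 (.cons 1 (nat_lit 0x200940000000)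
 (.cons 1 (nat_lit 0x14a5280050000)
 (.cons 1 (nat_lit 0x21000842940021080)
 (.cons 1 (nat_lit 0x420014a5290052108)
 (.cons 1 (nat_lit 0x294212902028400014a0)
 (.cons 5 (nat_lit 0x200004800)
 (.cons 10 (nat_lit 0x18c000c0003a4002f8)
 (.cons 20 (nat_lit 0x315b800000a0600)
 (.cons 40 (nat_lit 0x950449140)
 .nil)))))))))))))
noncomputable def ns0 : List Net := [a0, a1, a2]
noncomputable def ws : List (List ℕ) :=
  [W (nat_lit 0x4040080300c02014020100400404),
  W (nat_lit 0x201005014040100100404),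
  W (nat_lit 0x20090200a02808),
  W (nat_lit 0xa02808020090200802407),
  W (nat_lit 0xc0340d0300c),
  W (nat_lit 0x3c0d03c0e),
  W (nat_lit 0xf0381003410)]
noncomputable def ns : List Net := [a0, a1, a2, a3, a4, a5, a6, a7, a8, a9]
noncomputable def D : List (ℕ × List ℕ) := app [] (mkDefs ws 3)
noncomputable def chk : List (List ℕ × List ℕ) → Bool := P.relsB ns
noncomputable def G_v0 : Lev :=
  ⟨0, 72, sg (W (nat_lit 0x30040100c0100c0100c0100c01)), [[6], [8]], 0, 2⟩
noncomputable def G_v1 : Lev :=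
  ⟨2, 35, sg (W (nat_lit 0x702407024070240702407)), [[10], [12]], 2, 2⟩
noncomputable def G_v2 : Lev :=
  ⟨5, 16, sg (W (nat_lit 0xb02c0d02c0d02c0b)), [[14], [12]], 4, 1⟩
noncomputable def G_v3 : Lev :=
  ⟨17, 6, sg (W (nat_lit 0x340f0340f)), [[16], [18]], 5, 2⟩
noncomputable def G_v4 : Lev :=
  ⟨41, 2, sg [18], [[16]], 7, 0⟩
noncomputable def G_v5 : Lev :=
  ⟨4, 3, sg (W (nat_lit 0x4411)), [], 7, 0⟩
noncomputable def G_vs6 : List Lev :=
  []
noncomputable def G_vs5 : List Lev :=
  G_v5 :: G_vs6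
noncomputable def G_vs4 : List Lev :=
  G_v4 :: G_vs5
noncomputable def G_vs3 : List Lev :=
  G_v3 :: G_vs4
noncomputable def G_vs2 : List Lev :=
  G_v2 :: G_vs3
noncomputable def G_vs1 : List Lev :=
  G_v1 :: G_vs2
noncomputable def G_vs : List Lev :=
  G_v0 :: G_vs1

theorem zc0 : P.chainB ns D G_vs [[0], [2], [4]] = true := by decide +kernel
theorem zk1 : allL (keepB P.n P.N) ns0 = true := by decide +kernel
theorem ze2 : extB ns0 ns 3 ws [] = true := by decide +kernel
theorem zn3 : P.netsB ns (mkDefs ws 3) = true := by decide +kernel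

section
variable {G X : Type*} [Group G] [MulAction G X] {e : ℕ → X} {gs : List G}

theorem keep0 : allL (keepB P.n P.N) ns0 = true := zk1

theorem len {k} (c : Ctx P e gs ns0 [] k) : gs.length = 3 := c.len ze2

theorem ctx0 {k} (c : Ctx P e gs ns0 [] k) : Ctx P e (ext gs ws) ns D chk0 :=
  c.ext rfl ze2 zn3

theorem ctx {k} (c : Ctx P e gs ns0 [] k) {H : Subgroup G} (hF : Faithful e P.n H) (hH : ∀ g ∈ gs, g ∈ H) :
    Ctx P e (ext gs ws) ns D chk :=
  (ctx0 c).withB hF (mem_of_mem_ext hH _)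

instance instNe : NeZero P.n := ⟨by decide⟩
noncomputable def gs0 : List (Equiv.Perm (Fin P.n)) := permsOf P.n P.N ns0
noncomputable def gs1 : List (Equiv.Perm (Fin P.n)) := ext gs0 ws
theorem c1 : Ctx P (eF P.n) gs1 ns D chk :=
  ctx (ctx_permsOf hP keep0) (faithful_eF _) fun _ _ => trivial

theorem G_c : P.chainB ns D G_vs [[0], [2], [4]] = true :=
  zc0

theorem G_o : prodL G_vs 1 = 1451520 := by decide +kernel

theorem G_lb (c : Ctx P e gs ns D chk) :
    LB (subW gs [[0], [2], [4]]) 1451520 :=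
  c.lb G_c G_o

end
end CL.Co3R.Aux.T

namespace CL.Co3R.Aux.S
open CL.PG

def P : Par := ⟨135, 160, 8, 3⟩
theorem hP : P.Ok := by decide
noncomputable def a0 : Net := (.cons 80 (nat_lit 0xff000000000000000000)
 (.cons 40 (nat_lit 0xb2978f5f4d0000000000b6b12b8000)
 (.cons 20 (nat_lit 0x4d350000005d34a000008734d00000aaa58)
 (.cons 10 (nat_lit 0x360002620013000226000470000400284001a0)
 (.cons 5 (nat_lit 0x700805c170000003c1305810010180400a02404)
 (.cons 1 (nat_lit 0x2800008081000000800000000000000040000000)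
 (.cons 1 (nat_lit 0x50100101420000a5000000140500020290000000)
 (.cons 1 (nat_lit 0x29080200a40042429080010a5284242908000420)
 (.cons 1 (nat_lit 0x52040408484084a509000204a1284a1294a02948)
 (.cons 1 (nat_lit 0x80802108120400294a000424014a028485010a1)
 (.cons 5 (nat_lit 0x5008040000200405012008040000a060100380c)
 (.cons 10 (nat_lit 0x280026a0033800222002540017600020000f0)
 (.cons 20 (nat_lit 0x48b48000005d34c00000b3a0600000eb40c)
 (.cons 40 (nat_lit 0xeb978f41200000000000b677542d00)
 (.cons 80 (nat_lit 0xff000000000000000000)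
 .nil)))))))))))))))
noncomputable def a1 : Net := (.cons 80 (nat_lit 0xff000000000000000000)
 (.cons 40 (nat_lit 0x732ba12b5a00000000004950edb8e8)
 (.cons 20 (nat_lit 0xfd9d800000e0fdc000000c52300000ed822)
 (.cons 10 (nat_lit 0x240013e0031c00167000340022c002b700398)
 (.cons 5 (nat_lit 0x81203005044020400202c1b0580d018180180b)
 (.cons 1 (nat_lit 0x400010000000000000000000800000400)
 (.cons 1 (nat_lit 0x2800108000280052800021020084a1004002942)
 (.cons 1 (nat_lit 0x1004210210140421481014a5010a421084214a4)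
 (.cons 1 (nat_lit 0x280a5214252808508420094a0284a5094212848)
 (.cons 1 (nat_lit 0x80800102501085284a1084a009084010a5200a5)
 (.cons 5 (nat_lit 0x814030100300a040020280c06004000100781e)
 (.cons 10 (nat_lit 0x64001220029c0014200036000a2002ca00310)
 (.cons 20 (nat_lit 0xff95000000433980000045084000006d5a0)
 (.cons 40 (nat_lit 0xa32ba148020000000000498d5eb2ee)
 (.cons 80 (nat_lit 0xff000000000000000000)
 .nil)))))))))))))))
noncomputable def a2 : Net := .nil
noncomputable def a3 : Net := (.cons 80 (nat_lit 0xff000000000000000000)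
 (.cons 40 (nat_lit 0x87ad00781e00000000008ff8535f22)
 (.cons 20 (nat_lit 0x86240000008e10e00000cdc5a00000885a0)
 (.cons 10 (nat_lit 0x190002660026600238002fa001d40029d001c0)
 (.cons 5 (nat_lit 0x58080740c05c040641503818054160701301816)
 (.cons 1 (nat_lit 0x8400200200000000000084000900100000)
 (.cons 1 (nat_lit 0x5010052800501405004002900109005280a0010a)
 (.cons 1 (nat_lit 0x2008029000280a0294a0214a0290a521424210a4)
 (.cons 1 (nat_lit 0x5014852902501405284840840521425284a1284a)
 (.cons 1 (nat_lit 0x800028401290a0204a0004a120420280a000404)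
 (.cons 5 (nat_lit 0x4808030040680c0581407808010100501200810)
 (.cons 10 (nat_lit 0x190002660026600030000e6001d60019e000cc)
 (.cons 20 (nat_lit 0x84200000004b52c00000c1e6200000e84c4)
 (.cons 40 (nat_lit 0x77ad00291000000000008f3c3a6a7a)
 (.cons 80 (nat_lit 0xff000000000000000000)
 .nil)))))))))))))))
noncomputable def a4 : Net := (.cons 80 (nat_lit 0xff000000000000000000)
 (.cons 40 (nat_lit 0xe4db248f040000000000eb17dbb9b0)
 (.cons 20 (nat_lit 0xc619200000a1f98000000239900000a9f60)
 (.cons 10 (nat_lit 0x19e000ef00153000b0000270009d00031001a0)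
 (.cons 5 (nat_lit 0x3402038190140c0401406007060080400307004)
 (.cons 1 (nat_lit 0x40000000000050000400400080000800008000)
 (.cons 1 (nat_lit 0x2800020021010a0014a02840500005000050800)
 (.cons 1 (nat_lit 0x1484014a4284850008509080200052800021400)
 (.cons 1 (nat_lit 0x28484284a5294a021421290a5004a5004850848)
 (.cons 1 (nat_lit 0x10a0000a42848108001090a100401084a009080)
 (.cons 5 (nat_lit 0x380e018180401c04000050080001c0180605004)
 (.cons 10 (nat_lit 0x13e002c2000c6002f8002aa003ca00260001b0)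
 (.cons 20 (nat_lit 0x845a00000036ddc00000c1e6a00000ad560)
 (.cons 40 (nat_lit 0xafdb24a8080000000000eb798618d4)
 (.cons 80 (nat_lit 0xff000000000000000000)
 .nil)))))))))))))))
noncomputable def a5 : Net := (.cons 80 (nat_lit 0xf7000000000000000000)
 (.cons 40 (nat_lit 0xffff80000000000000000cb5572f90)
 (.cons 20 (nat_lit 0x82aa800000aaf8500000d0fe700000fc6d0)
 (.cons 10 (nat_lit 0xec002630009c0009800040001300019e001f0)
 (.cons 5 (nat_lit 0x6c100740c058080701306803024150141d05000)
 (.cons 1 (nat_lit 0x400000000002000020000000000108000)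
 (.cons 1 (nat_lit 0x1014052802020080014200840001005000252800)
 (.cons 1 (nat_lit 0x200a02900529405000a50108408080214a529080)
 (.cons 1 (nat_lit 0x50048529021290a521420290a129405284a52900)
 (.cons 1 (nat_lit 0x200202048000005200040800028001200a501080)
 (.cons 5 (nat_lit 0x400c0381c040080101006000030100100407000)
 (.cons 10 (nat_lit 0x19c0006400198000dc0021200138001f6001b0)
 (.cons 20 (nat_lit 0x8104000000fef8400000d03ec000004e400)
 (.cons 40 (nat_lit 0xffff80000000000000000c36d41390)
 (.cons 80 (nat_lit 0xf7000000000000000000)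
 .nil)))))))))))))))
noncomputable def a6 : Net := (.cons 80 (nat_lit 0xff000000000000000000)
 (.cons 40 (nat_lit 0x9acd6062d6000000000030b3a0ce0c)
 (.cons 20 (nat_lit 0xfa7d000000646200000044a2600000b0f34)
 (.cons 10 (nat_lit 0x150003b1001200017a00118002d60035e00220)
 (.cons 5 (nat_lit 0x200405c1a01410058140381c07c0f0040007418)
 (.cons 1 (nat_lit 0x100020000200042000000080a0)
 (.cons 1 (nat_lit 0x200a500404000a0094000140529404000010140)
 (.cons 1 (nat_lit 0x21404204a0280a401081210812948021081200a4)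
 (.cons 1 (nat_lit 0x1080a5084a5004a4214212142129405094240148)
 (.cons 1 (nat_lit 0x20400004a5000a109024200240002501080084a4)
 (.cons 5 (nat_lit 0x100501e010180700a0100c060080600c01018)
 (.cons 10 (nat_lit 0x15600388001200038c0005800094001880010c)
 (.cons 20 (nat_lit 0xf879000000bc60000000444340000033828)
 (.cons 40 (nat_lit 0x69cd6051620000000000308dfd845c)
 (.cons 80 (nat_lit 0xff000000000000000000)
 .nil)))))))))))))))
noncomputable def a7 : Net := (.cons 80 (nat_lit 0xff000000000000000000)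
 (.cons 40 (nat_lit 0x798555986100000000005024a3e5ae)
 (.cons 20 (nat_lit 0x6e50500000d62680000031cb70000013dda)
 (.cons 10 (nat_lit 0x4200038000d0003c7000d90035d002e60020a)
 (.cons 5 (nat_lit 0x441c0181507410040190601e0681d064180100e)
 (.cons 1 (nat_lit 0x40000020004200000000000000010000500080)
 (.cons 1 (nat_lit 0x90010140008420000a400025200a0080a02142)
 (.cons 1 (nat_lit 0x2108428080210842140421004210a521005010a4)
 (.cons 1 (nat_lit 0x12142101401210a4080a108085084a5200a4284a)
 (.cons 1 (nat_lit 0x2840521000094a00040120001084a5214a401484)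
 (.cons 5 (nat_lit 0x401c0200207010000020601e02014020080601c)
 (.cons 10 (nat_lit 0x420000a000d0003d4000980022c0024200238)
 (.cons 20 (nat_lit 0x2fd4400000502c800000714e60000031a86)
 (.cons 40 (nat_lit 0xba8555a880000000000050cbf101ae)
 (.cons 80 (nat_lit 0xff000000000000000000)
 .nil)))))))))))))))
noncomputable def a8 : Net := (.cons 80 (nat_lit 0xef000000000000000000)
 (.cons 40 (nat_lit 0x4b4a2034c000000000000950449140)
 (.cons 20 (nat_lit 0xed070000008785800000315b800000a0600)
 (.cons 10 (nat_lit 0x200009200200003e00018c000c1003a4003f8)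
 (.cons 5 (nat_lit 0x40005414070100400100c150300805c0204800)
 (.cons 1 (nat_lit 0x100000000000200940000000)
 (.cons 1 (nat_lit 0xa02800501400280a000000014a5280050000)
 (.cons 1 (nat_lit 0x429420280850140400021000842940021080)
 (.cons 1 (nat_lit 0x4a12942501420290a000420014a5290052108)
 (.cons 1 (nat_lit 0x1000280202000500000294212902028400014a0)
 (.cons 5 (nat_lit 0x6014050100500000000000000200004800)
 (.cons 10 (nat_lit 0x200009200000003a00018c000c0003a4002f8)
 (.cons 20 (nat_lit 0xee070000008785800000315b800000a0600)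
 (.cons 40 (nat_lit 0x4a20004000000000000950449140)
 (.cons 80 (nat_lit 0xef000000000000000000)
 .nil)))))))))))))))
noncomputable def a9 : Net := (.cons 80 (nat_lit 0xfe000000000000000000)
 (.cons 40 (nat_lit 0x4067015f9800000000006a8c849088)
 (.cons 20 (nat_lit 0x1e1e000000e061e00000a2a800000000040)
 (.cons 10 (nat_lit 0x170002180001f001a600203000690005100242)
 (.cons 5 (nat_lit 0x140000006058100300d00c0003800040130641e)
 (.cons 1 (nat_lit 0x2000000000000010000000020000000040000400)
 (.cons 1 (nat_lit 0x50000020000000a0000010140001005094042848)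
 (.cons 1 (nat_lit 0x2900001420094040100128081090a02108429084)
 (.cons 1 (nat_lit 0x52140008401080a0080210142121405214a1294a)
 (.cons 1 (nat_lit 0x2108009400094010100108020084800102029404)
 (.cons 5 (nat_lit 0x100004004010100200400802030080001802004)
 (.cons 10 (nat_lit 0x3200026000218001a8001000017c000400031a)
 (.cons 20 (nat_lit 0x1e1e000000e1e1800000eaa800000090f00)
 (.cons 40 (nat_lit 0x406701598000000000006a78e1d5d8)
 (.cons 80 (nat_lit 0xfe000000000000000000)
 .nil)))))))))))))))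
noncomputable def a10 : Net := (.cons 80 (nat_lit 0xff000000000000000000)
 (.cons 40 (nat_lit 0xe02002180000000000046d2fa85a8)
 (.cons 20 (nat_lit 0xec00400000d6d0e00000487d10000021e78)
 (.cons 10 (nat_lit 0x6c001d700230003e7001a100319002fa0007c)
 (.cons 5 (nat_lit 0x500c03c1b05804008130400b028160400502c18)
 (.cons 1 (nat_lit 0x2000000000a008020004000000000020)
 (.cons 1 (nat_lit 0x400005014000002501405014a008080000002040)
 (.cons 1 (nat_lit 0x28000200a1010a4210a021085010240140021080)
 (.cons 1 (nat_lit 0x50040509420284a529485094a0294a1284240948)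
 (.cons 1 (nat_lit 0x8080004a121481204a429025010040148129404)
 (.cons 5 (nat_lit 0x500c0181a0580204818040080680e0000000018)
 (.cons 10 (nat_lit 0x68002c60012c000f4001800021c0027c0015c)
 (.cons 20 (nat_lit 0xec00400000858080000008f0000000a8720)
 (.cons 40 (nat_lit 0xa020010d0000000000046c5ba1348)
 (.cons 80 (nat_lit 0xff000000000000000000)
 .nil)))))))))))))))
noncomputable def a11 : Net := (.cons 80 (nat_lit 0xff000000000000000000)
 (.cons 40 (nat_lit 0x9999e4666600000000005af204c4c8)
 (.cons 20 (nat_lit 0xcfc88000003130a00000aca1500000a7ec0)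
 (.cons 10 (nat_lit 0x1d8000d80012000249000fd00023002c40021c)
 (.cons 5 (nat_lit 0x301a028080240804c0c01c0001c0b0281701804)
 (.cons 1 (nat_lit 0x200200848000000000200000108000)
 (.cons 1 (nat_lit 0x280010002520401294010048101404090a50800)
 (.cons 1 (nat_lit 0x10002100529484214a0290a4280802108421480)
 (.cons 1 (nat_lit 0x294042902509424294012842101481214a52900)
 (.cons 1 (nat_lit 0x1484280002040528400204a5284040140109400)
 (.cons 5 (nat_lit 0x201806010020080181c00810030180701605000)
 (.cons 10 (nat_lit 0xd0000d4001600029c0032400122002c00030c)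
 (.cons 20 (nat_lit 0xc8c02000003230a00000b6e700000022380)
 (.cons 40 (nat_lit 0x9999e4666600000000005af919b178)
 (.cons 80 (nat_lit 0xff000000000000000000)
 .nil)))))))))))))))
noncomputable def a12 : Net := (.cons 80 (nat_lit 0xfb000000000000000000)
 (.cons 40 (nat_lit 0x400358034800000000009e7b315800)
 (.cons 20 (nat_lit 0x6080000001e14000000ac86800000b34a0)
 (.cons 10 (nat_lit 0x2400000003820036200122002360014800384)
 (.cons 5 (nat_lit 0x101504013000080000d06807040090281b0480c)
 (.cons 1 (nat_lit 0x1400080000000001000080000000100400)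
 (.cons 1 (nat_lit 0x2800500005004002940500005010202800)
 (.cons 1 (nat_lit 0x10800148521004210a10148020085200a401020)
 (.cons 1 (nat_lit 0x4210002842508425204202948500425004a42840)
 (.cons 1 (nat_lit 0x9080014a4090040140121000080a4014a108424)
 (.cons 5 (nat_lit 0x100400802000000080600004002028000480c)
 (.cons 10 (nat_lit 0xb000000002880026200360000320014800384)
 (.cons 20 (nat_lit 0x6080000001e14000000a886800000b3420)
 (.cons 40 (nat_lit 0x400358034800000000009e7b315800)
 (.cons 80 (nat_lit 0xfb000000000000000000)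
 .nil)))))))))))))))
noncomputable def a13 : Net := (.cons 80 (nat_lit 0x80000000000000000000)
 (.cons 40 (nat_lit 0xffff800000000000000008ec906b88)
 (.cons 20 (nat_lit 0xffb3000000c8000000003b01100000a4110)
 (.cons 10 (nat_lit 0x9000333001000030800174002760008200084)
 (.cons 5 (nat_lit 0x101a05c190000802014010070581d040000681c)
 (.cons 1 (nat_lit 0x1020004a008000000000000000000000a000000)
 (.cons 1 (nat_lit 0x294a429425000000000000000280a0014000000)
 (.cons 1 (nat_lit 0x1484214a420000000000000021004200a400024)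
 (.cons 1 (nat_lit 0x294a5294a5000040048028004284a4214202148)
 (.cons 1 (nat_lit 0x10202142408004010002000029004204a428024)
 (.cons 5 (nat_lit 0x12008000000802014010000581c040000681c)
 (.cons 10 (nat_lit 0x90000cc001000010000174002760008200084)
 (.cons 20 (nat_lit 0xfb30000000c8000000003301000000a4110)
 (.cons 40 (nat_lit 0xffff800000000000000008ec906b88)
 (.cons 80 (nat_lit 0x80000000000000000000)
 .nil)))))))))))))))
noncomputable def a14 : Net := (.cons 80 (nat_lit 0x80000000000000000000)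
 (.cons 40 (nat_lit 0x7f80007f0000000000e1d1031cfe)
 (.cons 20 (nat_lit 0x87b00000004ffb400000fe86800000c38ac)
 (.cons 10 (nat_lit 0xb000381002040004e000b7000e1001be00142)
 (.cons 5 (nat_lit 0x6808070170440405800014050740e0141604802)
 (.cons 1 (nat_lit 0x8000004200040000000080000000000420000a0)
 (.cons 1 (nat_lit 0x501400094040800500025000a000025094850140)
 (.cons 1 (nat_lit 0x20480010a5294a02800521405010a529084200a0)
 (.cons 1 (nat_lit 0x509400294252940120025280a128421214250948)
 (.cons 1 (nat_lit 0x2040001404200a10000001480280a00108529084)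
 (.cons 5 (nat_lit 0x680007004070100300000814048060080206800)
 (.cons 10 (nat_lit 0xa00018000034000440028400328000ec001a4)
 (.cons 20 (nat_lit 0x87b0000000807b000000fec48000009a216)
 (.cons 40 (nat_lit 0x807f80000000000000009978722e7e)
 (.cons 80 (nat_lit 0x80000000000000000000)
 .nil)))))))))))))))
noncomputable def a15 : Net := (.cons 80 (nat_lit 0x7b000000000000000000)
 (.cons 40 (nat_lit 0x400b2094600000000000001c5f6020)
 (.cons 20 (nat_lit 0x7202800000bb40900000204980000027580)
 (.cons 10 (nat_lit 0x3800124003080022d000c00036e002e000020)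
 (.cons 5 (nat_lit 0x200a02812020080700a00015058180540604000)
 (.cons 1 (nat_lit 0x8000)
 (.cons 1 (nat_lit 0x12800000005080a00000500000000050000)
 (.cons 1 (nat_lit 0x29000294200040521485000a1280050948020480)
 (.cons 1 (nat_lit 0x1200012942008025094a100425210a5284850900)
 (.cons 1 (nat_lit 0x290a028020014010148000025004252848108480)
 (.cons 5 (nat_lit 0x200a02812020080700a00008058180200204000)
 (.cons 10 (nat_lit 0x3800124000040020c000c00036e002e000020)
 (.cons 20 (nat_lit 0x7202800000fa00800000204980000027580)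
 (.cons 40 (nat_lit 0x400b2094600000000000001c5f6020)
 (.cons 80 (nat_lit 0x7b000000000000000000)
 .nil)))))))))))))))
noncomputable def a16 : Net := (.cons 80 (nat_lit 0xfb000000000000000000)
 (.cons 40 (nat_lit 0x5d8248334d0000000000ed192760fe)
 (.cons 20 (nat_lit 0x4cc00000001728200000abd2100000084b2)
 (.cons 10 (nat_lit 0xc40022a003ac001c8001b2001050030b0030c)
 (.cons 5 (nat_lit 0x28000700c0300903c0d0501e0281c04c1907802)
 (.cons 1 (nat_lit 0x40000000000000008008000010000108000000)
 (.cons 1 (nat_lit 0x4080002802021020094812000128080294002040)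
 (.cons 1 (nat_lit 0x210000908401484014a42108521425014a001480)
 (.cons 1 (nat_lit 0x120405290a4294a109425090a428420284200900)
 (.cons 1 (nat_lit 0x21420080a1004840102508085290250902021480)
 (.cons 5 (nat_lit 0x680405010030040281c070000281c0681e02000)
 (.cons 10 (nat_lit 0xc00011a002bc001e000396000040030200380)
 (.cons 20 (nat_lit 0xcc404000005775000000efca00000008502)
 (.cons 40 (nat_lit 0x6c82483b480000000000ed400fd1de)
 (.cons 80 (nat_lit 0xfb000000000000000000)
 .nil)))))))))))))))
noncomputable def a17 : Net := (.cons 80 (nat_lit 0xfb000000000000000000)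
 (.cons 40 (nat_lit 0x8007b04c830000000000ad40777888)
 (.cons 20 (nat_lit 0x83300000003784c00000bf5c700000224aa)
 (.cons 10 (nat_lit 0x13c00216002c40002e002c2003f1002c20034c)
 (.cons 5 (nat_lit 0x601e0001b03410058010480b06c01018030280e)
 (.cons 1 (nat_lit 0x400020004000000000020004000000100400)
 (.cons 1 (nat_lit 0x4000a02842508004280250140528080080200800)
 (.cons 1 (nat_lit 0x28005014842940021485210a5294a40148401000)
 (.cons 1 (nat_lit 0x5000a00948128081290a521425294a4084802900)
 (.cons 1 (nat_lit 0xa401024090002840408084090200042008480)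
 (.cons 5 (nat_lit 0x401e0000c000100000c0400a020040180006808)
 (.cons 10 (nat_lit 0x13c00206001c0002ac002a600164002c20034c)
 (.cons 20 (nat_lit 0x83300000007834c000001fc340000022482)
 (.cons 40 (nat_lit 0x8307b004b00000000000ad53377888)
 (.cons 80 (nat_lit 0xfb000000000000000000)
 .nil)))))))))))))))
noncomputable def a18 : Net := (.cons 80 (nat_lit 0x80000000000000000000)
 (.cons 40 (nat_lit 0x7f00000000005c6dc14400)
 (.cons 20 (nat_lit 0x80000000008780000000275b800000e8000)
 (.cons 10 (nat_lit 0x28000081002e20009c0007c0008e00000)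
 (.cons 5 (nat_lit 0x3011070140581f01c1d004110301400000)
 (.cons 1 (nat_lit 0x200002001000000a1000200002000000)
 (.cons 1 (nat_lit 0x14a50140128480014a0014a0014200000)
 (.cons 1 (nat_lit 0x48528081214a5280a4000842008528000)
 (.cons 1 (nat_lit 0x94250942529421094a0214a4094250100)
 (.cons 1 (nat_lit 0x204040042009025014a100085200a029000)
 (.cons 5 (nat_lit 0x3000050140000e02008000020101400000)
 (.cons 10 (nat_lit 0x28000002001d00009c0007c0008e00000)
 (.cons 20 (nat_lit 0x80000000008780000000275b800000e8000)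
 (.cons 40 (nat_lit 0x800000000000000000005c6dc14400)
 (.cons 80 (nat_lit 0x80000000000000000000)
 .nil)))))))))))))))
noncomputable def a19 : Net := (.cons 80 (nat_lit 0x80000000000000000000)
 (.cons 40 (nat_lit 0x400000778000000000007c02f68420)
 (.cons 20 (nat_lit 0xbb04800000d0fc80000000880)
 (.cons 10 (nat_lit 0xc00248000cd003dc0014a0012a000c0)
 (.cons 5 (nat_lit 0x10040100740f01800010100241004000)
 (.cons 1 (nat_lit 0x200000028001004000008108000)
 (.cons 1 (nat_lit 0x4250140128005014a028000014a52800)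
 (.cons 1 (nat_lit 0x14a521084294a12948401484000a421000)
 (.cons 1 (nat_lit 0x4000002842509481294a5094a028485014a52900)
 (.cons 1 (nat_lit 0x14a0010250002529481284850108509020)
 (.cons 5 (nat_lit 0x40100601000800010100201004000)
 (.cons 10 (nat_lit 0xc002480004c003dc001420012800040)
 (.cons 20 (nat_lit 0xbb04800000d0fc80000000880)
 (.cons 40 (nat_lit 0x400000778000000000007c02f68420)
 (.cons 80 (nat_lit 0x80000000000000000000)
 .nil)))))))))))))))
noncomputable def a20 : Net := (.cons 40 (nat_lit 0x5fff8000000000000000046015b060)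
 (.cons 20 (nat_lit 0x5ffc80000040000000001189a000008b2a8)
 (.cons 10 (nat_lit 0x178003bf001000008000050003880003200008)
 (.cons 5 (nat_lit 0xc080700a0000801002028180101d0601401804)
 (.cons 1 (nat_lit 0x4000000008401000000000400000080a0)
 (.cons 1 (nat_lit 0x80a000005280a001401000a0000050140)
 (.cons 1 (nat_lit 0x2808001005200002140401080290a501004214a0)
 (.cons 1 (nat_lit 0x1090052802400005280a021401214a4204852940)
 (.cons 1 (nat_lit 0x2040001401200040842121081290a401404094a4)
 (.cons 5 (nat_lit 0x80100a000080100202018010140601401004)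
 (.cons 10 (nat_lit 0x16000284001000008000050003880001200008)
 (.cons 20 (nat_lit 0x5c8000000040000000001189a000008b2a8)
 (.cons 40 (nat_lit 0x5fff8000000000000000046015b060)
 .nil)))))))))))))
noncomputable def a21 : Net := (.cons 80 (nat_lit 0xfb000000000000000000)
 (.cons 40 (nat_lit 0xb04b3004fb0000000000b436be5814)
 (.cons 20 (nat_lit 0xb0030000003304c0000028f330000022f50)
 (.cons 10 (nat_lit 0x1b00002a0016000087002440037b001ac003c8)
 (.cons 5 (nat_lit 0x1409068160480402c100401b038040240d0141e)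
 (.cons 1 (nat_lit 0x401000000000000000000000000100020)
 (.cons 1 (nat_lit 0x280240000128404000250840008020084a)
 (.cons 1 (nat_lit 0x80042940421020290a5200a4290842942409084)
 (.cons 1 (nat_lit 0x120025290812940128425004a529481094a1210a)
 (.cons 1 (nat_lit 0x900420080200a0010240000021405280a521420)
 (.cons 5 (nat_lit 0x10080280c020040300e0501002006020100580e)
 (.cons 10 (nat_lit 0x1b0000660006800382000a6002a20010a001d8)
 (.cons 20 (nat_lit 0xb348000000b03480000018d300000020f44)
 (.cons 40 (nat_lit 0x804b304cb00000000000b46f573314)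
 (.cons 80 (nat_lit 0xfb000000000000000000)
 .nil)))))))))))))))
noncomputable def a22 : Net := (.cons 80 (nat_lit 0x80000000000000000000)
 (.cons 40 (nat_lit 0x7f80007fff00000000009978722e7e)
 (.cons 20 (nat_lit 0x7b400000cfb0000000fec49000009a216)
 (.cons 10 (nat_lit 0x340001e00368003800017b00087000ec0025a)
 (.cons 5 (nat_lit 0x580400002060040701b0641d0180d074020381a)
 (.cons 1 (nat_lit 0x100020)
 (.cons 1 (nat_lit 0x80000002529000200a0280a008004094240940)
 (.cons 1 (nat_lit 0x14a401005214a001485090a4294052148429084)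
 (.cons 1 (nat_lit 0x528480080a528400284a1294a109425294a52942)
 (.cons 1 (nat_lit 0x284a40100008025014a1090a128080080a028080)
 (.cons 5 (nat_lit 0x20100000000804070080201a038020681605012)
 (.cons 10 (nat_lit 0x204000140037800380003480020e001be002bc)
 (.cons 20 (nat_lit 0x7fb400000cfb0000000de86800000c38ac)
 (.cons 40 (nat_lit 0xff80007f800000000000e1d1031cfe)
 (.cons 80 (nat_lit 0x80000000000000000000)
 .nil)))))))))))))))
noncomputable def a23 : Net := (.cons 80 (nat_lit 0x80000000000000000000)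
 (.cons 40 (nat_lit 0x7f80007fff00000000009d125b2228)
 (.cons 20 (nat_lit 0x7f83400000cfb00000005a31b00000f6950)
 (.cons 10 (nat_lit 0x30002a50020500380001db00386001ef00054)
 (.cons 5 (nat_lit 0x70000180c00c040701f01c08010160441700816)
 (.cons 1 (nat_lit 0xa00040008400000010800001000)
 (.cons 1 (nat_lit 0x28005000000148008401090a408025280812800)
 (.cons 1 (nat_lit 0x900420425014a5010a0210a4210a52100529424)
 (.cons 1 (nat_lit 0x528085284240942029405204a5284a5280a1284a)
 (.cons 1 (nat_lit 0x2800400005084a40140129401290a52800521420)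
 (.cons 5 (nat_lit 0x700003806028100700e0001c05808000180001a)
 (.cons 10 (nat_lit 0x30003660003e0038000308000b8003c20019c)
 (.cons 20 (nat_lit 0x7803400000cfb000000059afc000009f8d0)
 (.cons 40 (nat_lit 0xff80007f800000000000e512b1f108)
 (.cons 80 (nat_lit 0x80000000000000000000)
 .nil)))))))))))))))
noncomputable def a24 : Net := (.cons 80 (nat_lit 0x80000000000000000000)
 (.cons 40 (nat_lit 0xff8000000000000000000805f01400)
 (.cons 20 (nat_lit 0x5f800000008000000000bb6ea000009d804)
 (.cons 10 (nat_lit 0x6e002800016600374001200009200004)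
 (.cons 5 (nat_lit 0x70050101800c10008080280d0501806000)
 (.cons 1 (nat_lit 0x8000000000000000000014000002000000)
 (.cons 1 (nat_lit 0x5000a000001200050140028005014000000)
 (.cons 1 (nat_lit 0x200002900400484210a020480014802008020000)
 (.cons 1 (nat_lit 0x400005094a008485094852940129425214042800)
 (.cons 1 (nat_lit 0x210000900000484010a120481204800808020000)
 (.cons 5 (nat_lit 0x70040101806010008080100c0401806000)
 (.cons 10 (nat_lit 0x2200280001620035400120000e000004)
 (.cons 20 (nat_lit 0x5f800000008000000000bb6ea000009d804)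
 (.cons 40 (nat_lit 0xff8000000000000000000805f01400)
 (.cons 80 (nat_lit 0x80000000000000000000)
 .nil)))))))))))))))
noncomputable def a25 : Net := (.cons 80 (nat_lit 0x80000000000000000000)
 (.cons 40 (nat_lit 0x400000778000000000007c02f68420)
 (.cons 20 (nat_lit 0xbb04800000d0fc80000000880)
 (.cons 10 (nat_lit 0xc00248000cd003dc0014a0012a000c0)
 (.cons 5 (nat_lit 0x10040100740f01800010100241004000)
 (.cons 1 (nat_lit 0x200000028001004000008108000)
 (.cons 1 (nat_lit 0x4250140128005014a028000014a52800)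
 (.cons 1 (nat_lit 0x14a521084294a12948401484000a421000)
 (.cons 1 (nat_lit 0x4000002842509481294a5094a028485014a52900)
 (.cons 1 (nat_lit 0x14a0010250002529481284850108509020)
 (.cons 5 (nat_lit 0x40100601000800010100201004000)
 (.cons 10 (nat_lit 0xc002480004c003dc001420012800040)
 (.cons 20 (nat_lit 0xbb04800000d0fc80000000880)
 (.cons 40 (nat_lit 0x400000778000000000007c02f68420)
 (.cons 80 (nat_lit 0x80000000000000000000)
 .nil)))))))))))))))
noncomputable def a26 : Net := (.cons 80 (nat_lit 0xff000000000000000000)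
 (.cons 40 (nat_lit 0x5b46c14c3e0000000000bfe455d428)
 (.cons 20 (nat_lit 0x3c6aa00000dc7c60000055a57000003b678)
 (.cons 10 (nat_lit 0x36a00075001aa0007600023001de000f6001c0)
 (.cons 5 (nat_lit 0x404038190301f0000b04c0b044090040601000)
 (.cons 1 (nat_lit 0x4010800100004200010000000020)
 (.cons 1 (nat_lit 0x50800000000290a500420200a500020210042940)
 (.cons 1 (nat_lit 0x2140020000210a5210a4014a528084014a121480)
 (.cons 1 (nat_lit 0x50900101004294a5084a00842100480084212948)
 (.cons 1 (nat_lit 0x1000080202148109005294a0084052900120420)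
 (.cons 5 (nat_lit 0x20100701a06008048000000a0100005800)
 (.cons 10 (nat_lit 0x32a00014002aa0024c0033c003fc00090000c0)
 (.cons 20 (nat_lit 0x3c68a00000d6c4400000560c6000003ba50)
 (.cons 40 (nat_lit 0x2846c158f00000000000bf726d53f8)
 (.cons 80 (nat_lit 0xff000000000000000000)
 .nil)))))))))))))))
noncomputable def a27 : Net := (.cons 80 (nat_lit 0xff000000000000000000)
 (.cons 40 (nat_lit 0xe1e19c1e1e00000000004c62084c98)
 (.cons 20 (nat_lit 0x849d800000b949400000d3d630000054e0c)
 (.cons 10 (nat_lit 0x2980011d001a80003000245002810005000278)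
 (.cons 5 (nat_lit 0x48080001f03c060381000819044020581801408)
 (.cons 1 (nat_lit 0x2000000004000002000000)
 (.cons 1 (nat_lit 0x1200000840008080004a40100428080014a00000)
 (.cons 1 (nat_lit 0x29485010800102428085200a5290a40148401480)
 (.cons 1 (nat_lit 0x5084202908028421094a1084a5284a1294a12840)
 (.cons 1 (nat_lit 0x2908500020014240008029001084012108009420)
 (.cons 5 (nat_lit 0x1000040160280c020140081a000040700005004)
 (.cons 10 (nat_lit 0x1c00031000198002300014c003320001000250)
 (.cons 20 (nat_lit 0xc2dc800000af410000009f0d200000d4624)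
 (.cons 40 (nat_lit 0xe1e19c1e1e00000000004c78c9daf8)
 (.cons 80 (nat_lit 0xff000000000000000000)
 .nil)))))))))))))))
noncomputable def a28 : Net := (.cons 80 (nat_lit 0x7b000000000000000000)
 (.cons 40 (nat_lit 0x400b2094600000000000001c5f6020)
 (.cons 20 (nat_lit 0x7202800000bb40900000204980000027580)
 (.cons 10 (nat_lit 0x3800124003080022d000c00036e002e000020)
 (.cons 5 (nat_lit 0x200a02812020080700a00015058180540604000)
 (.cons 1 (nat_lit 0x8000)
 (.cons 1 (nat_lit 0x12800000005080a00000500000000050000)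
 (.cons 1 (nat_lit 0x29000294200040521485000a1280050948020480)
 (.cons 1 (nat_lit 0x1200012942008025094a100425210a5284850900)
 (.cons 1 (nat_lit 0x290a028020014010148000025004252848108480)
 (.cons 5 (nat_lit 0x200a02812020080700a00008058180200204000)
 (.cons 10 (nat_lit 0x3800124000040020c000c00036e002e000020)
 (.cons 20 (nat_lit 0x7202800000fa00800000204980000027580)
 (.cons 40 (nat_lit 0x400b2094600000000000001c5f6020)
 (.cons 80 (nat_lit 0x7b000000000000000000)
 .nil)))))))))))))))
noncomputable def a29 : Net := (.cons 80 (nat_lit 0xfb000000000000000000)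
 (.cons 40 (nat_lit 0x334b00400000000004d090c4004)
 (.cons 20 (nat_lit 0xb000000000cf800000000441c0000013f00)
 (.cons 10 (nat_lit 0x13000351002800005a00184002c40007000380)
 (.cons 5 (nat_lit 0x100901413010080600e0081c068020281006804)
 (.cons 1 (nat_lit 0x1000)
 (.cons 1 (nat_lit 0x14a000000014000000000000000a02800)
 (.cons 1 (nat_lit 0x800408085014000108100025000852900421420)
 (.cons 1 (nat_lit 0x120021294a008000214a00042021025200a52840)
 (.cons 1 (nat_lit 0x800408080014040948128025204a52948021020)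
 (.cons 5 (nat_lit 0x100801000000080400e0080c068020281006804)
 (.cons 10 (nat_lit 0x13000374000800005a00184002c00007000380)
 (.cons 20 (nat_lit 0xb000000000cf800000000041c0000013f00)
 (.cons 40 (nat_lit 0x334b00400000000004d090c4004)
 (.cons 80 (nat_lit 0xfb000000000000000000)
 .nil)))))))))))))))
noncomputable def a30 : Net := (.cons 80 (nat_lit 0x7b000000000000000000)
 (.cons 40 (nat_lit 0x4d87c870580000000000436e7ae820)
 (.cons 20 (nat_lit 0x5a4400000b630000000442f400000abc80)
 (.cons 10 (nat_lit 0xd40021f00120001a0002380018a003f800320)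
 (.cons 5 (nat_lit 0x500a000000000a0280a0400e010180181706000)
 (.cons 1 (nat_lit 0x40000000200a008001000200040100020)
 (.cons 1 (nat_lit 0x400020080800000501405000a001400294a00140)
 (.cons 1 (nat_lit 0x210240108501005280a020404290a02908401480)
 (.cons 1 (nat_lit 0x509480214a02002501405280a109485294a00940)
 (.cons 1 (nat_lit 0x10240148101025204a108481280a02842009420)
 (.cons 5 (nat_lit 0x500a000000000a0280a040080181e0100002000)
 (.cons 10 (nat_lit 0x800020000120000200023800140003f000320)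
 (.cons 20 (nat_lit 0x5a4400000b6300000004624000000abc00)
 (.cons 40 (nat_lit 0x4d87c870580000000000436e7ae820)
 (.cons 80 (nat_lit 0x7b000000000000000000)
 .nil)))))))))))))))
noncomputable def a31 : Net := (.cons 80 (nat_lit 0x80000000000000000000)
 (.cons 40 (nat_lit 0x7f80007fff00000000009978722e7e)
 (.cons 20 (nat_lit 0x7b400000cfb0000000fec49000009a216)
 (.cons 10 (nat_lit 0x340001e00368003800017b00087000ec0025a)
 (.cons 5 (nat_lit 0x580400002060040701b0641d0180d074020381a)
 (.cons 1 (nat_lit 0x100020)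
 (.cons 1 (nat_lit 0x80000002529000200a0280a008004094240940)
 (.cons 1 (nat_lit 0x14a401005214a001485090a4294052148429084)
 (.cons 1 (nat_lit 0x528480080a528400284a1294a109425294a52942)
 (.cons 1 (nat_lit 0x284a40100008025014a1090a128080080a028080)
 (.cons 5 (nat_lit 0x20100000000804070080201a038020681605012)
 (.cons 10 (nat_lit 0x204000140037800380003480020e001be002bc)
 (.cons 20 (nat_lit 0x7fb400000cfb0000000de86800000c38ac)
 (.cons 40 (nat_lit 0xff80007f800000000000e1d1031cfe)
 (.cons 80 (nat_lit 0x80000000000000000000)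
 .nil)))))))))))))))
noncomputable def a32 : Net := (.cons 80 (nat_lit 0x80000000000000000000)
 (.cons 40 (nat_lit 0x7f00000000005c6dc14400)
 (.cons 20 (nat_lit 0x80000000008780000000275b800000e8000)
 (.cons 10 (nat_lit 0x28000081002e20009c0007c0008e00000)
 (.cons 5 (nat_lit 0x3011070140581f01c1d004110301400000)
 (.cons 1 (nat_lit 0x200002001000000a1000200002000000)
 (.cons 1 (nat_lit 0x14a50140128480014a0014a0014200000)
 (.cons 1 (nat_lit 0x48528081214a5280a4000842008528000)
 (.cons 1 (nat_lit 0x94250942529421094a0214a4094250100)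
 (.cons 1 (nat_lit 0x204040042009025014a100085200a029000)
 (.cons 5 (nat_lit 0x3000050140000e02008000020101400000)
 (.cons 10 (nat_lit 0x28000002001d00009c0007c0008e00000)
 (.cons 20 (nat_lit 0x80000000008780000000275b800000e8000)
 (.cons 40 (nat_lit 0x800000000000000000005c6dc14400)
 (.cons 80 (nat_lit 0x80000000000000000000)
 .nil)))))))))))))))
noncomputable def a33 : Net := (.cons 80 (nat_lit 0x80000000000000000000)
 (.cons 40 (nat_lit 0xff8000000000000000000805f01400)
 (.cons 20 (nat_lit 0x5f800000008000000000bb6ea000009d804)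
 (.cons 10 (nat_lit 0x6e002800016600374001200009200004)
 (.cons 5 (nat_lit 0x70050101800c10008080280d0501806000)
 (.cons 1 (nat_lit 0x8000000000000000000014000002000000)
 (.cons 1 (nat_lit 0x5000a000001200050140028005014000000)
 (.cons 1 (nat_lit 0x200002900400484210a020480014802008020000)
 (.cons 1 (nat_lit 0x400005094a008485094852940129425214042800)
 (.cons 1 (nat_lit 0x210000900000484010a120481204800808020000)
 (.cons 5 (nat_lit 0x70040101806010008080100c0401806000)
 (.cons 10 (nat_lit 0x2200280001620035400120000e000004)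
 (.cons 20 (nat_lit 0x5f800000008000000000bb6ea000009d804)
 (.cons 40 (nat_lit 0xff8000000000000000000805f01400)
 (.cons 80 (nat_lit 0x80000000000000000000)
 .nil)))))))))))))))
noncomputable def ns0 : List Net := [a0, a1, a2]
noncomputable def ws : List (List ℕ) :=
  [W (nat_lit 0x600802),
  W (nat_lit 0x100100c0500c0300404),
  W (nat_lit 0xa0200802008),
  W (nat_lit 0x90240902008),
  W (nat_lit 0x340c0380e0300c),
  W (nat_lit 0x3c0d),
  W (nat_lit 0x380e0401004010),
  W (nat_lit 0xd0300d0300e02c0e02c0e),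
  W (nat_lit 0x300c0340c),
  W (nat_lit 0x5c15),
  W (nat_lit 0x160581605c17),
  W (nat_lit 0xd0340b),
  W (nat_lit 0x340c0300e),
  W (nat_lit 0x380b0380b0380c),
  W (nat_lit 0xd02c0e0300d),
  W (nat_lit 0x210802108c210901d08c22),
  W (nat_lit 0x881e0801d09024078230882207c1e),
  W (nat_lit 0x2c0b),
  W (nat_lit 0xd0300c0340c),
  W (nat_lit 0xc0380e),
  W (nat_lit 0x340b0340b0380c),
  W (nat_lit 0xac2e0b02d0bc2d0c0290c02b0bc2e0a42f0b82b),
  W (nat_lit 0xc02e0b02a0ac2a0bc2f0ac290b030),
  W (nat_lit 0x901c0702808),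
  W (nat_lit 0x80280a01c0702408),
  W (nat_lit 0xe0360e0380d438),
  W (nat_lit 0x360d836),
  W (nat_lit 0xd8380d8360dc36),
  W (nat_lit 0xe0350dc360e036),
  W (nat_lit 0xf0390e43c0f0400e83a0e8400ec400ec4010040),
  W (nat_lit 0x3d0f03a0f43c0fc3e0ec390ec3e0f03f0fc3e)]
noncomputable def ns : List Net := [a0, a1, a2, a3, a4, a5, a6, a7, a8, a9, a10, a11, a12, a13, a14, a15, a16, a17, a18, a19, a20, a21, a22, a23, a24, a25, a26, a27, a28, a29, a30, a31, a32, a33]
noncomputable def D : List (ℕ × List ℕ) := app [] (mkDefs ws 3)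
noncomputable def chk : List (List ℕ × List ℕ) → Bool := P.relsB ns
noncomputable def zt0 : List ℕ :=
  []
noncomputable def zcj1 : List (List ℕ) :=
  []
noncomputable def zt4 : List ℕ :=
  []
noncomputable def zcj5 : List (List ℕ) :=
  [[19]]
noncomputable def zus8 : List (List ℕ) :=
  [[13],
  [12],
  W (nat_lit 0x380f),
  W (nat_lit 0x380e),
  W (nat_lit 0x3811)]
noncomputable def zF9 : List (List (ℕ × List ℕ)) :=
  [[(1, [16]),
   (3, []),
   (0, W (nat_lit 0x5011)),
   (5, W (nat_lit 0x4c11)),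
   (2, [16]),
   (4, [])],
  [(1, []),
   (4, []),
   (0, []),
   (2, W (nat_lit 0x5011)),
   (5, W (nat_lit 0x5011)),
   (3, [])]]
noncomputable def zus12 : List (List ℕ) :=
  [[10],
  [11],
  W (nat_lit 0x2c0b),
  W (nat_lit 0x2c0d),
  W (nat_lit 0x2c0e),
  W (nat_lit 0x300e),
  W (nat_lit 0xb0340c),
  W (nat_lit 0xb0380b),
  W (nat_lit 0xb0380c),
  W (nat_lit 0xc0380b),
  W (nat_lit 0xb03c0c),
  W (nat_lit 0x2c11),
  W (nat_lit 0xc03c0b),
  W (nat_lit 0x2c0f),
  W (nat_lit 0x300f)]
noncomputable def zF13 : List (List (ℕ × List ℕ)) :=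
  [[(1, []),
   (3, []),
   (0, []),
   (2, []),
   (6, W (nat_lit 0x4c11)),
   (8, []),
   (10, []),
   (4, []),
   (12, W (nat_lit 0x1303811)),
   (5, []),
   (7, W (nat_lit 0x4c11)),
   (14, []),
   (9, W (nat_lit 0x140440e)),
   (11, W (nat_lit 0x4c11)),
   (15, W (nat_lit 0x4c11)),
   (13, [])],
  [(0, [12]),
   (4, []),
   (5, W (nat_lit 0x380e)),
   (6, W (nat_lit 0x380f)),
   (3, W (nat_lit 0x5011)),
   (1, []),
   (2, []),
   (11, W (nat_lit 0x140440d)),
   (9, W (nat_lit 0x1103811)),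
   (13, W (nat_lit 0x140440e)),
   (7, W (nat_lit 0x4c0e)),
   (8, W (nat_lit 0x440e)),
   (15, W (nat_lit 0x50110380f)),
   (10, W (nat_lit 0x440e)),
   (12, []),
   (14, W (nat_lit 0x1103811))]]
noncomputable def zrs16 : List (ℕ × List ℕ) :=
  [(23, [6]),
  (58, W (nat_lit 0x200b02c08))]
noncomputable def G_w1_1_v0 : Lev :=
  ⟨23, 16, sg (W (nat_lit 0xb0340b02c0b0340b)), [[20], [22]], 7, 2⟩
noncomputable def G_w1_1_v1 : Lev :=
  ⟨4, 9, sg (W (nat_lit 0x170541705415)), [[24], [26]], 9, 2⟩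
noncomputable def G_w1_1_v2 : Lev :=
  ⟨5, 4, sg (W (nat_lit 0x6c19)), [], 11, 0⟩
noncomputable def G_w1_1_vs3 : List Lev :=
  []
noncomputable def G_w1_1_vs2 : List Lev :=
  G_w1_1_v2 :: G_w1_1_vs3
noncomputable def G_w1_1_vs1 : List Lev :=
  G_w1_1_v1 :: G_w1_1_vs2
noncomputable def G_w1_1_vs : List Lev :=
  G_w1_1_v0 :: G_w1_1_vs1
noncomputable def zcj18 : List (List ℕ) :=
  [W (nat_lit 0x130440b0380c),
  W (nat_lit 0x4c110340c)]
noncomputable def G_w1_2_v0 : Lev :=
  ⟨58, 18, sg (W (nat_lit 0xd02c0d0340b0340b)), [[28], [30], [32], [34]], 11, 4⟩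
noncomputable def G_w1_2_v1 : Lev :=
  ⟨5, 8, sg (W (nat_lit 0x741d07c1d)), [[36], [38]], 15, 2⟩
noncomputable def G_w1_2_v2 : Lev :=
  ⟨10, 4, sg (W (nat_lit 0x9c25)), [], 17, 0⟩
noncomputable def G_w1_2_vs3 : List Lev :=
  []
noncomputable def G_w1_2_vs2 : List Lev :=
  G_w1_2_v2 :: G_w1_2_vs3
noncomputable def G_w1_2_vs1 : List Lev :=
  G_w1_2_v1 :: G_w1_2_vs2
noncomputable def G_w1_2_vs : List Lev :=
  G_w1_2_v0 :: G_w1_2_vs1
noncomputable def zcj22 : List (List ℕ) :=
  [W (nat_lit 0x440e0380b0380c),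
  W (nat_lit 0x1403811),
  W (nat_lit 0xe02c11),
  W (nat_lit 0x130380c)]
noncomputable def zB25 : List BG :=
  [⟨[7], [([20], W (nat_lit 0x130440b0380c)), ([22], W (nat_lit 0x4c110340c))],
  [([⟨[], W (nat_lit 0x2c10), 1, W (nat_lit 0x130380f02c0d)⟩], []),
   ([⟨[], [], 0, []⟩,
    ⟨[10], W (nat_lit 0x3c0b), 2, W (nat_lit 0x130440c)⟩,
    ⟨W (nat_lit 0x2c0d), [10], 1, W (nat_lit 0x130440e03c0c)⟩], W (nat_lit 0x10080100801)),
   ([⟨[], W (nat_lit 0xb0340c), 2, W (nat_lit 0x140440e0380b0380b)⟩,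
    ⟨[10], W (nat_lit 0xb0400c), 1, W (nat_lit 0x380e02c11)⟩], W (nat_lit 0x20040100801))]⟩]
noncomputable def zE26 : List (ℕ × List ℕ) :=
  [(8, W (nat_lit 0x4c110380e0300e02c0802c0b))]
noncomputable def G_v0 : Lev :=
  ⟨0, 72, sg (W (nat_lit 0x30040100c0100c0100c0100c01)), [[6], [8]], 0, 2⟩
noncomputable def G_v1 : Lev :=
  ⟨2, 35, sg (W (nat_lit 0x1c0901c09024070240702407)), [[10], [12]], 2, 2⟩
noncomputable def G_v2 : Lev :=
  ⟨5, 16, sg (W (nat_lit 0xd02c0d02c0d02c0d02c0b)), [[14], [13]], 4, 1⟩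
noncomputable def G_v3 : Lev :=
  ⟨17, 6, sg (W (nat_lit 0x3c0e03c0f)), [[16], [18]], 5, 2⟩
noncomputable def G_v4 : Lev :=
  ⟨41, 2, sg [16], [[18]], 7, 0⟩
noncomputable def G_v5 : Lev :=
  ⟨4, 3, sg (W (nat_lit 0x4c13)), [], 7, 0⟩
noncomputable def G_vs6 : List Lev :=
  []
noncomputable def G_vs5 : List Lev :=
  G_v5 :: G_vs6
noncomputable def G_vs4 : List Lev :=
  G_v4 :: G_vs5
noncomputable def G_vs3 : List Lev :=
  G_v3 :: G_vs4
noncomputable def G_vs2 : List Lev :=
  G_v2 :: G_vs3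
noncomputable def G_vs1 : List Lev :=
  G_v1 :: G_vs2
noncomputable def G_vs : List Lev :=
  G_v0 :: G_vs1
noncomputable def zrs32 : List (ℕ × List ℕ) :=
  [(1, W (nat_lit 0x40201100c03)),
  (2, [2]),
  (3, W (nat_lit 0x100c01009))]
noncomputable def G_w0_1_v0 : Lev :=
  ⟨1, 1, sg [], [[6], [8]], 17, 0⟩
noncomputable def G_w0_1_v1 : Lev :=
  ⟨2, 35, sg (W (nat_lit 0x1c0901c09024070240702407)), [[10], [12]], 2, 2⟩
noncomputable def G_w0_1_v2 : Lev :=
  ⟨4, 18, sg (W (nat_lit 0xd02c0d0340b0340b)), [[40], [42], [44], [46]], 17, 4⟩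
noncomputable def G_w0_1_v3 : Lev :=
  ⟨5, 8, sg (W (nat_lit 0xac290ac29)), [[48], [50]], 21, 2⟩
noncomputable def G_w0_1_v4 : Lev :=
  ⟨10, 4, sg (W (nat_lit 0xcc31)), [], 23, 0⟩
noncomputable def G_w0_1_vs5 : List Lev :=
  []
noncomputable def G_w0_1_vs4 : List Lev :=
  G_w0_1_v4 :: G_w0_1_vs5
noncomputable def G_w0_1_vs3 : List Lev :=
  G_w0_1_v3 :: G_w0_1_vs4
noncomputable def G_w0_1_vs2 : List Lev :=
  G_w0_1_v2 :: G_w0_1_vs3
noncomputable def G_w0_1_vs1 : List Lev :=
  G_w0_1_v1 :: G_w0_1_vs2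
noncomputable def G_w0_1_vs : List Lev :=
  G_w0_1_v0 :: G_w0_1_vs1
noncomputable def zcj34 : List (List ℕ) :=
  [W (nat_lit 0x50110380b0340c02011),
  W (nat_lit 0x13038110300e01c0d)]
noncomputable def zcj37 : List (List ℕ) :=
  [W (nat_lit 0xc0380703407),
  W (nat_lit 0x130440e02c11)]
noncomputable def G_w0_3_v0 : Lev :=
  ⟨3, 35, sg (W (nat_lit 0x1c0901c09024070240702407)), [[52], [54]], 23, 2⟩
noncomputable def G_w0_3_v1 : Lev :=
  ⟨4, 18, sg (W (nat_lit 0xd4350dc350dc35)), [[56], [58], [60], [62]], 25, 4⟩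
noncomputable def G_w0_3_v2 : Lev :=
  ⟨5, 8, sg (W (nat_lit 0xf43b0f439)), [[64], [66]], 29, 2⟩
noncomputable def G_w0_3_v3 : Lev :=
  ⟨10, 4, sg (W (nat_lit 0x10c41)), [], 31, 0⟩
noncomputable def G_w0_3_vs4 : List Lev :=
  []
noncomputable def G_w0_3_vs3 : List Lev :=
  G_w0_3_v3 :: G_w0_3_vs4
noncomputable def G_w0_3_vs2 : List Lev :=
  G_w0_3_v2 :: G_w0_3_vs3
noncomputable def G_w0_3_vs1 : List Lev :=
  G_w0_3_v1 :: G_w0_3_vs2
noncomputable def G_w0_3_vs : List Lev :=
  G_w0_3_v0 :: G_w0_3_vs1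
noncomputable def zcj41 : List (List ℕ) :=
  [W (nat_lit 0x440e),
  W (nat_lit 0x440e0380b03c0c01c0d)]
noncomputable def zB44 : List BG :=
  [⟨[3], [([10], W (nat_lit 0xc0380703407)), ([12], W (nat_lit 0x130440e02c11))],
  [([⟨[], W (nat_lit 0x200e), 2, W (nat_lit 0x130440e0440c0380b0200e)⟩], []),
   ([⟨[], W (nat_lit 0x200e), 3, W (nat_lit 0x440e0380b03c0702813)⟩], []),
   ([⟨[], [], 0, []⟩,
    ⟨[6], [7], 3, W (nat_lit 0x4c110380b0380b02011)⟩,
    ⟨W (nat_lit 0x1c09), W (nat_lit 0x702409), 2, W (nat_lit 0x140440e0380c0380b02409)⟩], W (nat_lit 0x100801008010080100801)),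
   ([⟨[], [], 1, W (nat_lit 0x130440e02c080280e)⟩,
    ⟨[6], [7], 2, W (nat_lit 0x110380b03c0c0240e)⟩,
    ⟨W (nat_lit 0x1c09), W (nat_lit 0x702409), 3, W (nat_lit 0x140440c0380b02407)⟩], W (nat_lit 0x100801008010080100801))]⟩]
noncomputable def zE45 : List (ℕ × List ℕ) :=
  [(0, W (nat_lit 0x110380b0380b01c09038040201100c03)),
  (4, [])]
noncomputable def zE50 : Net :=
  .nil
noncomputable def zK51 : Lk :=
  ⟨zE50, 1, 3, 1⟩
noncomputable def zE54 : Net :=
  (.cons 80 (nat_lit 0xe0ff07f87f83fc3fc1fe)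
 (.cons 40 (nat_lit 0xfc00c1c07e0000000000efe6263601)
 (.cons 20 (nat_lit 0x80ff00000003fc30000007591000001fe0e)
 (.cons 10 (nat_lit 0x3cc003800038c00380003d00026c0039f0027c)
 (.cons 5 (nat_lit 0x4100701c070010701c0380e04c1004c0007001)
 (.cons 1 (nat_lit 0x1084010842008421084210842108021080210042)
 (.cons 1 (nat_lit 0x294a0294a5014a5294a5294a52940529405280a5)
 (.cons 1 (nat_lit 0x529405294a0294a5294a5294a5280a5280a5014a)
 (.cons 1 (nat_lit 0x2108021084010842108421084210042100420084)
 (.cons 5 (nat_lit 0x1000000070000000000000000100000007000)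
 (.cons 10 (nat_lit 0x20c000000000c0000000000000600039800260)
 (.cons 20 (nat_lit 0xf807c00000e01e000000411f00000000e80)
 (.cons 40 (nat_lit 0x1cc0c000000000000000e4e6360110)
 (.cons 80 (nat_lit 0xe0ff07807c03c03e01e0)
 .nil))))))))))))))
noncomputable def zK55 : Lk :=
  ⟨zE54, 1, 3, 1⟩

theorem zb2 : bnd (pcB D [] 3 zt0 zcj1) (leB (app D []) [[18]] ([18] :: [])) = true := by decide +kernel
theorem zr3 : chk (pcR [] [18] 3 zt0 zcj1) = true := by decide +kernel
theorem zb6 : bnd (pcB D [[18]] 2 zt4 zcj5) (leB (app D []) [[16], [18]] ([16] :: [[18]])) = true := by decide +kernel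
theorem zr7 : chk (pcR [[18]] [16] 2 zt4 zcj5) = true := by decide +kernel
theorem zb10 : schB D [[14], [13]] [[16], [18]] zus8 zF9 6 = true := by decide +kernel
theorem zr11 : chk (schR [[14], [13]] zus8 zF9) = true := by decide +kernel
theorem zb14 : schB D [[10], [12]] [[14], [13]] zus12 zF13 16 = true := by decide +kernel
theorem zr15 : chk (schR [[10], [12]] zus12 zF13) = true := by decide +kernel
theorem zc17 : P.chainB ns D G_w1_1_vs [[10], [12]] = true := by decide +kernel
theorem zb19 : wdB D [[10], [12]] G_w1_1_v0.nx zcj18 = true := by decide +kernel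
theorem zr20 : chk (wdR G_w1_1_v0.nx [6] zcj18) = true := by decide +kernel
theorem zc21 : P.chainB ns D G_w1_2_vs [[10], [12]] = true := by decide +kernel
theorem zb23 : wdB D [[10], [12]] G_w1_2_v0.nx zcj22 = true := by decide +kernel
theorem zr24 : chk (wdR G_w1_2_v0.nx (W (nat_lit 0x200b02c08)) zcj22) = true := by decide +kernel
theorem zb27 : bB P.n P.N ns (app D zE26) [[6], [8]] [[10], [12]] 2 zrs16 zB25 = true := by decide +kernel
theorem zc28 : P.chainB ns D G_vs [[0], [2], [4]] = true := by decide +kernel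
theorem zb29 : P.invSz ns [[6], [8]] 2 (orbM P.N ns G_v1) 35 = true := by decide +kernel
theorem zr30 : chk (bR 2 zrs16 zB25) = true := by decide +kernel
theorem zr31 : chk (defRels zE26) = true := by decide +kernel
theorem zc33 : P.chainB ns D G_w0_1_vs [[6], [8]] = true := by decide +kernel
theorem zb35 : wdB D [[6], [8]] G_w0_1_v0.nx zcj34 = true := by decide +kernel
theorem zr36 : chk (wdR G_w0_1_v0.nx (W (nat_lit 0x40201100c03)) zcj34) = true := by decide +kernel
theorem zb38 : wdB D [[6], [8]] G_v1.nx zcj37 = true := by decide +kernel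
theorem zr39 : chk (wdR G_v1.nx [2] zcj37) = true := by decide +kernel
theorem zc40 : P.chainB ns D G_w0_3_vs [[6], [8]] = true := by decide +kernel
theorem zb42 : wdB D [[6], [8]] G_w0_3_v0.nx zcj41 = true := by decide +kernel
theorem zr43 : chk (wdR G_w0_3_v0.nx (W (nat_lit 0x100c01009)) zcj41) = true := by decide +kernel
theorem zb46 : bB P.n P.N ns (app D zE45) [[0], [2], [4]] [[6], [8]] 0 zrs32 zB44 = true := by decide +kernel
theorem zb47 : P.invSz ns [[0], [2], [4]] 0 (orbM P.N ns G_v0) 72 = true := by decide +kernel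
theorem zr48 : chk (bR 0 zrs32 zB44) = true := by decide +kernel
theorem zr49 : chk (defRels zE45) = true := by decide +kernel
theorem zl52 : zK51.relB CL.Co3R.Aux.S.P CL.Co3R.Aux.T.P CL.Co3R.Aux.S.ns [[0], [2], [4]] [[0], [2], [4]] = true := by decide +kernel
theorem zl53 : allL (zK51.pl CL.Co3R.Aux.S.P CL.Co3R.Aux.T.P CL.Co3R.Aux.S.ns CL.Co3R.Aux.T.ns 0) (zp [] [[0], [2], [4]] [[0], [2], [4]]) = true := by decide +kernel
theorem zl56 : zK55.relB CL.Co3R.Aux.S.P CL.Std.PS62.P CL.Co3R.Aux.S.ns [[0], [2], [4]] [[0], [2]] = true := by decide +kernel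
theorem zl57 : allL (zK55.pl CL.Co3R.Aux.S.P CL.Std.PS62.P CL.Co3R.Aux.S.ns CL.Std.PS62.ns 0) (zp [] [[0], [2], [4]] [[0], [2]]) = true := by decide +kernel
theorem zk58 : allL (keepB P.n P.N) ns0 = true := by decide +kernel
theorem ze59 : extB ns0 ns 3 ws [] = true := by decide +kernel
theorem zn60 : P.netsB ns (mkDefs ws 3) = true := by decide +kernel

section
variable {G X : Type*} [Group G] [MulAction G X] {e : ℕ → X} {gs : List G}

theorem keep0 : allL (keepB P.n P.N) ns0 = true := zk58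

theorem len {k} (c : Ctx P e gs ns0 [] k) : gs.length = 3 := c.len ze59

theorem ctx0 {k} (c : Ctx P e gs ns0 [] k) : Ctx P e (ext gs ws) ns D chk0 :=
  c.ext rfl ze59 zn60

theorem ctx {k} (c : Ctx P e gs ns0 [] k) {H : Subgroup G} (hF : Faithful e P.n H) (hH : ∀ g ∈ gs, g ∈ H) :
    Ctx P e (ext gs ws) ns D chk :=
  (ctx0 c).withB hF (mem_of_mem_ext hH _)

instance instNe : NeZero P.n := ⟨by decide⟩
noncomputable def gs0 : List (Equiv.Perm (Fin P.n)) := permsOf P.n P.N ns0
noncomputable def gs1 : List (Equiv.Perm (Fin P.n)) := ext gs0 ws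
theorem c1 : Ctx P (eF P.n) gs1 ns D chk :=
  ctx (ctx_permsOf hP keep0) (faithful_eF _) fun _ _ => trivial

theorem G_u5 (c : Ctx P e gs ns D chk) :
    UB (subW gs [[18]]) 3 :=
  (c.pc_step (UB.nil gs) (Rels.nil _)
    (c.rels _ zr3) zb2).le (by decide)

theorem G_u4 (c : Ctx P e gs ns D chk) :
    UB (subW gs [[16], [18]]) 6 :=
  (c.pc_step (G_u5 c) (Rels.nil _)
    (c.rels _ zr7) zb6).le (by decide)

theorem G_u3 (c : Ctx P e gs ns D chk) :
    UB (subW gs [[14], [13]]) 36 :=
  (c.sch_step (G_u4 c)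
    (c.rels _ zr11) zb10).le (by decide)

theorem G_u2 (c : Ctx P e gs ns D chk) :
    UB (subW gs [[10], [12]]) 576 :=
  (c.sch_step (G_u3 c)
    (c.rels _ zr15) zb14).le (by decide)

theorem G_w1_1_c : P.chainB ns D G_w1_1_vs [[10], [12]] = true :=
  zc17

theorem G_w1_1_o : prodL G_w1_1_vs 1 = 576 := by decide +kernel

theorem G_w1_2_c : P.chainB ns D G_w1_2_vs [[10], [12]] = true :=
  zc21

theorem G_w1_2_o : prodL G_w1_2_vs 1 = 576 := by decide +kernel

theorem G_u1w (c : Ctx P e gs ns D chk) :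
    AllWd e gs [[10], [12]] zrs16 :=
  ⟨c.wd (v := G_w1_1_v0) (vs := G_w1_1_vs1) (G_u2 c) G_w1_1_c G_w1_1_o
      (c.rels _ zr20) zb19,
    ⟨c.wd (v := G_w1_2_v0) (vs := G_w1_2_vs1) (G_u2 c) G_w1_2_c G_w1_2_o
      (c.rels _ zr24) zb23,
    trivial⟩⟩

theorem G_c : P.chainB ns D G_vs [[0], [2], [4]] = true :=
  zc28

theorem G_o : prodL G_vs 1 = 1451520 := by decide +kernel

theorem G_u1 (c : Ctx P e gs ns D chk) :
    UB (subW gs [[6], [8]]) 20160 :=
  (c.b_step (G_u2 c) (G_u1w c) (c.rels _ zr31)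
    (c.rels _ zr30) zb27 zb29).le (by decide)

theorem G_w0_1_c : P.chainB ns D G_w0_1_vs [[6], [8]] = true :=
  zc33

theorem G_w0_1_o : prodL G_w0_1_vs 1 = 20160 := by decide +kernel

theorem G_w0_3_c : P.chainB ns D G_w0_3_vs [[6], [8]] = true :=
  zc40

theorem G_w0_3_o : prodL G_w0_3_vs 1 = 20160 := by decide +kernel

theorem G_u0w (c : Ctx P e gs ns D chk) :
    AllWd e gs [[6], [8]] zrs32 :=
  ⟨c.wd (v := G_w0_1_v0) (vs := G_w0_1_vs1) (G_u1 c) G_w0_1_c G_w0_1_o
      (c.rels _ zr36) zb35,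
    ⟨c.wd (v := G_v1) (vs := G_vs2) (G_u1 c) (Par.chainB_tail G_c) (by decide +kernel)
      (c.rels _ zr39) zb38,
    ⟨c.wd (v := G_w0_3_v0) (vs := G_w0_3_vs1) (G_u1 c) G_w0_3_c G_w0_3_o
      (c.rels _ zr43) zb42,
    trivial⟩⟩⟩

theorem G_u0 (c : Ctx P e gs ns D chk) :
    UB (subW gs [[0], [2], [4]]) 1451520 :=
  (c.b_step (G_u1 c) (G_u0w c) (c.rels _ zr49)
    (c.rels _ zr48) zb46 zb47).le (by decide)

theorem G_ub (c : Ctx P e gs ns D chk) :
    UB (subW gs [[0], [2], [4]]) 1451520 :=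
  (G_u0 c)

theorem toT {Γ Y : Type*} [Group Γ] [MulAction Γ Y] {e' : ℕ → Y} {cs : List Γ} {D₁ D₂ : List (ℕ × List ℕ)}
    {k₁ k₂ : List (List ℕ × List ℕ) → Bool} (c : Ctx CL.Co3R.Aux.S.P e gs CL.Co3R.Aux.S.ns D₁ k₁) (c' : Ctx CL.Co3R.Aux.T.P e' cs CL.Co3R.Aux.T.ns D₂ k₂)
    (hF : Faithful e' CL.Co3R.Aux.T.P.n (subW cs [[0], [2], [4]])) :
    RelLe gs [[0], [2], [4]] cs [[0], [2], [4]] :=
  c.relLe (K := zK51) c' hF zl52 (fun (t : ℕ) (ht : t < 1) => match t, ht with
    | 0, _ => zl53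
    | t + 1, h => absurd h (by omega))

theorem toB {Γ Y : Type*} [Group Γ] [MulAction Γ Y] {e' : ℕ → Y} {cs : List Γ} {D₁ D₂ : List (ℕ × List ℕ)}
    {k₁ k₂ : List (List ℕ × List ℕ) → Bool} (c : Ctx CL.Co3R.Aux.S.P e gs CL.Co3R.Aux.S.ns D₁ k₁) (c' : Ctx CL.Std.PS62.P e' cs CL.Std.PS62.ns D₂ k₂)
    (hF : Faithful e' CL.Std.PS62.P.n (subW cs [[0], [2]])) :
    RelLe gs [[0], [2], [4]] cs [[0], [2]] :=
  c.relLe (K := zK55) c' hF zl56 (fun (t : ℕ) (ht : t < 1) => match t, ht with
    | 0, _ => zl57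
    | t + 1, h => absurd h (by omega))

theorem rel {Γ Y : Type*} [Group Γ] [MulAction Γ Y] {e' : ℕ → Y} {cs : List Γ} {D₂ : List (ℕ × List ℕ)}
    {k₂ : List (List ℕ × List ℕ) → Bool} (c' : Ctx CL.Std.PS62.P e' cs CL.Std.PS62.ns D₂ k₂) (hF : Faithful e' CL.Std.PS62.P.n (subW cs [[0], [2]])) :
    RelLe CL.Co3R.Aux.T.gs1 [[0], [2], [4]] cs [[0], [2]] :=
  ((toT c1 CL.Co3R.Aux.T.c1 ((faithful_eF _).mono le_top)).symm_of_card (G_ub c1) (CL.Co3R.Aux.T.G_lb CL.Co3R.Aux.T.c1)).trans (toB c1 c' hF)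

end
end CL.Co3R.Aux.S

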