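/- chain data h (generated by tools/mx) -/
import Cfsg.Agent.Spor.MxF2

set_option autoImplicit false
set_option maxRecDepth 100000

namespace CL.Mx.Code

open CL.Mx

noncomputable def hw : ℕ :=
 one2 6

noncomputable def hS0 : List ℕ :=
 [0x810202044,
 0x408102801]

noncomputable def hB0 : List ℕ :=
 [0x4040480a0,
 0x804081408,
 0x88060110,
 0x44202810,
 0x202801110]

noncomputable def hF0 : List ℕ :=
 [0x58cc5,
 0x6780d,
 0x36e31,
 0x1b296,
 0x4990]

noncomputable def hv0 : ℕ :=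
 0x1041

noncomputable def hS1 : List ℕ :=
 [0x408804081,
 0x420201084,
 0x808402101]

noncomputable def hB1 : List ℕ :=
 [0x810201102,
 0x420204042]

noncomputable def hF1 : List ℕ :=
 [0x1,
 0x2]

noncomputable def hv1 : ℕ :=
 0x1

noncomputable def hS2 : List ℕ :=
 [0x808402101,
 0x408804081]

noncomputable def hB2 : List ℕ :=
 [0x210802101,
 0x420202101]

noncomputable def hF2 : List ℕ :=
 [0x3,
 0x2]

noncomputable def hv2 : ℕ :=
 0x40000

noncomputable def hS3 : List ℕ :=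
 [0x420202101,
 0x420202101]

noncomputable def hB3 : List ℕ :=
 [0x420202101]

noncomputable def hF3 : List ℕ :=
 [0x1]

noncomputable def hv3 : ℕ :=
 0x40

noncomputable def hS4 : List ℕ :=
 []

noncomputable def hA3 : List ℕ :=
 []

noncomputable def hA2 : List ℕ :=
 hA3 ++ hB3

noncomputable def hA1 : List ℕ :=
 hA2 ++ hB2

noncomputable def hA0 : List ℕ :=
 hA1 ++ hB1

noncomputable def hP0 : List Ins :=
 [.mul 0 1, .mul 1 0, .mul 1 3, .mul 0 1, .mul 2 0, .mul 4 1, .mul 0 7, .mul 6 0,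
 .mul 9 0, .mul 8 0, .mul 8 4, .mul 0 4, .mul 10 11, .mul 5 13, .mul 13 11, .mul 12 16,
 .mul 0 12, .mul 15 11, .mul 19 18, .mul 17 14, .mul 19 21, .mul 22 20, .mul 11 12, .mul 21 12,
 .mul 12 25, .mul 23 24, .mul 25 20, .mul 28 17, .mul 29 23, .mul 25 30, .mul 30 23, .mul 30 26,
 .mul 26 32, .mul 34 31, .mul 27 30, .mul 36 34, .mul 28 36, .mul 30 38, .mul 36 34, .mul 40 38,
 .mul 38 30, .mul 26 40, .mul 43 31, .mul 42 36, .mul 44 38, .mul 44 31, .mul 31 45, .mul 47 36,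
 .mul 49 31, .mul 50 47, .mul 40 46, .mul 51 52, .mul 31 48, .mul 39 37, .inv 55 (0x420044088), .mul 56 54,
 .mul 40 53, .mul 39 37, .mul 41 59, .inv 60 (0x48102420), .mul 61 58, .mul 48 31, .mul 35 33, .inv 64 (0x120402201),
 .mul 65 63]

noncomputable def hI0 : List ℕ :=
 [33,35,37,39,41,57,62,66]

theorem hslp0 : (ops2 6).slp [] hS0 hP0 (hB0 ++ hS1) hI0 [] [] = true := by decide +kernel

theorem hpl0 : planesOk hF0 20 19 = true := by decide +kernel

theorem hkeys0 : (ops2 6).keys hB0 hF0 hv0 20 = true := by decide +kernel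

theorem hfix0 : (ops2 6).fixes hS1 hv0 = true := by decide +kernel

noncomputable def hP1 : List Ins :=
 [.mul 2 1, .mul 0 1, .mul 3 4, .mul 5 0, .mul 4 0, .mul 2 6, .mul 0 7, .mul 0 2,
 .mul 10 0, .mul 0 9, .mul 11 0, .mul 9 0, .mul 8 14, .mul 13 8, .mul 2 0, .mul 12 15,
 .mul 13 16, .mul 16 19, .mul 17 15, .mul 21 0, .mul 15 20, .mul 20 16, .mul 23 22, .mul 24 16,
 .mul 22 16, .mul 21 25, .mul 26 18, .mul 22 26, .mul 27 22, .mul 28 31, .mul 32 29, .mul 33 33,
 .mul 25 27, .mul 25 35, .mul 32 25, .mul 33 35, .mul 35 30, .inv 36 (0x420204042), .mul 39 25, .mul 38 35,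
 .mul 38 37, .mul 40 43, .mul 42 38, .mul 45 37, .mul 46 41, .inv 34 (0x810202044), .mul 48 47]

noncomputable def hI1 : List ℕ :=
 [34,36,44,49]

theorem hslp1 : (ops2 6).slp [] hS1 hP1 (hB1 ++ hS2) hI1 [] [] = true := by decide +kernel

theorem hpl1 : planesOk hF1 3 2 = true := by decide +kernel

theorem hkeys1 : (ops2 6).keys hB1 hF1 hv1 3 = true := by decide +kernel

theorem hfix1 : (ops2 6).fixes hS2 hv1 = true := by decide +kernel

noncomputable def hP2 : List Ins :=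
 [.mul 1 0, .mul 0 0, .mul 3 2, .mul 0 3, .mul 4 1, .mul 1 0, .mul 5 0, .mul 1 7,
 .mul 6 9, .mul 10 8, .mul 10 11, .mul 1 10, .mul 4 10, .mul 0 12, .mul 14 9, .mul 9 16,
 .mul 16 13, .mul 13 10, .mul 19 15, .mul 10 19, .mul 21 20, .mul 19 17, .mul 21 12, .mul 17 24,
 .mul 18 12, .mul 24 25, .mul 23 27, .mul 28 12, .mul 27 24, .mul 28 29, .mul 22 26, .mul 32 31,
 .mul 31 24, .mul 30 29, .mul 24 34, .inv 33 (0x210802101), .mul 37 36, .mul 22 24]

noncomputable def hI2 : List ℕ :=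
 [33,35,38,39]

theorem hslp2 : (ops2 6).slp [] hS2 hP2 (hB2 ++ hS3) hI2 [] [] = true := by decide +kernel

theorem hpl2 : planesOk hF2 3 2 = true := by decide +kernel

theorem hkeys2 : (ops2 6).keys hB2 hF2 hv2 3 = true := by decide +kernel

theorem hfix2 : (ops2 6).fixes hS3 hv2 = true := by decide +kernel

noncomputable def hP3 : List Ins :=
 [.mul 0 1, .mul 0 1, .mul 3 1, .mul 3 1, .mul 2 5, .mul 4 6, .mul 2 6, .mul 1 7,
 .mul 6 0, .mul 10 8, .mul 8 9, .mul 1 11, .mul 1 13, .mul 12 8, .mul 15 13, .mul 12 14,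
 .mul 17 15, .mul 18 14, .mul 16 19, .mul 16 20]

noncomputable def hI3 : List ℕ :=
 [21]

theorem hslp3 : (ops2 6).slp [] hS3 hP3 (hB3 ++ hS4) hI3 [] [] = true := by decide +kernel

theorem hpl3 : planesOk hF3 2 1 = true := by decide +kernel

theorem hkeys3 : (ops2 6).keys hB3 hF3 hv3 2 = true := by decide +kernel

theorem hfix3 : (ops2 6).fixes hS4 hv3 = true := by decide +kernel


end CL.Mx.Code
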