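/-
Centralisers `2^{1+20}.U₆(2)` and `2^{1+20}.U₆(2).2`: opposite pairs give charts.
-/
import Cfsg.Agent.Spor.E6SLb

set_option autoImplicit false

namespace CL.E6S

open Subgroup CL.Even CL.Grp CL.Uni CL.Rec CL.IN Cfsg Module

universe u

variable {G Γ : Type u} [Group G] [Group Γ] {S : Dat G Γ}

namespace LcP

theorem ncard_fib {α β : Type*} [Finite α] [Finite β] {O : Set α} {T : Set β} (f : α → β) (h : ∀ a ∈ O, f a ∈ T) {n : ℕ}
    (hn : ∀ a ∈ O, {b | b ∈ O ∧ f b = f a}.ncard ≤ n) : O.ncard ≤ n * T.ncard := by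
  classical
  rw [Set.ncard_eq_toFinset_card, Set.ncard_eq_toFinset_card]
  refine Finset.card_le_mul_card_image_of_maps_to (f := f) (by simpa using h) n fun b _ => ?_
  rcases Finset.eq_empty_or_nonempty {a ∈ (Set.toFinite O).toFinset | f a = b} with e | ⟨a, ha⟩
  · rw [e]; exact Nat.zero_le n
  · simp only [Finset.mem_filter, Set.Finite.mem_toFinset] at ha
    obtain ⟨ha, rfl⟩ := ha
    refine le_of_eq_of_le ?_ (hn a ha)
    rw [← Set.ncard_coe_finset]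
    exact congrArg Set.ncard (by ext; simp)

theorem main (h : S.B3) {u v y : G} (c3 : (u * v) ^ 3 = 1) (ne : u ≠ v)
    (inj : ∀ c, Commute c v → c ∈ S.Q u → c = 1) (a1 : S.Sy u y) (a2 : S.Sy v y) {γ : Γ} (hγ : Commute γ (S.r u y)) :
    ∃ c, Commute c u ∧ Commute c v ∧ S.r u c = γ := by
  have H := h.toSt
  have := H.fin
  have := h.ua.fin
  have hy := a1.2.1
  have b1 := H.sy_symm a1
  obtain ⟨p, hp, e⟩ := h.lb.tv y u b1
  obtain ⟨p', hp', e'⟩ := h.lb.tv u y a1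
  obtain ⟨I, hI, c1⟩ := H.exists_im hy (Y := centralizer {y} ⊓ centralizer {u}) fun a ha => mem_cent_singleton.1 ha.1
  have c2 : Nat.card (centralizer {τ S.ι p}) ≤ Nat.card I := card_le_of_le fun δ hδ => by
    obtain ⟨c, k1, k2, k3⟩ := h.lb.lift y u δ b1 (e ▸ mem_cent_singleton.1 hδ)
    exact (hI δ).2 ⟨c, ⟨mem_cent_singleton.2 k1, mem_cent_singleton.2 k2⟩, k3⟩
  have c4 := (h.lb.card y u b1).trans (card_le_of_le (K := centralizer {y} ⊓ centralizer {u} ⊓ S.Q y) fun a ha =>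
    ⟨⟨mem_cent_singleton.2 (H.cQ hy ha.1), ha.2⟩, ha.1⟩)
  have c5 := ncard_fib (O := {l | S.Sy y l ∧ (u * l) ^ 3 = 1 ∧ l ≠ u})
    (T := {γ | ∃ v, Iso v ∧ B6 p v ≠ 0 ∧ γ = τ S.ι v}) (S.r y) (n := 64) (fun l ⟨s, k1, k2⟩ => by
      obtain ⟨q, hq, k3⟩ := h.lb.tv y l s
      refine ⟨q, hq, fun b => k2 ?_, k3⟩
      have cm := a1.2.2.1.mul_left s.2.2.1.symm
      have k4 := H.r_pow hy cm 3
      rw [k1, H.r_one hy, h.r_mul hy a1.2.2.1 s.2.2.1.symm, e, k3, pow_three', (τ_comm hp hq b).symm.mul_mul_mul_comm,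
        τ_sq, τ_sq, one_mul, one_mul, ← e, ← k3, ← h.r_mul hy a1.2.2.1 s.2.2.1.symm] at k4
      rw [eq_inv_of_mul_eq_one_right (H.eq_one_of_cube hy ((h.r_ker hy cm).1 k4.symm) k1), H.inv_eq a1.1])
    fun l hl => by
      have k1 := LbP.card_orb (S.Q y) l (X := {x | ∃ n ∈ S.Q y, n * l * n⁻¹ = x}) fun _ => Iff.rfl
      have k2 := Nat.mul_le_mul_left {x | ∃ n ∈ S.Q y, n * l * n⁻¹ = x}.ncard (h.lb.card y l hl.1)
      rw [← k1, h.card hy] at k2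
      exact (Set.ncard_le_ncard (t := {x | ∃ n ∈ S.Q y, n * l * n⁻¹ = x})
        fun b hb => h.lb.cnj y l b hl.1 hb.1.1 hb.2.symm).trans (by omega)
  have c6 := (LbP.card_le (centralizer {y} ⊓ centralizer {u}) (p := v) fun k hk => by
    have k1 : Commute k u := mem_cent_singleton.1 hk.2
    refine ⟨H.sy_conj' (H.sy_symm a2) (mem_cent_singleton.1 hk.1), ?_, fun k2 => ne ?_⟩
    · rw [← k1.mul_inv_cancel, conj_mul, conj_pow, c3]; simp
    · rw [← k1.mul_inv_cancel] at k2; simpa using k2.symm).trans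
    (Nat.mul_le_mul_right _ (c5.trans (Nat.mul_le_mul_left 64 (h.uc.cnt p hp))))
  obtain ⟨J, hJ, c7⟩ := H.exists_im a1.1 (Y := centralizer {y} ⊓ centralizer {u} ⊓ centralizer {v})
    fun a ha => mem_cent_singleton.1 ha.1.2
  rw [show centralizer {y} ⊓ centralizer {u} ⊓ centralizer {v} ⊓ S.Q u = ⊥ from
    eq_bot_iff.2 fun a ha => inj a (mem_cent_singleton.1 ha.1.2) ha.2, card_bot, one_mul] at c7
  obtain ⟨g, rfl⟩ := h.uw.ptT p p' hp hp'
  have c8 : J = centralizer {τ S.ι (g.1 p)} := eq_of_le_of_card_ge (fun δ hδ => by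
    obtain ⟨a, ha, rfl⟩ := (hJ δ).1 hδ
    exact mem_cent_singleton.2 (e' ▸ H.r_comm a1.1 (mem_cent_singleton.1 ha.1.2) a1.2.2.1.symm
      (mem_cent_singleton.1 ha.1.1))) (by
    rw [← τ_conj g hp, ← cj_cent_singleton, card_cj, ← c7]
    have := Nat.mul_le_mul c4 c2
    omega)
  obtain ⟨a, ha, k⟩ := (hJ γ).1 (c8 ▸ mem_cent_singleton.2 (e' ▸ hγ))
  exact ⟨a, mem_cent_singleton.1 ha.1.2, mem_cent_singleton.1 ha.2, k⟩

end LcP

theorem lc (h : S.B3) (l5 : S.L5) : S.LC := by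
  intro u v op
  have H := h.toSt
  obtain ⟨hu, hv, c3, ne, y, y', a1, a2, a3, a4, a5⟩ := id op
  have inj := fun c cv hc => l5 y u v (H.sy_symm a1) (H.sy_symm a2) c3 ne c hc cv
  obtain ⟨p, hp, e⟩ := h.lb.tv u y a1
  have surj : ∀ γ, ∃ c, Commute c u ∧ Commute c v ∧ S.r u c = γ := fun γ => by
    obtain ⟨p', hp', e'⟩ := h.lb.tv u y' a3
    obtain ⟨J, hJ, -⟩ := H.exists_im hu (Y := centralizer {u} ⊓ centralizer {v}) fun a ha => mem_cent_singleton.1 ha.1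
    have k : ∀ y, S.Sy u y → S.Sy v y → centralizer {S.r u y} ≤ J := fun y b1 b2 δ hδ => by
      obtain ⟨c, k1, k2, k3⟩ := LcP.main h c3 ne inj b1 b2 (mem_cent_singleton.1 hδ)
      exact (hJ δ).2 ⟨c, ⟨mem_cent_singleton.2 k1, mem_cent_singleton.2 k2⟩, k3⟩
    obtain ⟨a, ha, k1⟩ := (hJ γ).1 (sup_le (k y a1 a2) (k y' a3 a4) (by
      rw [e, e', h.uc.gen p p' hp hp' fun k1 => a5 (H.inv_eq a3.2.1 ▸ (H.r_eq hu a1.2.2.1.symm a3.2.2.1.symm).1
        (e.trans (k1.trans e'.symm)))]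
      exact mem_top γ))
    exact ⟨a, mem_cent_singleton.1 ha.1, mem_cent_singleton.1 ha.2, k1⟩
  refine ⟨op, fun c _ => inj c, surj, fun c q c1 c2 hq k => ?_⟩
  obtain ⟨g, rfl⟩ := h.uw.ptT p q hp hq
  obtain ⟨a, k1, k2, k3⟩ := surj (S.ι g)
  have s1 := H.sy_conj' a1 k1
  have s2 := H.sy_conj' a2 k2
  rw [mul_inv_eq_one.1 (inj _ (c2.mul_left s2.2.2.1.symm.inv_left) ((H.r_eq hu c1 s1.2.2.1.symm).1 (by
    rw [k, H.r_conj hu k1 a1.2.2.1.symm, k3, e, τ_conj g hp])))]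
  exact ⟨s1, s2⟩

end CL.E6S
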