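/-
The central elements of the six groups `W(E₇)` in `Y₃₃₃`.
-/
import Cfsg.Agent.Spor.E6SD
import Cfsg.Agent.Spor.InY551
import Cfsg.Agent.Spor.Y5Main

set_option autoImplicit false
set_option maxRecDepth 100000

namespace CL.E6S

open Cfsg Cfsg.Spor Cfsg.Spor.Bimonster Subgroup CL.IN CL.TC CL.PG CL.PP CL.Y5

universe u

namespace We

theorem ub8 {G : Type} [Group G] {φ : FreeGroup Gen →* G} (h : ∀ r ∈ coxList BM.e8 [Y5.sp], φ r = 1) :
    UB (subL φ (wds [.c3, .b3, .a, .b1, .c1, .d1, .b2, .c2])) 9170703360 :=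
  Fi23C.valid.card_le (invol := BM.n8) (LB := lets [.c3, .b3, .a, .b1, .c1, .d1, .b2, .c2]) h rfl (by decide +kernel)
    (subL_mono (by simp)) (m := 12597120)
    (Fi22D.valid.card_le (KL := wds [.c3, .b3, .a, .b1, .c1, .b2, .c2]) (invol := BM.n8)
      (LB := lets [.c3, .b3, .a, .b1, .c1, .b2, .c2]) h rfl (by decide +kernel) (subL_mono (by simp))
      (ubE6 h (iv := BM.n8) (b := .c3) (c := .b3) (d := .a) (e := .b1) (f := .c1) (k := .b2) (by decide +kernel)
        (by decide +kernel) (by decide +kernel)))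

variable {G : Type u} [Group G] {k : Nd → G}

theorem key (h : Cox k) (hs : BM.spider k = 1) : (k .a * k .b1 * k .b2 * k .b3 * k .c1 * k .c2 * k .d1) ^ 9 =
    (k .a * k .b1 * k .b3 * k .b2 * k .c1 * k .c3 * k .d1) ^ 9 := by
  have hR : ∀ r ∈ coxList BM.e8 [Y5.sp], QuotientGroup.mk' (FreeGroup.lift k).ker r = 1 := fun r hr => by
    refine (QuotientGroup.eq_one_iff r).2 (MonoidHom.mem_ker.2 ?_)
    rcases mem_coxList.1 hr with ⟨m, hm, n, hn, rfl⟩ | hr
    · have e : ∀ m ∈ coxNodes BM.e8, m ∈ Dat.I10 ∧ ∀ n ∈ coxNodes BM.e8, coxLabel BM.e8 m n = coxLabel edges m n := by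
        decide
      rw [map_pow, map_mul, FreeGroup.lift_apply_of, FreeGroup.lift_apply_of, (e m hm).2 n hn]
      exact h m (e m hm).1 n (e n hn).1
    · rw [show r = Y5.sp by simpa using hr]
      simp only [map_pow, map_mul, FreeGroup.lift_apply_of]
      rw [show ∀ x y z u v w t : G, x * w * t * x * y * z * x * u * v =
        (x * w * t) * (x * y * z * x * u * v * x * w * t) * (x * w * t)⁻¹ from fun _ _ _ _ _ _ _ => by group,
        conj_pow, ← BM.spider, hs, mul_one, mul_inv_cancel]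
  have h1 := eq_of_model (x := f12) (y := f13) (rels_of_sub hO (by decide +kernel))
    (lbO (Y5O.A_lb Y5O.c1) (by decide +kernel)) hR (fun _ => ub8) (by decide +kernel)
    (eqO (rels_sub (Y5O.rel Y5O.c1) (by decide +kernel)))
  simpa only [map_pow, map_mul, map_inv, FreeGroup.lift_apply_of, inv_mul_eq_one] using
    MonoidHom.mem_ker.1 (QuotientGroup.eq.1 h1)

theorem rot_cox (h : Cox k) : Cox fun n => k (rot n) := fun m hm n hn => by
  have e : ∀ m ∈ Dat.I10, rot m ∈ Dat.I10 ∧ ∀ n ∈ Dat.I10, coxLabel edges m n = coxLabel edges (rot m) (rot n) := by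
    decide
  rw [(e m hm).2 n hn]
  exact h _ (e m hm).1 _ (e n hn).1

theorem rot_sp (hs : BM.spider k = 1) : BM.spider (fun n => k (rot n)) = 1 := by
  simp only [BM.spider, rot] at hs ⊢
  rw [show ∀ x y z u v w t : G, x * u * v * x * w * t * x * y * z =
    (x * y * z)⁻¹ * (x * y * z * x * u * v * x * w * t) * (x * y * z)⁻¹⁻¹ from fun _ _ _ _ _ _ _ => by group,
    conj_pow, hs, mul_one, mul_inv_cancel]

/-- the numbered nodes -/
def nd (i : ℕ) : Nd := Dat.I10.getD i .a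

/-- the braid moves -/
def ps : List ℕ :=
  [71, 70, 69, 74, 73, 72, 82, 81, 86, 91, 90, 89, 88, 87, 85, 84, 83, 82, 80, 79, 78, 76, 82, 81, 80, 79, 89, 92, 
  91, 90, 88, 87, 86, 84, 91, 90, 89, 93, 92, 91, 90, 88, 87, 93, 103, 102, 107, 112, 111, 110, 109, 108, 106, 105, 
  104, 103, 101, 100, 99, 97, 95, 94, 92, 91, 97, 104, 103, 102, 108, 107, 106, 105, 104, 103, 101, 100, 98, 96, 95, 
  105, 104, 103, 102, 101, 111, 110, 114, 113, 112, 111, 109, 108, 106, 105, 112, 111, 110, 109, 115, 113, 117, 116, 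
  123, 122, 126, 125, 124, 123, 121, 120, 118, 117, 115, 114, 112, 111, 110, 108, 107, 106, 104, 103, 102, 100, 99, 
  98, 96, 94, 93, 92, 90, 89, 88, 86, 85, 83, 82, 81, 80, 78, 77, 75, 74, 73, 71, 70, 68, 67, 66, 65, 63, 62, 61, 60, 
  59, 58, 58, 57, 57, 56, 57, 56, 55, 54, 54, 53, 53, 52, 51, 51, 50, 49, 50, 49, 48, 49, 48, 47, 48, 49, 47, 46, 47, 
  46, 45, 47, 46, 45, 44, 43, 43, 42, 44, 43, 45, 44, 42, 41, 46, 45, 44, 47, 46, 45, 43, 42, 41, 40, 39, 46, 45, 47, 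
  49, 48, 46, 44, 43, 42, 41, 40, 39, 38, 38, 37, 38, 37, 36, 38, 37, 36, 35, 34, 33, 32, 31, 30, 30, 29, 28, 30, 29, 
  28, 27, 29, 30, 28, 27, 26, 30, 29, 28, 27, 31, 30, 29, 28, 26, 25, 28, 27, 26, 25, 24, 25, 24, 23, 22, 23, 22, 21, 
  24, 23, 22, 25, 26, 24, 23, 21, 20, 21, 20, 19, 18, 22, 21, 20, 19, 18, 17, 19, 18, 17, 16, 16, 15, 16, 15, 14, 13, 
  15, 14, 13, 12, 11, 10, 10, 9, 8, 7, 6, 5, 5, 4, 4, 3, 2, 1, 0]

theorem cen (h : Cox k) (u : List ℕ) (c : ℕ) (e : ps.foldl (mvAt fun i j => coxLabel edges (nd i) (nd j))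
    ((List.replicate 9 u).flatten ++ c :: ((List.replicate 9 u).flatten.reverse ++ [c])) = []) :
    Commute (ev (fun i => k (nd i)) u ^ 9) (k (nd c)) := by
  have hm : ∀ i, nd i ∈ Dat.I10 := fun i => by
    by_cases h : i < 10
    · revert i; decide
    · rw [nd, List.getD_eq_default _ _ (by simpa using h)]; decide
  have h1 : ∀ i, k (nd i) * k (nd i) = 1 := fun i => by simpa [coxLabel] using h _ (hm i) _ (hm i)
  have := ev_eq_one_of_moves h1 (fun i j => h _ (hm i) _ (hm j)) ps e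
  rw [ev_append, ev_cons, ev_append, ev_reverse h1, ev_rep, ev_cons, ev_nil, mul_one, ← mul_assoc, ← mul_assoc,
    mul_eq_one_iff_eq_inv, inv_eq_of_mul_eq_one_right (h1 c), mul_inv_eq_iff_eq_mul] at this
  exact this

end We

open We in
theorem weThm {G : Type u} [Group G] [Finite G] {k : Nd → G} (h : Cox k) (hs : BM.spider k = 1) : WE k := by
  refine ⟨key h hs, (key (rot_cox h) (rot_sp hs)).symm, key (rot_cox (rot_cox h)) (rot_sp (rot_sp hs)), ?_, ?_, ?_⟩ <;>
    simp only [mul_assoc]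
  · simpa only [ev_cons, ev_nil, mul_one, nd, List.getD_cons_succ, List.getD_cons_zero] using
      cen h [0, 1, 7, 4, 2, 8, 3] 8 (by decide +kernel)
  · simpa only [ev_cons, ev_nil, mul_one, nd, List.getD_cons_succ, List.getD_cons_zero] using
      cen h [0, 4, 7, 1, 5, 8, 6] 8 (by decide +kernel)
  · simpa only [ev_cons, ev_nil, mul_one, nd, List.getD_cons_succ, List.getD_cons_zero] using
      cen h [0, 7, 4, 1, 8, 5, 9] 5 (by decide +kernel)

end CL.E6S
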