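/-
Auxiliary models for Fi22A5.
Generated by tools/pg.
-/
import Cfsg.Agent.Spor.PGCtx
import Cfsg.Agent.Spor.PGStruct
import Cfsg.Agent.Spor.PGSub
import Cfsg.Agent.Spor.StdO6m2

set_option autoImplicit false
set_option maxRecDepth 200000
set_option Elab.async false
set_option linter.unusedVariables false

namespace CL.F22.AuxH.T
open CL.PG

def P : Par := ⟨36, 40, 6, 3⟩
theorem hP : P.Ok := by decide
noncomputable def a0 : Net := (.cons 20 (nat_lit 0xd55d9)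
 (.cons 10 (nat_lit 0xa60001d)
 (.cons 5 (nat_lit 0x681401819)
 (.cons 1 (nat_lit 0x800000020)
 (.cons 1 (nat_lit 0x5010200040)
 (.cons 1 (nat_lit 0x200a408085)
 (.cons 1 (nat_lit 0x5294a10142)
 (.cons 1 (nat_lit 0x2948001000)
 (.cons 5 (nat_lit 0x680c00800)
 (.cons 10 (nat_lit 0x3c8000a2)
 (.cons 20 (nat_lit 0xd4b0a)
 .nil)))))))))))
noncomputable def a1 : Net := (.cons 20 (nat_lit 0xa80ea)
 (.cons 10 (nat_lit 0x30a00133)
 (.cons 5 (nat_lit 0x380505001)
 (.cons 1 (nat_lit 0x40000020)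
 (.cons 1 (nat_lit 0x128005004a)
 (.cons 1 (nat_lit 0x2900429085)
 (.cons 1 (nat_lit 0x528485090a)
 (.cons 1 (nat_lit 0x2140101484)
 (.cons 5 (nat_lit 0x780607812)
 (.cons 10 (nat_lit 0x13a0012e)
 (.cons 20 (nat_lit 0xa2b04)
 .nil)))))))))))
noncomputable def a2 : Net := .nil
noncomputable def a3 : Net := .nil
noncomputable def a4 : Net := .nil
noncomputable def a5 : Net := .nil
noncomputable def a6 : Net := .nil
noncomputable def a7 : Net := .nil
noncomputable def a8 : Net := .nil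
noncomputable def a9 : Net := .nil
noncomputable def a10 : Net := .nil
noncomputable def a11 : Net := .nil
noncomputable def a12 : Net := (.cons 20 (nat_lit 0x5a42a)
 (.cons 10 (nat_lit 0x29200072)
 (.cons 5 (nat_lit 0x380d01c18)
 (.cons 1 (nat_lit 0x1000)
 (.cons 1 (nat_lit 0x204802808)
 (.cons 1 (nat_lit 0x290a521424)
 (.cons 1 (nat_lit 0x128424284a)
 (.cons 1 (nat_lit 0x210a5200a4)
 (.cons 5 (nat_lit 0x400405018)
 (.cons 10 (nat_lit 0x3ba002e4)
 (.cons 20 (nat_lit 0x55380)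
 .nil)))))))))))
noncomputable def a13 : Net := (.cons 20 (nat_lit 0x18118)
 (.cons 10 (nat_lit 0x24001e6)
 (.cons 5 (nat_lit 0x80c00400)
 (.cons 1 (nat_lit 0x140000000)
 (.cons 1 (nat_lit 0x28021200a)
 (.cons 1 (nat_lit 0x14a4210a4)
 (.cons 1 (nat_lit 0x294a4284a)
 (.cons 1 (nat_lit 0x1024290a0)
 (.cons 5 (nat_lit 0x80005808)
 (.cons 10 (nat_lit 0xc00142)
 (.cons 20 (nat_lit 0x10cd0)
 .nil)))))))))))
noncomputable def a14 : Net := (.cons 20 (nat_lit 0x8b064)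
 (.cons 10 (nat_lit 0xe600378)
 (.cons 5 (nat_lit 0x681007800)
 (.cons 1 (nat_lit 0x40401400)
 (.cons 1 (nat_lit 0x280a02800)
 (.cons 1 (nat_lit 0x290a501484)
 (.cons 1 (nat_lit 0x5284a1284a)
 (.cons 1 (nat_lit 0x284a420484)
 (.cons 5 (nat_lit 0x601004000)
 (.cons 10 (nat_lit 0xe200358)
 (.cons 20 (nat_lit 0x8b064)
 .nil)))))))))))
noncomputable def a15 : Net := (.cons 20 (nat_lit 0x1e0c0)
 (.cons 10 (nat_lit 0xc400330)
 (.cons 5 (nat_lit 0x401d0481e)
 (.cons 1 (nat_lit 0x800000000)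
 (.cons 1 (nat_lit 0x5000000000)
 (.cons 1 (nat_lit 0x2808021400)
 (.cons 1 (nat_lit 0x5094812800)
 (.cons 1 (nat_lit 0x8080214a4)
 (.cons 5 (nat_lit 0x401c04802)
 (.cons 10 (nat_lit 0xc400330)
 (.cons 20 (nat_lit 0x1e0c0)
 .nil)))))))))))
noncomputable def a16 : Net := (.cons 20 (nat_lit 0x8aa08)
 (.cons 10 (nat_lit 0xe002d2)
 (.cons 5 (nat_lit 0x50481e)
 (.cons 1 (nat_lit 0x800000020)
 (.cons 1 (nat_lit 0x5000a00140)
 (.cons 1 (nat_lit 0x20084090a4)
 (.cons 1 (nat_lit 0x5090a12942)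
 (.cons 1 (nat_lit 0x808420424)
 (.cons 5 (nat_lit 0x401407014)
 (.cons 10 (nat_lit 0x20003f2)
 (.cons 20 (nat_lit 0x8696c)
 .nil)))))))))))
noncomputable def a17 : Net := (.cons 20 (nat_lit 0x44d84)
 (.cons 10 (nat_lit 0x32c00090)
 (.cons 5 (nat_lit 0x601d01c18)
 (.cons 1 (nat_lit 0x8000000)
 (.cons 1 (nat_lit 0x9420000a)
 (.cons 1 (nat_lit 0x294a508084)
 (.cons 1 (nat_lit 0x109421090a)
 (.cons 1 (nat_lit 0x2808500484)
 (.cons 5 (nat_lit 0x201400018)
 (.cons 10 (nat_lit 0x30400090)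
 (.cons 20 (nat_lit 0x44d84)
 .nil)))))))))))
noncomputable def a18 : Net := (.cons 20 (nat_lit 0x40984)
 (.cons 10 (nat_lit 0x3240003a)
 (.cons 5 (nat_lit 0x600901010)
 (.cons 1 (nat_lit 0x8020)
 (.cons 1 (nat_lit 0x200a50142)
 (.cons 1 (nat_lit 0x2900428084)
 (.cons 1 (nat_lit 0x1284a50148)
 (.cons 1 (nat_lit 0x2800008424)
 (.cons 5 (nat_lit 0x600001010)
 (.cons 10 (nat_lit 0x32400032)
 (.cons 20 (nat_lit 0x40280)
 .nil)))))))))))
noncomputable def a19 : Net := (.cons 20 (nat_lit 0xa19a)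
 (.cons 10 (nat_lit 0x800212)
 (.cons 5 (nat_lit 0x80040c)
 (.cons 1 (nat_lit 0x20)
 (.cons 1 (nat_lit 0x2940)
 (.cons 1 (nat_lit 0x1084)
 (.cons 1 (nat_lit 0x4042942)
 (.cons 1 (nat_lit 0x5000a4)
 (.cons 5 (nat_lit 0x80000c)
 (.cons 10 (nat_lit 0x212)
 (.cons 20 (nat_lit 0xa19a)
 .nil)))))))))))
noncomputable def a20 : Net := (.cons 20 (nat_lit 0xf920a)
 (.cons 10 (nat_lit 0x2e10030c)
 (.cons 5 (nat_lit 0x8150740c)
 (.cons 1 (nat_lit 0x2000000)
 (.cons 1 (nat_lit 0x294000000)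
 (.cons 1 (nat_lit 0x1080010a0)
 (.cons 1 (nat_lit 0x4294800842)
 (.cons 1 (nat_lit 0x9481210a0)
 (.cons 5 (nat_lit 0x140300c)
 (.cons 10 (nat_lit 0x2120030c)
 (.cons 20 (nat_lit 0xf920a)
 .nil)))))))))))
noncomputable def a21 : Net := (.cons 20 (nat_lit 0x44d84)
 (.cons 10 (nat_lit 0x32c00090)
 (.cons 5 (nat_lit 0x601d01c18)
 (.cons 1 (nat_lit 0x8000000)
 (.cons 1 (nat_lit 0x9420000a)
 (.cons 1 (nat_lit 0x294a508084)
 (.cons 1 (nat_lit 0x109421090a)
 (.cons 1 (nat_lit 0x2808500484)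
 (.cons 5 (nat_lit 0x201400018)
 (.cons 10 (nat_lit 0x30400090)
 (.cons 20 (nat_lit 0x44d84)
 .nil)))))))))))
noncomputable def a22 : Net := (.cons 20 (nat_lit 0x4c68c)
 (.cons 10 (nat_lit 0x20000290)
 (.cons 5 (nat_lit 0x200201010)
 (.cons 1 (nat_lit 0x900008000)
 (.cons 1 (nat_lit 0x5280a50000)
 (.cons 1 (nat_lit 0x2140520484)
 (.cons 1 (nat_lit 0x5284a50902)
 (.cons 1 (nat_lit 0x900008484)
 (.cons 5 (nat_lit 0x200201010)
 (.cons 10 (nat_lit 0x20000290)
 (.cons 20 (nat_lit 0x4448c)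
 .nil)))))))))))
noncomputable def a23 : Net := (.cons 20 (nat_lit 0xc408)
 (.cons 10 (nat_lit 0x23100120)
 (.cons 5 (nat_lit 0x60180300a)
 (.cons 1 (nat_lit 0x2000000)
 (.cons 1 (nat_lit 0x294000000)
 (.cons 1 (nat_lit 0x2908001000)
 (.cons 1 (nat_lit 0x1294010900)
 (.cons 1 (nat_lit 0x2802401024)
 (.cons 5 (nat_lit 0x60180300a)
 (.cons 10 (nat_lit 0x23000120)
 (.cons 20 (nat_lit 0xc408)
 .nil)))))))))))
noncomputable def ns0 : List Net := [a0, a1, a2, a3, a4, a5, a6, a7, a8, a9, a10, a11]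
noncomputable def ws : List (List ℕ) :=
  [W (nat_lit 0x200e0201600c140201204c0a00c070080401016010010100b04c100080905009018020080400804),
  W (nat_lit 0x1c070300703005030160341103c030340d03c1201c1205c110340201c030380a05c1104c0d048170501100802),
  W (nat_lit 0x6c1906c1b06c1b06c1907019),
  W (nat_lit 0x681c0681a0701a),
  W (nat_lit 0x19070190701a06c1a),
  W (nat_lit 0x1d0801e),
  W (nat_lit 0x2108420),
  W (nat_lit 0x88220741f0881e),
  W (nat_lit 0x210802107420),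
  W (nat_lit 0x27090270942409c26090250a0250a82a),
  W (nat_lit 0x240a82a09c240a8240a42909c240a4230a026),
  W (nat_lit 0xb82e0b82c)]
noncomputable def ns : List Net := [a0, a1, a2, a3, a4, a5, a6, a7, a8, a9, a10, a11, a12, a13, a14, a15, a16, a17, a18, a19, a20, a21, a22, a23]
noncomputable def D : List (ℕ × List ℕ) := app [] (mkDefs ws 12)
noncomputable def chk : List (List ℕ × List ℕ) → Bool := P.relsB ns
noncomputable def G_v0 : Lev :=
  ⟨0, 36, sg (W (nat_lit 0x40100c0100c0100c0100c01)), [[24], [26]], 0, 2⟩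
noncomputable def G_v1 : Lev :=
  ⟨4, 15, sg (W (nat_lit 0x1906c1906c1906c19)), [[28], [30], [32]], 2, 3⟩
noncomputable def G_v2 : Lev :=
  ⟨6, 6, sg (W (nat_lit 0x210841d)), [[34], [36], [38], [40]], 5, 4⟩
noncomputable def G_v3 : Lev :=
  ⟨3, 4, sg (W (nat_lit 0xa425)), [[42], [44]], 9, 2⟩
noncomputable def G_v4 : Lev :=
  ⟨7, 2, sg [42], [[46]], 11, 1⟩
noncomputable def G_v5 : Lev :=
  ⟨1, 2, sg [46], [], 12, 0⟩
noncomputable def G_vs6 : List Lev :=
  []
noncomputable def G_vs5 : List Lev :=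
  G_v5 :: G_vs6
noncomputable def G_vs4 : List Lev :=
  G_v4 :: G_vs5
noncomputable def G_vs3 : List Lev :=
  G_v3 :: G_vs4
noncomputable def G_vs2 : List Lev :=
  G_v2 :: G_vs3
noncomputable def G_vs1 : List Lev :=
  G_v1 :: G_vs2
noncomputable def G_vs : List Lev :=
  G_v0 :: G_vs1

theorem zc0 : P.chainB ns D G_vs [[0], [2], [4], [6], [8], [10], [12], [14], [16], [18], [20], [22]] = true := by decide +kernel
theorem zk1 : allL (keepB P.n P.N) ns0 = true := by decide +kernel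
theorem ze2 : extB ns0 ns 12 ws [] = true := by decide +kernel
theorem zn3 : P.netsB ns (mkDefs ws 12) = true := by decide +kernel

section
variable {G X : Type*} [Group G] [MulAction G X] {e : ℕ → X} {gs : List G}

theorem keep0 : allL (keepB P.n P.N) ns0 = true := zk1

theorem len {k} (c : Ctx P e gs ns0 [] k) : gs.length = 12 := c.len ze2

theorem ctx0 {k} (c : Ctx P e gs ns0 [] k) : Ctx P e (ext gs ws) ns D chk0 :=
  c.ext rfl ze2 zn3

theorem ctx {k} (c : Ctx P e gs ns0 [] k) {H : Subgroup G} (hF : Faithful e P.n H) (hH : ∀ g ∈ gs, g ∈ H) :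
    Ctx P e (ext gs ws) ns D chk :=
  (ctx0 c).withB hF (mem_of_mem_ext hH _)

instance instNe : NeZero P.n := ⟨by decide⟩
noncomputable def gs0 : List (Equiv.Perm (Fin P.n)) := permsOf P.n P.N ns0
noncomputable def gs1 : List (Equiv.Perm (Fin P.n)) := ext gs0 ws
theorem c1 : Ctx P (eF P.n) gs1 ns D chk :=
  ctx (ctx_permsOf hP keep0) (faithful_eF _) fun _ _ => trivial

theorem G_c : P.chainB ns D G_vs [[0], [2], [4], [6], [8], [10], [12], [14], [16], [18], [20], [22]] = true :=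
  zc0

theorem G_o : prodL G_vs 1 = 51840 := by decide +kernel

theorem G_lb (c : Ctx P e gs ns D chk) :
    LB (subW gs [[0], [2], [4], [6], [8], [10], [12], [14], [16], [18], [20], [22]]) 51840 :=
  c.lb G_c G_o

end
end CL.F22.AuxH.T

namespace CL.F22.AuxH.S
open CL.PG

def P : Par := ⟨63, 64, 6, 3⟩
theorem hP : P.Ok := by decide
noncomputable def a0 : Net := (.cons 32 (nat_lit 0x28884021)
 (.cons 16 (nat_lit 0xeabe000064fd)
 (.cons 8 (nat_lit 0xd300c4002c0075)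
 (.cons 4 (nat_lit 0xc060507090f0608)
 (.cons 2 (nat_lit 0x332230213221211)
 (.cons 1 (nat_lit 0x1144500115141051)
 (.cons 2 (nat_lit 0x220220002)
 (.cons 4 (nat_lit 0x40004000e04060c)
 (.cons 8 (nat_lit 0x9000c6002600b0)
 (.cons 16 (nat_lit 0xc25e0000604e)
 (.cons 32 (nat_lit 0x18161004)
 .nil)))))))))))
noncomputable def a1 : Net := (.cons 32 (nat_lit 0x63183682)
 (.cons 16 (nat_lit 0xe2cb00002881)
 (.cons 8 (nat_lit 0x3006e004600a0)
 (.cons 4 (nat_lit 0x9070f0e04000500)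
 (.cons 2 (nat_lit 0x2010233121123003)
 (.cons 1 (nat_lit 0x5141044111145010)
 (.cons 2 (nat_lit 0x222022202000000)
 (.cons 4 (nat_lit 0x6040a0206080c06)
 (.cons 8 (nat_lit 0x30002400960048)
 (.cons 16 (nat_lit 0xf4ce00008da0)
 (.cons 32 (nat_lit 0x434826b0)
 .nil)))))))))))
noncomputable def a2 : Net := .nil
noncomputable def a3 : Net := .nil
noncomputable def a4 : Net := .nil
noncomputable def a5 : Net := .nil
noncomputable def a6 : Net := .nil
noncomputable def a7 : Net := .nil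
noncomputable def a8 : Net := .nil
noncomputable def a9 : Net := .nil
noncomputable def a10 : Net := .nil
noncomputable def a11 : Net := .nil
noncomputable def a12 : Net := (.cons 32 (nat_lit 0xcc7ded52)
 (.cons 16 (nat_lit 0x87f40000ea00)
 (.cons 8 (nat_lit 0xe600770037008c)
 (.cons 4 (nat_lit 0x202060a0a07050a)
 (.cons 2 (nat_lit 0x1213100110311312)
 (.cons 1 (nat_lit 0x45445005401044)
 (.cons 2 (nat_lit 0x20000002022)
 (.cons 4 (nat_lit 0x4020a040a0c080a)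
 (.cons 8 (nat_lit 0x860008003800b2)
 (.cons 16 (nat_lit 0xa7200000aae4)
 (.cons 32 (nat_lit 0xf75bd1a2)
 .nil)))))))))))
noncomputable def a13 : Net := (.cons 32 (nat_lit 0x8012fdc)
 (.cons 16 (nat_lit 0x64a200003c54)
 (.cons 8 (nat_lit 0xcf0086003b0048)
 (.cons 4 (nat_lit 0x205000100010f04)
 (.cons 2 (nat_lit 0x1123102220233100)
 (.cons 1 (nat_lit 0x4044141014041414)
 (.cons 2 (nat_lit 0x2020020002002220)
 (.cons 4 (nat_lit 0x8000c000408020c)
 (.cons 8 (nat_lit 0xfc00f400040070)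
 (.cons 16 (nat_lit 0x34ce00000574)
 (.cons 32 (nat_lit 0x224a6344)
 .nil)))))))))))
noncomputable def a14 : Net := (.cons 32 (nat_lit 0xe4dd0a22)
 (.cons 16 (nat_lit 0x3b0c0000e98e)
 (.cons 8 (nat_lit 0x7e00f300bc00e4)
 (.cons 4 (nat_lit 0xd0e050e03050708)
 (.cons 2 (nat_lit 0x1232323002231312)
 (.cons 1 (nat_lit 0x4515041544044014)
 (.cons 2 (nat_lit 0x20020020000022)
 (.cons 4 (nat_lit 0xe040a02000c0808)
 (.cons 8 (nat_lit 0xc400ac00c00090)
 (.cons 16 (nat_lit 0x39bc00008348)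
 (.cons 32 (nat_lit 0x801f71b2)
 .nil)))))))))))
noncomputable def a15 : Net := (.cons 32 (nat_lit 0x12111110)
 (.cons 16 (nat_lit 0x101200001bb4)
 (.cons 8 (nat_lit 0x920062005500e4)
 (.cons 4 (nat_lit 0x209090e02080b0a)
 (.cons 2 (nat_lit 0x202020200020)
 (.cons 1 (nat_lit 0x4140041444041544)
 (.cons 2 (nat_lit 0x2002000002)
 (.cons 4 (nat_lit 0x208080c0c080804)
 (.cons 8 (nat_lit 0x900062004400e4)
 (.cons 16 (nat_lit 0x101200001bb4)
 (.cons 32 (nat_lit 0x12111110)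
 .nil)))))))))))
noncomputable def a16 : Net := (.cons 32 (nat_lit 0xc0114000)
 (.cons 16 (nat_lit 0x79d200007028)
 (.cons 8 (nat_lit 0x38004400280006)
 (.cons 4 (nat_lit 0x204080c02040000)
 (.cons 2 (nat_lit 0x200223001022222)
 (.cons 1 (nat_lit 0x5401415010400404)
 (.cons 2 (nat_lit 0x200220000000202)
 (.cons 4 (nat_lit 0x2000c0802040000)
 (.cons 8 (nat_lit 0x30002000080000)
 (.cons 16 (nat_lit 0x695200003020)
 (.cons 32 (nat_lit 0xc0114000)
 .nil)))))))))))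
noncomputable def a17 : Net := (.cons 32 (nat_lit 0x810480)
 (.cons 16 (nat_lit 0x4c420000b320)
 (.cons 8 (nat_lit 0x44001000100048)
 (.cons 4 (nat_lit 0x408040c080a0408)
 (.cons 2 (nat_lit 0x203120322020100)
 (.cons 1 (nat_lit 0x400040541010040)
 (.cons 2 (nat_lit 0x200020022020000)
 (.cons 4 (nat_lit 0x408040c08080408)
 (.cons 8 (nat_lit 0x44001000000048)
 (.cons 16 (nat_lit 0x44420000b120)
 (.cons 32 (nat_lit 0x810480)
 .nil)))))))))))
noncomputable def a18 : Net := (.cons 32 (nat_lit 0xc009400a)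
 (.cons 16 (nat_lit 0x63d200006b1e)
 (.cons 8 (nat_lit 0x30004000e000ac)
 (.cons 4 (nat_lit 0xc0e0f0c0f080b04)
 (.cons 2 (nat_lit 0x2020122033200232)
 (.cons 1 (nat_lit 0x4501550014011100)
 (.cons 2 (nat_lit 0x2000000000002000)
 (.cons 4 (nat_lit 0xc080008000a0004)
 (.cons 8 (nat_lit 0x20004000e000ac)
 (.cons 16 (nat_lit 0x635a00002b12)
 (.cons 32 (nat_lit 0xc0006020)
 .nil)))))))))))
noncomputable def a19 : Net := (.cons 32 (nat_lit 0x53011590)
 (.cons 16 (nat_lit 0xc5600000b1c0)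
 (.cons 8 (nat_lit 0xaa009c008d0058)
 (.cons 4 (nat_lit 0xd040e0a02040808)
 (.cons 2 (nat_lit 0x2020020202222100)
 (.cons 1 (nat_lit 0x401015450404040)
 (.cons 2 (nat_lit 0x20200200020)
 (.cons 4 (nat_lit 0xc00080a02040808)
 (.cons 8 (nat_lit 0xaa009c008c0020)
 (.cons 16 (nat_lit 0xc560000031c0)
 (.cons 32 (nat_lit 0x53011590)
 .nil)))))))))))
noncomputable def a20 : Net := (.cons 32 (nat_lit 0x12133318)
 (.cons 16 (nat_lit 0xdea40000cd22)
 (.cons 8 (nat_lit 0x50006600c900dc)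
 (.cons 4 (nat_lit 0xf0b010c06080e04)
 (.cons 2 (nat_lit 0x20202002020220)
 (.cons 1 (nat_lit 0x5544400454444144)
 (.cons 2 (nat_lit 0x2200000220220)
 (.cons 4 (nat_lit 0x4000c06080c04)
 (.cons 8 (nat_lit 0x50006000a000cc)
 (.cons 16 (nat_lit 0x9e2400004d22)
 (.cons 32 (nat_lit 0x12133318)
 .nil)))))))))))
noncomputable def a21 : Net := (.cons 32 (nat_lit 0xb0c8f92c)
 (.cons 16 (nat_lit 0xcb0c000035dc)
 (.cons 8 (nat_lit 0x6200b20006003a)
 (.cons 4 (nat_lit 0x20802060e000300)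
 (.cons 2 (nat_lit 0x1320010020201302)
 (.cons 1 (nat_lit 0x545501001051444)
 (.cons 2 (nat_lit 0x20000000002222)
 (.cons 4 (nat_lit 0x20802020a000400)
 (.cons 8 (nat_lit 0x620080000600d2)
 (.cons 16 (nat_lit 0x4b04000025dc)
 (.cons 32 (nat_lit 0xb0c8f92c)
 .nil)))))))))))
noncomputable def a22 : Net := (.cons 32 (nat_lit 0x27964000)
 (.cons 16 (nat_lit 0xaff4000090c0)
 (.cons 8 (nat_lit 0xcb000200140046)
 (.cons 4 (nat_lit 0xa0c000e0a010000)
 (.cons 2 (nat_lit 0x2020211200201200)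
 (.cons 1 (nat_lit 0x4545400441000140)
 (.cons 2 (nat_lit 0x2020200200000200)
 (.cons 4 (nat_lit 0xc0a00060a000000)
 (.cons 8 (nat_lit 0x24000000100040)
 (.cons 16 (nat_lit 0xaf94000010c0)
 (.cons 32 (nat_lit 0x27964000)
 .nil)))))))))))
noncomputable def a23 : Net := (.cons 32 (nat_lit 0x20200)
 (.cons 16 (nat_lit 0x4ce400008590)
 (.cons 8 (nat_lit 0x8000c00040000)
 (.cons 4 (nat_lit 0x400000c)
 (.cons 2 (nat_lit 0x22022020200112)
 (.cons 1 (nat_lit 0x44004004004000)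
 (.cons 2 (nat_lit 0x22002000000000)
 (.cons 4 (nat_lit 0x400000c)
 (.cons 8 (nat_lit 0x800000000)
 (.cons 16 (nat_lit 0xc0400008590)
 (.cons 32 (nat_lit 0x20200)
 .nil)))))))))))
noncomputable def a24 : Net := (.cons 32 (nat_lit 0x2000008)
 (.cons 16 (nat_lit 0x20000001644)
 (.cons 8 (nat_lit 0x82004200b000c0)
 (.cons 4 (nat_lit 0x2000a000c010000)
 (.cons 2 (nat_lit 0x12201202)
 (.cons 1 (nat_lit 0x4101054000000140)
 (.cons 2 (nat_lit 0x200)
 (.cons 4 (nat_lit 0x2000a000c000000)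
 (.cons 8 (nat_lit 0x82004000b000c0)
 (.cons 16 (nat_lit 0x20000001640)
 (.cons 32 (nat_lit 0x2000008)
 .nil)))))))))))
noncomputable def a25 : Net := (.cons 32 (nat_lit 0xb0c74e5c)
 (.cons 16 (nat_lit 0x11750000b83b)
 (.cons 8 (nat_lit 0xcf0070003700cb)
 (.cons 4 (nat_lit 0x408080705000302)
 (.cons 2 (nat_lit 0x3113221321030112)
 (.cons 1 (nat_lit 0x4050451441154014)
 (.cons 2 (nat_lit 0x202000202002)
 (.cons 4 (nat_lit 0x40e0a0c00060e04)
 (.cons 8 (nat_lit 0x86000e00f80080)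
 (.cons 16 (nat_lit 0x90560000e5b0)
 (.cons 32 (nat_lit 0xe13e1e88)
 .nil)))))))))))
noncomputable def a26 : Net := (.cons 32 (nat_lit 0x575ecc14)
 (.cons 16 (nat_lit 0x9cbf0000c408)
 (.cons 8 (nat_lit 0xe200cd008000a6)
 (.cons 4 (nat_lit 0x3050b050001010e)
 (.cons 2 (nat_lit 0x3323302123321210)
 (.cons 1 (nat_lit 0x114004454105144)
 (.cons 2 (nat_lit 0x2002000220)
 (.cons 4 (nat_lit 0x400060008)
 (.cons 8 (nat_lit 0xf800c4008c0056)
 (.cons 16 (nat_lit 0x8c740000dc78)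
 (.cons 32 (nat_lit 0x73a72958)
 .nil)))))))))))
noncomputable def a27 : Net := (.cons 32 (nat_lit 0x404208)
 (.cons 16 (nat_lit 0x6c400000c002)
 (.cons 8 (nat_lit 0x2400500050)
 (.cons 4 (nat_lit 0x100040a000804)
 (.cons 2 (nat_lit 0x200230320022002)
 (.cons 1 (nat_lit 0x400451015011000)
 (.cons 2 (nat_lit 0x200200020022000)
 (.cons 4 (nat_lit 0x40a000800)
 (.cons 8 (nat_lit 0x2400100050)
 (.cons 16 (nat_lit 0x6c400000c002)
 (.cons 32 (nat_lit 0x404208)
 .nil)))))))))))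
noncomputable def a28 : Net := (.cons 32 (nat_lit 0xfbfffff8)
 (.cons 16 (nat_lit 0x679900006b9c)
 (.cons 8 (nat_lit 0x44005d006300ba)
 (.cons 4 (nat_lit 0x9020c0e040e020e)
 (.cons 2 (nat_lit 0x2203031212030312)
 (.cons 1 (nat_lit 0x144445014044010)
 (.cons 2 (nat_lit 0x220220000000000)
 (.cons 4 (nat_lit 0x8080800040c020a)
 (.cons 8 (nat_lit 0x2c0000007200ba)
 (.cons 16 (nat_lit 0xc1f00000231c)
 (.cons 32 (nat_lit 0xffdffff8)
 .nil)))))))))))
noncomputable def a29 : Net := (.cons 32 (nat_lit 0x810480)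
 (.cons 16 (nat_lit 0x4c420000b320)
 (.cons 8 (nat_lit 0x44001000100048)
 (.cons 4 (nat_lit 0x408040c080a0408)
 (.cons 2 (nat_lit 0x203120322020100)
 (.cons 1 (nat_lit 0x400040541010040)
 (.cons 2 (nat_lit 0x200020022020000)
 (.cons 4 (nat_lit 0x408040c08080408)
 (.cons 8 (nat_lit 0x44001000000048)
 (.cons 16 (nat_lit 0x44420000b120)
 (.cons 32 (nat_lit 0x810480)
 .nil)))))))))))
noncomputable def ns0 : List Net := [a0, a1, a2, a3, a4, a5, a6, a7, a8, a9, a10, a11]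
noncomputable def ws : List (List ℕ) :=
  [W (nat_lit 0x120200f0080903c070100104c160440902408010050281002806050060480c0301203c05014180380b028100480501004),
  W (nat_lit 0x5c170340201c0e0100d04c030540500c0a0280e0141202014034020380f02c1203c0800c02),
  W (nat_lit 0x54180440505c0a004160281103c0100c010501403c0503018040150601301c0d0301604c0a04c04060180280d03c0500c03),
  W (nat_lit 0x741a06c19),
  W (nat_lit 0x1c0681c),
  W (nat_lit 0x1b0781e),
  W (nat_lit 0x8c2008c2008c22),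
  W (nat_lit 0x90210842408021),
  W (nat_lit 0x802408423088220802208024),
  W (nat_lit 0x2207c23080240842008424),
  W (nat_lit 0x2c0b028098290a42909c2a09c27094270a82c),
  W (nat_lit 0x290a02c0a02c094250a02509c2c),
  W (nat_lit 0xc02d),
  W (nat_lit 0x1002),
  W (nat_lit 0x190701e06419),
  W (nat_lit 0x1c0701c),
  W (nat_lit 0xdc360e0350e036),
  W (nat_lit 0x350dc350e0360e036)]
noncomputable def ns : List Net := [a0, a1, a2, a3, a4, a5, a6, a7, a8, a9, a10, a11, a12, a13, a14, a15, a16, a17, a18, a19, a20, a21, a22, a23, a24, a25, a26, a27, a28, a29]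
noncomputable def D : List (ℕ × List ℕ) := app [] (mkDefs ws 12)
noncomputable def chk : List (List ℕ × List ℕ) → Bool := P.relsB ns
noncomputable def zt0 : List ℕ :=
  []
noncomputable def zcj1 : List (List ℕ) :=
  []
noncomputable def zE4 : List (ℕ × List ℕ) :=
  [(44, W (nat_lit 0xc42f))]
noncomputable def zt5 : List ℕ :=
  []
noncomputable def zcj6 : List (List ℕ) :=
  [[48]]
noncomputable def zus10 : List (List ℕ) :=
  [[36],
  [40],
  [42]]
noncomputable def zF11 : List (List (ℕ × List ℕ)) :=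
  [[(1, []),
   (0, []),
   (3, W (nat_lit 0xc42d)),
   (2, W (nat_lit 0xc42d))],
  [(1, [48]),
   (0, [48]),
   (3, [44]),
   (2, [44])],
  [(2, []),
   (3, W (nat_lit 0xc42d)),
   (0, []),
   (1, W (nat_lit 0xc42d))],
  [(3, []),
   (2, W (nat_lit 0xc42d)),
   (1, W (nat_lit 0xc42d)),
   (0, [])]]
noncomputable def zus14 : List (List ℕ) :=
  [[34],
  W (nat_lit 0x8c1f),
  W (nat_lit 0x8c21),
  W (nat_lit 0x8c25),
  W (nat_lit 0x2309423)]
noncomputable def zF15 : List (List (ℕ × List ℕ)) :=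
  [[(0, W (nat_lit 0x310b429)),
   (2, []),
   (1, []),
   (4, [48]),
   (3, [48]),
   (5, [44])],
  [(0, W (nat_lit 0xc42b)),
   (3, []),
   (4, [48]),
   (1, []),
   (2, [48]),
   (5, W (nat_lit 0x310b425))],
  [(1, []),
   (0, []),
   (2, W (nat_lit 0xb429)),
   (3, W (nat_lit 0xc42d)),
   (5, []),
   (4, [])]]
noncomputable def zus18 : List (List ℕ) :=
  [[24],
  [25],
  [26],
  [27],
  [28],
  [29],
  W (nat_lit 0x641d),
  W (nat_lit 0x681b),
  W (nat_lit 0x681d),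
  W (nat_lit 0x681e),
  W (nat_lit 0x6c1d),
  W (nat_lit 0x6c25),
  W (nat_lit 0x641f),
  W (nat_lit 0x6823)]
noncomputable def zF19 : List (List (ℕ × List ℕ)) :=
  [[(1, []),
   (6, W (nat_lit 0x2b08c25)),
   (0, []),
   (4, W (nat_lit 0xc42b)),
   (8, []),
   (3, W (nat_lit 0x2d08c25)),
   (2, W (nat_lit 0xc42508c21)),
   (13, [42]),
   (5, W (nat_lit 0xb42508c21)),
   (11, W (nat_lit 0x2d08c1f)),
   (12, W (nat_lit 0xc42d0a42309423)),
   (9, W (nat_lit 0xb42508c25)),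
   (7, W (nat_lit 0x3108c25)),
   (10, W (nat_lit 0xc42b08c1f)),
   (14, W (nat_lit 0x310b42309423))],
  [(3, []),
   (4, W (nat_lit 0xb42508c1f)),
   (8, []),
   (6, W (nat_lit 0xc42d0ac2309423)),
   (0, []),
   (1, W (nat_lit 0x2d08c25)),
   (5, W (nat_lit 0x2508c25)),
   (11, W (nat_lit 0x2b08c1f)),
   (2, W (nat_lit 0x310b42508c25)),
   (13, [44]),
   (9, W (nat_lit 0x310b42908c1f)),
   (12, W (nat_lit 0x310b42b08c1f)),
   (7, W (nat_lit 0x3108c1f)),
   (10, W (nat_lit 0xb42908c1f)),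
   (14, W (nat_lit 0xc42908c1f))],
  [(5, []),
   (7, []),
   (9, []),
   (11, []),
   (1, W (nat_lit 0xac23)),
   (3, [34]),
   (0, []),
   (4, W (nat_lit 0x310b42b08c1f)),
   (10, W (nat_lit 0xb42508c25)),
   (14, W (nat_lit 0xc42908c1f)),
   (2, []),
   (12, W (nat_lit 0xb42309423)),
   (6, W (nat_lit 0x310b42908c25)),
   (8, []),
   (13, [])]]
noncomputable def zrs22 : List (ℕ × List ℕ) :=
  [(1, W (nat_lit 0xcc33)),
  (4, [51])]
noncomputable def G_w0_1_v0 : Lev :=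
  ⟨1, 20, sg (W (nat_lit 0x1906c190741907419)), [[52], [54]], 14, 2⟩
noncomputable def G_w0_1_v1 : Lev :=
  ⟨2, 9, sg (W (nat_lit 0x350dc350d4350d435)), [[56], [58]], 16, 2⟩
noncomputable def G_w0_1_v2 : Lev :=
  ⟨3, 4, sg (W (nat_lit 0x390e439)), [[58]], 18, 0⟩
noncomputable def G_w0_1_v3 : Lev :=
  ⟨5, 2, sg [58], [], 18, 0⟩
noncomputable def G_w0_1_vs4 : List Lev :=
  []
noncomputable def G_w0_1_vs3 : List Lev :=
  G_w0_1_v3 :: G_w0_1_vs4
noncomputable def G_w0_1_vs2 : List Lev :=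
  G_w0_1_v2 :: G_w0_1_vs3
noncomputable def G_w0_1_vs1 : List Lev :=
  G_w0_1_v1 :: G_w0_1_vs2
noncomputable def G_w0_1_vs : List Lev :=
  G_w0_1_v0 :: G_w0_1_vs1
noncomputable def zcj24 : List (List ℕ) :=
  [W (nat_lit 0x310b42508c210681b),
  [48]]
noncomputable def G_v0 : Lev :=
  ⟨0, 36, sg (W (nat_lit 0x40100c0100c0100c0100c01)), [[24], [26], [28]], 0, 3⟩
noncomputable def G_v1 : Lev :=
  ⟨4, 15, sg (W (nat_lit 0x1d06c1d06c19)), [[30], [32], [34]], 3, 3⟩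
noncomputable def G_v2 : Lev :=
  ⟨6, 6, sg (W (nat_lit 0x8c2107c23)), [[36], [38], [40], [42]], 6, 4⟩
noncomputable def G_v3 : Lev :=
  ⟨3, 4, sg (W (nat_lit 0xa425)), [[44], [46]], 10, 2⟩
noncomputable def G_v4 : Lev :=
  ⟨7, 2, sg [44], [[48]], 12, 1⟩
noncomputable def G_v5 : Lev :=
  ⟨1, 2, sg [48], [], 13, 0⟩
noncomputable def G_vs6 : List Lev :=
  []
noncomputable def G_vs5 : List Lev :=
  G_v5 :: G_vs6
noncomputable def G_vs4 : List Lev :=
  G_v4 :: G_vs5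
noncomputable def G_vs3 : List Lev :=
  G_v3 :: G_vs4
noncomputable def G_vs2 : List Lev :=
  G_v2 :: G_vs3
noncomputable def G_vs1 : List Lev :=
  G_v1 :: G_vs2
noncomputable def G_vs : List Lev :=
  G_v0 :: G_vs1
noncomputable def zcj28 : List (List ℕ) :=
  [W (nat_lit 0xa42307c1a),
  W (nat_lit 0xa41d),
  W (nat_lit 0x310b42908c1f)]
noncomputable def zB31 : List BG :=
  [⟨[50], [([30], W (nat_lit 0xa42307c1a)), ([32], W (nat_lit 0xa41d)), ([34], W (nat_lit 0x310b42908c1f))],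
  [([⟨[], W (nat_lit 0x6823), 2, W (nat_lit 0x310b42b06823)⟩], []),
   ([⟨[], W (nat_lit 0x941a), 1, W (nat_lit 0xb42b08c19)⟩,
    ⟨[24], W (nat_lit 0x681b), 2, W (nat_lit 0x2b08c1f0681b)⟩], W (nat_lit 0x100c010080300801)),
   ([⟨[], [], 0, []⟩,
    ⟨[24], [46], 1, W (nat_lit 0xb42908c1d)⟩,
    ⟨[26], W (nat_lit 0x6c1d), 2, W (nat_lit 0xac2309423)⟩], W (nat_lit 0x40300801))]⟩]
noncomputable def zE32 : List (ℕ × List ℕ) :=
  [(0, W (nat_lit 0x1d0cc33)),
  (2, W (nat_lit 0xb42b08c250641f0cc1d0cc2d)),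
  (4, []),
  (6, []),
  (8, []),
  (10, []),
  (12, []),
  (14, []),
  (16, []),
  (18, []),
  (20, []),
  (22, [])]
noncomputable def zE37 : Net :=
  .nil
noncomputable def zK38 : Lk :=
  ⟨zE37, 1, 3, 1⟩
noncomputable def zE41 : Net :=
  (.cons 32 (nat_lit 0xfffffff0)
 (.cons 16 (nat_lit 0x1f0000000f)
 (.cons 8 (nat_lit 0x1f001f000f000f)
 (.cons 4 (nat_lit 0xe0e0e0e0f0f0f0f)
 (.cons 2 (nat_lit 0x1111111110000000)
 (.cons 1 (nat_lit 0x5555555550000000)
 (.cons 4 (nat_lit 0x8000000)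
 (.cons 32 (nat_lit 0x80000000)
 .nil))))))))
noncomputable def zK42 : Lk :=
  ⟨zE41, 1, 3, 1⟩

theorem zb2 : bnd (pcB D [] 2 zt0 zcj1) (leB (app D []) [[48]] ([48] :: [])) = true := by decide +kernel
theorem zr3 : chk (pcR [] [48] 2 zt0 zcj1) = true := by decide +kernel
theorem zb7 : bnd (pcB D [[48]] 2 zt5 zcj6) (leB (app D zE4) [[44], [46]] ([46] :: [[48]])) = true := by decide +kernel
theorem zr8 : chk (pcR [[48]] [46] 2 zt5 zcj6) = true := by decide +kernel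
theorem zr9 : chk (defRels zE4) = true := by decide +kernel
theorem zb12 : schB D [[36], [38], [40], [42]] [[44], [46]] zus10 zF11 4 = true := by decide +kernel
theorem zr13 : chk (schR [[36], [38], [40], [42]] zus10 zF11) = true := by decide +kernel
theorem zb16 : schB D [[30], [32], [34]] [[36], [38], [40], [42]] zus14 zF15 6 = true := by decide +kernel
theorem zr17 : chk (schR [[30], [32], [34]] zus14 zF15) = true := by decide +kernel
theorem zb20 : schB D [[24], [26], [28]] [[30], [32], [34]] zus18 zF19 15 = true := by decide +kernel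
theorem zr21 : chk (schR [[24], [26], [28]] zus18 zF19) = true := by decide +kernel
theorem zc23 : P.chainB ns D G_w0_1_vs [[24], [26], [28]] = true := by decide +kernel
theorem zb25 : wdB D [[24], [26], [28]] G_w0_1_v0.nx zcj24 = true := by decide +kernel
theorem zr26 : chk (wdR G_w0_1_v0.nx (W (nat_lit 0xcc33)) zcj24) = true := by decide +kernel
theorem zc27 : P.chainB ns D G_vs [[0], [2], [4], [6], [8], [10], [12], [14], [16], [18], [20], [22]] = true := by decide +kernel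
theorem zb29 : wdB D [[24], [26], [28]] G_v1.nx zcj28 = true := by decide +kernel
theorem zr30 : chk (wdR G_v1.nx [51] zcj28) = true := by decide +kernel
theorem zb33 : bB P.n P.N ns (app D zE32) [[0], [2], [4], [6], [8], [10], [12], [14], [16], [18], [20], [22]] [[24], [26], [28]] 0 zrs22 zB31 = true := by decide +kernel
theorem zb34 : P.invSz ns [[0], [2], [4], [6], [8], [10], [12], [14], [16], [18], [20], [22]] 0 (orbM P.N ns G_v0) 36 = true := by decide +kernel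
theorem zr35 : chk (bR 0 zrs22 zB31) = true := by decide +kernel
theorem zr36 : chk (defRels zE32) = true := by decide +kernel
theorem zl39 : zK38.relB CL.F22.AuxH.S.P CL.F22.AuxH.T.P CL.F22.AuxH.S.ns [[0], [2], [4], [6], [8], [10], [12], [14], [16], [18], [20], [22]] [[0], [2], [4], [6], [8], [10], [12], [14], [16], [18], [20], [22]] = true := by decide +kernel
theorem zl40 : allL (zK38.pl CL.F22.AuxH.S.P CL.F22.AuxH.T.P CL.F22.AuxH.S.ns CL.F22.AuxH.T.ns 0) (zp [] [[0], [2], [4], [6], [8], [10], [12], [14], [16], [18], [20], [22]] [[0], [2], [4], [6], [8], [10], [12], [14], [16], [18], [20], [22]]) = true := by decide +kernel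
theorem zl43 : zK42.relB CL.F22.AuxH.S.P CL.Std.O6m2.P CL.F22.AuxH.S.ns [[0], [2], [4], [6], [8], [10], [12], [14], [16], [18], [20], [22]] [[0], [2]] = true := by decide +kernel
theorem zl44 : allL (zK42.pl CL.F22.AuxH.S.P CL.Std.O6m2.P CL.F22.AuxH.S.ns CL.Std.O6m2.ns 0) (zp [] [[0], [2], [4], [6], [8], [10], [12], [14], [16], [18], [20], [22]] [[0], [2]]) = true := by decide +kernel
theorem zk45 : allL (keepB P.n P.N) ns0 = true := by decide +kernel
theorem ze46 : extB ns0 ns 12 ws [] = true := by decide +kernel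
theorem zn47 : P.netsB ns (mkDefs ws 12) = true := by decide +kernel

section
variable {G X : Type*} [Group G] [MulAction G X] {e : ℕ → X} {gs : List G}

theorem keep0 : allL (keepB P.n P.N) ns0 = true := zk45

theorem len {k} (c : Ctx P e gs ns0 [] k) : gs.length = 12 := c.len ze46

theorem ctx0 {k} (c : Ctx P e gs ns0 [] k) : Ctx P e (ext gs ws) ns D chk0 :=
  c.ext rfl ze46 zn47

theorem ctx {k} (c : Ctx P e gs ns0 [] k) {H : Subgroup G} (hF : Faithful e P.n H) (hH : ∀ g ∈ gs, g ∈ H) :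
    Ctx P e (ext gs ws) ns D chk :=
  (ctx0 c).withB hF (mem_of_mem_ext hH _)

instance instNe : NeZero P.n := ⟨by decide⟩
noncomputable def gs0 : List (Equiv.Perm (Fin P.n)) := permsOf P.n P.N ns0
noncomputable def gs1 : List (Equiv.Perm (Fin P.n)) := ext gs0 ws
theorem c1 : Ctx P (eF P.n) gs1 ns D chk :=
  ctx (ctx_permsOf hP keep0) (faithful_eF _) fun _ _ => trivial

theorem G_u5 (c : Ctx P e gs ns D chk) :
    UB (subW gs [[48]]) 2 :=
  (c.pc_step (UB.nil gs) (Rels.nil _)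
    (c.rels _ zr3) zb2).le (by decide)

theorem G_u4 (c : Ctx P e gs ns D chk) :
    UB (subW gs [[44], [46]]) 4 :=
  (c.pc_step (G_u5 c) (c.rels _ zr9)
    (c.rels _ zr8) zb7).le (by decide)

theorem G_u3 (c : Ctx P e gs ns D chk) :
    UB (subW gs [[36], [38], [40], [42]]) 16 :=
  (c.sch_step (G_u4 c)
    (c.rels _ zr13) zb12).le (by decide)

theorem G_u2 (c : Ctx P e gs ns D chk) :
    UB (subW gs [[30], [32], [34]]) 96 :=
  (c.sch_step (G_u3 c)
    (c.rels _ zr17) zb16).le (by decide)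

theorem G_u1 (c : Ctx P e gs ns D chk) :
    UB (subW gs [[24], [26], [28]]) 1440 :=
  (c.sch_step (G_u2 c)
    (c.rels _ zr21) zb20).le (by decide)

theorem G_w0_1_c : P.chainB ns D G_w0_1_vs [[24], [26], [28]] = true :=
  zc23

theorem G_w0_1_o : prodL G_w0_1_vs 1 = 1440 := by decide +kernel

theorem G_c : P.chainB ns D G_vs [[0], [2], [4], [6], [8], [10], [12], [14], [16], [18], [20], [22]] = true :=
  zc27

theorem G_o : prodL G_vs 1 = 51840 := by decide +kernel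

theorem G_u0w (c : Ctx P e gs ns D chk) :
    AllWd e gs [[24], [26], [28]] zrs22 :=
  ⟨c.wd (v := G_w0_1_v0) (vs := G_w0_1_vs1) (G_u1 c) G_w0_1_c G_w0_1_o
      (c.rels _ zr26) zb25,
    ⟨c.wd (v := G_v1) (vs := G_vs2) (G_u1 c) (Par.chainB_tail G_c) (by decide +kernel)
      (c.rels _ zr30) zb29,
    trivial⟩⟩

theorem G_u0 (c : Ctx P e gs ns D chk) :
    UB (subW gs [[0], [2], [4], [6], [8], [10], [12], [14], [16], [18], [20], [22]]) 51840 :=
  (c.b_step (G_u1 c) (G_u0w c) (c.rels _ zr36)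
    (c.rels _ zr35) zb33 zb34).le (by decide)

theorem G_ub (c : Ctx P e gs ns D chk) :
    UB (subW gs [[0], [2], [4], [6], [8], [10], [12], [14], [16], [18], [20], [22]]) 51840 :=
  (G_u0 c)

theorem toT {Γ Y : Type*} [Group Γ] [MulAction Γ Y] {e' : ℕ → Y} {cs : List Γ} {D₁ D₂ : List (ℕ × List ℕ)}
    {k₁ k₂ : List (List ℕ × List ℕ) → Bool} (c : Ctx CL.F22.AuxH.S.P e gs CL.F22.AuxH.S.ns D₁ k₁) (c' : Ctx CL.F22.AuxH.T.P e' cs CL.F22.AuxH.T.ns D₂ k₂)
    (hF : Faithful e' CL.F22.AuxH.T.P.n (subW cs [[0], [2], [4], [6], [8], [10], [12], [14], [16], [18], [20], [22]])) :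
    RelLe gs [[0], [2], [4], [6], [8], [10], [12], [14], [16], [18], [20], [22]] cs [[0], [2], [4], [6], [8], [10], [12], [14], [16], [18], [20], [22]] :=
  c.relLe (K := zK38) c' hF zl39 (fun (t : ℕ) (ht : t < 1) => match t, ht with
    | 0, _ => zl40
    | t + 1, h => absurd h (by omega))

theorem toB {Γ Y : Type*} [Group Γ] [MulAction Γ Y] {e' : ℕ → Y} {cs : List Γ} {D₁ D₂ : List (ℕ × List ℕ)}
    {k₁ k₂ : List (List ℕ × List ℕ) → Bool} (c : Ctx CL.F22.AuxH.S.P e gs CL.F22.AuxH.S.ns D₁ k₁) (c' : Ctx CL.Std.O6m2.P e' cs CL.Std.O6m2.ns D₂ k₂)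
    (hF : Faithful e' CL.Std.O6m2.P.n (subW cs [[0], [2]])) :
    RelLe gs [[0], [2], [4], [6], [8], [10], [12], [14], [16], [18], [20], [22]] cs [[0], [2]] :=
  c.relLe (K := zK42) c' hF zl43 (fun (t : ℕ) (ht : t < 1) => match t, ht with
    | 0, _ => zl44
    | t + 1, h => absurd h (by omega))

theorem rel {Γ Y : Type*} [Group Γ] [MulAction Γ Y] {e' : ℕ → Y} {cs : List Γ} {D₂ : List (ℕ × List ℕ)}
    {k₂ : List (List ℕ × List ℕ) → Bool} (c' : Ctx CL.Std.O6m2.P e' cs CL.Std.O6m2.ns D₂ k₂) (hF : Faithful e' CL.Std.O6m2.P.n (subW cs [[0], [2]])) :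
    RelLe CL.F22.AuxH.T.gs1 [[0], [2], [4], [6], [8], [10], [12], [14], [16], [18], [20], [22]] cs [[0], [2]] :=
  ((toT c1 CL.F22.AuxH.T.c1 ((faithful_eF _).mono le_top)).symm_of_card (G_ub c1) (CL.F22.AuxH.T.G_lb CL.F22.AuxH.T.c1)).trans (toB c1 c' hF)

end
end CL.F22.AuxH.S

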