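/-
Auxiliary models for Fi22M4.
Generated by tools/pg.
-/
import Cfsg.Agent.Spor.PGCtx
import Cfsg.Agent.Spor.PGStruct
import Cfsg.Agent.Spor.PGSub
import Cfsg.Agent.Spor.StdO6m2

set_option autoImplicit false
set_option maxRecDepth 200000
set_option Elab.async false
set_option linter.unusedVariables false

namespace CL.F22.AuxE.T
open CL.PG

def P : Par := ⟨36, 40, 6, 3⟩
theorem hP : P.Ok := by decide
noncomputable def a0 : Net := (.cons 20 (nat_lit 0xc694c)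
 (.cons 10 (nat_lit 0xcd00105)
 (.cons 5 (nat_lit 0x6c080141d)
 (.cons 1 (nat_lit 0x140000000)
 (.cons 1 (nat_lit 0x1280000008)
 (.cons 1 (nat_lit 0x2940000405)
 (.cons 1 (nat_lit 0x5290a1090a)
 (.cons 1 (nat_lit 0x100429400)
 (.cons 5 (nat_lit 0x180002018)
 (.cons 10 (nat_lit 0x3ea00152)
 (.cons 20 (nat_lit 0xcb11a)
 .nil)))))))))))
noncomputable def a1 : Net := (.cons 20 (nat_lit 0x26f80)
 (.cons 10 (nat_lit 0x7d00231)
 (.cons 5 (nat_lit 0xc0903818)
 (.cons 1 (nat_lit 0x1001)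
 (.cons 1 (nat_lit 0x84280a)
 (.cons 1 (nat_lit 0x900529425)
 (.cons 1 (nat_lit 0x108025284a)
 (.cons 1 (nat_lit 0x808501080)
 (.cons 5 (nat_lit 0x101807014)
 (.cons 10 (nat_lit 0x400024e)
 (.cons 20 (nat_lit 0x2f0f8)
 .nil)))))))))))
noncomputable def a2 : Net := .nil
noncomputable def a3 : Net := .nil
noncomputable def a4 : Net := .nil
noncomputable def a5 : Net := .nil
noncomputable def a6 : Net := .nil
noncomputable def a7 : Net := .nil
noncomputable def a8 : Net := .nil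
noncomputable def a9 : Net := .nil
noncomputable def a10 : Net := .nil
noncomputable def a11 : Net := (.cons 20 (nat_lit 0x52806)
 (.cons 10 (nat_lit 0xe2001d2)
 (.cons 5 (nat_lit 0x341f05414)
 (.cons 1 (nat_lit 0x2000020)
 (.cons 1 (nat_lit 0x204800140)
 (.cons 1 (nat_lit 0x148420084)
 (.cons 1 (nat_lit 0x290210948)
 (.cons 1 (nat_lit 0x840528020)
 (.cons 5 (nat_lit 0x401010)
 (.cons 10 (nat_lit 0x1e0001d4)
 (.cons 20 (nat_lit 0x56028)
 .nil)))))))))))
noncomputable def a12 : Net := (.cons 20 (nat_lit 0x5df8)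
 (.cons 10 (nat_lit 0x3a2003f2)
 (.cons 5 (nat_lit 0x601903014)
 (.cons 1 (nat_lit 0x808000020)
 (.cons 1 (nat_lit 0x5094050040)
 (.cons 1 (nat_lit 0x210a028080)
 (.cons 1 (nat_lit 0x521425294a)
 (.cons 1 (nat_lit 0x290a008484)
 (.cons 5 (nat_lit 0x1a05808)
 (.cons 10 (nat_lit 0x39e002fa)
 (.cons 20 (nat_lit 0xbae4)
 .nil)))))))))))
noncomputable def a13 : Net := (.cons 20 (nat_lit 0x81332)
 (.cons 10 (nat_lit 0x2ad0020e)
 (.cons 5 (nat_lit 0x740705408)
 (.cons 1 (nat_lit 0x40000400)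
 (.cons 1 (nat_lit 0x280000800)
 (.cons 1 (nat_lit 0x294a021484)
 (.cons 1 (nat_lit 0x129481284a)
 (.cons 1 (nat_lit 0x2842020020)
 (.cons 5 (nat_lit 0x600405000)
 (.cons 10 (nat_lit 0x84002a4)
 (.cons 20 (nat_lit 0x8a162)
 .nil)))))))))))
noncomputable def a14 : Net := (.cons 20 (nat_lit 0x17040)
 (.cons 10 (nat_lit 0x6c001a0)
 (.cons 5 (nat_lit 0x1e0401a)
 (.cons 1 (nat_lit 0x100400000)
 (.cons 1 (nat_lit 0x280a0080a)
 (.cons 1 (nat_lit 0x148501484)
 (.cons 1 (nat_lit 0x290a0090a)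
 (.cons 1 (nat_lit 0x90a4000a0)
 (.cons 5 (nat_lit 0x1e00012)
 (.cons 10 (nat_lit 0x6c001a0)
 (.cons 20 (nat_lit 0x17040)
 .nil)))))))))))
noncomputable def a15 : Net := (.cons 20 (nat_lit 0xc16ca)
 (.cons 10 (nat_lit 0x54002bc)
 (.cons 5 (nat_lit 0x281602814)
 (.cons 1 (nat_lit 0x400)
 (.cons 1 (nat_lit 0x5000002800)
 (.cons 1 (nat_lit 0x2108109004)
 (.cons 1 (nat_lit 0x5210a52902)
 (.cons 1 (nat_lit 0x14a108424)
 (.cons 5 (nat_lit 0x81602010)
 (.cons 10 (nat_lit 0x40002bc)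
 (.cons 20 (nat_lit 0xc14c2)
 .nil)))))))))))
noncomputable def a16 : Net := (.cons 20 (nat_lit 0x21c6a)
 (.cons 10 (nat_lit 0x13500218)
 (.cons 5 (nat_lit 0x741500002)
 (.cons 1 (nat_lit 0x28000)
 (.cons 1 (nat_lit 0x80050000)
 (.cons 1 (nat_lit 0x142029480)
 (.cons 1 (nat_lit 0x4084852840)
 (.cons 1 (nat_lit 0x1000294a0)
 (.cons 5 (nat_lit 0x601200000)
 (.cons 10 (nat_lit 0x19200218)
 (.cons 20 (nat_lit 0x21d08)
 .nil)))))))))))
noncomputable def a17 : Net := (.cons 20 (nat_lit 0x58528)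
 (.cons 10 (nat_lit 0x20800140)
 (.cons 5 (nat_lit 0x201c05808)
 (.cons 1 (nat_lit 0x5280010000)
 (.cons 1 (nat_lit 0x21020280a0)
 (.cons 1 (nat_lit 0x5294010040)
 (.cons 1 (nat_lit 0x25284a0)
 (.cons 5 (nat_lit 0x1c01808)
 (.cons 10 (nat_lit 0x20800140)
 (.cons 20 (nat_lit 0x58528)
 .nil))))))))))
noncomputable def a18 : Net := (.cons 20 (nat_lit 0xe2840)
 (.cons 10 (nat_lit 0x23000252)
 (.cons 5 (nat_lit 0x101400412)
 (.cons 1 (nat_lit 0x8080)
 (.cons 1 (nat_lit 0x280052940)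
 (.cons 1 (nat_lit 0x10a0210a4)
 (.cons 1 (nat_lit 0x4284052942)
 (.cons 1 (nat_lit 0xa101484)
 (.cons 5 (nat_lit 0x4812)
 (.cons 10 (nat_lit 0x23000252)
 (.cons 20 (nat_lit 0xe2840)
 .nil)))))))))))
noncomputable def a19 : Net := (.cons 20 (nat_lit 0xce944)
 (.cons 10 (nat_lit 0x23400352)
 (.cons 5 (nat_lit 0x41c0400c)
 (.cons 1 (nat_lit 0x28401004a)
 (.cons 1 (nat_lit 0x10a0280a4)
 (.cons 1 (nat_lit 0x428401004a)
 (.cons 1 (nat_lit 0x529400)
 (.cons 5 (nat_lit 0xc0000c)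
 (.cons 10 (nat_lit 0x23400352)
 (.cons 20 (nat_lit 0xce944)
 .nil))))))))))
noncomputable def a20 : Net := (.cons 20 (nat_lit 0x6ce0)
 (.cons 10 (nat_lit 0x31001a0)
 (.cons 5 (nat_lit 0x40f04412)
 (.cons 1 (nat_lit 0x28400280a)
 (.cons 1 (nat_lit 0x14a401084)
 (.cons 1 (nat_lit 0x28420290a)
 (.cons 1 (nat_lit 0x4210a0)
 (.cons 5 (nat_lit 0x404012)
 (.cons 10 (nat_lit 0x14001a0)
 (.cons 20 (nat_lit 0x2ce0)
 .nil))))))))))
noncomputable def a21 : Net := (.cons 20 (nat_lit 0x1c00)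
 (.cons 10 (nat_lit 0x70003a0)
 (.cons 5 (nat_lit 0x480d04014)
 (.cons 1 (nat_lit 0x20)
 (.cons 1 (nat_lit 0x5000000140)
 (.cons 1 (nat_lit 0x2000429080)
 (.cons 1 (nat_lit 0x5000212142)
 (.cons 1 (nat_lit 0x140429020)
 (.cons 5 (nat_lit 0x480804014)
 (.cons 10 (nat_lit 0x70003a0)
 (.cons 20 (nat_lit 0x1c00)
 .nil)))))))))))
noncomputable def ns0 : List Net := [a0, a1, a2, a3, a4, a5, a6, a7, a8, a9, a10]
noncomputable def ws : List (List ℕ) :=
  [W (nat_lit 0x11050040080902014030120281204c040141501c04018160580204c05040110240901013010100140200c03),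
  W (nat_lit 0x50040f02807030040500d0201002002030050501001c13044040541300403),
  W (nat_lit 0x170641906018),
  W (nat_lit 0x64180601a),
  W (nat_lit 0x180681a05c1a),
  W (nat_lit 0x1e0801c0801c),
  W (nat_lit 0x1d0741f0781b),
  W (nat_lit 0x801c0801c),
  W (nat_lit 0x6c1b07820),
  W (nat_lit 0x210942409027094230942409c24),
  W (nat_lit 0x21098240942109c2308424)]
noncomputable def ns : List Net := [a0, a1, a2, a3, a4, a5, a6, a7, a8, a9, a10, a11, a12, a13, a14, a15, a16, a17, a18, a19, a20, a21]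
noncomputable def D : List (ℕ × List ℕ) := app [] (mkDefs ws 11)
noncomputable def chk : List (List ℕ × List ℕ) → Bool := P.relsB ns
noncomputable def G_v0 : Lev :=
  ⟨0, 36, sg (W (nat_lit 0x40100c0100c0100c01)), [[22], [24]], 0, 2⟩
noncomputable def G_v1 : Lev :=
  ⟨2, 15, sg (W (nat_lit 0x64170641706417)), [[26], [28], [30]], 2, 3⟩
noncomputable def G_v2 : Lev :=
  ⟨7, 6, sg (W (nat_lit 0x6c1d06c1b)), [[32], [34], [36], [38]], 5, 4⟩
noncomputable def G_v3 : Lev :=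
  ⟨3, 4, sg (W (nat_lit 0x8c21)), [[40], [42]], 9, 2⟩
noncomputable def G_v4 : Lev :=
  ⟨6, 2, sg [40], [[42]], 11, 0⟩
noncomputable def G_v5 : Lev :=
  ⟨1, 2, sg [42], [], 11, 0⟩
noncomputable def G_vs6 : List Lev :=
  []
noncomputable def G_vs5 : List Lev :=
  G_v5 :: G_vs6
noncomputable def G_vs4 : List Lev :=
  G_v4 :: G_vs5
noncomputable def G_vs3 : List Lev :=
  G_v3 :: G_vs4
noncomputable def G_vs2 : List Lev :=
  G_v2 :: G_vs3
noncomputable def G_vs1 : List Lev :=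
  G_v1 :: G_vs2
noncomputable def G_vs : List Lev :=
  G_v0 :: G_vs1

theorem zc0 : P.chainB ns D G_vs [[0], [2], [4], [6], [8], [10], [12], [14], [16], [18], [20]] = true := by decide +kernel
theorem zk1 : allL (keepB P.n P.N) ns0 = true := by decide +kernel
theorem ze2 : extB ns0 ns 11 ws [] = true := by decide +kernel
theorem zn3 : P.netsB ns (mkDefs ws 11) = true := by decide +kernel

section
variable {G X : Type*} [Group G] [MulAction G X] {e : ℕ → X} {gs : List G}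

theorem keep0 : allL (keepB P.n P.N) ns0 = true := zk1

theorem len {k} (c : Ctx P e gs ns0 [] k) : gs.length = 11 := c.len ze2

theorem ctx0 {k} (c : Ctx P e gs ns0 [] k) : Ctx P e (ext gs ws) ns D chk0 :=
  c.ext rfl ze2 zn3

theorem ctx {k} (c : Ctx P e gs ns0 [] k) {H : Subgroup G} (hF : Faithful e P.n H) (hH : ∀ g ∈ gs, g ∈ H) :
    Ctx P e (ext gs ws) ns D chk :=
  (ctx0 c).withB hF (mem_of_mem_ext hH _)

instance instNe : NeZero P.n := ⟨by decide⟩
noncomputable def gs0 : List (Equiv.Perm (Fin P.n)) := permsOf P.n P.N ns0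
noncomputable def gs1 : List (Equiv.Perm (Fin P.n)) := ext gs0 ws
theorem c1 : Ctx P (eF P.n) gs1 ns D chk :=
  ctx (ctx_permsOf hP keep0) (faithful_eF _) fun _ _ => trivial

theorem G_c : P.chainB ns D G_vs [[0], [2], [4], [6], [8], [10], [12], [14], [16], [18], [20]] = true :=
  zc0

theorem G_o : prodL G_vs 1 = 51840 := by decide +kernel

theorem G_lb (c : Ctx P e gs ns D chk) :
    LB (subW gs [[0], [2], [4], [6], [8], [10], [12], [14], [16], [18], [20]]) 51840 :=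
  c.lb G_c G_o

end
end CL.F22.AuxE.T

namespace CL.F22.AuxE.S
open CL.PG

def P : Par := ⟨63, 64, 6, 3⟩
theorem hP : P.Ok := by decide
noncomputable def a0 : Net := (.cons 32 (nat_lit 0x12c10281)
 (.cons 16 (nat_lit 0x2eb5000010c9)
 (.cons 8 (nat_lit 0xb500f000f70088)
 (.cons 4 (nat_lit 0x8040f040a030d00)
 (.cons 2 (nat_lit 0x300211022330331)
 (.cons 1 (nat_lit 0x1014141541044451)
 (.cons 2 (nat_lit 0x2002002002)
 (.cons 4 (nat_lit 0x40204000e080c06)
 (.cons 8 (nat_lit 0xc000180008007a)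
 (.cons 16 (nat_lit 0xe7800003c8a)
 (.cons 32 (nat_lit 0x102ca40)
 .nil)))))))))))
noncomputable def a1 : Net := (.cons 32 (nat_lit 0x4f7edcd8)
 (.cons 16 (nat_lit 0xf2810000f1d3)
 (.cons 8 (nat_lit 0x5c00c700cc00db)
 (.cons 4 (nat_lit 0xe010807070e0e0b)
 (.cons 2 (nat_lit 0x313132232213313)
 (.cons 1 (nat_lit 0x101504540111414)
 (.cons 2 (nat_lit 0x2020020202)
 (.cons 4 (nat_lit 0xe080a000c0a0800)
 (.cons 8 (nat_lit 0x8000d000c80040)
 (.cons 16 (nat_lit 0xff8c0000d4c0)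
 (.cons 32 (nat_lit 0x43fbfd6a)
 .nil)))))))))))
noncomputable def a2 : Net := .nil
noncomputable def a3 : Net := .nil
noncomputable def a4 : Net := .nil
noncomputable def a5 : Net := .nil
noncomputable def a6 : Net := .nil
noncomputable def a7 : Net := .nil
noncomputable def a8 : Net := .nil
noncomputable def a9 : Net := .nil
noncomputable def a10 : Net := .nil
noncomputable def a11 : Net := (.cons 32 (nat_lit 0x8085d472)
 (.cons 16 (nat_lit 0x33280000d104)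
 (.cons 8 (nat_lit 0x23008900be0018)
 (.cons 4 (nat_lit 0xd000d0b00080500)
 (.cons 2 (nat_lit 0x1002102102220302)
 (.cons 1 (nat_lit 0x515515454141104)
 (.cons 2 (nat_lit 0x20000020000)
 (.cons 4 (nat_lit 0x600000a04000408)
 (.cons 8 (nat_lit 0x86002000040030)
 (.cons 16 (nat_lit 0xc8a0000fdb0)
 (.cons 32 (nat_lit 0xe48d8062)
 .nil)))))))))))
noncomputable def a12 : Net := (.cons 32 (nat_lit 0xfd7f7762)
 (.cons 16 (nat_lit 0x2a950000abb0)
 (.cons 8 (nat_lit 0x7700dd00350036)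
 (.cons 4 (nat_lit 0xf0006020c050308)
 (.cons 2 (nat_lit 0x3030132021310230)
 (.cons 1 (nat_lit 0x5100541455111444)
 (.cons 2 (nat_lit 0x20000200000)
 (.cons 4 (nat_lit 0x20c0a0c000a040c)
 (.cons 8 (nat_lit 0xa800ee006c002c)
 (.cons 16 (nat_lit 0x4a700000bb64)
 (.cons 32 (nat_lit 0xcfafefd4)
 .nil)))))))))))
noncomputable def a13 : Net := (.cons 32 (nat_lit 0xdc09a7d2)
 (.cons 16 (nat_lit 0x6e48000045e4)
 (.cons 8 (nat_lit 0x8200f400290002)
 (.cons 4 (nat_lit 0xd010307070b0c08)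
 (.cons 2 (nat_lit 0x3013231132202102)
 (.cons 1 (nat_lit 0x1554541440411554)
 (.cons 2 (nat_lit 0x2022020200002)
 (.cons 4 (nat_lit 0xa0a08020402040c)
 (.cons 8 (nat_lit 0x4c002a005a0088)
 (.cons 16 (nat_lit 0xfe8800002994)
 (.cons 32 (nat_lit 0x92826ff2)
 .nil)))))))))))
noncomputable def a14 : Net := (.cons 32 (nat_lit 0xfdfce7b8)
 (.cons 16 (nat_lit 0x71d100005d7e)
 (.cons 8 (nat_lit 0x74009500b000dc)
 (.cons 4 (nat_lit 0xf00060f010d040e)
 (.cons 2 (nat_lit 0x1231201313223032)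
 (.cons 1 (nat_lit 0x5115541545141140)
 (.cons 2 (nat_lit 0x20022020222020)
 (.cons 4 (nat_lit 0xc0c00060a0c0a0e)
 (.cons 8 (nat_lit 0x84005000f0008e)
 (.cons 16 (nat_lit 0x8184000004ae)
 (.cons 32 (nat_lit 0xaafefbf0)
 .nil)))))))))))
noncomputable def a15 : Net := (.cons 32 (nat_lit 0x4104000)
 (.cons 16 (nat_lit 0xa4000000cf88)
 (.cons 8 (nat_lit 0x24000400c00008)
 (.cons 4 (nat_lit 0xe040006080c02)
 (.cons 2 (nat_lit 0x2123000121120202)
 (.cons 1 (nat_lit 0x40000450)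
 (.cons 2 (nat_lit 0x20000200)
 (.cons 4 (nat_lit 0x4000006080402)
 (.cons 8 (nat_lit 0x24000400c00008)
 (.cons 16 (nat_lit 0xa4000000cf88)
 (.cons 32 (nat_lit 0x4104000)
 .nil)))))))))))
noncomputable def a16 : Net := (.cons 32 (nat_lit 0x1b701850)
 (.cons 16 (nat_lit 0xc68a00003402)
 (.cons 8 (nat_lit 0xe2002900820034)
 (.cons 4 (nat_lit 0xc0c07090e000b08)
 (.cons 2 (nat_lit 0x20233230012032)
 (.cons 1 (nat_lit 0x5514441054101104)
 (.cons 2 (nat_lit 0x20200000000202)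
 (.cons 4 (nat_lit 0xc00020e000008)
 (.cons 8 (nat_lit 0xe2007200820034)
 (.cons 16 (nat_lit 0xc68a00003000)
 (.cons 32 (nat_lit 0x1b701850)
 .nil)))))))))))
noncomputable def a17 : Net := (.cons 32 (nat_lit 0xfefef160)
 (.cons 16 (nat_lit 0x7e460000f888)
 (.cons 8 (nat_lit 0xf100b600240062)
 (.cons 4 (nat_lit 0xe040b0006090a)
 (.cons 2 (nat_lit 0x333332122200)
 (.cons 1 (nat_lit 0x5454555501010410)
 (.cons 2 (nat_lit 0x2020200)
 (.cons 4 (nat_lit 0x2000004000802)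
 (.cons 8 (nat_lit 0xf000d000700022)
 (.cons 16 (nat_lit 0x7e460000f888)
 (.cons 32 (nat_lit 0xfefef160)
 .nil)))))))))))
noncomputable def a18 : Net := (.cons 32 (nat_lit 0x4105600)
 (.cons 16 (nat_lit 0x9a1600000d50)
 (.cons 8 (nat_lit 0x31006500d200e0)
 (.cons 4 (nat_lit 0xe0e080a020c0608)
 (.cons 2 (nat_lit 0x2301312102021312)
 (.cons 1 (nat_lit 0x4010001051140500)
 (.cons 2 (nat_lit 0x2000002002020000)
 (.cons 4 (nat_lit 0xe02080c02040608)
 (.cons 8 (nat_lit 0x70006000d200e0)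
 (.cons 16 (nat_lit 0xdb1200000450)
 (.cons 32 (nat_lit 0x4105600)
 .nil)))))))))))
noncomputable def a19 : Net := (.cons 32 (nat_lit 0x4101600)
 (.cons 16 (nat_lit 0x6c5000000c42)
 (.cons 8 (nat_lit 0xc00022002000e0)
 (.cons 4 (nat_lit 0x60800000600)
 (.cons 2 (nat_lit 0x3002032002001020)
 (.cons 1 (nat_lit 0x101111000510)
 (.cons 2 (nat_lit 0x2002000020)
 (.cons 4 (nat_lit 0x60800000600)
 (.cons 8 (nat_lit 0xc00022002000e0)
 (.cons 16 (nat_lit 0x685000000c40)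
 (.cons 32 (nat_lit 0x4101600)
 .nil)))))))))))
noncomputable def a20 : Net := (.cons 32 (nat_lit 0xffd7fdf8)
 (.cons 16 (nat_lit 0x9f0b00004748)
 (.cons 8 (nat_lit 0xad003c006000ac)
 (.cons 4 (nat_lit 0x803060d000f0204)
 (.cons 2 (nat_lit 0x202030003232330)
 (.cons 1 (nat_lit 0x150414105451440)
 (.cons 2 (nat_lit 0x200220200202020)
 (.cons 4 (nat_lit 0x6000600080404)
 (.cons 8 (nat_lit 0xfc00b4002400e8)
 (.cons 16 (nat_lit 0xc9c400002b0c)
 (.cons 32 (nat_lit 0xfcdffff4)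
 .nil)))))))))))
noncomputable def a21 : Net := (.cons 32 (nat_lit 0x8c9f61c4)
 (.cons 16 (nat_lit 0x8d5f000051fa)
 (.cons 8 (nat_lit 0xe200eb00e00092)
 (.cons 4 (nat_lit 0xc0801050d060f00)
 (.cons 2 (nat_lit 0x3112300320012210)
 (.cons 1 (nat_lit 0x5111544441055150)
 (.cons 2 (nat_lit 0x202000220000200)
 (.cons 4 (nat_lit 0x8020c0e02020c0a)
 (.cons 8 (nat_lit 0x42000000c00056)
 (.cons 16 (nat_lit 0x96b000004dd6)
 (.cons 32 (nat_lit 0x93aecc80)
 .nil)))))))))))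
noncomputable def a22 : Net := (.cons 32 (nat_lit 0xb9011980)
 (.cons 16 (nat_lit 0x981600001048)
 (.cons 8 (nat_lit 0x6a005200c100e0)
 (.cons 4 (nat_lit 0x40e060808000908)
 (.cons 2 (nat_lit 0x3030123022002000)
 (.cons 1 (nat_lit 0x5111415010144040)
 (.cons 2 (nat_lit 0x20020020002000)
 (.cons 4 (nat_lit 0x806040c08000008)
 (.cons 8 (nat_lit 0xb60016008000e0)
 (.cons 16 (nat_lit 0x5c6200001048)
 (.cons 32 (nat_lit 0xb9011980)
 .nil)))))))))))
noncomputable def a23 : Net := (.cons 32 (nat_lit 0xd6fee678)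
 (.cons 16 (nat_lit 0xaacb0000da46)
 (.cons 8 (nat_lit 0x7000600b300ce)
 (.cons 4 (nat_lit 0x8040d0808030306)
 (.cons 2 (nat_lit 0x2100010032303032)
 (.cons 1 (nat_lit 0x1514044151515044)
 (.cons 2 (nat_lit 0x2202000022)
 (.cons 4 (nat_lit 0xc080000000a0c00)
 (.cons 8 (nat_lit 0x8a00c4002200c6)
 (.cons 16 (nat_lit 0xba4a0000dc4e)
 (.cons 32 (nat_lit 0xc7f6e770)
 .nil)))))))))))
noncomputable def a24 : Net := (.cons 32 (nat_lit 0x20080e0)
 (.cons 16 (nat_lit 0xe0000001a00)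
 (.cons 8 (nat_lit 0x5200540048)
 (.cons 4 (nat_lit 0x40c0c0c000d0408)
 (.cons 2 (nat_lit 0x203102001020200)
 (.cons 1 (nat_lit 0x405044100001440)
 (.cons 2 (nat_lit 0x200002000000200)
 (.cons 4 (nat_lit 0x40c0c0400080408)
 (.cons 8 (nat_lit 0x5200540048)
 (.cons 16 (nat_lit 0x60000001a00)
 (.cons 32 (nat_lit 0x20080e0)
 .nil)))))))))))
noncomputable def ns0 : List Net := [a0, a1, a2, a3, a4, a5, a6, a7, a8, a9, a10]
noncomputable def ws : List (List ℕ) :=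
  [W (nat_lit 0x80300401c040180605409050090580a02c030140105012014160400d00408040160300601814034120500e01001),
  W (nat_lit 0x180b0341603c12034030080f02c0802c0a04010034020240f010100040f04c0a020020200f00403),
  W (nat_lit 0x681705c1a),
  W (nat_lit 0x601905c1905c1a),
  W (nat_lit 0x1906419),
  W (nat_lit 0x1d06c1e0701c),
  W (nat_lit 0x200741d06c1b),
  W (nat_lit 0x1c0741c),
  W (nat_lit 0x982008020),
  W (nat_lit 0x1a0681a05c19),
  W (nat_lit 0x68180641806019),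
  W (nat_lit 0x2a0ac2b0ac29),
  W (nat_lit 0xb02a),
  W (nat_lit 0xbc2f0bc2e)]
noncomputable def ns : List Net := [a0, a1, a2, a3, a4, a5, a6, a7, a8, a9, a10, a11, a12, a13, a14, a15, a16, a17, a18, a19, a20, a21, a22, a23, a24]
noncomputable def D : List (ℕ × List ℕ) := app [] (mkDefs ws 11)
noncomputable def chk : List (List ℕ × List ℕ) → Bool := P.relsB ns
noncomputable def zt0 : List ℕ :=
  []
noncomputable def zcj1 : List (List ℕ) :=
  []
noncomputable def zE4 : List (ℕ × List ℕ) :=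
  [(30, W (nat_lit 0x9c25))]
noncomputable def zt5 : List ℕ :=
  []
noncomputable def zcj6 : List (List ℕ) :=
  [[38]]
noncomputable def zus10 : List (List ℕ) :=
  [[32],
  [34],
  W (nat_lit 0x8423)]
noncomputable def zF11 : List (List (ℕ × List ℕ)) :=
  [[(0, [30]),
   (1, [30]),
   (2, [30]),
   (3, [30])],
  [(1, []),
   (0, []),
   (3, []),
   (2, [])],
  [(2, []),
   (3, []),
   (0, []),
   (1, [])],
  [(0, W (nat_lit 0x9c1f)),
   (1, W (nat_lit 0x9c1f)),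
   (2, W (nat_lit 0x9c1f)),
   (3, W (nat_lit 0x9c1f))]]
noncomputable def zus14 : List (List ℕ) :=
  [[26],
  [27],
  [28],
  [29],
  W (nat_lit 0x6c1b)]
noncomputable def zF15 : List (List (ℕ × List ℕ)) :=
  [[(1, []),
   (5, []),
   (0, []),
   (4, W (nat_lit 0x1f08423)),
   (3, [32]),
   (2, [])],
  [(3, []),
   (2, W (nat_lit 0x9c23)),
   (1, W (nat_lit 0x9c1f)),
   (5, W (nat_lit 0x7c23)),
   (0, []),
   (4, W (nat_lit 0x7c23))],
  [(0, [30]),
   (1, [30]),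
   (2, [30]),
   (3, [30]),
   (4, [30]),
   (5, [30])]]
noncomputable def zus18 : List (List ℕ) :=
  [[22],
  [23],
  [24],
  [25],
  W (nat_lit 0x5c19),
  W (nat_lit 0x5c1a),
  W (nat_lit 0x6019),
  W (nat_lit 0x5c1e),
  W (nat_lit 0x6418),
  W (nat_lit 0x5c1c),
  W (nat_lit 0x601b),
  W (nat_lit 0x1706418),
  W (nat_lit 0x1806417),
  W (nat_lit 0x1706821)]
noncomputable def zF19 : List (List (ℕ × List ℕ)) :=
  [[(1, []),
   (2, W (nat_lit 0x8c1d)),
   (0, []),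
   (8, W (nat_lit 0x2108c1d)),
   (9, [26]),
   (11, W (nat_lit 0x2708c1c)),
   (6, W (nat_lit 0x9c1f08c1b)),
   (13, []),
   (14, [32]),
   (3, []),
   (4, W (nat_lit 0x9c1e)),
   (12, W (nat_lit 0x842306c1b)),
   (5, []),
   (7, W (nat_lit 0x2708c1d)),
   (10, W (nat_lit 0x2707c1b))],
  [(3, []),
   (5, []),
   (7, []),
   (4, [30]),
   (0, []),
   (6, [30]),
   (1, []),
   (8, W (nat_lit 0x2708c1b)),
   (2, W (nat_lit 0x2108c1e)),
   (12, W (nat_lit 0x9c23)),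
   (14, W (nat_lit 0x841b)),
   (10, W (nat_lit 0x842306c1b)),
   (13, W (nat_lit 0x9c1f08c1e)),
   (9, [28]),
   (11, [26])]]
noncomputable def zrs22 : List (ℕ × List ℕ) :=
  [(1, W (nat_lit 0x401023)),
  (2, [2])]
noncomputable def G_w0_1_v0 : Lev :=
  ⟨1, 20, sg (W (nat_lit 0x5c17064170641706417)), [[40], [42]], 9, 2⟩
noncomputable def G_w0_1_v1 : Lev :=
  ⟨2, 9, sg (W (nat_lit 0x290a42b0ac29)), [[44], [46]], 11, 2⟩
noncomputable def G_w0_1_v2 : Lev :=
  ⟨3, 4, sg (W (nat_lit 0x2d0bc2d)), [[48]], 13, 1⟩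
noncomputable def G_w0_1_v3 : Lev :=
  ⟨5, 2, sg [48], [], 14, 0⟩
noncomputable def G_w0_1_vs4 : List Lev :=
  []
noncomputable def G_w0_1_vs3 : List Lev :=
  G_w0_1_v3 :: G_w0_1_vs4
noncomputable def G_w0_1_vs2 : List Lev :=
  G_w0_1_v2 :: G_w0_1_vs3
noncomputable def G_w0_1_vs1 : List Lev :=
  G_w0_1_v1 :: G_w0_1_vs2
noncomputable def G_w0_1_vs : List Lev :=
  G_w0_1_v0 :: G_w0_1_vs1
noncomputable def zcj24 : List (List ℕ) :=
  [W (nat_lit 0x7c2108c1d05c1e),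
  W (nat_lit 0x9c1f0842306c1706418)]
noncomputable def G_v0 : Lev :=
  ⟨0, 36, sg (W (nat_lit 0x40100c0100c0100c01)), [[22], [24]], 0, 2⟩
noncomputable def G_v1 : Lev :=
  ⟨2, 15, sg (W (nat_lit 0x5c170641706417)), [[26], [28], [30]], 2, 3⟩
noncomputable def G_v2 : Lev :=
  ⟨7, 6, sg (W (nat_lit 0x1b0741b)), [[30], [32], [34], [36]], 5, 3⟩
noncomputable def G_v3 : Lev :=
  ⟨3, 4, sg (W (nat_lit 0x8c21)), [[30], [36]], 8, 0⟩
noncomputable def G_v4 : Lev :=
  ⟨6, 2, sg [30], [[38]], 8, 1⟩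
noncomputable def G_v5 : Lev :=
  ⟨1, 2, sg [38], [], 9, 0⟩
noncomputable def G_vs6 : List Lev :=
  []
noncomputable def G_vs5 : List Lev :=
  G_v5 :: G_vs6
noncomputable def G_vs4 : List Lev :=
  G_v4 :: G_vs5
noncomputable def G_vs3 : List Lev :=
  G_v3 :: G_vs4
noncomputable def G_vs2 : List Lev :=
  G_v2 :: G_vs3
noncomputable def G_vs1 : List Lev :=
  G_v1 :: G_vs2
noncomputable def G_vs : List Lev :=
  G_v0 :: G_vs1
noncomputable def zcj28 : List (List ℕ) :=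
  [W (nat_lit 0x2707019),
  W (nat_lit 0x1f08c1e06019),
  W (nat_lit 0x841c0601b)]
noncomputable def zB31 : List BG :=
  [⟨[3], [([26], W (nat_lit 0x2707019)), ([28], W (nat_lit 0x1f08c1e06019)), ([30], W (nat_lit 0x841c0601b))],
  [([⟨[], W (nat_lit 0x5c19), 2, W (nat_lit 0x5c19)⟩], []),
   ([⟨[], [25], 1, W (nat_lit 0x7c1b05c19)⟩,
    ⟨[22], [], 2, W (nat_lit 0x8c1c05c1c)⟩], W (nat_lit 0x10080100801)),
   ([⟨[], [], 0, []⟩,
    ⟨[22], W (nat_lit 0x601f), 1, W (nat_lit 0x270601b)⟩,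
    ⟨W (nat_lit 0x5c1a), [22], 2, W (nat_lit 0x270842307019)⟩], W (nat_lit 0x80100801))]⟩]
noncomputable def zE32 : List (ℕ × List ℕ) :=
  [(0, W (nat_lit 0x7c1e0680401023)),
  (4, []),
  (6, []),
  (8, []),
  (10, []),
  (12, []),
  (14, []),
  (16, []),
  (18, []),
  (20, [])]
noncomputable def zE37 : Net :=
  .nil
noncomputable def zK38 : Lk :=
  ⟨zE37, 1, 3, 1⟩
noncomputable def zE41 : Net :=
  (.cons 32 (nat_lit 0xfffffff0)
 (.cons 16 (nat_lit 0x1f0000000f)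
 (.cons 8 (nat_lit 0x1f001f000f000f)
 (.cons 4 (nat_lit 0xe0e0e0e0f0f0f0f)
 (.cons 2 (nat_lit 0x1111111110000000)
 (.cons 1 (nat_lit 0x5555555550000000)
 (.cons 4 (nat_lit 0x8000000)
 (.cons 32 (nat_lit 0x80000000)
 .nil))))))))
noncomputable def zK42 : Lk :=
  ⟨zE41, 1, 3, 1⟩

theorem zb2 : bnd (pcB D [] 2 zt0 zcj1) (leB (app D []) [[38]] ([38] :: [])) = true := by decide +kernel
theorem zr3 : chk (pcR [] [38] 2 zt0 zcj1) = true := by decide +kernel
theorem zb7 : bnd (pcB D [[38]] 2 zt5 zcj6) (leB (app D zE4) [[30], [36]] ([36] :: [[38]])) = true := by decide +kernel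
theorem zr8 : chk (pcR [[38]] [36] 2 zt5 zcj6) = true := by decide +kernel
theorem zr9 : chk (defRels zE4) = true := by decide +kernel
theorem zb12 : schB D [[30], [32], [34], [36]] [[30], [36]] zus10 zF11 4 = true := by decide +kernel
theorem zr13 : chk (schR [[30], [32], [34], [36]] zus10 zF11) = true := by decide +kernel
theorem zb16 : schB D [[26], [28], [30]] [[30], [32], [34], [36]] zus14 zF15 6 = true := by decide +kernel
theorem zr17 : chk (schR [[26], [28], [30]] zus14 zF15) = true := by decide +kernel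
theorem zb20 : schB D [[22], [24]] [[26], [28], [30]] zus18 zF19 15 = true := by decide +kernel
theorem zr21 : chk (schR [[22], [24]] zus18 zF19) = true := by decide +kernel
theorem zc23 : P.chainB ns D G_w0_1_vs [[22], [24]] = true := by decide +kernel
theorem zb25 : wdB D [[22], [24]] G_w0_1_v0.nx zcj24 = true := by decide +kernel
theorem zr26 : chk (wdR G_w0_1_v0.nx (W (nat_lit 0x401023)) zcj24) = true := by decide +kernel
theorem zc27 : P.chainB ns D G_vs [[0], [2], [4], [6], [8], [10], [12], [14], [16], [18], [20]] = true := by decide +kernel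
theorem zb29 : wdB D [[22], [24]] G_v1.nx zcj28 = true := by decide +kernel
theorem zr30 : chk (wdR G_v1.nx [2] zcj28) = true := by decide +kernel
theorem zb33 : bB P.n P.N ns (app D zE32) [[0], [2], [4], [6], [8], [10], [12], [14], [16], [18], [20]] [[22], [24]] 0 zrs22 zB31 = true := by decide +kernel
theorem zb34 : P.invSz ns [[0], [2], [4], [6], [8], [10], [12], [14], [16], [18], [20]] 0 (orbM P.N ns G_v0) 36 = true := by decide +kernel
theorem zr35 : chk (bR 0 zrs22 zB31) = true := by decide +kernel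
theorem zr36 : chk (defRels zE32) = true := by decide +kernel
theorem zl39 : zK38.relB CL.F22.AuxE.S.P CL.F22.AuxE.T.P CL.F22.AuxE.S.ns [[0], [2], [4], [6], [8], [10], [12], [14], [16], [18], [20]] [[0], [2], [4], [6], [8], [10], [12], [14], [16], [18], [20]] = true := by decide +kernel
theorem zl40 : allL (zK38.pl CL.F22.AuxE.S.P CL.F22.AuxE.T.P CL.F22.AuxE.S.ns CL.F22.AuxE.T.ns 0) (zp [] [[0], [2], [4], [6], [8], [10], [12], [14], [16], [18], [20]] [[0], [2], [4], [6], [8], [10], [12], [14], [16], [18], [20]]) = true := by decide +kernel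
theorem zl43 : zK42.relB CL.F22.AuxE.S.P CL.Std.O6m2.P CL.F22.AuxE.S.ns [[0], [2], [4], [6], [8], [10], [12], [14], [16], [18], [20]] [[0], [2]] = true := by decide +kernel
theorem zl44 : allL (zK42.pl CL.F22.AuxE.S.P CL.Std.O6m2.P CL.F22.AuxE.S.ns CL.Std.O6m2.ns 0) (zp [] [[0], [2], [4], [6], [8], [10], [12], [14], [16], [18], [20]] [[0], [2]]) = true := by decide +kernel
theorem zk45 : allL (keepB P.n P.N) ns0 = true := by decide +kernel
theorem ze46 : extB ns0 ns 11 ws [] = true := by decide +kernel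
theorem zn47 : P.netsB ns (mkDefs ws 11) = true := by decide +kernel

section
variable {G X : Type*} [Group G] [MulAction G X] {e : ℕ → X} {gs : List G}

theorem keep0 : allL (keepB P.n P.N) ns0 = true := zk45

theorem len {k} (c : Ctx P e gs ns0 [] k) : gs.length = 11 := c.len ze46

theorem ctx0 {k} (c : Ctx P e gs ns0 [] k) : Ctx P e (ext gs ws) ns D chk0 :=
  c.ext rfl ze46 zn47

theorem ctx {k} (c : Ctx P e gs ns0 [] k) {H : Subgroup G} (hF : Faithful e P.n H) (hH : ∀ g ∈ gs, g ∈ H) :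
    Ctx P e (ext gs ws) ns D chk :=
  (ctx0 c).withB hF (mem_of_mem_ext hH _)

instance instNe : NeZero P.n := ⟨by decide⟩
noncomputable def gs0 : List (Equiv.Perm (Fin P.n)) := permsOf P.n P.N ns0
noncomputable def gs1 : List (Equiv.Perm (Fin P.n)) := ext gs0 ws
theorem c1 : Ctx P (eF P.n) gs1 ns D chk :=
  ctx (ctx_permsOf hP keep0) (faithful_eF _) fun _ _ => trivial

theorem G_u5 (c : Ctx P e gs ns D chk) :
    UB (subW gs [[38]]) 2 :=
  (c.pc_step (UB.nil gs) (Rels.nil _)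
    (c.rels _ zr3) zb2).le (by decide)

theorem G_u4 (c : Ctx P e gs ns D chk) :
    UB (subW gs [[30], [36]]) 4 :=
  (c.pc_step (G_u5 c) (c.rels _ zr9)
    (c.rels _ zr8) zb7).le (by decide)

theorem G_u3 (c : Ctx P e gs ns D chk) :
    UB (subW gs [[30], [32], [34], [36]]) 16 :=
  (c.sch_step (G_u4 c)
    (c.rels _ zr13) zb12).le (by decide)

theorem G_u2 (c : Ctx P e gs ns D chk) :
    UB (subW gs [[26], [28], [30]]) 96 :=
  (c.sch_step (G_u3 c)
    (c.rels _ zr17) zb16).le (by decide)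

theorem G_u1 (c : Ctx P e gs ns D chk) :
    UB (subW gs [[22], [24]]) 1440 :=
  (c.sch_step (G_u2 c)
    (c.rels _ zr21) zb20).le (by decide)

theorem G_w0_1_c : P.chainB ns D G_w0_1_vs [[22], [24]] = true :=
  zc23

theorem G_w0_1_o : prodL G_w0_1_vs 1 = 1440 := by decide +kernel

theorem G_c : P.chainB ns D G_vs [[0], [2], [4], [6], [8], [10], [12], [14], [16], [18], [20]] = true :=
  zc27

theorem G_o : prodL G_vs 1 = 51840 := by decide +kernel

theorem G_u0w (c : Ctx P e gs ns D chk) :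
    AllWd e gs [[22], [24]] zrs22 :=
  ⟨c.wd (v := G_w0_1_v0) (vs := G_w0_1_vs1) (G_u1 c) G_w0_1_c G_w0_1_o
      (c.rels _ zr26) zb25,
    ⟨c.wd (v := G_v1) (vs := G_vs2) (G_u1 c) (Par.chainB_tail G_c) (by decide +kernel)
      (c.rels _ zr30) zb29,
    trivial⟩⟩

theorem G_u0 (c : Ctx P e gs ns D chk) :
    UB (subW gs [[0], [2], [4], [6], [8], [10], [12], [14], [16], [18], [20]]) 51840 :=
  (c.b_step (G_u1 c) (G_u0w c) (c.rels _ zr36)
    (c.rels _ zr35) zb33 zb34).le (by decide)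

theorem G_ub (c : Ctx P e gs ns D chk) :
    UB (subW gs [[0], [2], [4], [6], [8], [10], [12], [14], [16], [18], [20]]) 51840 :=
  (G_u0 c)

theorem toT {Γ Y : Type*} [Group Γ] [MulAction Γ Y] {e' : ℕ → Y} {cs : List Γ} {D₁ D₂ : List (ℕ × List ℕ)}
    {k₁ k₂ : List (List ℕ × List ℕ) → Bool} (c : Ctx CL.F22.AuxE.S.P e gs CL.F22.AuxE.S.ns D₁ k₁) (c' : Ctx CL.F22.AuxE.T.P e' cs CL.F22.AuxE.T.ns D₂ k₂)
    (hF : Faithful e' CL.F22.AuxE.T.P.n (subW cs [[0], [2], [4], [6], [8], [10], [12], [14], [16], [18], [20]])) :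
    RelLe gs [[0], [2], [4], [6], [8], [10], [12], [14], [16], [18], [20]] cs [[0], [2], [4], [6], [8], [10], [12], [14], [16], [18], [20]] :=
  c.relLe (K := zK38) c' hF zl39 (fun (t : ℕ) (ht : t < 1) => match t, ht with
    | 0, _ => zl40
    | t + 1, h => absurd h (by omega))

theorem toB {Γ Y : Type*} [Group Γ] [MulAction Γ Y] {e' : ℕ → Y} {cs : List Γ} {D₁ D₂ : List (ℕ × List ℕ)}
    {k₁ k₂ : List (List ℕ × List ℕ) → Bool} (c : Ctx CL.F22.AuxE.S.P e gs CL.F22.AuxE.S.ns D₁ k₁) (c' : Ctx CL.Std.O6m2.P e' cs CL.Std.O6m2.ns D₂ k₂)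
    (hF : Faithful e' CL.Std.O6m2.P.n (subW cs [[0], [2]])) :
    RelLe gs [[0], [2], [4], [6], [8], [10], [12], [14], [16], [18], [20]] cs [[0], [2]] :=
  c.relLe (K := zK42) c' hF zl43 (fun (t : ℕ) (ht : t < 1) => match t, ht with
    | 0, _ => zl44
    | t + 1, h => absurd h (by omega))

theorem rel {Γ Y : Type*} [Group Γ] [MulAction Γ Y] {e' : ℕ → Y} {cs : List Γ} {D₂ : List (ℕ × List ℕ)}
    {k₂ : List (List ℕ × List ℕ) → Bool} (c' : Ctx CL.Std.O6m2.P e' cs CL.Std.O6m2.ns D₂ k₂) (hF : Faithful e' CL.Std.O6m2.P.n (subW cs [[0], [2]])) :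
    RelLe CL.F22.AuxE.T.gs1 [[0], [2], [4], [6], [8], [10], [12], [14], [16], [18], [20]] cs [[0], [2]] :=
  ((toT c1 CL.F22.AuxE.T.c1 ((faithful_eF _).mono le_top)).symm_of_card (G_ub c1) (CL.F22.AuxE.T.G_lb CL.F22.AuxE.T.c1)).trans (toB c1 c' hF)

end
end CL.F22.AuxE.S

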