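import Cfsg.Agent.Spor.PMFi24C0
import Cfsg.Agent.Spor.PMFi24C1
import Cfsg.Agent.Spor.PMFi24C2

/-! permutation model generated by tools/tc/pm -/

set_option maxRecDepth 100000
set_option autoImplicit false
set_option linter.all false
set_option Elab.async false

namespace CL.PM.Fi24
open CL.PG CL.PP

theorem rel0 : Rels (ns.map (netPerm 306936)) R0 := PlOK.rels (PlOK.succ (PlOK.succ (PlOK.succ (PlOK.succ (PlOK.succ (PlOK.succ (PlOK.succ (PlOK.succ (PlOK.succ (PlOK.succ (PlOK.succ (PlOK.succ (PlOK.succ (PlOK.succ (PlOK.succ (PlOK.succ (PlOK.succ (PlOK.succ (PlOK.succ (PlOK.zero 0 306936 19 ns R0) 0 1 rfl r0_0) 1 2 rfl r0_1) 2 3 rfl r0_2) 3 4 rfl r0_3) 4 5 rfl r0_4) 5 6 rfl r0_5) 6 7 rfl r0_6) 7 8 rfl r0_7) 8 9 rfl r0_8) 9 10 rfl r0_9) 10 11 rfl r0_10) 11 12 rfl r0_11) 12 13 rfl r0_12) 13 14 rfl r0_13) 14 15 rfl r0_14) 15 16 rfl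 r0_15) 16 17 rfl r0_16) 17 18 rfl r0_17) 18 19 rfl r0_18) ok rfl
theorem rel1 : Rels (ns.map (netPerm 306936)) R1 := PlOK.rels (PlOK.succ (PlOK.succ (PlOK.succ (PlOK.succ (PlOK.succ (PlOK.succ (PlOK.succ (PlOK.succ (PlOK.succ (PlOK.succ (PlOK.succ (PlOK.succ (PlOK.succ (PlOK.succ (PlOK.succ (PlOK.succ (PlOK.succ (PlOK.succ (PlOK.succ (PlOK.zero 0 306936 19 ns R1) 0 1 rfl r1_0) 1 2 rfl r1_1) 2 3 rfl r1_2) 3 4 rfl r1_3) 4 5 rfl r1_4) 5 6 rfl r1_5) 6 7 rfl r1_6) 7 8 rfl r1_7) 8 9 rfl r1_8) 9 10 rfl r1_9) 10 11 rfl r1_10) 11 12 rfl r1_11) 12 13 rfl r1_12) 13 14 rfl r1_13) 14 15 rfl r1_14) 15 16 rfl r1_15) 16 17 rfl r1_16) 17 18 rfl r1_17) 18 19 rfl r1_18) ok rfl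
theorem rel2 : Rels (ns.map (netPerm 306936)) R2 := PlOK.rels (PlOK.succ (PlOK.succ (PlOK.succ (PlOK.succ (PlOK.succ (PlOK.succ (PlOK.succ (PlOK.succ (PlOK.succ (PlOK.succ (PlOK.succ (PlOK.succ (PlOK.succ (PlOK.succ (PlOK.succ (PlOK.succ (PlOK.succ (PlOK.succ (PlOK.succ (PlOK.zero 0 306936 19 ns R2) 0 1 rfl r2_0) 1 2 rfl r2_1) 2 3 rfl r2_2) 3 4 rfl r2_3) 4 5 rfl r2_4) 5 6 rfl r2_5) 6 7 rfl r2_6) 7 8 rfl r2_7) 8 9 rfl r2_8) 9 10 rfl r2_9) 10 11 rfl r2_10) 11 12 rfl r2_11) 12 13 rfl r2_12) 13 14 rfl r2_13) 14 15 rfl r2_14) 15 16 rfl r2_15) 16 17 rfl r2_16) 17 18 rfl r2_17) 18 19 rfl r2_18) ok rfl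
theorem rel3 : Rels (ns.map (netPerm 306936)) R3 := PlOK.rels (PlOK.succ (PlOK.succ (PlOK.succ (PlOK.succ (PlOK.succ (PlOK.succ (PlOK.succ (PlOK.succ (PlOK.succ (PlOK.succ (PlOK.succ (PlOK.succ (PlOK.succ (PlOK.succ (PlOK.succ (PlOK.succ (PlOK.succ (PlOK.succ (PlOK.succ (PlOK.zero 0 306936 19 ns R3) 0 1 rfl r3_0) 1 2 rfl r3_1) 2 3 rfl r3_2) 3 4 rfl r3_3) 4 5 rfl r3_4) 5 6 rfl r3_5) 6 7 rfl r3_6) 7 8 rfl r3_7) 8 9 rfl r3_8) 9 10 rfl r3_9) 10 11 rfl r3_10) 11 12 rfl r3_11) 12 13 rfl r3_12) 13 14 rfl r3_13) 14 15 rfl r3_14) 15 16 rfl r3_15) 16 17 rfl r3_16) 17 18 rfl r3_17) 18 19 rfl r3_18) ok rfl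
theorem rel4 : Rels (ns.map (netPerm 306936)) R4 := PlOK.rels (PlOK.succ (PlOK.succ (PlOK.succ (PlOK.succ (PlOK.succ (PlOK.succ (PlOK.succ (PlOK.succ (PlOK.succ (PlOK.succ (PlOK.succ (PlOK.succ (PlOK.succ (PlOK.succ (PlOK.succ (PlOK.succ (PlOK.succ (PlOK.succ (PlOK.succ (PlOK.zero 0 306936 19 ns R4) 0 1 rfl r4_0) 1 2 rfl r4_1) 2 3 rfl r4_2) 3 4 rfl r4_3) 4 5 rfl r4_4) 5 6 rfl r4_5) 6 7 rfl r4_6) 7 8 rfl r4_7) 8 9 rfl r4_8) 9 10 rfl r4_9) 10 11 rfl r4_10) 11 12 rfl r4_11) 12 13 rfl r4_12) 13 14 rfl r4_13) 14 15 rfl r4_14) 15 16 rfl r4_15) 16 17 rfl r4_16) 17 18 rfl r4_17) 18 19 rfl r4_18) ok rfl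
theorem rel : Rels (ns.map (netPerm 306936)) R := (Rels.append (Rels.append (Rels.append (Rels.append rel0 rel1) rel2) rel3) rel4)
theorem chain : P.chainB ns D levs (gensW 12) = true := (Par.chainB_cons lev0 (Par.chainB_nil _ _ _ _))
theorem subsok : ∀ o ∈ subs, o.ok 306936 19 ns D v0.nx = true := by
  simp only [subs, List.forall_mem_cons, List.not_mem_nil, false_imp_iff, implies_true, and_true]
  exact ⟨sub0, sub1⟩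
theorem Pok : P.Ok := by decide
theorem defs : defsB (mkDefs ws 12) = true := by decide +kernel
theorem relD : Rels (ns.map (netPerm 306936)) (defRels (mkDefs ws 12)) := rels_sub rel (by decide +kernel)

end CL.PM.Fi24
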