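import Cfsg.Agent.Spor.TCFi24AT

/-! coset enumeration certificate generated by tools/tc -/

set_option maxRecDepth 100000
set_option autoImplicit false
set_option linter.all false

namespace CL.TC.Fi24A

theorem m50 : rng mF (nat_lit 83301) (nat_lit 1666) = 0 := by decide +kernel
theorem m51 : rng mF (nat_lit 84967) (nat_lit 1666) = 0 := by decide +kernel
theorem m52 : rng mF (nat_lit 86633) (nat_lit 1666) = 0 := by decide +kernel
theorem m53 : rng mF (nat_lit 88299) (nat_lit 1666) = 0 := by decide +kernel
theorem m54 : rng mF (nat_lit 89965) (nat_lit 1666) = 0 := by decide +kernel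
theorem m55 : rng mF (nat_lit 91631) (nat_lit 1666) = 0 := by decide +kernel
theorem m56 : rng mF (nat_lit 93297) (nat_lit 1666) = 0 := by decide +kernel
theorem m57 : rng mF (nat_lit 94963) (nat_lit 1666) = 0 := by decide +kernel
theorem m58 : rng mF (nat_lit 96629) (nat_lit 1666) = 0 := by decide +kernel
theorem m59 : rng mF (nat_lit 98295) (nat_lit 1666) = 0 := by decide +kernel
theorem m60 : rng mF (nat_lit 99961) (nat_lit 1666) = 0 := by decide +kernel
theorem m61 : rng mF (nat_lit 101627) (nat_lit 1666) = 0 := by decide +kernel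
theorem m62 : rng mF (nat_lit 103293) (nat_lit 1666) = 0 := by decide +kernel
theorem m63 : rng mF (nat_lit 104959) (nat_lit 1666) = 0 := by decide +kernel
theorem m64 : rng mF (nat_lit 106625) (nat_lit 1666) = 0 := by decide +kernel
theorem m65 : rng mF (nat_lit 108291) (nat_lit 1666) = 0 := by decide +kernel
theorem m66 : rng mF (nat_lit 109957) (nat_lit 1666) = 0 := by decide +kernel
theorem m67 : rng mF (nat_lit 111623) (nat_lit 1666) = 0 := by decide +kernel
theorem m68 : rng mF (nat_lit 113289) (nat_lit 1666) = 0 := by decide +kernel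
theorem m69 : rng mF (nat_lit 114955) (nat_lit 1666) = 0 := by decide +kernel
theorem m70 : rng mF (nat_lit 116621) (nat_lit 1666) = 0 := by decide +kernel
theorem m71 : rng mF (nat_lit 118287) (nat_lit 1666) = 0 := by decide +kernel
theorem m72 : rng mF (nat_lit 119953) (nat_lit 1666) = 0 := by decide +kernel
theorem m73 : rng mF (nat_lit 121619) (nat_lit 1666) = 0 := by decide +kernel
theorem m74 : rng mF (nat_lit 123285) (nat_lit 1666) = 0 := by decide +kernel

end CL.TC.Fi24A
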