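import Cfsg.Agent.Spor.TCFi24AT

/-! coset enumeration certificate generated by tools/tc -/

set_option maxRecDepth 100000
set_option autoImplicit false
set_option linter.all false

namespace CL.TC.Fi24A

theorem m75 : rng mF (nat_lit 124951) (nat_lit 1666) = 0 := by decide +kernel
theorem m76 : rng mF (nat_lit 126617) (nat_lit 1666) = 0 := by decide +kernel
theorem m77 : rng mF (nat_lit 128283) (nat_lit 1666) = 0 := by decide +kernel
theorem m78 : rng mF (nat_lit 129949) (nat_lit 1666) = 0 := by decide +kernel
theorem m79 : rng mF (nat_lit 131615) (nat_lit 1666) = 0 := by decide +kernel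
theorem m80 : rng mF (nat_lit 133281) (nat_lit 1666) = 0 := by decide +kernel
theorem m81 : rng mF (nat_lit 134947) (nat_lit 1666) = 0 := by decide +kernel
theorem m82 : rng mF (nat_lit 136613) (nat_lit 1666) = 0 := by decide +kernel
theorem m83 : rng mF (nat_lit 138279) (nat_lit 1666) = 0 := by decide +kernel
theorem m84 : rng mF (nat_lit 139945) (nat_lit 1666) = 0 := by decide +kernel
theorem m85 : rng mF (nat_lit 141611) (nat_lit 1666) = 0 := by decide +kernel
theorem m86 : rng mF (nat_lit 143277) (nat_lit 1666) = 0 := by decide +kernel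
theorem m87 : rng mF (nat_lit 144943) (nat_lit 1666) = 0 := by decide +kernel
theorem m88 : rng mF (nat_lit 146609) (nat_lit 1666) = 0 := by decide +kernel
theorem m89 : rng mF (nat_lit 148275) (nat_lit 1666) = 0 := by decide +kernel
theorem m90 : rng mF (nat_lit 149941) (nat_lit 1666) = 0 := by decide +kernel
theorem m91 : rng mF (nat_lit 151607) (nat_lit 1666) = 0 := by decide +kernel
theorem m92 : rng mF (nat_lit 153273) (nat_lit 1666) = 0 := by decide +kernel
theorem m93 : rng mF (nat_lit 154939) (nat_lit 1666) = 0 := by decide +kernel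
theorem m94 : rng mF (nat_lit 156605) (nat_lit 1666) = 0 := by decide +kernel
theorem m95 : rng mF (nat_lit 158271) (nat_lit 1666) = 0 := by decide +kernel
theorem m96 : rng mF (nat_lit 159937) (nat_lit 1666) = 0 := by decide +kernel
theorem m97 : rng mF (nat_lit 161603) (nat_lit 1666) = 0 := by decide +kernel
theorem m98 : rng mF (nat_lit 163269) (nat_lit 1666) = 0 := by decide +kernel
theorem m99 : rng mF (nat_lit 164935) (nat_lit 1666) = 0 := by decide +kernel

end CL.TC.Fi24A
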