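import Cfsg.Agent.Spor.TCFi24AT

/-! coset enumeration certificate generated by tools/tc -/

set_option maxRecDepth 100000
set_option autoImplicit false
set_option linter.all false

namespace CL.TC.Fi24A

theorem m100 : rng mF (nat_lit 166601) (nat_lit 1666) = 0 := by decide +kernel
theorem m101 : rng mF (nat_lit 168267) (nat_lit 1666) = 0 := by decide +kernel
theorem m102 : rng mF (nat_lit 169933) (nat_lit 1666) = 0 := by decide +kernel
theorem m103 : rng mF (nat_lit 171599) (nat_lit 1666) = 0 := by decide +kernel
theorem m104 : rng mF (nat_lit 173265) (nat_lit 1666) = 0 := by decide +kernel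
theorem m105 : rng mF (nat_lit 174931) (nat_lit 1666) = 0 := by decide +kernel
theorem m106 : rng mF (nat_lit 176597) (nat_lit 1666) = 0 := by decide +kernel
theorem m107 : rng mF (nat_lit 178263) (nat_lit 1666) = 0 := by decide +kernel
theorem m108 : rng mF (nat_lit 179929) (nat_lit 1666) = 0 := by decide +kernel
theorem m109 : rng mF (nat_lit 181595) (nat_lit 1666) = 0 := by decide +kernel
theorem m110 : rng mF (nat_lit 183261) (nat_lit 1666) = 0 := by decide +kernel
theorem m111 : rng mF (nat_lit 184927) (nat_lit 1666) = 0 := by decide +kernel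
theorem m112 : rng mF (nat_lit 186593) (nat_lit 1666) = 0 := by decide +kernel
theorem m113 : rng mF (nat_lit 188259) (nat_lit 1666) = 0 := by decide +kernel
theorem m114 : rng mF (nat_lit 189925) (nat_lit 1666) = 0 := by decide +kernel
theorem m115 : rng mF (nat_lit 191591) (nat_lit 1666) = 0 := by decide +kernel
theorem m116 : rng mF (nat_lit 193257) (nat_lit 1666) = 0 := by decide +kernel
theorem m117 : rng mF (nat_lit 194923) (nat_lit 1666) = 0 := by decide +kernel
theorem m118 : rng mF (nat_lit 196589) (nat_lit 1666) = 0 := by decide +kernel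
theorem m119 : rng mF (nat_lit 198255) (nat_lit 1666) = 0 := by decide +kernel
theorem m120 : rng mF (nat_lit 199921) (nat_lit 1666) = 0 := by decide +kernel
theorem m121 : rng mF (nat_lit 201587) (nat_lit 1666) = 0 := by decide +kernel
theorem m122 : rng mF (nat_lit 203253) (nat_lit 1666) = 0 := by decide +kernel
theorem m123 : rng mF (nat_lit 204919) (nat_lit 1666) = 0 := by decide +kernel
theorem m124 : rng mF (nat_lit 206585) (nat_lit 1666) = 0 := by decide +kernel

end CL.TC.Fi24A
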