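import Cfsg.Agent.Spor.TCFi24AT

/-! coset enumeration certificate generated by tools/tc -/

set_option maxRecDepth 100000
set_option autoImplicit false
set_option linter.all false

namespace CL.TC.Fi24A

theorem m150 : rng mF (nat_lit 249901) (nat_lit 1666) = 0 := by decide +kernel
theorem m151 : rng mF (nat_lit 251567) (nat_lit 1666) = 0 := by decide +kernel
theorem m152 : rng mF (nat_lit 253233) (nat_lit 1666) = 0 := by decide +kernel
theorem m153 : rng mF (nat_lit 254899) (nat_lit 1666) = 0 := by decide +kernel
theorem m154 : rng mF (nat_lit 256565) (nat_lit 1666) = 0 := by decide +kernel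
theorem m155 : rng mF (nat_lit 258231) (nat_lit 1666) = 0 := by decide +kernel
theorem m156 : rng mF (nat_lit 259897) (nat_lit 1666) = 0 := by decide +kernel
theorem m157 : rng mF (nat_lit 261563) (nat_lit 1666) = 0 := by decide +kernel
theorem m158 : rng mF (nat_lit 263229) (nat_lit 1666) = 0 := by decide +kernel
theorem m159 : rng mF (nat_lit 264895) (nat_lit 1666) = 0 := by decide +kernel
theorem m160 : rng mF (nat_lit 266561) (nat_lit 1666) = 0 := by decide +kernel
theorem m161 : rng mF (nat_lit 268227) (nat_lit 1666) = 0 := by decide +kernel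
theorem m162 : rng mF (nat_lit 269893) (nat_lit 1666) = 0 := by decide +kernel
theorem m163 : rng mF (nat_lit 271559) (nat_lit 1666) = 0 := by decide +kernel
theorem m164 : rng mF (nat_lit 273225) (nat_lit 1666) = 0 := by decide +kernel
theorem m165 : rng mF (nat_lit 274891) (nat_lit 1666) = 0 := by decide +kernel
theorem m166 : rng mF (nat_lit 276557) (nat_lit 1666) = 0 := by decide +kernel
theorem m167 : rng mF (nat_lit 278223) (nat_lit 1666) = 0 := by decide +kernel
theorem m168 : rng mF (nat_lit 279889) (nat_lit 1666) = 0 := by decide +kernel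
theorem m169 : rng mF (nat_lit 281555) (nat_lit 1666) = 0 := by decide +kernel
theorem m170 : rng mF (nat_lit 283221) (nat_lit 1666) = 0 := by decide +kernel
theorem m171 : rng mF (nat_lit 284887) (nat_lit 1666) = 0 := by decide +kernel
theorem m172 : rng mF (nat_lit 286553) (nat_lit 1666) = 0 := by decide +kernel
theorem m173 : rng mF (nat_lit 288219) (nat_lit 1666) = 0 := by decide +kernel
theorem m174 : rng mF (nat_lit 289885) (nat_lit 1666) = 0 := by decide +kernel

end CL.TC.Fi24A
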