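import Cfsg.Agent.Spor.TCFi24AC0
import Cfsg.Agent.Spor.TCFi24AC1
import Cfsg.Agent.Spor.TCFi24AC2
import Cfsg.Agent.Spor.TCFi24AC3
import Cfsg.Agent.Spor.TCFi24AC4
import Cfsg.Agent.Spor.TCFi24AC5
import Cfsg.Agent.Spor.TCFi24AC6
import Cfsg.Agent.Spor.TCFi24AC7
import Cfsg.Agent.Spor.TCFi24AC8

/-! coset enumeration certificate generated by tools/tc -/

set_option maxRecDepth 100000
set_option autoImplicit false
set_option linter.all false

namespace CL.TC.Fi24A

theorem mz0 : AllZ mF 1 (nat_lit 33321) := (AllZ.step (AllZ.step (AllZ.step (AllZ.step (AllZ.step (AllZ.step (AllZ.step (AllZ.step (AllZ.step (AllZ.step (AllZ.step (AllZ.step (AllZ.step (AllZ.step (AllZ.step (AllZ.step (AllZ.step (AllZ.step (AllZ.step (AllZ.step (AllZ.nil mF 1) (nat_lit 1666) (nat_lit 1667) rfl m0) (nat_lit 1666) (nat_lit 3333) rfl m1) (nat_lit 1666) (nat_lit 4999) rfl m2) (nat_lit 1666) (nat_lit 6665) rfl m3) (nat_lit 1666) (nat_lit 8331) rfl m4) (nat_lit 1666)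 (nat_lit 9997) rfl m5) (nat_lit 1666) (nat_lit 11663) rfl m6) (nat_lit 1666) (nat_lit 13329) rfl m7) (nat_lit 1666) (nat_lit 14995) rfl m8) (nat_lit 1666) (nat_lit 16661) rfl m9) (nat_lit 1666) (nat_lit 18327) rfl m10) (nat_lit 1666) (nat_lit 19993) rfl m11) (nat_lit 1666) (nat_lit 21659) rfl m12) (nat_lit 1666) (nat_lit 23325) rfl m13) (nat_lit 1666) (nat_lit 24991) rfl m14) (nat_lit 1666) (nat_lit 26657) rfl m15) (nat_lit 1666) (nat_lit 28323) rfl m16) (nat_lit 1666) (nat_lit 29989) rfl m17) (nat_lit 1666) (nat_lit 31655) rfl m18) (nat_lit 1666) (nat_lit 33321) rfl m19)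
theorem mz1 : AllZ mF 1 (nat_lit 66641) := (AllZ.step (AllZ.step (AllZ.step (AllZ.step (AllZ.step (AllZ.step (AllZ.step (AllZ.step (AllZ.step (AllZ.step (AllZ.step (AllZ.step (AllZ.step (AllZ.step (AllZ.step (AllZ.step (AllZ.step (AllZ.step (AllZ.step (AllZ.step mz0 (nat_lit 1666) (nat_lit 34987) rfl m20) (nat_lit 1666) (nat_lit 36653) rfl m21) (nat_lit 1666) (nat_lit 38319) rfl m22) (nat_lit 1666) (nat_lit 39985) rfl m23) (nat_lit 1666) (nat_lit 41651) rfl m24) (nat_lit 1666) (nat_lit 43317) rfl m25) (nat_lit 1666) (nat_lit 44983) rfl m26) (nat_lit 1666) (nat_lit 46649) rfl m27) (nat_lit 1666) (nat_lit 48315) rfl m28) (nat_lit 1666) (nat_lit 49981) rfl m29) (nat_lit 1666) (nat_lit 51647) rfl m30) (nat_lit 1666) (nat_lit 53313) rfl m31) (nat_lit 1666) (nat_lit 54979) rfl m32) (nat_lit 1666) (nat_lit 56645) rfl m33) (nat_lit 1666) (nat_lit 58311) rfl m34) (nat_lit 1666) (nat_lit 59977) rfl m35) (nat_lit 1666) (nat_lit 61643) rfl m36) (nat_lit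 1666) (nat_lit 63309) rfl m37) (nat_lit 1666) (nat_lit 64975) rfl m38) (nat_lit 1666) (nat_lit 66641) rfl m39)
theorem mz2 : AllZ mF 1 (nat_lit 99961) := (AllZ.step (AllZ.step (AllZ.step (AllZ.step (AllZ.step (AllZ.step (AllZ.step (AllZ.step (AllZ.step (AllZ.step (AllZ.step (AllZ.step (AllZ.step (AllZ.step (AllZ.step (AllZ.step (AllZ.step (AllZ.step (AllZ.step (AllZ.step mz1 (nat_lit 1666) (nat_lit 68307) rfl m40) (nat_lit 1666) (nat_lit 69973) rfl m41) (nat_lit 1666) (nat_lit 71639) rfl m42) (nat_lit 1666) (nat_lit 73305) rfl m43) (nat_lit 1666) (nat_lit 74971) rfl m44) (nat_lit 1666) (nat_lit 76637) rfl m45) (nat_lit 1666) (nat_lit 78303) rfl m46) (nat_lit 1666) (nat_lit 79969) rfl m47) (nat_lit 1666) (nat_lit 81635) rfl m48) (nat_lit 1666) (nat_lit 83301) rfl m49) (nat_lit 1666) (nat_lit 84967) rfl m50) (nat_lit 1666) (nat_lit 86633) rfl m51) (nat_lit 1666) (nat_lit 88299) rfl m52) (nat_lit 1666) (nat_lit 89965) rfl m53) (nat_lit 1666)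 (nat_lit 91631) rfl m54) (nat_lit 1666) (nat_lit 93297) rfl m55) (nat_lit 1666) (nat_lit 94963) rfl m56) (nat_lit 1666) (nat_lit 96629) rfl m57) (nat_lit 1666) (nat_lit 98295) rfl m58) (nat_lit 1666) (nat_lit 99961) rfl m59)
theorem mz3 : AllZ mF 1 (nat_lit 133281) := (AllZ.step (AllZ.step (AllZ.step (AllZ.step (AllZ.step (AllZ.step (AllZ.step (AllZ.step (AllZ.step (AllZ.step (AllZ.step (AllZ.step (AllZ.step (AllZ.step (AllZ.step (AllZ.step (AllZ.step (AllZ.step (AllZ.step (AllZ.step mz2 (nat_lit 1666) (nat_lit 101627) rfl m60) (nat_lit 1666) (nat_lit 103293) rfl m61) (nat_lit 1666) (nat_lit 104959) rfl m62) (nat_lit 1666) (nat_lit 106625) rfl m63) (nat_lit 1666) (nat_lit 108291) rfl m64) (nat_lit 1666) (nat_lit 109957) rfl m65) (nat_lit 1666) (nat_lit 111623) rfl m66) (nat_lit 1666) (nat_lit 113289) rfl m67) (nat_lit 1666) (nat_lit 114955) rfl m68) (nat_lit 1666) (nat_lit 116621) rfl m69) (nat_lit 1666) (nat_lit 118287) rfl m70) (nat_lit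 1666) (nat_lit 119953) rfl m71) (nat_lit 1666) (nat_lit 121619) rfl m72) (nat_lit 1666) (nat_lit 123285) rfl m73) (nat_lit 1666) (nat_lit 124951) rfl m74) (nat_lit 1666) (nat_lit 126617) rfl m75) (nat_lit 1666) (nat_lit 128283) rfl m76) (nat_lit 1666) (nat_lit 129949) rfl m77) (nat_lit 1666) (nat_lit 131615) rfl m78) (nat_lit 1666) (nat_lit 133281) rfl m79)
theorem mz4 : AllZ mF 1 (nat_lit 166601) := (AllZ.step (AllZ.step (AllZ.step (AllZ.step (AllZ.step (AllZ.step (AllZ.step (AllZ.step (AllZ.step (AllZ.step (AllZ.step (AllZ.step (AllZ.step (AllZ.step (AllZ.step (AllZ.step (AllZ.step (AllZ.step (AllZ.step (AllZ.step mz3 (nat_lit 1666) (nat_lit 134947) rfl m80) (nat_lit 1666) (nat_lit 136613) rfl m81) (nat_lit 1666) (nat_lit 138279) rfl m82) (nat_lit 1666) (nat_lit 139945) rfl m83) (nat_lit 1666) (nat_lit 141611) rfl m84) (nat_lit 1666) (nat_lit 143277) rfl m85) (nat_lit 1666) (nat_lit 144943) rfl m86) (nat_lit 1666) (nat_lit 146609) rfl m87)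 (nat_lit 1666) (nat_lit 148275) rfl m88) (nat_lit 1666) (nat_lit 149941) rfl m89) (nat_lit 1666) (nat_lit 151607) rfl m90) (nat_lit 1666) (nat_lit 153273) rfl m91) (nat_lit 1666) (nat_lit 154939) rfl m92) (nat_lit 1666) (nat_lit 156605) rfl m93) (nat_lit 1666) (nat_lit 158271) rfl m94) (nat_lit 1666) (nat_lit 159937) rfl m95) (nat_lit 1666) (nat_lit 161603) rfl m96) (nat_lit 1666) (nat_lit 163269) rfl m97) (nat_lit 1666) (nat_lit 164935) rfl m98) (nat_lit 1666) (nat_lit 166601) rfl m99)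
theorem mz5 : AllZ mF 1 (nat_lit 199921) := (AllZ.step (AllZ.step (AllZ.step (AllZ.step (AllZ.step (AllZ.step (AllZ.step (AllZ.step (AllZ.step (AllZ.step (AllZ.step (AllZ.step (AllZ.step (AllZ.step (AllZ.step (AllZ.step (AllZ.step (AllZ.step (AllZ.step (AllZ.step mz4 (nat_lit 1666) (nat_lit 168267) rfl m100) (nat_lit 1666) (nat_lit 169933) rfl m101) (nat_lit 1666) (nat_lit 171599) rfl m102) (nat_lit 1666) (nat_lit 173265) rfl m103) (nat_lit 1666) (nat_lit 174931) rfl m104) (nat_lit 1666) (nat_lit 176597) rfl m105) (nat_lit 1666) (nat_lit 178263) rfl m106) (nat_lit 1666) (nat_lit 179929) rfl m107) (nat_lit 1666) (nat_lit 181595) rfl m108) (nat_lit 1666) (nat_lit 183261) rfl m109) (nat_lit 1666) (nat_lit 184927) rfl m110) (nat_lit 1666) (nat_lit 186593) rfl m111) (nat_lit 1666) (nat_lit 188259) rfl m112) (nat_lit 1666) (nat_lit 189925) rfl m113) (nat_lit 1666) (nat_lit 191591) rfl m114) (nat_lit 1666) (nat_lit 193257) rfl m115) (nat_lit 1666)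 (nat_lit 194923) rfl m116) (nat_lit 1666) (nat_lit 196589) rfl m117) (nat_lit 1666) (nat_lit 198255) rfl m118) (nat_lit 1666) (nat_lit 199921) rfl m119)
theorem mz6 : AllZ mF 1 (nat_lit 233241) := (AllZ.step (AllZ.step (AllZ.step (AllZ.step (AllZ.step (AllZ.step (AllZ.step (AllZ.step (AllZ.step (AllZ.step (AllZ.step (AllZ.step (AllZ.step (AllZ.step (AllZ.step (AllZ.step (AllZ.step (AllZ.step (AllZ.step (AllZ.step mz5 (nat_lit 1666) (nat_lit 201587) rfl m120) (nat_lit 1666) (nat_lit 203253) rfl m121) (nat_lit 1666) (nat_lit 204919) rfl m122) (nat_lit 1666) (nat_lit 206585) rfl m123) (nat_lit 1666) (nat_lit 208251) rfl m124) (nat_lit 1666) (nat_lit 209917) rfl m125) (nat_lit 1666) (nat_lit 211583) rfl m126) (nat_lit 1666) (nat_lit 213249) rfl m127) (nat_lit 1666) (nat_lit 214915) rfl m128) (nat_lit 1666) (nat_lit 216581) rfl m129) (nat_lit 1666) (nat_lit 218247) rfl m130) (nat_lit 1666) (nat_lit 219913) rfl m131) (nat_lit 1666) (nat_lit 221579)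 rfl m132) (nat_lit 1666) (nat_lit 223245) rfl m133) (nat_lit 1666) (nat_lit 224911) rfl m134) (nat_lit 1666) (nat_lit 226577) rfl m135) (nat_lit 1666) (nat_lit 228243) rfl m136) (nat_lit 1666) (nat_lit 229909) rfl m137) (nat_lit 1666) (nat_lit 231575) rfl m138) (nat_lit 1666) (nat_lit 233241) rfl m139)
theorem mz7 : AllZ mF 1 (nat_lit 266561) := (AllZ.step (AllZ.step (AllZ.step (AllZ.step (AllZ.step (AllZ.step (AllZ.step (AllZ.step (AllZ.step (AllZ.step (AllZ.step (AllZ.step (AllZ.step (AllZ.step (AllZ.step (AllZ.step (AllZ.step (AllZ.step (AllZ.step (AllZ.step mz6 (nat_lit 1666) (nat_lit 234907) rfl m140) (nat_lit 1666) (nat_lit 236573) rfl m141) (nat_lit 1666) (nat_lit 238239) rfl m142) (nat_lit 1666) (nat_lit 239905) rfl m143) (nat_lit 1666) (nat_lit 241571) rfl m144) (nat_lit 1666) (nat_lit 243237) rfl m145) (nat_lit 1666) (nat_lit 244903) rfl m146) (nat_lit 1666) (nat_lit 246569) rfl m147) (nat_lit 1666) (nat_lit 248235) rfl m148) (nat_lit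 1666) (nat_lit 249901) rfl m149) (nat_lit 1666) (nat_lit 251567) rfl m150) (nat_lit 1666) (nat_lit 253233) rfl m151) (nat_lit 1666) (nat_lit 254899) rfl m152) (nat_lit 1666) (nat_lit 256565) rfl m153) (nat_lit 1666) (nat_lit 258231) rfl m154) (nat_lit 1666) (nat_lit 259897) rfl m155) (nat_lit 1666) (nat_lit 261563) rfl m156) (nat_lit 1666) (nat_lit 263229) rfl m157) (nat_lit 1666) (nat_lit 264895) rfl m158) (nat_lit 1666) (nat_lit 266561) rfl m159)
theorem mz8 : AllZ mF 1 (nat_lit 299881) := (AllZ.step (AllZ.step (AllZ.step (AllZ.step (AllZ.step (AllZ.step (AllZ.step (AllZ.step (AllZ.step (AllZ.step (AllZ.step (AllZ.step (AllZ.step (AllZ.step (AllZ.step (AllZ.step (AllZ.step (AllZ.step (AllZ.step (AllZ.step mz7 (nat_lit 1666) (nat_lit 268227) rfl m160) (nat_lit 1666) (nat_lit 269893) rfl m161) (nat_lit 1666) (nat_lit 271559) rfl m162) (nat_lit 1666) (nat_lit 273225) rfl m163) (nat_lit 1666) (nat_lit 274891) rfl m164) (nat_lit 1666) (nat_lit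 276557) rfl m165) (nat_lit 1666) (nat_lit 278223) rfl m166) (nat_lit 1666) (nat_lit 279889) rfl m167) (nat_lit 1666) (nat_lit 281555) rfl m168) (nat_lit 1666) (nat_lit 283221) rfl m169) (nat_lit 1666) (nat_lit 284887) rfl m170) (nat_lit 1666) (nat_lit 286553) rfl m171) (nat_lit 1666) (nat_lit 288219) rfl m172) (nat_lit 1666) (nat_lit 289885) rfl m173) (nat_lit 1666) (nat_lit 291551) rfl m174) (nat_lit 1666) (nat_lit 293217) rfl m175) (nat_lit 1666) (nat_lit 294883) rfl m176) (nat_lit 1666) (nat_lit 296549) rfl m177) (nat_lit 1666) (nat_lit 298215) rfl m178) (nat_lit 1666) (nat_lit 299881) rfl m179)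
theorem mz9 : AllZ mF 1 (nat_lit 306937) := (AllZ.step (AllZ.step (AllZ.step (AllZ.step (AllZ.step mz8 (nat_lit 1666) (nat_lit 301547) rfl m180) (nat_lit 1666) (nat_lit 303213) rfl m181) (nat_lit 1666) (nat_lit 304879) rfl m182) (nat_lit 1666) (nat_lit 306545) rfl m183) (nat_lit 392) (nat_lit 306937) rfl m184)
theorem xz0 : XZ xF (nat_lit 1100) := (XZ.step (XZ.step (XZ.step (XZ.step (XZ.step (XZ.step (XZ.step (XZ.step (XZ.step (XZ.step (XZ.step (XZ.step (XZ.step (XZ.step (XZ.step (XZ.step (XZ.step (XZ.step (XZ.step (XZ.step (XZ.nil xF) s0 (nat_lit 1) (nat_lit 57) (by decide +kernel) x0) s1 (nat_lit 58) (nat_lit 115) (by decide +kernel) x1) s2 (nat_lit 116) (nat_lit 173) (by decide +kernel) x2) s3 (nat_lit 174) (nat_lit 231) (by decide +kernel) x3) s4 (nat_lit 232) (nat_lit 288) (by decide +kernel) x4) s5 (nat_lit 289) (nat_lit 345) (by decide +kernel) x5) s6 (nat_lit 346) (nat_lit 402) (by decide +kernel) x6) s7 (nat_lit 403) (nat_lit 460)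 (by decide +kernel) x7) s8 (nat_lit 461) (nat_lit 517) (by decide +kernel) x8) s9 (nat_lit 518) (nat_lit 574) (by decide +kernel) x9) s10 (nat_lit 575) (nat_lit 633) (by decide +kernel) x10) s11 (nat_lit 634) (nat_lit 689) (by decide +kernel) x11) s12 (nat_lit 690) (nat_lit 744) (by decide +kernel) x12) s13 (nat_lit 745) (nat_lit 801) (by decide +kernel) x13) s14 (nat_lit 802) (nat_lit 858) (by decide +kernel) x14) s15 (nat_lit 859) (nat_lit 909) (by decide +kernel) x15) s16 (nat_lit 910) (nat_lit 954) (by decide +kernel) x16) s17 (nat_lit 955) (nat_lit 1000) (by decide +kernel) x17) s18 (nat_lit 1001) (nat_lit 1049) (by decide +kernel) x18) s19 (nat_lit 1050) (nat_lit 1100) (by decide +kernel) x19)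
theorem xz1 : XZ xF (nat_lit 1354) := (XZ.step (XZ.step (XZ.step (XZ.step (XZ.step xz0 s20 (nat_lit 1101) (nat_lit 1151) (by decide +kernel) x20) s21 (nat_lit 1152) (nat_lit 1204) (by decide +kernel) x21) s22 (nat_lit 1205) (nat_lit 1256) (by decide +kernel) x22) s23 (nat_lit 1257) (nat_lit 1307) (by decide +kernel) x23) s24 (nat_lit 1308) (nat_lit 1354) (by decide +kernel) x24)
/-- the certificate (306936 points) is valid -/
theorem valid : cert.Valid (fun i => invL.getD i i) rels subs 12 :=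
  ⟨by decide +kernel, tabok, by decide +kernel, mz9, xz1⟩
theorem cert_N : cert.N = 306936 := rfl

end CL.TC.Fi24A
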