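/-
Certificate of the double coset enumeration for the Harada-Norton group.
Generated by tools/dce.
-/
import Cfsg.Agent.Spor.HNS
import Cfsg.Agent.Spor.HNLam

set_option autoImplicit false
set_option maxRecDepth 200000
set_option Elab.async false
set_option linter.unusedVariables false

namespace CL.HND
open CL.PG CL.DCE

noncomputable def rels : List (List ℕ) :=
  [[0, 0, 0, 0, 0],
  [3, 0, 2, 0, 0],
  [1, 5, 0, 4],
  [6, 0, 6, 0, 6, 0],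
  [0, 3, 4, 2, 1, 3, 5, 2],
  [0, 3, 3, 0, 2, 2]]
noncomputable def T0 : Tr :=
  .n (.n (.n (.n (.n (.n (.n (.n (.l ⟨(nat_lit 0), (nat_lit 0), (nat_lit 0), (nat_lit 0)⟩)
 (.l ⟨(nat_lit 0x400004), (nat_lit 0x1504c1500816), (nat_lit 0), (nat_lit 0)⟩))
 (.n (.l ⟨(nat_lit 0xc0000d), (nat_lit 0x88520bc2c), (nat_lit 0xe8ac150043650b3c40200806), (nat_lit 0)⟩)
 (.l ⟨(nat_lit 0x40000f), (nat_lit 1025), (nat_lit 0x700401), (nat_lit 0)⟩)))
 (.n (.n (.l ⟨(nat_lit 0x800005), (nat_lit 0x100c09), (nat_lit 0x404f63640200806), (nat_lit 0)⟩)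
 (.l ⟨(nat_lit 0xe0000b), (nat_lit 0xa0540d), (nat_lit 0x3a50246002008f2430f2), (nat_lit 0)⟩))
 (.n (.l ⟨(nat_lit 0x1000010), (nat_lit 0x1243c08c4f), (nat_lit 0), (nat_lit 0)⟩)
 (.l ⟨(nat_lit 0x1000010), (nat_lit 0x5001044040340d05801), (nat_lit 0), (nat_lit 0)⟩))))
 (.n (.n (.n (.l ⟨(nat_lit 0x400004), (nat_lit 0x8a3588f), (nat_lit 0), (nat_lit 0)⟩)
 (.l ⟨(nat_lit 0xe00007), (nat_lit 10), (nat_lit 0xd10c83a0c4da), (nat_lit 0)⟩))
 (.n (.l ⟨(nat_lit 0xe0000d), (nat_lit 0x701d1e408), (nat_lit 0x9001c2a), (nat_lit 0)⟩)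
 (.l ⟨(nat_lit 0xe0000f), (nat_lit 0xe03815), (nat_lit 0x9c1f8741690d3d4ed00802018e344109), (nat_lit 0)⟩)))
 (.n (.n (.l ⟨(nat_lit 0xa00007), (nat_lit 0x24ca818811), (nat_lit 0xe94851a00802), (nat_lit 0)⟩)
 (.l ⟨(nat_lit 0xa0000d), (nat_lit 0x140100e), (nat_lit 0xcf20c7001401004dd3f515), (nat_lit 0)⟩))
 (.l ⟨(nat_lit 0x1200013), (nat_lit 154629), (nat_lit 0x378fa3980200806), (nat_lit 0)⟩))))
 (.n (.n (.n (.n (.l ⟨(nat_lit 0x100000b), (nat_lit 18), (nat_lit 0), (nat_lit 0)⟩)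
 (.l ⟨(nat_lit 0x600006), (nat_lit 0x501200c120100a0340a), (nat_lit 0), (nat_lit 0)⟩))
 (.n (.l ⟨(nat_lit 0xe0000b), (nat_lit 0x1605110827), (nat_lit 0x3b10f4ac0200802), (nat_lit 0)⟩)
 (.l ⟨(nat_lit 0xa0000f), (nat_lit 17420), (nat_lit 0x6a154d100c01004f74791c), (nat_lit 0)⟩)))
 (.n (.n (.l ⟨(nat_lit 0xa0000a), (nat_lit 0x8a2589d), (nat_lit 0), (nat_lit 0)⟩)
 (.l ⟨(nat_lit 0xe0000b), (nat_lit 0x1302011), (nat_lit 0xd10c83a0c4f13ad0400802018e4498ed), (nat_lit 0)⟩))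
 (.n (.l ⟨(nat_lit 0x1200012), (nat_lit 0x172808e), (nat_lit 0), (nat_lit 0)⟩)
 (.l ⟨(nat_lit 0x1200012), (nat_lit 0x4058090440c0580d), (nat_lit 0), (nat_lit 0)⟩))))
 (.n (.n (.n (.l ⟨(nat_lit 0x600003), (nat_lit 1029), (nat_lit 0x90040200801), (nat_lit 0)⟩)
 (.l ⟨(nat_lit 0xa0000a), (nat_lit 0x900c160481302801), (nat_lit 0), (nat_lit 0)⟩))
 (.n (.l ⟨(nat_lit 0xe0000f), (nat_lit 0x2fc703200c), (nat_lit 0x1981f2000d), (nat_lit 0)⟩)
 (.l ⟨(nat_lit 0xe0000f), (nat_lit 0x1605808), (nat_lit 0x82130c83d50600802018eb3bcdd), (nat_lit 0)⟩)))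
 (.n (.n (.l ⟨(nat_lit 0xc0000b), (nat_lit 154629), (nat_lit 0x3f1093bc0200806), (nat_lit 0)⟩)
 (.l ⟨(nat_lit 0xe0000d), (nat_lit 0x481503801), (nat_lit 0x240070a8eb38d1f), (nat_lit 0)⟩))
 (.l ⟨(nat_lit 0x200003), (nat_lit 5), (nat_lit 0x200806), (nat_lit 0)⟩)))))
 (.n (.n (.n (.n (.n (.l ⟨(nat_lit 0x800003), (nat_lit 8), (nat_lit 0), (nat_lit 0)⟩)
 (.l ⟨(nat_lit 0xa00005), (nat_lit 5), (nat_lit 0x1605110827), (nat_lit 0)⟩))
 (.n (.l ⟨(nat_lit 0xe00007), (nat_lit 0x102003), (nat_lit 0x88d3302a), (nat_lit 0)⟩)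
 (.l ⟨(nat_lit 0xa0000f), (nat_lit 0), (nat_lit 0x8d228a402401004e93911d), (nat_lit 0)⟩)))
 (.n (.n (.l ⟨(nat_lit 0x600007), (nat_lit 0x100c09), (nat_lit 0x4c61108ab39d074140200806), (nat_lit 0)⟩)
 (.l ⟨(nat_lit 0x100000b), (nat_lit 18), (nat_lit 0), (nat_lit 0)⟩))
 (.n (.l ⟨(nat_lit 0x100000f), (nat_lit 0x3583b20c17), (nat_lit 0xd93f8e14640200806), (nat_lit 0)⟩)
 (.l ⟨(nat_lit 0x1000011), (nat_lit 1), (nat_lit 0x3b4f94900200801), (nat_lit 0)⟩))))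
 (.n (.n (.n (.l ⟨(nat_lit 0x400004), (nat_lit 1025), (nat_lit 0), (nat_lit 0)⟩)
 (.l ⟨(nat_lit 0xe00007), (nat_lit 1032), (nat_lit 0x2234cc0a8da), (nat_lit 0)⟩))
 (.n (.l ⟨(nat_lit 0xe0000f), (nat_lit 0x10140d), (nat_lit 0x37d153980200806), (nat_lit 0)⟩)
 (.l ⟨(nat_lit 0xc0000f), (nat_lit 0x1302011), (nat_lit 0xa7058650c8010050c3852a), (nat_lit 0)⟩)))
 (.n (.n (.l ⟨(nat_lit 0xc0000c), (nat_lit 0x96290ba), (nat_lit 0), (nat_lit 0)⟩)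
 (.l ⟨(nat_lit 0xc0000d), (nat_lit 0x1601c15), (nat_lit 0x3a2b054010ee3dcdb00802018f03f8e5), (nat_lit 0)⟩))
 (.l ⟨(nat_lit 3), (nat_lit 1025), (nat_lit 1025), (nat_lit 0)⟩))))
 (.n (.n (.n (.n (.l ⟨(nat_lit 0x200003), (nat_lit 1), (nat_lit 0x200801), (nat_lit 0)⟩)
 (.l ⟨(nat_lit 0x400007), (nat_lit 1), (nat_lit 0x100401), (nat_lit 0)⟩))
 (.n (.l ⟨(nat_lit 0xe0000b), (nat_lit 0x2dc7a2d03d), (nat_lit 0x344320e8313c4eb4100200806), (nat_lit 0)⟩)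
 (.l ⟨(nat_lit 0xc0000f), (nat_lit 0x1302008), (nat_lit 0x2c42a28801004014a11e), (nat_lit 0)⟩)))
 (.n (.n (.l ⟨(nat_lit 0xa00005), (nat_lit 5), (nat_lit 0x1605110827), (nat_lit 0)⟩)
 (.l ⟨(nat_lit 0xc0000c), (nat_lit 0x4c0c050030341103401), (nat_lit 0), (nat_lit 0)⟩))
 (.n (.l ⟨(nat_lit 0x120000f), (nat_lit 36874), (nat_lit 0x468fa4640200806), (nat_lit 0)⟩)
 (.l ⟨(nat_lit 0x1200013), (nat_lit 0x302c01), (nat_lit 0x378fa3980200806), (nat_lit 0)⟩))))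
 (.n (.n (.n (.l ⟨(nat_lit 0x800008), (nat_lit 0x912a8a8), (nat_lit 0), (nat_lit 0)⟩)
 (.l ⟨(nat_lit 0x60000b), (nat_lit 0), (nat_lit 0x932a06204401004e638cf5), (nat_lit 0)⟩))
 (.n (.l ⟨(nat_lit 0x1000010), (nat_lit 0x9329cd7), (nat_lit 0), (nat_lit 0)⟩)
 (.l ⟨(nat_lit 0xe0000f), (nat_lit 0x1602811), (nat_lit 0x88d3302a405233f0020090147d0c), (nat_lit 0)⟩)))
 (.n (.n (.l ⟨(nat_lit 0xc0000d), (nat_lit 1), (nat_lit 0x3ecea4300200801), (nat_lit 0)⟩)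
 (.l ⟨(nat_lit 0x100000d), (nat_lit 0x703807), (nat_lit 0xea408f400802018e93c519), (nat_lit 0)⟩))
 (.l ⟨(nat_lit 0xa00003), (nat_lit 18), (nat_lit 0), (nat_lit 0)⟩))))))
 (.n (.n (.n (.n (.n (.n (.l ⟨(nat_lit 0x400003), (nat_lit 10), (nat_lit 0), (nat_lit 0)⟩)
 (.l ⟨(nat_lit 0x200005), (nat_lit 1025), (nat_lit 0xa00401), (nat_lit 0)⟩))
 (.n (.l ⟨(nat_lit 0xe0000e), (nat_lit 0xcc2a4bc), (nat_lit 0), (nat_lit 0)⟩)
 (.l ⟨(nat_lit 0x60000f), (nat_lit 0x1603011), (nat_lit 0x10200300401374e8), (nat_lit 0)⟩)))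
 (.n (.n (.l ⟨(nat_lit 0x600008), (nat_lit 0x2b04118814), (nat_lit 0), (nat_lit 0)⟩)
 (.l ⟨(nat_lit 0xe0000b), (nat_lit 0x703016), (nat_lit 0x2084c320fb37cff), (nat_lit 0)⟩))
 (.n (.l ⟨(nat_lit 0x100000f), (nat_lit 0x1f4142dc3a), (nat_lit 0x3a0ea4840200806), (nat_lit 0)⟩)
 (.l ⟨(nat_lit 0xe00011), (nat_lit 0), (nat_lit 0x3c2a843098010050739d1c), (nat_lit 0)⟩))))
 (.n (.n (.n (.l ⟨(nat_lit 0x400004), (nat_lit 0x10600c), (nat_lit 0), (nat_lit 0)⟩)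
 (.l ⟨(nat_lit 0xc00007), (nat_lit 0x300c11), (nat_lit 0x3a2b054010dc43918), (nat_lit 0)⟩))
 (.n (.l ⟨(nat_lit 0xe0000f), (nat_lit 1), (nat_lit 0x46ced4540200801), (nat_lit 0)⟩)
 (.l ⟨(nat_lit 0xe0000f), (nat_lit 11265), (nat_lit 0x388f14000200806), (nat_lit 0)⟩)))
 (.n (.n (.l ⟨(nat_lit 0xa0000b), (nat_lit 0x260aa0c804), (nat_lit 0x16051108273a91d4100200801), (nat_lit 0)⟩)
 (.l ⟨(nat_lit 0xc0000d), (nat_lit 2), (nat_lit 0x1004e74b122), (nat_lit 0)⟩))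
 (.l ⟨(nat_lit 0x200002), (nat_lit 0x40580a0581102c0d), (nat_lit 0), (nat_lit 0)⟩))))
 (.n (.n (.n (.n (.l ⟨(nat_lit 0x200002), (nat_lit 3), (nat_lit 0), (nat_lit 0)⟩)
 (.l ⟨(nat_lit 0x200007), (nat_lit 11265), (nat_lit 0x10040500401), (nat_lit 0)⟩))
 (.n (.l ⟨(nat_lit 0xe0000b), (nat_lit 0x2b42133860), (nat_lit 0x334b500809), (nat_lit 0)⟩)
 (.l ⟨(nat_lit 0x100000f), (nat_lit 10257), (nat_lit 0x46ce842002008e74a0f1), (nat_lit 0)⟩)))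
 (.n (.n (.l ⟨(nat_lit 0xa00003), (nat_lit 1037), (nat_lit 0x374e54440200806), (nat_lit 0)⟩)
 (.l ⟨(nat_lit 0xc0000c), (nat_lit 0x150381501c0e01c0c), (nat_lit 0), (nat_lit 0)⟩))
 (.n (.l ⟨(nat_lit 0x120000f), (nat_lit 5133), (nat_lit 0x364e136c0200806), (nat_lit 0)⟩)
 (.l ⟨(nat_lit 0x1200012), (nat_lit 0x50380704c0a00803), (nat_lit 0), (nat_lit 0)⟩))))
 (.n (.n (.n (.l ⟨(nat_lit 0x600005), (nat_lit 1), (nat_lit 0x200801), (nat_lit 0)⟩)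
 (.l ⟨(nat_lit 0x20000b), (nat_lit 1025), (nat_lit 0x1200401), (nat_lit 0)⟩))
 (.n (.l ⟨(nat_lit 0xe0000f), (nat_lit 0x1f4901a412), (nat_lit 0x2084c320f54180200806), (nat_lit 0)⟩)
 (.l ⟨(nat_lit 0x100000f), (nat_lit 3086), (nat_lit 0x364fe3851900802018fe49517), (nat_lit 0)⟩)))
 (.n (.n (.l ⟨(nat_lit 0xc0000b), (nat_lit 0x500102001), (nat_lit 0x1e85f04c1c43cf538c0200801), (nat_lit 0)⟩)
 (.l ⟨(nat_lit 0xc0000d), (nat_lit 0x1400409), (nat_lit 0x3a2b054010ef36cec00802004db3f4f3), (nat_lit 0)⟩))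
 (.l ⟨(nat_lit 0x400003), (nat_lit 10), (nat_lit 0), (nat_lit 0)⟩)))))
 (.n (.n (.n (.n (.n (.l ⟨(nat_lit 0xc00003), (nat_lit 8201), (nat_lit 0), (nat_lit 0)⟩)
 (.l ⟨(nat_lit 0x600006), (nat_lit 0x504c1100c1404803), (nat_lit 0), (nat_lit 0)⟩))
 (.n (.l ⟨(nat_lit 0xe00007), (nat_lit 0x340101c04), (nat_lit 0x2707e1d05a479173a00200806), (nat_lit 0)⟩)
 (.l ⟨(nat_lit 0xe0000f), (nat_lit 1), (nat_lit 0x46ced4540200801), (nat_lit 0)⟩)))
 (.n (.n (.l ⟨(nat_lit 0x600003), (nat_lit 8), (nat_lit 0x4c61108ab), (nat_lit 0)⟩)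
 (.l ⟨(nat_lit 0xa0000b), (nat_lit 0x1400808), (nat_lit 0xc30548d004fb478e1), (nat_lit 0)⟩))
 (.n (.l ⟨(nat_lit 0x1000011), (nat_lit 0x40323009), (nat_lit 0x3f4f544c0200806), (nat_lit 0)⟩)
 (.l ⟨(nat_lit 0xc00011), (nat_lit 0xb01008), (nat_lit 0x210d86409401004dd3b4ed), (nat_lit 0)⟩))))
 (.n (.n (.n (.l ⟨(nat_lit 0x600006), (nat_lit 0x9c2d8cd), (nat_lit 0), (nat_lit 0)⟩)
 (.l ⟨(nat_lit 0xa00007), (nat_lit 0x1302011), (nat_lit 0xe543d2800802018f93b512), (nat_lit 0)⟩))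
 (.n (.l ⟨(nat_lit 0xe0000f), (nat_lit 0x44184d0), (nat_lit 0x88d3302a3680200806), (nat_lit 0)⟩)
 (.l ⟨(nat_lit 0xe0000f), (nat_lit 0x404801), (nat_lit 0x2234cc0a8da00802018ee3d8fc), (nat_lit 0)⟩)))
 (.n (.n (.l ⟨(nat_lit 0xc0000c), (nat_lit 0xa8328d1), (nat_lit 0), (nat_lit 0)⟩)
 (.l ⟨(nat_lit 0xe0000d), (nat_lit 0x1402c07), (nat_lit 0x9c1f874169063951600802008e14390c), (nat_lit 0)⟩))
 (.l ⟨(nat_lit 0x200003), (nat_lit 2), (nat_lit 1025), (nat_lit 0)⟩))))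
 (.n (.n (.n (.n (.l ⟨(nat_lit 0x200003), (nat_lit 5), (nat_lit 0x200806), (nat_lit 0)⟩)
 (.l ⟨(nat_lit 0xa00007), (nat_lit 10262), (nat_lit 0x3a521468020090a464f0), (nat_lit 0)⟩))
 (.n (.l ⟨(nat_lit 0xe0000d), (nat_lit 0x2c42a28801), (nat_lit 0x9c1f87416901474eb00802), (nat_lit 0)⟩)
 (.l ⟨(nat_lit 0xc0000f), (nat_lit 0x70540d), (nat_lit 0x5b05c7702401004ea450e2), (nat_lit 0)⟩)))
 (.n (.n (.l ⟨(nat_lit 0xa00007), (nat_lit 5), (nat_lit 0x36d013840200806), (nat_lit 0)⟩)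
 (.l ⟨(nat_lit 0x60000d), (nat_lit 0x1405805), (nat_lit 0x9012c6901401005103a518), (nat_lit 0)⟩))
 (.l ⟨(nat_lit 0x120000f), (nat_lit 0x1d0d41a80b), (nat_lit 0x419253700200806), (nat_lit 0)⟩)))
 (.n (.n (.n (.l ⟨(nat_lit 0x800003), (nat_lit 0x100408), (nat_lit 0x399044080200806), (nat_lit 0)⟩)
 (.l ⟨(nat_lit 0xa0000b), (nat_lit 1), (nat_lit 0x3b10541c0200801), (nat_lit 0)⟩))
 (.n (.l ⟨(nat_lit 0x1000010), (nat_lit 0x1f0432784c), (nat_lit 0), (nat_lit 0)⟩)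
 (.l ⟨(nat_lit 0x1000010), (nat_lit 0x1304c120481604c0903801), (nat_lit 0), (nat_lit 0)⟩)))
 (.n (.n (.l ⟨(nat_lit 0xc0000d), (nat_lit 0x2c42a28802), (nat_lit 0xe8ac150043bcdb3b00200801), (nat_lit 0)⟩)
 (.l ⟨(nat_lit 0xe0000e), (nat_lit 0x4812054090540a01004), (nat_lit 0), (nat_lit 0)⟩))
 (.l ⟨(nat_lit 0xc00003), (nat_lit 17413), (nat_lit 0), (nat_lit 0)⟩)))))))
 (.n (.n (.n (.n (.n (.n (.n (.l ⟨(nat_lit 0x200001), (nat_lit 0), (nat_lit 0), (nat_lit 0)⟩)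
 (.l ⟨(nat_lit 0x400004), (nat_lit 0x44160480e0480c04801), (nat_lit 0), (nat_lit 0)⟩))
 (.n (.l ⟨(nat_lit 0xe0000e), (nat_lit 181404), (nat_lit 0), (nat_lit 0)⟩)
 (.l ⟨(nat_lit 0x60000f), (nat_lit 0xd02807), (nat_lit 0x201401004dc448f4), (nat_lit 0)⟩)))
 (.n (.n (.l ⟨(nat_lit 0x400004), (nat_lit 0x7a1f48b), (nat_lit 0), (nat_lit 0)⟩)
 (.l ⟨(nat_lit 0xa0000b), (nat_lit 0xc0540d), (nat_lit 0x581444209cea4750400802004f2430f2), (nat_lit 0)⟩))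
 (.n (.l ⟨(nat_lit 0x100000d), (nat_lit 0x843619025), (nat_lit 0x3a9023d00200806), (nat_lit 0)⟩)
 (.l ⟨(nat_lit 0xa00011), (nat_lit 1025), (nat_lit 0x1200401), (nat_lit 0)⟩))))
 (.n (.n (.n (.l ⟨(nat_lit 0x400003), (nat_lit 2053), (nat_lit 0x3640200806), (nat_lit 0)⟩)
 (.l ⟨(nat_lit 0x600007), (nat_lit 2065), (nat_lit 0x1d02f35c0a364db), (nat_lit 0)⟩))
 (.n (.l ⟨(nat_lit 0xe0000d), (nat_lit 0x16c171dc09), (nat_lit 0x88d3302a375243cc0200806), (nat_lit 0)⟩)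
 (.l ⟨(nat_lit 0xc0000f), (nat_lit 0x381202801), (nat_lit 0x1c0747902001004db434e6), (nat_lit 0)⟩)))
 (.n (.n (.l ⟨(nat_lit 0xa0000b), (nat_lit 1), (nat_lit 0x3b10541c0200801), (nat_lit 0)⟩)
 (.l ⟨(nat_lit 0xc0000d), (nat_lit 0), (nat_lit 0x41d2a3900200802), (nat_lit 0)⟩))
 (.l ⟨(nat_lit 0x200002), (nat_lit 0x340a0480904c1205801), (nat_lit 0), (nat_lit 0)⟩))))
 (.n (.n (.n (.n (.l ⟨(nat_lit 0x120000f), (nat_lit 5133), (nat_lit 0), (nat_lit 0)⟩)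
 (.l ⟨(nat_lit 0x200007), (nat_lit 1025), (nat_lit 0xc00401), (nat_lit 0)⟩))
 (.n (.l ⟨(nat_lit 0xe0000b), (nat_lit 0x2348a29009), (nat_lit 0xe94091800802), (nat_lit 0)⟩)
 (.l ⟨(nat_lit 0xc0000f), (nat_lit 0x130340b), (nat_lit 0xd834c440240100524450f6), (nat_lit 0)⟩)))
 (.n (.n (.l ⟨(nat_lit 0xa0000a), (nat_lit 0x9a2e09d), (nat_lit 0), (nat_lit 0)⟩)
 (.l ⟨(nat_lit 0x60000b), (nat_lit 12310), (nat_lit 0x1401004e63c12b), (nat_lit 0)⟩))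
 (.n (.l ⟨(nat_lit 0x1200012), (nat_lit 141337), (nat_lit 0), (nat_lit 0)⟩)
 (.l ⟨(nat_lit 0x1200012), (nat_lit 0x15030080581604c0d), (nat_lit 0), (nat_lit 0)⟩))))
 (.n (.n (.n (.l ⟨(nat_lit 0x600006), (nat_lit 3082), (nat_lit 0), (nat_lit 0)⟩)
 (.l ⟨(nat_lit 0xa0000a), (nat_lit 0x14028130440705008), (nat_lit 0), (nat_lit 0)⟩))
 (.n (.l ⟨(nat_lit 0xe0000f), (nat_lit 0x1684416803), (nat_lit 0x334b500809391264180200806), (nat_lit 0)⟩)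
 (.l ⟨(nat_lit 0xe0000f), (nat_lit 9233), (nat_lit 0xdf454e600802018df36cdb), (nat_lit 0)⟩)))
 (.n (.n (.l ⟨(nat_lit 0xc0000b), (nat_lit 0x33c831c005), (nat_lit 0x1e85f04c1c), (nat_lit 0)⟩)
 (.l ⟨(nat_lit 0xc0000d), (nat_lit 0x405008), (nat_lit 0x3a2b054010d942cf10080201901470f2), (nat_lit 0)⟩))
 (.l ⟨(nat_lit 0x600003), (nat_lit 8), (nat_lit 0x4c61108ab), (nat_lit 0)⟩)))))
 (.n (.n (.n (.n (.n (.l ⟨(nat_lit 0xa00003), (nat_lit 18), (nat_lit 0), (nat_lit 0)⟩)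
 (.l ⟨(nat_lit 0xe00005), (nat_lit 7), (nat_lit 0), (nat_lit 0)⟩))
 (.n (.l ⟨(nat_lit 0xe00007), (nat_lit 0x102009), (nat_lit 0x2707e1d05a), (nat_lit 0)⟩)
 (.l ⟨(nat_lit 0xa0000f), (nat_lit 2), (nat_lit 0x581444209c01005183bd02), (nat_lit 0)⟩)))
 (.n (.n (.l ⟨(nat_lit 0x600007), (nat_lit 0x92600b), (nat_lit 0x1d02f35c0a), (nat_lit 0)⟩)
 (.l ⟨(nat_lit 0xe0000b), (nat_lit 0x281503401), (nat_lit 0xec43d2b00802008db43913), (nat_lit 0)⟩))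
 (.n (.l ⟨(nat_lit 0x1000011), (nat_lit 1), (nat_lit 0x3b4f94900200801), (nat_lit 0)⟩)
 (.l ⟨(nat_lit 0xe00011), (nat_lit 0x1202c01), (nat_lit 0xd60ec8305c01004f943d1b), (nat_lit 0)⟩))))
 (.n (.n (.n (.l ⟨(nat_lit 0x600006), (nat_lit 0x3074af), (nat_lit 0), (nat_lit 0)⟩)
 (.l ⟨(nat_lit 0x600007), (nat_lit 0xd02807), (nat_lit 0x13184422ace741d0500802018e33d0f9), (nat_lit 0)⟩))
 (.n (.l ⟨(nat_lit 0xe0000f), (nat_lit 0x238601e423), (nat_lit 0x2234cc0a90148cfc00802), (nat_lit 0)⟩)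
 (.l ⟨(nat_lit 0xe0000f), (nat_lit 0x341504c01), (nat_lit 0x7d2406904801004da46cf5), (nat_lit 0)⟩)))
 (.n (.n (.l ⟨(nat_lit 0xc0000c), (nat_lit 0xba074b9), (nat_lit 0), (nat_lit 0)⟩)
 (.l ⟨(nat_lit 0xe0000d), (nat_lit 22529), (nat_lit 0x2234cc0a8dd490f300802018e9370fc), (nat_lit 0)⟩))
 (.l ⟨(nat_lit 0x200003), (nat_lit 0), (nat_lit 1), (nat_lit 0)⟩))))
 (.n (.n (.n (.n (.l ⟨(nat_lit 0x200003), (nat_lit 0), (nat_lit 1), (nat_lit 0)⟩)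
 (.l ⟨(nat_lit 0xa00007), (nat_lit 5), (nat_lit 0x36d013840200806), (nat_lit 0)⟩))
 (.n (.l ⟨(nat_lit 0xe0000d), (nat_lit 0x29c1619432), (nat_lit 0x2707e1d05a418e54580200802), (nat_lit 0)⟩)
 (.l ⟨(nat_lit 0xe0000f), (nat_lit 0xb04c13), (nat_lit 0xbf1c0c803001004fb420e2), (nat_lit 0)⟩)))
 (.n (.n (.l ⟨(nat_lit 0xa0000a), (nat_lit 0x209106003), (nat_lit 0), (nat_lit 0)⟩)
 (.l ⟨(nat_lit 0x20000d), (nat_lit 1025), (nat_lit 0x200900401), (nat_lit 0)⟩))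
 (.l ⟨(nat_lit 0x1200012), (nat_lit 0x264551386b), (nat_lit 0), (nat_lit 0)⟩)))
 (.n (.n (.n (.l ⟨(nat_lit 0x800008), (nat_lit 0xb7064b8), (nat_lit 0), (nat_lit 0)⟩)
 (.l ⟨(nat_lit 0x60000b), (nat_lit 11265), (nat_lit 0x100c1703401004fe3b0f5), (nat_lit 0)⟩))
 (.n (.l ⟨(nat_lit 0x100000b), (nat_lit 0x280109001), (nat_lit 0x390e140c0200806), (nat_lit 0)⟩)
 (.l ⟨(nat_lit 0x120000f), (nat_lit 9224), (nat_lit 0), (nat_lit 0)⟩)))
 (.n (.n (.l ⟨(nat_lit 0xc0000d), (nat_lit 0), (nat_lit 0x41d2a3900200802), (nat_lit 0)⟩)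
 (.l ⟨(nat_lit 0xe0000e), (nat_lit 0x1012038040500a03401), (nat_lit 0), (nat_lit 0)⟩))
 (.l ⟨(nat_lit 0x600003), (nat_lit 10241), (nat_lit 0x9004dc), (nat_lit 0)⟩))))))
 (.n (.n (.n (.n (.n (.n (.l ⟨(nat_lit 0x600003), (nat_lit 12), (nat_lit 0), (nat_lit 0)⟩)
 (.l ⟨(nat_lit 0x600005), (nat_lit 1), (nat_lit 0x200801), (nat_lit 0)⟩))
 (.n (.l ⟨(nat_lit 0xe00007), (nat_lit 2053), (nat_lit 0x344320e831), (nat_lit 0)⟩)
 (.l ⟨(nat_lit 0x60000f), (nat_lit 0x1201c15), (nat_lit 0x40802401004db39113), (nat_lit 0)⟩)))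
 (.n (.n (.l ⟨(nat_lit 0x200007), (nat_lit 0x2a0151b407), (nat_lit 0x800401), (nat_lit 0)⟩)
 (.l ⟨(nat_lit 0xc0000b), (nat_lit 0x302c01), (nat_lit 0x3f1093bc0200806), (nat_lit 0)⟩))
 (.n (.l ⟨(nat_lit 0x100000f), (nat_lit 0xf0aa10c26), (nat_lit 0x11b3a10800802), (nat_lit 0)⟩)
 (.l ⟨(nat_lit 0xe00011), (nat_lit 0x581402801), (nat_lit 0x7d050b70e801004f238d1e), (nat_lit 0)⟩))))
 (.n (.n (.n (.l ⟨(nat_lit 0x400003), (nat_lit 2053), (nat_lit 0xd900802), (nat_lit 0)⟩)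
 (.l ⟨(nat_lit 0x200007), (nat_lit 0xc05801), (nat_lit 0x2001004da410de), (nat_lit 0)⟩))
 (.n (.l ⟨(nat_lit 0xe0000f), (nat_lit 3077), (nat_lit 0x388f14000200806), (nat_lit 0)⟩)
 (.l ⟨(nat_lit 0x100000f), (nat_lit 0x904408), (nat_lit 0xe83a92100802018dc4691a), (nat_lit 0)⟩)))
 (.n (.n (.l ⟨(nat_lit 0xa0000b), (nat_lit 0xecd00cc1c), (nat_lit 0x30c1523401), (nat_lit 0)⟩)
 (.l ⟨(nat_lit 0xc0000d), (nat_lit 1), (nat_lit 0x3ecea4300200801), (nat_lit 0)⟩))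
 (.l ⟨(nat_lit 0x200002), (nat_lit 0x240e02c130340305807), (nat_lit 0), (nat_lit 0)⟩))))
 (.n (.n (.n (.n (.l ⟨(nat_lit 0x200002), (nat_lit 24), (nat_lit 0), (nat_lit 0)⟩)
 (.l ⟨(nat_lit 0x600007), (nat_lit 0), (nat_lit 0xee440ed00802), (nat_lit 0)⟩))
 (.n (.l ⟨(nat_lit 0xe0000b), (nat_lit 0x1a85534403), (nat_lit 0x82130c8), (nat_lit 0)⟩)
 (.l ⟨(nat_lit 0xe0000f), (nat_lit 0x1301005), (nat_lit 0xcd2d402024e44990600802019193711c), (nat_lit 0)⟩)))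
 (.n (.n (.l ⟨(nat_lit 0xa0000a), (nat_lit 0x1e40318412), (nat_lit 0), (nat_lit 0)⟩)
 (.l ⟨(nat_lit 0xc0000c), (nat_lit 0x3048130340a02807), (nat_lit 0), (nat_lit 0)⟩))
 (.n (.l ⟨(nat_lit 0x1200012), (nat_lit 0xc8d00809), (nat_lit 0), (nat_lit 0)⟩)
 (.l ⟨(nat_lit 0xe00013), (nat_lit 1025), (nat_lit 0x140d00401), (nat_lit 0)⟩))))
 (.n (.n (.n (.l ⟨(nat_lit 0x600007), (nat_lit 0), (nat_lit 0xee440ed00802), (nat_lit 0)⟩)
 (.l ⟨(nat_lit 0x40000b), (nat_lit 0x301503401), (nat_lit 0x1401004db43913), (nat_lit 0)⟩))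
 (.n (.l ⟨(nat_lit 0x1000010), (nat_lit 0x42f019), (nat_lit 0), (nat_lit 0)⟩)
 (.l ⟨(nat_lit 0xe0000f), (nat_lit 0x580c03807), (nat_lit 0x6607c8003525454e2), (nat_lit 0)⟩)))
 (.n (.n (.l ⟨(nat_lit 0xc0000c), (nat_lit 0x2901117001), (nat_lit 0), (nat_lit 0)⟩)
 (.l ⟨(nat_lit 0xe0000d), (nat_lit 0x4c1304c01), (nat_lit 0x9c1f874168da3f0ec00802018ea3f51c), (nat_lit 0)⟩))
 (.l ⟨(nat_lit 0x600003), (nat_lit 12), (nat_lit 0), (nat_lit 0)⟩)))))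
 (.n (.n (.n (.n (.n (.l ⟨(nat_lit 0xe00005), (nat_lit 7), (nat_lit 0), (nat_lit 0)⟩)
 (.l ⟨(nat_lit 0x600006), (nat_lit 0xd04c15004070580d), (nat_lit 0), (nat_lit 0)⟩))
 (.n (.l ⟨(nat_lit 0xe0000e), (nat_lit 0x2ac0d32c09), (nat_lit 0), (nat_lit 0)⟩)
 (.l ⟨(nat_lit 0xa0000f), (nat_lit 12296), (nat_lit 0xad084ce18001004fc484de), (nat_lit 0)⟩)))
 (.n (.n (.l ⟨(nat_lit 0xa0000a), (nat_lit 0x32a803), (nat_lit 0), (nat_lit 0)⟩)
 (.l ⟨(nat_lit 0xc0000b), (nat_lit 0x340c04c05), (nat_lit 0x7a17c13070e53e4eb), (nat_lit 0)⟩))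
 (.n (.l ⟨(nat_lit 0x1200012), (nat_lit 0xae35cb1), (nat_lit 0), (nat_lit 0)⟩)
 (.l ⟨(nat_lit 0x1000011), (nat_lit 0x804c09), (nat_lit 0xfd3d51300802018e74351a), (nat_lit 0)⟩))))
 (.n (.n (.n (.l ⟨(nat_lit 0x600003), (nat_lit 0x100405), (nat_lit 9217), (nat_lit 0)⟩)
 (.l ⟨(nat_lit 0xa0000a), (nat_lit 0x8058090241401411), (nat_lit 0), (nat_lit 0)⟩))
 (.n (.l ⟨(nat_lit 0xe0000f), (nat_lit 0x19cd11cc0b), (nat_lit 0x2707e1d05a434f53b40200806), (nat_lit 0)⟩)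
 (.l ⟨(nat_lit 0xa0000f), (nat_lit 0x1601011), (nat_lit 0xb71e8b40f401004ef364e2), (nat_lit 0)⟩)))
 (.n (.n (.l ⟨(nat_lit 0xc00007), (nat_lit 0x2404b1a405), (nat_lit 0xe8ac15004), (nat_lit 0)⟩)
 (.l ⟨(nat_lit 0xe0000d), (nat_lit 0x1400809), (nat_lit 0x2707e1d05a4051d3ac02008db3f4f3), (nat_lit 0)⟩))
 (.l ⟨(nat_lit 0x200003), (nat_lit 1), (nat_lit 0x200801), (nat_lit 0)⟩))))
 (.n (.n (.n (.n (.l ⟨(nat_lit 0x400004), (nat_lit 0xb4060bb), (nat_lit 0), (nat_lit 0)⟩)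
 (.l ⟨(nat_lit 0xe00007), (nat_lit 0x505801), (nat_lit 0x2707e1d05a380e6), (nat_lit 0)⟩))
 (.n (.l ⟨(nat_lit 0xe0000d), (nat_lit 0x360d311009), (nat_lit 0x2707e1d05a368fc3b00200806), (nat_lit 0)⟩)
 (.l ⟨(nat_lit 0xe0000f), (nat_lit 0x1105801), (nat_lit 0x1106134001004e3460e6), (nat_lit 0)⟩)))
 (.n (.n (.l ⟨(nat_lit 0xa00007), (nat_lit 0x40305c0d), (nat_lit 0x3950f4a00200806), (nat_lit 0)⟩)
 (.l ⟨(nat_lit 0xa0000d), (nat_lit 0x1404805), (nat_lit 0x9701401004dc3c50a), (nat_lit 0)⟩))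
 (.l ⟨(nat_lit 0x1200012), (nat_lit 0x14c7211c04), (nat_lit 0), (nat_lit 0)⟩)))
 (.n (.n (.n (.l ⟨(nat_lit 0x800008), (nat_lit 0x2507d1e84d), (nat_lit 0), (nat_lit 0)⟩)
 (.l ⟨(nat_lit 0xe0000b), (nat_lit 0x81604c01), (nat_lit 0xcd2d402024ed484e5), (nat_lit 0)⟩))
 (.n (.l ⟨(nat_lit 0x100000b), (nat_lit 0x1403097), (nat_lit 0x12a3840200806), (nat_lit 0)⟩)
 (.l ⟨(nat_lit 0x1000010), (nat_lit 0x2c08058110580705405), (nat_lit 0), (nat_lit 0)⟩)))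
 (.n (.n (.l ⟨(nat_lit 0xc0000d), (nat_lit 0xb40433007), (nat_lit 0xe8ac150043b8f736c0200806), (nat_lit 0)⟩)
 (.l ⟨(nat_lit 0xe0000e), (nat_lit 0x3013058080200401c12), (nat_lit 0), (nat_lit 0)⟩))
 (.l ⟨(nat_lit 0x400004), (nat_lit 0x5008058130200b01c01), (nat_lit 0), (nat_lit 0)⟩)))))))
noncomputable def T : Tr :=
  T0
noncomputable def C : Cf :=
  ⟨false, [1, 1], [0, 0], 132, 216, 84,
  [(false, [], []),
  (false, [0, 0], [[1, 1], []]),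
  (true, [], [[]]),
  (true, [0, 0, 1], [[0, 0, 1, 1], [0, 1, 1]]),
  (true, [0, 0], [[0, 0, 0, 1, 1], [1, 1, 1]]),
  (true, [0, 0, 5], [[0, 0, 5, 1, 1], [5, 1, 1]]),
  (true, [0, 0, 0], [[0, 0, 1, 1, 1], [1, 1]]),
  (true, [0, 0], [[0, 0, 1, 1], [0, 0, 1, 1], [0, 0, 1, 1], [1, 1]])],
  T, CL.HNS.chk⟩
noncomputable def R0 : List (List ℕ) :=
  [[0],
  [],
  [],
  [],
  [],
  [],
  [],
  [],
  [],
  [],
  [(nat_lit 1), (nat_lit 0x85000007), 0, (nat_lit 5)],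
  [(nat_lit 1), (nat_lit 0x87000007), 0, (nat_lit 5)],
  [(nat_lit 3), (nat_lit 7), 0, (nat_lit 5)],
  [(nat_lit 4), (nat_lit 7), 0, (nat_lit 5)],
  [(nat_lit 5), (nat_lit 7), 0, (nat_lit 5)],
  [(nat_lit 1), (nat_lit 0xb421cbb00000b), (nat_lit 41), (nat_lit 45), (nat_lit 45), (nat_lit 41), (nat_lit 41), (nat_lit 41), (nat_lit 47), (nat_lit 43), (nat_lit 45), (nat_lit 41), (nat_lit 41), (nat_lit 47), (nat_lit 43), (nat_lit 9)],
  [(nat_lit 1), (nat_lit 0x8a3588f00000b), (nat_lit 43), (nat_lit 45), (nat_lit 45), (nat_lit 45), (nat_lit 41), (nat_lit 47), (nat_lit 43), (nat_lit 43), (nat_lit 45), (nat_lit 43), (nat_lit 47), (nat_lit 41), (nat_lit 41), (nat_lit 9)],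
  [(nat_lit 5), (nat_lit 49), (nat_lit 0x85000009)],
  [(nat_lit 1), (nat_lit 0x86000047), (nat_lit 9)],
  [(nat_lit 6), (nat_lit 57), (nat_lit 0x85000009)],
  [(nat_lit 1), (nat_lit 0x8600004f), (nat_lit 9)],
  [(nat_lit 1), (nat_lit 0x862c8ae00000f), (nat_lit 47), (nat_lit 47), (nat_lit 41), (nat_lit 45), (nat_lit 43), (nat_lit 47), (nat_lit 47), (nat_lit 43), (nat_lit 43), (nat_lit 45), (nat_lit 13)],
  [(nat_lit 1), (nat_lit 0x9c2d8cd00000f), (nat_lit 43), (nat_lit 43), (nat_lit 45), (nat_lit 43), (nat_lit 43), (nat_lit 47), (nat_lit 43), (nat_lit 45), (nat_lit 45), (nat_lit 41), (nat_lit 45), (nat_lit 45), (nat_lit 13)],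
  [(nat_lit 5), (nat_lit 53), (nat_lit 0x8500000d)],
  [(nat_lit 3), (nat_lit 57), (nat_lit 93)],
  [(nat_lit 1), (nat_lit 0x86000063), (nat_lit 13)],
  [(nat_lit 3), (nat_lit 11), (nat_lit 13)],
  [(nat_lit 7), (nat_lit 15), (nat_lit 9), (nat_lit 67), (nat_lit 61), (nat_lit 65), (nat_lit 63), (nat_lit 67), (nat_lit 63), (nat_lit 67), (nat_lit 81), (nat_lit 0x9a2f09900000b), (nat_lit 0x9a2f09900000d)],
  [(nat_lit 1), (nat_lit 0x912a8a8000013), (nat_lit 43), (nat_lit 47), (nat_lit 47), (nat_lit 43), (nat_lit 45), (nat_lit 45), (nat_lit 41), (nat_lit 41), (nat_lit 47), (nat_lit 41), (nat_lit 41), (nat_lit 45), (nat_lit 17)],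
  [(nat_lit 1), (nat_lit 0x218a0234ba000013), (nat_lit 41), (nat_lit 47), (nat_lit 47), (nat_lit 43), (nat_lit 47), (nat_lit 47), (nat_lit 43), (nat_lit 45), (nat_lit 41), (nat_lit 41), (nat_lit 47), (nat_lit 41), (nat_lit 17)],
  [(nat_lit 5), (nat_lit 0x85000039), (nat_lit 43), (nat_lit 43), (nat_lit 47), (nat_lit 47), (nat_lit 41), (nat_lit 41), (nat_lit 47), (nat_lit 47), (nat_lit 43), (nat_lit 45), (nat_lit 45), (nat_lit 41), (nat_lit 47), (nat_lit 47), (nat_lit 0x922c0ae000011)],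
  [(nat_lit 0x3a8db3dc01), (nat_lit 0x8500007b), (nat_lit 43), (nat_lit 43), (nat_lit 47), (nat_lit 47), (nat_lit 41), (nat_lit 41), (nat_lit 47), (nat_lit 47), (nat_lit 43), (nat_lit 45), (nat_lit 45), (nat_lit 41), (nat_lit 47), (nat_lit 47), (nat_lit 0x9621ca3000011)],
  [(nat_lit 5), (nat_lit 0x21c8700000b), (nat_lit 45), (nat_lit 41), (nat_lit 41), (nat_lit 47), (nat_lit 43), (nat_lit 45), (nat_lit 41), (nat_lit 45), (nat_lit 43), (nat_lit 43), (nat_lit 47), (nat_lit 41), (nat_lit 41), (nat_lit 0xad28885000011)],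
  [(nat_lit 0x100c090040138cf43e401), (nat_lit 0x8b2ecb5000081), (nat_lit 117), (nat_lit 115), (nat_lit 115), (nat_lit 117), (nat_lit 125), (nat_lit 117), (nat_lit 115), (nat_lit 117), (nat_lit 125), (nat_lit 0x8f280a5000083)],
  [(nat_lit 0x802004e741801), (nat_lit 0x8f280a5000083), (nat_lit 67), (nat_lit 73), (nat_lit 81), (nat_lit 135), (nat_lit 61), (nat_lit 61), (nat_lit 67), (nat_lit 63), (nat_lit 135), (nat_lit 0x24cb2000069)],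
  [(nat_lit 2), (nat_lit 139), (nat_lit 19)],
  [(nat_lit 5), (nat_lit 0x21c8700000f), (nat_lit 45), (nat_lit 43), (nat_lit 47), (nat_lit 47), (nat_lit 41), (nat_lit 45), (nat_lit 45), (nat_lit 41), (nat_lit 45), (nat_lit 45), (nat_lit 43), (nat_lit 43), (nat_lit 0x932ccb1000011), (nat_lit 137)],
  [(nat_lit 5), (nat_lit 0x8800005f), (nat_lit 45), (nat_lit 45), (nat_lit 43), (nat_lit 43), (nat_lit 47), (nat_lit 43), (nat_lit 43), (nat_lit 45), (nat_lit 41), (nat_lit 41), (nat_lit 0x88284b3000011), (nat_lit 137)],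
  [(nat_lit 2), (nat_lit 17), (nat_lit 137)],
  [(nat_lit 1), (nat_lit 0x852a885000017), (nat_lit 41), (nat_lit 45), (nat_lit 41), (nat_lit 47), (nat_lit 43), (nat_lit 47), (nat_lit 41), (nat_lit 45), (nat_lit 41), (nat_lit 47), (nat_lit 47), (nat_lit 21)],
  [(nat_lit 1), (nat_lit 0x8a2589d000017), (nat_lit 45), (nat_lit 45), (nat_lit 45), (nat_lit 41), (nat_lit 47), (nat_lit 43), (nat_lit 45), (nat_lit 43), (nat_lit 47), (nat_lit 47), (nat_lit 41), (nat_lit 41), (nat_lit 21)],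
  [(nat_lit 1), (nat_lit 0x9a2e09d000017), (nat_lit 47), (nat_lit 43), (nat_lit 43), (nat_lit 47), (nat_lit 43), (nat_lit 43), (nat_lit 45), (nat_lit 45), (nat_lit 41), (nat_lit 45), (nat_lit 45), (nat_lit 45), (nat_lit 21)],
  [(nat_lit 5), (nat_lit 0x2148c000039), (nat_lit 41), (nat_lit 45), (nat_lit 41), (nat_lit 41), (nat_lit 45), (nat_lit 43), (nat_lit 47), (nat_lit 41), (nat_lit 45), (nat_lit 41), (nat_lit 47), (nat_lit 41), (nat_lit 0x89244bd000015)],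
  [(nat_lit 0x448db3e001), (nat_lit 0x22c870000ab), (nat_lit 41), (nat_lit 45), (nat_lit 41), (nat_lit 41), (nat_lit 45), (nat_lit 43), (nat_lit 47), (nat_lit 41), (nat_lit 45), (nat_lit 41), (nat_lit 47), (nat_lit 41), (nat_lit 0xbe21ca4000015)],
  [(nat_lit 5), (nat_lit 11), (nat_lit 45), (nat_lit 41), (nat_lit 45), (nat_lit 45), (nat_lit 43), (nat_lit 47), (nat_lit 41), (nat_lit 45), (nat_lit 45), (nat_lit 43), (nat_lit 43), (nat_lit 0xc5234d0000015)],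
  [(nat_lit 0x581444209c01), (nat_lit 0x983409d0000b3), (nat_lit 61), (nat_lit 67), (nat_lit 67), (nat_lit 81), (nat_lit 133), (nat_lit 61), (nat_lit 67), (nat_lit 61), (nat_lit 177)],
  [(nat_lit 5), (nat_lit 15), (nat_lit 41), (nat_lit 41), (nat_lit 47), (nat_lit 47), (nat_lit 43), (nat_lit 45), (nat_lit 45), (nat_lit 45), (nat_lit 41), (nat_lit 47), (nat_lit 47), (nat_lit 43), (nat_lit 47), (nat_lit 0x872b48d000015)],
  [(nat_lit 5), (nat_lit 0x8f00005f), (nat_lit 43), (nat_lit 43), (nat_lit 45), (nat_lit 45), (nat_lit 43), (nat_lit 47), (nat_lit 43), (nat_lit 45), (nat_lit 43), (nat_lit 43), (nat_lit 45), (nat_lit 41), (nat_lit 47), (nat_lit 0x912ecd4000015)],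
  [(nat_lit 6), (nat_lit 141), (nat_lit 41), (nat_lit 45), (nat_lit 43), (nat_lit 43), (nat_lit 47), (nat_lit 41), (nat_lit 41), (nat_lit 47), (nat_lit 41), (nat_lit 41), (nat_lit 45), (nat_lit 43), (nat_lit 47), (nat_lit 0x95334c6000015)],
  [(nat_lit 3), (nat_lit 23), (nat_lit 41), (nat_lit 41), (nat_lit 45), (nat_lit 43), (nat_lit 47), (nat_lit 43), (nat_lit 45), (nat_lit 41), (nat_lit 47), (nat_lit 47), (nat_lit 43), (nat_lit 45), (nat_lit 41), (nat_lit 45), (nat_lit 0x982c4b3000015)],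
  [(nat_lit 3), (nat_lit 179), (nat_lit 61), (nat_lit 67), (nat_lit 61), (nat_lit 61), (nat_lit 65), (nat_lit 65), (nat_lit 63), (nat_lit 81), (nat_lit 0x96324b00000b1)],
  [(nat_lit 5), (nat_lit 0x2148c0000b3), (nat_lit 61), (nat_lit 67), (nat_lit 61), (nat_lit 73), (nat_lit 133), (nat_lit 133), (nat_lit 63), (nat_lit 65), (nat_lit 0x87318c30000b1)],
  [(nat_lit 1), (nat_lit 0x96290ba00001b), (nat_lit 45), (nat_lit 45), (nat_lit 41), (nat_lit 45), (nat_lit 45), (nat_lit 45), (nat_lit 43), (nat_lit 43), (nat_lit 47), (nat_lit 43), (nat_lit 45), (nat_lit 41), (nat_lit 41), (nat_lit 45), (nat_lit 25)],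
  [(nat_lit 1), (nat_lit 0x2149c23cca00001b), (nat_lit 41), (nat_lit 47), (nat_lit 43), (nat_lit 45), (nat_lit 45), (nat_lit 45), (nat_lit 41), (nat_lit 45), (nat_lit 43), (nat_lit 25)],
  [(nat_lit 1), (nat_lit 0xa8328d100001b), (nat_lit 45), (nat_lit 45), (nat_lit 45), (nat_lit 43), (nat_lit 43), (nat_lit 45), (nat_lit 43), (nat_lit 47), (nat_lit 41), (nat_lit 41), (nat_lit 47), (nat_lit 25)],
  [(nat_lit 5), (nat_lit 0x8500008d), (nat_lit 43), (nat_lit 45), (nat_lit 41), (nat_lit 41), (nat_lit 47), (nat_lit 41), (nat_lit 45), (nat_lit 41), (nat_lit 41), (nat_lit 47), (nat_lit 47), (nat_lit 41), (nat_lit 0x2148a32c96000019)],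
  [(nat_lit 5), (nat_lit 0x97000017), (nat_lit 41), (nat_lit 45), (nat_lit 45), (nat_lit 43), (nat_lit 43), (nat_lit 47), (nat_lit 43), (nat_lit 45), (nat_lit 41), (nat_lit 41), (nat_lit 41), (nat_lit 45), (nat_lit 45), (nat_lit 45), (nat_lit 0xa82d49b000019)],
  [(nat_lit 5), (nat_lit 0xa5264be0000bf), (nat_lit 87), (nat_lit 91), (nat_lit 85), (nat_lit 91), (nat_lit 85), (nat_lit 101), (nat_lit 0x8e228cd0000dd)],
  [(nat_lit 3), (nat_lit 0xa73288d0000cd), (nat_lit 157), (nat_lit 163), (nat_lit 167), (nat_lit 0xbb2848f0000e5)],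
  [(nat_lit 0x3f1093bc02008063e0e63cc01), (nat_lit 0x870000eb), (nat_lit 159), (nat_lit 163), (nat_lit 173), (nat_lit 181), (nat_lit 161), (nat_lit 181), (nat_lit 0xa42489f0000e1)],
  [(nat_lit 3), (nat_lit 27), (nat_lit 45), (nat_lit 45), (nat_lit 43), (nat_lit 47), (nat_lit 43), (nat_lit 45), (nat_lit 41), (nat_lit 41), (nat_lit 0xa7258b8000019)],
  [(nat_lit 4), (nat_lit 27), (nat_lit 41), (nat_lit 47), (nat_lit 43), (nat_lit 47), (nat_lit 47), (nat_lit 41), (nat_lit 45), (nat_lit 43), (nat_lit 47), (nat_lit 43), (nat_lit 45), (nat_lit 43), (nat_lit 0xb335890000019)],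
  [(nat_lit 3), (nat_lit 0x882e8c40000df), (nat_lit 89), (nat_lit 87), (nat_lit 101), (nat_lit 87), (nat_lit 89), (nat_lit 101), (nat_lit 85), (nat_lit 0x9b21c980000dd)],
  [(nat_lit 5), (nat_lit 0x2fc8d0000df), (nat_lit 87), (nat_lit 91), (nat_lit 85), (nat_lit 101), (nat_lit 85), (nat_lit 91), (nat_lit 87), (nat_lit 0x9a28c870000dd)],
  [(nat_lit 5), (nat_lit 0x85230c50000df), (nat_lit 89), (nat_lit 85), (nat_lit 91), (nat_lit 85), (nat_lit 85), (nat_lit 101), (nat_lit 85), (nat_lit 0x852dc9d0000dd)],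
  [(nat_lit 1), (nat_lit 0x2c49c00001f), (nat_lit 63), (nat_lit 63), (nat_lit 67), (nat_lit 61), (nat_lit 65), (nat_lit 133), (nat_lit 29)],
  [(nat_lit 1), (nat_lit 0xcc2a4bc00001f), (nat_lit 65), (nat_lit 61), (nat_lit 67), (nat_lit 67), (nat_lit 63), (nat_lit 81), (nat_lit 135), (nat_lit 29)],
  [(nat_lit 5), (nat_lit 107), (nat_lit 63), (nat_lit 63), (nat_lit 65), (nat_lit 73), (nat_lit 81), (nat_lit 133), (nat_lit 65), (nat_lit 61), (nat_lit 0x952b8c400001d)],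
  [(nat_lit 3), (nat_lit 0x21487000095), (nat_lit 87), (nat_lit 89), (nat_lit 101), (nat_lit 91), (nat_lit 87), (nat_lit 89), (nat_lit 0xc4304a700010d)],
  [(nat_lit 5), (nat_lit 0x21487000095), (nat_lit 85), (nat_lit 91), (nat_lit 85), (nat_lit 85), (nat_lit 101), (nat_lit 91), (nat_lit 87), (nat_lit 89), (nat_lit 0x9731ca4000111)],
  [(nat_lit 5), (nat_lit 0x8f280a5000091), (nat_lit 85), (nat_lit 85), (nat_lit 91), (nat_lit 85), (nat_lit 0xca30c94000115)],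
  [(nat_lit 0x2707e1d05a3f90d44c01), (nat_lit 0x25c8f00011b), (nat_lit 87), (nat_lit 91), (nat_lit 101), (nat_lit 91), (nat_lit 87), (nat_lit 87), (nat_lit 89), (nat_lit 0xaa2e4bf000115)],
  [(nat_lit 4), (nat_lit 179), (nat_lit 65), (nat_lit 65), (nat_lit 73), (nat_lit 81), (nat_lit 135), (nat_lit 61), (nat_lit 65), (nat_lit 0x982ecd700001d)],
  [(nat_lit 6), (nat_lit 179), (nat_lit 63), (nat_lit 63), (nat_lit 65), (nat_lit 73), (nat_lit 81), (nat_lit 133), (nat_lit 65), (nat_lit 61), (nat_lit 0x952b8c400001d)],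
  [(nat_lit 5), (nat_lit 0x970000b3), (nat_lit 61), (nat_lit 61), (nat_lit 67), (nat_lit 81), (nat_lit 133), (nat_lit 133), (nat_lit 63), (nat_lit 0x9634cd700001d)],
  [(nat_lit 5), (nat_lit 0xb63149c0000c3), (nat_lit 101), (nat_lit 89), (nat_lit 101), (nat_lit 87), (nat_lit 101), (nat_lit 0x852908f000115)],
  [(nat_lit 5), (nat_lit 0x2f0940000bf), (nat_lit 85), (nat_lit 101), (nat_lit 91), (nat_lit 85), (nat_lit 101), (nat_lit 87), (nat_lit 0x9d25cb000010d)],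
  [(nat_lit 4), (nat_lit 0x882e8c40000df), (nat_lit 87), (nat_lit 89), (nat_lit 87), (nat_lit 87), (nat_lit 91), (nat_lit 101), (nat_lit 89), (nat_lit 0xb2244c2000115)],
  [(nat_lit 6), (nat_lit 0x882e8c40000df), (nat_lit 89), (nat_lit 101), (nat_lit 91), (nat_lit 101), (nat_lit 87), (nat_lit 101), (nat_lit 91), (nat_lit 85), (nat_lit 0xad32497000115)],
  [(nat_lit 5), (nat_lit 0x922b09f0000df), (nat_lit 85), (nat_lit 89), (nat_lit 87), (nat_lit 87), (nat_lit 89), (nat_lit 85), (nat_lit 0x862a098000115)],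
  [(nat_lit 5), (nat_lit 0x91274900000df), (nat_lit 101), (nat_lit 87), (nat_lit 87), (nat_lit 101), (nat_lit 87), (nat_lit 0xc1254bb000115)],
  [(nat_lit 5), (nat_lit 0x992a4850000df), (nat_lit 87), (nat_lit 89), (nat_lit 101), (nat_lit 91), (nat_lit 87), (nat_lit 89), (nat_lit 0x893409f000111)],
  [(nat_lit 3), (nat_lit 31), (nat_lit 61), (nat_lit 65), (nat_lit 65), (nat_lit 81), (nat_lit 133), (nat_lit 67), (nat_lit 61), (nat_lit 65), (nat_lit 0xc7264c100001d)],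
  [(nat_lit 5), (nat_lit 0x8500001f), (nat_lit 67), (nat_lit 61), (nat_lit 73), (nat_lit 81), (nat_lit 133), (nat_lit 61), (nat_lit 65), (nat_lit 63), (nat_lit 0x8e274ac00001d)],
  [(nat_lit 5), (nat_lit 0x2148c00001f), (nat_lit 61), (nat_lit 61), (nat_lit 73), (nat_lit 135), (nat_lit 67), (nat_lit 61), (nat_lit 135), (nat_lit 0x8b3049200001d)],
  [(nat_lit 6), (nat_lit 0x8600010f), (nat_lit 91), (nat_lit 85), (nat_lit 89), (nat_lit 101), (nat_lit 87), (nat_lit 0xad33ca8000111)],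
  [(nat_lit 5), (nat_lit 0x8500010f), (nat_lit 0x86000111)],
  [(nat_lit 5), (nat_lit 0x85000113), (nat_lit 91), (nat_lit 101), (nat_lit 91), (nat_lit 101), (nat_lit 85), (nat_lit 89), (nat_lit 0xb928499000115)],
  [(nat_lit 5), (nat_lit 0x852248c000117), (nat_lit 89), (nat_lit 101), (nat_lit 89), (nat_lit 87), (nat_lit 91), (nat_lit 87), (nat_lit 89), (nat_lit 0x9f358c9000115)],
  [(nat_lit 5), (nat_lit 0x872e8bf000123), (nat_lit 157), (nat_lit 161), (nat_lit 167), (nat_lit 161), (nat_lit 0x90348b2000129)],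
  [(nat_lit 5), (nat_lit 0x8e354bb00012b), (nat_lit 161), (nat_lit 161), (nat_lit 165), (nat_lit 163), (nat_lit 0x284b200012d)],
  [(nat_lit 1), (nat_lit 0x2149d2b8be000023), (nat_lit 165), (nat_lit 181), (nat_lit 33)],
  [(nat_lit 1), (nat_lit 0x9329cd7000023), (nat_lit 159), (nat_lit 181), (nat_lit 163), (nat_lit 181), (nat_lit 33)],
  [(nat_lit 5), (nat_lit 0x9e2e09e0000c9), (nat_lit 163), (nat_lit 181), (nat_lit 157), (nat_lit 163), (nat_lit 181), (nat_lit 0x90234af000021)],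
  [(nat_lit 0x3810344c01), (nat_lit 0x22c98000177), (nat_lit 157), (nat_lit 163), (nat_lit 163), (nat_lit 181), (nat_lit 161), (nat_lit 0x8c2bcbf000021)],
  [(nat_lit 5), (nat_lit 0xa73288d0000cd), (nat_lit 161), (nat_lit 157), (nat_lit 173), (nat_lit 181), (nat_lit 161), (nat_lit 0x3588d000021)],
  [(nat_lit 0x38d2243c01), (nat_lit 0x9800017f), (nat_lit 157), (nat_lit 161), (nat_lit 167), (nat_lit 157), (nat_lit 163), (nat_lit 173), (nat_lit 0x8f338bb000021)],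
  [(nat_lit 5), (nat_lit 0x21c980000e3), (nat_lit 157), (nat_lit 167), (nat_lit 0x962b8a0000021)],
  [(nat_lit 5), (nat_lit 0x9e2e09e000127), (nat_lit 161), (nat_lit 161), (nat_lit 157), (nat_lit 181), (nat_lit 157), (nat_lit 181), (nat_lit 0x94258cd000021)],
  [(nat_lit 6), (nat_lit 0x993349100012b), (nat_lit 159), (nat_lit 163), (nat_lit 165), (nat_lit 159), (nat_lit 163), (nat_lit 0xc7250b4000021)],
  [(nat_lit 5), (nat_lit 0xa52e4a800012b), (nat_lit 159), (nat_lit 163), (nat_lit 173), (nat_lit 181), (nat_lit 159), (nat_lit 181), (nat_lit 0x214aa234c5000021)],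
  [(nat_lit 3), (nat_lit 35), (nat_lit 161), (nat_lit 157), (nat_lit 165), (nat_lit 163), (nat_lit 181), (nat_lit 0x99294d0000021)],
  [(nat_lit 5), (nat_lit 0x8521c87000023), (nat_lit 159), (nat_lit 167), (nat_lit 157), (nat_lit 173), (nat_lit 0xa9284bf000021)],
  [(nat_lit 1), (nat_lit 0xae35cb1000027), (nat_lit 261), (nat_lit 285), (nat_lit 261), (nat_lit 285), (nat_lit 267), (nat_lit 37)],
  [(nat_lit 1), (nat_lit 0x882808e000027), (nat_lit 261), (nat_lit 265), (nat_lit 287), (nat_lit 265), (nat_lit 287), (nat_lit 37)],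
  [(nat_lit 1), (nat_lit 0x8b2248b000027), (nat_lit 261), (nat_lit 285), (nat_lit 261), (nat_lit 285), (nat_lit 37)],
  [(nat_lit 5), (nat_lit 0x2148c000149), (nat_lit 263), (nat_lit 265), (nat_lit 265), (nat_lit 261), (nat_lit 0x8523487000025)],
  [(nat_lit 1), (nat_lit 427), (nat_lit 37)],
  [(nat_lit 5), (nat_lit 0xc5220c8000165), (nat_lit 263), (nat_lit 265), (nat_lit 265), (nat_lit 261), (nat_lit 0xc6298c5000025)],
  [(nat_lit 0x38ce93d401), (nat_lit 0x850001b3), (nat_lit 267), (nat_lit 285), (nat_lit 261), (nat_lit 267), (nat_lit 0x8f254a1000025)],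
  [(nat_lit 5), (nat_lit 0x8732cb0000163), (nat_lit 261), (nat_lit 265), (nat_lit 285), (nat_lit 0xb234488000025)],
  [(nat_lit 0x3952047001), (nat_lit 0x8e2f49d0001bb), (nat_lit 261), (nat_lit 265), (nat_lit 285), (nat_lit 0x91330c8000025)],
  [(nat_lit 5), (nat_lit 0x97000027), (nat_lit 267), (nat_lit 285), (nat_lit 261), (nat_lit 267), (nat_lit 0x8a29892000025)],
  [(nat_lit 0), (nat_lit 41), (nat_lit 45), (nat_lit 43), (nat_lit 47), (nat_lit 41), (nat_lit 45), (nat_lit 41), (nat_lit 47), (nat_lit 41), (nat_lit 45), (nat_lit 43), (nat_lit 47), (nat_lit 47), (nat_lit 43)],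
  [(nat_lit 0), (nat_lit 43), (nat_lit 47), (nat_lit 41), (nat_lit 45), (nat_lit 41), (nat_lit 41), (nat_lit 47), (nat_lit 41), (nat_lit 45), (nat_lit 41), (nat_lit 47), (nat_lit 41)],
  [(nat_lit 0), (nat_lit 47), (nat_lit 47), (nat_lit 43), (nat_lit 43), (nat_lit 47), (nat_lit 43), (nat_lit 43), (nat_lit 45), (nat_lit 41), (nat_lit 41), (nat_lit 47), (nat_lit 41)],
  [(nat_lit 2), (nat_lit 7)],
  [(nat_lit 2), (nat_lit 53)],
  [(nat_lit 2), (nat_lit 55)],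
  [(nat_lit 2), (nat_lit 49)],
  [(nat_lit 2), (nat_lit 57)],
  [(nat_lit 2), (nat_lit 153)],
  [(nat_lit 2), (nat_lit 9)],
  [(nat_lit 2), (nat_lit 13)],
  [(nat_lit 2), (nat_lit 21)],
  [(nat_lit 2), (nat_lit 0x8800005d)],
  [(nat_lit 2), (nat_lit 25)],
  [(nat_lit 0), (nat_lit 67), (nat_lit 63), (nat_lit 65), (nat_lit 65), (nat_lit 65), (nat_lit 73), (nat_lit 135), (nat_lit 63)],
  [(nat_lit 0), (nat_lit 133), (nat_lit 67), (nat_lit 61), (nat_lit 65), (nat_lit 61)],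
  [(nat_lit 0), (nat_lit 65), (nat_lit 65), (nat_lit 73), (nat_lit 81), (nat_lit 133), (nat_lit 63), (nat_lit 67), (nat_lit 135), (nat_lit 61)],
  [(nat_lit 2), (nat_lit 11)],
  [(nat_lit 2), (nat_lit 105)],
  [(nat_lit 2), (nat_lit 177)],
  [(nat_lit 2), (nat_lit 29)],
  [(nat_lit 0), (nat_lit 87), (nat_lit 87), (nat_lit 101), (nat_lit 89), (nat_lit 87), (nat_lit 89)],
  [(nat_lit 0), (nat_lit 85), (nat_lit 91), (nat_lit 101), (nat_lit 85), (nat_lit 101), (nat_lit 85), (nat_lit 85)],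
  [(nat_lit 0), (nat_lit 87), (nat_lit 87), (nat_lit 89), (nat_lit 87), (nat_lit 89), (nat_lit 87), (nat_lit 89)],
  [(nat_lit 2), (nat_lit 15)],
  [(nat_lit 2), (nat_lit 95)],
  [(nat_lit 2), (nat_lit 109)],
  [(nat_lit 2), (nat_lit 107)],
  [(nat_lit 2), (nat_lit 185)],
  [(nat_lit 2), (nat_lit 0xb63149c0000c1)],
  [(nat_lit 2), (nat_lit 0x23092000115)],
  [(nat_lit 2), (nat_lit 0x8600010d)],
  [(nat_lit 2), (nat_lit 0x21487000095)],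
  [(nat_lit 2), (nat_lit 0x882e8c40000dd)],
  [(nat_lit 2), (nat_lit 0x862c08a00008d)],
  [(nat_lit 2), (nat_lit 0x86000111)],
  [(nat_lit 2), (nat_lit 0x8f280a5000091)],
  [(nat_lit 2), (nat_lit 0xa5264be0000bd)],
  [(nat_lit 0), (nat_lit 159), (nat_lit 163), (nat_lit 163), (nat_lit 159), (nat_lit 165), (nat_lit 173), (nat_lit 181)],
  [(nat_lit 0), (nat_lit 163), (nat_lit 167), (nat_lit 161), (nat_lit 157)],
  [(nat_lit 0), (nat_lit 161), (nat_lit 161), (nat_lit 167), (nat_lit 173)],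
  [(nat_lit 2), (nat_lit 23)],
  [(nat_lit 2), (nat_lit 0x872e8bf0000b3)],
  [(nat_lit 2), (nat_lit 0x9223ca10000c3)],
  [(nat_lit 2), (nat_lit 0xaa260a10000bf)],
  [(nat_lit 2), (nat_lit 197)],
  [(nat_lit 2), (nat_lit 0x9933491000129)],
  [(nat_lit 2), (nat_lit 0x9e2e09e000125)],
  [(nat_lit 2), (nat_lit 0x9e2e09e0000c9)],
  [(nat_lit 2), (nat_lit 0xa722cab00012d)],
  [(nat_lit 2), (nat_lit 225)],
  [(nat_lit 2), (nat_lit 33)],
  [(nat_lit 2), (nat_lit 0x872e8bf000121)],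
  [(nat_lit 2), (nat_lit 0xa73288d0000cd)],
  [(nat_lit 2), (nat_lit 0x91294970000e5)],
  [(nat_lit 2), (nat_lit 0x9034899000131)],
  [(nat_lit 2), (nat_lit 0x92270d70000bb)],
  [(nat_lit 0), (nat_lit 209), (nat_lit 239), (nat_lit 217), (nat_lit 217)],
  [(nat_lit 0), (nat_lit 237), (nat_lit 237), (nat_lit 213)],
  [(nat_lit 0), (nat_lit 219), (nat_lit 219), (nat_lit 239)],
  [(nat_lit 2), (nat_lit 27)],
  [(nat_lit 2), (nat_lit 0xbc254c40000df)],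
  [(nat_lit 2), (nat_lit 0x88274b60000e3)],
  [(nat_lit 2), (nat_lit 0x892a4c10000e7)],
  [(nat_lit 2), (nat_lit 245)],
  [(nat_lit 2), (nat_lit 0x93360ce0000f7)],
  [(nat_lit 2), (nat_lit 241)],
  [(nat_lit 2), (nat_lit 0x9c2a8910000fd)],
  [(nat_lit 2), (nat_lit 0x95220a8000145)],
  [(nat_lit 2), (nat_lit 0x8d2e8b8000135)],
  [(nat_lit 2), (nat_lit 0x872a49f000139)],
  [(nat_lit 2), (nat_lit 0x9723ccb000141)],
  [(nat_lit 2), (nat_lit 0xad3209e000101)],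
  [(nat_lit 2), (nat_lit 0x872a49f0000f9)],
  [(nat_lit 2), (nat_lit 0x962a4c800013d)],
  [(nat_lit 2), (nat_lit 0x95274c5000185)],
  [(nat_lit 0), (nat_lit 267), (nat_lit 285), (nat_lit 261)],
  [(nat_lit 0), (nat_lit 265), (nat_lit 261), (nat_lit 265), (nat_lit 263)],
  [(nat_lit 0), (nat_lit 267), (nat_lit 285), (nat_lit 261), (nat_lit 267)],
  [(nat_lit 2), (nat_lit 31)],
  [(nat_lit 2), (nat_lit 0x882f8a000010f)],
  [(nat_lit 2), (nat_lit 0x22494000113)],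
  [(nat_lit 2), (nat_lit 0x87240bf000117)],
  [(nat_lit 2), (nat_lit 0x95240c9000127)],
  [(nat_lit 2), (nat_lit 0xc426cae000123)],
  [(nat_lit 2), (nat_lit 329)],
  [(nat_lit 2), (nat_lit 0xa83348a00012b)],
  [(nat_lit 2), (nat_lit 0xa3328c800012f)],
  [(nat_lit 2), (nat_lit 0xd0300a200013f)],
  [(nat_lit 2), (nat_lit 0x933509d00018d)],
  [(nat_lit 2), (nat_lit 0xc5220c8000165)],
  [(nat_lit 2), (nat_lit 0x350ca00013b)],
  [(nat_lit 2), (nat_lit 0xa72d08e000163)],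
  [(nat_lit 2), (nat_lit 0x963008e000147)],
  [(nat_lit 2), (nat_lit 0x8f3109200015b)],
  [(nat_lit 2), (nat_lit 0x8f2f0b500015d)],
  [(nat_lit 2), (nat_lit 0x872e492000143)],
  [(nat_lit 2), (nat_lit 333)],
  [(nat_lit 2), (nat_lit 0x88318c6000189)],
  [(nat_lit 2), (nat_lit 0xb8234d6000137)],
  [(nat_lit 2), (nat_lit 0x8631ca100016b)],
  [(nat_lit 2), (nat_lit 0x9a288a8000159)],
  [(nat_lit 2), (nat_lit 0x9b2148e000133)],
  [(nat_lit 2), (nat_lit 0x9726c89000169)],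
  [(nat_lit 2), (nat_lit 0x8b21c87000151)],
  [(nat_lit 2), (nat_lit 0xaa344c3000191)],
  [(nat_lit 2), (nat_lit 0xd13048e000161)],
  [(nat_lit 2), (nat_lit 0xad32cb8000155)],
  [(nat_lit 2), (nat_lit 37)],
  [(nat_lit 0), (nat_lit 365), (nat_lit 385), (nat_lit 369), (nat_lit 387), (nat_lit 369), (nat_lit 385), (nat_lit 377), (nat_lit 387)],
  [(nat_lit 0), (nat_lit 369), (nat_lit 385), (nat_lit 385), (nat_lit 385), (nat_lit 377)],
  [(nat_lit 0), (nat_lit 387), (nat_lit 387), (nat_lit 387), (nat_lit 387)],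
  [(nat_lit 2), (nat_lit 35)],
  [(nat_lit 2), (nat_lit 0xb324cc800018f)],
  [(nat_lit 2), (nat_lit 0x9e23cca00018b)],
  [(nat_lit 2), (nat_lit 405)],
  [(nat_lit 2), (nat_lit 0xa52ecc7000193)],
  [(nat_lit 2), (nat_lit 0x8926499000187)],
  [(nat_lit 2), (nat_lit 0x932e4c6000199)],
  [(nat_lit 0), (nat_lit 437), (nat_lit 423), (nat_lit 445), (nat_lit 429), (nat_lit 437)],
  [(nat_lit 0), (nat_lit 413), (nat_lit 417), (nat_lit 439), (nat_lit 417), (nat_lit 447), (nat_lit 431)],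
  [(nat_lit 0), (nat_lit 417), (nat_lit 431), (nat_lit 445), (nat_lit 437), (nat_lit 421), (nat_lit 445)],
  [(nat_lit 2), (nat_lit 39)],
  [(nat_lit 2), (nat_lit 449)]]
noncomputable def pr : List (ℕ × ℕ × List ℕ × List ℕ) :=
  [(2, 2, [2], [3]), (4, 0, [1, 2, 0], [1, 3, 0])]
noncomputable def ex : List (List ℕ) :=
  [[132, 132, 134], [132, 135, 133], [138, 135, 138], [139, 134, 133], [142, 136, 132], [139, 142, 145], [146, 144], [140, 144], [141, 146], [146, 146], [154, 151], [154, 157], [156, 140], [154, 149], [157, 139], [159, 153], [167, 152], [167, 154], [168, 167], [162, 157], [168, 146], [172, 172], [169, 156], [177, 178], [179, 141], [180, 163], [180, 154], [184, 170], [190, 164], [191, 189], [194, 150], [194, 140], [195, 193], [192, 158], [192, 137], [199, 186], [201, 148], [203, 169], [210, 154], [206, 149]]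
noncomputable def M : ℕ :=
  (nat_lit 0x3ef)
noncomputable def o1 : Cov :=
  ⟨1, [113, 114, 115], [0, 1, 2, 1, 2, 0, 1, 0, 2, 1, 0, 2, 1],
  [234, 238, 232, 250, 236, 240, 252, 242, 244, 246, 248], 1408⟩
noncomputable def o2 : Cov :=
  ⟨2, [127, 128, 129], [0, 1, 2, 0, 2, 1, 0, 2, 1, 0, 2, 1, 2, 0],
  [262, 260, 264, 266], 2200⟩
noncomputable def o3 : Cov :=
  ⟨3, [134, 135, 136], [0, 1, 2, 0, 1, 2, 0, 1, 2, 0, 1, 2, 1, 0],
  [278, 280, 274, 276, 286, 294, 282, 298, 296, 288, 290, 292, 300, 284], 35200⟩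
noncomputable def o5 : Cov :=
  ⟨5, [151, 152, 153], [0, 2, 1, 0, 2, 0, 1, 2, 0, 1, 2, 0, 1, 0],
  [312, 316, 308, 314, 326, 330, 310, 318, 334, 332, 320, 322, 336, 328, 338, 324], 123200⟩
noncomputable def o6 : Cov :=
  ⟨6, [170, 171, 172], [0, 1, 2, 0, 1, 0, 1, 2, 1, 0, 1, 2, 0, 0],
  [354, 358, 346, 368, 374, 362, 356, 350, 348, 364, 376, 370, 372, 366, 352, 360], 354816⟩
noncomputable def o7 : Cov :=
  ⟨7, [189, 190, 191], [0, 2, 1, 2, 0, 2, 1, 0, 2, 1, 0],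
  [392, 396, 384, 418, 420, 428, 426, 414, 394, 406, 386, 438, 408, 442, 398, 422, 432, 402, 400, 412, 436, 430, 424, 434, 404, 440, 388, 410, 390, 416], 739200⟩
noncomputable def o8 : Cov :=
  ⟨8, [222, 223, 224], [0, 1, 2, 0, 1, 2, 1, 2, 1, 2, 2, 0, 2, 1],
  [452, 456, 450, 454, 458, 460, 462], 277200⟩
noncomputable def o9 : Cov :=
  ⟨9, [232, 233, 234], [0, 1, 2, 0, 1, 2, 0, 1, 2, 0, 1, 2, 0, 1, 2, 0, 0],
  [470, 472], 5775⟩
noncomputable def os : List Cov :=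
  [o1, o2, o3, o5, o6, o7, o8, o9]
noncomputable def reps : List (List ℕ) :=
  [[0],
  [0, 11, 0],
  [0, 13, 0],
  [0, 19, 0],
  [0, 6, 18, 0],
  [0, 8, 0, 11, 0],
  [0, 19, 0, 19, 0],
  [0, 9, 10, 0, 8, 0, 11, 0]]

theorem z0 : C.L = mkL C.al C.be rels [(1, 1), (1, 3), (3, 1), (1, 4), (0, 0)] := by decide +kernel
theorem z1 : C.recs R0 237 0 = true := by decide +kernel
theorem z2 : (rels.getD 5 []).rotate 0 = 0 :: (sh C.al ++ 0 :: sh C.be) := by decide +kernel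
theorem z3 : pairR CL.HNS.chk rels 84 pr 136 132 = true := by decide +kernel
theorem z4 : pairB CL.HNS.chk 132 84 ex 216 136 = true := by decide +kernel
theorem z5 : lamB CL.HNLam.P CL.HNLam.ns CL.HNS.chk 11 132 216 [[132], [134]] [[2], [1, 2, 0]] [[0], [2], [4]] (sg (W (nat_lit 0x500c0100c0500c0100c0500c0100c0500c0100c0101401))) = true := by decide +kernel
theorem z6 : o1.ok C 237 CL.HNLam.P.n CL.HNLam.P.N 22 M CL.HNLam.ns = true := by decide +kernel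
theorem z7 : CL.HNS.chk (zp [] [[308], [310], [312]] (o1.sw C)) = true := by decide +kernel
theorem z8 : o2.ok C 237 CL.HNLam.P.n CL.HNLam.P.N 22 M CL.HNLam.ns = true := by decide +kernel
theorem z9 : CL.HNS.chk (zp [] [[322], [324], [326]] (o2.sw C)) = true := by decide +kernel
theorem z10 : o3.ok C 237 CL.HNLam.P.n CL.HNLam.P.N 22 M CL.HNLam.ns = true := by decide +kernel
theorem z11 : CL.HNS.chk (zp [] [[334], [336], [338]] (o3.sw C)) = true := by decide +kernel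
theorem z12 : o5.ok C 237 CL.HNLam.P.n CL.HNLam.P.N 22 M CL.HNLam.ns = true := by decide +kernel
theorem z13 : CL.HNS.chk (zp [] [[344], [346], [348]] (o5.sw C)) = true := by decide +kernel
theorem z14 : o6.ok C 237 CL.HNLam.P.n CL.HNLam.P.N 22 M CL.HNLam.ns = true := by decide +kernel
theorem z15 : CL.HNS.chk (zp [] [[354], [356], [358]] (o6.sw C)) = true := by decide +kernel
theorem z16 : o7.ok C 237 CL.HNLam.P.n CL.HNLam.P.N 22 M CL.HNLam.ns = true := by decide +kernel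
theorem z17 : CL.HNS.chk (zp [] [[362], [364], [366]] (o7.sw C)) = true := by decide +kernel
theorem z18 : o8.ok C 237 CL.HNLam.P.n CL.HNLam.P.N 22 M CL.HNLam.ns = true := by decide +kernel
theorem z19 : CL.HNS.chk (zp [] [[370], [372], [374]] (o8.sw C)) = true := by decide +kernel
theorem z20 : o9.ok C 237 CL.HNLam.P.n CL.HNLam.P.N 22 M CL.HNLam.ns = true := by decide +kernel
theorem z21 : CL.HNS.chk (zp [] [[378], [380], [382]] (o9.sw C)) = true := by decide +kernel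
theorem z22 : bnd (allL (fun w => ptW CL.HNS.P.N CL.HNS.ns w 0 0) [[132], [134]]) (CL.HNS.P.orbSz CL.HNS.ns CL.HNS.D [[0], [2], [4]] (sg (W (nat_lit 0x500c0100c0500c0100c0500c0100c0500c0100c0101401))) 0 CL.HNS.P.n) = true := by decide +kernel
theorem z23 : bnd (Nat.beq (C.T.get 1).h 2097153) (bnd (Nat.beq (C.T.get 1).u 0) (tb M 1)) = true := by decide +kernel
theorem z24 : M = maskC os := by decide +kernel
theorem z25 : bnd (Nat.beq (C.T.get 1).i 0) (bnd (Nat.ble (Nat.succ 0) 1) (CL.HNS.chk [(W (C.T.get 1).u, [])])) = true := by decide +kernel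
theorem z26 : bnd (Nat.beq (C.T.get 2).i 1) (bnd (Nat.ble (Nat.succ 1) 2) (CL.HNS.chk [(W (C.T.get 2).u, [9])])) = true := by decide +kernel
theorem z27 : bnd (Nat.beq (C.T.get 3).i 1) (bnd (Nat.ble (Nat.succ 1) 3) (CL.HNS.chk [(W (C.T.get 3).u, [11])])) = true := by decide +kernel
theorem z28 : bnd (Nat.beq (C.T.get 5).i 1) (bnd (Nat.ble (Nat.succ 1) 5) (CL.HNS.chk [(W (C.T.get 5).u, [17])])) = true := by decide +kernel
theorem z29 : bnd (Nat.beq (C.T.get 6).i 1) (bnd (Nat.ble (Nat.succ 1) 6) (CL.HNS.chk [(W (C.T.get 6).u, [4, 16])])) = true := by decide +kernel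
theorem z30 : bnd (Nat.beq (C.T.get 7).i 2) (bnd (Nat.ble (Nat.succ 2) 7) (CL.HNS.chk [(W (C.T.get 7).u, [6])])) = true := by decide +kernel
theorem z31 : bnd (Nat.beq (C.T.get 8).i 5) (bnd (Nat.ble (Nat.succ 5) 8) (CL.HNS.chk [(W (C.T.get 8).u, [17])])) = true := by decide +kernel
theorem z32 : bnd (Nat.beq (C.T.get 9).i 7) (bnd (Nat.ble (Nat.succ 7) 9) (CL.HNS.chk [(W (C.T.get 9).u, [7, 8])])) = true := by decide +kernel

variable {Γ G X Λ : Type*} [Group Γ] [Group G] [MulAction Γ X] [MulAction Γ Λ] {φ : Γ →* G} {e : ℕ → X} {eL : ℕ → Λ} {g0 gs : List Γ} {t : G}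

theorem up {Y : Type*} [MulAction G Y] {gs : List G} {r : Y → G → Y} {q : Y} (S : Sys C gs t r q) : Upto C gs t r q 237 :=
  (S.recs _ (Upto.zero _ _ _ _ _)
    z1)

theorem L : C.L = mkL C.al C.be rels [(1, 1), (1, 3), (3, 1), (1, 4), (0, 0)] := z0

theorem inv {gs : List G} (hr : ∀ r ∈ rels, wordG (t :: gs) r = 1) : t⁻¹ = wordG gs C.al * t * wordG gs C.be :=
  inv_of_rel hr _ _ z2

theorem pair {H : Subgroup Γ} (E : Env H g0 gs CL.HNS.chk) (hr : ∀ r ∈ rels, wordG (t :: gs.map φ) r = 1) :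
    PairTo (gs.map φ) t 132 84 216 :=
  PairTo.defs (E.map φ) (by decide) _ (PairTo.rels (E.map φ) (by decide) hr _ (PairTo.nil _ _ 132 84) (by decide) z3) (by decide)
    z4

theorem lam (c : Ctx CL.HNS.P e gs CL.HNS.ns CL.HNS.D CL.HNS.chk) {k : List (List ℕ × List ℕ) → Bool} (cL : Ctx CL.HNLam.P eL g0 CL.HNLam.ns [] k)
    (E : Env (subW g0 [[0], [2], [4]]) g0 gs CL.HNS.chk) (hp : PairTo (gs.map φ) t 132 84 216) (hU : UB (subW g0 [[0], [2], [4]]) 177408000) :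
    Lam φ (subW g0 [[0], [2], [4]]) (gs.map φ) t g0 eL CL.HNLam.P.n CL.HNLam.P.N (2 * 11) CL.HNLam.ns ∧ (subW g0 [[0], [2], [4]]) ⊓ MulAction.stabilizer Γ (eL 0) = subW gs [[132], [134]] ∧
      ∀ i < CL.HNLam.P.n, ∃ h ∈ (subW g0 [[0], [2], [4]]), h • eL 0 = eL i :=
  lam_of cL E hp z5 (CL.HNS.K_lb c) hU

theorem faith (c : Ctx CL.HNS.P e gs CL.HNS.ns CL.HNS.D CL.HNS.chk) {k : List (List ℕ × List ℕ) → Bool} (cL : Ctx CL.HNLam.P eL g0 CL.HNLam.ns [] k)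
    (E : Env (subW g0 [[0], [2], [4]]) g0 gs CL.HNS.chk) (hp : PairTo (gs.map φ) t 132 84 216) (hU : UB (subW g0 [[0], [2], [4]]) 177408000)
    (hF : Faithful e CL.HNS.P.n (subW g0 [[0], [2], [4]])) : Faithful eL CL.HNLam.P.n (subW g0 [[0], [2], [4]]) :=
  have A := lam c cL E hp hU
  A.1.faithful c E A.2.1 z22 hF

theorem res (c : Ctx CL.HNS.P e gs CL.HNS.ns CL.HNS.D CL.HNS.chk) {k : List (List ℕ × List ℕ) → Bool} (cL : Ctx CL.HNLam.P eL g0 CL.HNLam.ns [] k)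
    (E : Env (subW g0 [[0], [2], [4]]) g0 gs CL.HNS.chk) (hp : PairTo (gs.map φ) t 132 84 216) (hU : UB (subW g0 [[0], [2], [4]]) 177408000)
    (hr : ∀ r ∈ rels, wordG (t :: gs.map φ) r = 1) (hg : ∀ K : Subgroup G, (subW g0 [[0], [2], [4]]).map φ ≤ K → t ∈ K → K = ⊤) :
    Res ((subW g0 [[0], [2], [4]]).map φ) [1408, 2200, 35200, 123200, 354816, 739200, 277200, 5775] :=
  have A := lam c cL E hp hU
  have S := sys_coset (C := C) (E.mem_map φ) (inv hr) hp hr L (E.map φ)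
  res_of_cov (os := os) A.1 S (up S) z24 z23 hg hU
    (List.forall_mem_cons.2 ⟨Cov.lb A.1 E z6 z7 (CL.HNS.S1_lb c) (by decide),
    List.forall_mem_cons.2 ⟨Cov.lb A.1 E z8 z9 (CL.HNS.S2_lb c) (by decide),
    List.forall_mem_cons.2 ⟨Cov.lb A.1 E z10 z11 (CL.HNS.S3_lb c) (by decide),
    List.forall_mem_cons.2 ⟨Cov.lb A.1 E z12 z13 (CL.HNS.S5_lb c) (by decide),
    List.forall_mem_cons.2 ⟨Cov.lb A.1 E z14 z15 (CL.HNS.S6_lb c) (by decide),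
    List.forall_mem_cons.2 ⟨Cov.lb A.1 E z16 z17 (CL.HNS.S7_lb c) (by decide),
    List.forall_mem_cons.2 ⟨Cov.lb A.1 E z18 z19 (CL.HNS.S8_lb c) (by decide),
    List.forall_mem_cons.2 ⟨Cov.lb A.1 E z20 z21 (CL.HNS.S9_lb c) (by decide),
    fun _ h => absurd h List.not_mem_nil⟩⟩⟩⟩⟩⟩⟩⟩)

theorem q1 {Y : Type*} [MulAction G Y] {gs : List G} (hc : ∀ R, CL.HNS.chk R = true → Rels gs R) (q : Y) :
    qq C.T gs t q 1 = wordG (t :: gs) [0] • q :=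
  qq_step hc (qq_zero _ _ _ _) z25

theorem q2 {Y : Type*} [MulAction G Y] {gs : List G} (hc : ∀ R, CL.HNS.chk R = true → Rels gs R) (q : Y) :
    qq C.T gs t q 2 = wordG (t :: gs) [0, 11, 0] • q :=
  qq_step hc (q1 hc q) z26

theorem q3 {Y : Type*} [MulAction G Y] {gs : List G} (hc : ∀ R, CL.HNS.chk R = true → Rels gs R) (q : Y) :
    qq C.T gs t q 3 = wordG (t :: gs) [0, 13, 0] • q :=
  qq_step hc (q1 hc q) z27

theorem q5 {Y : Type*} [MulAction G Y] {gs : List G} (hc : ∀ R, CL.HNS.chk R = true → Rels gs R) (q : Y) :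
    qq C.T gs t q 5 = wordG (t :: gs) [0, 19, 0] • q :=
  qq_step hc (q1 hc q) z28

theorem q6 {Y : Type*} [MulAction G Y] {gs : List G} (hc : ∀ R, CL.HNS.chk R = true → Rels gs R) (q : Y) :
    qq C.T gs t q 6 = wordG (t :: gs) [0, 6, 18, 0] • q :=
  qq_step hc (q1 hc q) z29

theorem q7 {Y : Type*} [MulAction G Y] {gs : List G} (hc : ∀ R, CL.HNS.chk R = true → Rels gs R) (q : Y) :
    qq C.T gs t q 7 = wordG (t :: gs) [0, 8, 0, 11, 0] • q :=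
  qq_step hc (q2 hc q) z30

theorem q8 {Y : Type*} [MulAction G Y] {gs : List G} (hc : ∀ R, CL.HNS.chk R = true → Rels gs R) (q : Y) :
    qq C.T gs t q 8 = wordG (t :: gs) [0, 19, 0, 19, 0] • q :=
  qq_step hc (q5 hc q) z31

theorem q9 {Y : Type*} [MulAction G Y] {gs : List G} (hc : ∀ R, CL.HNS.chk R = true → Rels gs R) (q : Y) :
    qq C.T gs t q 9 = wordG (t :: gs) [0, 9, 10, 0, 8, 0, 11, 0] • q :=
  qq_step hc (q7 hc q) z32

theorem resW (c : Ctx CL.HNS.P e gs CL.HNS.ns CL.HNS.D CL.HNS.chk) {k : List (List ℕ × List ℕ) → Bool} (cL : Ctx CL.HNLam.P eL g0 CL.HNLam.ns [] k)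
    (E : Env (subW g0 [[0], [2], [4]]) g0 gs CL.HNS.chk) (hp : PairTo (gs.map φ) t 132 84 216) (hU : UB (subW g0 [[0], [2], [4]]) 177408000)
    (hr : ∀ r ∈ rels, wordG (t :: gs.map φ) r = 1) (hg : ∀ K : Subgroup G, (subW g0 [[0], [2], [4]]).map φ ≤ K → t ∈ K → K = ⊤) :
    ResW ((subW g0 [[0], [2], [4]]).map φ) (reps.map (wordG (t :: gs.map φ))) [1408, 2200, 35200, 123200, 354816, 739200, 277200, 5775] :=
  have A := lam c cL E hp hU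
  have S := sys_coset (C := C) (E.mem_map φ) (inv hr) hp hr L (E.map φ)
  resW_of_cov (os := os) A.1 S (up S) z24 z23 hg hU
    (List.forall_mem_cons.2 ⟨Cov.lb A.1 E z6 z7 (CL.HNS.S1_lb c) (by decide),
    List.forall_mem_cons.2 ⟨Cov.lb A.1 E z8 z9 (CL.HNS.S2_lb c) (by decide),
    List.forall_mem_cons.2 ⟨Cov.lb A.1 E z10 z11 (CL.HNS.S3_lb c) (by decide),
    List.forall_mem_cons.2 ⟨Cov.lb A.1 E z12 z13 (CL.HNS.S5_lb c) (by decide),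
    List.forall_mem_cons.2 ⟨Cov.lb A.1 E z14 z15 (CL.HNS.S6_lb c) (by decide),
    List.forall_mem_cons.2 ⟨Cov.lb A.1 E z16 z17 (CL.HNS.S7_lb c) (by decide),
    List.forall_mem_cons.2 ⟨Cov.lb A.1 E z18 z19 (CL.HNS.S8_lb c) (by decide),
    List.forall_mem_cons.2 ⟨Cov.lb A.1 E z20 z21 (CL.HNS.S9_lb c) (by decide),
    fun _ h => absurd h List.not_mem_nil⟩⟩⟩⟩⟩⟩⟩⟩)
    (.cons (q1 (E.map φ) _) (.cons (q2 (E.map φ) _) (.cons (q3 (E.map φ) _) (.cons (q5 (E.map φ) _) (.cons (q6 (E.map φ) _) (.cons (q7 (E.map φ) _) (.cons (q8 (E.map φ) _) (.cons (q9 (E.map φ) _) .nil))))))))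


end CL.HND
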