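import Cfsg.Agent.Spor.TCHeldG11C0
import Cfsg.Agent.Spor.TCHeldG11C1
import Cfsg.Agent.Spor.TCHeldG11C2

/-! coset enumeration certificate generated by tools/tc -/

set_option maxRecDepth 100000
set_option autoImplicit false
set_option linter.all false

namespace CL.TC.HeldG11

theorem mz0 : AllZ mF 1 (nat_lit 14281) := (AllZ.step (AllZ.step (AllZ.step (AllZ.step (AllZ.step (AllZ.step (AllZ.step (AllZ.step (AllZ.step (AllZ.step (AllZ.step (AllZ.step (AllZ.step (AllZ.step (AllZ.step (AllZ.step (AllZ.step (AllZ.step (AllZ.step (AllZ.step (AllZ.nil mF 1) (nat_lit 714) (nat_lit 715) rfl m0) (nat_lit 714) (nat_lit 1429) rfl m1) (nat_lit 714) (nat_lit 2143) rfl m2) (nat_lit 714) (nat_lit 2857) rfl m3) (nat_lit 714) (nat_lit 3571) rfl m4) (nat_lit 714) (nat_lit 4285) rfl m5) (nat_lit 714) (nat_lit 4999) rfl m6) (nat_lit 714) (nat_lit 5713) rfl m7) (nat_lit 714) (nat_lit 6427) rfl m8) (nat_lit 714) (nat_lit 7141) rfl m9) (nat_lit 714) (nat_lit 7855) rfl m10) (nat_lit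 714) (nat_lit 8569) rfl m11) (nat_lit 714) (nat_lit 9283) rfl m12) (nat_lit 714) (nat_lit 9997) rfl m13) (nat_lit 714) (nat_lit 10711) rfl m14) (nat_lit 714) (nat_lit 11425) rfl m15) (nat_lit 714) (nat_lit 12139) rfl m16) (nat_lit 714) (nat_lit 12853) rfl m17) (nat_lit 714) (nat_lit 13567) rfl m18) (nat_lit 714) (nat_lit 14281) rfl m19)
theorem mz1 : AllZ mF 1 (nat_lit 28561) := (AllZ.step (AllZ.step (AllZ.step (AllZ.step (AllZ.step (AllZ.step (AllZ.step (AllZ.step (AllZ.step (AllZ.step (AllZ.step (AllZ.step (AllZ.step (AllZ.step (AllZ.step (AllZ.step (AllZ.step (AllZ.step (AllZ.step (AllZ.step mz0 (nat_lit 714) (nat_lit 14995) rfl m20) (nat_lit 714) (nat_lit 15709) rfl m21) (nat_lit 714) (nat_lit 16423) rfl m22) (nat_lit 714) (nat_lit 17137) rfl m23) (nat_lit 714) (nat_lit 17851) rfl m24) (nat_lit 714) (nat_lit 18565) rfl m25) (nat_lit 714) (nat_lit 19279) rfl m26) (nat_lit 714) (nat_lit 19993) rfl m27) (nat_lit 714) (nat_lit 20707) rfl m28) (nat_lit 714) (nat_lit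 21421) rfl m29) (nat_lit 714) (nat_lit 22135) rfl m30) (nat_lit 714) (nat_lit 22849) rfl m31) (nat_lit 714) (nat_lit 23563) rfl m32) (nat_lit 714) (nat_lit 24277) rfl m33) (nat_lit 714) (nat_lit 24991) rfl m34) (nat_lit 714) (nat_lit 25705) rfl m35) (nat_lit 714) (nat_lit 26419) rfl m36) (nat_lit 714) (nat_lit 27133) rfl m37) (nat_lit 714) (nat_lit 27847) rfl m38) (nat_lit 714) (nat_lit 28561) rfl m39)
theorem mz2 : AllZ mF 1 (nat_lit 29156) := (AllZ.step mz1 (nat_lit 595) (nat_lit 29156) rfl m40)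
theorem xz0 : XZ xF (nat_lit 1018) := (XZ.step (XZ.step (XZ.step (XZ.step (XZ.step (XZ.step (XZ.step (XZ.step (XZ.step (XZ.step (XZ.step (XZ.step (XZ.step (XZ.step (XZ.step (XZ.step (XZ.step (XZ.step (XZ.step (XZ.step (XZ.nil xF) s0 (nat_lit 1) (nat_lit 51) (by decide +kernel) x0) s1 (nat_lit 52) (nat_lit 101) (by decide +kernel) x1) s2 (nat_lit 102) (nat_lit 152) (by decide +kernel) x2) s3 (nat_lit 153) (nat_lit 202) (by decide +kernel) x3) s4 (nat_lit 203) (nat_lit 252) (by decide +kernel) x4) s5 (nat_lit 253) (nat_lit 303) (by decide +kernel) x5) s6 (nat_lit 304) (nat_lit 354) (by decide +kernel) x6) s7 (nat_lit 355) (nat_lit 405) (by decide +kernel) x7) s8 (nat_lit 406) (nat_lit 456) (by decide +kernel) x8) s9 (nat_lit 457) (nat_lit 507) (by decide +kernel) x9) s10 (nat_lit 508) (nat_lit 559) (by decide +kernel) x10) s11 (nat_lit 560) (nat_lit 608) (by decide +kernel) x11) s12 (nat_lit 609) (nat_lit 658) (by decide +kernel) x12) s13 (nat_lit 659) (nat_lit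 710) (by decide +kernel) x13) s14 (nat_lit 711) (nat_lit 762) (by decide +kernel) x14) s15 (nat_lit 763) (nat_lit 814) (by decide +kernel) x15) s16 (nat_lit 815) (nat_lit 866) (by decide +kernel) x16) s17 (nat_lit 867) (nat_lit 916) (by decide +kernel) x17) s18 (nat_lit 917) (nat_lit 967) (by decide +kernel) x18) s19 (nat_lit 968) (nat_lit 1018) (by decide +kernel) x19)
theorem xz1 : XZ xF (nat_lit 2051) := (XZ.step (XZ.step (XZ.step (XZ.step (XZ.step (XZ.step (XZ.step (XZ.step (XZ.step (XZ.step (XZ.step (XZ.step (XZ.step (XZ.step (XZ.step (XZ.step (XZ.step (XZ.step (XZ.step (XZ.step xz0 s20 (nat_lit 1019) (nat_lit 1071) (by decide +kernel) x20) s21 (nat_lit 1072) (nat_lit 1122) (by decide +kernel) x21) s22 (nat_lit 1123) (nat_lit 1176) (by decide +kernel) x22) s23 (nat_lit 1177) (nat_lit 1225) (by decide +kernel) x23) s24 (nat_lit 1226) (nat_lit 1275) (by decide +kernel) x24) s25 (nat_lit 1276) (nat_lit 1329) (by decide +kernel) x25) s26 (nat_lit 1330) (nat_lit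 1385) (by decide +kernel) x26) s27 (nat_lit 1386) (nat_lit 1442) (by decide +kernel) x27) s28 (nat_lit 1443) (nat_lit 1499) (by decide +kernel) x28) s29 (nat_lit 1500) (nat_lit 1549) (by decide +kernel) x29) s30 (nat_lit 1550) (nat_lit 1598) (by decide +kernel) x30) s31 (nat_lit 1599) (nat_lit 1647) (by decide +kernel) x31) s32 (nat_lit 1648) (nat_lit 1696) (by decide +kernel) x32) s33 (nat_lit 1697) (nat_lit 1746) (by decide +kernel) x33) s34 (nat_lit 1747) (nat_lit 1797) (by decide +kernel) x34) s35 (nat_lit 1798) (nat_lit 1849) (by decide +kernel) x35) s36 (nat_lit 1850) (nat_lit 1903) (by decide +kernel) x36) s37 (nat_lit 1904) (nat_lit 1953) (by decide +kernel) x37) s38 (nat_lit 1954) (nat_lit 2001) (by decide +kernel) x38) s39 (nat_lit 2002) (nat_lit 2051) (by decide +kernel) x39)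
theorem xz2 : XZ xF (nat_lit 2368) := (XZ.step (XZ.step (XZ.step (XZ.step (XZ.step (XZ.step (XZ.step xz1 s40 (nat_lit 2052) (nat_lit 2100) (by decide +kernel) x40) s41 (nat_lit 2101) (nat_lit 2151) (by decide +kernel) x41) s42 (nat_lit 2152) (nat_lit 2198) (by decide +kernel) x42) s43 (nat_lit 2199) (nat_lit 2247) (by decide +kernel) x43) s44 (nat_lit 2248) (nat_lit 2297) (by decide +kernel) x44) s45 (nat_lit 2298) (nat_lit 2348) (by decide +kernel) x45) s46 (nat_lit 2349) (nat_lit 2368) (by decide +kernel) x46)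
/-- the certificate (29155 points) is valid -/
theorem valid : cert.Valid (fun i => invL.getD i i) rels subs 14 :=
  ⟨by decide +kernel, tabok, by decide +kernel, mz2, xz2⟩
theorem cert_N : cert.N = 29155 := rfl

end CL.TC.HeldG11
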