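import Cfsg.Agent.Spor.TCSound

/-! coset enumeration certificate generated by tools/tc -/

set_option maxRecDepth 100000
set_option autoImplicit false
set_option linter.all false

namespace CL.TC.HeldH

noncomputable def rows0 : Tr ℕ := (.leaf (nat_lit 0xef01f0207e581f9e07e981f9e07eb81ba607e781ff905eb81fbe072cf701ae304e781ba606eb81bb606edc1fae06ed81bf904eb41bde062cfe40ef205e7417a505eb417a505ef413c505f3417f307fb013c505cefe40aea06e9413ad04ed413bd04ed817cd04f5413f306f8c17e504cefcc17ec03e900fac03ed00fac03f100fcc03f500fc503fe40bcc031afcc13f901eac0bb302eec0bc302f2c0bd302f6c0be402fcc0feb02bcea807f302ec807ba01f0807ca01f4807da01f8807ea01fc807fa0100))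
noncomputable def recs0 : Tr ℕ := (.leaf (nat_lit 0x6bc04bc05bc05bc1600040007bc07bc150005001d000500180007001e0007001ebc1ebc18ce1ece1d2c1e2c1b621e62181a1e1a161a1d1a1bce1bce131a1b1a13621862152c182c07bc18bc132c162c06bc16bc05bc15bc13ce13ce04bc13bc01ce01ce01aa01aa0198019801860186017401740162016201500150013e013e012c012c011a011a01080108))
noncomputable def rows : Tr ℕ := rows0
noncomputable def recs : Tr ℕ := recs0
noncomputable def ci0 : CI := ⟨[], (nat_lit 0), false, (.node (nat_lit 1) (.leaf Rule.defn) (.leaf Rule.copy)), (.node (nat_lit 2) (.node (nat_lit 1) (.leaf (XRule.rot (nat_lit 0) [] 132 0)) (.leaf (XRule.rot (nat_lit 13605019120449797326) [206, 188, 206, 188, 206, 188, 206, 188] 130 1))) (.node (nat_lit 1) (.leaf (XRule.rot (nat_lit 6682) [26, 26] 132 0)) (.leaf (XRule.rot (nat_lit 11308) [44, 44] 132 0))))⟩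
noncomputable def ci8 : CI := ⟨[0], (nat_lit 8), true, (.node (nat_lit 4) (.node (nat_lit 2) (.node (nat_lit 1) (.leaf Rule.defn) (.leaf Rule.copy)) (.node (nat_lit 1) (.leaf (Rule.fwd [nat_lit 188, nat_lit 8, nat_lit 188] 92 1)) (.leaf (Rule.fwd [nat_lit 26, nat_lit 80, nat_lit 8, nat_lit 26] 0 2)))) (.node (nat_lit 1) (.leaf (Rule.fwd [nat_lit 206, nat_lit 8, nat_lit 206] 112 1)) (.leaf (Rule.fwd [nat_lit 44, nat_lit 8, nat_lit 44] 2 0)))), (.node (nat_lit 1) (.leaf XRule.defn) (.leaf XRule.ax))⟩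
noncomputable def ci26 : CI := ⟨[1], (nat_lit 26), true, (.node (nat_lit 4) (.node (nat_lit 2) (.node (nat_lit 1) (.leaf Rule.defn) (.leaf Rule.copy)) (.node (nat_lit 1) (.leaf (Rule.fwd [nat_lit 26] 132 0)) (.leaf (Rule.fwd [nat_lit 206, nat_lit 26, nat_lit 206] 114 1)))) (.node (nat_lit 1) (.leaf (Rule.fwd [nat_lit 44, nat_lit 98, nat_lit 26, nat_lit 44] 18 2)) (.leaf (Rule.fwd [nat_lit 44, nat_lit 26, nat_lit 44, nat_lit 98] 18 0)))), (.node (nat_lit 1) (.leaf XRule.defn) (.leaf XRule.ax))⟩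
noncomputable def ci44 : CI := ⟨[2], (nat_lit 44), true, (.node (nat_lit 4) (.node (nat_lit 2) (.node (nat_lit 1) (.leaf Rule.defn) (.leaf Rule.copy)) (.node (nat_lit 1) (.leaf (Rule.fwd [nat_lit 44] 132 0)) (.leaf (Rule.fwd [nat_lit 188, nat_lit 44, nat_lit 188] 94 1)))) (.leaf (Rule.fwd [nat_lit 26, nat_lit 44, nat_lit 98, nat_lit 26] 18 1))), (.node (nat_lit 2) (.node (nat_lit 1) (.leaf XRule.defn) (.leaf XRule.ax)) (.node (nat_lit 1) (.leaf (XRule.rot (nat_lit 12332220) [188, 44, 188] 94 1)) (.leaf (XRule.rot (nat_lit 442641434) [26, 44, 98, 26] 18 1))))⟩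
noncomputable def ci62 : CI := ⟨[3], (nat_lit 62), true, (.node (nat_lit 4) (.node (nat_lit 2) (.node (nat_lit 1) (.leaf Rule.defn) (.leaf Rule.copy)) (.node (nat_lit 1) (.leaf (Rule.fwd [nat_lit 188, nat_lit 62, nat_lit 188] 96 1)) (.leaf (Rule.fwd [nat_lit 26, nat_lit 62, nat_lit 26] 20 1)))) (.node (nat_lit 1) (.leaf (Rule.fwd [nat_lit 206, nat_lit 62, nat_lit 206] 116 1)) (.leaf (Rule.fwd [nat_lit 44, nat_lit 62, nat_lit 116, nat_lit 44] 34 1)))), (.node (nat_lit 1) (.leaf XRule.defn) (.leaf XRule.ax))⟩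
noncomputable def ci80 : CI := ⟨[4], (nat_lit 80), true, (.node (nat_lit 4) (.node (nat_lit 2) (.node (nat_lit 1) (.leaf Rule.defn) (.leaf Rule.copy)) (.node (nat_lit 1) (.leaf (Rule.fwd [nat_lit 188, nat_lit 8, nat_lit 80, nat_lit 188] 98 1)) (.leaf (Rule.fwd [nat_lit 26, nat_lit 80, nat_lit 26] 22 1)))) (.node (nat_lit 1) (.leaf (Rule.fwd [nat_lit 206, nat_lit 80, nat_lit 206] 118 1)) (.leaf (Rule.fwd [nat_lit 44, nat_lit 80, nat_lit 134, nat_lit 44] 36 1)))), (.node (nat_lit 1) (.leaf XRule.defn) (.leaf XRule.ax))⟩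
noncomputable def ci98 : CI := ⟨[5], (nat_lit 98), true, (.node (nat_lit 4) (.node (nat_lit 2) (.node (nat_lit 1) (.leaf Rule.defn) (.leaf Rule.copy)) (.node (nat_lit 1) (.leaf (Rule.fwd [nat_lit 188, nat_lit 44, nat_lit 98, nat_lit 188] 100 1)) (.leaf (Rule.fwd [nat_lit 26, nat_lit 98, nat_lit 26] 24 1)))) (.node (nat_lit 2) (.node (nat_lit 1) (.leaf (Rule.fwd [nat_lit 206, nat_lit 26, nat_lit 98, nat_lit 206] 120 1)) (.leaf (Rule.fwd [nat_lit 98] 132 0))) (.leaf (Rule.fwd [nat_lit 44, nat_lit 98, nat_lit 44] 38 1)))), (.node (nat_lit 2) (.node (nat_lit 1) (.leaf XRule.defn) (.leaf XRule.ax)) (.node (nat_lit 1) (.leaf (XRule.rot (nat_lit 3160550588) [188, 44, 98, 188] 100 1)) (.leaf (XRule.rot (nat_lit 1729050) [26, 98, 26] 24 1))))⟩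
noncomputable def ci116 : CI := ⟨[6], (nat_lit 116), true, (.node (nat_lit 4) (.node (nat_lit 2) (.node (nat_lit 1) (.leaf Rule.defn) (.leaf Rule.copy)) (.node (nat_lit 1) (.leaf (Rule.fwd [nat_lit 188, nat_lit 116, nat_lit 188] 102 1)) (.leaf (Rule.fwd [nat_lit 26, nat_lit 116, nat_lit 152, nat_lit 26] 26 1)))) (.node (nat_lit 1) (.leaf (Rule.fwd [nat_lit 206, nat_lit 62, nat_lit 116, nat_lit 206] 122 1)) (.leaf (Rule.fwd [nat_lit 44, nat_lit 116, nat_lit 44] 40 1)))), (.node (nat_lit 1) (.leaf XRule.defn) (.leaf XRule.ax))⟩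
noncomputable def ci134 : CI := ⟨[7], (nat_lit 134), true, (.node (nat_lit 4) (.node (nat_lit 2) (.node (nat_lit 1) (.leaf Rule.defn) (.leaf Rule.copy)) (.node (nat_lit 1) (.leaf (Rule.fwd [nat_lit 188, nat_lit 134, nat_lit 188] 104 1)) (.leaf (Rule.fwd [nat_lit 26, nat_lit 134, nat_lit 26] 28 1)))) (.node (nat_lit 1) (.leaf (Rule.fwd [nat_lit 206, nat_lit 80, nat_lit 134, nat_lit 206] 124 1)) (.leaf (Rule.fwd [nat_lit 44, nat_lit 134, nat_lit 44] 42 1)))), (.node (nat_lit 1) (.leaf XRule.defn) (.leaf XRule.ax))⟩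
noncomputable def ci152 : CI := ⟨[8], (nat_lit 152), true, (.node (nat_lit 4) (.node (nat_lit 2) (.node (nat_lit 1) (.leaf Rule.defn) (.leaf Rule.copy)) (.node (nat_lit 1) (.leaf (Rule.fwd [nat_lit 188, nat_lit 116, nat_lit 152, nat_lit 188] 106 1)) (.leaf (Rule.fwd [nat_lit 26, nat_lit 152, nat_lit 26] 30 1)))) (.node (nat_lit 1) (.leaf (Rule.fwd [nat_lit 206, nat_lit 152, nat_lit 206] 126 1)) (.leaf (Rule.fwd [nat_lit 44, nat_lit 152, nat_lit 44] 44 1)))), (.node (nat_lit 1) (.leaf XRule.defn) (.leaf XRule.ax))⟩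
noncomputable def ci170 : CI := ⟨[9], (nat_lit 170), true, (.node (nat_lit 4) (.node (nat_lit 2) (.node (nat_lit 1) (.leaf Rule.defn) (.leaf Rule.copy)) (.node (nat_lit 1) (.leaf (Rule.fwd [nat_lit 188, nat_lit 170, nat_lit 188] 108 1)) (.leaf (Rule.fwd [nat_lit 26, nat_lit 170, nat_lit 26] 32 1)))) (.node (nat_lit 1) (.leaf (Rule.fwd [nat_lit 206, nat_lit 170, nat_lit 206] 128 1)) (.leaf (Rule.fwd [nat_lit 44, nat_lit 170, nat_lit 44] 46 1)))), (.node (nat_lit 1) (.leaf XRule.defn) (.leaf XRule.ax))⟩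
noncomputable def ci188 : CI := ⟨[10], (nat_lit 188), false, (.node (nat_lit 2) (.node (nat_lit 1) (.leaf Rule.defn) (.leaf Rule.copy)) (.node (nat_lit 1) (.leaf (Rule.fwd [nat_lit 188] 132 0)) (.leaf (Rule.fwd [nat_lit 26, nat_lit 188, nat_lit 26, nat_lit 188, nat_lit 26] 90 1)))), (.node (nat_lit 2) (.node (nat_lit 1) (.leaf XRule.defn) (.leaf XRule.defn)) (.node (nat_lit 1) (.leaf (XRule.rot (nat_lit 114825018394) [26, 188, 26, 188, 26] 90 1)) (.leaf (XRule.rot (nat_lit 188) [188] 132 0))))⟩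
noncomputable def ci206 : CI := ⟨[11], (nat_lit 206), true, (.node (nat_lit 2) (.node (nat_lit 1) (.leaf Rule.defn) (.leaf Rule.copy)) (.node (nat_lit 1) (.leaf (Rule.fwd [nat_lit 206] 132 0)) (.leaf (Rule.fwd [nat_lit 44, nat_lit 206, nat_lit 44, nat_lit 206, nat_lit 44] 110 1)))), (.node (nat_lit 4) (.node (nat_lit 2) (.node (nat_lit 1) (.leaf XRule.defn) (.leaf XRule.ax)) (.node (nat_lit 1) (.leaf (XRule.rot (nat_lit 53144605939257020) [188, 206, 188, 206, 188, 206, 188] 130 1)) (.leaf (XRule.rot (nat_lit 1756698) [26, 206, 26] 114 0)))) (.leaf (XRule.rot (nat_lit 1657692698) [26, 98, 206, 98] 120 2)))⟩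
noncomputable def outer : Tr CI := (.node (nat_lit 2) (.node (nat_lit 4) (.node (nat_lit 8) (.node (nat_lit 16) (.leaf ci0) (.leaf ci80)) (.node (nat_lit 16) (.leaf ci8) (.leaf ci152))) (.node (nat_lit 8) (.leaf ci116) (.node (nat_lit 16) (.leaf ci44) (.leaf ci188)))) (.node (nat_lit 4) (.node (nat_lit 8) (.leaf ci98) (.node (nat_lit 16) (.leaf ci170) (.leaf ci26))) (.node (nat_lit 8) (.leaf ci134) (.node (nat_lit 16) (.leaf ci206) (.leaf ci62)))))
def cols : List ℕ := [nat_lit 8, nat_lit 26, nat_lit 44, nat_lit 62, nat_lit 80, nat_lit 98, nat_lit 116, nat_lit 134, nat_lit 152, nat_lit 170, nat_lit 188, nat_lit 206]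
def invL : List ℕ := [0, 1, 2, 3, 4, 5, 6, 7, 8, 9, 10, 11]
def rels : List (List ℕ) := [[0, 1, 0, 1, 4], [0, 2, 0, 2], [0, 3, 0, 3], [0, 4, 0, 4], [0, 5, 0, 5, 7], [0, 6, 0, 6], [0, 7, 0, 7], [0, 8, 0, 8, 9], [0, 9, 0, 9], [1, 2, 1, 2, 5], [1, 3, 1, 3], [1, 4, 1, 4], [1, 5, 1, 5], [1, 6, 1, 6, 8], [1, 7, 1, 7], [1, 8, 1, 8], [1, 9, 1, 9], [2, 3, 2, 3, 6], [2, 4, 2, 4, 7], [2, 5, 2, 5], [2, 6, 2, 6], [2, 7, 2, 7], [2, 8, 2, 8], [2, 9, 2, 9], [3, 4, 3, 4], [3, 5, 3, 5, 8], [3, 6, 3, 6], [3, 7, 3, 7, 9], [3, 8, 3, 8], [3, 9, 3, 9], [4, 5, 4, 5], [4, 6, 4, 6, 9], [4, 7, 4, 7], [4, 8, 4, 8], [4, 9, 4, 9], [5, 6, 5, 6], [5, 7, 5, 7], [5, 8, 5, 8], [5, 9, 5, 9], [6, 7, 6, 7], [6, 8, 6, 8], [6, 9, 6, 9], [7, 8, 7, 8], [7, 9, 7, 9], [8, 9, 8, 9], [1, 10, 1, 10, 1, 10], [10, 0, 10, 0], [10, 2, 10, 2], [10, 3, 10, 3], [10, 4, 10, 0, 4], [10, 5, 10, 2, 5], [10, 6, 10, 6], [10, 7, 10, 7], [10, 8, 10, 6, 8], [10, 9, 10, 9],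 [2, 11, 2, 11, 2, 11], [11, 0, 11, 0], [11, 1, 11, 1], [11, 3, 11, 3], [11, 4, 11, 4], [11, 5, 11, 1, 5], [11, 6, 11, 3, 6], [11, 7, 11, 4, 7], [11, 8, 11, 8], [11, 9, 11, 9], [10, 11, 10, 11, 10, 11, 10, 11]]
def subs : List (List ℕ) := [[0], [1], [2], [3], [4], [5], [6], [7], [8], [9], [11]]
noncomputable def row (n : ℕ) : ℕ := rowOf (fun h => rows.get h) (nat_lit 5) (nat_lit 31) (nat_lit 224) (nat_lit 0xffffffffffffffffffffffffffffffffffffffffffffffffffffffff) n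
noncomputable def xleaf (h : ℕ) : ℕ := recs.get h
noncomputable def mF : ℕ → ℕ := mainRow row (rowChk row xleaf outer (nat_lit 8) (nat_lit 255) (nat_lit 7) (nat_lit 11) (nat_lit 2047) (nat_lit 262143) (nat_lit 128) (nat_lit 7) (nat_lit 256) (nat_lit 8) (nat_lit 255) (nat_lit 16) (nat_lit 65535) (nat_lit 8) (nat_lit 255) cols)
noncomputable def xF : ℕ → ℕ → ℕ := xLeaf row xleaf outer (nat_lit 255) (nat_lit 11) (nat_lit 262143) (nat_lit 128) (nat_lit 7) (nat_lit 8) (nat_lit 255) (nat_lit 16) (nat_lit 65535) (nat_lit 65280) (nat_lit 8) (nat_lit 255) (nat_lit 10) (nat_lit 1023) (nat_lit 3) (nat_lit 7) (nat_lit 206) (nat_lit 1792) (nat_lit 128)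
noncomputable def cert : Cert := ⟨row, xleaf, outer, cols, nat_lit 8, nat_lit 255, nat_lit 7, nat_lit 11, nat_lit 2047, nat_lit 262143, nat_lit 128, nat_lit 7, nat_lit 256, nat_lit 8, nat_lit 255, nat_lit 16, nat_lit 65535, nat_lit 65280, nat_lit 8, nat_lit 255, nat_lit 10, nat_lit 1023, nat_lit 3, nat_lit 7, nat_lit 206, nat_lit 1792, nat_lit 128, nat_lit 18, nat_lit 128, nat_lit 1⟩
theorem tabok : tabOK (fun i => invL.getD i i) rels subs outer cols (nat_lit 8) (nat_lit 206) = true := by decide +kernel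
theorem m0 : rng mF (nat_lit 1) (nat_lit 7) = 0 := by decide +kernel
noncomputable def s0 : List ℕ := [nat_lit 0x401004010040100401004010040045c0000114000004583a00000474004581a001210011a069210000045822001274612606c000012d4952606d2d4951e4a8234bd284b92d0912d484004812c0a9204c9344cd21001204c841001374b41a001374c41b0013948c1b4e52104c004ed2b0693d46c135051d04c0000000000000000000000000000000000000000000000000000000000000000000000000000000000000000000000000000000000000000000000000000000000000000000000000000000000000000000000000000000000000000000000000000000000000000000000000000000000000000]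
theorem x0 : xs xF s0 (nat_lit 1) = 0 := by decide +kernel
theorem mz0 : AllZ mF 1 (nat_lit 8) := (AllZ.step (AllZ.nil mF 1) (nat_lit 7) (nat_lit 8) rfl m0)
theorem xz0 : XZ xF (nat_lit 1) := (XZ.step (XZ.nil xF) s0 (nat_lit 1) (nat_lit 1) (by decide +kernel) x0)
/-- the certificate (7 points) is valid -/
theorem valid : cert.Valid (fun i => invL.getD i i) rels subs 12 :=
  ⟨by decide +kernel, tabok, by decide +kernel, mz0, xz0⟩
theorem cert_N : cert.N = 7 := rfl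

end CL.TC.HeldH
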