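import Cfsg.Agent.Spor.TCSound

/-! coset enumeration certificate generated by tools/tc -/

set_option maxRecDepth 100000
set_option autoImplicit false
set_option linter.all false

namespace CL.TC.HeldI

noncomputable def rows0 : Tr ℕ := (.leaf (nat_lit 0xe6c1f5083f9487f080fe101fc603b8407f180de341fc203ff8867180fe901e2fecc1d6083b8505f180ee501dca43f94077480be521dca03bf8857480ee901c2ff2c1b3cc278c86f180de301bca02fa406f290fe541bd2037f884f170df26162ffe211448339b867170ce2e19ce02b8b8673709e8c15ddc33f187fd609eae18edf4c1744c1f79877280be7017ce437ac05f590ee7217d602ff883f470bf501a2ffe20d5482b9403f270ae6e15d1c339b8576707eb019e1c2bf1877d607eae14edfe20b408379384f2709e4e13d201fab84f280cecc0fe1c27f186fc30cf660eedfc619e1023a28472608e4c11d1823930474608ecc0de1823a3847f105ecc101cfe2094882f898573707e8e0fd5c27b383f580aef013e5c1ff185fc30af8e12edfc615f101b9c0273606e8c0dd581ba30377606eee11e581bbb837f104eca0c1cfc613fc40f9b02f3505e6a0bd5417b282f5505f0a09e5417d302fe308fa808dafc60ffc40b918374504eaa09d9413ba8278504eec0be9413db027e306f860adae4a07f8c17ea01f4403e8807d900fba01f6403f2807e900fda81f9503fe20409e6805f8c13f880f5302ec605dcc0bc18179302f4605ecc0be2017d402fc606c7e8403d4807f18176201ee403e0807c900fa201f6403f0807e900fe201fe40200))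
noncomputable def recs0 : Tr ℕ := (.leaf (nat_lit 0xd6d04b6831b418da0b6d03b688c0012000f6d07b6829b414da2100060007c000e000e6d07368a0001e001e0005000b0001400250007000b4001c002d6d16b6895da5aed2c17968bca8d05a68250e168707c38581c2a76953b47038541c2547142383db450da1c34129a0785e4a2f0e6d12b687c1246090d6d11b6878aa42550c6d10b68705e3e2f0b6d0fb6829b43cda1c768e3b41db438da017680bb405b402da015a00ad0054202a1014700a3804f6027b0134009a004aa0255012100908045e022f010e0087004120209))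
noncomputable def rows : Tr ℕ := rows0
noncomputable def recs : Tr ℕ := recs0
noncomputable def ci0 : CI := ⟨[], (nat_lit 0), false, (.node (nat_lit 1) (.leaf Rule.defn) (.leaf Rule.copy)), (.node (nat_lit 4) (.node (nat_lit 2) (.node (nat_lit 1) (.leaf (XRule.rot (nat_lit 0) [] 156 0)) (.leaf (XRule.rot (nat_lit 2014972202990041412845) [237, 218, 237, 218, 237, 218, 237, 218] 130 1))) (.node (nat_lit 1) (.leaf (XRule.rot (nat_lit 14364) [28, 28] 156 0)) (.leaf (XRule.rot (nat_lit 24111) [47, 47] 156 0)))) (.node (nat_lit 2) (.node (nat_lit 1) (.leaf (XRule.rot (nat_lit 72846) [142, 142] 156 0)) (.leaf (XRule.rot (nat_lit 43605) [85, 85] 156 0))) (.leaf (XRule.rot (nat_lit 4617) [9, 9] 156 0))))⟩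
noncomputable def ci9 : CI := ⟨[0], (nat_lit 9), true, (.node (nat_lit 4) (.node (nat_lit 2) (.node (nat_lit 1) (.leaf Rule.defn) (.leaf Rule.copy)) (.node (nat_lit 1) (.leaf (Rule.fwd [nat_lit 9] 156 0)) (.leaf (Rule.fwd [nat_lit 218, nat_lit 9, nat_lit 218] 92 1)))) (.node (nat_lit 2) (.node (nat_lit 1) (.leaf (Rule.fwd [nat_lit 28, nat_lit 85, nat_lit 9, nat_lit 28] 0 2)) (.leaf (Rule.fwd [nat_lit 28, nat_lit 9, nat_lit 28, nat_lit 85] 0 0))) (.node (nat_lit 1) (.leaf (Rule.fwd [nat_lit 237, nat_lit 9, nat_lit 237] 112 1)) (.leaf (Rule.fwd [nat_lit 47, nat_lit 9, nat_lit 47] 2 0))))), (.node (nat_lit 2) (.node (nat_lit 1) (.leaf XRule.defn) (.leaf XRule.ax)) (.leaf (XRule.rot (nat_lit 57152218) [218, 9, 218] 92 1)))⟩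
noncomputable def ci28 : CI := ⟨[1], (nat_lit 28), true, (.node (nat_lit 4) (.node (nat_lit 2) (.node (nat_lit 1) (.leaf Rule.defn) (.leaf Rule.copy)) (.node (nat_lit 1) (.leaf (Rule.fwd [nat_lit 28] 156 0)) (.leaf (Rule.fwd [nat_lit 199, nat_lit 28, nat_lit 199] 134 1)))) (.node (nat_lit 2) (.node (nat_lit 1) (.leaf (Rule.fwd [nat_lit 9, nat_lit 28, nat_lit 85, nat_lit 9] 0 1)) (.leaf (Rule.fwd [nat_lit 237, nat_lit 28, nat_lit 237] 114 1))) (.node (nat_lit 1) (.leaf (Rule.fwd [nat_lit 47, nat_lit 104, nat_lit 28, nat_lit 47] 18 2)) (.leaf (Rule.fwd [nat_lit 47, nat_lit 28, nat_lit 47, nat_lit 104] 18 0))))), (.node (nat_lit 1) (.leaf XRule.defn) (.leaf XRule.ax))⟩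
noncomputable def ci47 : CI := ⟨[2], (nat_lit 47), true, (.node (nat_lit 4) (.node (nat_lit 2) (.node (nat_lit 1) (.leaf Rule.defn) (.leaf Rule.copy)) (.node (nat_lit 1) (.leaf (Rule.fwd [nat_lit 47] 156 0)) (.leaf (Rule.fwd [nat_lit 199, nat_lit 47, nat_lit 199] 136 1)))) (.node (nat_lit 2) (.node (nat_lit 1) (.leaf (Rule.fwd [nat_lit 9, nat_lit 47, nat_lit 9] 2 1)) (.leaf (Rule.fwd [nat_lit 218, nat_lit 47, nat_lit 218] 94 1))) (.leaf (Rule.fwd [nat_lit 28, nat_lit 47, nat_lit 104, nat_lit 28] 18 1)))), (.node (nat_lit 2) (.node (nat_lit 1) (.leaf XRule.defn) (.leaf XRule.ax)) (.node (nat_lit 1) (.leaf (XRule.rot (nat_lit 57171674) [218, 47, 218] 94 1)) (.leaf (XRule.rot (nat_lit 3785383452) [28, 47, 104, 28] 18 1))))⟩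
noncomputable def ci66 : CI := ⟨[3], (nat_lit 66), true, (.node (nat_lit 4) (.node (nat_lit 2) (.node (nat_lit 1) (.leaf Rule.defn) (.leaf Rule.copy)) (.node (nat_lit 1) (.leaf (Rule.fwd [nat_lit 199, nat_lit 66, nat_lit 199] 138 1)) (.leaf (Rule.fwd [nat_lit 9, nat_lit 66, nat_lit 9] 4 1)))) (.node (nat_lit 2) (.node (nat_lit 1) (.leaf (Rule.fwd [nat_lit 218, nat_lit 66, nat_lit 218] 96 1)) (.leaf (Rule.fwd [nat_lit 28, nat_lit 66, nat_lit 28] 20 1))) (.node (nat_lit 1) (.leaf (Rule.fwd [nat_lit 237, nat_lit 66, nat_lit 237] 116 1)) (.leaf (Rule.fwd [nat_lit 47, nat_lit 66, nat_lit 123, nat_lit 47] 34 1))))), (.node (nat_lit 1) (.leaf XRule.defn) (.leaf XRule.ax))⟩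
noncomputable def ci85 : CI := ⟨[4], (nat_lit 85), true, (.node (nat_lit 8) (.node (nat_lit 4) (.node (nat_lit 2) (.node (nat_lit 1) (.leaf Rule.defn) (.leaf Rule.copy)) (.node (nat_lit 1) (.leaf (Rule.fwd [nat_lit 199, nat_lit 28, nat_lit 85, nat_lit 199] 140 1)) (.leaf (Rule.fwd [nat_lit 9, nat_lit 85, nat_lit 9] 6 1)))) (.node (nat_lit 2) (.node (nat_lit 1) (.leaf (Rule.fwd [nat_lit 218, nat_lit 9, nat_lit 85, nat_lit 218] 98 1)) (.leaf (Rule.fwd [nat_lit 85] 156 0))) (.node (nat_lit 1) (.leaf (Rule.fwd [nat_lit 28, nat_lit 85, nat_lit 28] 22 1)) (.leaf (Rule.fwd [nat_lit 237, nat_lit 85, nat_lit 237] 118 1))))) (.node (nat_lit 1) (.leaf (Rule.fwd [nat_lit 47, nat_lit 85, nat_lit 142, nat_lit 47] 36 1)) (.leaf (Rule.fwd [nat_lit 47, nat_lit 85, nat_lit 47, nat_lit 142] 37 4)))), (.node (nat_lit 2) (.node (nat_lit 1) (.leaf XRule.defn) (.leaf XRule.ax)) (.leaf (XRule.rot (nat_lit 29281751770) [218, 9, 85,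 218] 98 1)))⟩
noncomputable def ci104 : CI := ⟨[5], (nat_lit 104), true, (.node (nat_lit 8) (.node (nat_lit 4) (.node (nat_lit 2) (.node (nat_lit 1) (.leaf Rule.defn) (.leaf Rule.copy)) (.node (nat_lit 1) (.leaf (Rule.fwd [nat_lit 199, nat_lit 104, nat_lit 199] 142 1)) (.leaf (Rule.fwd [nat_lit 9, nat_lit 104, nat_lit 142, nat_lit 9] 8 1)))) (.node (nat_lit 2) (.node (nat_lit 1) (.leaf (Rule.fwd [nat_lit 218, nat_lit 47, nat_lit 104, nat_lit 218] 100 1)) (.leaf (Rule.fwd [nat_lit 28, nat_lit 104, nat_lit 28] 24 1))) (.node (nat_lit 1) (.leaf (Rule.fwd [nat_lit 237, nat_lit 28, nat_lit 104, nat_lit 237] 120 1)) (.leaf (Rule.fwd [nat_lit 104] 156 0))))) (.leaf (Rule.fwd [nat_lit 47, nat_lit 104, nat_lit 47] 38 1))), (.node (nat_lit 2) (.node (nat_lit 1) (.leaf XRule.defn) (.leaf XRule.ax)) (.node (nat_lit 1) (.leaf (XRule.rot (nat_lit 29286751962) [218, 47, 104, 218] 100 1)) (.leaf (XRule.rot (nat_lit 7393308)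 [28, 104, 28] 24 1))))⟩
noncomputable def ci123 : CI := ⟨[6], (nat_lit 123), true, (.node (nat_lit 4) (.node (nat_lit 2) (.node (nat_lit 1) (.leaf Rule.defn) (.leaf Rule.copy)) (.node (nat_lit 1) (.leaf (Rule.fwd [nat_lit 199, nat_lit 123, nat_lit 199] 144 1)) (.leaf (Rule.fwd [nat_lit 9, nat_lit 123, nat_lit 9] 10 1)))) (.node (nat_lit 2) (.node (nat_lit 1) (.leaf (Rule.fwd [nat_lit 218, nat_lit 123, nat_lit 218] 102 1)) (.leaf (Rule.fwd [nat_lit 28, nat_lit 123, nat_lit 161, nat_lit 28] 26 1))) (.node (nat_lit 1) (.leaf (Rule.fwd [nat_lit 237, nat_lit 66, nat_lit 123, nat_lit 237] 122 1)) (.leaf (Rule.fwd [nat_lit 47, nat_lit 123, nat_lit 47] 40 1))))), (.node (nat_lit 1) (.leaf XRule.defn) (.leaf XRule.ax))⟩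
noncomputable def ci142 : CI := ⟨[7], (nat_lit 142), true, (.node (nat_lit 8) (.node (nat_lit 4) (.node (nat_lit 2) (.node (nat_lit 1) (.leaf Rule.defn) (.leaf Rule.copy)) (.node (nat_lit 1) (.leaf (Rule.fwd [nat_lit 199, nat_lit 104, nat_lit 142, nat_lit 199] 146 1)) (.leaf (Rule.fwd [nat_lit 9, nat_lit 142, nat_lit 9] 12 1)))) (.node (nat_lit 2) (.node (nat_lit 1) (.leaf (Rule.fwd [nat_lit 218, nat_lit 142, nat_lit 218] 104 1)) (.leaf (Rule.fwd [nat_lit 28, nat_lit 142, nat_lit 28] 28 1))) (.node (nat_lit 1) (.leaf (Rule.fwd [nat_lit 237, nat_lit 85, nat_lit 142, nat_lit 237] 124 1)) (.leaf (Rule.fwd [nat_lit 142] 156 0))))) (.leaf (Rule.fwd [nat_lit 47, nat_lit 142, nat_lit 47] 42 1))), (.node (nat_lit 2) (.node (nat_lit 1) (.leaf XRule.defn) (.leaf XRule.ax)) (.leaf (XRule.rot (nat_lit 57220314) [218, 142, 218] 104 1)))⟩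
noncomputable def ci161 : CI := ⟨[8], (nat_lit 161), true, (.node (nat_lit 4) (.node (nat_lit 2) (.node (nat_lit 1) (.leaf Rule.defn) (.leaf Rule.copy)) (.node (nat_lit 1) (.leaf (Rule.fwd [nat_lit 199, nat_lit 161, nat_lit 199] 148 1)) (.leaf (Rule.fwd [nat_lit 9, nat_lit 161, nat_lit 180, nat_lit 9] 14 1)))) (.node (nat_lit 2) (.node (nat_lit 1) (.leaf (Rule.fwd [nat_lit 218, nat_lit 123, nat_lit 161, nat_lit 218] 106 1)) (.leaf (Rule.fwd [nat_lit 28, nat_lit 161, nat_lit 28] 30 1))) (.node (nat_lit 1) (.leaf (Rule.fwd [nat_lit 237, nat_lit 161, nat_lit 237] 126 1)) (.leaf (Rule.fwd [nat_lit 47, nat_lit 161, nat_lit 47] 44 1))))), (.node (nat_lit 1) (.leaf XRule.defn) (.leaf XRule.ax))⟩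
noncomputable def ci180 : CI := ⟨[9], (nat_lit 180), true, (.node (nat_lit 4) (.node (nat_lit 2) (.node (nat_lit 1) (.leaf Rule.defn) (.leaf Rule.copy)) (.node (nat_lit 1) (.leaf (Rule.fwd [nat_lit 199, nat_lit 161, nat_lit 180, nat_lit 199] 150 1)) (.leaf (Rule.fwd [nat_lit 9, nat_lit 180, nat_lit 9] 16 1)))) (.node (nat_lit 2) (.node (nat_lit 1) (.leaf (Rule.fwd [nat_lit 218, nat_lit 180, nat_lit 218] 108 1)) (.leaf (Rule.fwd [nat_lit 28, nat_lit 180, nat_lit 28] 32 1))) (.node (nat_lit 1) (.leaf (Rule.fwd [nat_lit 237, nat_lit 180, nat_lit 237] 128 1)) (.leaf (Rule.fwd [nat_lit 47, nat_lit 180, nat_lit 47] 46 1))))), (.node (nat_lit 1) (.leaf XRule.defn) (.leaf XRule.ax))⟩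
noncomputable def ci199 : CI := ⟨[10], (nat_lit 199), false, (.node (nat_lit 8) (.node (nat_lit 4) (.node (nat_lit 2) (.node (nat_lit 1) (.leaf Rule.defn) (.leaf Rule.copy)) (.node (nat_lit 1) (.leaf (Rule.fwd [nat_lit 199] 156 0)) (.leaf (Rule.fwd [nat_lit 9, nat_lit 199, nat_lit 9, nat_lit 199, nat_lit 9] 132 1)))) (.node (nat_lit 2) (.node (nat_lit 1) (.leaf (Rule.fwd [nat_lit 9, nat_lit 28, nat_lit 218, nat_lit 28, nat_lit 9, nat_lit 199, nat_lit 9, nat_lit 28, nat_lit 218, nat_lit 28, nat_lit 9, nat_lit 199, nat_lit 9, nat_lit 28, nat_lit 218, nat_lit 28, nat_lit 9] 154 1)) (.leaf (Rule.fwd [nat_lit 28, nat_lit 199, nat_lit 28] 134 0))) (.node (nat_lit 1) (.leaf (Rule.fwd [nat_lit 237, nat_lit 199, nat_lit 237] 152 0)) (.leaf (Rule.fwd [nat_lit 28, nat_lit 85, nat_lit 199, nat_lit 85] 140 2))))) (.node (nat_lit 1) (.leaf (Rule.fwd [nat_lit 47, nat_lit 199, nat_lit 47] 136 0)) (.leaf (Rule.fwd [nat_lit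 104, nat_lit 142, nat_lit 199, nat_lit 142] 146 2)))), (.node (nat_lit 1) (.leaf XRule.defn) (.leaf XRule.defn))⟩
noncomputable def ci218 : CI := ⟨[11], (nat_lit 218), true, (.node (nat_lit 2) (.node (nat_lit 1) (.leaf Rule.defn) (.leaf Rule.copy)) (.node (nat_lit 1) (.leaf (Rule.fwd [nat_lit 218] 156 0)) (.leaf (Rule.fwd [nat_lit 28, nat_lit 218, nat_lit 28, nat_lit 218, nat_lit 28] 90 1)))), (.node (nat_lit 2) (.node (nat_lit 1) (.leaf XRule.defn) (.leaf XRule.ax)) (.node (nat_lit 1) (.leaf (XRule.rot (nat_lit 1953412264988) [28, 218, 28, 218, 28] 90 1)) (.leaf (XRule.rot (nat_lit 218) [218] 156 0))))⟩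
noncomputable def ci237 : CI := ⟨[12], (nat_lit 237), true, (.node (nat_lit 4) (.node (nat_lit 2) (.node (nat_lit 1) (.leaf Rule.defn) (.leaf Rule.copy)) (.node (nat_lit 1) (.leaf (Rule.fwd [nat_lit 237] 156 0)) (.leaf (Rule.fwd [nat_lit 199, nat_lit 237, nat_lit 199] 152 1)))) (.node (nat_lit 1) (.leaf (Rule.fwd [nat_lit 9, nat_lit 237, nat_lit 9] 112 0)) (.leaf (Rule.fwd [nat_lit 47, nat_lit 237, nat_lit 47, nat_lit 237, nat_lit 47] 110 1)))), (.node (nat_lit 4) (.node (nat_lit 2) (.node (nat_lit 1) (.leaf XRule.defn) (.leaf XRule.ax)) (.node (nat_lit 1) (.leaf (XRule.rot (nat_lit 3935492583964924634) [218, 237, 218, 237, 218, 237, 218] 130 1)) (.leaf (XRule.rot (nat_lit 7461404) [28, 237, 28] 114 0)))) (.leaf (XRule.rot (nat_lit 14020825116) [28, 104, 237, 104] 120 2)))⟩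
noncomputable def outer : Tr CI := (.node (nat_lit 1) (.node (nat_lit 2) (.node (nat_lit 4) (.node (nat_lit 8) (.leaf ci0) (.leaf ci104)) (.node (nat_lit 8) (.leaf ci180) (.leaf ci28))) (.node (nat_lit 4) (.node (nat_lit 8) (.leaf ci66) (.leaf ci218)) (.leaf ci142))) (.node (nat_lit 2) (.node (nat_lit 4) (.node (nat_lit 8) (.leaf ci161) (.leaf ci9)) (.node (nat_lit 8) (.leaf ci85) (.leaf ci237))) (.node (nat_lit 4) (.leaf ci123) (.node (nat_lit 8) (.leaf ci199) (.leaf ci47)))))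
def cols : List ℕ := [nat_lit 9, nat_lit 28, nat_lit 47, nat_lit 66, nat_lit 85, nat_lit 104, nat_lit 123, nat_lit 142, nat_lit 161, nat_lit 180, nat_lit 199, nat_lit 218, nat_lit 237]
def invL : List ℕ := [0, 1, 2, 3, 4, 5, 6, 7, 8, 9, 10, 11, 12]
def rels : List (List ℕ) := [[0, 1, 0, 1, 4], [0, 2, 0, 2], [0, 3, 0, 3], [0, 4, 0, 4], [0, 5, 0, 5, 7], [0, 6, 0, 6], [0, 7, 0, 7], [0, 8, 0, 8, 9], [0, 9, 0, 9], [1, 2, 1, 2, 5], [1, 3, 1, 3], [1, 4, 1, 4], [1, 5, 1, 5], [1, 6, 1, 6, 8], [1, 7, 1, 7], [1, 8, 1, 8], [1, 9, 1, 9], [2, 3, 2, 3, 6], [2, 4, 2, 4, 7], [2, 5, 2, 5], [2, 6, 2, 6], [2, 7, 2, 7], [2, 8, 2, 8], [2, 9, 2, 9], [3, 4, 3, 4], [3, 5, 3, 5, 8], [3, 6, 3, 6], [3, 7, 3, 7, 9], [3, 8, 3, 8], [3, 9, 3, 9], [4, 5, 4, 5], [4, 6, 4, 6, 9], [4, 7, 4, 7], [4, 8, 4, 8], [4, 9, 4, 9], [5, 6, 5, 6], [5, 7, 5, 7], [5, 8, 5, 8], [5, 9, 5, 9], [6, 7, 6, 7], [6, 8, 6, 8], [6, 9, 6, 9], [7, 8, 7, 8], [7, 9, 7,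 9], [8, 9, 8, 9], [1, 11, 1, 11, 1, 11], [11, 0, 11, 0], [11, 2, 11, 2], [11, 3, 11, 3], [11, 4, 11, 0, 4], [11, 5, 11, 2, 5], [11, 6, 11, 6], [11, 7, 11, 7], [11, 8, 11, 6, 8], [11, 9, 11, 9], [2, 12, 2, 12, 2, 12], [12, 0, 12, 0], [12, 1, 12, 1], [12, 3, 12, 3], [12, 4, 12, 4], [12, 5, 12, 1, 5], [12, 6, 12, 3, 6], [12, 7, 12, 4, 7], [12, 8, 12, 8], [12, 9, 12, 9], [11, 12, 11, 12, 11, 12, 11, 12], [0, 10, 0, 10, 0, 10], [10, 1, 10, 1], [10, 2, 10, 2], [10, 3, 10, 3], [10, 4, 10, 1, 4], [10, 5, 10, 5], [10, 6, 10, 6], [10, 7, 10, 5, 7], [10, 8, 10, 8], [10, 9, 10, 8, 9], [10, 12, 10, 12], [0, 10, 0, 1, 11, 1, 0, 10, 0, 1, 11, 1, 0, 10, 0, 1, 11, 1]]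
def subs : List (List ℕ) := [[0], [1], [2], [3], [4], [5], [6], [7], [8], [9], [11], [12]]
noncomputable def row (n : ℕ) : ℕ := rowOf (fun h => rows.get h) (nat_lit 5) (nat_lit 31) (nat_lit 256) (nat_lit 0xffffffffffffffffffffffffffffffffffffffffffffffffffffffffffffffff) n
noncomputable def xleaf (h : ℕ) : ℕ := recs.get h
noncomputable def mF : ℕ → ℕ := mainRow row (rowChk row xleaf outer (nat_lit 8) (nat_lit 255) (nat_lit 15) (nat_lit 12) (nat_lit 4095) (nat_lit 524287) (nat_lit 128) (nat_lit 15) (nat_lit 256) (nat_lit 9) (nat_lit 511) (nat_lit 17) (nat_lit 131071) (nat_lit 8) (nat_lit 255) cols)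
noncomputable def xF : ℕ → ℕ → ℕ := xLeaf row xleaf outer (nat_lit 255) (nat_lit 12) (nat_lit 524287) (nat_lit 128) (nat_lit 15) (nat_lit 9) (nat_lit 511) (nat_lit 17) (nat_lit 131071) (nat_lit 130560) (nat_lit 8) (nat_lit 255) (nat_lit 10) (nat_lit 1023) (nat_lit 4) (nat_lit 15) (nat_lit 237) (nat_lit 7680) (nat_lit 128)
noncomputable def cert : Cert := ⟨row, xleaf, outer, cols, nat_lit 8, nat_lit 255, nat_lit 15, nat_lit 12, nat_lit 4095, nat_lit 524287, nat_lit 128, nat_lit 15, nat_lit 256, nat_lit 9, nat_lit 511, nat_lit 17, nat_lit 131071, nat_lit 130560, nat_lit 8, nat_lit 255, nat_lit 10, nat_lit 1023, nat_lit 4, nat_lit 15, nat_lit 237, nat_lit 7680, nat_lit 128, nat_lit 19, nat_lit 128, nat_lit 1⟩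
theorem tabok : tabOK (fun i => invL.getD i i) rels subs outer cols (nat_lit 9) (nat_lit 237) = true := by decide +kernel
theorem m0 : rng mF (nat_lit 1) (nat_lit 15) = 0 := by decide +kernel
noncomputable def s0 : List ℕ := [nat_lit 0x1004010040100401004010040100400464000000000000460720000047c0046032001230000047042001270011e0c8004ac00470324ac0000118108004c4004a83200135469340cc000013b4bd340cd3b4bd204e0434f5364f13b1113b4ac004a93a1492a501425052b0012a50081001454ec32001454fc33001474b433001474c83451d2b08c00525390c80052d240d54b474235353108c00545280d95147c2354d2308d5949c2300000000000000000000000000000000000000000000000000000000000000000000000000000000000000000000000000000000000000000000000000000000000000000000000000000000000000000000000000000000000000000000000000000000]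
theorem x0 : xs xF s0 (nat_lit 1) = 0 := by decide +kernel
theorem mz0 : AllZ mF 1 (nat_lit 16) := (AllZ.step (AllZ.nil mF 1) (nat_lit 15) (nat_lit 16) rfl m0)
theorem xz0 : XZ xF (nat_lit 1) := (XZ.step (XZ.nil xF) s0 (nat_lit 1) (nat_lit 1) (by decide +kernel) x0)
/-- the certificate (15 points) is valid -/
theorem valid : cert.Valid (fun i => invL.getD i i) rels subs 13 :=
  ⟨by decide +kernel, tabok, by decide +kernel, mz0, xz0⟩
theorem cert_N : cert.N = 15 := rfl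

end CL.TC.HeldI
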