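import Cfsg.Agent.Spor.TCSound

/-! coset enumeration certificate generated by tools/tc -/

set_option maxRecDepth 100000
set_option autoImplicit false
set_option linter.all false

namespace CL.TC.HeldM00

noncomputable def rows0 : Tr ℕ := (.leaf (nat_lit 0xe322bd1857cc0af0815e102bc20579409f0815e102bca057f88970815ee6282fe5029d5853b988f1814e5029c60539c0872814e3029ce053f887f2814f0e2a2fe261de584fd409f1813e3027ce04f9c8af3813e7027cdc4ff88773813f26202fe5225fc437d38971712e2e25c5c4ba38771712ece25f583bf18af6712f261edae6e23d9847c40a72811e7023ca047a40673811e5023d2047f885f3811f4e222fe7015e9843c98672810e7021d2043a48a76810e9021d1c43f88576810f4e262fe701ffc427c985f270fe6e1fc9c3fab857370feee1ff582bf18a7a70ff4c24dae5227fc423db877270ee4e1dd1c3b9c097470eeee1df0c4bf189f770ef6614daf281bf8c4bdb06f260de4c1bc9837ab06f260deec1bfc423ab86f760df661242e660fed833d4087380ce9019d6033ac88f780ceb019d5c33f883f780cf6e182fe8a17fc41bd387f37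0be8e17cdc2fb383f470bf0e17f581ff188fb70bf6c16dae4621fc417d983f370ae8e15d5c2ba407f770af0e15f0c3ff1887b70af8c1cdaf4813f8c3fd98373609e8c13cd827b304f4609f0c13fc417b384fb609f8a1a42fe209f8c3be20473408e6811d5023b20475408f0811f8c37d28478408fa80aede8c19fc40fe38574707eae0fd9c1fac05f8707f2e0ff0c2ff1867c707f8c0edaf680df8c2fe304f4606eac0dd181bbb0375606f2c0dfc40fbb837c606f8a0c42fe205f8c2bea01f4405ea80bd9017ba02f8405f280bf8c27da82fc405f8610edfc611cd413ea8274504e8a09d9413ba8276504f2a09e9413db0279504fe20409fe203f8c1fe182f5403ec807dd00fc201f9403f4807f8c1be281fd403fa806edfc60bd100bf880f5302ec605dcc0bc18179302f4605ed00be2017d302fc608c7fc607d4807f18176201ee403e0807c900fa201f6403f0807e900fe201fe40200))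
noncomputable def recs0 : Tr ℕ := (.leaf (nat_lit 0x5b402da015a00ad0054202a1014700a3804f6027b0134009a004aa0255012100908045e022f010e0087004120209))
noncomputable def rows : Tr ℕ := rows0
noncomputable def recs : Tr ℕ := recs0
noncomputable def ci0 : CI := ⟨[], (nat_lit 0), false, (.node (nat_lit 1) (.leaf Rule.defn) (.leaf Rule.copy)), (.leaf (XRule.rot (nat_lit 0) [] 160 0))⟩
noncomputable def ci9 : CI := ⟨[0], (nat_lit 9), true, (.node (nat_lit 4) (.node (nat_lit 2) (.node (nat_lit 1) (.leaf Rule.defn) (.leaf Rule.copy)) (.node (nat_lit 1) (.leaf (Rule.fwd [nat_lit 9] 160 0)) (.leaf (Rule.fwd [nat_lit 237, nat_lit 9, nat_lit 237] 134 1)))) (.node (nat_lit 2) (.node (nat_lit 1) (.leaf (Rule.fwd [nat_lit 66, nat_lit 9, nat_lit 66] 4 0)) (.leaf (Rule.fwd [nat_lit 218, nat_lit 9, nat_lit 218] 92 1))) (.leaf (Rule.fwd [nat_lit 47, nat_lit 9, nat_lit 47] 2 0)))), (.node (nat_lit 1) (.leaf XRule.defn) (.leaf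 XRule.ax))⟩
noncomputable def ci28 : CI := ⟨[1], (nat_lit 28), true, (.node (nat_lit 4) (.node (nat_lit 2) (.node (nat_lit 1) (.leaf Rule.defn) (.leaf Rule.copy)) (.node (nat_lit 1) (.leaf (Rule.fwd [nat_lit 199, nat_lit 28, nat_lit 199] 112 1)) (.leaf (Rule.fwd [nat_lit 237, nat_lit 28, nat_lit 237] 136 1)))) (.node (nat_lit 2) (.node (nat_lit 1) (.leaf (Rule.fwd [nat_lit 9, nat_lit 28, nat_lit 85, nat_lit 9] 0 1)) (.leaf (Rule.fwd [nat_lit 66, nat_lit 28, nat_lit 66] 20 0))) (.node (nat_lit 1) (.leaf (Rule.fwd [nat_lit 218, nat_lit 28, nat_lit 218] 94 1)) (.leaf (Rule.fwd [nat_lit 47, nat_lit 104, nat_lit 28, nat_lit 47] 18 2))))), (.node (nat_lit 1) (.leaf XRule.defn) (.leaf XRule.ax))⟩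
noncomputable def ci47 : CI := ⟨[2], (nat_lit 47), true, (.node (nat_lit 4) (.node (nat_lit 2) (.node (nat_lit 1) (.leaf Rule.defn) (.leaf Rule.copy)) (.node (nat_lit 1) (.leaf (Rule.fwd [nat_lit 47] 160 0)) (.leaf (Rule.fwd [nat_lit 199, nat_lit 47, nat_lit 199] 114 1)))) (.node (nat_lit 2) (.node (nat_lit 1) (.leaf (Rule.fwd [nat_lit 237, nat_lit 47, nat_lit 237] 138 1)) (.leaf (Rule.fwd [nat_lit 9, nat_lit 47, nat_lit 9] 2 1))) (.leaf (Rule.fwd [nat_lit 66, nat_lit 123, nat_lit 47, nat_lit 66] 34 2)))), (.node (nat_lit 1) (.leaf XRule.defn) (.leaf XRule.ax))⟩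
noncomputable def ci66 : CI := ⟨[3], (nat_lit 66), true, (.node (nat_lit 4) (.node (nat_lit 2) (.node (nat_lit 1) (.leaf Rule.defn) (.leaf Rule.copy)) (.node (nat_lit 1) (.leaf (Rule.fwd [nat_lit 66] 160 0)) (.leaf (Rule.fwd [nat_lit 199, nat_lit 66, nat_lit 199] 116 1)))) (.node (nat_lit 2) (.node (nat_lit 1) (.leaf (Rule.fwd [nat_lit 9, nat_lit 66, nat_lit 9] 4 1)) (.leaf (Rule.fwd [nat_lit 218, nat_lit 66, nat_lit 218] 96 1))) (.node (nat_lit 1) (.leaf (Rule.fwd [nat_lit 47, nat_lit 66, nat_lit 123, nat_lit 47] 34 1)) (.leaf (Rule.fwd [nat_lit 47, nat_lit 66, nat_lit 47, nat_lit 123] 35 4))))), (.node (nat_lit 1) (.leaf XRule.defn) (.leaf XRule.ax))⟩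
noncomputable def ci85 : CI := ⟨[4], (nat_lit 85), true, (.node (nat_lit 4) (.node (nat_lit 2) (.node (nat_lit 1) (.leaf Rule.defn) (.leaf Rule.copy)) (.node (nat_lit 1) (.leaf (Rule.fwd [nat_lit 199, nat_lit 28, nat_lit 85, nat_lit 199] 118 1)) (.leaf (Rule.fwd [nat_lit 237, nat_lit 85, nat_lit 237] 140 1)))) (.node (nat_lit 2) (.node (nat_lit 1) (.leaf (Rule.fwd [nat_lit 9, nat_lit 85, nat_lit 9] 6 1)) (.leaf (Rule.fwd [nat_lit 66, nat_lit 85, nat_lit 66] 48 1))) (.node (nat_lit 1) (.leaf (Rule.fwd [nat_lit 218, nat_lit 85, nat_lit 218] 98 1)) (.leaf (Rule.fwd [nat_lit 47, nat_lit 85, nat_lit 142, nat_lit 47] 36 1))))), (.node (nat_lit 1) (.leaf XRule.defn) (.leaf XRule.ax))⟩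
noncomputable def ci104 : CI := ⟨[5], (nat_lit 104), true, (.node (nat_lit 4) (.node (nat_lit 2) (.node (nat_lit 1) (.leaf Rule.defn) (.leaf Rule.copy)) (.node (nat_lit 1) (.leaf (Rule.fwd [nat_lit 199, nat_lit 104, nat_lit 199] 120 1)) (.leaf (Rule.fwd [nat_lit 237, nat_lit 104, nat_lit 237] 142 1)))) (.node (nat_lit 2) (.node (nat_lit 1) (.leaf (Rule.fwd [nat_lit 9, nat_lit 104, nat_lit 142, nat_lit 9] 8 1)) (.leaf (Rule.fwd [nat_lit 66, nat_lit 104, nat_lit 161, nat_lit 66] 50 1))) (.node (nat_lit 1) (.leaf (Rule.fwd [nat_lit 218, nat_lit 28, nat_lit 104, nat_lit 218] 100 1)) (.leaf (Rule.fwd [nat_lit 47, nat_lit 104, nat_lit 47] 38 1))))), (.node (nat_lit 1) (.leaf XRule.defn) (.leaf XRule.ax))⟩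
noncomputable def ci123 : CI := ⟨[6], (nat_lit 123), true, (.node (nat_lit 8) (.node (nat_lit 4) (.node (nat_lit 2) (.node (nat_lit 1) (.leaf Rule.defn) (.leaf Rule.copy)) (.node (nat_lit 1) (.leaf (Rule.fwd [nat_lit 199, nat_lit 123, nat_lit 199] 122 1)) (.leaf (Rule.fwd [nat_lit 237, nat_lit 47, nat_lit 123, nat_lit 237] 144 1)))) (.node (nat_lit 2) (.node (nat_lit 1) (.leaf (Rule.fwd [nat_lit 9, nat_lit 123, nat_lit 9] 10 1)) (.leaf (Rule.fwd [nat_lit 66, nat_lit 123, nat_lit 66] 52 1))) (.node (nat_lit 1) (.leaf (Rule.fwd [nat_lit 218, nat_lit 66, nat_lit 123, nat_lit 218] 102 1)) (.leaf (Rule.fwd [nat_lit 123] 160 0))))) (.leaf (Rule.fwd [nat_lit 47, nat_lit 123, nat_lit 47] 40 1))), (.node (nat_lit 1) (.leaf XRule.defn) (.leaf XRule.ax))⟩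
noncomputable def ci142 : CI := ⟨[7], (nat_lit 142), true, (.node (nat_lit 4) (.node (nat_lit 2) (.node (nat_lit 1) (.leaf Rule.defn) (.leaf Rule.copy)) (.node (nat_lit 1) (.leaf (Rule.fwd [nat_lit 199, nat_lit 104, nat_lit 142, nat_lit 199] 124 1)) (.leaf (Rule.fwd [nat_lit 237, nat_lit 142, nat_lit 237] 146 1)))) (.node (nat_lit 2) (.node (nat_lit 1) (.leaf (Rule.fwd [nat_lit 9, nat_lit 142, nat_lit 9] 12 1)) (.leaf (Rule.fwd [nat_lit 66, nat_lit 142, nat_lit 180, nat_lit 66] 54 1))) (.node (nat_lit 1) (.leaf (Rule.fwd [nat_lit 218, nat_lit 85, nat_lit 142, nat_lit 218] 104 1)) (.leaf (Rule.fwd [nat_lit 47, nat_lit 142, nat_lit 47] 42 1))))), (.node (nat_lit 1) (.leaf XRule.defn) (.leaf XRule.ax))⟩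
noncomputable def ci161 : CI := ⟨[8], (nat_lit 161), true, (.node (nat_lit 4) (.node (nat_lit 2) (.node (nat_lit 1) (.leaf Rule.defn) (.leaf Rule.copy)) (.node (nat_lit 1) (.leaf (Rule.fwd [nat_lit 199, nat_lit 161, nat_lit 199] 126 1)) (.leaf (Rule.fwd [nat_lit 237, nat_lit 104, nat_lit 161, nat_lit 237] 148 1)))) (.node (nat_lit 2) (.node (nat_lit 1) (.leaf (Rule.fwd [nat_lit 9, nat_lit 161, nat_lit 180, nat_lit 9] 14 1)) (.leaf (Rule.fwd [nat_lit 66, nat_lit 161, nat_lit 66] 56 1))) (.node (nat_lit 1) (.leaf (Rule.fwd [nat_lit 218, nat_lit 161, nat_lit 218] 106 1)) (.leaf (Rule.fwd [nat_lit 47, nat_lit 161, nat_lit 47] 44 1))))), (.node (nat_lit 1) (.leaf XRule.defn) (.leaf XRule.ax))⟩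
noncomputable def ci180 : CI := ⟨[9], (nat_lit 180), true, (.node (nat_lit 4) (.node (nat_lit 2) (.node (nat_lit 1) (.leaf Rule.defn) (.leaf Rule.copy)) (.node (nat_lit 1) (.leaf (Rule.fwd [nat_lit 199, nat_lit 161, nat_lit 180, nat_lit 199] 128 1)) (.leaf (Rule.fwd [nat_lit 237, nat_lit 142, nat_lit 180, nat_lit 237] 150 1)))) (.node (nat_lit 2) (.node (nat_lit 1) (.leaf (Rule.fwd [nat_lit 9, nat_lit 180, nat_lit 9] 16 1)) (.leaf (Rule.fwd [nat_lit 66, nat_lit 180, nat_lit 66] 58 1))) (.node (nat_lit 1) (.leaf (Rule.fwd [nat_lit 218, nat_lit 180, nat_lit 218] 108 1)) (.leaf (Rule.fwd [nat_lit 47, nat_lit 180, nat_lit 47] 46 1))))), (.node (nat_lit 1) (.leaf XRule.defn) (.leaf XRule.ax))⟩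
noncomputable def ci199 : CI := ⟨[10], (nat_lit 199), false, (.node (nat_lit 4) (.node (nat_lit 2) (.node (nat_lit 1) (.leaf Rule.defn) (.leaf Rule.copy)) (.node (nat_lit 1) (.leaf (Rule.fwd [nat_lit 199] 160 0)) (.leaf (Rule.fwd [nat_lit 237, nat_lit 199, nat_lit 237] 152 0)))) (.node (nat_lit 2) (.node (nat_lit 1) (.leaf (Rule.fwd [nat_lit 9, nat_lit 199, nat_lit 9, nat_lit 199, nat_lit 9] 110 1)) (.leaf (Rule.fwd [nat_lit 66, nat_lit 199, nat_lit 66] 116 0))) (.node (nat_lit 1) (.leaf (Rule.fwd [nat_lit 218, nat_lit 199, nat_lit 218] 130 0)) (.leaf (Rule.fwd [nat_lit 47, nat_lit 199, nat_lit 47] 114 0))))), (.node (nat_lit 1) (.leaf XRule.defn) (.leaf XRule.defn))⟩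
noncomputable def ci218 : CI := ⟨[11], (nat_lit 218), true, (.node (nat_lit 4) (.node (nat_lit 2) (.node (nat_lit 1) (.leaf Rule.defn) (.leaf Rule.copy)) (.node (nat_lit 1) (.leaf (Rule.fwd [nat_lit 218] 160 0)) (.leaf (Rule.fwd [nat_lit 199, nat_lit 218, nat_lit 199] 130 1)))) (.node (nat_lit 1) (.leaf (Rule.fwd [nat_lit 9, nat_lit 218, nat_lit 9] 92 0)) (.leaf (Rule.fwd [nat_lit 47, nat_lit 218, nat_lit 47, nat_lit 218, nat_lit 47] 90 1)))), (.node (nat_lit 1) (.leaf XRule.defn) (.leaf XRule.ax))⟩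
noncomputable def ci237 : CI := ⟨[12], (nat_lit 237), false, (.node (nat_lit 8) (.node (nat_lit 4) (.node (nat_lit 2) (.node (nat_lit 1) (.leaf Rule.defn) (.leaf Rule.copy)) (.node (nat_lit 1) (.leaf (Rule.fwd [nat_lit 237] 160 0)) (.leaf (Rule.fwd [nat_lit 66, nat_lit 237, nat_lit 66, nat_lit 237, nat_lit 66] 132 1)))) (.node (nat_lit 2) (.node (nat_lit 1) (.leaf (Rule.fwd [nat_lit 66, nat_lit 218, nat_lit 237, nat_lit 66, nat_lit 218, nat_lit 237, nat_lit 66, nat_lit 218] 156 2)) (.leaf (Rule.fwd [nat_lit 47, nat_lit 218, nat_lit 237, nat_lit 47, nat_lit 218, nat_lit 237, nat_lit 47, nat_lit 218] 158 2))) (.node (nat_lit 1) (.leaf (Rule.fwd [nat_lit 47, nat_lit 237, nat_lit 47] 138 0)) (.leaf (Rule.fwd [nat_lit 199, nat_lit 237, nat_lit 199] 152 1))))) (.leaf (Rule.fwd [nat_lit 9, nat_lit 237, nat_lit 9] 134 0))), (.node (nat_lit 1) (.leaf XRule.defn) (.leaf XRule.defn))⟩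
noncomputable def outer : Tr CI := (.node (nat_lit 1) (.node (nat_lit 2) (.node (nat_lit 4) (.node (nat_lit 8) (.leaf ci0) (.leaf ci104)) (.node (nat_lit 8) (.leaf ci180) (.leaf ci28))) (.node (nat_lit 4) (.node (nat_lit 8) (.leaf ci66) (.leaf ci218)) (.leaf ci142))) (.node (nat_lit 2) (.node (nat_lit 4) (.node (nat_lit 8) (.leaf ci161) (.leaf ci9)) (.node (nat_lit 8) (.leaf ci85) (.leaf ci237))) (.node (nat_lit 4) (.leaf ci123) (.node (nat_lit 8) (.leaf ci199) (.leaf ci47)))))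
def cols : List ℕ := [nat_lit 9, nat_lit 28, nat_lit 47, nat_lit 66, nat_lit 85, nat_lit 104, nat_lit 123, nat_lit 142, nat_lit 161, nat_lit 180, nat_lit 199, nat_lit 218, nat_lit 237]
def invL : List ℕ := [0, 1, 2, 3, 4, 5, 6, 7, 8, 9, 10, 11, 12]
def rels : List (List ℕ) := [[0, 1, 0, 1, 4], [0, 2, 0, 2], [0, 3, 0, 3], [0, 4, 0, 4], [0, 5, 0, 5, 7], [0, 6, 0, 6], [0, 7, 0, 7], [0, 8, 0, 8, 9], [0, 9, 0, 9], [1, 2, 1, 2, 5], [1, 3, 1, 3], [1, 4, 1, 4], [1, 5, 1, 5], [1, 6, 1, 6, 8], [1, 7, 1, 7], [1, 8, 1, 8], [1, 9, 1, 9], [2, 3, 2, 3, 6], [2, 4, 2, 4, 7], [2, 5, 2, 5], [2, 6, 2, 6], [2, 7, 2, 7], [2, 8, 2, 8], [2, 9, 2, 9], [3, 4, 3, 4], [3, 5, 3, 5, 8], [3, 6, 3, 6], [3, 7, 3, 7, 9], [3, 8, 3, 8], [3, 9, 3, 9], [4, 5, 4, 5], [4, 6, 4, 6, 9], [4, 7, 4, 7], [4, 8, 4, 8], [4, 9, 4, 9], [5, 6, 5, 6], [5, 7, 5, 7], [5, 8, 5, 8], [5, 9, 5, 9], [6, 7, 6, 7], [6, 8, 6, 8], [6, 9, 6, 9], [7, 8, 7, 8], [7, 9,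 7, 9], [8, 9, 8, 9], [2, 11, 2, 11, 2, 11], [11, 0, 11, 0], [11, 1, 11, 1], [11, 3, 11, 3], [11, 4, 11, 4], [11, 5, 11, 1, 5], [11, 6, 11, 3, 6], [11, 7, 11, 4, 7], [11, 8, 11, 8], [11, 9, 11, 9], [0, 10, 0, 10, 0, 10], [10, 1, 10, 1], [10, 2, 10, 2], [10, 3, 10, 3], [10, 4, 10, 1, 4], [10, 5, 10, 5], [10, 6, 10, 6], [10, 7, 10, 5, 7], [10, 8, 10, 8], [10, 9, 10, 8, 9], [10, 11, 10, 11], [3, 12, 3, 12, 3, 12], [12, 0, 12, 0], [12, 1, 12, 1], [12, 2, 12, 2], [12, 4, 12, 4], [12, 5, 12, 5], [12, 6, 12, 2, 6], [12, 7, 12, 7], [12, 8, 12, 5, 8], [12, 9, 12, 7, 9], [10, 12, 10, 12], [11, 12, 11, 12, 11, 12, 11, 12], [3, 11, 12, 3, 11, 12, 3, 11, 12], [2, 11, 12, 2, 11, 12, 2, 11, 12]]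
def subs : List (List ℕ) := [[0], [1], [2], [3], [4], [5], [6], [7], [8], [9], [11]]
noncomputable def row (n : ℕ) : ℕ := rowOf (fun h => rows.get h) (nat_lit 5) (nat_lit 31) (nat_lit 256) (nat_lit 0xffffffffffffffffffffffffffffffffffffffffffffffffffffffffffffffff) n
noncomputable def xleaf (h : ℕ) : ℕ := recs.get h
noncomputable def mF : ℕ → ℕ := mainRow row (rowChk row xleaf outer (nat_lit 8) (nat_lit 255) (nat_lit 15) (nat_lit 12) (nat_lit 4095) (nat_lit 524287) (nat_lit 128) (nat_lit 21) (nat_lit 256) (nat_lit 9) (nat_lit 511) (nat_lit 17) (nat_lit 131071) (nat_lit 8) (nat_lit 255) cols)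
noncomputable def xF : ℕ → ℕ → ℕ := xLeaf row xleaf outer (nat_lit 255) (nat_lit 12) (nat_lit 524287) (nat_lit 128) (nat_lit 21) (nat_lit 9) (nat_lit 511) (nat_lit 17) (nat_lit 131071) (nat_lit 130560) (nat_lit 8) (nat_lit 255) (nat_lit 10) (nat_lit 1023) (nat_lit 2) (nat_lit 3) (nat_lit 237) (nat_lit 10752) (nat_lit 128)
noncomputable def cert : Cert := ⟨row, xleaf, outer, cols, nat_lit 8, nat_lit 255, nat_lit 15, nat_lit 12, nat_lit 4095, nat_lit 524287, nat_lit 128, nat_lit 21, nat_lit 256, nat_lit 9, nat_lit 511, nat_lit 17, nat_lit 131071, nat_lit 130560, nat_lit 8, nat_lit 255, nat_lit 10, nat_lit 1023, nat_lit 2, nat_lit 3, nat_lit 237, nat_lit 10752, nat_lit 128, nat_lit 19, nat_lit 128, nat_lit 1⟩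
theorem tabok : tabOK (fun i => invL.getD i i) rels subs outer cols (nat_lit 9) (nat_lit 237) = true := by decide +kernel
theorem m0 : rng mF (nat_lit 1) (nat_lit 21) = 0 := by decide +kernel
noncomputable def s0 : List ℕ := [nat_lit 0x401004010040100401004010040000000000000000000000000000000000000000000000000000000000000000000000000000000000000000000000000000000000000000000000000000000000000000000000000000000000000000000000000000000000000000000000000000000000000000000000000000000000000000000000000000000000000000000000000000000000000000000000000000]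
theorem x0 : xs xF s0 (nat_lit 1) = 0 := by decide +kernel
theorem mz0 : AllZ mF 1 (nat_lit 22) := (AllZ.step (AllZ.nil mF 1) (nat_lit 21) (nat_lit 22) rfl m0)
theorem xz0 : XZ xF (nat_lit 1) := (XZ.step (XZ.nil xF) s0 (nat_lit 1) (nat_lit 1) (by decide +kernel) x0)
/-- the certificate (21 points) is valid -/
theorem valid : cert.Valid (fun i => invL.getD i i) rels subs 13 :=
  ⟨by decide +kernel, tabok, by decide +kernel, mz0, xz0⟩
theorem cert_N : cert.N = 21 := rfl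

end CL.TC.HeldM00
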