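import Cfsg.Agent.Spor.TCSound

/-! coset enumeration certificate generated by tools/tc -/

set_option maxRecDepth 100000
set_option autoImplicit false
set_option linter.all false

namespace CL.TC.HeldM01

noncomputable def rows0 : Tr ℕ := (.node (nat_lit 1) (.leaf (nat_lit 0xf8859b94576a9171620e4c41c5883f196f2620e6c41fc44b941673620dc63242e0637b8c5b818e7151fe2a3fcd47f71937351fe6a3fc2c67848e7351ffe22409fe221c9caf918bf141ee483dc507b998c7241ee283df8cb39990f141edc656ede6a43d5877b189f181de503bc60779988f281de303bce077f8887281de0e542ffe21fce0978a8ff141ce2839cd073f195f341ce6839b8c9f798ff341ce2630ede2e3fe586fc40df181be3037be46f9c957381be7037cdc6ff887f381be26222fdca4dfc43bc38d7171ae2e35c5c6ba407f171ae6e35f583ff1957371ae2620dadc833fc437e193f2719e6e33d1c67f194f4719e8e33bcc7ff19474719dea40daee623f8c9ff886f2318e6631d0c63a50f74318e8631f0c97cb0974318e4838c7e6627f8c9b9c8f72917e722fd285ff886f4917e522ff0c93ad0a73917e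28287bf8847be47ff192f2616e6c2dc985bf19273616e8c2dfc4379c11f4616da64442fe219b4c83cc8972415e682bd1057ad0a74415e882bacc8bec86f4415e881aedfe217b18878990f2414e6829c9053a18af3414e4829f8c8fa18bf2414e062eede8a2fd984fbc0ef2813e7027ca04fa18673813e5027d204ff885f3813e8e262ffe215f8c8bc18af2412e6825d104bf190f4412e8825f8c83c18c74412fc63eedf0c31e9847c18672811e7023d2047a48ef4811e9023d1c47f88574811e4e362ffc63dfc427c185f2710e6e21c9c43ac0573710e8e21f582bf18ef4710e4c34dafc639fc423cb87f270fe4e1fd1c3f998d7470fe8e1ff0c6bf18df470fe6614daf281df8c6bcb077260ee4c1dc983bab877260ee8c1dfc423ac077460ee661242fe20ff8c67f18c7340de881bd5037f18bf540dea81bf8c5be18af540de662aedfc62be9833cc08f380ce9019d6033ac89f580ceb019d5c33f883f580ceae182ffc629fc41bcb887370be8e17cdc2fb403f470beae17f581ff189f570beac16dafc625fc417d183f370ae8e15d5c2ba1887570aeae15f0c43f188f570ae8c1edaf4813f8c43d18373609e8c13cd827b384f4609eac13fc417b404f5609e8a1c42fe209f8c3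fd20473408e6811d5023b28475408ea811f8c3bd48475408ea80aedfc61bfc40fdb8574707eae0fd9c1fa985f6707ece0ff0c2ff18676707ecc0edaf680df8c2fdb04f4606eac0dd181bbb8375606ecc0dfc40fbc0376606eca0c42fe205f8c2be201f4405ea80bd9017ba82f8405ec80bf8c27da82f6405e8610edfc611cd413ea8274504e8a09d9413bb0276504f2a09e9413db8279504fe20409fe203f8c1fd982f5403ec807dd00fc281f9403ee807f8c1bdb01f7403ee806edfc60bd100bf880f5302ec605dcc0bc20179302f4605ed00be2017d302fc608c7fc607d4807f18176201ee403e0807c900fa201f6403f0807e900fe201fe40200)) (.leaf (nat_lit 0xdf05bb988f8191f092de325bc28b7f8907192de125bf6487c592f192ddd2527bf6641b68a379927062ce2c59c18b38d92f162ce0c59fc47b89907062cdce5042e2655c4c7b75137092be1257ca8aff88e7292be1257b4ca36e137092bdf03c7be4a57d18abbc157082ae1055b64ab918df082ae1055ca0abf88d7082ade63a2fda84ff0c936b1471929e5253ce8a7f88cf3929e3253f0c9b7593f2929da65a7bdb251b0cb36194f1828e5051ce0a37593f3828e7051bb0aff88cf3828da6582fd8653fc463eb8cf1727e4e4fcdc9f699473727e6e4fbd0736994f3727e064adada635fc45f6995f1726e4e4dc5c9b7b8ff2726e2e4df68a76195f2726da642dae2c4bc8c73f88b71325e464bc4c97819672325e664bf5063b996f3325e2c4ec7e2a49f5ca7851671924e5249c6893f88b72924e3249f645f619172924de6467bf662db4cb78b16f1623e4c47c588f6c1172623e2c47fc453918b71623e0a4842d7445fc44b619071722e4e45cdc8b6191f3722e6e45b34576e9273722dcc2cdae463bacc53920a71921e5243ce887f88973921e3243f0cb7a50f72921dd24c7b)))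
noncomputable def recs0 : Tr ℕ := (.leaf (nat_lit 0x5b402da015a00ad0054202a1014700a3804f6027b0134009a004aa0255012100908045e022f010e0087004120209))
noncomputable def rows : Tr ℕ := rows0
noncomputable def recs : Tr ℕ := recs0
noncomputable def ci0 : CI := ⟨[], (nat_lit 0), false, (.node (nat_lit 1) (.leaf Rule.defn) (.leaf Rule.copy)), (.leaf (XRule.rot (nat_lit 0) [] 170 0))⟩
noncomputable def ci9 : CI := ⟨[0], (nat_lit 9), true, (.node (nat_lit 8) (.node (nat_lit 4) (.node (nat_lit 2) (.node (nat_lit 1) (.leaf Rule.defn) (.leaf Rule.copy)) (.node (nat_lit 1) (.leaf (Rule.fwd [nat_lit 9] 170 0)) (.leaf (Rule.fwd [nat_lit 237, nat_lit 9, nat_lit 47, nat_lit 142, nat_lit 237] 134 1)))) (.node (nat_lit 2) (.node (nat_lit 1) (.leaf (Rule.fwd [nat_lit 66, nat_lit 9, nat_lit 66] 4 0)) (.leaf (Rule.fwd [nat_lit 218, nat_lit 9, nat_lit 218] 92 1))) (.node (nat_lit 1) (.leaf (Rule.fwd [nat_lit 47, nat_lit 9,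 nat_lit 47] 2 0)) (.leaf (Rule.fwd [nat_lit 237, nat_lit 142, nat_lit 47, nat_lit 9, nat_lit 237] 135 2))))) (.leaf (Rule.fwd [nat_lit 123, nat_lit 9, nat_lit 123] 10 0))), (.node (nat_lit 1) (.leaf XRule.defn) (.leaf XRule.ax))⟩
noncomputable def ci28 : CI := ⟨[1], (nat_lit 28), true, (.node (nat_lit 8) (.node (nat_lit 4) (.node (nat_lit 2) (.node (nat_lit 1) (.leaf Rule.defn) (.leaf Rule.copy)) (.node (nat_lit 1) (.leaf (Rule.fwd [nat_lit 199, nat_lit 28, nat_lit 199] 112 1)) (.leaf (Rule.fwd [nat_lit 237, nat_lit 28, nat_lit 142, nat_lit 237] 136 1)))) (.node (nat_lit 2) (.node (nat_lit 1) (.leaf (Rule.fwd [nat_lit 9, nat_lit 28, nat_lit 85, nat_lit 9] 0 1)) (.leaf (Rule.fwd [nat_lit 66, nat_lit 28, nat_lit 66] 20 0))) (.node (nat_lit 1) (.leaf (Rule.fwd [nat_lit 218, nat_lit 28, nat_lit 218] 94 1)) (.leaf (Rule.fwd [nat_lit 47, nat_lit 104, nat_lit 28, nat_lit 47] 18 2))))) (.leaf (Rule.fwd [nat_lit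 123, nat_lit 161, nat_lit 28, nat_lit 123] 26 2))), (.node (nat_lit 1) (.leaf XRule.defn) (.leaf XRule.ax))⟩
noncomputable def ci47 : CI := ⟨[2], (nat_lit 47), true, (.node (nat_lit 8) (.node (nat_lit 4) (.node (nat_lit 2) (.node (nat_lit 1) (.leaf Rule.defn) (.leaf Rule.copy)) (.node (nat_lit 1) (.leaf (Rule.fwd [nat_lit 47] 170 0)) (.leaf (Rule.fwd [nat_lit 199, nat_lit 47, nat_lit 199] 114 1)))) (.node (nat_lit 2) (.node (nat_lit 1) (.leaf (Rule.fwd [nat_lit 199, nat_lit 237, nat_lit 199, nat_lit 237] 152 4)) (.leaf (Rule.fwd [nat_lit 237, nat_lit 199, nat_lit 237, nat_lit 199] 153 0))) (.node (nat_lit 1) (.leaf (Rule.fwd [nat_lit 9, nat_lit 47, nat_lit 9] 2 1)) (.leaf (Rule.fwd [nat_lit 66, nat_lit 123, nat_lit 47, nat_lit 66] 34 2))))) (.node (nat_lit 4) (.node (nat_lit 2) (.node (nat_lit 1) (.leaf (Rule.fwd [nat_lit 237, nat_lit 47, nat_lit 237] 138 1)) (.leaf (Rule.fwd [nat_lit 237, nat_lit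 123, nat_lit 237, nat_lit 123] 145 4))) (.node (nat_lit 1) (.leaf (Rule.fwd [nat_lit 66, nat_lit 47, nat_lit 66, nat_lit 123] 34 0)) (.leaf (Rule.fwd [nat_lit 123, nat_lit 66, nat_lit 47, nat_lit 66] 35 1)))) (.leaf (Rule.fwd [nat_lit 218, nat_lit 47, nat_lit 218, nat_lit 47, nat_lit 218] 90 0)))), (.node (nat_lit 1) (.leaf XRule.defn) (.leaf XRule.ax))⟩
noncomputable def ci66 : CI := ⟨[3], (nat_lit 66), true, (.node (nat_lit 8) (.node (nat_lit 4) (.node (nat_lit 2) (.node (nat_lit 1) (.leaf Rule.defn) (.leaf Rule.copy)) (.node (nat_lit 1) (.leaf (Rule.fwd [nat_lit 66] 170 0)) (.leaf (Rule.fwd [nat_lit 199, nat_lit 66, nat_lit 199] 116 1)))) (.node (nat_lit 2) (.node (nat_lit 1) (.leaf (Rule.fwd [nat_lit 9, nat_lit 66, nat_lit 9] 4 1)) (.leaf (Rule.fwd [nat_lit 218, nat_lit 66, nat_lit 218] 96 1))) (.node (nat_lit 1) (.leaf (Rule.fwd [nat_lit 47, nat_lit 66, nat_lit 123, nat_lit 47] 34 1)) (.leaf (Rule.fwd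 [nat_lit 47, nat_lit 66, nat_lit 47, nat_lit 123] 35 4))))) (.node (nat_lit 4) (.node (nat_lit 2) (.node (nat_lit 1) (.leaf (Rule.fwd [nat_lit 123, nat_lit 66, nat_lit 123] 52 0)) (.leaf (Rule.fwd [nat_lit 123, nat_lit 218, nat_lit 123, nat_lit 218] 102 3))) (.node (nat_lit 1) (.leaf (Rule.fwd [nat_lit 218, nat_lit 237, nat_lit 104, nat_lit 218, nat_lit 9, nat_lit 237, nat_lit 104, nat_lit 199, nat_lit 66, nat_lit 218, nat_lit 237, nat_lit 104, nat_lit 218, nat_lit 9, nat_lit 237, nat_lit 104, nat_lit 199] 160 0)) (.leaf (Rule.fwd [nat_lit 123, nat_lit 47, nat_lit 66, nat_lit 47] 34 3)))) (.leaf (Rule.fwd [nat_lit 218, nat_lit 123, nat_lit 218, nat_lit 123] 103 4)))), (.node (nat_lit 1) (.leaf XRule.defn) (.leaf XRule.ax))⟩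
noncomputable def ci85 : CI := ⟨[4], (nat_lit 85), true, (.node (nat_lit 8) (.node (nat_lit 4) (.node (nat_lit 2) (.node (nat_lit 1) (.leaf Rule.defn) (.leaf Rule.copy)) (.node (nat_lit 1) (.leaf (Rule.fwd [nat_lit 199, nat_lit 28, nat_lit 85, nat_lit 199] 118 1)) (.leaf (Rule.fwd [nat_lit 237, nat_lit 85, nat_lit 104, nat_lit 142, nat_lit 237] 140 1)))) (.node (nat_lit 2) (.node (nat_lit 1) (.leaf (Rule.fwd [nat_lit 9, nat_lit 85, nat_lit 9] 6 1)) (.leaf (Rule.fwd [nat_lit 66, nat_lit 85, nat_lit 66] 48 1))) (.node (nat_lit 1) (.leaf (Rule.fwd [nat_lit 218, nat_lit 85, nat_lit 218] 98 1)) (.leaf (Rule.fwd [nat_lit 47, nat_lit 85, nat_lit 142, nat_lit 47] 36 1))))) (.leaf (Rule.fwd [nat_lit 123, nat_lit 180, nat_lit 85, nat_lit 123] 62 2))), (.node (nat_lit 1) (.leaf XRule.defn) (.leaf XRule.ax))⟩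
noncomputable def ci104 : CI := ⟨[5], (nat_lit 104), true, (.node (nat_lit 8) (.node (nat_lit 4) (.node (nat_lit 2) (.node (nat_lit 1) (.leaf Rule.defn) (.leaf Rule.copy)) (.node (nat_lit 1) (.leaf (Rule.fwd [nat_lit 199, nat_lit 104, nat_lit 199] 120 1)) (.leaf (Rule.fwd [nat_lit 237, nat_lit 104, nat_lit 237] 142 1)))) (.node (nat_lit 2) (.node (nat_lit 1) (.leaf (Rule.fwd [nat_lit 9, nat_lit 104, nat_lit 142, nat_lit 9] 8 1)) (.leaf (Rule.fwd [nat_lit 66, nat_lit 104, nat_lit 161, nat_lit 66] 50 1))) (.node (nat_lit 1) (.leaf (Rule.fwd [nat_lit 218, nat_lit 28, nat_lit 104, nat_lit 218] 100 1)) (.leaf (Rule.fwd [nat_lit 47, nat_lit 104, nat_lit 47] 38 1))))) (.leaf (Rule.fwd [nat_lit 123, nat_lit 104, nat_lit 123] 70 0))), (.node (nat_lit 1) (.leaf XRule.defn) (.leaf XRule.ax))⟩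
noncomputable def ci123 : CI := ⟨[6], (nat_lit 123), true, (.node (nat_lit 8) (.node (nat_lit 4) (.node (nat_lit 2) (.node (nat_lit 1) (.leaf Rule.defn) (.leaf Rule.copy)) (.node (nat_lit 1) (.leaf (Rule.fwd [nat_lit 123] 170 0)) (.leaf (Rule.fwd [nat_lit 199, nat_lit 123, nat_lit 199] 122 1)))) (.node (nat_lit 2) (.node (nat_lit 1) (.leaf (Rule.fwd [nat_lit 237, nat_lit 47, nat_lit 123, nat_lit 237] 144 1)) (.leaf (Rule.fwd [nat_lit 9, nat_lit 123, nat_lit 9] 10 1))) (.node (nat_lit 1) (.leaf (Rule.fwd [nat_lit 66, nat_lit 123, nat_lit 66] 52 1)) (.leaf (Rule.fwd [nat_lit 218, nat_lit 66, nat_lit 123, nat_lit 218] 102 1))))) (.node (nat_lit 2) (.node (nat_lit 1) (.leaf (Rule.fwd [nat_lit 47, nat_lit 123, nat_lit 47] 40 1)) (.leaf (Rule.fwd [nat_lit 237, nat_lit 123, nat_lit 47, nat_lit 237] 145 2))) (.leaf (Rule.fwd [nat_lit 66, nat_lit 47, nat_lit 66, nat_lit 47] 35 0)))), (.node (nat_lit 1) (.leaf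 XRule.defn) (.leaf XRule.ax))⟩
noncomputable def ci142 : CI := ⟨[7], (nat_lit 142), true, (.node (nat_lit 8) (.node (nat_lit 4) (.node (nat_lit 2) (.node (nat_lit 1) (.leaf Rule.defn) (.leaf Rule.copy)) (.node (nat_lit 1) (.leaf (Rule.fwd [nat_lit 199, nat_lit 104, nat_lit 142, nat_lit 199] 124 1)) (.leaf (Rule.fwd [nat_lit 237, nat_lit 142, nat_lit 237] 146 1)))) (.node (nat_lit 2) (.node (nat_lit 1) (.leaf (Rule.fwd [nat_lit 9, nat_lit 142, nat_lit 9] 12 1)) (.leaf (Rule.fwd [nat_lit 66, nat_lit 142, nat_lit 180, nat_lit 66] 54 1))) (.node (nat_lit 1) (.leaf (Rule.fwd [nat_lit 218, nat_lit 85, nat_lit 142, nat_lit 218] 104 1)) (.leaf (Rule.fwd [nat_lit 47, nat_lit 142, nat_lit 47] 42 1))))) (.node (nat_lit 1) (.leaf (Rule.fwd [nat_lit 47, nat_lit 9, nat_lit 237, nat_lit 9, nat_lit 237] 135 0)) (.leaf (Rule.fwd [nat_lit 123, nat_lit 142, nat_lit 123] 78 1)))), (.node (nat_lit 1) (.leaf XRule.defn)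 (.leaf XRule.ax))⟩
noncomputable def ci161 : CI := ⟨[8], (nat_lit 161), true, (.node (nat_lit 8) (.node (nat_lit 4) (.node (nat_lit 2) (.node (nat_lit 1) (.leaf Rule.defn) (.leaf Rule.copy)) (.node (nat_lit 1) (.leaf (Rule.fwd [nat_lit 199, nat_lit 161, nat_lit 199] 126 1)) (.leaf (Rule.fwd [nat_lit 237, nat_lit 104, nat_lit 161, nat_lit 237] 148 1)))) (.node (nat_lit 2) (.node (nat_lit 1) (.leaf (Rule.fwd [nat_lit 9, nat_lit 161, nat_lit 180, nat_lit 9] 14 1)) (.leaf (Rule.fwd [nat_lit 66, nat_lit 161, nat_lit 66] 56 1))) (.node (nat_lit 1) (.leaf (Rule.fwd [nat_lit 218, nat_lit 161, nat_lit 218] 106 1)) (.leaf (Rule.fwd [nat_lit 47, nat_lit 161, nat_lit 47] 44 1))))) (.leaf (Rule.fwd [nat_lit 123, nat_lit 161, nat_lit 123] 80 1))), (.node (nat_lit 1) (.leaf XRule.defn) (.leaf XRule.ax))⟩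
noncomputable def ci180 : CI := ⟨[9], (nat_lit 180), true, (.node (nat_lit 8) (.node (nat_lit 4) (.node (nat_lit 2) (.node (nat_lit 1) (.leaf Rule.defn) (.leaf Rule.copy)) (.node (nat_lit 1) (.leaf (Rule.fwd [nat_lit 199, nat_lit 161, nat_lit 180, nat_lit 199] 128 1)) (.leaf (Rule.fwd [nat_lit 237, nat_lit 142, nat_lit 180, nat_lit 237] 150 1)))) (.node (nat_lit 2) (.node (nat_lit 1) (.leaf (Rule.fwd [nat_lit 9, nat_lit 180, nat_lit 9] 16 1)) (.leaf (Rule.fwd [nat_lit 66, nat_lit 180, nat_lit 66] 58 1))) (.node (nat_lit 1) (.leaf (Rule.fwd [nat_lit 218, nat_lit 180, nat_lit 218] 108 1)) (.leaf (Rule.fwd [nat_lit 47, nat_lit 180, nat_lit 47] 46 1))))) (.leaf (Rule.fwd [nat_lit 123, nat_lit 180, nat_lit 123] 82 1))), (.node (nat_lit 1) (.leaf XRule.defn) (.leaf XRule.ax))⟩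
noncomputable def ci199 : CI := ⟨[10], (nat_lit 199), false, (.node (nat_lit 8) (.node (nat_lit 4) (.node (nat_lit 2) (.node (nat_lit 1) (.leaf Rule.defn) (.leaf Rule.copy)) (.node (nat_lit 1) (.leaf (Rule.fwd [nat_lit 199] 170 0)) (.leaf (Rule.fwd [nat_lit 237, nat_lit 47, nat_lit 199, nat_lit 237] 152 2)))) (.node (nat_lit 2) (.node (nat_lit 1) (.leaf (Rule.fwd [nat_lit 9, nat_lit 199, nat_lit 9, nat_lit 199, nat_lit 9] 110 1)) (.leaf (Rule.fwd [nat_lit 66, nat_lit 199, nat_lit 66] 116 0))) (.node (nat_lit 1) (.leaf (Rule.fwd [nat_lit 218, nat_lit 199, nat_lit 218] 130 0)) (.leaf (Rule.fwd [nat_lit 47, nat_lit 199, nat_lit 47] 114 0))))) (.node (nat_lit 1) (.leaf (Rule.fwd [nat_lit 237, nat_lit 199, nat_lit 47, nat_lit 237] 153 3)) (.leaf (Rule.fwd [nat_lit 123, nat_lit 199, nat_lit 123] 122 0)))), (.node (nat_lit 1) (.leaf XRule.defn) (.leaf XRule.defn))⟩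
noncomputable def ci218 : CI := ⟨[11], (nat_lit 218), true, (.node (nat_lit 8) (.node (nat_lit 4) (.node (nat_lit 2) (.node (nat_lit 1) (.leaf Rule.defn) (.leaf Rule.copy)) (.node (nat_lit 1) (.leaf (Rule.fwd [nat_lit 218] 170 0)) (.leaf (Rule.fwd [nat_lit 199, nat_lit 218, nat_lit 199] 130 1)))) (.node (nat_lit 2) (.node (nat_lit 1) (.leaf (Rule.fwd [nat_lit 9, nat_lit 218, nat_lit 9] 92 0)) (.leaf (Rule.fwd [nat_lit 47, nat_lit 218, nat_lit 47, nat_lit 218, nat_lit 47] 90 1))) (.node (nat_lit 1) (.leaf (Rule.fwd [nat_lit 123, nat_lit 218, nat_lit 66, nat_lit 123] 102 0)) (.leaf (Rule.fwd [nat_lit 66, nat_lit 199, nat_lit 104, nat_lit 237, nat_lit 9, nat_lit 218, nat_lit 104, nat_lit 237, nat_lit 218, nat_lit 66, nat_lit 199, nat_lit 104, nat_lit 237, nat_lit 9, nat_lit 218, nat_lit 104, nat_lit 237] 161 2))))) (.node (nat_lit 1) (.leaf (Rule.fwd [nat_lit 66, nat_lit 218, nat_lit 66] 96 0)) (.leaf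 (Rule.fwd [nat_lit 66, nat_lit 123, nat_lit 218, nat_lit 123] 102 2)))), (.node (nat_lit 1) (.leaf XRule.defn) (.leaf XRule.ax))⟩
noncomputable def ci237 : CI := ⟨[12], (nat_lit 237), false, (.node (nat_lit 8) (.node (nat_lit 4) (.node (nat_lit 2) (.node (nat_lit 1) (.leaf Rule.defn) (.leaf Rule.copy)) (.node (nat_lit 1) (.leaf (Rule.fwd [nat_lit 237] 170 0)) (.leaf (Rule.fwd [nat_lit 66, nat_lit 237, nat_lit 66, nat_lit 237, nat_lit 66] 132 1)))) (.node (nat_lit 2) (.node (nat_lit 1) (.leaf (Rule.fwd [nat_lit 123, nat_lit 237, nat_lit 47, nat_lit 123] 144 0)) (.leaf (Rule.fwd [nat_lit 199, nat_lit 237, nat_lit 47, nat_lit 199] 152 1))) (.node (nat_lit 1) (.leaf (Rule.fwd [nat_lit 9, nat_lit 237, nat_lit 142, nat_lit 47, nat_lit 9] 135 3)) (.leaf (Rule.fwd [nat_lit 199, nat_lit 237, nat_lit 199, nat_lit 47] 153 4))))) (.node (nat_lit 1) (.leaf (Rule.fwd [nat_lit 142, nat_lit 47, nat_lit 9, nat_lit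 237, nat_lit 9] 135 1)) (.leaf (Rule.fwd [nat_lit 9, nat_lit 237, nat_lit 9, nat_lit 47, nat_lit 142] 134 0)))), (.node (nat_lit 1) (.leaf XRule.defn) (.leaf XRule.defn))⟩
noncomputable def outer : Tr CI := (.node (nat_lit 1) (.node (nat_lit 2) (.node (nat_lit 4) (.node (nat_lit 8) (.leaf ci0) (.leaf ci104)) (.node (nat_lit 8) (.leaf ci180) (.leaf ci28))) (.node (nat_lit 4) (.node (nat_lit 8) (.leaf ci66) (.leaf ci218)) (.leaf ci142))) (.node (nat_lit 2) (.node (nat_lit 4) (.node (nat_lit 8) (.leaf ci161) (.leaf ci9)) (.node (nat_lit 8) (.leaf ci85) (.leaf ci237))) (.node (nat_lit 4) (.leaf ci123) (.node (nat_lit 8) (.leaf ci199) (.leaf ci47)))))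
def cols : List ℕ := [nat_lit 9, nat_lit 28, nat_lit 47, nat_lit 66, nat_lit 85, nat_lit 104, nat_lit 123, nat_lit 142, nat_lit 161, nat_lit 180, nat_lit 199, nat_lit 218, nat_lit 237]
def invL : List ℕ := [0, 1, 2, 3, 4, 5, 6, 7, 8, 9, 10, 11, 12]
def rels : List (List ℕ) := [[0, 1, 0, 1, 4], [0, 2, 0, 2], [0, 3, 0, 3], [0, 4, 0, 4], [0, 5, 0, 5, 7], [0, 6, 0, 6], [0, 7, 0, 7], [0, 8, 0, 8, 9], [0, 9, 0, 9], [1, 2, 1, 2, 5], [1, 3, 1, 3], [1, 4, 1, 4], [1, 5, 1, 5], [1, 6, 1, 6, 8], [1, 7, 1, 7], [1, 8, 1, 8], [1, 9, 1, 9], [2, 3, 2, 3, 6], [2, 4, 2, 4, 7], [2, 5, 2, 5], [2, 6, 2, 6], [2, 7, 2, 7], [2, 8, 2, 8], [2, 9, 2, 9], [3, 4, 3, 4], [3, 5, 3, 5, 8], [3, 6, 3, 6], [3, 7, 3, 7, 9], [3, 8, 3, 8], [3, 9, 3, 9], [4, 5, 4, 5], [4, 6, 4, 6, 9], [4, 7, 4, 7], [4, 8, 4, 8], [4, 9, 4, 9], [5, 6, 5, 6], [5, 7, 5, 7], [5, 8, 5, 8], [5, 9, 5, 9], [6, 7, 6, 7], [6, 8, 6, 8], [6, 9, 6, 9], [7, 8, 7, 8], [7,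 9, 7, 9], [8, 9, 8, 9], [2, 11, 2, 11, 2, 11], [11, 0, 11, 0], [11, 1, 11, 1], [11, 3, 11, 3], [11, 4, 11, 4], [11, 5, 11, 1, 5], [11, 6, 11, 3, 6], [11, 7, 11, 4, 7], [11, 8, 11, 8], [11, 9, 11, 9], [0, 10, 0, 10, 0, 10], [10, 1, 10, 1], [10, 2, 10, 2], [10, 3, 10, 3], [10, 4, 10, 1, 4], [10, 5, 10, 5], [10, 6, 10, 6], [10, 7, 10, 5, 7], [10, 8, 10, 8], [10, 9, 10, 8, 9], [10, 11, 10, 11], [3, 12, 3, 12, 3, 12], [12, 0, 12, 0, 2, 7], [12, 1, 12, 1, 7], [12, 2, 12, 2], [12, 4, 12, 4, 5, 7], [12, 5, 12, 5], [12, 6, 12, 2, 6], [12, 7, 12, 7], [12, 8, 12, 5, 8], [12, 9, 12, 7, 9], [10, 12, 10, 12, 2], [11, 12, 5, 11, 12, 5, 11, 12, 5, 11, 12, 5, 11, 12, 5], [2, 12, 5, 11, 12, 5, 0, 2, 12, 5, 11, 12, 5, 0], [3, 11, 12, 5, 11, 3, 11, 12, 5, 11, 3, 11, 12, 5, 11], [3, 11, 12, 5, 11, 0, 12, 5, 10, 3, 11, 12, 5, 11, 0, 12, 5, 10], [2, 11, 0, 11, 12, 5, 0, 12, 5], [3, 11, 12, 5, 3, 12, 5, 3, 12, 5, 11], [2,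 11, 2, 11, 12, 5, 2, 12, 5, 11], [3, 2, 12, 5, 2, 12, 5, 11, 3, 11]]
def subs : List (List ℕ) := [[0], [1], [2], [3], [4], [5], [6], [7], [8], [9], [11]]
noncomputable def row (n : ℕ) : ℕ := rowOf (fun h => rows.get h) (nat_lit 5) (nat_lit 31) (nat_lit 256) (nat_lit 0xffffffffffffffffffffffffffffffffffffffffffffffffffffffffffffffff) n
noncomputable def xleaf (h : ℕ) : ℕ := recs.get h
noncomputable def mF : ℕ → ℕ := mainRow row (rowChk row xleaf outer (nat_lit 8) (nat_lit 255) (nat_lit 15) (nat_lit 12) (nat_lit 4095) (nat_lit 524287) (nat_lit 128) (nat_lit 45) (nat_lit 256) (nat_lit 9) (nat_lit 511) (nat_lit 17) (nat_lit 131071) (nat_lit 8) (nat_lit 255) cols)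
noncomputable def xF : ℕ → ℕ → ℕ := xLeaf row xleaf outer (nat_lit 255) (nat_lit 12) (nat_lit 524287) (nat_lit 128) (nat_lit 45) (nat_lit 9) (nat_lit 511) (nat_lit 17) (nat_lit 131071) (nat_lit 130560) (nat_lit 8) (nat_lit 255) (nat_lit 10) (nat_lit 1023) (nat_lit 2) (nat_lit 3) (nat_lit 237) (nat_lit 23040) (nat_lit 128)
noncomputable def cert : Cert := ⟨row, xleaf, outer, cols, nat_lit 8, nat_lit 255, nat_lit 15, nat_lit 12, nat_lit 4095, nat_lit 524287, nat_lit 128, nat_lit 45, nat_lit 256, nat_lit 9, nat_lit 511, nat_lit 17, nat_lit 131071, nat_lit 130560, nat_lit 8, nat_lit 255, nat_lit 10, nat_lit 1023, nat_lit 2, nat_lit 3, nat_lit 237, nat_lit 23040, nat_lit 128, nat_lit 19, nat_lit 128, nat_lit 1⟩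
theorem tabok : tabOK (fun i => invL.getD i i) rels subs outer cols (nat_lit 9) (nat_lit 237) = true := by decide +kernel
theorem m0 : rng mF (nat_lit 1) (nat_lit 45) = 0 := by decide +kernel
noncomputable def s0 : List ℕ := [nat_lit 0x401004010040100401004010040000000000000000000000000000000000000000000000000000000000000000000000000000000000000000000000000000000000000000000000000000000000000000000000000000000000000000000000000000000000000000000000000000000000000000000000000000000000000000000000000000000000000000000000000000000000000000000000000000]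
theorem x0 : xs xF s0 (nat_lit 1) = 0 := by decide +kernel
theorem mz0 : AllZ mF 1 (nat_lit 46) := (AllZ.step (AllZ.nil mF 1) (nat_lit 45) (nat_lit 46) rfl m0)
theorem xz0 : XZ xF (nat_lit 1) := (XZ.step (XZ.nil xF) s0 (nat_lit 1) (nat_lit 1) (by decide +kernel) x0)
/-- the certificate (45 points) is valid -/
theorem valid : cert.Valid (fun i => invL.getD i i) rels subs 13 :=
  ⟨by decide +kernel, tabok, by decide +kernel, mz0, xz0⟩
theorem cert_N : cert.N = 45 := rfl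

end CL.TC.HeldM01
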