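import Cfsg.Agent.Spor.TCSound

/-! coset enumeration certificate generated by tools/tc -/

set_option maxRecDepth 100000
set_option autoImplicit false
set_option linter.all false

namespace CL.TC.HeldX

noncomputable def rows0 : Tr ℕ := (.leaf (nat_lit 0xfa80756407594075740777407f8c06ff205f8c071cfc8065a404534065b40654406f9e07ff204f8a061cff20362405674056340564405faa04fe607fd80494ff202596065d4046a4045f404f9c05fe606fc60594fe605fd803584037440355403fb803fba03ff20208fe604ff2014f4025040252402fc602fd802fe60380fc401fe602724014c4014d401fd401fe401ff40100))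
noncomputable def recs0 : Tr ℕ := (.node (nat_lit 1) (.leaf (nat_lit 0x1a800ec003e0031000e801800044002e002a8016c00d00055003a8016000e000050039000740046002b0036000ec00d2005500160019800710077801a361ddb0ee10770816181dcc0bb00758015b61d5b0d1007280340e1c8705610720815a21c110470070801aca1b2506a886c441a2c1b16046386c1c30401a600ccb0695811361a5b0441068083236199b041006680112c191603f006480102c18160ba6060301304180203ed8606c1336175b050b05d580f841742044885b440ec016e0046d8586c1422161103a60583017221551058b055580e8e15470a238341c11ac145604c8851440cca146509d2826940ca2139102c384e1c250e0b0703ab04a580fa21291027284a9423ca07e5026884744088e11c7026d8446c0aac111602100448020c00560020b041580704104207d280e9407220f91018383e1c11180ecc056383b1c03c00ee005038381c1c040e0200ed8386c17180d4c04c38351c03ac0d5600e88344415980c4c04438311c03400c6000cd8306c0f8e0b8700cb02e5816040b0200c882c4402c00ae003528289410180a0c00ad8286c0f98098c00ab026580b4a08e503a10230802a208d10090022800aca0825008d8206c022c07d6023281d9402220751034381a1c0a840682006d81a6c01ac065602d001680088405820068816440136055b01d001380012c04d601900118001220451002d8106c070e0387002b00e5806040302002880c4400ca0065002600130008e0047002100108))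 (.leaf (nat_lit 0xac005600288014407000040004d8026c012c00960180001000122009100cd8066c0322019100688034403c001e000eb0075801b600db00ed8076c024001a000cb0065809800080008d8046c0880008000888044403000b0002c00030002c0016000ab0055802a2015106a0007000d0000c000ad8056c1c0001c000c002200022c01160400004000e800100044005500118001400500005000f80074004600580000b6005b02000010001ac00d60880002000c8000c000e880744098005400a200050016000c00068000700100012800ba005800130008c000c006400)))
noncomputable def rows : Tr ℕ := rows0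
noncomputable def recs : Tr ℕ := recs0
noncomputable def ci0 : CI := ⟨[], (nat_lit 0), false, (.node (nat_lit 1) (.leaf Rule.defn) (.leaf Rule.copy)), (.node (nat_lit 8) (.node (nat_lit 4) (.node (nat_lit 2) (.node (nat_lit 1) (.leaf (XRule.rot (nat_lit 0) [] 56 0)) (.leaf (XRule.rot (nat_lit 550562988080) [48, 128, 28, 48, 128] 46 1))) (.node (nat_lit 1) (.leaf (XRule.rot (nat_lit 22616) [88, 88] 56 0)) (.leaf (XRule.rot (nat_lit 551576169560) [88, 108, 128, 108, 128] 52 3)))) (.node (nat_lit 2) (.node (nat_lit 1) (.leaf (XRule.rot (nat_lit 7196) [28, 28] 56 0)) (.leaf (XRule.rot (nat_lit 2056) [8, 8] 56 0))) (.node (nat_lit 1) (.leaf (XRule.rot (nat_lit 17476) [68, 68] 56 0)) (.leaf (XRule.rot (nat_lit 27756) [108, 108] 56 0))))) (.node (nat_lit 2) (.node (nat_lit 1) (.leaf (XRule.rot (nat_lit 32896) [128, 128] 56 0)) (.leaf (XRule.rot (nat_lit 12336) [48, 48] 56 0))) (.node (nat_lit 1) (.leaf (XRule.rot (nat_lit 38036) [148, 148] 56 0)) (.leaf (XRule.rot (nat_lit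 12422951761436527860908729790259975056967425889308) [28, 148, 28, 8, 128, 8, 28, 148, 28, 8, 128, 8, 28, 148, 28, 68, 88, 108, 8, 128, 8] 54 3)))))⟩
noncomputable def ci8 : CI := ⟨[0], (nat_lit 8), true, (.node (nat_lit 4) (.node (nat_lit 2) (.node (nat_lit 1) (.leaf Rule.defn) (.leaf Rule.copy)) (.node (nat_lit 1) (.leaf (Rule.fwd [nat_lit 8] 56 0)) (.leaf (Rule.fwd [nat_lit 148, nat_lit 8, nat_lit 148] 32 1)))) (.node (nat_lit 1) (.leaf (Rule.fwd [nat_lit 28, nat_lit 48, nat_lit 8, nat_lit 28] 0 2)) (.leaf (Rule.fwd [nat_lit 28, nat_lit 8, nat_lit 28, nat_lit 48] 0 0)))), (.node (nat_lit 4) (.node (nat_lit 2) (.node (nat_lit 1) (.leaf XRule.defn) (.leaf XRule.ax)) (.node (nat_lit 1) (.leaf (XRule.rot (nat_lit 4458564) [68, 8, 68] 4 0)) (.leaf (XRule.rot (nat_lit 7080044) [108, 8, 108] 8 0)))) (.leaf (XRule.rot (nat_lit 3147824) [48, 8, 48] 2 0)))⟩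
noncomputable def ci28 : CI := ⟨[1], (nat_lit 28), true, (.node (nat_lit 4) (.node (nat_lit 2) (.node (nat_lit 1) (.leaf Rule.defn) (.leaf Rule.copy)) (.node (nat_lit 1) (.leaf (Rule.fwd [nat_lit 28] 56 0)) (.leaf (Rule.fwd [nat_lit 128, nat_lit 28, nat_lit 128] 44 1)))) (.leaf (Rule.fwd [nat_lit 8, nat_lit 28, nat_lit 48, nat_lit 8] 0 1))), (.node (nat_lit 4) (.node (nat_lit 2) (.node (nat_lit 1) (.leaf XRule.defn) (.leaf XRule.ax)) (.node (nat_lit 1) (.leaf (XRule.rot (nat_lit 5774424) [88, 28, 88] 14 0)) (.leaf (XRule.rot (nat_lit 7085164) [108, 28, 108] 16 0)))) (.node (nat_lit 2) (.node (nat_lit 1) (.leaf (XRule.rot (nat_lit 8395904) [128, 28, 128] 44 1)) (.leaf (XRule.rot (nat_lit 1142708292) [68, 88, 28, 68] 12 2))) (.leaf (XRule.rot (nat_lit 137370632) [8, 28, 48, 8] 0 1))))⟩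
noncomputable def ci48 : CI := ⟨[2], (nat_lit 48), true, (.node (nat_lit 4) (.node (nat_lit 2) (.node (nat_lit 1) (.leaf Rule.defn) (.leaf Rule.copy)) (.node (nat_lit 1) (.leaf (Rule.fwd [nat_lit 128, nat_lit 28, nat_lit 48, nat_lit 128] 46 1)) (.leaf (Rule.fwd [nat_lit 8, nat_lit 48, nat_lit 8] 2 1)))) (.node (nat_lit 2) (.node (nat_lit 1) (.leaf (Rule.fwd [nat_lit 148, nat_lit 8, nat_lit 48, nat_lit 148] 34 1)) (.leaf (Rule.fwd [nat_lit 48] 56 0))) (.leaf (Rule.fwd [nat_lit 28, nat_lit 48, nat_lit 28] 10 1)))), (.node (nat_lit 4) (.node (nat_lit 2) (.node (nat_lit 1) (.leaf XRule.defn) (.leaf XRule.ax)) (.node (nat_lit 1) (.leaf (XRule.rot (nat_lit 5779544) [88, 48, 88] 20 0)) (.leaf (XRule.rot (nat_lit 7090284) [108, 48, 108] 22 0)))) (.leaf (XRule.rot (nat_lit 2150636672) [128, 28, 48, 128] 46 1)))⟩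
noncomputable def ci68 : CI := ⟨[3], (nat_lit 68), false, (.node (nat_lit 1) (.leaf Rule.defn) (.leaf Rule.copy)), (.node (nat_lit 4) (.node (nat_lit 2) (.node (nat_lit 1) (.leaf XRule.defn) (.leaf XRule.defn)) (.node (nat_lit 1) (.leaf (XRule.rot (nat_lit 474225752) [88, 28, 68, 28] 12 3)) (.leaf (XRule.rot (nat_lit 9716884) [148, 68, 148] 36 1)))) (.node (nat_lit 2) (.node (nat_lit 1) (.leaf (XRule.rot (nat_lit 475546652) [28, 68, 88, 28] 12 1)) (.leaf (XRule.rot (nat_lit 809775212) [108, 48, 68, 48] 18 3))) (.node (nat_lit 1) (.leaf (XRule.rot (nat_lit 8406144) [128, 68, 128] 48 1)) (.leaf (XRule.rot (nat_lit 68) [68] 56 0)))))⟩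
noncomputable def ci88 : CI := ⟨[4], (nat_lit 88), false, (.node (nat_lit 1) (.leaf Rule.defn) (.leaf Rule.copy)), (.node (nat_lit 4) (.node (nat_lit 2) (.node (nat_lit 1) (.leaf XRule.defn) (.leaf XRule.defn)) (.node (nat_lit 1) (.leaf (XRule.rot (nat_lit 139987052) [108, 8, 88, 8] 6 3)) (.leaf (XRule.rot (nat_lit 8411264) [128, 88, 128] 50 1)))) (.node (nat_lit 2) (.node (nat_lit 1) (.leaf (XRule.rot (nat_lit 2488812692) [148, 68, 88, 148] 38 1)) (.leaf (XRule.rot (nat_lit 1857564) [28, 88, 28] 14 1))) (.node (nat_lit 1) (.leaf (XRule.rot (nat_lit 7100524) [108, 88, 108] 28 0)) (.leaf (XRule.rot (nat_lit 88) [88] 56 0)))))⟩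
noncomputable def ci108 : CI := ⟨[5], (nat_lit 108), false, (.node (nat_lit 1) (.leaf Rule.defn) (.leaf Rule.copy)), (.node (nat_lit 4) (.node (nat_lit 2) (.node (nat_lit 1) (.leaf XRule.defn) (.leaf XRule.defn)) (.node (nat_lit 1) (.leaf (XRule.rot (nat_lit 2154584192) [128, 88, 108, 128] 52 1)) (.leaf (XRule.rot (nat_lit 809775172) [68, 48, 68, 48] 19 0)))) (.node (nat_lit 1) (.leaf (XRule.rot (nat_lit 139987032) [88, 8, 88, 8] 7 0)) (.leaf (XRule.rot (nat_lit 108) [108] 56 0))))⟩
noncomputable def ci128 : CI := ⟨[6], (nat_lit 128), false, (.node (nat_lit 2) (.node (nat_lit 1) (.leaf Rule.defn) (.leaf Rule.copy)) (.node (nat_lit 1) (.leaf (Rule.fwd [nat_lit 128] 56 0)) (.leaf (Rule.fwd [nat_lit 8, nat_lit 128, nat_lit 8, nat_lit 128, nat_lit 8] 42 1)))), (.node (nat_lit 4) (.node (nat_lit 2) (.node (nat_lit 1) (.leaf XRule.defn) (.leaf XRule.defn)) (.node (nat_lit 1) (.leaf (XRule.rot (nat_lit 4489284) [68, 128, 68] 48 0)) (.leaf (XRule.rot (nat_lit 5800024) [88,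 128, 88] 50 0)))) (.node (nat_lit 2) (.node (nat_lit 1) (.leaf (XRule.rot (nat_lit 1820355672) [88, 108, 128, 108] 52 2)) (.leaf (XRule.rot (nat_lit 36507779080) [8, 128, 8, 128, 8] 42 1))) (.node (nat_lit 1) (.leaf (XRule.rot (nat_lit 48088095706382381416630315921763812351814147080) [8, 28, 148, 28, 8, 128, 8, 28, 148, 28, 8, 128, 8, 28, 148, 28, 68, 88, 108, 8] 54 1)) (.leaf (XRule.rot (nat_lit 128) [128] 56 0)))))⟩
noncomputable def ci148 : CI := ⟨[7], (nat_lit 148), true, (.node (nat_lit 2) (.node (nat_lit 1) (.leaf Rule.defn) (.leaf Rule.copy)) (.node (nat_lit 1) (.leaf (Rule.fwd [nat_lit 148] 56 0)) (.leaf (Rule.fwd [nat_lit 28, nat_lit 148, nat_lit 28, nat_lit 148, nat_lit 28] 30 1)))), (.node (nat_lit 4) (.node (nat_lit 2) (.node (nat_lit 1) (.leaf XRule.defn) (.leaf XRule.ax)) (.node (nat_lit 1) (.leaf (XRule.rot (nat_lit 4494404) [68, 148, 68] 36 0)) (.leaf (XRule.rot (nat_lit 7115884) [108, 148, 108] 40 0)))) (.node (nat_lit 1) (.leaf (XRule.rot (nat_lit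 1486116932) [68, 88, 148, 88] 38 2)) (.leaf (XRule.rot (nat_lit 122743985180) [28, 148, 28, 148, 28] 30 1))))⟩
noncomputable def outer : Tr CI := (.node (nat_lit 4) (.node (nat_lit 8) (.node (nat_lit 16) (.node (nat_lit 128) (.leaf ci0) (.leaf ci128)) (.leaf ci48)) (.node (nat_lit 16) (.leaf ci8) (.leaf ci88))) (.node (nat_lit 8) (.node (nat_lit 16) (.leaf ci68) (.leaf ci148)) (.node (nat_lit 16) (.leaf ci108) (.leaf ci28))))
def cols : List ℕ := [nat_lit 8, nat_lit 28, nat_lit 48, nat_lit 68, nat_lit 88, nat_lit 108, nat_lit 128, nat_lit 148]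
def invL : List ℕ := [0, 1, 2, 3, 4, 5, 6, 7]
def rels : List (List ℕ) := [[0, 1, 0, 1, 2], [0, 2, 0, 2], [0, 3, 0, 3], [0, 4, 0, 4, 5], [0, 5, 0, 5], [1, 2, 1, 2], [1, 3, 1, 3, 4], [1, 4, 1, 4], [1, 5, 1, 5], [2, 3, 2, 3, 5], [2, 4, 2, 4], [2, 5, 2, 5], [3, 4, 3, 4], [3, 5, 3, 5], [4, 5, 4, 5], [1, 7, 1, 7, 1, 7], [7, 0, 7, 0], [7, 2, 7, 0, 2], [7, 3, 7, 3], [7, 4, 7, 3, 4], [7, 5, 7, 5], [0, 6, 0, 6, 0, 6], [6, 1, 6, 1], [6, 2, 6, 1, 2], [6, 3, 6, 3], [6, 4, 6, 4], [6, 5, 6, 4, 5], [0, 6, 0, 1, 7, 1, 0, 6, 0, 1, 7, 1, 0, 6, 0, 1, 7, 1, 3, 4, 5]]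
def subs : List (List ℕ) := [[0], [1], [2], [7]]
noncomputable def row (n : ℕ) : ℕ := rowOf (fun h => rows.get h) (nat_lit 5) (nat_lit 31) (nat_lit 168) (nat_lit 0xffffffffffffffffffffffffffffffffffffffffff) n
noncomputable def xleaf (h : ℕ) : ℕ := recs.get h
noncomputable def mF : ℕ → ℕ := mainRow row (rowChk row xleaf outer (nat_lit 9) (nat_lit 511) (nat_lit 7) (nat_lit 12) (nat_lit 4095) (nat_lit 1048575) (nat_lit 256) (nat_lit 7) (nat_lit 512) (nat_lit 8) (nat_lit 255) (nat_lit 17) (nat_lit 131071) (nat_lit 8) (nat_lit 255) cols)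
noncomputable def xF : ℕ → ℕ → ℕ := xLeaf row xleaf outer (nat_lit 511) (nat_lit 12) (nat_lit 1048575) (nat_lit 256) (nat_lit 7) (nat_lit 8) (nat_lit 255) (nat_lit 17) (nat_lit 131071) (nat_lit 130816) (nat_lit 8) (nat_lit 255) (nat_lit 10) (nat_lit 1023) (nat_lit 4) (nat_lit 15) (nat_lit 148) (nat_lit 1792) (nat_lit 128)
noncomputable def cert : Cert := ⟨row, xleaf, outer, cols, nat_lit 9, nat_lit 511, nat_lit 7, nat_lit 12, nat_lit 4095, nat_lit 1048575, nat_lit 256, nat_lit 7, nat_lit 512, nat_lit 8, nat_lit 255, nat_lit 17, nat_lit 131071, nat_lit 130816, nat_lit 8, nat_lit 255, nat_lit 10, nat_lit 1023, nat_lit 4, nat_lit 15, nat_lit 148, nat_lit 1792, nat_lit 128, nat_lit 20, nat_lit 256, nat_lit 2⟩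
theorem tabok : tabOK (fun i => invL.getD i i) rels subs outer cols (nat_lit 8) (nat_lit 148) = true := by decide +kernel
theorem m0 : rng mF (nat_lit 1) (nat_lit 7) = 0 := by decide +kernel
noncomputable def s0 : List ℕ := [nat_lit 0x1004010040042500420320010d4090c0c80000113001080c80045c0043033000004740044832474004703200000494004683349400490330012b001120c800001310011a0cc00001370012a0c9370011c0c8004f4004b83200141001300cd41001240cc0000149001480c800534004b8320000054c004d03454c0000146110000015b0013c0c95b0014c0c8005840058033584005003300167001460d167000004d0440016d4250243042435064316e110005cd0d401101091b001105d044001795d1760cd794450c460420017f44c00458424bc0045980110006158060833615174492c111490012e618450018d47400488424f4004898e1100064d8e6403364d234713a111590013c650450019b6218a0d59b6218753844001a14ac00500456852b0013610c0069d2b4d036001ab4bc00500426ad2f0013c110006c5aa6bc336c53e6b8336c52f4c036001b94bd340cc006f5314b9b810800001c36e9be0d9c34d5306d844001c9659980d5c965995570447253b6319057055001d14dd460d80075556555c0119d551c004d1c01540076d47501ac1100077d4a7783477d490015810de078dca7355d6458d47d154296c5c10e5c9764992851164589466f542591e477c51675e67103259d60791e3728535a1eb724344e1ec750354d9ec74836695ec7683766def75c3469def765f41219e7d9a90d9c67a1f669c48555f853c345adf857839,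 nat_lit 0x6edf8534324e5fa6cc35685fa6d439625fa6dc32569fe7adcb10951801be79c474da03650364ca066143a8255909c00835930e9168397a0ca1348c27002155e43886511096056adb8804005420b6719f7e5547f5835fd1e4811f5f9827f155701f47a5c77ed3880d5c7f9eb73d5d80a2b4e21c815ab11536871a30d9f17461c815dc7ca1d1e19b87dfc554440022380d3f878594aa1f61a0711a2787d2f0dd3589e1f6e20116000885640d22150425002215143a0022380d5c112234dc2788d968303788dd07c037002234ec3a5262c7e19e8962d19a274ac27002274b43a8a531094008a53383c4a8b1ba804378b13509e2f584258cd250963556c278d5fe59c378f51d09e3e524278fa0a5443590d1309c0090d150e24745c2791d7c8503500247464389750909e63434270000000000000000000000000000000000000000000000000000000000000000000000000000000000000000000000000000000000000000000000000000000000000000000000000000000000000000000000000000000000000000000000]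
theorem x0 : xs xF s0 (nat_lit 1) = 0 := by decide +kernel
theorem mz0 : AllZ mF 1 (nat_lit 8) := (AllZ.step (AllZ.nil mF 1) (nat_lit 7) (nat_lit 8) rfl m0)
theorem xz0 : XZ xF (nat_lit 2) := (XZ.step (XZ.nil xF) s0 (nat_lit 1) (nat_lit 2) (by decide +kernel) x0)
/-- the certificate (7 points) is valid -/
theorem valid : cert.Valid (fun i => invL.getD i i) rels subs 8 :=
  ⟨by decide +kernel, tabok, by decide +kernel, mz0, xz0⟩
theorem cert_N : cert.N = 7 := rfl

end CL.TC.HeldX
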