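/-
The Mathieu group `M24` has no nontrivial complex character of degree at most 22.
-/
import Cfsg.Agent.Spor.IncE1
import Cfsg.Agent.Spor.M24Class
import Cfsg.Agent.Spor.CharTools

set_option autoImplicit false

namespace CL.INC
open Cfsg CL.Spor CL.Char Finset Subgroup

/-- The table of the normal subgroup of order 64 of the trio group. -/
def kT : ℕ := 0x1a0ea3104b4858d851f6acc12bc5c5191f3a204da860b618f24a816bc5c51b52652c44386c894eac7d010bc5c51aeb49b44878644b29303980cbc5c51c1474b056304924566ba3c0dbc5c51b26fac052a05162254d31c0bbc5c51c8c93d84c505706be849d408bc5c51da957c850985ac59cc852404bc5c58a0c9392eb5018d83e969d43210cae892957a2ed9820b61cd25243610cae8b5474aee4302c89566ca3c3010cae8ae6fab6e8a0244b255031c2c10cae8c126532f63809244eab7d02d10cae8b2b49c2f2781162292d3982b10cae8c8ea35aec481706d1e4acc2810cae8d9f3a4af0a81ac598e84a82410cae7226fa900ba5d8d8255631c5209471711474a00d35e0b65672a3c5609471736957ac049dec891ccc524500947172cc93b40855e44b3e909d44c09471741f3a3016adc92418eb4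a84d09471730ea340124dd16251edacc4b0947174ab49d80c7dd706a924398480947175926548103ddac5cea87d044094712a2b49902b7898d8293639af203a23291265202d38a0b64eb27d2f603a232b5f3a2c24a8ac8918ec4aaf003a232acea3342848a44b51f0aceec03a232c2957b0369889241ccb526ed03a232b0c93c0325091623e8d9d6eb03a232ca6fad82ca09706a54431ee803a232d9474c830309ac5d668a3ee403a2302295791cb9c58d81cd65247228457010c93a1cd5460b63e929d476284570366faadc4a46c89254c31c702845702d474b5c834644b5670a3c6c28457042b49b1d67c4924292b3986d2845703126541d23c51624ead7d06b28457049f3a59ccac570698e44a86828457058ea349d04c5ac5d1e8acc64284570a1f3a10aba8d8d818f64aa32702e2090ea320ad48e0b651f2ace36702e20b6b49aca478ec89292c39a30702e20ad26534a838e44b4eb07d22c702e20c26fab0b6a0c924254b31e2d702e20b1474c0b230d162566da3e2b702e20ca957d8ac98d7069cc452628702e20d8c93c8b050dac5be889d624702e2121265106b3958d84eb67d1d28dc01112b49a06d7960b62932399d68dc01134ea32c64496c8951ecacdd08dc0112df3a3468a9644b18f04a9cc8dc01140c93b0765149243e8b9d5cd8dc01132957c0729951621ccd525cb8dc01149474d86c315706d664a3dc88dc0115a6fac870a15ac5a54831dc48dc01ba1474922b3398d85676a3cb218820b926faa22da3a0b6255231cb618820bb4c93ae2453ac893e8c9d4b018820bae957b6289ba44b1cd0524ac18820bc0ea332364b892451ebaccad18820bb1f3a4232ab916218ed4a8ab18820bc92655a2c3b9706cea47d0a818820bdab49ca307b9ac5a928398a418820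
/-- Its elements. -/
def kP (i : ℕ) : ℕ := getTab 120 0xffffffffffffffffffffffffffffff kT i
/-- Parity of a number below 64. -/
def par (x : ℕ) : Bool := Nat.testBit 0x6996966996696996 x
/-- Entries of a table of six bits. -/
def g6 (T i : ℕ) : ℕ := getTab 6 63 T i

theorem g6_lt (T i : ℕ) : g6 T i < 64 := getTab_lt 6 T i
theorem kP_in : allBelow (fun i => inM24 (kP i)) 64 = true := by decide +kernel
theorem kP_mul : allBelow (fun i => allBelow (fun j => Nat.beq (pmul (kP i) (kP j)) (kP (i ^^^ j))) 64) 64 = true := by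
  decide +kernel
theorem kP_inj : allBelow (fun i => allBelow (fun j => Nat.beq i j || !Nat.beq (kP i) (kP j)) 64) 64 = true := by
  decide +kernel
theorem par_xor : ∀ a < 64, ∀ b < 64, par (a ^^^ b) = (par a ^^ par b) := by decide +kernel
theorem par_sum : ∀ i < 64, ∑ y ∈ range 64, (if par (y &&& i) then -1 else 1 : ℤ) = if i = 0 then 64 else 0 := by
  decide +kernel
theorem par_ne : ∀ y < 64, ∀ y' < 64, y ≠ y' → ∃ i < 64, par (y &&& i) ≠ par (y' &&& i) := by decide +kernel

/-- The element number `i`. -/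
noncomputable def kE (i : ℕ) : M24 := m24 (kP i)

theorem rep_kE {i : ℕ} (hi : i < 64) : Rep (kP i) (kE i) := rep_m24 ((allBelow_iff _ _).1 kP_in i hi)
theorem xor_lt64 {i j : ℕ} (hi : i < 64) (hj : j < 64) : i ^^^ j < 64 := Nat.xor_lt_two_pow (n := 6) hi hj
theorem kE_mul {i j : ℕ} (hi : i < 64) (hj : j < 64) : kE i * kE j = kE (i ^^^ j) :=
  (((rep_kE hi).mul (rep_kE hj)).eq_iff (rep_kE (xor_lt64 hi hj))).2
    (Nat.eq_of_beq_eq_true ((allBelow_iff _ _).1 ((allBelow_iff _ _).1 kP_mul i hi) j hj))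
theorem kE_zero : kE 0 = 1 := (rep_kE (by norm_num)).eq_one_iff.2 (by decide +kernel)
theorem kE_inj : Set.InjOn kE (range 64 : Finset ℕ) := fun i hi j hj e => by
  have hi' := mem_range.1 hi
  have hj' := mem_range.1 hj
  have := (allBelow_iff _ _).1 ((allBelow_iff _ _).1 kP_inj i hi') j hj'
  rw [((rep_kE hi').eq_iff (rep_kE hj')).1 e, Nat.beq_refl] at this
  exact Nat.eq_of_beq_eq_true (by simpa using this)

/-- The normal subgroup of order 64 of the trio group. -/
def KK : Subgroup M24 where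
  carrier := {g | ∃ i < 64, g = kE i}
  one_mem' := ⟨0, by norm_num, kE_zero.symm⟩
  mul_mem' := by rintro _ _ ⟨i, hi, rfl⟩ ⟨j, hj, rfl⟩; exact ⟨_, xor_lt64 hi hj, kE_mul hi hj⟩
  inv_mem' := by
    rintro _ ⟨i, hi, rfl⟩
    exact ⟨i, hi, inv_eq_of_mul_eq_one_right (by rw [kE_mul hi hi, Nat.xor_self, kE_zero])⟩

theorem fs_KK : fs KK = (range 64).image kE := by
  classical
  ext g
  simp only [mem_fs, mem_image, mem_range]
  exact ⟨fun ⟨i, hi, e⟩ => ⟨i, hi, e.symm⟩, fun ⟨i, hi, e⟩ => ⟨i, hi, e.symm⟩⟩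

theorem card_KK : Nat.card KK = 64 := by rw [← card_fs, fs_KK, card_image_of_injOn kE_inj, card_range]

/-- The character number `y`. -/
noncomputable def lK (y : ℕ) (g : M24) : ℂ :=
  if par (y &&& Function.invFunOn kE (range 64 : Finset ℕ) g) then -1 else 1

theorem lK_kE (y : ℕ) {i : ℕ} (hi : i < 64) : lK y (kE i) = if par (y &&& i) then -1 else 1 := by
  rw [lK, kE_inj.leftInvOn_invFunOn (mem_coe.2 (mem_range.2 hi))]

theorem lin_lK (y : ℕ) : Lin KK (lK y) := by
  constructor
  · rintro _ ⟨i, hi, rfl⟩ _ ⟨j, hj, rfl⟩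
    rw [kE_mul hi hj, lK_kE y hi, lK_kE y hj, lK_kE y (xor_lt64 hi hj), Nat.and_xor_distrib_left,
      par_xor _ (Nat.and_le_right.trans_lt hi) _ (Nat.and_le_right.trans_lt hj)]
    cases par (y &&& i) <;> cases par (y &&& j) <;> simp
  · rintro _ ⟨i, hi, rfl⟩
    rw [lK_kE y hi]; split_ifs <;> simp

theorem sum_wtK (χ : M24 → ℂ) (g : M24) : ∑ y ∈ range 64, wt χ KK (lK y) g = χ g := by
  simp only [wt, ← mul_sum]
  rw [sum_comm, card_KK, fs_KK, sum_image kE_inj, sum_congr rfl (g := fun i => if i = 0 then 64 * χ g else 0)]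
  · simp
  · intro i hi
    have := congrArg (Int.cast : ℤ → ℂ) (par_sum i (mem_range.1 hi))
    push_cast at this
    simp only [lK_kE _ (mem_range.1 hi), ← sum_mul, this]
    split_ifs with h
    · rw [h, kE_zero, mul_one]
    · rw [zero_mul]

/-- `a` normalises the group and acts by `σ` on the elements and by `τ` on the characters. -/
def nmB (a σ τ : ℕ) : Bool := inM24 a && allBelow (fun i => Nat.beq (pconj a (kP i)) (kP (g6 σ i)) &&
  allBelow (fun y => par (g6 τ y &&& g6 σ i) == par (y &&& i)) 64) 64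

section
variable {a σ τ : ℕ} (h : nmB a σ τ = true) {χ : M24 → ℂ} (hχ : IsCharacter M24 χ)
include h

theorem nm_rep : Rep a (m24 a) := rep_m24 (Bool.and_eq_true_iff.1 h).1

theorem nm_conj {i : ℕ} (hi : i < 64) : m24 a * kE i * (m24 a)⁻¹ = kE (g6 σ i) :=
  ((nm_rep h).isConj_eq (rep_kE hi) (rep_kE (g6_lt _ _))).2 (Nat.eq_of_beq_eq_true
    (Bool.and_eq_true_iff.1 ((allBelow_iff _ _).1 (Bool.and_eq_true_iff.1 h).2 i hi)).1)

theorem nm_mem (x : M24) : x ∈ KK ↔ m24 a * x * (m24 a)⁻¹ ∈ KK :=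
  mem_normalizer_iff.1 (mem_normalizer_fintype (S := (KK : Set M24)) (by
    rintro _ ⟨i, hi, rfl⟩; exact ⟨_, g6_lt _ _, nm_conj h hi⟩)) x

theorem nm_l {y : ℕ} (hy : y < 64) : ∀ x ∈ KK, lK (g6 τ y) (m24 a * x * (m24 a)⁻¹) = lK y x := by
  rintro _ ⟨i, hi, rfl⟩
  rw [nm_conj h hi, lK_kE _ hi, lK_kE _ (g6_lt _ _), eq_of_beq ((allBelow_iff _ _).1
    (Bool.and_eq_true_iff.1 ((allBelow_iff _ _).1 (Bool.and_eq_true_iff.1 h).2 i hi)).2 y hy)]

theorem nm_St {y : ℕ} (hy : y < 64) (e : g6 τ y = y) : m24 a ∈ St KK (lK y) :=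
  ⟨nm_mem h, fun x hx => by simpa only [e] using nm_l h hy x hx⟩

include hχ

theorem nm_d {y : ℕ} (hy : y < 64) : wt χ KK (lK (g6 τ y)) 1 = wt χ KK (lK y) 1 := by
  simpa using wt_conj hχ (m24 a) (nm_mem h) (nm_l h hy) 1

theorem nm_zero {y : ℕ} (hy : y < 64) (e : g6 τ y ≠ y) : wt χ KK (lK y) (m24 a) = 0 := by
  obtain ⟨i, hi, h1⟩ := par_ne _ (g6_lt τ y) y hy e
  have h2 : (m24 a)⁻¹ * kE i * m24 a ∈ KK := by
    rw [nm_mem h, ← mul_assoc, ← mul_assoc, mul_inv_cancel, one_mul, mul_inv_cancel_right]; exact ⟨i, hi, rfl⟩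
  refine (lin_lK y).wt_eq_zero hχ ⟨i, hi, rfl⟩ h2 ?_
  rw [← nm_l h hy _ h2, ← mul_assoc, ← mul_assoc, mul_inv_cancel, one_mul, mul_inv_cancel_right, lK_kE _ hi,
    lK_kE _ hi]
  revert h1
  cases par (g6 τ y &&& i) <;> cases par (y &&& i) <;> norm_num

end

/-- An element of order 21. -/
def aU : ℕ := 377916336732590482378213287005502675
/-- Its action on the elements. -/
def sU : ℕ := 0x5d9fb096b30251af739a83c14ddeb486f20641ee778ac2c549cef582e24745fe368ed284598ff192a34355bf329e9380
/-- Its action on the characters. -/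
def tU : ℕ := 0x3b6f867a6b9691c52cd0c13ca51661e412710fbccb4eb8db56d95d17dd4dfc73f7bd77e7c8a0ba89a4aa620a10230e00
theorem nmU : nmB aU sU tU = true := by decide +kernel
/-- A fixed point free element of order 3. -/
def aT : ℕ := 879141760384037912155619516004060359
/-- Its action on the elements. -/
def sT : ℕ := 0x8ca4787f6b4494c5fe670ac298f53d6b3a018094bb735b8790d5bf631a8388b4397b7b058484fa774bc69ce57c6f2a40
/-- Its action on the characters. -/
def tT : ℕ := 0x72cd0491433c461e49a590712ba892c826aa1f7bdffcf5e7ecb4e30f3adbd867ae3be996b5d175565f4d810238628c00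
theorem nmT : nmB aT sT tT = true := by decide +kernel
/-- An involution inverting `aT`. -/
def aV : ℕ := 339675339885291354706196349468559755
/-- Its action on the elements. -/
def sV : ℕ := 0x90c53c734b0488a4ba6b2a82849479671a419cf5ff7f7bc78cb4fb6f3ac394d57d775b4598e5be7b6b86808438630a00
/-- Its action on the characters. -/
def tV : ℕ := 0x91433c72cd04851279669c418922ba6aac829d73ff7efdc78d32fb6ebcc39963be7aed8695537d76dd45810238628c00
theorem nmV : nmB aV sV tV = true := by decide +kernel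
/-- An element of order 3 with six fixed points. -/
def aS : ℕ := 59277390287229658508400718166196677
/-- Its action on the elements. -/
def sS : ℕ := 0xaeeb29aafb688e69218a79604d65114975506de71969f758cf6d31cb7d70efef39ebff782ce30928f3480c6101087140
/-- Its action on the characters. -/
def tS : ℕ := 0x24f2cd30a3884574d5512590a6faedb2aba8c77cf5d32db0e7fefdf3afb88678e59229a065f6dd71a7980470c5102180
theorem nmS : nmB aS sS tS = true := by decide +kernel
/-- An involution inverting `aS`. -/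
def aW : ℕ := 21553437447306391113730797094863959
/-- Its action on the elements. -/
def sW : ℕ := 0xaaeb69aefb288a69618e7920ebef79efff38cb6d71cf7d3069e7596df7184965514d751028e3492cf3080861410c7100
/-- Its action on the characters. -/
def tW : ℕ := 0x7d975b71a7985d1553512590be9b6bb2aba89e19639229a0ff9f7bf3afb8df1d73d32db03c934b30a3881c1143102180
theorem nmW : nmB aW sW tW = true := by decide +kernel

/-- The orbit number of a character. -/
def clsK (y : ℕ) : ℕ := if y = 0 then 0 else if Nat.testBit 0x11030581094121fe y then 1 else 9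

theorem clsK_spec : ∀ y < 64, ∃ j < 21, y = (g6 tU)^[j] (clsK y) ∨ y = (g6 tU)^[j] (g6 tV (clsK y)) := by
  decide +kernel

theorem clsK_lt (y : ℕ) : clsK y < 64 := by unfold clsK; split_ifs <;> norm_num

theorem d_cls {χ : M24 → ℂ} (hχ : IsCharacter M24 χ) {y : ℕ} (hy : y < 64) :
    wt χ KK (lK y) 1 = wt χ KK (lK (clsK y)) 1 := by
  have h1 : ∀ j, ∀ y < 64, (g6 tU)^[j] y < 64 ∧ wt χ KK (lK ((g6 tU)^[j] y)) 1 = wt χ KK (lK y) 1 := fun j y hy => by
    induction j with
    | zero => exact ⟨hy, rfl⟩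
    | succ j ih => rw [Function.iterate_succ_apply', nm_d nmU hχ ih.1]; exact ⟨g6_lt _ _, ih.2⟩
  obtain ⟨j, -, e | e⟩ := clsK_spec y hy
  · rw [← (h1 j _ (clsK_lt y)).2, ← e]
  · rw [← nm_d nmV hχ (clsK_lt y), ← (h1 j _ (g6_lt _ _)).2, ← e]

theorem sum_P3 (F : ℕ → ℂ) : ∑ x ∈ fs P3, F (fixSet x).card = F 24 + 14 * F 6 + 12 * F 0 := by
  have h1 : ∀ k, ((fs P3).filter fun x => (fixSet x).card = k).card =
      cntProds (fun P => Nat.beq (pc24 (fixMask P)) k) levP3 pone := fun k => by
    rw [← chainP3.ncard_eq (fun x => (fixSet x).card = k) _ fun P g hP _ => by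
      rw [hP.fixSet_eq, card_ofMask, Nat.beq_eq], ← Set.ncard_coe_finset]
    congr 1; ext x; simp
  rw [sum_by_value (fs P3) (fun x => (fixSet x).card) {24, 6, 0} fun x hx => by
    obtain ⟨P, hP, e⟩ := chainP3.forall_mem (f := fun P => decide (pc24 (fixMask P) ∈ ({24, 6, 0} : Finset ℕ)))
      (by decide +kernel) x (mem_fs.1 hx)
    rw [hP.fixSet_eq, card_ofMask]; exact of_decide_eq_true e]
  rw [sum_insert (by decide), sum_insert (by decide), sum_singleton, h1, h1, h1,
    show cntProds _ levP3 pone = 1 by decide +kernel, show cntProds _ levP3 pone = 14 by decide +kernel,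
    show cntProds _ levP3 pone = 12 by decide +kernel]
  simp [add_assoc]

/-- A character of `M24` of degree at most 22 is trivial. -/
theorem m24_min {χ : M24 → ℂ} (hχ : IsCharacter M24 χ) {f : ℕ} (hf : χ 1 = f) (h22 : f ≤ 22) (g : M24) :
    χ g = χ 1 := by
  by_contra hg
  have hk : charKer χ = ⊥ := (M24_simple.eq_bot_or_eq_top_of_normal _ hχ.charKer_normal).resolve_right fun e =>
    hg (hχ.mem_charKer.1 (e ▸ mem_top g))
  choose d hd using fun y => (lin_lK y).wt_nat hχ
  have h1 : f = d 0 + 21 * d 1 + 42 * d 9 := by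
    rw [← Nat.cast_inj (R := ℂ), ← hf, ← sum_wtK χ, sum_congr rfl fun y hy => (d_cls hχ (mem_range.1 hy)).trans (hd _),
      sum_by_value _ clsK {0, 1, 9} (by decide +kernel) fun c => (d c : ℂ), sum_insert (by decide),
      sum_insert (by decide), sum_singleton, show (filter (fun i => clsK i = 0) (range 64)).card = 1 by decide +kernel,
      show (filter (fun i => clsK i = 1) (range 64)).card = 21 by decide +kernel,
      show (filter (fun i => clsK i = 9) (range 64)).card = 42 by decide +kernel]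
    simp [add_assoc]
  have h2 : d 1 ≠ 0 := fun e => by
    have h3 : ∀ x ∈ KK, χ x = d 0 := fun x hx => by
      rw [← sum_wtK χ, sum_eq_single_of_mem 0 (by simp) fun y hy h0 => ?_]
      · obtain ⟨i, hi, rfl⟩ := id hx
        rw [← one_mul (kE i), (lin_lK 0).wt_mul hx, hd, lK_kE _ hi, Nat.zero_and, if_neg (by decide), one_mul]
      · rw [← one_mul x, (lin_lK y).wt_mul hx, d_cls hχ (mem_range.1 hy), hd, clsK, if_neg h0]
        split_ifs
        · rw [e, Nat.cast_zero, mul_zero]
        · rw [show d 9 = 0 by omega, Nat.cast_zero, mul_zero]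
    have h4 : kE 1 ∈ charKer χ := hχ.mem_charKer.2 ((h3 _ ⟨1, by norm_num, rfl⟩).trans (h3 _ (one_mem _)).symm)
    rw [hk, mem_bot, ← kE_zero] at h4
    exact absurd (kE_inj (by simp) (by simp) h4) one_ne_zero
  have h3 : χ (m24 aT) = d 0 := by
    rw [← sum_wtK χ, sum_eq_single_of_mem 0 (by simp) fun y hy h0 => nm_zero nmT hχ (mem_range.1 hy) (by
      revert y; decide +kernel)]
    exact (lin_lK 0).wt_three hχ (hd 0) (by omega) (nm_St nmT (by norm_num) (by decide +kernel))
      (nm_St nmV (by norm_num) (by decide +kernel)) ((((nm_rep nmV).mul (nm_rep nmT)).eq_iff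
        (((nm_rep nmT).mul (nm_rep nmT)).mul (nm_rep nmV))).2 (by decide +kernel))
  have h4 : χ (m24 aS) = d 0 + 3 := by
    have h5 : ∀ y ∈ ({0, 2, 40, 42} : Finset ℕ), wt χ KK (lK y) (m24 aS) = d (clsK y) := fun y hy => by
      have h6 : y < 64 ∧ g6 tS y = y ∧ g6 tW y = y ∧ (clsK y = 0 ∨ clsK y = 1) := by revert y; decide +kernel
      exact (lin_lK y).wt_three hχ ((d_cls hχ h6.1).trans (hd _)) (by rcases h6.2.2.2 with e | e <;> rw [e] <;> omega)
        (nm_St nmS h6.1 h6.2.1) (nm_St nmW h6.1 h6.2.2.1) ((((nm_rep nmW).mul (nm_rep nmS)).eq_iff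
          (((nm_rep nmS).mul (nm_rep nmS)).mul (nm_rep nmW))).2 (by decide +kernel))
    rw [← sum_wtK χ, ← sum_subset (s₁ := {0, 2, 40, 42}) (by decide +kernel) fun y hy h0 =>
      nm_zero nmS hχ (mem_range.1 hy) (by revert y; decide +kernel), sum_congr rfl h5, sum_insert (by decide),
      sum_insert (by decide), sum_insert (by decide), sum_singleton, show clsK 0 = 0 from rfl,
      show clsK 2 = 1 by decide +kernel, show clsK 40 = 1 by decide +kernel, show clsK 42 = 1 by decide +kernel,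
      show d 1 = 1 by omega]
    push_cast; ring
  let F : ℕ → ℂ := fun k => if k = 24 then (f : ℂ) else if k = 6 then d 0 + 3 else d 0
  have h5 : ∀ x ∈ fs P3, χ x = F (fixSet x).card := fun x hx => by
    obtain ⟨P, hP, e⟩ := chainP3.forall_mem (f := fun P => Nat.beq P pone || isOrd 3 P) (by decide +kernel) x
      (mem_fs.1 hx)
    have hc : ∀ {a b c c' r : M24}, c * a * c⁻¹ = r → c' * b * c'⁻¹ = r → χ a = χ b := fun {a b c c' r} e1 e2 => by
      rw [← inv_mul_cancel_left c a, ← hχ.mul_comm, e1, ← e2, hχ.mul_comm, inv_mul_cancel_left]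
    rcases Bool.or_eq_true_iff.1 e with e | e
    · obtain rfl := hP.eq_one_iff.2 (Nat.eq_of_beq_eq_true e)
      rw [rep_one.fixSet_eq, card_ofMask, show pc24 _ = 24 by decide +kernel]
      exact hf
    · have h6 := (hP.isOrd_iff Nat.prime_three).1 e
      rcases card_fixSet_three h6 with e | e <;> rw [e]
      · obtain ⟨c, h7⟩ := class_3A h6 (by omega)
        obtain ⟨c', h8⟩ := class_3A (((nm_rep nmS).isOrd_iff Nat.prime_three).1 (by decide +kernel))
          (by rw [(nm_rep nmS).fixSet_eq, card_ofMask]; decide +kernel)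
        exact (hc h7 h8).trans h4
      · obtain ⟨c, h7⟩ := class_3B h6 (by omega)
        obtain ⟨c', h8⟩ := class_3B (((nm_rep nmT).isOrd_iff Nat.prime_three).1 (by decide +kernel))
          (by rw [(nm_rep nmT).fixSet_eq, card_ofMask]; decide +kernel)
        exact (hc h7 h8).trans h3
  obtain ⟨m, hm⟩ := (lin_one P3).wt_nat hχ
  simp only [wt, one_mul] at hm
  rw [(sum_congr rfl h5).trans (sum_P3 F), card_P3, inv_mul_eq_iff_eq_mul₀ (by norm_num)] at hm
  norm_num [F] at hm
  have h7 : f + 14 * (d 0 + 3) + 12 * d 0 = 27 * m := by exact_mod_cast hm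
  omega

end CL.INC
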