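import Cfsg.Agent.Spor.J23CertBT

/-! coset enumeration certificate generated by tools/tc -/

set_option maxRecDepth 100000
set_option autoImplicit false
set_option linter.all false

namespace CL.TC.J23B

theorem m0 : rng mF (nat_lit 1) (nat_lit 1666) = 0 := by decide +kernel
theorem m1 : rng mF (nat_lit 1667) (nat_lit 1666) = 0 := by decide +kernel
theorem m2 : rng mF (nat_lit 3333) (nat_lit 1666) = 0 := by decide +kernel
theorem m3 : rng mF (nat_lit 4999) (nat_lit 1666) = 0 := by decide +kernel
theorem m4 : rng mF (nat_lit 6665) (nat_lit 1666) = 0 := by decide +kernel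
theorem m5 : rng mF (nat_lit 8331) (nat_lit 1666) = 0 := by decide +kernel
theorem m6 : rng mF (nat_lit 9997) (nat_lit 1666) = 0 := by decide +kernel
theorem m7 : rng mF (nat_lit 11663) (nat_lit 1666) = 0 := by decide +kernel
theorem m8 : rng mF (nat_lit 13329) (nat_lit 1666) = 0 := by decide +kernel
theorem m9 : rng mF (nat_lit 14995) (nat_lit 1666) = 0 := by decide +kernel
theorem m10 : rng mF (nat_lit 16661) (nat_lit 1666) = 0 := by decide +kernel
theorem m11 : rng mF (nat_lit 18327) (nat_lit 1666) = 0 := by decide +kernel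
theorem m12 : rng mF (nat_lit 19993) (nat_lit 1666) = 0 := by decide +kernel
theorem m13 : rng mF (nat_lit 21659) (nat_lit 1666) = 0 := by decide +kernel
theorem m14 : rng mF (nat_lit 23325) (nat_lit 1666) = 0 := by decide +kernel
theorem m15 : rng mF (nat_lit 24991) (nat_lit 1666) = 0 := by decide +kernel
theorem m16 : rng mF (nat_lit 26657) (nat_lit 1666) = 0 := by decide +kernel
theorem m17 : rng mF (nat_lit 28323) (nat_lit 1666) = 0 := by decide +kernel
theorem m18 : rng mF (nat_lit 29989) (nat_lit 1666) = 0 := by decide +kernel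
theorem m19 : rng mF (nat_lit 31655) (nat_lit 1666) = 0 := by decide +kernel
theorem m20 : rng mF (nat_lit 33321) (nat_lit 1666) = 0 := by decide +kernel
theorem m21 : rng mF (nat_lit 34987) (nat_lit 1666) = 0 := by decide +kernel
theorem m22 : rng mF (nat_lit 36653) (nat_lit 1666) = 0 := by decide +kernel
theorem m23 : rng mF (nat_lit 38319) (nat_lit 1666) = 0 := by decide +kernel
theorem m24 : rng mF (nat_lit 39985) (nat_lit 1666) = 0 := by decide +kernel
theorem m25 : rng mF (nat_lit 41651) (nat_lit 1666) = 0 := by decide +kernel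
theorem m26 : rng mF (nat_lit 43317) (nat_lit 1666) = 0 := by decide +kernel
theorem m27 : rng mF (nat_lit 44983) (nat_lit 1666) = 0 := by decide +kernel
theorem m28 : rng mF (nat_lit 46649) (nat_lit 1666) = 0 := by decide +kernel
theorem m29 : rng mF (nat_lit 48315) (nat_lit 1666) = 0 := by decide +kernel
theorem m30 : rng mF (nat_lit 49981) (nat_lit 1666) = 0 := by decide +kernel
theorem m31 : rng mF (nat_lit 51647) (nat_lit 1666) = 0 := by decide +kernel
theorem m32 : rng mF (nat_lit 53313) (nat_lit 1666) = 0 := by decide +kernel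
theorem m33 : rng mF (nat_lit 54979) (nat_lit 1666) = 0 := by decide +kernel
theorem m34 : rng mF (nat_lit 56645) (nat_lit 1666) = 0 := by decide +kernel
theorem m35 : rng mF (nat_lit 58311) (nat_lit 1666) = 0 := by decide +kernel
theorem m36 : rng mF (nat_lit 59977) (nat_lit 1666) = 0 := by decide +kernel
theorem m37 : rng mF (nat_lit 61643) (nat_lit 1666) = 0 := by decide +kernel
theorem m38 : rng mF (nat_lit 63309) (nat_lit 1666) = 0 := by decide +kernel
theorem m39 : rng mF (nat_lit 64975) (nat_lit 1666) = 0 := by decide +kernel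

end CL.TC.J23B
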