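import Cfsg.Agent.Spor.TCSound
import Cfsg.Agent.Spor.J23CertBD0
import Cfsg.Agent.Spor.J23CertBD1

/-! coset enumeration certificate generated by tools/tc -/

set_option maxRecDepth 100000
set_option autoImplicit false
set_option linter.all false

namespace CL.TC.J23B

noncomputable def rows : Tr ℕ := (.node (nat_lit 2048) (.node (nat_lit 1024) (.node (nat_lit 512) (.node (nat_lit 256) (.node (nat_lit 128) (.node (nat_lit 64) (.node (nat_lit 32) (.node (nat_lit 16) rows0 rows1) (.node (nat_lit 16) rows2 rows3)) (.node (nat_lit 32) (.node (nat_lit 16) rows4 rows5) (.node (nat_lit 16) rows6 rows7))) (.node (nat_lit 64) (.node (nat_lit 32) (.node (nat_lit 16) rows8 rows9) (.node (nat_lit 16) rows10 rows11)) (.node (nat_lit 32) (.node (nat_lit 16) rows12 rows13) (.node (nat_lit 16) rows14 rows15)))) (.node (nat_lit 128) (.node (nat_lit 64) (.node (nat_lit 32) (.node (nat_lit 16) rows16 rows17) (.node (nat_lit 16) rows18 rows19)) (.node (nat_lit 32) (.node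 (nat_lit 16) rows20 rows21) (.node (nat_lit 16) rows22 rows23))) (.node (nat_lit 64) (.node (nat_lit 32) (.node (nat_lit 16) rows24 rows25) (.node (nat_lit 16) rows26 rows27)) (.node (nat_lit 32) (.node (nat_lit 16) rows28 rows29) (.node (nat_lit 16) rows30 rows31))))) (.node (nat_lit 256) (.node (nat_lit 128) (.node (nat_lit 64) (.node (nat_lit 32) (.node (nat_lit 16) rows32 rows33) (.node (nat_lit 16) rows34 rows35)) (.node (nat_lit 32) (.node (nat_lit 16) rows36 rows37) (.node (nat_lit 16) rows38 rows39))) (.node (nat_lit 64) (.node (nat_lit 32) (.node (nat_lit 16) rows40 rows41) (.node (nat_lit 16) rows42 rows43)) (.node (nat_lit 32) (.node (nat_lit 16) rows44 rows45) (.node (nat_lit 16) rows46 rows47)))) (.node (nat_lit 128) (.node (nat_lit 64) (.node (nat_lit 32) (.node (nat_lit 16) rows48 rows49) (.node (nat_lit 16) rows50 rows51)) (.node (nat_lit 32) (.node (nat_lit 16) rows52 rows53) (.node (nat_lit 16) rows54 rows55))) (.node (nat_lit 64) (.node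 (nat_lit 32) (.node (nat_lit 16) rows56 rows57) (.node (nat_lit 16) rows58 rows59)) (.node (nat_lit 32) (.node (nat_lit 16) rows60 rows61) (.node (nat_lit 16) rows62 rows63)))))) (.node (nat_lit 512) (.node (nat_lit 256) (.node (nat_lit 128) (.node (nat_lit 64) (.node (nat_lit 32) (.node (nat_lit 16) rows64 rows65) (.node (nat_lit 16) rows66 rows67)) (.node (nat_lit 32) (.node (nat_lit 16) rows68 rows69) (.node (nat_lit 16) rows70 rows71))) (.node (nat_lit 64) (.node (nat_lit 32) (.node (nat_lit 16) rows72 rows73) (.node (nat_lit 16) rows74 rows75)) (.node (nat_lit 32) (.node (nat_lit 16) rows76 rows77) (.node (nat_lit 16) rows78 rows79)))) (.node (nat_lit 128) (.node (nat_lit 64) (.node (nat_lit 32) (.node (nat_lit 16) rows80 rows81) (.node (nat_lit 16) rows82 rows83)) (.node (nat_lit 32) (.node (nat_lit 16) rows84 rows85) (.node (nat_lit 16) rows86 rows87))) (.node (nat_lit 64) (.node (nat_lit 32) (.node (nat_lit 16) rows88 rows89) (.node (nat_lit 16)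 rows90 rows91)) (.node (nat_lit 32) (.node (nat_lit 16) rows92 rows93) (.node (nat_lit 16) rows94 rows95))))) (.node (nat_lit 256) (.node (nat_lit 128) (.node (nat_lit 64) (.node (nat_lit 32) (.node (nat_lit 16) rows96 rows97) (.node (nat_lit 16) rows98 rows99)) (.node (nat_lit 32) (.node (nat_lit 16) rows100 rows101) (.node (nat_lit 16) rows102 rows103))) (.node (nat_lit 64) (.node (nat_lit 32) (.node (nat_lit 16) rows104 rows105) (.node (nat_lit 16) rows106 rows107)) (.node (nat_lit 32) (.node (nat_lit 16) rows108 rows109) (.node (nat_lit 16) rows110 rows111)))) (.node (nat_lit 128) (.node (nat_lit 64) (.node (nat_lit 32) (.node (nat_lit 16) rows112 rows113) (.node (nat_lit 16) rows114 rows115)) (.node (nat_lit 32) (.node (nat_lit 16) rows116 rows117) (.node (nat_lit 16) rows118 rows119))) (.node (nat_lit 64) (.node (nat_lit 32) (.node (nat_lit 16) rows120 rows121) (.node (nat_lit 16) rows122 rows123)) (.node (nat_lit 32) (.node (nat_lit 16) rows124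 rows125) (.node (nat_lit 16) rows126 rows127))))))) (.node (nat_lit 256) (.node (nat_lit 128) (.node (nat_lit 64) (.node (nat_lit 32) (.node (nat_lit 16) rows128 rows129) (.node (nat_lit 16) rows130 rows131)) (.node (nat_lit 32) (.node (nat_lit 16) rows132 rows133) (.node (nat_lit 16) rows134 rows135))) (.node (nat_lit 64) (.node (nat_lit 32) (.node (nat_lit 16) rows136 rows137) (.node (nat_lit 16) rows138 rows139)) (.node (nat_lit 32) (.node (nat_lit 16) rows140 rows141) (.node (nat_lit 16) rows142 rows143)))) (.node (nat_lit 128) (.node (nat_lit 64) (.node (nat_lit 32) (.node (nat_lit 16) rows144 rows145) (.node (nat_lit 16) rows146 rows147)) (.node (nat_lit 32) (.node (nat_lit 16) rows148 rows149) (.node (nat_lit 16) rows150 rows151))) (.node (nat_lit 16) rows152 rows153))))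
noncomputable def recs : Tr ℕ := (.node (nat_lit 4096) (.node (nat_lit 2048) (.node (nat_lit 1024) (.node (nat_lit 512) (.node (nat_lit 256) (.node (nat_lit 128) (.node (nat_lit 64) (.node (nat_lit 32) (.node (nat_lit 16) recs0 recs1) (.node (nat_lit 16) recs2 recs3)) (.node (nat_lit 32) (.node (nat_lit 16) recs4 recs5) (.node (nat_lit 16) recs6 recs7))) (.node (nat_lit 64) (.node (nat_lit 32) (.node (nat_lit 16) recs8 recs9) (.node (nat_lit 16) recs10 recs11)) (.node (nat_lit 32) (.node (nat_lit 16) recs12 recs13) (.node (nat_lit 16) recs14 recs15)))) (.node (nat_lit 128) (.node (nat_lit 64) (.node (nat_lit 32) (.node (nat_lit 16) recs16 recs17) (.node (nat_lit 16) recs18 recs19)) (.node (nat_lit 32) (.node (nat_lit 16) recs20 recs21) (.node (nat_lit 16) recs22 recs23))) (.node (nat_lit 64) (.node (nat_lit 32) (.node (nat_lit 16) recs24 recs25) (.node (nat_lit 16) recs26 recs27)) (.node (nat_lit 32) (.node (nat_lit 16) recs28 recs29) (.node (nat_lit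 16) recs30 recs31))))) (.node (nat_lit 256) (.node (nat_lit 128) (.node (nat_lit 64) (.node (nat_lit 32) (.node (nat_lit 16) recs32 recs33) (.node (nat_lit 16) recs34 recs35)) (.node (nat_lit 32) (.node (nat_lit 16) recs36 recs37) (.node (nat_lit 16) recs38 recs39))) (.node (nat_lit 64) (.node (nat_lit 32) (.node (nat_lit 16) recs40 recs41) (.node (nat_lit 16) recs42 recs43)) (.node (nat_lit 32) (.node (nat_lit 16) recs44 recs45) (.node (nat_lit 16) recs46 recs47)))) (.node (nat_lit 128) (.node (nat_lit 64) (.node (nat_lit 32) (.node (nat_lit 16) recs48 recs49) (.node (nat_lit 16) recs50 recs51)) (.node (nat_lit 32) (.node (nat_lit 16) recs52 recs53) (.node (nat_lit 16) recs54 recs55))) (.node (nat_lit 64) (.node (nat_lit 32) (.node (nat_lit 16) recs56 recs57) (.node (nat_lit 16) recs58 recs59)) (.node (nat_lit 32) (.node (nat_lit 16) recs60 recs61) (.node (nat_lit 16) recs62 recs63)))))) (.node (nat_lit 512) (.node (nat_lit 256) (.node (nat_lit 128)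 (.node (nat_lit 64) (.node (nat_lit 32) (.node (nat_lit 16) recs64 recs65) (.node (nat_lit 16) recs66 recs67)) (.node (nat_lit 32) (.node (nat_lit 16) recs68 recs69) (.node (nat_lit 16) recs70 recs71))) (.node (nat_lit 64) (.node (nat_lit 32) (.node (nat_lit 16) recs72 recs73) (.node (nat_lit 16) recs74 recs75)) (.node (nat_lit 32) (.node (nat_lit 16) recs76 recs77) (.node (nat_lit 16) recs78 recs79)))) (.node (nat_lit 128) (.node (nat_lit 64) (.node (nat_lit 32) (.node (nat_lit 16) recs80 recs81) (.node (nat_lit 16) recs82 recs83)) (.node (nat_lit 32) (.node (nat_lit 16) recs84 recs85) (.node (nat_lit 16) recs86 recs87))) (.node (nat_lit 64) (.node (nat_lit 32) (.node (nat_lit 16) recs88 recs89) (.node (nat_lit 16) recs90 recs91)) (.node (nat_lit 32) (.node (nat_lit 16) recs92 recs93) (.node (nat_lit 16) recs94 recs95))))) (.node (nat_lit 256) (.node (nat_lit 128) (.node (nat_lit 64) (.node (nat_lit 32) (.node (nat_lit 16) recs96 recs97) (.node (nat_lit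 16) recs98 recs99)) (.node (nat_lit 32) (.node (nat_lit 16) recs100 recs101) (.node (nat_lit 16) recs102 recs103))) (.node (nat_lit 64) (.node (nat_lit 32) (.node (nat_lit 16) recs104 recs105) (.node (nat_lit 16) recs106 recs107)) (.node (nat_lit 32) (.node (nat_lit 16) recs108 recs109) (.node (nat_lit 16) recs110 recs111)))) (.node (nat_lit 128) (.node (nat_lit 64) (.node (nat_lit 32) (.node (nat_lit 16) recs112 recs113) (.node (nat_lit 16) recs114 recs115)) (.node (nat_lit 32) (.node (nat_lit 16) recs116 recs117) (.node (nat_lit 16) recs118 recs119))) (.node (nat_lit 64) (.node (nat_lit 32) (.node (nat_lit 16) recs120 recs121) (.node (nat_lit 16) recs122 recs123)) (.node (nat_lit 32) (.node (nat_lit 16) recs124 recs125) (.node (nat_lit 16) recs126 recs127))))))) (.node (nat_lit 1024) (.node (nat_lit 512) (.node (nat_lit 256) (.node (nat_lit 128) (.node (nat_lit 64) (.node (nat_lit 32) (.node (nat_lit 16) recs128 recs129) (.node (nat_lit 16) recs130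 recs131)) (.node (nat_lit 32) (.node (nat_lit 16) recs132 recs133) (.node (nat_lit 16) recs134 recs135))) (.node (nat_lit 64) (.node (nat_lit 32) (.node (nat_lit 16) recs136 recs137) (.node (nat_lit 16) recs138 recs139)) (.node (nat_lit 32) (.node (nat_lit 16) recs140 recs141) (.node (nat_lit 16) recs142 recs143)))) (.node (nat_lit 128) (.node (nat_lit 64) (.node (nat_lit 32) (.node (nat_lit 16) recs144 recs145) (.node (nat_lit 16) recs146 recs147)) (.node (nat_lit 32) (.node (nat_lit 16) recs148 recs149) (.node (nat_lit 16) recs150 recs151))) (.node (nat_lit 64) (.node (nat_lit 32) (.node (nat_lit 16) recs152 recs153) (.node (nat_lit 16) recs154 recs155)) (.node (nat_lit 32) (.node (nat_lit 16) recs156 recs157) (.node (nat_lit 16) recs158 recs159))))) (.node (nat_lit 256) (.node (nat_lit 128) (.node (nat_lit 64) (.node (nat_lit 32) (.node (nat_lit 16) recs160 recs161) (.node (nat_lit 16) recs162 recs163)) (.node (nat_lit 32) (.node (nat_lit 16) recs164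 recs165) (.node (nat_lit 16) recs166 recs167))) (.node (nat_lit 64) (.node (nat_lit 32) (.node (nat_lit 16) recs168 recs169) (.node (nat_lit 16) recs170 recs171)) (.node (nat_lit 32) (.node (nat_lit 16) recs172 recs173) (.node (nat_lit 16) recs174 recs175)))) (.node (nat_lit 128) (.node (nat_lit 64) (.node (nat_lit 32) (.node (nat_lit 16) recs176 recs177) (.node (nat_lit 16) recs178 recs179)) (.node (nat_lit 32) (.node (nat_lit 16) recs180 recs181) (.node (nat_lit 16) recs182 recs183))) (.node (nat_lit 64) (.node (nat_lit 32) (.node (nat_lit 16) recs184 recs185) (.node (nat_lit 16) recs186 recs187)) (.node (nat_lit 32) (.node (nat_lit 16) recs188 recs189) (.node (nat_lit 16) recs190 recs191)))))) (.node (nat_lit 512) (.node (nat_lit 256) (.node (nat_lit 128) (.node (nat_lit 64) (.node (nat_lit 32) (.node (nat_lit 16) recs192 recs193) (.node (nat_lit 16) recs194 recs195)) (.node (nat_lit 32) (.node (nat_lit 16) recs196 recs197) (.node (nat_lit 16) recs198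 recs199))) (.node (nat_lit 64) (.node (nat_lit 32) (.node (nat_lit 16) recs200 recs201) (.node (nat_lit 16) recs202 recs203)) (.node (nat_lit 32) (.node (nat_lit 16) recs204 recs205) (.node (nat_lit 16) recs206 recs207)))) (.node (nat_lit 128) (.node (nat_lit 64) (.node (nat_lit 32) (.node (nat_lit 16) recs208 recs209) (.node (nat_lit 16) recs210 recs211)) (.node (nat_lit 32) (.node (nat_lit 16) recs212 recs213) (.node (nat_lit 16) recs214 recs215))) (.node (nat_lit 64) (.node (nat_lit 32) (.node (nat_lit 16) recs216 recs217) (.node (nat_lit 16) recs218 recs219)) (.node (nat_lit 32) (.node (nat_lit 16) recs220 recs221) (.node (nat_lit 16) recs222 recs223))))) (.node (nat_lit 256) (.node (nat_lit 128) (.node (nat_lit 64) (.node (nat_lit 32) (.node (nat_lit 16) recs224 recs225) (.node (nat_lit 16) recs226 recs227)) (.node (nat_lit 32) (.node (nat_lit 16) recs228 recs229) (.node (nat_lit 16) recs230 recs231))) (.node (nat_lit 64) (.node (nat_lit 32) (.node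 (nat_lit 16) recs232 recs233) (.node (nat_lit 16) recs234 recs235)) (.node (nat_lit 32) (.node (nat_lit 16) recs236 recs237) (.node (nat_lit 16) recs238 recs239)))) (.node (nat_lit 128) (.node (nat_lit 64) (.node (nat_lit 32) (.node (nat_lit 16) recs240 recs241) (.node (nat_lit 16) recs242 recs243)) (.node (nat_lit 32) (.node (nat_lit 16) recs244 recs245) (.node (nat_lit 16) recs246 recs247))) (.node (nat_lit 64) (.node (nat_lit 32) (.node (nat_lit 16) recs248 recs249) (.node (nat_lit 16) recs250 recs251)) (.node (nat_lit 32) (.node (nat_lit 16) recs252 recs253) (.node (nat_lit 16) recs254 recs255)))))))) (.node (nat_lit 512) (.node (nat_lit 256) (.node (nat_lit 128) (.node (nat_lit 64) (.node (nat_lit 32) (.node (nat_lit 16) recs256 recs257) (.node (nat_lit 16) recs258 recs259)) (.node (nat_lit 32) (.node (nat_lit 16) recs260 recs261) (.node (nat_lit 16) recs262 recs263))) (.node (nat_lit 64) (.node (nat_lit 32) (.node (nat_lit 16) recs264 recs265) (.node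 (nat_lit 16) recs266 recs267)) (.node (nat_lit 32) (.node (nat_lit 16) recs268 recs269) (.node (nat_lit 16) recs270 recs271)))) (.node (nat_lit 128) (.node (nat_lit 64) (.node (nat_lit 32) (.node (nat_lit 16) recs272 recs273) (.node (nat_lit 16) recs274 recs275)) (.node (nat_lit 32) (.node (nat_lit 16) recs276 recs277) (.node (nat_lit 16) recs278 recs279))) (.node (nat_lit 64) (.node (nat_lit 32) (.node (nat_lit 16) recs280 recs281) (.node (nat_lit 16) recs282 recs283)) (.node (nat_lit 32) (.node (nat_lit 16) recs284 recs285) (.node (nat_lit 16) recs286 recs287))))) (.node (nat_lit 128) (.node (nat_lit 64) (.node (nat_lit 32) (.node (nat_lit 16) recs288 recs289) (.node (nat_lit 16) recs290 recs291)) (.node (nat_lit 32) (.node (nat_lit 16) recs292 recs293) (.node (nat_lit 16) recs294 recs295))) (.node (nat_lit 64) (.node (nat_lit 32) (.node (nat_lit 16) recs296 recs297) (.node (nat_lit 16) recs298 recs299)) (.node (nat_lit 16) recs300 recs301)))))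
noncomputable def ci0 : CI := ⟨[], (nat_lit 0), false, (.node (nat_lit 1) (.leaf Rule.defn) (.leaf Rule.copy)), (.node (nat_lit 64) (.node (nat_lit 32) (.node (nat_lit 16) (.node (nat_lit 8) (.node (nat_lit 4) (.node (nat_lit 2) (.node (nat_lit 1) (.leaf (XRule.rot (nat_lit 0) [] 42 0)) (.leaf (XRule.rot (nat_lit 507454382829505184495) [239, 193, 239, 101, 9, 193, 9, 55] 34 0))) (.node (nat_lit 1) (.leaf (XRule.rot (nat_lit 13618671343) [239, 55, 239, 101] 26 2)) (.leaf (XRule.rot (nat_lit 935872823981251068425) [9, 193, 9, 55, 239, 193, 239, 101] 34 4)))) (.node (nat_lit 2) (.node (nat_lit 1) (.leaf (XRule.rot (nat_lit 1234440759) [55, 9, 101, 9] 12 3)) (.leaf (XRule.rot (nat_lit 1782765710922096673289) [9, 193, 147, 193, 9, 193, 147, 193] 14 0))) (.node (nat_lit 1) (.leaf (XRule.rot (nat_lit 86492312610837702337) [193, 147, 193, 9, 193, 147, 193, 9] 14 1)) (.leaf (XRule.rot (nat_lit 4617) [9, 9] 42 0))))) (.node (nat_lit 4) (.node (nat_lit 2) (.node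 (nat_lit 1) (.leaf (XRule.rot (nat_lit 1948410756492993) [193, 55, 193, 55, 193, 55] 4 1)) (.leaf (XRule.rot (nat_lit 6800711518880403) [147, 193, 147, 193, 147, 193] 6 0))) (.node (nat_lit 1) (.leaf (XRule.rot (nat_lit 13594577555) [147, 101, 147, 101] 3 1)) (.leaf (XRule.rot (nat_lit 32092577381) [101, 239, 55, 239] 26 1)))) (.node (nat_lit 2) (.node (nat_lit 1) (.leaf (XRule.rot (nat_lit 1232944528998101652446578413863667727329399489) [193, 9, 193, 101, 101, 193, 9, 193, 55, 193, 9, 193, 9, 147, 9, 147, 55] 24 1)) (.leaf (XRule.rot (nat_lit 4308451617956397374487364091203059643613807113) [9, 193, 55, 193, 9, 193, 9, 147, 9, 147, 55, 193, 9, 193, 101, 101, 193] 24 7))) (.node (nat_lit 1) (.leaf (XRule.rot (nat_lit 207110257508754020644226222442108346830188179) [147, 55, 193, 9, 193, 101, 101, 193, 9, 193, 55, 193, 9, 193, 9, 147, 9] 24 16)) (.leaf (XRule.rot (nat_lit 1222382181) [101, 9, 55, 9] 12 1)))))) (.node (nat_lit 8) (.node (nat_lit 4) (.node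 (nat_lit 2) (.node (nat_lit 1) (.leaf (XRule.rot (nat_lit 2207871108566380450405) [101, 9, 193, 9, 55, 239, 193, 239] 34 3)) (.leaf (XRule.rot (nat_lit 2207034360182413726355) [147, 9, 147, 239, 147, 9, 147, 239] 30 1))) (.node (nat_lit 1) (.leaf (XRule.rot (nat_lit 28261) [101, 55] 42 0)) (.leaf (XRule.rot (nat_lit 122607) [239, 239] 42 0)))) (.node (nat_lit 2) (.node (nat_lit 1) (.leaf (XRule.rot (nat_lit 4304452256428387618179348890443878202675111433) [9, 147, 9, 147, 55, 193, 9, 193, 101, 101, 193, 9, 193, 55, 193, 9, 193] 24 13)) (.leaf (XRule.rot (nat_lit 51767) [55, 101] 42 0))) (.node (nat_lit 1) (.leaf (XRule.rot (nat_lit 85666884080525762195) [147, 239, 147, 9, 147, 239, 147, 9] 30 3)) (.leaf (XRule.rot (nat_lit 1356003007550621820655) [239, 147, 9, 147, 239, 147, 9, 147] 30 0))))) (.node (nat_lit 4) (.node (nat_lit 2) (.node (nat_lit 1) (.leaf (XRule.rot (nat_lit 1784418180141584534255) [239, 101, 9, 193, 9, 55, 239, 193] 34 2)) (.leaf (XRule.rot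 (nat_lit 1360146303402383320585) [9, 147, 239, 147, 9, 147, 239, 147] 30 2))) (.node (nat_lit 1) (.leaf (XRule.rot (nat_lit 7384386057) [9, 101, 9, 55] 12 0)) (.leaf (XRule.rot (nat_lit 1780279733411039773331) [147, 193, 9, 193, 147, 193, 9, 193] 14 2)))) (.node (nat_lit 2) (.node (nat_lit 1) (.leaf (XRule.rot (nat_lit 2205377038649755295425) [193, 239, 101, 9, 193, 9, 55, 239] 34 1)) (.leaf (XRule.rot (nat_lit 13558377993) [9, 55, 9, 101] 12 2))) (.node (nat_lit 1) (.leaf (XRule.rot (nat_lit 7444679407) [239, 101, 239, 55] 26 0)) (.leaf (XRule.rot (nat_lit 4304448335523237509861066496470096141922697737) [9, 193, 101, 193, 9, 193, 55, 55, 193, 9, 193, 101, 147, 9, 147, 9, 193] 25 12))))))) (.node (nat_lit 16) (.node (nat_lit 8) (.node (nat_lit 4) (.node (nat_lit 2) (.node (nat_lit 1) (.leaf (XRule.rot (nat_lit 4304452256383720454071182121551858394141632101) [101, 147, 9, 147, 9, 193, 9, 193, 101, 193, 9, 193, 55, 55, 193, 9, 193] 25 1)) (.leaf (XRule.rot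 (nat_lit 5185385336743617) [193, 147, 193, 147, 193, 147] 6 1))) (.node (nat_lit 1) (.leaf (XRule.rot (nat_lit 3566898046618305) [193, 101, 193, 101, 193, 101] 5 0)) (.leaf (XRule.rot (nat_lit 6797550410891877) [101, 193, 101, 193, 101, 193] 5 1)))) (.node (nat_lit 2) (.node (nat_lit 1) (.leaf (XRule.rot (nat_lit 1359312798271970480833) [193, 9, 193, 147, 193, 9, 193, 147] 14 3)) (.leaf (XRule.rot (nat_lit 32104635959) [55, 239, 101, 239] 26 3))) (.node (nat_lit 1) (.leaf (XRule.rot (nat_lit 7420538515) [147, 55, 147, 55] 2 0)) (.leaf (XRule.rot (nat_lit 1781937051751744373303) [55, 193, 101, 193, 55, 193, 101, 193] 10 1))))) (.node (nat_lit 4) (.node (nat_lit 2) (.node (nat_lit 1) (.leaf (XRule.rot (nat_lit 84838224941031363265) [193, 9, 55, 239, 193, 239, 101, 9] 34 5)) (.leaf (XRule.rot (nat_lit 1780276502771059682825) [9, 55, 239, 193, 239, 101, 9, 193] 34 6))) (.node (nat_lit 1) (.leaf (XRule.rot (nat_lit 333084574356207) [239, 9, 239, 9, 239, 9]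 28 0)) (.leaf (XRule.rot (nat_lit 20356299001799419992118482005178309748233) [9, 147, 9, 147, 9, 239, 9, 147, 9, 147, 9, 147, 9, 147, 239] 32 10)))) (.node (nat_lit 2) (.node (nat_lit 1) (.leaf (XRule.rot (nat_lit 1781108392581392073317) [101, 193, 55, 193, 101, 193, 55, 193] 10 3)) (.leaf (XRule.rot (nat_lit 790062962157385953472991309737813086867) [147, 9, 239, 147, 9, 147, 9, 147, 9, 147, 9, 239, 9, 147, 9] 33 12))) (.node (nat_lit 1) (.leaf (XRule.rot (nat_lit 4304452264071448593720388343072193750432509495) [55, 55, 193, 9, 193, 101, 147, 9, 147, 9, 193, 9, 193, 101, 193, 9, 193] 25 6)) (.leaf (XRule.rot (nat_lit 19744499255) [55, 147, 55, 147] 2 1)))))) (.node (nat_lit 8) (.node (nat_lit 4) (.node (nat_lit 2) (.node (nat_lit 1) (.leaf (XRule.rot (nat_lit 12514578152137239064264068216442854338241) [193, 55, 147, 193, 55, 147, 193, 55, 147, 193, 55, 147, 193, 55, 147] 8 2)) (.leaf (XRule.rot (nat_lit 4304452264041709283302518367045829993758556727)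 [55, 193, 9, 193, 9, 147, 9, 147, 55, 193, 9, 193, 101, 101, 193, 9, 193] 24 9))) (.node (nat_lit 1) (.leaf (XRule.rot (nat_lit 99009) [193, 193] 42 0)) (.leaf (XRule.rot (nat_lit 86487450876167708215) [55, 239, 193, 239, 101, 9, 193, 9] 34 7)))) (.node (nat_lit 2) (.node (nat_lit 1) (.leaf (XRule.rot (nat_lit 209121666579623630845294822942709646484074177) [193, 55, 55, 193, 9, 193, 101, 147, 9, 147, 9, 193, 9, 193, 101, 193, 9] 25 7)) (.leaf (XRule.rot (nat_lit 75411) [147, 147] 42 0))) (.node (nat_lit 1) (.leaf (XRule.rot (nat_lit 209117745689313908437115074512596408332503745) [193, 101, 101, 193, 9, 193, 55, 193, 9, 193, 9, 147, 9, 147, 55, 193, 9] 24 3)) (.leaf (XRule.rot (nat_lit 207118084003193201896089573834159521593037459) [147, 9, 193, 9, 193, 101, 193, 9, 193, 55, 55, 193, 9, 193, 101, 147, 9] 25 15))))) (.node (nat_lit 4) (.node (nat_lit 2) (.node (nat_lit 1) (.leaf (XRule.rot (nat_lit 209121651353096696895867097444466229420256961) [193, 55,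 193, 9, 193, 9, 147, 9, 147, 55, 193, 9, 193, 101, 101, 193, 9] 24 8)) (.leaf (XRule.rot (nat_lit 12506949931660498268364002824363320878601) [9, 147, 9, 239, 147, 9, 147, 9, 147, 9, 147, 9, 239, 9, 147] 33 13))) (.node (nat_lit 1) (.leaf (XRule.rot (nat_lit 106040447931219881969619185106256986981870174867) [147, 193, 147, 9, 147, 9, 147, 9, 147, 9, 193, 9, 147, 9, 147, 9, 147, 9] 22 16)) (.leaf (XRule.rot (nat_lit 209117753332404153833095077245149194696266433) [193, 9, 147, 9, 147, 55, 193, 9, 193, 101, 101, 193, 9, 193, 55, 193, 9] 24 12)))) (.node (nat_lit 2) (.node (nat_lit 1) (.leaf (XRule.rot (nat_lit 1682753733988604118614447563954554804892156110345) [9, 147, 9, 147, 9, 147, 9, 193, 9, 147, 9, 147, 9, 147, 9, 147, 193, 147] 22 1)) (.leaf (XRule.rot (nat_lit 12545090684569361865847806805869272049161) [9, 147, 9, 147, 9, 147, 9, 239, 9, 147, 9, 147, 9, 239, 147] 33 8))) (.node (nat_lit 1) (.leaf (XRule.rot (nat_lit 8409715485040137) [9, 239, 9, 239,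 9, 239] 28 1)) (.leaf (XRule.rot (nat_lit 6794389302903351) [55, 193, 55, 193, 55, 193] 4 0)))))))) (.node (nat_lit 32) (.node (nat_lit 16) (.node (nat_lit 8) (.node (nat_lit 4) (.node (nat_lit 2) (.node (nat_lit 1) (.leaf (XRule.rot (nat_lit 1234948119247390736228414736181296269535482561) [193, 9, 193, 9, 147, 9, 147, 55, 193, 9, 193, 101, 101, 193, 9, 193, 55] 24 10)) (.leaf (XRule.rot (nat_lit 209117730462816130451709404531007225554848449) [193, 101, 147, 9, 147, 9, 193, 9, 193, 101, 193, 9, 193, 55, 55, 193, 9] 25 2))) (.node (nat_lit 1) (.leaf (XRule.rot (nat_lit 2260782398349972622318550877468369732608725697) [193, 9, 193, 55, 55, 193, 9, 193, 101, 147, 9, 147, 9, 193, 9, 193, 101] 25 9)) (.leaf (XRule.rot (nat_lit 106040447931204954059205655669697469165737874067) [147, 9, 147, 55, 147, 9, 147, 9, 147, 9, 147, 9, 101, 9, 147, 9, 147, 9] 18 14)))) (.node (nat_lit 2) (.node (nat_lit 1) (.leaf (XRule.rot (nat_lit 106040447961792125815727008375917059884054221459)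 [147, 9, 147, 9, 193, 9, 147, 9, 147, 9, 147, 9, 147, 193, 147, 9, 147, 9] 22 4)) (.leaf (XRule.rot (nat_lit 106040447931219998536529164296234432033217319571) [147, 9, 193, 9, 147, 9, 147, 9, 147, 9, 147, 193, 147, 9, 147, 9, 147, 9] 22 6))) (.node (nat_lit 1) (.leaf (XRule.rot (nat_lit 207110249895548694872509362668734089460454081) [193, 9, 193, 101, 193, 9, 193, 55, 55, 193, 9, 193, 101, 147, 9, 147, 9] 25 13)) (.leaf (XRule.rot (nat_lit 19756557925) [101, 147, 101, 147] 3 0))))) (.node (nat_lit 4) (.node (nat_lit 2) (.node (nat_lit 1) (.leaf (XRule.rot (nat_lit 1678650396872074513112368796617388627103957984777) [9, 147, 193, 147, 9, 147, 9, 147, 9, 147, 9, 193, 9, 147, 9, 147, 9, 147] 22 15)) (.leaf (XRule.rot (nat_lit 3278617969652947133647236089995823757498590729) [9, 147, 55, 193, 9, 193, 101, 101, 193, 9, 193, 55, 193, 9, 193, 9, 147] 24 15))) (.node (nat_lit 1) (.leaf (XRule.rot (nat_lit 6403543078888223586869831052277040072173065) [9, 147, 9,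 147, 9, 147, 9, 147, 9, 147, 9, 147, 9, 147, 9, 147] 16 0)) (.leaf (XRule.rot (nat_lit 805393722060001034964699276887842362003) [147, 9, 147, 9, 239, 9, 147, 9, 147, 9, 147, 9, 147, 239, 9] 32 11)))) (.node (nat_lit 2) (.node (nat_lit 1) (.leaf (XRule.rot (nat_lit 4304452256413459707543809867001041185514244709) [101, 101, 193, 9, 193, 55, 193, 9, 193, 9, 147, 9, 147, 55, 193, 9, 193] 24 4)) (.leaf (XRule.rot (nat_lit 209113840100112302840578005255483453168423571) [147, 9, 147, 55, 193, 9, 193, 101, 101, 193, 9, 193, 55, 193, 9, 193, 9] 24 14))) (.node (nat_lit 1) (.leaf (XRule.rot (nat_lit 106048462261525603855365432698712389672862749331) [147, 9, 147, 9, 147, 9, 193, 9, 147, 9, 147, 9, 147, 9, 147, 193, 147, 9] 22 2)) (.leaf (XRule.rot (nat_lit 1678650396872134195370278141885840493393696073225) [9, 147, 9, 193, 9, 147, 9, 147, 9, 147, 9, 147, 193, 147, 9, 147, 9, 147] 22 5)))))) (.node (nat_lit 8) (.node (nat_lit 4) (.node (nat_lit 2) (.node (nat_lit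 1) (.leaf (XRule.rot (nat_lit 209113832442094431535268859954753410081016513) [193, 101, 193, 9, 193, 55, 55, 193, 9, 193, 101, 147, 9, 147, 9, 193, 9] 25 11)) (.leaf (XRule.rot (nat_lit 12506950018957886971800432251392653338121) [9, 147, 9, 239, 9, 147, 9, 147, 9, 147, 9, 147, 239, 9, 147] 32 12))) (.node (nat_lit 1) (.leaf (XRule.rot (nat_lit 26528357) [101, 101, 101] 1 0)) (.leaf (XRule.rot (nat_lit 12506920075953561693106796098641466233583) [239, 9, 147, 9, 147, 9, 239, 9, 147, 9, 147, 9, 147, 9, 147] 32 9)))) (.node (nat_lit 2) (.node (nat_lit 1) (.leaf (XRule.rot (nat_lit 4306444122132747355078625319512049664524648969) [9, 193, 101, 147, 9, 147, 9, 193, 9, 193, 101, 193, 9, 193, 55, 55, 193] 25 3)) (.leaf (XRule.rot (nat_lit 12506920076067785189829376960980689739273) [9, 239, 9, 147, 9, 147, 9, 147, 9, 147, 239, 9, 147, 9, 147] 32 14))) (.node (nat_lit 1) (.leaf (XRule.rot (nat_lit 790062903845680785325247932657551353583) [239, 147, 9, 147, 9, 147,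 9, 147, 9, 239, 9, 147, 9, 147, 9] 33 10)) (.leaf (XRule.rot (nat_lit 1678652400454650914442077863721115600256709764617) [9, 147, 9, 147, 9, 147, 193, 147, 9, 147, 9, 147, 9, 147, 9, 193, 9, 147] 22 11))))) (.node (nat_lit 4) (.node (nat_lit 2) (.node (nat_lit 1) (.leaf (XRule.rot (nat_lit 935039303051592888001) [193, 55, 193, 101, 193, 55, 193, 101] 10 0)) (.leaf (XRule.rot (nat_lit 2256790855673399383536877865946046955308454593) [193, 9, 193, 55, 193, 9, 193, 9, 147, 9, 147, 55, 193, 9, 193, 101, 101] 24 6))) (.node (nat_lit 1) (.leaf (XRule.rot (nat_lit 3282625134805807934601272002726025236077422089) [9, 147, 9, 193, 9, 193, 101, 193, 9, 193, 55, 55, 193, 9, 193, 101, 147] 25 16)) (.leaf (XRule.rot (nat_lit 4306455831361815326348089749152737864930656777) [9, 193, 9, 147, 9, 147, 55, 193, 9, 193, 101, 101, 193, 9, 193, 55, 193] 24 11)))) (.node (nat_lit 2) (.node (nat_lit 1) (.leaf (XRule.rot (nat_lit 805349025796984876363863990489030857363) [147, 9,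 147, 9, 147, 9, 147, 239, 9, 147, 9, 147, 9, 239, 9] 32 2)) (.leaf (XRule.rot (nat_lit 440049183173444927733466805900997824734687947722139375) [239, 147, 239, 147, 9, 239, 147, 239, 9, 147, 239, 147, 239, 147, 9, 239, 147, 239, 9, 147] 40 6))) (.node (nat_lit 1) (.leaf (XRule.rot (nat_lit 20333414515135146788490815368986819372553) [9, 147, 9, 147, 9, 147, 9, 147, 239, 9, 147, 9, 147, 9, 239] 32 1)) (.leaf (XRule.rot (nat_lit 510765807831215295169) [193, 101, 193, 55, 193, 101, 193, 55] 10 2))))))) (.node (nat_lit 16) (.node (nat_lit 8) (.node (nat_lit 4) (.node (nat_lit 2) (.node (nat_lit 1) (.leaf (XRule.rot (nat_lit 4306451918099609683606328350085711246684160521) [9, 193, 101, 101, 193, 9, 193, 55, 193, 9, 193, 9, 147, 9, 147, 55, 193] 24 2)) (.leaf (XRule.rot (nat_lit 2203877547787867720185855097040959450883306104329) [9, 147, 9, 147, 9, 147, 9, 147, 193, 147, 9, 147, 9, 147, 9, 147, 9, 193] 22 9))) (.node (nat_lit 1) (.leaf (XRule.rot (nat_lit 14446135)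 [55, 55, 55] 0 0)) (.leaf (XRule.rot (nat_lit 4308459413938187556594359546303689180288221705) [9, 193, 55, 55, 193, 9, 193, 101, 147, 9, 147, 9, 193, 9, 193, 101, 193] 25 8)))) (.node (nat_lit 2) (.node (nat_lit 1) (.leaf (XRule.rot (nat_lit 790062962327888665784390585962479751827) [147, 9, 239, 9, 147, 9, 147, 9, 147, 9, 147, 239, 9, 147, 9] 32 13)) (.leaf (XRule.rot (nat_lit 12506920075953561695224033201439430270473) [9, 239, 9, 147, 9, 147, 9, 239, 147, 9, 147, 9, 147, 9, 147] 33 2))) (.node (nat_lit 1) (.leaf (XRule.rot (nat_lit 790062903845458342978577306568039863023) [239, 9, 147, 9, 147, 9, 239, 147, 9, 147, 9, 147, 9, 147, 9] 33 1)) (.leaf (XRule.rot (nat_lit 790062962157385953472994556164786885267) [147, 9, 147, 9, 147, 239, 9, 147, 9, 147, 9, 239, 9, 147, 9] 32 4))))) (.node (nat_lit 4) (.node (nat_lit 2) (.node (nat_lit 1) (.leaf (XRule.rot (nat_lit 790062903845681435741478368598393885423) [239, 9, 147, 9, 147, 9, 147, 9, 147, 239, 9, 147,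 9, 147, 9] 32 0)) (.leaf (XRule.rot (nat_lit 716223600488517347803473449794579868573463551073443475) [147, 239, 147, 9, 239, 147, 239, 9, 147, 239, 147, 239, 147, 9, 239, 147, 239, 9, 147, 239] 40 7))) (.node (nat_lit 1) (.leaf (XRule.rot (nat_lit 715418427266163459656733070998916258134545395263856275) [147, 239, 9, 147, 239, 147, 239, 147, 9, 239, 147, 239, 9, 147, 239, 147, 239, 147, 9, 239] 40 2)) (.leaf (XRule.rot (nat_lit 106040447931219881913118828000747677872802239169) [193, 9, 147, 9, 147, 9, 147, 9, 147, 193, 147, 9, 147, 9, 147, 9, 147, 9] 22 8)))) (.node (nat_lit 2) (.node (nat_lit 1) (.leaf (XRule.rot (nat_lit 2206949051594392826830471107557644547095593226899) [147, 9, 147, 9, 147, 9, 147, 9, 193, 9, 147, 9, 147, 9, 147, 9, 147, 193] 22 0)) (.leaf (XRule.rot (nat_lit 20333414515135146787220471168916622414483) [147, 9, 147, 9, 147, 9, 147, 9, 239, 9, 147, 9, 147, 9, 239] 33 9))) (.node (nat_lit 1) (.leaf (XRule.rot (nat_lit 790137455815411077686826864389191897747)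 [147, 9, 147, 9, 147, 9, 239, 9, 147, 9, 147, 9, 239, 147, 9] 33 7)) (.leaf (XRule.rot (nat_lit 1678650396872074484184185958596622363261174907401) [9, 193, 9, 147, 9, 147, 9, 147, 9, 147, 193, 147, 9, 147, 9, 147, 9, 147] 22 7)))))) (.node (nat_lit 8) (.node (nat_lit 4) (.node (nat_lit 2) (.node (nat_lit 1) (.leaf (XRule.rot (nat_lit 27800493328254196602392862521229280008592173213492975) [239, 147, 239, 9, 147, 239, 147, 239, 147, 9, 239, 147, 239, 9, 147, 239, 147, 239, 147, 9] 40 1)) (.leaf (XRule.rot (nat_lit 716226224566592643734438665408210465282128894874096275) [147, 9, 239, 147, 239, 9, 147, 239, 147, 239, 147, 9, 239, 147, 239, 9, 147, 239, 147, 239] 40 9))) (.node (nat_lit 1) (.leaf (XRule.rot (nat_lit 716226221495100554066591425950588716687423546217801225) [9, 147, 239, 147, 239, 147, 9, 239, 147, 239, 9, 147, 239, 147, 239, 147, 9, 239, 147, 239] 40 4)) (.leaf (XRule.rot (nat_lit 3278614071691820338528203886028203984194732553) [9, 193, 9, 193,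 101, 193, 9, 193, 55, 55, 193, 9, 193, 101, 147, 9, 147] 25 14)))) (.node (nat_lit 2) (.node (nat_lit 1) (.leaf (XRule.rot (nat_lit 20333414515135146352762762827850041337353) [9, 147, 9, 147, 9, 239, 147, 9, 147, 9, 147, 9, 147, 9, 239] 33 0)) (.leaf (XRule.rot (nat_lit 805349025796984875512832637869623087763) [147, 9, 147, 9, 239, 147, 9, 147, 9, 147, 9, 147, 9, 239, 9] 33 14))) (.node (nat_lit 1) (.leaf (XRule.rot (nat_lit 441391138544046534449870597777528059082205461633307375) [239, 9, 147, 239, 147, 239, 147, 9, 239, 147, 239, 9, 147, 239, 147, 239, 147, 9, 239, 147] 40 3)) (.leaf (XRule.rot (nat_lit 28337277518140820857991630215436272205578272745840275) [147, 239, 147, 239, 147, 9, 239, 147, 239, 9, 147, 239, 147, 239, 147, 9, 239, 147, 239, 9] 40 5))))) (.node (nat_lit 2) (.node (nat_lit 1) (.leaf (XRule.rot (nat_lit 441392716273148935200022366516608711830540585655983625) [9, 239, 147, 239, 9, 147, 239, 147, 239, 147, 9, 239, 147, 239, 9, 147, 239,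 147, 239, 147] 40 0)) (.leaf (XRule.rot (nat_lit 441392716273168486179796048686899113425747244604008175) [239, 147, 239, 147, 239, 147, 239, 147, 239, 147, 239, 147, 239, 147, 239, 147, 239, 147, 239, 147] 36 0))) (.leaf (XRule.rot (nat_lit 441392711147996444387657200079863339571343973656372975) [239, 147, 9, 239, 147, 239, 9, 147, 239, 147, 239, 147, 9, 239, 147, 239, 9, 147, 239, 147] 40 8)))))))⟩
noncomputable def ci9 : CI := ⟨[0], (nat_lit 9), true, (.node (nat_lit 32) (.node (nat_lit 16) (.node (nat_lit 8) (.node (nat_lit 4) (.node (nat_lit 2) (.node (nat_lit 1) (.leaf Rule.defn) (.leaf Rule.copy)) (.node (nat_lit 1) (.leaf (Rule.fwd [nat_lit 9] 42 0)) (.leaf (Rule.fwd [nat_lit 147, nat_lit 239, nat_lit 147, nat_lit 9, nat_lit 147, nat_lit 239, nat_lit 147] 30 2)))) (.node (nat_lit 2) (.node (nat_lit 1) (.leaf (Rule.fwd [nat_lit 193, nat_lit 147, nat_lit 193, nat_lit 9, nat_lit 193, nat_lit 147, nat_lit 193] 14 0)) (.leaf (Rule.fwd [nat_lit 101,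 nat_lit 9, nat_lit 55] 12 0))) (.node (nat_lit 1) (.leaf (Rule.fwd [nat_lit 55, nat_lit 9, nat_lit 101] 12 2)) (.leaf (Rule.fwd [nat_lit 193, nat_lit 9, nat_lit 55, nat_lit 239, nat_lit 193, nat_lit 239, nat_lit 101] 34 4))))) (.node (nat_lit 4) (.node (nat_lit 2) (.node (nat_lit 1) (.leaf (Rule.fwd [nat_lit 55, nat_lit 239, nat_lit 193, nat_lit 239, nat_lit 101, nat_lit 9, nat_lit 193] 34 6)) (.leaf (Rule.fwd [nat_lit 239, nat_lit 9, nat_lit 239, nat_lit 9, nat_lit 239] 28 1))) (.node (nat_lit 1) (.leaf (Rule.fwd [nat_lit 239, nat_lit 147, nat_lit 239, nat_lit 9, nat_lit 147, nat_lit 239, nat_lit 147, nat_lit 239, nat_lit 147, nat_lit 9, nat_lit 239, nat_lit 147, nat_lit 239, nat_lit 9, nat_lit 147, nat_lit 239, nat_lit 147, nat_lit 239, nat_lit 147] 40 0)) (.leaf (Rule.fwd [nat_lit 147, nat_lit 239, nat_lit 147, nat_lit 239, nat_lit 147, nat_lit 9, nat_lit 239, nat_lit 147, nat_lit 239, nat_lit 9, nat_lit 147, nat_lit 239, nat_lit 147, nat_lit 239,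 nat_lit 147, nat_lit 9, nat_lit 239, nat_lit 147, nat_lit 239] 40 4)))) (.node (nat_lit 2) (.node (nat_lit 1) (.leaf (Rule.fwd [nat_lit 147, nat_lit 9, nat_lit 147, nat_lit 9, nat_lit 147, nat_lit 239, nat_lit 9, nat_lit 147, nat_lit 9, nat_lit 147, nat_lit 9, nat_lit 239, nat_lit 9, nat_lit 147] 32 3)) (.leaf (Rule.fwd [nat_lit 147, nat_lit 9, nat_lit 239, nat_lit 9, nat_lit 147, nat_lit 9, nat_lit 147, nat_lit 9, nat_lit 147, nat_lit 9, nat_lit 147, nat_lit 239, nat_lit 9, nat_lit 147] 32 12))) (.node (nat_lit 1) (.leaf (Rule.fwd [nat_lit 147, nat_lit 9, nat_lit 239, nat_lit 147, nat_lit 9, nat_lit 147, nat_lit 9, nat_lit 147, nat_lit 9, nat_lit 147, nat_lit 9, nat_lit 239, nat_lit 9, nat_lit 147] 33 13)) (.leaf (Rule.fwd [nat_lit 147, nat_lit 55, nat_lit 193, nat_lit 9, nat_lit 193, nat_lit 101, nat_lit 101, nat_lit 193, nat_lit 9, nat_lit 193, nat_lit 55, nat_lit 193, nat_lit 9, nat_lit 193, nat_lit 9, nat_lit 147] 24 15)))))) (.node (nat_lit 8) (.node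 (nat_lit 4) (.node (nat_lit 2) (.node (nat_lit 1) (.leaf (Rule.fwd [nat_lit 147, nat_lit 9, nat_lit 193, nat_lit 9, nat_lit 193, nat_lit 101, nat_lit 193, nat_lit 9, nat_lit 193, nat_lit 55, nat_lit 55, nat_lit 193, nat_lit 9, nat_lit 193, nat_lit 101, nat_lit 147] 25 16)) (.leaf (Rule.fwd [nat_lit 147, nat_lit 9, nat_lit 147, nat_lit 9, nat_lit 147, nat_lit 193, nat_lit 147, nat_lit 9, nat_lit 147, nat_lit 9, nat_lit 147, nat_lit 9, nat_lit 147, nat_lit 9, nat_lit 193, nat_lit 9, nat_lit 147] 22 11))) (.node (nat_lit 1) (.leaf (Rule.fwd [nat_lit 193, nat_lit 101, nat_lit 193, nat_lit 9, nat_lit 193, nat_lit 55, nat_lit 55, nat_lit 193, nat_lit 9, nat_lit 193, nat_lit 101, nat_lit 147, nat_lit 9, nat_lit 147, nat_lit 9, nat_lit 193] 25 12)) (.leaf (Rule.fwd [nat_lit 147, nat_lit 193, nat_lit 147, nat_lit 9, nat_lit 147, nat_lit 9, nat_lit 147, nat_lit 9, nat_lit 147, nat_lit 9, nat_lit 193, nat_lit 9, nat_lit 147, nat_lit 9, nat_lit 147, nat_lit 9, nat_lit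 147] 22 15)))) (.node (nat_lit 2) (.node (nat_lit 1) (.leaf (Rule.fwd [nat_lit 193, nat_lit 9, nat_lit 147, nat_lit 9, nat_lit 147, nat_lit 9, nat_lit 147, nat_lit 9, nat_lit 147, nat_lit 193, nat_lit 147, nat_lit 9, nat_lit 147, nat_lit 9, nat_lit 147, nat_lit 9, nat_lit 147] 22 7)) (.leaf (Rule.fwd [nat_lit 193, nat_lit 101, nat_lit 101, nat_lit 193, nat_lit 9, nat_lit 193, nat_lit 55, nat_lit 193, nat_lit 9, nat_lit 193, nat_lit 9, nat_lit 147, nat_lit 9, nat_lit 147, nat_lit 55, nat_lit 193] 24 2))) (.node (nat_lit 1) (.leaf (Rule.fwd [nat_lit 193, nat_lit 55, nat_lit 193, nat_lit 9, nat_lit 193, nat_lit 9, nat_lit 147, nat_lit 9, nat_lit 147, nat_lit 55, nat_lit 193, nat_lit 9, nat_lit 193, nat_lit 101, nat_lit 101, nat_lit 193] 24 7)) (.leaf (Rule.fwd [nat_lit 147, nat_lit 9, nat_lit 147, nat_lit 9, nat_lit 193, nat_lit 9, nat_lit 147, nat_lit 9, nat_lit 147, nat_lit 9, nat_lit 147, nat_lit 9, nat_lit 147, nat_lit 193, nat_lit 147, nat_lit 9, nat_lit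 147] 22 3))))) (.node (nat_lit 4) (.node (nat_lit 2) (.node (nat_lit 1) (.leaf (Rule.fwd [nat_lit 193, nat_lit 101, nat_lit 147, nat_lit 9, nat_lit 147, nat_lit 9, nat_lit 193, nat_lit 9, nat_lit 193, nat_lit 101, nat_lit 193, nat_lit 9, nat_lit 193, nat_lit 55, nat_lit 55, nat_lit 193] 25 3)) (.leaf (Rule.fwd [nat_lit 193, nat_lit 55, nat_lit 55, nat_lit 193, nat_lit 9, nat_lit 193, nat_lit 101, nat_lit 147, nat_lit 9, nat_lit 147, nat_lit 9, nat_lit 193, nat_lit 9, nat_lit 193, nat_lit 101, nat_lit 193] 25 8))) (.node (nat_lit 1) (.leaf (Rule.fwd [nat_lit 147, nat_lit 9, nat_lit 147, nat_lit 9, nat_lit 147, nat_lit 9, nat_lit 193, nat_lit 9, nat_lit 147, nat_lit 9, nat_lit 147, nat_lit 9, nat_lit 147, nat_lit 9, nat_lit 147, nat_lit 193, nat_lit 147] 22 1)) (.leaf (Rule.fwd [nat_lit 147, nat_lit 9, nat_lit 147, nat_lit 55, nat_lit 193, nat_lit 9, nat_lit 193, nat_lit 101, nat_lit 101, nat_lit 193, nat_lit 9, nat_lit 193, nat_lit 55, nat_lit 193, nat_lit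 9, nat_lit 193] 24 13)))) (.node (nat_lit 2) (.node (nat_lit 1) (.leaf (Rule.fwd [nat_lit 147, nat_lit 9, nat_lit 147, nat_lit 9, nat_lit 147, nat_lit 9, nat_lit 147, nat_lit 193, nat_lit 147, nat_lit 9, nat_lit 147, nat_lit 9, nat_lit 147, nat_lit 9, nat_lit 147, nat_lit 9, nat_lit 193] 22 9)) (.leaf (Rule.fwd [nat_lit 193, nat_lit 9, nat_lit 193, nat_lit 101, nat_lit 193, nat_lit 9, nat_lit 193, nat_lit 55, nat_lit 55, nat_lit 193, nat_lit 9, nat_lit 193, nat_lit 101, nat_lit 147, nat_lit 9, nat_lit 147] 25 14))) (.node (nat_lit 1) (.leaf (Rule.fwd [nat_lit 147, nat_lit 9, nat_lit 239, nat_lit 9, nat_lit 147, nat_lit 9, nat_lit 147, nat_lit 9, nat_lit 239, nat_lit 147, nat_lit 9, nat_lit 147, nat_lit 9, nat_lit 147] 33 4)) (.leaf (Rule.fwd [nat_lit 147, nat_lit 239, nat_lit 9, nat_lit 147, nat_lit 9, nat_lit 147, nat_lit 9, nat_lit 239, nat_lit 9, nat_lit 147, nat_lit 9, nat_lit 147, nat_lit 9, nat_lit 147] 32 7))))))) (.node (nat_lit 8) (.node (nat_lit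 4) (.node (nat_lit 2) (.node (nat_lit 1) (.leaf (Rule.fwd [nat_lit 193, nat_lit 9, nat_lit 147, nat_lit 9, nat_lit 147, nat_lit 55, nat_lit 193, nat_lit 9, nat_lit 193, nat_lit 101, nat_lit 101, nat_lit 193, nat_lit 9, nat_lit 193, nat_lit 55, nat_lit 193] 24 11)) (.leaf (Rule.fwd [nat_lit 147, nat_lit 9, nat_lit 147, nat_lit 9, nat_lit 239, nat_lit 147, nat_lit 9, nat_lit 147, nat_lit 9, nat_lit 147, nat_lit 9, nat_lit 147, nat_lit 9, nat_lit 239] 33 0))) (.node (nat_lit 1) (.leaf (Rule.fwd [nat_lit 147, nat_lit 9, nat_lit 193, nat_lit 9, nat_lit 147, nat_lit 9, nat_lit 147, nat_lit 9, nat_lit 147, nat_lit 9, nat_lit 147, nat_lit 193, nat_lit 147, nat_lit 9, nat_lit 147, nat_lit 9, nat_lit 147] 22 5)) (.leaf (Rule.fwd [nat_lit 147, nat_lit 9, nat_lit 147, nat_lit 9, nat_lit 147, nat_lit 9, nat_lit 147, nat_lit 239, nat_lit 9, nat_lit 147, nat_lit 9, nat_lit 147, nat_lit 9, nat_lit 239] 32 1)))) (.node (nat_lit 2) (.node (nat_lit 1) (.leaf (Rule.fwd [nat_lit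 147, nat_lit 9, nat_lit 147, nat_lit 9, nat_lit 147, nat_lit 9, nat_lit 147, nat_lit 9, nat_lit 147, nat_lit 9, nat_lit 147, nat_lit 9, nat_lit 147, nat_lit 9, nat_lit 147] 16 0)) (.leaf (Rule.fwd [nat_lit 147, nat_lit 9, nat_lit 147, nat_lit 9, nat_lit 147, nat_lit 9, nat_lit 147, nat_lit 101, nat_lit 147, nat_lit 9, nat_lit 147, nat_lit 9, nat_lit 147, nat_lit 9, nat_lit 147, nat_lit 9, nat_lit 55] 19 8))) (.node (nat_lit 1) (.leaf (Rule.fwd [nat_lit 239, nat_lit 147, nat_lit 9, nat_lit 147, nat_lit 9, nat_lit 147, nat_lit 9, nat_lit 147, nat_lit 9, nat_lit 239, nat_lit 9, nat_lit 147, nat_lit 9, nat_lit 147] 33 11)) (.leaf (Rule.fwd [nat_lit 147, nat_lit 9, nat_lit 147, nat_lit 9, nat_lit 147, nat_lit 9, nat_lit 239, nat_lit 9, nat_lit 147, nat_lit 9, nat_lit 147, nat_lit 9, nat_lit 239, nat_lit 147] 33 8))))) (.node (nat_lit 4) (.node (nat_lit 2) (.node (nat_lit 1) (.leaf (Rule.fwd [nat_lit 147, nat_lit 9, nat_lit 147, nat_lit 9, nat_lit 147, nat_lit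 9, nat_lit 101, nat_lit 9, nat_lit 147, nat_lit 9, nat_lit 147, nat_lit 9, nat_lit 147, nat_lit 9, nat_lit 147, nat_lit 55, nat_lit 147] 18 1)) (.leaf (Rule.fwd [nat_lit 147, nat_lit 9, nat_lit 147, nat_lit 9, nat_lit 147, nat_lit 9, nat_lit 55, nat_lit 9, nat_lit 147, nat_lit 9, nat_lit 147, nat_lit 9, nat_lit 147, nat_lit 9, nat_lit 147, nat_lit 101, nat_lit 147] 19 16))) (.node (nat_lit 1) (.leaf (Rule.fwd [nat_lit 147, nat_lit 9, nat_lit 147, nat_lit 9, nat_lit 239, nat_lit 9, nat_lit 147, nat_lit 9, nat_lit 147, nat_lit 9, nat_lit 147, nat_lit 9, nat_lit 147, nat_lit 239] 32 10)) (.leaf (Rule.fwd [nat_lit 239, nat_lit 147, nat_lit 239, nat_lit 147, nat_lit 9, nat_lit 239, nat_lit 147, nat_lit 239, nat_lit 147, nat_lit 9, nat_lit 239, nat_lit 147, nat_lit 239, nat_lit 147, nat_lit 9, nat_lit 239, nat_lit 147, nat_lit 239, nat_lit 147, nat_lit 9, nat_lit 239, nat_lit 147, nat_lit 239, nat_lit 147] 38 4)))) (.leaf (Rule.fwd [nat_lit 147, nat_lit 9,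 nat_lit 55, nat_lit 9, nat_lit 147, nat_lit 9, nat_lit 147, nat_lit 9, nat_lit 147, nat_lit 9, nat_lit 147, nat_lit 101, nat_lit 147, nat_lit 9, nat_lit 147, nat_lit 9, nat_lit 147] 19 12))))), (.node (nat_lit 32) (.node (nat_lit 16) (.node (nat_lit 8) (.node (nat_lit 4) (.node (nat_lit 2) (.node (nat_lit 1) (.leaf XRule.defn) (.leaf XRule.ax)) (.node (nat_lit 1) (.leaf (XRule.rot (nat_lit 2656535748832779923) [147, 239, 147, 9, 147, 239, 147] 30 2)) (.leaf (XRule.rot (nat_lit 3481964279144720065) [193, 147, 193, 9, 193, 147, 193] 14 0)))) (.node (nat_lit 2) (.node (nat_lit 1) (.leaf (XRule.rot (nat_lit 14422629) [101, 9, 55] 12 0)) (.leaf (XRule.rot (nat_lit 16425225556719) [239, 9, 239, 9, 239] 28 1))) (.node (nat_lit 1) (.leaf (XRule.rot (nat_lit 26481207) [55, 9, 101] 12 2)) (.leaf (XRule.rot (nat_lit 3477102544474725943) [55, 239, 193, 239, 101, 9, 193] 34 6))))) (.node (nat_lit 4) (.node (nat_lit 2) (.node (nat_lit 1) (.leaf (XRule.rot (nat_lit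 24427636755777122991797719241001276051) [147, 9, 239, 9, 147, 9, 147, 9, 147, 9, 147, 239, 9, 147] 32 12)) (.leaf (XRule.rot (nat_lit 1827876609338380993) [193, 9, 55, 239, 193, 239, 101] 34 4))) (.node (nat_lit 1) (.leaf (XRule.rot (nat_lit 24427636585274410680401689443308409491) [147, 9, 147, 9, 147, 239, 9, 147, 9, 147, 9, 239, 9, 147] 32 3)) (.leaf (XRule.rot (nat_lit 24427636585274410680398443016334611091) [147, 9, 239, 147, 9, 147, 9, 147, 9, 147, 9, 239, 9, 147] 33 13)))) (.node (nat_lit 2) (.node (nat_lit 1) (.leaf (XRule.rot (nat_lit 8411038902538300163293610058761154778680001) [193, 101, 101, 193, 9, 193, 55, 193, 9, 193, 9, 147, 9, 147, 55, 193] 24 2)) (.leaf (XRule.rot (nat_lit 24427578273569892948885501876915409647) [239, 9, 147, 9, 147, 9, 147, 9, 147, 239, 9, 147, 9, 147] 32 14))) (.node (nat_lit 1) (.leaf (XRule.rot (nat_lit 39713700224873333571271123767552381587) [147, 9, 147, 9, 147, 9, 147, 239, 9, 147, 9, 147, 9, 239] 32 1)) (.leaf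 (XRule.rot (nat_lit 24502130243299534894233997667713421971) [147, 9, 147, 9, 147, 9, 239, 9, 147, 9, 147, 9, 239, 147] 33 8)))))) (.node (nat_lit 8) (.node (nat_lit 4) (.node (nat_lit 2) (.node (nat_lit 1) (.leaf (XRule.rot (nat_lit 8414944566321088622045632990630975866433217) [193, 55, 193, 9, 193, 9, 147, 9, 147, 55, 193, 9, 193, 101, 101, 193] 24 7)) (.leaf (XRule.rot (nat_lit 24427578273346801030396201558566362771) [147, 239, 9, 147, 9, 147, 9, 239, 9, 147, 9, 147, 9, 147] 32 7))) (.node (nat_lit 1) (.leaf (XRule.rot (nat_lit 6403550721978412370404757988273093276364435) [147, 55, 193, 9, 193, 101, 101, 193, 9, 193, 55, 193, 9, 193, 9, 147] 24 15)) (.leaf (XRule.rot (nat_lit 8407133313336694566756540801648199614599827) [147, 9, 147, 55, 193, 9, 193, 101, 101, 193, 9, 193, 55, 193, 9, 193] 24 13)))) (.node (nat_lit 2) (.node (nat_lit 1) (.leaf (XRule.rot (nat_lit 3278614056390887100332574495870782213659562643) [147, 9, 193, 9, 147, 9, 147, 9, 147, 9,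 147, 193, 147, 9, 147, 9, 147] 22 5)) (.leaf (XRule.rot (nat_lit 8411046545628545559273612791313941142442689) [193, 9, 147, 9, 147, 55, 193, 9, 193, 101, 101, 193, 9, 193, 55, 193] 24 11))) (.node (nat_lit 1) (.leaf (XRule.rot (nat_lit 24427578273569242532655065948457013907) [147, 9, 147, 239, 9, 147, 9, 147, 9, 239, 9, 147, 9, 147] 32 5)) (.leaf (XRule.rot (nat_lit 3286628386696492419168842898348739853304992403) [147, 9, 147, 9, 147, 9, 193, 9, 147, 9, 147, 9, 147, 9, 147, 193, 147] 22 1))))) (.node (nat_lit 4) (.node (nat_lit 2) (.node (nat_lit 1) (.leaf (XRule.rot (nat_lit 6411377216417593622268109380324268039213715) [147, 9, 193, 9, 193, 101, 193, 9, 193, 55, 55, 193, 9, 193, 101, 147] 25 16)) (.leaf (XRule.rot (nat_lit 4304448335523179140987998236408123927506457235) [147, 9, 147, 9, 147, 9, 147, 193, 147, 9, 147, 9, 147, 9, 147, 9, 193] 22 9))) (.node (nat_lit 1) (.leaf (XRule.rot (nat_lit 9) [9] 42 0)) (.leaf (XRule.rot (nat_lit 1398879338857618269661311378809743587280124113706643)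 [147, 239, 147, 239, 147, 9, 239, 147, 239, 9, 147, 239, 147, 239, 147, 9, 239, 147, 239] 40 4)))) (.node (nat_lit 2) (.node (nat_lit 1) (.leaf (XRule.rot (nat_lit 3278617969637990067269683327580303906751386259) [147, 9, 147, 9, 147, 193, 147, 9, 147, 9, 147, 9, 147, 9, 193, 9, 147] 22 11)) (.leaf (XRule.rot (nat_lit 3278614056390770533422595305893337162312417939) [147, 193, 147, 9, 147, 9, 147, 9, 147, 9, 193, 9, 147, 9, 147, 9, 147] 22 15))) (.node (nat_lit 1) (.leaf (XRule.rot (nat_lit 6403543108773086598687898214898835906630337) [193, 9, 193, 101, 193, 9, 193, 55, 55, 193, 9, 193, 101, 147, 9, 147] 25 14)) (.leaf (XRule.rot (nat_lit 8411023676040522177887940077171972001024705) [193, 101, 147, 9, 147, 9, 193, 9, 193, 101, 193, 9, 193, 55, 55, 193] 25 3))))))) (.node (nat_lit 8) (.node (nat_lit 4) (.node (nat_lit 2) (.node (nat_lit 1) (.leaf (XRule.rot (nat_lit 8407125655318823261447395500918156527192769) [193, 101, 193, 9, 193, 55, 55, 193, 9, 193,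 101, 147, 9, 147, 9, 193] 25 12)) (.leaf (XRule.rot (nat_lit 3278614056390770476922238200384028053244482241) [193, 9, 147, 9, 147, 9, 147, 9, 147, 193, 147, 9, 147, 9, 147, 9, 147] 22 7))) (.node (nat_lit 1) (.leaf (XRule.rot (nat_lit 862095148970994014062543684602751390294024581359343) [239, 147, 239, 9, 147, 239, 147, 239, 147, 9, 239, 147, 239, 9, 147, 239, 147, 239, 147] 40 0)) (.leaf (XRule.rot (nat_lit 8414959792848022571473358488874392930250433) [193, 55, 55, 193, 9, 193, 101, 147, 9, 147, 9, 193, 9, 193, 101, 193] 25 8)))) (.node (nat_lit 2) (.node (nat_lit 1) (.leaf (XRule.rot (nat_lit 24427578273347885055792834116153250451) [147, 9, 239, 9, 147, 9, 147, 9, 239, 147, 9, 147, 9, 147] 33 4)) (.leaf (XRule.rot (nat_lit 39758396487889492172106410166363886227) [147, 9, 147, 9, 239, 9, 147, 9, 147, 9, 147, 9, 147, 239] 32 10))) (.node (nat_lit 1) (.leaf (XRule.rot (nat_lit 12506920075953561693105138773978593890963) [147, 9, 147, 9, 147, 9, 147, 9,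 147, 9, 147, 9, 147, 9, 147] 16 0)) (.leaf (XRule.rot (nat_lit 39713700224873332720239771148144611987) [147, 9, 147, 9, 239, 147, 9, 147, 9, 147, 9, 147, 9, 239] 33 0))))) (.node (nat_lit 4) (.node (nat_lit 2) (.node (nat_lit 1) (.leaf (XRule.rot (nat_lit 49218691376817074863903493037526039696988619830500412968747785875) [147, 239, 147, 239, 9, 147, 239, 147, 239, 9, 147, 239, 147, 239, 9, 147, 239, 147, 239, 9, 147, 239, 147, 239] 39 0)) (.leaf (XRule.rot (nat_lit 3278614056405698329945641128197869718595179155) [147, 9, 147, 193, 147, 9, 147, 9, 147, 9, 147, 9, 193, 9, 147, 9, 147] 22 13))) (.node (nat_lit 1) (.leaf (XRule.rot (nat_lit 3278614086963014379530418575553410064496464531) [147, 9, 147, 9, 193, 9, 147, 9, 147, 9, 147, 9, 147, 193, 147, 9, 147] 22 3)) (.leaf (XRule.rot (nat_lit 24427578273569242532655065936072877807) [239, 147, 9, 147, 9, 147, 9, 147, 9, 239, 9, 147, 9, 147] 33 11)))) (.node (nat_lit 1) (.leaf (XRule.rot (nat_lit 24427578557739996107500242005540999827)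 [147, 9, 147, 9, 239, 9, 147, 9, 147, 9, 239, 147, 9, 147] 33 6)) (.leaf (XRule.rot (nat_lit 1226945498125953147456068266232422649041785491) [147, 9, 147, 9, 147, 9, 147, 101, 147, 9, 147, 9, 147, 9, 147, 9, 55] 19 8))))))⟩
noncomputable def ci55 : CI := ⟨[1], (nat_lit 101), true, (.node (nat_lit 8) (.node (nat_lit 4) (.node (nat_lit 2) (.node (nat_lit 1) (.leaf Rule.defn) (.leaf Rule.copy)) (.node (nat_lit 1) (.leaf (Rule.fwd [nat_lit 101] 42 0)) (.leaf (Rule.fwd [nat_lit 147, nat_lit 55, nat_lit 147] 2 1)))) (.node (nat_lit 2) (.node (nat_lit 1) (.leaf (Rule.fwd [nat_lit 239, nat_lit 101, nat_lit 239] 26 3)) (.leaf (Rule.fwd [nat_lit 55, nat_lit 55] 0 0))) (.node (nat_lit 1) (.leaf (Rule.fwd [nat_lit 193, nat_lit 101, nat_lit 193, nat_lit 55, nat_lit 193, nat_lit 101, nat_lit 193] 10 1)) (.leaf (Rule.fwd [nat_lit 9, nat_lit 101, nat_lit 9] 12 3))))) (.node (nat_lit 4) (.node (nat_lit 2) (.node (nat_lit 1) (.leaf (Rule.fwd [nat_lit 193, nat_lit 55, nat_lit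 193, nat_lit 55, nat_lit 193] 4 0)) (.leaf (Rule.fwd [nat_lit 239, nat_lit 193, nat_lit 239, nat_lit 101, nat_lit 9, nat_lit 193, nat_lit 9] 34 7))) (.node (nat_lit 1) (.leaf (Rule.fwd [nat_lit 55, nat_lit 193, nat_lit 9, nat_lit 193, nat_lit 101, nat_lit 147, nat_lit 9, nat_lit 147, nat_lit 9, nat_lit 193, nat_lit 9, nat_lit 193, nat_lit 101, nat_lit 193, nat_lit 9, nat_lit 193] 25 6)) (.leaf (Rule.fwd [nat_lit 193, nat_lit 9, nat_lit 193, nat_lit 9, nat_lit 147, nat_lit 9, nat_lit 147, nat_lit 55, nat_lit 193, nat_lit 9, nat_lit 193, nat_lit 101, nat_lit 101, nat_lit 193, nat_lit 9, nat_lit 193] 24 9)))) (.node (nat_lit 2) (.node (nat_lit 1) (.leaf (Rule.fwd [nat_lit 193, nat_lit 9, nat_lit 193, nat_lit 101, nat_lit 147, nat_lit 9, nat_lit 147, nat_lit 9, nat_lit 193, nat_lit 9, nat_lit 193, nat_lit 101, nat_lit 193, nat_lit 9, nat_lit 193, nat_lit 55] 25 5)) (.leaf (Rule.fwd [nat_lit 193, nat_lit 9, nat_lit 193, nat_lit 101, nat_lit 101, nat_lit 193,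 nat_lit 9, nat_lit 193, nat_lit 55, nat_lit 193, nat_lit 9, nat_lit 193, nat_lit 9, nat_lit 147, nat_lit 9, nat_lit 147] 24 0))) (.node (nat_lit 1) (.leaf (Rule.fwd [nat_lit 147, nat_lit 9, nat_lit 147, nat_lit 9, nat_lit 147, nat_lit 9, nat_lit 147, nat_lit 9, nat_lit 101, nat_lit 9, nat_lit 147, nat_lit 9, nat_lit 147, nat_lit 9, nat_lit 147, nat_lit 9, nat_lit 147] 18 17)) (.leaf (Rule.fwd [nat_lit 9, nat_lit 147, nat_lit 9, nat_lit 147, nat_lit 9, nat_lit 147, nat_lit 9, nat_lit 147, nat_lit 101, nat_lit 147, nat_lit 9, nat_lit 147, nat_lit 9, nat_lit 147, nat_lit 9, nat_lit 147, nat_lit 9] 19 9)))))), (.node (nat_lit 8) (.node (nat_lit 4) (.node (nat_lit 2) (.node (nat_lit 1) (.leaf XRule.defn) (.leaf XRule.ax)) (.node (nat_lit 1) (.leaf (XRule.rot (nat_lit 38563475) [147, 55, 147] 2 1)) (.leaf (XRule.rot (nat_lit 28215) [55, 55] 0 0)))) (.node (nat_lit 2) (.node (nat_lit 1) (.leaf (XRule.rot (nat_lit 62704367) [239, 101, 239] 26 3)) (.leaf (XRule.rot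 (nat_lit 13270291607233) [193, 55, 193, 55, 193] 4 0))) (.node (nat_lit 1) (.leaf (XRule.rot (nat_lit 2411017) [9, 101, 9] 12 3)) (.leaf (XRule.rot (nat_lit 168920802492515055) [239, 193, 239, 101, 9, 193, 9] 34 7))))) (.node (nat_lit 4) (.node (nat_lit 2) (.node (nat_lit 1) (.leaf (XRule.rot (nat_lit 32115364725368503724912530403941515923) [147, 193, 55, 147, 193, 55, 147, 193, 55, 147, 193, 55, 147, 193] 8 0)) (.leaf (XRule.rot (nat_lit 3480345804202625729) [193, 101, 193, 55, 193, 101, 193] 10 1))) (.node (nat_lit 1) (.leaf (XRule.rot (nat_lit 8407133328206463443950231185636386706559681) [193, 9, 193, 9, 147, 9, 147, 55, 193, 9, 193, 101, 101, 193, 9, 193] 24 9)) (.leaf (XRule.rot (nat_lit 101) [101] 42 0)))) (.node (nat_lit 2) (.node (nat_lit 1) (.leaf (XRule.rot (nat_lit 207110249865663831861125753222536300985656841) [9, 147, 9, 147, 9, 147, 9, 147, 101, 147, 9, 147, 9, 147, 9, 147, 9] 19 9)) (.leaf (XRule.rot (nat_lit 6403543078917379662113908868007844500476609)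 [193, 9, 193, 101, 101, 193, 9, 193, 55, 193, 9, 193, 9, 147, 9, 147] 24 0))) (.leaf (XRule.rot (nat_lit 2412008045405173478162255153277778830561985) [193, 9, 193, 101, 147, 9, 147, 9, 193, 9, 193, 101, 193, 9, 193, 55] 25 5)))))⟩
noncomputable def ci101 : CI := ⟨[2], (nat_lit 55), false, (.node (nat_lit 8) (.node (nat_lit 4) (.node (nat_lit 2) (.node (nat_lit 1) (.leaf Rule.defn) (.leaf Rule.copy)) (.node (nat_lit 1) (.leaf (Rule.fwd [nat_lit 55] 42 0)) (.leaf (Rule.fwd [nat_lit 239, nat_lit 55, nat_lit 239] 26 1)))) (.node (nat_lit 2) (.node (nat_lit 1) (.leaf (Rule.fwd [nat_lit 9, nat_lit 55, nat_lit 9] 12 1)) (.leaf (Rule.fwd [nat_lit 193, nat_lit 55, nat_lit 193, nat_lit 101, nat_lit 193, nat_lit 55, nat_lit 193] 10 3))) (.node (nat_lit 1) (.leaf (Rule.fwd [nat_lit 9, nat_lit 193, nat_lit 9, nat_lit 55, nat_lit 239, nat_lit 193, nat_lit 239] 34 3)) (.leaf (Rule.fwd [nat_lit 147, nat_lit 101, nat_lit 147] 3 0))))) (.node (nat_lit 4) (.node (nat_lit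 2) (.node (nat_lit 1) (.leaf (Rule.fwd [nat_lit 193, nat_lit 101, nat_lit 193, nat_lit 101, nat_lit 193] 5 1)) (.leaf (Rule.fwd [nat_lit 101, nat_lit 101] 1 0))) (.node (nat_lit 1) (.leaf (Rule.fwd [nat_lit 101, nat_lit 193, nat_lit 9, nat_lit 193, nat_lit 55, nat_lit 193, nat_lit 9, nat_lit 193, nat_lit 9, nat_lit 147, nat_lit 9, nat_lit 147, nat_lit 55, nat_lit 193, nat_lit 9, nat_lit 193] 24 4)) (.leaf (Rule.fwd [nat_lit 193, nat_lit 9, nat_lit 193, nat_lit 55, nat_lit 55, nat_lit 193, nat_lit 9, nat_lit 193, nat_lit 101, nat_lit 147, nat_lit 9, nat_lit 147, nat_lit 9, nat_lit 193, nat_lit 9, nat_lit 193] 25 10)))) (.node (nat_lit 2) (.node (nat_lit 1) (.leaf (Rule.fwd [nat_lit 147, nat_lit 9, nat_lit 147, nat_lit 9, nat_lit 193, nat_lit 9, nat_lit 193, nat_lit 101, nat_lit 193, nat_lit 9, nat_lit 193, nat_lit 55, nat_lit 55, nat_lit 193, nat_lit 9, nat_lit 193] 25 1)) (.leaf (Rule.fwd [nat_lit 193, nat_lit 9, nat_lit 193, nat_lit 55, nat_lit 193,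 nat_lit 9, nat_lit 193, nat_lit 9, nat_lit 147, nat_lit 9, nat_lit 147, nat_lit 55, nat_lit 193, nat_lit 9, nat_lit 193, nat_lit 101] 24 5))) (.node (nat_lit 1) (.leaf (Rule.fwd [nat_lit 147, nat_lit 9, nat_lit 147, nat_lit 9, nat_lit 147, nat_lit 9, nat_lit 147, nat_lit 9, nat_lit 55, nat_lit 9, nat_lit 147, nat_lit 9, nat_lit 147, nat_lit 9, nat_lit 147, nat_lit 9, nat_lit 147] 19 0)) (.leaf (Rule.fwd [nat_lit 9, nat_lit 147, nat_lit 9, nat_lit 147, nat_lit 9, nat_lit 147, nat_lit 9, nat_lit 147, nat_lit 55, nat_lit 147, nat_lit 9, nat_lit 147, nat_lit 9, nat_lit 147, nat_lit 9, nat_lit 147, nat_lit 9] 18 8)))))), (.node (nat_lit 8) (.node (nat_lit 4) (.node (nat_lit 2) (.node (nat_lit 1) (.leaf XRule.defn) (.leaf XRule.defn)) (.node (nat_lit 1) (.leaf (XRule.rot (nat_lit 38587027) [147, 101, 147] 3 0)) (.leaf (XRule.rot (nat_lit 62680815) [239, 55, 239] 26 1)))) (.node (nat_lit 2) (.node (nat_lit 1) (.leaf (XRule.rot (nat_lit 51813) [101, 101] 1 0))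 (.leaf (XRule.rot (nat_lit 4312248258918711817) [9, 193, 9, 55, 239, 193, 239] 34 3))) (.node (nat_lit 1) (.leaf (XRule.rot (nat_lit 2387465) [9, 55, 9] 12 1)) (.leaf (XRule.rot (nat_lit 13276465646273) [193, 101, 193, 101, 193] 5 1))))) (.node (nat_lit 4) (.node (nat_lit 2) (.node (nat_lit 1) (.leaf (XRule.rot (nat_lit 3478727329260531393) [193, 55, 193, 101, 193, 55, 193] 10 3)) (.leaf (XRule.rot (nat_lit 55) [55] 42 0))) (.node (nat_lit 1) (.leaf (XRule.rot (nat_lit 4415590621806446241770320408562443204432577) [193, 9, 193, 55, 193, 9, 193, 9, 147, 9, 147, 55, 193, 9, 193, 101] 24 5)) (.leaf (XRule.rot (nat_lit 8407133313249454011857777581155973426057875) [147, 9, 147, 9, 193, 9, 193, 101, 193, 9, 193, 55, 55, 193, 9, 193] 25 1)))) (.node (nat_lit 2) (.node (nat_lit 1) (.leaf (XRule.rot (nat_lit 207110249865663831860908524364324297305826825) [9, 147, 9, 147, 9, 147, 9, 147, 55, 147, 9, 147, 9, 147, 9, 147, 9] 18 8)) (.leaf (XRule.rot (nat_lit 8407133298379685023443331930885220504703681)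 [193, 9, 193, 55, 55, 193, 9, 193, 101, 147, 9, 147, 9, 193, 9, 193] 25 10))) (.leaf (XRule.rot (nat_lit 8407133313307538491296503646486408565457509) [101, 193, 9, 193, 55, 193, 9, 193, 9, 147, 9, 147, 55, 193, 9, 193] 24 4)))))⟩
noncomputable def ci147 : CI := ⟨[3], (nat_lit 147), true, (.node (nat_lit 32) (.node (nat_lit 16) (.node (nat_lit 8) (.node (nat_lit 4) (.node (nat_lit 2) (.node (nat_lit 1) (.leaf Rule.defn) (.leaf Rule.copy)) (.node (nat_lit 1) (.leaf (Rule.fwd [nat_lit 147] 42 0)) (.leaf (Rule.fwd [nat_lit 193, nat_lit 147, nat_lit 193, nat_lit 147, nat_lit 193] 6 0)))) (.node (nat_lit 2) (.node (nat_lit 1) (.leaf (Rule.fwd [nat_lit 55, nat_lit 147, nat_lit 55] 2 0)) (.leaf (Rule.fwd [nat_lit 193, nat_lit 9, nat_lit 193, nat_lit 147, nat_lit 193, nat_lit 9, nat_lit 193] 14 2))) (.node (nat_lit 1) (.leaf (Rule.fwd [nat_lit 101, nat_lit 147, nat_lit 101] 3 1)) (.leaf (Rule.fwd [nat_lit 9, nat_lit 147, nat_lit 239, nat_lit 147, nat_lit 9, nat_lit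 147, nat_lit 239] 30 1))))) (.node (nat_lit 4) (.node (nat_lit 2) (.node (nat_lit 1) (.leaf (Rule.fwd [nat_lit 239, nat_lit 147, nat_lit 9, nat_lit 147, nat_lit 239, nat_lit 147, nat_lit 9] 30 3)) (.leaf (Rule.fwd [nat_lit 239, nat_lit 147, nat_lit 239, nat_lit 147, nat_lit 239, nat_lit 147, nat_lit 239, nat_lit 147, nat_lit 239, nat_lit 147, nat_lit 239, nat_lit 147, nat_lit 239, nat_lit 147, nat_lit 239, nat_lit 147, nat_lit 239, nat_lit 147, nat_lit 239] 36 1))) (.node (nat_lit 1) (.leaf (Rule.fwd [nat_lit 9, nat_lit 239, nat_lit 147, nat_lit 239, nat_lit 9, nat_lit 147, nat_lit 239, nat_lit 147, nat_lit 239, nat_lit 147, nat_lit 9, nat_lit 239, nat_lit 147, nat_lit 239, nat_lit 9, nat_lit 147, nat_lit 239, nat_lit 147, nat_lit 239] 40 9)) (.leaf (Rule.fwd [nat_lit 239, nat_lit 9, nat_lit 147, nat_lit 239, nat_lit 147, nat_lit 239, nat_lit 147, nat_lit 9, nat_lit 239, nat_lit 147, nat_lit 239, nat_lit 9, nat_lit 147, nat_lit 239, nat_lit 147, nat_lit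 239, nat_lit 147, nat_lit 9, nat_lit 239] 40 2)))) (.node (nat_lit 2) (.node (nat_lit 1) (.leaf (Rule.fwd [nat_lit 239, nat_lit 147, nat_lit 9, nat_lit 239, nat_lit 147, nat_lit 239, nat_lit 9, nat_lit 147, nat_lit 239, nat_lit 147, nat_lit 239, nat_lit 147, nat_lit 9, nat_lit 239, nat_lit 147, nat_lit 239, nat_lit 9, nat_lit 147, nat_lit 239] 40 7)) (.leaf (Rule.fwd [nat_lit 239, nat_lit 147, nat_lit 239, nat_lit 147, nat_lit 9, nat_lit 239, nat_lit 147, nat_lit 239, nat_lit 9, nat_lit 147, nat_lit 239, nat_lit 147, nat_lit 239, nat_lit 147, nat_lit 9, nat_lit 239, nat_lit 147, nat_lit 239, nat_lit 9] 40 5))) (.node (nat_lit 1) (.leaf (Rule.fwd [nat_lit 9, nat_lit 239, nat_lit 9, nat_lit 147, nat_lit 9, nat_lit 147, nat_lit 9, nat_lit 147, nat_lit 9, nat_lit 147, nat_lit 239, nat_lit 9, nat_lit 147, nat_lit 9] 32 13)) (.leaf (Rule.fwd [nat_lit 9, nat_lit 147, nat_lit 9, nat_lit 239, nat_lit 147, nat_lit 9, nat_lit 147, nat_lit 9, nat_lit 147, nat_lit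 9, nat_lit 147, nat_lit 9, nat_lit 239, nat_lit 9] 33 14)))))) (.node (nat_lit 8) (.node (nat_lit 4) (.node (nat_lit 2) (.node (nat_lit 1) (.leaf (Rule.fwd [nat_lit 9, nat_lit 193, nat_lit 9, nat_lit 193, nat_lit 101, nat_lit 193, nat_lit 9, nat_lit 193, nat_lit 55, nat_lit 55, nat_lit 193, nat_lit 9, nat_lit 193, nat_lit 101, nat_lit 147, nat_lit 9] 25 15)) (.leaf (Rule.fwd [nat_lit 9, nat_lit 147, nat_lit 9, nat_lit 147, nat_lit 9, nat_lit 147, nat_lit 193, nat_lit 147, nat_lit 9, nat_lit 147, nat_lit 9, nat_lit 147, nat_lit 9, nat_lit 147, nat_lit 9, nat_lit 193, nat_lit 9] 22 10))) (.node (nat_lit 1) (.leaf (Rule.fwd [nat_lit 9, nat_lit 147, nat_lit 9, nat_lit 147, nat_lit 9, nat_lit 147, nat_lit 239, nat_lit 9, nat_lit 147, nat_lit 9, nat_lit 147, nat_lit 9, nat_lit 239, nat_lit 9] 32 2)) (.leaf (Rule.fwd [nat_lit 9, nat_lit 147, nat_lit 9, nat_lit 147, nat_lit 239, nat_lit 9, nat_lit 147, nat_lit 9, nat_lit 147, nat_lit 9, nat_lit 239, nat_lit 9,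 nat_lit 147, nat_lit 9] 32 4)))) (.node (nat_lit 2) (.node (nat_lit 1) (.leaf (Rule.fwd [nat_lit 9, nat_lit 147, nat_lit 9, nat_lit 239, nat_lit 9, nat_lit 147, nat_lit 9, nat_lit 147, nat_lit 9, nat_lit 147, nat_lit 9, nat_lit 147, nat_lit 239, nat_lit 9] 32 11)) (.leaf (Rule.fwd [nat_lit 9, nat_lit 147, nat_lit 9, nat_lit 147, nat_lit 193, nat_lit 147, nat_lit 9, nat_lit 147, nat_lit 9, nat_lit 147, nat_lit 9, nat_lit 147, nat_lit 9, nat_lit 193, nat_lit 9, nat_lit 147, nat_lit 9] 22 12))) (.node (nat_lit 1) (.leaf (Rule.fwd [nat_lit 9, nat_lit 147, nat_lit 9, nat_lit 147, nat_lit 9, nat_lit 193, nat_lit 9, nat_lit 147, nat_lit 9, nat_lit 147, nat_lit 9, nat_lit 147, nat_lit 9, nat_lit 147, nat_lit 193, nat_lit 147, nat_lit 9] 22 2)) (.leaf (Rule.fwd [nat_lit 9, nat_lit 147, nat_lit 239, nat_lit 9, nat_lit 147, nat_lit 9, nat_lit 147, nat_lit 9, nat_lit 239, nat_lit 9, nat_lit 147, nat_lit 9, nat_lit 147, nat_lit 9] 32 6))))) (.node (nat_lit 4) (.node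 (nat_lit 2) (.node (nat_lit 1) (.leaf (Rule.fwd [nat_lit 9, nat_lit 147, nat_lit 9, nat_lit 147, nat_lit 9, nat_lit 147, nat_lit 9, nat_lit 193, nat_lit 9, nat_lit 147, nat_lit 9, nat_lit 147, nat_lit 9, nat_lit 147, nat_lit 9, nat_lit 147, nat_lit 193] 22 0)) (.leaf (Rule.fwd [nat_lit 193, nat_lit 147, nat_lit 9, nat_lit 147, nat_lit 9, nat_lit 147, nat_lit 9, nat_lit 147, nat_lit 9, nat_lit 193, nat_lit 9, nat_lit 147, nat_lit 9, nat_lit 147, nat_lit 9, nat_lit 147, nat_lit 9] 22 16))) (.node (nat_lit 1) (.leaf (Rule.fwd [nat_lit 9, nat_lit 147, nat_lit 9, nat_lit 193, nat_lit 9, nat_lit 193, nat_lit 101, nat_lit 193, nat_lit 9, nat_lit 193, nat_lit 55, nat_lit 55, nat_lit 193, nat_lit 9, nat_lit 193, nat_lit 101] 25 0)) (.leaf (Rule.fwd [nat_lit 9, nat_lit 193, nat_lit 9, nat_lit 147, nat_lit 9, nat_lit 147, nat_lit 9, nat_lit 147, nat_lit 9, nat_lit 147, nat_lit 193, nat_lit 147, nat_lit 9, nat_lit 147, nat_lit 9, nat_lit 147, nat_lit 9] 22 6))))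 (.node (nat_lit 2) (.node (nat_lit 1) (.leaf (Rule.fwd [nat_lit 9, nat_lit 147, nat_lit 9, nat_lit 147, nat_lit 9, nat_lit 147, nat_lit 9, nat_lit 239, nat_lit 9, nat_lit 147, nat_lit 9, nat_lit 147, nat_lit 9, nat_lit 239] 33 9)) (.leaf (Rule.fwd [nat_lit 193, nat_lit 55, nat_lit 147, nat_lit 193, nat_lit 55, nat_lit 147, nat_lit 193, nat_lit 55, nat_lit 147, nat_lit 193, nat_lit 55, nat_lit 147, nat_lit 193, nat_lit 55] 8 1))) (.node (nat_lit 1) (.leaf (Rule.fwd [nat_lit 9, nat_lit 239, nat_lit 147, nat_lit 9, nat_lit 147, nat_lit 9, nat_lit 147, nat_lit 9, nat_lit 147, nat_lit 9, nat_lit 239, nat_lit 9, nat_lit 147, nat_lit 9] 33 12)) (.leaf (Rule.fwd [nat_lit 9, nat_lit 147, nat_lit 55, nat_lit 193, nat_lit 9, nat_lit 193, nat_lit 101, nat_lit 101, nat_lit 193, nat_lit 9, nat_lit 193, nat_lit 55, nat_lit 193, nat_lit 9, nat_lit 193, nat_lit 9] 24 14))))))) (.node (nat_lit 4) (.node (nat_lit 2) (.node (nat_lit 1) (.leaf (Rule.fwd [nat_lit 239, nat_lit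 9, nat_lit 147, nat_lit 9, nat_lit 147, nat_lit 9, nat_lit 239, nat_lit 9, nat_lit 147, nat_lit 9, nat_lit 147, nat_lit 9, nat_lit 147, nat_lit 9] 32 8)) (.leaf (Rule.fwd [nat_lit 55, nat_lit 193, nat_lit 9, nat_lit 193, nat_lit 101, nat_lit 101, nat_lit 193, nat_lit 9, nat_lit 193, nat_lit 55, nat_lit 193, nat_lit 9, nat_lit 193, nat_lit 9, nat_lit 147, nat_lit 9] 24 16))) (.node (nat_lit 1) (.leaf (Rule.fwd [nat_lit 9, nat_lit 147, nat_lit 193, nat_lit 147, nat_lit 9, nat_lit 147, nat_lit 9, nat_lit 147, nat_lit 9, nat_lit 147, nat_lit 9, nat_lit 193, nat_lit 9, nat_lit 147, nat_lit 9, nat_lit 147, nat_lit 9] 22 14)) (.leaf (Rule.fwd [nat_lit 9, nat_lit 239, nat_lit 147, nat_lit 239, nat_lit 147, nat_lit 9, nat_lit 239, nat_lit 147, nat_lit 239, nat_lit 147, nat_lit 9, nat_lit 239, nat_lit 147, nat_lit 239, nat_lit 147, nat_lit 9, nat_lit 239, nat_lit 147, nat_lit 239, nat_lit 147, nat_lit 9, nat_lit 239, nat_lit 147, nat_lit 239] 38 3)))) (.node (nat_lit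 1) (.leaf (Rule.fwd [nat_lit 239, nat_lit 147, nat_lit 239, nat_lit 9, nat_lit 147, nat_lit 239, nat_lit 147, nat_lit 239, nat_lit 9, nat_lit 147, nat_lit 239, nat_lit 147, nat_lit 239, nat_lit 9, nat_lit 147, nat_lit 239, nat_lit 147, nat_lit 239, nat_lit 9, nat_lit 147, nat_lit 239, nat_lit 147, nat_lit 239, nat_lit 9] 39 4)) (.leaf (Rule.fwd [nat_lit 9, nat_lit 147, nat_lit 9, nat_lit 147, nat_lit 9, nat_lit 147, nat_lit 9, nat_lit 147, nat_lit 9, nat_lit 147, nat_lit 9, nat_lit 147, nat_lit 9, nat_lit 147, nat_lit 9] 16 1))))), (.node (nat_lit 32) (.node (nat_lit 16) (.node (nat_lit 8) (.node (nat_lit 4) (.node (nat_lit 2) (.node (nat_lit 1) (.leaf XRule.defn) (.leaf XRule.ax)) (.node (nat_lit 1) (.leaf (XRule.rot (nat_lit 13282639685313) [193, 147, 193, 147, 193] 6 0)) (.leaf (XRule.rot (nat_lit 167318132969776879) [239, 147, 9, 147, 239, 147, 9] 30 3)))) (.node (nat_lit 2) (.node (nat_lit 1) (.leaf (XRule.rot (nat_lit 26551909) [101, 147, 101] 3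 1)) (.leaf (XRule.rot (nat_lit 14493239) [55, 147, 55] 2 0))) (.node (nat_lit 1) (.leaf (XRule.rot (nat_lit 1572947316009736084986001245839107593) [9, 147, 9, 239, 147, 9, 147, 9, 147, 9, 147, 9, 239, 9] 33 14)) (.leaf (XRule.rot (nat_lit 55346245152618790738264902764523969151520063956719) [239, 147, 239, 147, 9, 239, 147, 239, 9, 147, 239, 147, 239, 147, 9, 239, 147, 239, 9] 40 5))))) (.node (nat_lit 4) (.node (nat_lit 2) (.node (nat_lit 1) (.leaf (XRule.rot (nat_lit 1543091723296657550360137863207968265) [9, 239, 9, 147, 9, 147, 9, 147, 9, 147, 239, 9, 147, 9] 32 13)) (.leaf (XRule.rot (nat_lit 3477108854318437057) [193, 9, 193, 147, 193, 9, 193] 14 2))) (.node (nat_lit 1) (.leaf (XRule.rot (nat_lit 4310613984731276809) [9, 147, 239, 147, 9, 147, 239] 30 1)) (.leaf (XRule.rot (nat_lit 1398879344876177237067507688665812660210816945825519) [239, 147, 239, 147, 239, 147, 239, 147, 239, 147, 239, 147, 239, 147, 239, 147, 239, 147, 239] 36 1)))) (.node (nat_lit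 2) (.node (nat_lit 1) (.leaf (XRule.rot (nat_lit 1572947316009736086648171856423888393) [9, 147, 9, 147, 9, 147, 239, 9, 147, 9, 147, 9, 239, 9] 32 2)) (.leaf (XRule.rot (nat_lit 1543091722963644440376942492509349385) [9, 147, 9, 147, 239, 9, 147, 9, 147, 9, 239, 9, 147, 9] 32 4))) (.node (nat_lit 1) (.leaf (XRule.rot (nat_lit 1543091609073160827779275523984462575) [239, 9, 147, 9, 147, 9, 239, 9, 147, 9, 147, 9, 147, 9] 32 8)) (.leaf (XRule.rot (nat_lit 1397301615754225507142056779294758316669033975124719) [239, 9, 147, 239, 147, 239, 147, 9, 239, 147, 239, 9, 147, 239, 147, 239, 147, 9, 239] 40 2)))))) (.node (nat_lit 8) (.node (nat_lit 4) (.node (nat_lit 2) (.node (nat_lit 1) (.leaf (XRule.rot (nat_lit 4310447366395298489903263881948524506046080521) [9, 147, 9, 147, 9, 147, 9, 193, 9, 147, 9, 147, 9, 147, 9, 147, 193] 22 0)) (.leaf (XRule.rot (nat_lit 147) [147] 42 0))) (.node (nat_lit 1) (.leaf (XRule.rot (nat_lit 408425468945531841485503916514616119469577)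 [9, 147, 55, 193, 9, 193, 101, 101, 193, 9, 193, 55, 193, 9, 193, 9] 24 14)) (.leaf (XRule.rot (nat_lit 1573034613398439521415428275171567113) [9, 147, 9, 239, 9, 147, 9, 147, 9, 147, 9, 147, 239, 9] 32 11)))) (.node (nat_lit 2) (.node (nat_lit 1) (.leaf (XRule.rot (nat_lit 790062903845458342974438840889405416969) [9, 147, 9, 147, 9, 147, 9, 147, 9, 147, 9, 147, 9, 147, 9] 16 1)) (.leaf (XRule.rot (nat_lit 207110249865664059641658524016082875064877577) [9, 193, 9, 147, 9, 147, 9, 147, 9, 147, 193, 147, 9, 147, 9, 147, 9] 22 6))) (.node (nat_lit 1) (.leaf (XRule.rot (nat_lit 209113832442094317533563648509319870599734793) [9, 147, 9, 147, 9, 147, 193, 147, 9, 147, 9, 147, 9, 147, 9, 193, 9] 22 10)) (.leaf (XRule.rot (nat_lit 1543091722963644440376936151831666185) [9, 239, 147, 9, 147, 9, 147, 9, 147, 9, 239, 9, 147, 9] 33 12))))) (.node (nat_lit 4) (.node (nat_lit 2) (.node (nat_lit 1) (.leaf (XRule.rot (nat_lit 1398874219704135444928659081630038805807545998190319)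 [239, 147, 9, 239, 147, 239, 9, 147, 239, 147, 239, 147, 9, 239, 147, 239, 9, 147, 239] 40 7)) (.leaf (XRule.rot (nat_lit 1543091609073162945016378321948499465) [9, 239, 9, 147, 9, 147, 9, 239, 147, 9, 147, 9, 147, 9] 33 3))) (.node (nat_lit 1) (.leaf (XRule.rot (nat_lit 207125902854542195030010610739672636079810057) [9, 147, 9, 147, 9, 193, 9, 147, 9, 147, 9, 147, 9, 147, 193, 147, 9] 22 2)) (.leaf (XRule.rot (nat_lit 32100495183717039875519426823275250277) [101, 193, 147, 101, 193, 147, 101, 193, 147, 101, 193, 147, 101, 193] 9 2)))) (.node (nat_lit 2) (.node (nat_lit 1) (.leaf (XRule.rot (nat_lit 4415590621806332795521416646716094698300937) [9, 147, 9, 193, 9, 193, 101, 193, 9, 193, 55, 55, 193, 9, 193, 101] 25 0)) (.leaf (XRule.rot (nat_lit 1398879344856626257293825518375411065004157997800969) [9, 239, 147, 239, 9, 147, 239, 147, 239, 147, 9, 239, 147, 239, 9, 147, 239, 147, 239] 40 9))) (.node (nat_lit 1) (.leaf (XRule.rot (nat_lit 39713700224873333568789982751790278153)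 [9, 147, 9, 147, 9, 147, 9, 239, 9, 147, 9, 147, 9, 239] 33 9)) (.leaf (XRule.rot (nat_lit 404512221696785196570754340707242864902711) [55, 193, 9, 193, 101, 101, 193, 9, 193, 55, 193, 9, 193, 9, 147, 9] 24 16))))))) (.node (nat_lit 16) (.node (nat_lit 8) (.node (nat_lit 4) (.node (nat_lit 2) (.node (nat_lit 1) (.leaf (XRule.rot (nat_lit 49163179969022826373250192908289379387273280626813985133213066991) [239, 147, 9, 239, 147, 239, 147, 9, 239, 147, 239, 147, 9, 239, 147, 239, 147, 9, 239, 147, 239, 147, 9, 239] 38 1)) (.leaf (XRule.rot (nat_lit 404527507818736722453299948894842815611401) [9, 193, 9, 193, 101, 193, 9, 193, 55, 55, 193, 9, 193, 101, 147, 9] 25 15))) (.node (nat_lit 1) (.leaf (XRule.rot (nat_lit 207110249865663831971912470910658177698965185) [193, 147, 9, 147, 9, 147, 9, 147, 9, 193, 9, 147, 9, 147, 9, 147, 9] 22 16)) (.leaf (XRule.rot (nat_lit 205106667289233346187818946646216373833115145) [9, 147, 9, 147, 9, 147, 55, 147, 9, 147, 9, 147,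 9, 147, 9, 101, 9] 18 10)))) (.node (nat_lit 2) (.node (nat_lit 1) (.leaf (XRule.rot (nat_lit 1543091609073595283838374868495967753) [9, 147, 239, 9, 147, 9, 147, 9, 239, 9, 147, 9, 147, 9] 32 6)) (.leaf (XRule.rot (nat_lit 1232944528998072496371333911772823227581408777) [9, 147, 9, 147, 9, 147, 9, 101, 9, 147, 9, 147, 9, 147, 9, 147, 55] 18 0))) (.node (nat_lit 1) (.leaf (XRule.rot (nat_lit 9201167792750531985051393325372567233) [193, 55, 147, 193, 55, 147, 193, 55, 147, 193, 55, 147, 193, 55] 8 1)) (.leaf (XRule.rot (nat_lit 207110249925375245733841813234213007586043401) [9, 147, 9, 193, 9, 147, 9, 147, 9, 147, 9, 147, 193, 147, 9, 147, 9] 22 4))))) (.node (nat_lit 4) (.node (nat_lit 2) (.node (nat_lit 1) (.leaf (XRule.rot (nat_lit 207110249865692987824496544782346717847954953) [9, 147, 193, 147, 9, 147, 9, 147, 9, 147, 9, 193, 9, 147, 9, 147, 9] 22 14)) (.leaf (XRule.rot (nat_lit 1543237218389474761107083719510140425) [9, 147, 9, 147, 9, 239, 9, 147,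 9, 147, 9, 239, 147, 9] 33 7))) (.node (nat_lit 1) (.leaf (XRule.rot (nat_lit 1947322883581702646767901840215937364388758746944223465346770671) [239, 147, 239, 9, 147, 239, 147, 239, 9, 147, 239, 147, 239, 9, 147, 239, 147, 239, 9, 147, 239, 147, 239, 9] 39 4)) (.leaf (XRule.rot (nat_lit 1543091609628616286914244352982459913) [9, 147, 9, 239, 9, 147, 9, 147, 9, 239, 147, 9, 147, 9] 33 5)))) (.node (nat_lit 2) (.node (nat_lit 1) (.leaf (XRule.rot (nat_lit 207110249865663831749470120101566409553028663) [55, 147, 9, 147, 9, 147, 9, 147, 9, 101, 9, 147, 9, 147, 9, 147, 9] 18 16)) (.leaf (XRule.rot (nat_lit 49218511051544827690117164343134777952143848425891957510167597807) [239, 9, 147, 239, 147, 239, 9, 147, 239, 147, 239, 9, 147, 239, 147, 239, 9, 147, 239, 147, 239, 9, 147, 239] 39 2))) (.node (nat_lit 1) (.leaf (XRule.rot (nat_lit 207110257508724807623957564703015534621697545) [9, 147, 9, 147, 193, 147, 9, 147, 9, 147, 9, 147, 9, 193, 9, 147, 9] 22 12))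 (.leaf (XRule.rot (nat_lit 203103084712802860514946597786320454040233481) [9, 147, 9, 147, 9, 147, 101, 147, 9, 147, 9, 147, 9, 147, 9, 55, 9] 19 7)))))) (.node (nat_lit 2) (.node (nat_lit 1) (.leaf (XRule.rot (nat_lit 207110242222602856097425026309224858109945353) [9, 147, 9, 147, 55, 147, 9, 147, 9, 147, 9, 147, 9, 101, 9, 147, 9] 18 12)) (.leaf (XRule.rot (nat_lit 207110249865663945751174909761097584345378313) [9, 55, 9, 147, 9, 147, 9, 147, 9, 147, 101, 147, 9, 147, 9, 147, 9] 19 11))) (.node (nat_lit 1) (.leaf (XRule.rot (nat_lit 49218691165745745663153840682440915317263869805446247784832163337) [9, 239, 147, 239, 147, 9, 239, 147, 239, 147, 9, 239, 147, 239, 147, 9, 239, 147, 239, 147, 9, 239, 147, 239] 38 3)) (.leaf (XRule.rot (nat_lit 207110249865663831638248944697020525480060517) [101, 147, 9, 147, 9, 147, 9, 147, 9, 55, 9, 147, 9, 147, 9, 147, 9] 19 1))))))⟩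
noncomputable def ci193 : CI := ⟨[4], (nat_lit 193), true, (.node (nat_lit 16) (.node (nat_lit 8) (.node (nat_lit 4) (.node (nat_lit 2) (.node (nat_lit 1) (.leaf Rule.defn) (.leaf Rule.copy)) (.node (nat_lit 1) (.leaf (Rule.fwd [nat_lit 193] 42 0)) (.leaf (Rule.fwd [nat_lit 239, nat_lit 101, nat_lit 9, nat_lit 193, nat_lit 9, nat_lit 55, nat_lit 239] 34 1)))) (.node (nat_lit 2) (.node (nat_lit 1) (.leaf (Rule.fwd [nat_lit 9, nat_lit 55, nat_lit 239, nat_lit 193, nat_lit 239, nat_lit 101, nat_lit 9] 34 5)) (.leaf (Rule.fwd [nat_lit 55, nat_lit 193, nat_lit 55, nat_lit 193, nat_lit 55] 4 1))) (.node (nat_lit 1) (.leaf (Rule.fwd [nat_lit 147, nat_lit 193, nat_lit 147, nat_lit 193, nat_lit 147] 6 1)) (.leaf (Rule.fwd [nat_lit 101, nat_lit 193, nat_lit 101, nat_lit 193, nat_lit 101] 5 0))))) (.node (nat_lit 4) (.node (nat_lit 2) (.node (nat_lit 1) (.leaf (Rule.fwd [nat_lit 147, nat_lit 193, nat_lit 9, nat_lit 193, nat_lit 147, nat_lit 193, nat_lit 9] 14 1))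 (.leaf (Rule.fwd [nat_lit 55, nat_lit 193, nat_lit 101, nat_lit 193, nat_lit 55, nat_lit 193, nat_lit 101] 10 0))) (.node (nat_lit 1) (.leaf (Rule.fwd [nat_lit 9, nat_lit 193, nat_lit 147, nat_lit 193, nat_lit 9, nat_lit 193, nat_lit 147] 14 3)) (.leaf (Rule.fwd [nat_lit 101, nat_lit 193, nat_lit 55, nat_lit 193, nat_lit 101, nat_lit 193, nat_lit 55] 10 2)))) (.node (nat_lit 2) (.node (nat_lit 1) (.leaf (Rule.fwd [nat_lit 9, nat_lit 147, nat_lit 9, nat_lit 147, nat_lit 9, nat_lit 147, nat_lit 9, nat_lit 147, nat_lit 193, nat_lit 147, nat_lit 9, nat_lit 147, nat_lit 9, nat_lit 147, nat_lit 9, nat_lit 147, nat_lit 9] 22 8)) (.leaf (Rule.fwd [nat_lit 9, nat_lit 193, nat_lit 9, nat_lit 147, nat_lit 9, nat_lit 147, nat_lit 55, nat_lit 193, nat_lit 9, nat_lit 193, nat_lit 101, nat_lit 101, nat_lit 193, nat_lit 9, nat_lit 193, nat_lit 55] 24 10))) (.node (nat_lit 1) (.leaf (Rule.fwd [nat_lit 9, nat_lit 193, nat_lit 101, nat_lit 193, nat_lit 9, nat_lit 193, nat_lit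 55, nat_lit 55, nat_lit 193, nat_lit 9, nat_lit 193, nat_lit 101, nat_lit 147, nat_lit 9, nat_lit 147, nat_lit 9] 25 13)) (.leaf (Rule.fwd [nat_lit 101, nat_lit 193, nat_lit 9, nat_lit 193, nat_lit 55, nat_lit 55, nat_lit 193, nat_lit 9, nat_lit 193, nat_lit 101, nat_lit 147, nat_lit 9, nat_lit 147, nat_lit 9, nat_lit 193, nat_lit 9] 25 11)))))) (.node (nat_lit 8) (.node (nat_lit 4) (.node (nat_lit 2) (.node (nat_lit 1) (.leaf (Rule.fwd [nat_lit 9, nat_lit 193, nat_lit 101, nat_lit 147, nat_lit 9, nat_lit 147, nat_lit 9, nat_lit 193, nat_lit 9, nat_lit 193, nat_lit 101, nat_lit 193, nat_lit 9, nat_lit 193, nat_lit 55, nat_lit 55] 25 4)) (.leaf (Rule.fwd [nat_lit 147, nat_lit 9, nat_lit 147, nat_lit 9, nat_lit 147, nat_lit 9, nat_lit 147, nat_lit 9, nat_lit 193, nat_lit 9, nat_lit 147, nat_lit 9, nat_lit 147, nat_lit 9, nat_lit 147, nat_lit 9, nat_lit 147] 22 17))) (.node (nat_lit 1) (.leaf (Rule.fwd [nat_lit 101, nat_lit 147, nat_lit 9, nat_lit 147, nat_lit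 9, nat_lit 193, nat_lit 9, nat_lit 193, nat_lit 101, nat_lit 193, nat_lit 9, nat_lit 193, nat_lit 55, nat_lit 55, nat_lit 193, nat_lit 9] 25 2)) (.leaf (Rule.fwd [nat_lit 9, nat_lit 193, nat_lit 55, nat_lit 193, nat_lit 9, nat_lit 193, nat_lit 9, nat_lit 147, nat_lit 9, nat_lit 147, nat_lit 55, nat_lit 193, nat_lit 9, nat_lit 193, nat_lit 101, nat_lit 101] 24 6)))) (.node (nat_lit 2) (.node (nat_lit 1) (.leaf (Rule.fwd [nat_lit 9, nat_lit 193, nat_lit 101, nat_lit 101, nat_lit 193, nat_lit 9, nat_lit 193, nat_lit 55, nat_lit 193, nat_lit 9, nat_lit 193, nat_lit 9, nat_lit 147, nat_lit 9, nat_lit 147, nat_lit 55] 24 1)) (.leaf (Rule.fwd [nat_lit 9, nat_lit 147, nat_lit 9, nat_lit 147, nat_lit 55, nat_lit 193, nat_lit 9, nat_lit 193, nat_lit 101, nat_lit 101, nat_lit 193, nat_lit 9, nat_lit 193, nat_lit 55, nat_lit 193, nat_lit 9] 24 12))) (.node (nat_lit 1) (.leaf (Rule.fwd [nat_lit 55, nat_lit 193, nat_lit 9, nat_lit 193, nat_lit 9, nat_lit 147, nat_lit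 9, nat_lit 147, nat_lit 55, nat_lit 193, nat_lit 9, nat_lit 193, nat_lit 101, nat_lit 101, nat_lit 193, nat_lit 9] 24 8)) (.leaf (Rule.fwd [nat_lit 101, nat_lit 101, nat_lit 193, nat_lit 9, nat_lit 193, nat_lit 55, nat_lit 193, nat_lit 9, nat_lit 193, nat_lit 9, nat_lit 147, nat_lit 9, nat_lit 147, nat_lit 55, nat_lit 193, nat_lit 9] 24 3))))) (.node (nat_lit 2) (.node (nat_lit 1) (.leaf (Rule.fwd [nat_lit 147, nat_lit 101, nat_lit 193, nat_lit 147, nat_lit 101, nat_lit 193, nat_lit 147, nat_lit 101, nat_lit 193, nat_lit 147, nat_lit 101, nat_lit 193, nat_lit 147, nat_lit 101] 9 0)) (.leaf (Rule.fwd [nat_lit 55, nat_lit 55, nat_lit 193, nat_lit 9, nat_lit 193, nat_lit 101, nat_lit 147, nat_lit 9, nat_lit 147, nat_lit 9, nat_lit 193, nat_lit 9, nat_lit 193, nat_lit 101, nat_lit 193, nat_lit 9] 25 7))) (.leaf (Rule.fwd [nat_lit 9, nat_lit 193, nat_lit 55, nat_lit 55, nat_lit 193, nat_lit 9, nat_lit 193, nat_lit 101, nat_lit 147, nat_lit 9, nat_lit 147,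 nat_lit 9, nat_lit 193, nat_lit 9, nat_lit 193, nat_lit 101] 25 9))))), (.node (nat_lit 16) (.node (nat_lit 8) (.node (nat_lit 4) (.node (nat_lit 2) (.node (nat_lit 1) (.leaf XRule.defn) (.leaf XRule.ax)) (.node (nat_lit 1) (.leaf (XRule.rot (nat_lit 168930298068042387) [147, 193, 9, 193, 147, 193, 9] 14 1)) (.leaf (XRule.rot (nat_lit 10127705735827) [147, 193, 147, 193, 147] 6 1)))) (.node (nat_lit 2) (.node (nat_lit 1) (.leaf (XRule.rot (nat_lit 6966597747301) [101, 193, 101, 193, 101] 5 0)) (.leaf (XRule.rot (nat_lit 4307377028612803311) [239, 101, 9, 193, 9, 55, 239] 34 1))) (.node (nat_lit 1) (.leaf (XRule.rot (nat_lit 165699658087951881) [9, 55, 239, 193, 239, 101, 9] 34 5)) (.leaf (XRule.rot (nat_lit 3805489758775) [55, 193, 55, 193, 55] 4 1))))) (.node (nat_lit 4) (.node (nat_lit 2) (.node (nat_lit 1) (.leaf (XRule.rot (nat_lit 997589468420342373) [101, 193, 55, 193, 101, 193, 55] 10 2)) (.leaf (XRule.rot (nat_lit 2654907809124942345) [9, 193,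 147, 193, 9, 193, 147] 14 3))) (.node (nat_lit 1) (.leaf (XRule.rot (nat_lit 3278614056390770476477570727624056520632439443) [147, 9, 147, 9, 147, 9, 147, 9, 193, 9, 147, 9, 147, 9, 147, 9, 147] 22 17)) (.leaf (XRule.rot (nat_lit 4415590621777290277965919682555409634001417) [9, 193, 55, 55, 193, 9, 193, 101, 147, 9, 147, 9, 193, 9, 193, 101] 25 9)))) (.node (nat_lit 2) (.node (nat_lit 1) (.leaf (XRule.rot (nat_lit 1826248638772642359) [55, 193, 101, 193, 55, 193, 101] 10 0)) (.leaf (XRule.rot (nat_lit 408433111977351862955263822744432020891145) [9, 147, 9, 147, 55, 193, 9, 193, 101, 101, 193, 9, 193, 55, 193, 9] 24 12))) (.node (nat_lit 1) (.leaf (XRule.rot (nat_lit 408433067310187754788494930724623487411813) [101, 147, 9, 147, 9, 193, 9, 193, 101, 193, 9, 193, 55, 55, 193, 9] 25 2)) (.leaf (XRule.rot (nat_lit 404512206827243544672869848962371268477449) [9, 193, 101, 193, 9, 193, 55, 55, 193, 9, 193, 101, 147, 9, 147, 9] 25 13)))))) (.node (nat_lit 8)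 (.node (nat_lit 4) (.node (nat_lit 2) (.node (nat_lit 1) (.leaf (XRule.rot (nat_lit 193) [193] 42 0)) (.leaf (XRule.rot (nat_lit 207110249865663831861560210938960308345316873) [9, 147, 9, 147, 9, 147, 9, 147, 193, 147, 9, 147, 9, 147, 9, 147, 9] 22 8))) (.node (nat_lit 1) (.leaf (XRule.rot (nat_lit 408440755038327403994716451059979778289207) [55, 55, 193, 9, 193, 101, 147, 9, 147, 9, 193, 9, 193, 101, 193, 9] 25 7)) (.leaf (XRule.rot (nat_lit 408425453988465686592321992099127754064485) [101, 193, 9, 193, 55, 55, 193, 9, 193, 101, 147, 9, 147, 9, 193, 9] 25 11)))) (.node (nat_lit 2) (.node (nat_lit 1) (.leaf (XRule.rot (nat_lit 408433097049441227416240379907414860024421) [101, 101, 193, 9, 193, 55, 193, 9, 193, 9, 147, 9, 147, 55, 193, 9] 24 3)) (.leaf (XRule.rot (nat_lit 2408094783199417289934723464577476029940233) [9, 193, 101, 101, 193, 9, 193, 55, 193, 9, 193, 9, 147, 9, 147, 55] 24 1))) (.node (nat_lit 1) (.leaf (XRule.rot (nat_lit 2412008045405060031696122531604094276436489)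 [9, 193, 9, 147, 9, 147, 55, 193, 9, 193, 101, 101, 193, 9, 193, 55] 24 10)) (.leaf (XRule.rot (nat_lit 408440725299016986124740424696223104336439) [55, 193, 9, 193, 9, 147, 9, 147, 55, 193, 9, 193, 101, 101, 193, 9] 24 8))))) (.node (nat_lit 2) (.node (nat_lit 1) (.leaf (XRule.rot (nat_lit 2400298816337088762231692890915893870428681) [9, 193, 101, 147, 9, 147, 9, 193, 9, 193, 101, 193, 9, 193, 55, 55] 25 4)) (.leaf (XRule.rot (nat_lit 4407794639987108170970464581925872959586825) [9, 193, 55, 193, 9, 193, 9, 147, 9, 147, 55, 193, 9, 193, 101, 101] 24 6))) (.node (nat_lit 1) (.leaf (XRule.rot (nat_lit 16829330127843554158121724934111939219) [147, 101, 193, 147, 101, 193, 147, 101, 193, 147, 101, 193, 147, 101] 9 0)) (.leaf (XRule.rot (nat_lit 24442535453393045047390758235239949879) [55, 147, 193, 55, 147, 193, 55, 147, 193, 55, 147, 193, 55, 147] 8 2))))))⟩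
noncomputable def ci239 : CI := ⟨[5], (nat_lit 239), false, (.node (nat_lit 8) (.node (nat_lit 4) (.node (nat_lit 2) (.node (nat_lit 1) (.leaf Rule.defn) (.leaf Rule.copy)) (.node (nat_lit 1) (.leaf (Rule.fwd [nat_lit 239] 42 0)) (.leaf (Rule.fwd [nat_lit 9, nat_lit 239, nat_lit 9, nat_lit 239, nat_lit 9] 28 0)))) (.node (nat_lit 2) (.node (nat_lit 1) (.leaf (Rule.fwd [nat_lit 193, nat_lit 239, nat_lit 101, nat_lit 9, nat_lit 193, nat_lit 9, nat_lit 55] 34 0)) (.leaf (Rule.fwd [nat_lit 101, nat_lit 239, nat_lit 55] 26 0))) (.node (nat_lit 1) (.leaf (Rule.fwd [nat_lit 147, nat_lit 9, nat_lit 147, nat_lit 239, nat_lit 147, nat_lit 9, nat_lit 147] 30 0)) (.leaf (Rule.fwd [nat_lit 101, nat_lit 9, nat_lit 193, nat_lit 9, nat_lit 55, nat_lit 239, nat_lit 193] 34 2))))) (.node (nat_lit 4) (.node (nat_lit 2) (.node (nat_lit 1) (.leaf (Rule.fwd [nat_lit 55, nat_lit 239, nat_lit 101] 26 2)) (.leaf (Rule.fwd [nat_lit 147, nat_lit 239, nat_lit 147, nat_lit 9, nat_lit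 239, nat_lit 147, nat_lit 239, nat_lit 9, nat_lit 147, nat_lit 239, nat_lit 147, nat_lit 239, nat_lit 147, nat_lit 9, nat_lit 239, nat_lit 147, nat_lit 239, nat_lit 9, nat_lit 147] 40 6))) (.node (nat_lit 1) (.leaf (Rule.fwd [nat_lit 147, nat_lit 239, nat_lit 9, nat_lit 147, nat_lit 239, nat_lit 147, nat_lit 239, nat_lit 147, nat_lit 9, nat_lit 239, nat_lit 147, nat_lit 239, nat_lit 9, nat_lit 147, nat_lit 239, nat_lit 147, nat_lit 239, nat_lit 147, nat_lit 9] 40 1)) (.leaf (Rule.fwd [nat_lit 147, nat_lit 9, nat_lit 239, nat_lit 147, nat_lit 239, nat_lit 9, nat_lit 147, nat_lit 239, nat_lit 147, nat_lit 239, nat_lit 147, nat_lit 9, nat_lit 239, nat_lit 147, nat_lit 239, nat_lit 9, nat_lit 147, nat_lit 239, nat_lit 147] 40 8)))) (.node (nat_lit 2) (.node (nat_lit 1) (.leaf (Rule.fwd [nat_lit 147, nat_lit 239, nat_lit 147, nat_lit 239, nat_lit 147, nat_lit 239, nat_lit 147, nat_lit 239, nat_lit 147, nat_lit 239, nat_lit 147, nat_lit 239, nat_lit 147, nat_lit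 239, nat_lit 147, nat_lit 239, nat_lit 147, nat_lit 239, nat_lit 147] 36 0)) (.leaf (Rule.fwd [nat_lit 9, nat_lit 147, nat_lit 239, nat_lit 147, nat_lit 239, nat_lit 147, nat_lit 9, nat_lit 239, nat_lit 147, nat_lit 239, nat_lit 9, nat_lit 147, nat_lit 239, nat_lit 147, nat_lit 239, nat_lit 147, nat_lit 9, nat_lit 239, nat_lit 147] 40 3))) (.node (nat_lit 1) (.leaf (Rule.fwd [nat_lit 9, nat_lit 147, nat_lit 9, nat_lit 147, nat_lit 9, nat_lit 239, nat_lit 9, nat_lit 147, nat_lit 9, nat_lit 147, nat_lit 9, nat_lit 147, nat_lit 9, nat_lit 147] 32 9)) (.leaf (Rule.fwd [nat_lit 9, nat_lit 147, nat_lit 9, nat_lit 147, nat_lit 9, nat_lit 147, nat_lit 9, nat_lit 147, nat_lit 239, nat_lit 9, nat_lit 147, nat_lit 9, nat_lit 147, nat_lit 9] 32 0)))))), (.node (nat_lit 16) (.node (nat_lit 8) (.node (nat_lit 4) (.node (nat_lit 2) (.node (nat_lit 1) (.leaf XRule.defn) (.leaf XRule.defn)) (.node (nat_lit 1) (.leaf (XRule.rot (nat_lit 991121841463877313) [193, 239, 101,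 9, 193, 9, 55] 34 0)) (.leaf (XRule.rot (nat_lit 24427578273346800181849211130159113737) [9, 147, 9, 147, 9, 239, 9, 147, 9, 147, 9, 147, 9, 147] 32 9)))) (.node (nat_lit 2) (.node (nat_lit 1) (.leaf (XRule.rot (nat_lit 3485191758089032293) [101, 9, 193, 9, 55, 239, 193] 34 2)) (.leaf (XRule.rot (nat_lit 26598967) [55, 239, 101] 26 2))) (.node (nat_lit 1) (.leaf (XRule.rot (nat_lit 14540389) [101, 239, 55] 26 0)) (.leaf (XRule.rot (nat_lit 650555809289) [9, 239, 9, 239, 9] 28 0))))) (.node (nat_lit 4) (.node (nat_lit 2) (.node (nat_lit 1) (.leaf (XRule.rot (nat_lit 2648443374122308243) [147, 9, 147, 239, 147, 9, 147] 30 0)) (.leaf (XRule.rot (nat_lit 859471060885634624479427355275386376434937397894803) [147, 239, 147, 9, 239, 147, 239, 9, 147, 239, 147, 239, 147, 9, 239, 147, 239, 9, 147] 40 6))) (.node (nat_lit 1) (.leaf (XRule.rot (nat_lit 862092067468840887597403511284234490394932542252553) [9, 147, 239, 147, 239, 147, 9, 239, 147, 239, 9, 147, 239,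 147, 239, 147, 9, 239, 147] 40 3)) (.leaf (XRule.rot (nat_lit 862095148971032199569914157591599830909662587117203) [147, 239, 147, 239, 147, 239, 147, 239, 147, 239, 147, 239, 147, 239, 147, 239, 147, 239, 147] 36 0)))) (.node (nat_lit 2) (.node (nat_lit 1) (.leaf (XRule.rot (nat_lit 239) [239] 42 0)) (.leaf (XRule.rot (nat_lit 1543091609073596554182574938668738057) [9, 147, 9, 147, 9, 147, 9, 147, 239, 9, 147, 9, 147, 9] 32 0))) (.node (nat_lit 1) (.leaf (XRule.rot (nat_lit 862095138960930555444642968905983085100281198547603) [147, 9, 239, 147, 239, 9, 147, 239, 147, 239, 147, 9, 239, 147, 239, 9, 147, 239, 147] 40 8)) (.leaf (XRule.rot (nat_lit 1543091609073595283838374868471779987) [147, 9, 147, 9, 147, 9, 147, 9, 239, 9, 147, 9, 147, 9] 33 10)))))) (.node (nat_lit 4) (.node (nat_lit 2) (.node (nat_lit 1) (.leaf (XRule.rot (nat_lit 30239949605784156537579527287772987281722593325444655425486446227) [147, 239, 9, 147, 239, 147, 239, 9, 147, 239, 147,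 239, 9, 147, 239, 147, 239, 9, 147, 239, 147, 239, 9, 147] 39 3)) (.leaf (XRule.rot (nat_lit 30332168076654158732357813012515318223173539657241276053743997587) [147, 9, 239, 147, 239, 147, 9, 239, 147, 239, 147, 9, 239, 147, 239, 147, 9, 239, 147, 239, 147, 9, 239, 147] 38 2))) (.node (nat_lit 1) (.leaf (XRule.rot (nat_lit 54297838531746477739048559611775937516781588307603) [147, 239, 9, 147, 239, 147, 239, 147, 9, 239, 147, 239, 9, 147, 239, 147, 239, 147, 9] 40 1)) (.leaf (XRule.rot (nat_lit 1543091609073160826130033801890702857) [9, 147, 9, 147, 9, 239, 147, 9, 147, 9, 147, 9, 147, 9] 33 1)))) (.leaf (XRule.rot (nat_lit 1910435354519482301690152646928922067991880197522798424766668435) [147, 239, 147, 9, 239, 147, 239, 147, 9, 239, 147, 239, 147, 9, 239, 147, 239, 147, 9, 239, 147, 239, 147, 9] 38 0))))⟩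
noncomputable def outer : Tr CI := (.node (nat_lit 2) (.node (nat_lit 64) (.node (nat_lit 1) (.leaf ci0) (.leaf ci9)) (.node (nat_lit 4) (.leaf ci193) (.leaf ci101))) (.node (nat_lit 4) (.leaf ci147) (.node (nat_lit 8) (.leaf ci55) (.leaf ci239))))
def cols : List ℕ := [nat_lit 9, nat_lit 55, nat_lit 101, nat_lit 147, nat_lit 193, nat_lit 239]
def invL : List ℕ := [0, 2, 1, 3, 4, 5]
def rels : List (List ℕ) := [[1, 1, 1], [3, 1, 3, 1], [1, 4, 1, 4, 1, 4], [3, 4, 3, 4, 3, 4], [1, 3, 4, 1, 3, 4, 1, 3, 4, 1, 3, 4, 1, 3, 4], [4, 1, 4, 2, 4, 1, 4, 2], [0, 2, 0, 1], [0, 4, 3, 4, 0, 4, 3, 4], [0, 3, 0, 3, 0, 3, 0, 3, 0, 3, 0, 3, 0, 3, 0, 3], [3, 0, 3, 0, 3, 0, 3, 0, 2, 0, 3, 0, 3, 0, 3, 0, 3, 1], [3, 0, 3, 0, 3, 0, 3, 0, 3, 0, 3, 0, 3, 0, 3, 0], [3, 0, 3, 0, 3, 0, 3, 0, 4, 0, 3, 0, 3, 0, 3, 0, 3, 4], [1, 4, 0, 4, 2, 2, 4, 0, 4, 1, 4, 0, 4, 0, 3, 0, 3], [5, 2, 5, 1], [5, 0, 5, 0, 5, 0], [5, 3, 0, 3, 5, 3, 0, 3], [5, 0, 3, 0, 3, 0, 3, 0, 3, 5, 0, 3, 0, 3, 0],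 [5, 4, 5, 2, 0, 4, 0, 1], [5, 3, 5, 3, 5, 3, 5, 3, 5, 3, 5, 3, 5, 3, 5, 3, 5, 3, 5, 3], [5, 3, 5, 3, 0, 5, 3, 5, 3, 0, 5, 3, 5, 3, 0, 5, 3, 5, 3, 0, 5, 3, 5, 3, 0], [0, 5, 3, 5, 0, 3, 5, 3, 5, 3, 0, 5, 3, 5, 0, 3, 5, 3, 5, 3]]
def subs : List (List ℕ) := [[0], [1], [3], [4]]
noncomputable def row (n : ℕ) : ℕ := rowOf (fun h => rows.get h) (nat_lit 5) (nat_lit 31) (nat_lit 285) (nat_lit 0x1fffffffffffffffffffffffffffffffffffffffffffffffffffffffffffffffffffffff) n
noncomputable def xleaf (h : ℕ) : ℕ := recs.get h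
noncomputable def mF : ℕ → ℕ := mainRow row (rowChk row xleaf outer (nat_lit 20) (nat_lit 1048575) (nat_lit 63) (nat_lit 26) (nat_lit 67108863) (nat_lit 70368744177663) (nat_lit 1048576) (nat_lit 78489) (nat_lit 1236224) (nat_lit 9) (nat_lit 511) (nat_lit 29) (nat_lit 536870911) (nat_lit 8) (nat_lit 255) cols)
noncomputable def xF : ℕ → ℕ → ℕ := xLeaf row xleaf outer (nat_lit 1048575) (nat_lit 26) (nat_lit 70368744177663) (nat_lit 1048576) (nat_lit 78489) (nat_lit 9) (nat_lit 511) (nat_lit 29) (nat_lit 536870911) (nat_lit 536870400) (nat_lit 8) (nat_lit 255) (nat_lit 21) (nat_lit 2097151) (nat_lit 7) (nat_lit 127) (nat_lit 239) (nat_lit 40186368) (nat_lit 128)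
noncomputable def cert : Cert := ⟨row, xleaf, outer, cols, nat_lit 20, nat_lit 1048575, nat_lit 63, nat_lit 26, nat_lit 67108863, nat_lit 70368744177663, nat_lit 1048576, nat_lit 78489, nat_lit 1236224, nat_lit 9, nat_lit 511, nat_lit 29, nat_lit 536870911, nat_lit 536870400, nat_lit 8, nat_lit 255, nat_lit 21, nat_lit 2097151, nat_lit 7, nat_lit 127, nat_lit 239, nat_lit 40186368, nat_lit 128, nat_lit 46, nat_lit 618112, nat_lit 4829⟩
theorem tabok : tabOK (fun i => invL.getD i i) rels subs outer cols (nat_lit 9) (nat_lit 239) = true := by decide +kernel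

end CL.TC.J23B
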