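/- local data for the Hall-Janko group (generated by tools/mx) -/
import Cfsg.Agent.Spor.J2D

set_option autoImplicit false
set_option maxRecDepth 100000

namespace CL.J2L

open CL.Mx

open CL.J2

noncomputable def pS : List ℕ :=
 [0xe5b9dc37eb616d572a6e273bfb384c54eab6,
 0x531aa1450cf0b6054cc6584b401c0380d319]

noncomputable def pB : List ℕ :=
 [0x531aa1450cf0b6054cc6584b401c0380d319,
 0x16657d7a65924b8b1f9a3f689b8484e2a7f3,
 0x61336aadf7c22e8ddd4cbaa77f409da2376a,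
 0xe5b9dc37eb616d572a6e273bfb384c54eab6,
 0xf84646a15cde1761e913a19f57d7addb3a6e,
 0x61336aadf7c22e8ddd4cbaa77f409da2376a]

noncomputable def pF : List ℕ :=
 [0x16d846f,
 0x9b30e8,
 0x5a1dbf,
 0x158baf5,
 0x10c1807,
 0x100004]

theorem pslp : (ops2 12).slp [] pS [.mul 0 1, .mul 2 1, .mul 2 1, .mul 3 4, .mul 5 0, .mul 1 6, .mul 6 0, .mul 6 0,
 .mul 0 9, .mul 0 8, .mul 11 3, .mul 0 10, .mul 13 8, .mul 10 12, .mul 13 15, .mul 7 16,
 .mul 13 14, .mul 12 7, .mul 17 18, .mul 13 20, .mul 7 19, .mul 17 22, .mul 21 22, .mul 21 3,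
 .mul 23 21, .mul 25 23, .mul 27 13, .mul 13 24, .mul 29 26, .mul 30 28, .mul 28 24, .mul 28 24,
 .mul 30 30, .mul 24 33, .mul 30 23, .mul 33 35, .mul 26 35, .mul 30 37] pB [31,32,34,36,38,39] [] [] = true := by decide +kernel

theorem ppl : planesOk pF 25 14 = true := by decide +kernel

theorem pkeys : keysR 12 3 w3 (zipL pF pB) 25 = true := by decide +kernel

noncomputable def pN0 : List (ℕ × ℕ) :=
 [(16, 0x28ec),
 (8, 0x9e00c4),
 (4, 0xa060604),
 (2, 0x20020),
 (1, 0x10011041),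
 (2, 0x3011001),
 (4, 0x8060309),
 (8, 0x960081),
 (16, 0x2868)]

theorem psch0 : (ops2 12).schreier 3 w3 pB pF [] (0xe5b9dc37eb616d572a6e273bfb384c54eab6) pN0 [] 0 25 = true := by decide +kernel

noncomputable def pN1 : List (ℕ × ℕ) :=
 [(16, 0x448c),
 (8, 0x200084),
 (4, 0x2000004),
 (2, 0x200000),
 (1, 0x1110405),
 (2, 0x1332123),
 (4, 0x6080107),
 (8, 0x24003f),
 (16, 0x4534)]

theorem psch1 : (ops2 12).schreier 3 w3 pB pF [] (0x531aa1450cf0b6054cc6584b401c0380d319) pN1 [] 0 25 = true := by decide +kernel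

noncomputable def pa : ℕ :=
 0xe5b9dc37eb616d572a6e273bfb384c54eab6

noncomputable def pz : ℕ :=
 0x531aa1450cf0b6054cc6584b401c0380d319

noncomputable def pn : ℕ :=
 0x2e9990f4eb42dbbfeaa624363b30afecda95

noncomputable def pv : ℕ :=
 0x1001000000001000001001000

noncomputable def pd : ℕ :=
 0x4e668955a187a8e3809b525368f1c13a400e

noncomputable def pC : List ℕ :=
 [0x61336a7d977c0ece6b4cbaa7646f21b2fad2,
 0x77c0a557961345872ef21967e6c4cb609bb2,
 0x515496343053ab1b5f5415840ce4d2c5b7f2]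

noncomputable def pE : List ℕ :=
 [0x558db4,
 0x1ba157,
 0x11c80c8]

noncomputable def pY : List (ℕ × ℕ) :=
 [(one2 12, 0x4000),
 (pa, 0x20ad0),
 (pz, 0x120a024),
 (mul2 12 pa pa, 0x4c1102),
 (mul2 12 pz pz, 0x910409)]

theorem p_conj : (ops2 12).conjAll 3 w3 (zipL pF pB) pC pE pY ((ops2 12).powM 3 w3 (zipL pF pB) 25 [5]) 25 = true := by decide +kernel

theorem p_top : (ops2 12).slp [] aS0 [.mul 0 2, .mul 4 2, .mul 2 1, .mul 1 3, .mul 1 1, .mul 1 6, .mul 1 9, .mul 10 8,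
 .mul 7 9, .mul 12 0, .mul 13 0, .mul 5 8, .mul 0 11, .mul 14 16, .mul 11 7, .mul 14 15,
 .mul 14 18, .mul 19 17, .mul 20 11, .mul 21 19, .mul 14 23, .mul 5 24, .mul 19 23, .mul 24 26,
 .mul 25 24, .mul 24 22, .mul 29 23, .mul 28 23, .mul 27 11, .mul 30 31, .mul 32 22, .mul 11 32,
 .mul 11 33, .mul 32 36, .mul 32 36, .mul 28 28, .mul 31 34, .mul 40 11, .mul 34 38, .mul 11 34,
 .mul 42 40, .mul 42 44, .mul 28 42, .mul 46 42, .mul 36 42, .mul 36 44, .mul 34 11, .mul 11 50,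
 .mul 48 11, .mul 44 44, .mul 52 46, .mul 48 54, .mul 44 36, .mul 54 46, .mul 46 48, .mul 58 56,
 .mul 59 36, .mul 60 56, .mul 61 50, .mul 46 50, .mul 56 62, .mul 54 63, .mul 64 65, .mul 39 35,
 .mul 43 67, .mul 45 68, .mul 47 69, .mul 51 70, .mul 55 71, .inv 72 (0x4e21d641c6b95c19558b159170ce63056570), .mul 73 66, .mul 62 59,
 .mul 41 37, .mul 43 76, .mul 47 77, .mul 49 78, .mul 51 79, .inv 80 (0x3871430d38a72090ce3850834128483c328), .mul 81 75, .mul 82 82,
 .mul 74 74, .mul 83 74, .mul 82 82, .mul 83 85, .mul 83 84, .mul 74 83, .mul 88 87, .mul 88 82,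
 .mul 89 90, .mul 86 91, .mul 86 89, .mul 86 94, .mul 95 92, .mul 96 93, .mul 97 74, .mul 92 97,
 .mul 96 98, .mul 96 99, .mul 100 92, .mul 99 102, .mul 100 86, .mul 88 104, .mul 101 86, .mul 106 99,
 .mul 106 88, .mul 108 103, .mul 106 103, .mul 86 105, .mul 109 111, .mul 107 86, .mul 103 110, .mul 110 107,
 .mul 115 113, .mul 115 112, .mul 110 112, .mul 110 113, .mul 119 103, .mul 119 112, .mul 110 103, .mul 119 121,
 .mul 103 109, .mul 123 117, .mul 109 109, .mul 117 125, .mul 127 127, .mul 119 110, .mul 109 127, .mul 109 129,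
 .mul 117 117, .mul 118 114, .mul 120 133, .mul 122 134, .mul 124 135, .mul 126 136, .inv 137 (0x630a30200d08b84854c28c1800823c12a535), .mul 138 132,
 .mul 109 119, .mul 109 131, .mul 109 140, .mul 142 141, .mul 122 118, .mul 126 144, .mul 128 145, .inv 146 (0x888788200e00a086c822a216008038220213),
 .mul 147 143, .mul 139 148, .mul 148 148, .mul 148 150, .mul 139 148, .mul 152 148, .mul 149 148, .mul 153 151,
 .mul 154 149, .mul 151 154, .mul 156 139, .mul 157 139, .mul 151 157, .mul 158 156, .mul 161 160, .mul 162 161,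
 .mul 151 162, .mul 151 159, .mul 164 163, .mul 165 166, .mul 166 167, .mul 158 155, .mul 151 169, .mul 155 168,
 .mul 151 166, .mul 172 155, .mul 171 151, .mul 173 170, .mul 175 174, .mul 114 176, .mul 116 177, .mul 122 178,
 .mul 124 179, .mul 126 180, .mul 128 181, .mul 130 182, .mul 37 183, .mul 39 184, .mul 41 185, .mul 45 186,
 .mul 47 187, .mul 57 188, .mul 118 116, .mul 124 190, .mul 128 191, .mul 37 192, .mul 43 193, .mul 49 194,
 .mul 55 195, .mul 118 116, .mul 120 197, .mul 126 198, .mul 130 199, .mul 35 200, .mul 41 201, .mul 45 202,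
 .mul 49 203, .mul 57 204, .mul 126 120, .mul 128 206, .mul 35 207, .mul 39 208, .mul 41 209, .mul 45 210,
 .mul 47 211, .mul 49 212, .mul 53 213, .mul 120 114, .mul 122 215, .mul 124 216, .mul 126 217, .mul 128 218,
 .mul 45 219, .mul 47 220, .mul 49 221, .mul 55 222, .mul 114 176, .mul 118 224, .mul 120 225, .mul 128 226,
 .mul 41 227, .mul 45 228, .mul 47 229, .mul 57 230] (pS ++ pn :: pC) [189,196,205,214,223,231] [] [] = true := by decide +kernel

noncomputable def pL : List (ℕ × List ℕ) :=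
 [(0x2e9990f4eb42dbbfeaa624363b30afecda95, [0x46a71a2ea6c481ab89abb686aa111f6ba267,
 0x9d27a49cd7a178c2684b593a36a87f312a21])]

theorem p_norm : (ops2 12).normOk pS pL = true := by decide +kernel

theorem p_in : (ops2 12).slp [] pS [.mul 0 1, .mul 2 1, .mul 2 1, .mul 3 4, .mul 5 0, .mul 1 6, .mul 6 0, .mul 6 0,
 .mul 0 9, .mul 0 8, .mul 11 3, .mul 0 10, .mul 13 8, .mul 10 12, .mul 13 15, .mul 7 16,
 .mul 13 14, .mul 12 7, .mul 17 18, .mul 13 20, .mul 7 19, .mul 17 22, .mul 21 22, .mul 21 3,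
 .mul 23 21, .mul 25 23, .mul 27 13, .mul 13 24, .mul 29 26, .mul 30 28, .mul 28 24, .mul 30 30,
 .mul 30 23, .mul 33 32, .mul 34 31] (pa :: pz :: pL.flatMap Prod.snd) [34,31,35,36] [] [] = true := by decide +kernel

theorem p_fix : (ops2 12).fixes [pa] pv = true := by decide +kernel

theorem p_inv : Nat.beq (mul2 12 pd (Nat.xor pz (one2 12))) (one2 12) = true := by decide +kernel

theorem p_v : decW2 12 pv 0 ≠ 0 := by decide +kernel

theorem pa_pow : Nat.beq ((ops2 12).powK pa 3 5) (one2 12) = true := by decide +kernel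

theorem pa_ne : (ops2 12).neOff 3 w3 w3 [(1, pa)] [] 0 0 1 = true := by decide +kernel

theorem pz_pow : Nat.beq ((ops2 12).powK pz 3 5) (one2 12) = true := by decide +kernel

theorem pz_ne : (ops2 12).neOff 3 w3 w3 [(1, pz)] [] 0 0 1 = true := by decide +kernel

theorem pn_pow : Nat.beq ((ops2 12).powK pn 2 3) (one2 12) = true := by decide +kernel

theorem pn_ne : (ops2 12).neOff 3 w3 w3 [(1, pn)] [] 0 0 1 = true := by decide +kernel

theorem p_comm : (ops2 12).commAll2 pS pS = true := by decide +kernel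

theorem p_cnt : (ops2 12).commCnt 3 w3 kB kF uB uF pS 6048 13 100 = 25 := by decide +kernel

noncomputable def rS : List ℕ :=
 [0x6144b557482931fa5450cd67d21a497d353d,
 0xb90c50a50d60d09ba943e42143981527da47]

noncomputable def rB : List ℕ :=
 [0xfbcd60ef116197b0baf02815c4a864edeeb8,
 0x6144b557482931fa5450cd67d21a497d353d,
 0x142a739e2c0514f4a7087cda8851753ca9f5,
 0xe3efe1ff90b5af21a8f8685ee46d77c99a2e,
 0xd841006ce68649b15513200439519c6c9550,
 0x3e05d03c824c3cd18682f407207305342180]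

noncomputable def rF : List ℕ :=
 [0x6eb5d,
 0x7864872,
 0x3738867,
 0x15639a5,
 0x4410d8a,
 0x1004001]

theorem rslp : (ops2 12).slp [] rS [.mul 0 1, .mul 1 0, .mul 1 0, .mul 0 3, .mul 3 4, .mul 6 1, .mul 1 7, .mul 8 7,
 .mul 1 3, .mul 10 9, .mul 1 5, .mul 12 2, .mul 13 11, .mul 8 5, .mul 8 13, .mul 16 8,
 .mul 17 14, .mul 12 18, .mul 8 18, .mul 15 9, .mul 21 15, .mul 17 19, .mul 20 21, .mul 18 17,
 .mul 17 24, .mul 26 17, .mul 27 20, .mul 28 20, .mul 28 23, .mul 29 30, .mul 31 29, .mul 29 17,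
 .mul 32 23, .mul 25 22, .mul 17 32, .mul 29 34, .mul 17 36, .mul 25 29, .mul 36 29] rB [33,35,37,38,39,40] [] [] = true := by decide +kernel

theorem rpl : planesOk rF 27 19 = true := by decide +kernel

theorem rkeys : keysR 12 3 w3 (zipL rF rB) 27 = true := by decide +kernel

noncomputable def rN0 : List (ℕ × ℕ) :=
 [(16, 0xf58c),
 (8, 0xb80098),
 (4, 0xe0e0208),
 (2, 0x2000000),
 (1, 0x44101041),
 (2, 0x12030100),
 (4, 0xd0d0b0e),
 (8, 0xde0098),
 (16, 0xf01f)]

theorem rsch0 : (ops2 12).schreier 3 w3 rB rF [] (0x6144b557482931fa5450cd67d21a497d353d) rN0 [] 0 27 = true := by decide +kernel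

noncomputable def rN1 : List (ℕ × ℕ) :=
 [(16, 0x5398),
 (8, 0xdc000e),
 (4, 0x8040806),
 (1, 0x44000515),
 (2, 0x1102103),
 (4, 0x1020008),
 (8, 0xde00a1),
 (16, 0x5205)]

theorem rsch1 : (ops2 12).schreier 3 w3 rB rF [] (0xb90c50a50d60d09ba943e42143981527da47) rN1 [] 0 27 = true := by decide +kernel

noncomputable def ra : ℕ :=
 0x6144b557482931fa5450cd67d21a497d353d

noncomputable def rz : ℕ :=
 0xbe01d01c834c34d1c680f41720f301340181

noncomputable def rn : ℕ :=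
 0x67cec846ada1f1f539f25233abb8577e3e6d

noncomputable def rv : ℕ :=
 0x1001001000001000000000

noncomputable def rd : ℕ :=
 0xbe01d01c834c34d1c680f41720f301340181

noncomputable def rC : List ℕ :=
 [0x65b03621c92c758fad6c2db6714b08605b53,
 0x67904e6567d51dc60ee6038f58f54a71b396,
 0x100200388e48a4e5c60040082062313a7191,
 0xa594c7d8f4d1fa0cf96701d43f944281ee4a,
 0xb68a65be23b1b6d0f1a0594c88dc7fb40c72,
 0x6866ce74688aedf51d19c39519b2a87e4749]

noncomputable def rE : List ℕ :=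
 [0x353321b,
 0x217b884,
 0x320bc0c,
 0x405ae2b,
 0x4021b00,
 0x41]

noncomputable def rY : List (ℕ × ℕ) :=
 [(one2 12, 0x80000),
 (ra, 0x7f7bfef),
 (rz, 0x4010)]

theorem r_conj : (ops2 12).conjAll 3 w3 (zipL rF rB) rC rE rY ((ops2 12).powM 3 w3 (zipL rF rB) 27 [3]) 27 = true := by decide +kernel

theorem r_top : (ops2 12).slp [] aS0 [.mul 0 2, .mul 4 2, .mul 2 1, .mul 1 3, .mul 1 1, .mul 1 6, .mul 1 9, .mul 10 8,
 .mul 7 9, .mul 12 0, .mul 13 0, .mul 5 8, .mul 0 11, .mul 14 16, .mul 11 7, .mul 14 15,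
 .mul 14 18, .mul 19 17, .mul 20 11, .mul 21 19, .mul 14 23, .mul 5 24, .mul 19 23, .mul 24 26,
 .mul 25 24, .mul 24 22, .mul 29 23, .mul 28 23, .mul 27 11, .mul 30 31, .mul 32 22, .mul 11 32,
 .mul 11 33, .mul 32 36, .mul 32 36, .mul 28 28, .mul 31 34, .mul 40 11, .mul 34 38, .mul 11 34,
 .mul 42 40, .mul 42 44, .mul 28 42, .mul 46 42, .mul 36 42, .mul 36 44, .mul 34 11, .mul 11 50,
 .mul 48 11, .mul 44 44, .mul 52 46, .mul 48 54, .mul 44 36, .mul 54 46, .mul 46 48, .mul 58 56,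
 .mul 59 36, .mul 60 56, .mul 61 50, .mul 46 50, .mul 56 62, .mul 54 63, .mul 64 65, .mul 39 35,
 .mul 43 67, .mul 45 68, .mul 47 69, .mul 51 70, .mul 55 71, .inv 72 (0x4e21d641c6b95c19558b159170ce63056570), .mul 73 66, .mul 62 59,
 .mul 41 37, .mul 43 76, .mul 47 77, .mul 49 78, .mul 51 79, .inv 80 (0x3871430d38a72090ce3850834128483c328), .mul 81 75, .mul 82 82,
 .mul 74 74, .mul 83 74, .mul 82 82, .mul 83 85, .mul 83 84, .mul 74 83, .mul 88 87, .mul 88 82,
 .mul 89 90, .mul 86 91, .mul 86 89, .mul 86 94, .mul 95 92, .mul 96 93, .mul 97 74, .mul 92 97,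
 .mul 96 98, .mul 96 99, .mul 100 92, .mul 99 102, .mul 100 86, .mul 88 104, .mul 101 86, .mul 106 99,
 .mul 106 88, .mul 108 103, .mul 106 103, .mul 86 105, .mul 109 111, .mul 107 86, .mul 103 110, .mul 110 107,
 .mul 115 113, .mul 115 112, .mul 110 112, .mul 110 113, .mul 119 103, .mul 119 112, .mul 110 103, .mul 119 121,
 .mul 103 109, .mul 123 117, .mul 109 109, .mul 117 125, .mul 127 127, .mul 119 110, .mul 109 129, .mul 117 117,
 .mul 118 114, .mul 120 132, .mul 122 133, .mul 124 134, .mul 126 135, .inv 136 (0x630a30200d08b84854c28c1800823c12a535), .mul 137 131, .mul 109 119,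
 .mul 109 130, .mul 109 139, .mul 141 140, .mul 122 118, .mul 126 143, .mul 128 144, .inv 145 (0x888788200e00a086c822a216008038220213), .mul 146 142,
 .mul 138 147, .mul 147 147, .mul 147 149, .mul 138 147, .mul 151 147, .mul 148 147, .mul 152 150, .mul 153 148,
 .mul 150 153, .mul 155 138, .mul 156 138, .mul 150 156, .mul 157 155, .mul 160 159, .mul 161 160, .mul 150 161,
 .mul 150 158, .mul 163 162, .mul 164 165, .mul 165 166, .mul 157 154, .mul 150 168, .mul 154 167, .mul 150 165,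
 .mul 171 154, .mul 170 150, .mul 172 169, .mul 174 173, .mul 118 116, .mul 41 176, .mul 43 177, .mul 45 178,
 .mul 120 118, .mul 122 180, .mul 126 181, .mul 39 182, .mul 41 183, .mul 43 184, .mul 45 185, .mul 47 186,
 .mul 51 187, .mul 53 188, .mul 116 175, .mul 124 190, .mul 37 191, .mul 39 192, .mul 41 193, .mul 43 194,
 .mul 45 195, .mul 53 196, .mul 55 197, .mul 57 198, .mul 116 175, .mul 120 200, .mul 124 201, .mul 126 202,
 .mul 37 203, .mul 39 204, .mul 41 205, .mul 43 206, .mul 45 207, .mul 47 208, .mul 49 209, .mul 55 210,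
 .mul 116 114, .mul 118 212, .mul 122 213, .mul 126 214, .mul 35 215, .mul 37 216, .mul 39 217, .mul 41 218,
 .mul 43 219, .mul 45 220, .mul 47 221, .mul 49 222, .mul 53 223, .mul 37 116, .mul 39 225, .mul 45 226,
 .mul 49 227, .mul 51 228, .mul 55 229, .mul 114 175, .mul 120 231, .mul 126 232, .mul 43 233, .mul 47 234,
 .mul 49 235, .mul 116 175, .mul 118 237, .mul 124 238, .mul 126 239, .mul 35 240, .mul 41 241, .mul 51 242,
 .mul 118 175, .mul 122 244, .mul 41 245, .mul 45 246, .mul 51 247, .mul 57 248] (rS ++ rn :: rC) [179,189,199,211,224,230,236,243,249] [] [] = true := by decide +kernel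

noncomputable def rL : List (ℕ × List ℕ) :=
 [(0x67cec846ada1f1f539f25233abb8577e3e6d, [0x4b424c6135922df548d263054cb4847d421d,
 0xfbcd60ef116197b0baf02815c4a864edeeb8])]

theorem r_norm : (ops2 12).normOk rS rL = true := by decide +kernel

theorem r_in : (ops2 12).slp [] rS [.mul 0 1, .mul 1 0, .mul 1 0, .mul 0 3, .mul 3 4, .mul 6 1, .mul 1 7, .mul 8 7,
 .mul 1 3, .mul 10 9, .mul 1 5, .mul 12 2, .mul 13 11, .mul 8 5, .mul 8 13, .mul 16 8,
 .mul 17 14, .mul 12 18, .mul 8 18, .mul 15 9, .mul 21 15, .mul 17 19, .mul 20 21, .mul 18 17,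
 .mul 17 24, .mul 26 17, .mul 27 20, .mul 28 20, .mul 28 23, .mul 29 30, .mul 31 29, .mul 29 17,
 .mul 32 23, .mul 25 22, .mul 17 32, .mul 29 34, .mul 17 36, .mul 36 29, .mul 35 33, .mul 39 40,
 .mul 38 37] (ra :: rz :: rL.flatMap Prod.snd) [35,41,42,33] [] [] = true := by decide +kernel

theorem r_fix : (ops2 12).fixes [ra] rv = true := by decide +kernel

theorem r_inv : Nat.beq (mul2 12 rd (Nat.xor rz (one2 12))) (one2 12) = true := by decide +kernel

theorem r_v : decW2 12 rv 0 ≠ 0 := by decide +kernel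

theorem ra_pow : Nat.beq ((ops2 12).powK ra 3 3) (one2 12) = true := by decide +kernel

theorem ra_ne : (ops2 12).neOff 3 w3 w3 [(1, ra)] [] 0 0 1 = true := by decide +kernel

theorem rz_pow : Nat.beq ((ops2 12).powK rz 3 3) (one2 12) = true := by decide +kernel

theorem rz_ne : (ops2 12).neOff 3 w3 w3 [(1, rz)] [] 0 0 1 = true := by decide +kernel

theorem rn_pow : Nat.beq ((ops2 12).powK rn 4 8) (one2 12) = true := by decide +kernel

theorem rn_ne : (ops2 12).neOff 3 w3 w3 [(1, (ops2 12).powK rn 4 4)] [] 0 0 1 = true := by decide +kernel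

theorem r_comm : (ops2 12).commAll rz rS = true := by decide +kernel

noncomputable def rb : ℕ :=
 0xb90c50a50d60d09ba943e42143981527da47

theorem r_ncomm : (ops2 12).neOff 3 w3 w3 [(1, ra), (1, rb)] [(1, rb), (1, ra)] 0 0 1 = true := by decide +kernel

theorem r_cnt : (ops2 12).commCnt 3 w3 kB kF uB uF [ra, rz] 6048 13 100 = 9 := by decide +kernel

noncomputable def vS : List ℕ :=
 [0xedc447fe976c641b827271d6a56b310580ac,
 0x55982f5b706bd33ab364cbcfde1aeacc7cd9]

noncomputable def vB : List ℕ :=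
 [0x55982f5b706bd33ab364cbcfde1aeacc7cd9,
 0x38586885e607bf217114ba097bf1dfc9dc74]

noncomputable def vF : List ℕ :=
 [0x6,
 0x3]

theorem vslp : (ops2 12).slp [] vS [.mul 0 1, .mul 0 1, .mul 3 0, .mul 1 3, .mul 0 4, .mul 4 2, .mul 1 5, .mul 6 8,
 .mul 7 1, .mul 5 9, .mul 11 10, .mul 1 11, .mul 2 11, .mul 14 9, .mul 14 11, .mul 16 11,
 .mul 13 11, .mul 13 6, .mul 19 18, .mul 17 13, .mul 13 20, .mul 22 18, .mul 20 15, .mul 12 23,
 .mul 23 21, .mul 21 26, .mul 24 15, .mul 27 21, .mul 28 24, .mul 30 24, .mul 25 29] vB [31,32] [] [] = true := by decide +kernel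

theorem vpl : planesOk vF 4 3 = true := by decide +kernel

theorem vkeys : keysR 12 3 w3 (zipL vF vB) 4 = true := by decide +kernel

noncomputable def vN0 : List (ℕ × ℕ) :=
 [(2, 0x3)]

theorem vsch0 : (ops2 12).schreier 3 w3 vB vF [] (0xedc447fe976c641b827271d6a56b310580ac) vN0 [] 0 4 = true := by decide +kernel

noncomputable def vN1 : List (ℕ × ℕ) :=
 [(1, 0x5)]

theorem vsch1 : (ops2 12).schreier 3 w3 vB vF [] (0x55982f5b706bd33ab364cbcfde1aeacc7cd9) vN1 [] 0 4 = true := by decide +kernel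

noncomputable def fS : List ℕ :=
 [0xedc447fe976c641b827271d6a56b310580ac,
 0x9a907ca5660b940662a4ff3d5bf2d30258bb]

noncomputable def fB : List ℕ :=
 [0xedc447fe976c641b827271d6a56b310580ac,
 0x77543b5bf167f01de0d68eebfe99e207d817,
 0xcf0853fe1660473cd1c034f285e839ce2462,
 0x38586885e607bf217114ba097bf1dfc9dc74]

noncomputable def fF : List ℕ :=
 [0x1ec,
 0xad4,
 0x2b5,
 0x306]

theorem fslp : (ops2 12).slp [] fS [.mul 0 0, .mul 0 2, .mul 1 1, .mul 1 0, .mul 4 5, .mul 0 0, .mul 3 1, .mul 8 6,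
 .mul 0 9, .mul 5 7, .mul 1 0, .mul 10 0, .mul 12 0, .mul 6 5, .mul 0 13, .mul 11 5,
 .mul 17 14, .mul 0 17, .mul 0 19, .mul 15 20, .mul 21 20, .mul 18 16, .mul 11 18, .mul 11 22,
 .mul 22 21, .mul 24 21, .mul 27 0, .mul 24 23, .mul 27 24, .mul 30 26, .mul 31 30, .mul 32 25,
 .mul 24 25, .mul 34 34, .mul 32 29, .mul 34 24, .mul 37 28] fB [33,35,36,38] [] [] = true := by decide +kernel

theorem fpl : planesOk fF 12 10 = true := by decide +kernel

theorem fkeys : keysR 12 3 w3 (zipL fF fB) 12 = true := by decide +kernel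

noncomputable def fN0 : List (ℕ × ℕ) :=
 [(8, 0xa),
 (4, 0xa),
 (1, 0x541),
 (2, 0x33),
 (4, 0x5),
 (8, 0xa)]

theorem fsch0 : (ops2 12).schreier 3 w3 fB fF [] (0xedc447fe976c641b827271d6a56b310580ac) fN0 [] 0 12 = true := by decide +kernel

noncomputable def fN1 : List (ℕ × ℕ) :=
 [(8, 0x46),
 (4, 0xa),
 (2, 0x20),
 (1, 0x14),
 (2, 0x322),
 (4, 0x40b),
 (8, 0x44)]

theorem fsch1 : (ops2 12).schreier 3 w3 fB fF [] (0x9a907ca5660b940662a4ff3d5bf2d30258bb) fN1 [] 0 12 = true := by decide +kernel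

noncomputable def eS : List ℕ :=
 [0xe6382a43652d5fa2f38daa8ada6b79eadcf8,
 0x33fd7180484222b645ff3c441240a3ae315c]

noncomputable def eB : List ℕ :=
 [0x93bf839c07c15e8f24d1e17712f3d79bc91,
 0x9e2653fae47507d1508854cab90d64f7c415,
 0xa034cb8b497c5292430eb2d8d16f19a7d0ca,
 0xd197bb8b497cf927b566dee5d16f194acd6b,
 0xd465b851a957eb131b1b3e2e68e5f2c4b6d7,
 0xe83f98436af405902c0f9626da6d1f658b2c,
 0xb4370e51a23dffe1ef0ee39268ef75f81be8]

noncomputable def eF : List ℕ :=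
 [0x64b6720a2c74cd5,
 0x879fa6d23287b1c,
 0x767a0e5692474f2,
 0x8c6f80364e679e4,
 0x97838a7f8d8a4dd,
 0xdc20641a0889a70,
 0x20088020310008]

theorem eslp : (ops2 12).slp [] eS [.mul 0 0, .mul 1 1, .mul 0 1, .mul 1 1, .mul 0 1, .mul 4 5, .mul 5 7, .mul 0 6,
 .mul 6 8, .mul 10 2, .mul 7 6, .mul 11 12, .mul 2 12, .mul 2 13, .mul 13 3, .mul 16 6,
 .mul 17 3, .mul 9 16, .mul 19 14, .mul 3 18, .mul 21 9, .mul 18 9, .mul 14 23, .mul 15 22,
 .mul 18 20, .mul 18 25, .mul 26 22, .mul 28 27, .mul 18 24, .mul 22 30, .mul 18 31, .mul 32 29,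
 .mul 30 29, .mul 18 34, .mul 32 29, .mul 34 36, .mul 18 34, .mul 32 18, .mul 38 32, .mul 27 14,
 .mul 38 38] eB [33,35,37,39,40,41,42] [] [] = true := by decide +kernel

theorem epl : planesOk eF 60 36 = true := by decide +kernel

theorem ekeys : keysR 12 3 w3 (zipL eF eB) 60 = true := by decide +kernel

noncomputable def eN0 : List (ℕ × ℕ) :=
 [(32, 0x4ae5664e),
 (16, 0xeaec0000880e),
 (8, 0x20000400a60048),
 (4, 0xc0802080808000e),
 (2, 0x20200200),
 (1, 0x451144515400105),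
 (2, 0x2002000322332320),
 (4, 0xe0e03060000080e),
 (8, 0xa8000f003c0098),
 (16, 0xa180000021a4),
 (32, 0x467b81d8)]

theorem esch0 : (ops2 12).schreier 3 w3 eB eF [] (0xe6382a43652d5fa2f38daa8ada6b79eadcf8) eN0 [] 0 60 = true := by decide +kernel

noncomputable def eN1 : List (ℕ × ℕ) :=
 [(32, 0xa0aeac4a),
 (16, 0x4a740000c50c),
 (8, 0xc80086009c0078),
 (4, 0xc08020004060604),
 (2, 0x2002002000002),
 (1, 0x4001141004150541),
 (2, 0x220201313300131),
 (4, 0xe0f0206080d0108),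
 (8, 0xb00b300960078),
 (16, 0xc2d9000098f1),
 (32, 0xab66b755)]

theorem esch1 : (ops2 12).schreier 3 w3 eB eF [] (0x33fd7180484222b645ff3c441240a3ae315c) eN1 [] 0 60 = true := by decide +kernel

noncomputable def k0 : ℕ :=
 0xedc447fe976c641b827271d6a56b310580ac

theorem f_top : (ops2 12).slp [] aS0 [.mul 0 2, .mul 4 2, .mul 2 1, .mul 1 3, .mul 1 1, .mul 1 6, .mul 1 9, .mul 10 8,
 .mul 7 9, .mul 12 0, .mul 13 0, .mul 5 8, .mul 0 11, .mul 14 16, .mul 11 7, .mul 14 15,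
 .mul 14 18, .mul 19 17, .mul 20 11, .mul 21 19, .mul 14 23, .mul 5 24, .mul 19 23, .mul 24 26,
 .mul 25 24, .mul 24 22, .mul 29 23, .mul 28 23, .mul 27 11, .mul 30 31, .mul 32 22, .mul 11 32,
 .mul 11 33, .mul 32 36, .mul 32 36, .mul 28 28, .mul 31 34, .mul 40 11, .mul 34 38, .mul 11 34,
 .mul 42 40, .mul 42 44, .mul 28 42, .mul 46 42, .mul 36 42, .mul 36 44, .mul 34 11, .mul 11 50,
 .mul 48 11, .mul 44 44, .mul 52 46, .mul 48 54, .mul 44 36, .mul 46 48, .mul 57 56, .mul 58 36,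
 .mul 59 56, .mul 60 50, .mul 46 50, .mul 56 61, .mul 54 62, .mul 63 64, .mul 39 35, .mul 43 66,
 .mul 45 67, .mul 47 68, .mul 51 69, .mul 55 70, .inv 71 (0x4e21d641c6b95c19558b159170ce63056570), .mul 72 65, .mul 61 58, .mul 41 37,
 .mul 43 75, .mul 47 76, .mul 49 77, .mul 51 78, .inv 79 (0x3871430d38a72090ce3850834128483c328), .mul 80 74, .mul 81 81, .mul 73 73,
 .mul 82 73, .mul 81 81, .mul 82 84, .mul 82 83, .mul 73 82, .mul 87 86, .mul 87 81, .mul 88 89,
 .mul 85 90, .mul 85 88, .mul 85 93, .mul 94 91, .mul 95 92, .mul 96 73, .mul 91 96, .mul 95 97,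
 .mul 95 98, .mul 99 91, .mul 98 101, .mul 99 85, .mul 87 103, .mul 100 85, .mul 105 98, .mul 105 87,
 .mul 107 102, .mul 105 102, .mul 85 104, .mul 108 110, .mul 106 85, .mul 102 109, .mul 109 106, .mul 114 112,
 .mul 114 111, .mul 109 111, .mul 109 112, .mul 118 102, .mul 118 111, .mul 109 102, .mul 118 120, .mul 102 108,
 .mul 122 116, .mul 108 108, .mul 116 124, .mul 126 126, .mul 118 109, .mul 108 126, .mul 108 128, .mul 116 116,
 .mul 117 113, .mul 119 132, .mul 121 133, .mul 123 134, .mul 125 135, .inv 136 (0x630a30200d08b84854c28c1800823c12a535), .mul 137 131, .mul 108 118,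
 .mul 108 130, .mul 108 139, .mul 141 140, .mul 121 117, .mul 125 143, .mul 127 144, .inv 145 (0x888788200e00a086c822a216008038220213), .mul 146 142,
 .mul 138 147, .mul 147 147, .mul 147 149, .mul 138 147, .mul 151 147, .mul 148 147, .mul 152 150, .mul 153 148,
 .mul 150 153, .mul 155 138, .mul 156 138, .mul 150 156, .mul 157 155, .mul 160 159, .mul 161 160, .mul 150 161,
 .mul 150 158, .mul 163 162, .mul 164 165, .mul 165 166, .mul 157 154, .mul 150 168, .mul 154 167, .mul 150 165,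
 .mul 171 154, .mul 170 150, .mul 172 169, .mul 174 173, .mul 121 175, .mul 37 176, .mul 39 177, .mul 45 178,
 .mul 53 179, .mul 55 180, .mul 121 117, .mul 123 182, .mul 39 183, .mul 41 184, .mul 43 185, .mul 47 186,
 .mul 49 187, .mul 51 188, .mul 53 189, .mul 115 175, .mul 117 191, .mul 121 192, .mul 123 193, .mul 125 194,
 .mul 129 195, .mul 35 196, .mul 37 197, .mul 41 198, .mul 43 199, .mul 45 200, .mul 47 201, .mul 119 117,
 .mul 125 203, .mul 35 204, .mul 39 205, .mul 47 206, .mul 49 207, .mul 53 208] (fS ++ eS) [181,190,202,209] [] [] = true := by decide +kernel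

theorem v_in : (ops2 12).slp [] fS [.mul 1 1, .mul 1 0, .mul 2 3, .mul 0 0, .mul 3 5, .mul 1 0, .mul 7 0, .mul 4 3,
 .mul 6 3, .mul 10 8, .mul 0 10, .mul 0 12, .mul 9 13, .mul 14 13, .mul 6 11, .mul 6 15,
 .mul 15 14, .mul 16 14, .mul 19 0, .mul 19 16, .mul 21 18, .mul 22 21, .mul 23 17, .mul 16 17,
 .mul 25 16, .mul 26 20, .mul 27 24] vS [24,28] [] [] = true := by decide +kernel

noncomputable def fL : List (ℕ × List ℕ) :=
 [(0xedc447fe976c641b827271d6a56b310580ac, [0xedc447fe976c641b827271d6a56b310580ac,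
 0x55982f5b706bd33ab364cbcfde1aeacc7cd9]),
 (0x9a907ca5660b940662a4ff3d5bf2d30258bb, [0x55982f5b706bd33ab364cbcfde1aeacc7cd9,
 0x38586885e607bf217114ba097bf1dfc9dc74])]

theorem f_norm : (ops2 12).normOk vS fL = true := by decide +kernel

theorem fL_in : (ops2 12).slp [] vS [.mul 0 1, .mul 0 1, .mul 3 0, .mul 1 3, .mul 0 4, .mul 4 2, .mul 1 5, .mul 6 8,
 .mul 7 1, .mul 5 9, .mul 11 10, .mul 1 11, .mul 2 11, .mul 14 9, .mul 14 11, .mul 16 11,
 .mul 13 11, .mul 13 6, .mul 19 18, .mul 17 13, .mul 13 20, .mul 22 18, .mul 20 15, .mul 12 23,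
 .mul 23 21, .mul 21 26, .mul 24 15, .mul 27 21, .mul 28 24, .mul 30 24, .mul 25 29, .mul 32 31] (fL.flatMap Prod.snd) [33,31,31,32] [] [] = true := by decide +kernel

theorem v_pow : Nat.beq ((ops2 12).powM 3 w3 (zipL vF vB) 4 [2]) (low 4) = true := by decide +kernel

theorem f_pow : Nat.beq ((ops2 12).powM 3 w3 (zipL fF fB) 12 [2, 3]) (low 12) = true := by decide +kernel

theorem e_pow : Nat.beq ((ops2 12).powM 3 w3 (zipL eF eB) 60 [2, 3, 5]) (low 60) = true := by decide +kernel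

theorem fe_comm : (ops2 12).commAll2 fS eS = true := by decide +kernel

theorem k_comm : (ops2 12).commAll k0 (vS ++ eS) = true := by decide +kernel

theorem k_pow : Nat.beq ((ops2 12).powK k0 2 2) (one2 12) = true := by decide +kernel

theorem k_ne : (ops2 12).neOff 3 w3 w3 [(1, k0)] [] 0 0 1 = true := by decide +kernel

theorem k_cnt : (ops2 12).commCnt 3 w3 kB kF uB uF [k0] 6048 13 100 = 240 := by decide +kernel

variable {G : Type*} [Group G] {ρ : Act2 G 12}

theorem pinB (h : ρ.model.AllIn ⊤ pS) : ρ.model.AllIn (ρ.model.gen pS) pB :=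
  Model.slp_mem h.gen pslp

theorem pflat (hF : ρ.model.Faith 3 w3) (h : ρ.model.AllIn ⊤ pS) :
    Model.Flat (ρ.model.gen pS) (ρ.model.tr pB pF) 25 := by
  refine flat_of_cert (pinB h) ppl ?_ pkeys
  refine List.forall_mem_cons.2 ⟨?_, List.forall_mem_cons.2 ⟨?_, List.forall_mem_nil _⟩⟩
  · exact Model.Schr.step hF (pinB h) (Model.allIn_nil _) (h _ (List.Mem.head _)).1 ppl (Model.schr_zero _ _ _ _ _) psch0
  · exact Model.Schr.step hF (pinB h) (Model.allIn_nil _) (h _ (List.Mem.tail _ (List.Mem.head _))).1 ppl (Model.schr_zero _ _ _ _ _) psch1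

theorem rinB (h : ρ.model.AllIn ⊤ rS) : ρ.model.AllIn (ρ.model.gen rS) rB :=
  Model.slp_mem h.gen rslp

theorem rflat (hF : ρ.model.Faith 3 w3) (h : ρ.model.AllIn ⊤ rS) :
    Model.Flat (ρ.model.gen rS) (ρ.model.tr rB rF) 27 := by
  refine flat_of_cert (rinB h) rpl ?_ rkeys
  refine List.forall_mem_cons.2 ⟨?_, List.forall_mem_cons.2 ⟨?_, List.forall_mem_nil _⟩⟩
  · exact Model.Schr.step hF (rinB h) (Model.allIn_nil _) (h _ (List.Mem.head _)).1 rpl (Model.schr_zero _ _ _ _ _) rsch0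
  · exact Model.Schr.step hF (rinB h) (Model.allIn_nil _) (h _ (List.Mem.tail _ (List.Mem.head _))).1 rpl (Model.schr_zero _ _ _ _ _) rsch1

theorem vinB (h : ρ.model.AllIn ⊤ vS) : ρ.model.AllIn (ρ.model.gen vS) vB :=
  Model.slp_mem h.gen vslp

theorem vflat (hF : ρ.model.Faith 3 w3) (h : ρ.model.AllIn ⊤ vS) :
    Model.Flat (ρ.model.gen vS) (ρ.model.tr vB vF) 4 := by
  refine flat_of_cert (vinB h) vpl ?_ vkeys
  refine List.forall_mem_cons.2 ⟨?_, List.forall_mem_cons.2 ⟨?_, List.forall_mem_nil _⟩⟩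
  · exact Model.Schr.step hF (vinB h) (Model.allIn_nil _) (h _ (List.Mem.head _)).1 vpl (Model.schr_zero _ _ _ _ _) vsch0
  · exact Model.Schr.step hF (vinB h) (Model.allIn_nil _) (h _ (List.Mem.tail _ (List.Mem.head _))).1 vpl (Model.schr_zero _ _ _ _ _) vsch1

theorem finB (h : ρ.model.AllIn ⊤ fS) : ρ.model.AllIn (ρ.model.gen fS) fB :=
  Model.slp_mem h.gen fslp

theorem fflat (hF : ρ.model.Faith 3 w3) (h : ρ.model.AllIn ⊤ fS) :
    Model.Flat (ρ.model.gen fS) (ρ.model.tr fB fF) 12 := by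
  refine flat_of_cert (finB h) fpl ?_ fkeys
  refine List.forall_mem_cons.2 ⟨?_, List.forall_mem_cons.2 ⟨?_, List.forall_mem_nil _⟩⟩
  · exact Model.Schr.step hF (finB h) (Model.allIn_nil _) (h _ (List.Mem.head _)).1 fpl (Model.schr_zero _ _ _ _ _) fsch0
  · exact Model.Schr.step hF (finB h) (Model.allIn_nil _) (h _ (List.Mem.tail _ (List.Mem.head _))).1 fpl (Model.schr_zero _ _ _ _ _) fsch1

theorem einB (h : ρ.model.AllIn ⊤ eS) : ρ.model.AllIn (ρ.model.gen eS) eB :=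
  Model.slp_mem h.gen eslp

theorem eflat (hF : ρ.model.Faith 3 w3) (h : ρ.model.AllIn ⊤ eS) :
    Model.Flat (ρ.model.gen eS) (ρ.model.tr eB eF) 60 := by
  refine flat_of_cert (einB h) epl ?_ ekeys
  refine List.forall_mem_cons.2 ⟨?_, List.forall_mem_cons.2 ⟨?_, List.forall_mem_nil _⟩⟩
  · exact Model.Schr.step hF (einB h) (Model.allIn_nil _) (h _ (List.Mem.head _)).1 epl (Model.schr_zero _ _ _ _ _) esch0
  · exact Model.Schr.step hF (einB h) (Model.allIn_nil _) (h _ (List.Mem.tail _ (List.Mem.head _))).1 epl (Model.schr_zero _ _ _ _ _) esch1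


end CL.J2L
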