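/-
The point stabiliser U3(3) of J2 on 100 points.
Generated by tools/pg.
-/
import Cfsg.Agent.Spor.PGCtx
import Cfsg.Agent.Spor.PGSub
import Cfsg.Agent.Spor.PGTop
import Cfsg.Agent.Spor.StdJ2
import Cfsg.Agent.Spor.StdU33

set_option autoImplicit false
set_option maxRecDepth 200000
set_option Elab.async false
set_option linter.unusedVariables false

namespace CL.J2U33.Aux.T
open CL.PG

def P : Par := ⟨36, 40, 6, 3⟩
theorem hP : P.Ok := by decide
noncomputable def a0 : Net := (.cons 20 (nat_lit 0x3218c)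
 (.cons 10 (nat_lit 0x17200084)
 (.cons 5 (nat_lit 0x701606411)
 (.cons 1 (nat_lit 0x2401000)
 (.cons 1 (nat_lit 0x4014a02900)
 (.cons 1 (nat_lit 0x28085014a1)
 (.cons 1 (nat_lit 0x5094a40842)
 (.cons 1 (nat_lit 0x1401210a0)
 (.cons 5 (nat_lit 0x401400002)
 (.cons 10 (nat_lit 0x13400280)
 (.cons 20 (nat_lit 0x3220a)
 .nil)))))))))))
noncomputable def a1 : Net := (.cons 20 (nat_lit 0xa1130)
 (.cons 10 (nat_lit 0x10d00019)
 (.cons 5 (nat_lit 0x6c1a0381a)
 (.cons 1 (nat_lit 0xa000021)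
 (.cons 1 (nat_lit 0x14000842)
 (.cons 1 (nat_lit 0x200a0090a5)
 (.cons 1 (nat_lit 0x501421294a)
 (.cons 1 (nat_lit 0x808020480)
 (.cons 5 (nat_lit 0x180e01800)
 (.cons 10 (nat_lit 0x38c00120)
 (.cons 20 (nat_lit 0xaea0a)
 .nil)))))))))))
noncomputable def a2 : Net := (.cons 20 (nat_lit 0xf6968)
 (.cons 10 (nat_lit 0x33e00238)
 (.cons 5 (nat_lit 0x501a04016)
 (.cons 1 (nat_lit 0x8000000)
 (.cons 1 (nat_lit 0x94002100)
 (.cons 1 (nat_lit 0x294a0014a0)
 (.cons 1 (nat_lit 0x5084a00842)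
 (.cons 1 (nat_lit 0x28480004a0)
 (.cons 5 (nat_lit 0x70020401c)
 (.cons 10 (nat_lit 0x1d400238)
 (.cons 20 (nat_lit 0xfa650)
 .nil)))))))))))
noncomputable def a3 : Net := (.cons 20 (nat_lit 0x1e7d4)
 (.cons 10 (nat_lit 0xe0001fc)
 (.cons 5 (nat_lit 0x5c1202c1c)
 (.cons 1 (nat_lit 0x120000)
 (.cons 1 (nat_lit 0x5000252100)
 (.cons 1 (nat_lit 0x29085290a4)
 (.cons 1 (nat_lit 0x5084a10842)
 (.cons 1 (nat_lit 0x80a5204a4)
 (.cons 5 (nat_lit 0x401002010)
 (.cons 10 (nat_lit 0xa20036a)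
 (.cons 20 (nat_lit 0x1a480)
 .nil)))))))))))
noncomputable def a4 : Net := (.cons 20 (nat_lit 0xf6968)
 (.cons 10 (nat_lit 0x33e00238)
 (.cons 5 (nat_lit 0x501a04016)
 (.cons 1 (nat_lit 0x8000000)
 (.cons 1 (nat_lit 0x94002100)
 (.cons 1 (nat_lit 0x294a0014a0)
 (.cons 1 (nat_lit 0x5084a00842)
 (.cons 1 (nat_lit 0x28480004a0)
 (.cons 5 (nat_lit 0x70020401c)
 (.cons 10 (nat_lit 0x1d400238)
 (.cons 20 (nat_lit 0xfa650)
 .nil)))))))))))
noncomputable def a5 : Net := (.cons 20 (nat_lit 0xba5da)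
 (.cons 10 (nat_lit 0x22d002b4)
 (.cons 5 (nat_lit 0xc0e05c16)
 (.cons 1 (nat_lit 0x100420)
 (.cons 1 (nat_lit 0x204200840)
 (.cons 1 (nat_lit 0x10a4210a0)
 (.cons 1 (nat_lit 0x1084812940)
 (.cons 1 (nat_lit 0x80a021400)
 (.cons 5 (nat_lit 0x5816)
 (.cons 10 (nat_lit 0x8002b4)
 (.cons 20 (nat_lit 0xb40ea)
 .nil)))))))))))
noncomputable def a6 : Net := (.cons 20 (nat_lit 0xe648)
 (.cons 10 (nat_lit 0x400020)
 (.cons 5 (nat_lit 0x400a00418)
 (.cons 1 (nat_lit 0x800000000)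
 (.cons 1 (nat_lit 0x5004002800)
 (.cons 1 (nat_lit 0x204a001000)
 (.cons 1 (nat_lit 0x5084002948)
 (.cons 1 (nat_lit 0x840121000)
 (.cons 5 (nat_lit 0x400a00000)
 (.cons 10 (nat_lit 0x400020)
 (.cons 20 (nat_lit 0xe648)
 .nil)))))))))))
noncomputable def a7 : Net := (.cons 20 (nat_lit 0xc988)
 (.cons 10 (nat_lit 0x12c003f2)
 (.cons 5 (nat_lit 0x200202012)
 (.cons 1 (nat_lit 0x400)
 (.cons 1 (nat_lit 0x2800)
 (.cons 1 (nat_lit 0x100109080)
 (.cons 1 (nat_lit 0x200a52900)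
 (.cons 1 (nat_lit 0x1021094a0)
 (.cons 5 (nat_lit 0x202012)
 (.cons 10 (nat_lit 0x12c003b2)
 (.cons 20 (nat_lit 0xc988)
 .nil)))))))))))
noncomputable def a8 : Net := (.cons 20 (nat_lit 0x12350)
 (.cons 10 (nat_lit 0x2720000c)
 (.cons 5 (nat_lit 0x340b06408)
 (.cons 1 (nat_lit 0x280000000)
 (.cons 1 (nat_lit 0x100001004)
 (.cons 1 (nat_lit 0x5280040808)
 (.cons 1 (nat_lit 0x2501004)
 (.cons 5 (nat_lit 0x300806000)
 (.cons 10 (nat_lit 0x2720000c)
 (.cons 20 (nat_lit 0x12350)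
 .nil))))))))))
noncomputable def ns0 : List Net := [a0, a1]
noncomputable def ws : List (List ℕ) :=
  [W (nat_lit 0x100c0200804),
  W (nat_lit 0x8020100200c02),
  W (nat_lit 0x200502006),
  W (nat_lit 0x8020060200801808),
  W (nat_lit 0x300a),
  W (nat_lit 0x2c0b),
  W (nat_lit 0xe0400e)]
noncomputable def ns : List Net := [a0, a1, a2, a3, a4, a5, a6, a7, a8]
noncomputable def D : List (ℕ × List ℕ) := app [] (mkDefs ws 2)
noncomputable def chk : List (List ℕ × List ℕ) → Bool := P.relsB ns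
noncomputable def G_v0 : Lev :=
  ⟨0, 36, sg (W (nat_lit 0x100c0100c0100c0100c01)), [[4], [6]], 0, 2⟩
noncomputable def G_v1 : Lev :=
  ⟨2, 7, sg (W (nat_lit 0x50140701407)), [[8], [10]], 2, 2⟩
noncomputable def G_v2 : Lev :=
  ⟨1, 3, sg (W (nat_lit 0x2409)), [[12], [14]], 4, 2⟩
noncomputable def G_v3 : Lev :=
  ⟨7, 2, sg [12], [[15], [16]], 6, 1⟩
noncomputable def G_v4 : Lev :=
  ⟨5, 2, sg [15], [[16]], 7, 0⟩
noncomputable def G_v5 : Lev :=
  ⟨3, 2, sg [16], [], 7, 0⟩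
noncomputable def G_vs6 : List Lev :=
  []
noncomputable def G_vs5 : List Lev :=
  G_v5 :: G_vs6
noncomputable def G_vs4 : List Lev :=
  G_v4 :: G_vs5
noncomputable def G_vs3 : List Lev :=
  G_v3 :: G_vs4
noncomputable def G_vs2 : List Lev :=
  G_v2 :: G_vs3
noncomputable def G_vs1 : List Lev :=
  G_v1 :: G_vs2
noncomputable def G_vs : List Lev :=
  G_v0 :: G_vs1

theorem zc0 : P.chainB ns D G_vs [[0], [2]] = true := by decide +kernel
theorem zk1 : allL (keepB P.n P.N) ns0 = true := by decide +kernel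
theorem ze2 : extB ns0 ns 2 ws [] = true := by decide +kernel
theorem zn3 : P.netsB ns (mkDefs ws 2) = true := by decide +kernel

section
variable {G X : Type*} [Group G] [MulAction G X] {e : ℕ → X} {gs : List G}

theorem keep0 : allL (keepB P.n P.N) ns0 = true := zk1

theorem len {k} (c : Ctx P e gs ns0 [] k) : gs.length = 2 := c.len ze2

theorem ctx0 {k} (c : Ctx P e gs ns0 [] k) : Ctx P e (ext gs ws) ns D chk0 :=
  c.ext rfl ze2 zn3

theorem ctx {k} (c : Ctx P e gs ns0 [] k) {H : Subgroup G} (hF : Faithful e P.n H) (hH : ∀ g ∈ gs, g ∈ H) :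
    Ctx P e (ext gs ws) ns D chk :=
  (ctx0 c).withB hF (mem_of_mem_ext hH _)

instance instNe : NeZero P.n := ⟨by decide⟩
noncomputable def gs0 : List (Equiv.Perm (Fin P.n)) := permsOf P.n P.N ns0
noncomputable def gs1 : List (Equiv.Perm (Fin P.n)) := ext gs0 ws
theorem c1 : Ctx P (eF P.n) gs1 ns D chk :=
  ctx (ctx_permsOf hP keep0) (faithful_eF _) fun _ _ => trivial

theorem G_c : P.chainB ns D G_vs [[0], [2]] = true :=
  zc0

theorem G_o : prodL G_vs 1 = 6048 := by decide +kernel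

theorem G_lb (c : Ctx P e gs ns D chk) :
    LB (subW gs [[0], [2]]) 6048 :=
  c.lb G_c G_o

end
end CL.J2U33.Aux.T

namespace CL.J2U33.Aux.S
open CL.PG

def P : Par := ⟨64, 64, 6, 3⟩
theorem hP : P.Ok := by decide
noncomputable def a0 : Net := (.cons 32 (nat_lit 0x6210aad4)
 (.cons 16 (nat_lit 0xf3120000165c)
 (.cons 8 (nat_lit 0x8e00a3000100e1)
 (.cons 4 (nat_lit 0x90a080100040201)
 (.cons 2 (nat_lit 0x103201110020210)
 (.cons 1 (nat_lit 0x5014505415041411)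
 (.cons 2 (nat_lit 0x2220)
 (.cons 4 (nat_lit 0xa04060008040800)
 (.cons 8 (nat_lit 0xc40008007c001c)
 (.cons 16 (nat_lit 0xcdf20000a25a)
 (.cons 32 (nat_lit 0xb9321038)
 .nil)))))))))))
noncomputable def a1 : Net := (.cons 32 (nat_lit 0x29214103)
 (.cons 16 (nat_lit 0x3c8b0000a262)
 (.cons 8 (nat_lit 0x7a008900510083)
 (.cons 4 (nat_lit 0xc0403040b080d08)
 (.cons 2 (nat_lit 0x1210313323103121)
 (.cons 1 (nat_lit 0x4510154505404054)
 (.cons 2 (nat_lit 0x200000200000)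
 (.cons 4 (nat_lit 0x80406020408000e)
 (.cons 8 (nat_lit 0x600d400c60038)
 (.cons 16 (nat_lit 0xb1120000ed44)
 (.cons 32 (nat_lit 0x51052088)
 .nil)))))))))))
noncomputable def a2 : Net := (.cons 32 (nat_lit 0x9a9303d4)
 (.cons 16 (nat_lit 0x1d81000039a0)
 (.cons 8 (nat_lit 0xdd0043000500ae)
 (.cons 4 (nat_lit 0xa0b0b090607050e)
 (.cons 2 (nat_lit 0x323330221331130)
 (.cons 1 (nat_lit 0x1050415554411114)
 (.cons 2 (nat_lit 0x20002022022)
 (.cons 4 (nat_lit 0xc04040408040000)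
 (.cons 8 (nat_lit 0x5000d000740024)
 (.cons 16 (nat_lit 0x8bd40000cf7e)
 (.cons 32 (nat_lit 0x20f66654)
 .nil)))))))))))
noncomputable def a3 : Net := (.cons 32 (nat_lit 0x8102214)
 (.cons 16 (nat_lit 0x43b50000c572)
 (.cons 8 (nat_lit 0x83004f0030004c)
 (.cons 4 (nat_lit 0xe0409010f000d04)
 (.cons 2 (nat_lit 0x2303131213323010)
 (.cons 1 (nat_lit 0x4115411441041014)
 (.cons 2 (nat_lit 0x22022022)
 (.cons 4 (nat_lit 0x40e06040c080002)
 (.cons 8 (nat_lit 0x50004c00240010)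
 (.cons 16 (nat_lit 0xb76600008200)
 (.cons 32 (nat_lit 0x4204204c)
 .nil)))))))))))
noncomputable def a4 : Net := (.cons 32 (nat_lit 0xea5f39e8)
 (.cons 16 (nat_lit 0x567700005462)
 (.cons 8 (nat_lit 0xb200f8001400a4)
 (.cons 4 (nat_lit 0xf070704020a0100)
 (.cons 2 (nat_lit 0x3301032212312232)
 (.cons 1 (nat_lit 0x4040004444411114)
 (.cons 2 (nat_lit 0x20000220000222)
 (.cons 4 (nat_lit 0xe040802060004)
 (.cons 8 (nat_lit 0x2000c20046006c)
 (.cons 16 (nat_lit 0xc12000006380)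
 (.cons 32 (nat_lit 0xe9d772e0)
 .nil)))))))))))
noncomputable def a5 : Net := (.cons 32 (nat_lit 0xd5ff6db8)
 (.cons 16 (nat_lit 0x80b60000f1d8)
 (.cons 8 (nat_lit 0xba008b00370062)
 (.cons 4 (nat_lit 0x50d08010b0c040a)
 (.cons 2 (nat_lit 0x120233002232112)
 (.cons 1 (nat_lit 0x4105104454401040)
 (.cons 2 (nat_lit 0x202202200000)
 (.cons 4 (nat_lit 0x60c060802060808)
 (.cons 8 (nat_lit 0xe800d00098006a)
 (.cons 16 (nat_lit 0xb0a2000004b8)
 (.cons 32 (nat_lit 0x277edff0)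
 .nil)))))))))))
noncomputable def a6 : Net := (.cons 32 (nat_lit 0x66581a0)
 (.cons 16 (nat_lit 0xe1f500004a10)
 (.cons 8 (nat_lit 0x74001000290048)
 (.cons 4 (nat_lit 0xa0e080003050004)
 (.cons 2 (nat_lit 0x1200033012230020)
 (.cons 1 (nat_lit 0x154405004000504)
 (.cons 2 (nat_lit 0x200000002000000)
 (.cons 4 (nat_lit 0x802080002040004)
 (.cons 8 (nat_lit 0x74001000780048)
 (.cons 16 (nat_lit 0xc1f000004a10)
 (.cons 32 (nat_lit 0x66581a0)
 .nil)))))))))))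
noncomputable def a7 : Net := (.cons 32 (nat_lit 0x41338948)
 (.cons 16 (nat_lit 0xb55d00005908)
 (.cons 8 (nat_lit 0x3e006300d100d8)
 (.cons 4 (nat_lit 0xd040b080a070c)
 (.cons 2 (nat_lit 0x2323010220001120)
 (.cons 1 (nat_lit 0x504011410000004)
 (.cons 2 (nat_lit 0x2000220000000)
 (.cons 4 (nat_lit 0xc04020800000c)
 (.cons 8 (nat_lit 0x2e0070009000d8)
 (.cons 16 (nat_lit 0xa30c00004908)
 (.cons 32 (nat_lit 0x41338948)
 .nil)))))))))))
noncomputable def a8 : Net := (.cons 32 (nat_lit 0x15339650)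
 (.cons 16 (nat_lit 0xac9500008c40)
 (.cons 8 (nat_lit 0xe800d800ea0024)
 (.cons 4 (nat_lit 0xd06000e05020604)
 (.cons 2 (nat_lit 0x2030100231300310)
 (.cons 1 (nat_lit 0x4054005441541004)
 (.cons 2 (nat_lit 0x2000000220000000)
 (.cons 4 (nat_lit 0x406000e02020604)
 (.cons 8 (nat_lit 0xe8005800ea0024)
 (.cons 16 (nat_lit 0x8c9400008c40)
 (.cons 32 (nat_lit 0x15339650)
 .nil)))))))))))
noncomputable def a9 : Net := (.cons 32 (nat_lit 0x94820040)
 (.cons 16 (nat_lit 0xfd3000009ce0)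
 (.cons 8 (nat_lit 0x450038000800c0)
 (.cons 4 (nat_lit 0xe060a06050d0708)
 (.cons 2 (nat_lit 0x2212100302021100)
 (.cons 1 (nat_lit 0x4404011044440050)
 (.cons 2 (nat_lit 0x2202000002020000)
 (.cons 4 (nat_lit 0x60206040c0008)
 (.cons 8 (nat_lit 0x44003800080040)
 (.cons 16 (nat_lit 0xfd3000009ce0)
 (.cons 32 (nat_lit 0x94820040)
 .nil)))))))))))
noncomputable def a10 : Net := (.cons 32 (nat_lit 0x277edff0)
 (.cons 16 (nat_lit 0xb0a20000c4b8)
 (.cons 8 (nat_lit 0xe9002f0067006a)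
 (.cons 4 (nat_lit 0x9030b06060d0808)
 (.cons 2 (nat_lit 0x3002212323200132)
 (.cons 1 (nat_lit 0x4450411040451010)
 (.cons 2 (nat_lit 0x2000222020202020)
 (.cons 4 (nat_lit 0xa0204080c04040a)
 (.cons 8 (nat_lit 0xb8007400c0006a)
 (.cons 16 (nat_lit 0x80b60000f9d0)
 (.cons 32 (nat_lit 0xd5ff6db8)
 .nil)))))))))))
noncomputable def a11 : Net := (.cons 32 (nat_lit 0x41338948)
 (.cons 16 (nat_lit 0xb55d00005908)
 (.cons 8 (nat_lit 0x3e006300d100d8)
 (.cons 4 (nat_lit 0xd040b080a070c)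
 (.cons 2 (nat_lit 0x2323010220001120)
 (.cons 1 (nat_lit 0x504011410000004)
 (.cons 2 (nat_lit 0x2000220000000)
 (.cons 4 (nat_lit 0xc04020800000c)
 (.cons 8 (nat_lit 0x2e0070009000d8)
 (.cons 16 (nat_lit 0xa30c00004908)
 (.cons 32 (nat_lit 0x41338948)
 .nil)))))))))))
noncomputable def a12 : Net := (.cons 32 (nat_lit 0x7a330c0c)
 (.cons 16 (nat_lit 0xaf140000cd48)
 (.cons 8 (nat_lit 0xbc00cb00270026)
 (.cons 4 (nat_lit 0xa04090909070b0e)
 (.cons 2 (nat_lit 0x230211002111032)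
 (.cons 1 (nat_lit 0x1544101411515050)
 (.cons 2 (nat_lit 0x22002020020000)
 (.cons 4 (nat_lit 0x800080200080006)
 (.cons 8 (nat_lit 0x50001c003c0064)
 (.cons 16 (nat_lit 0x22ac00004070)
 (.cons 32 (nat_lit 0xb6690032)
 .nil)))))))))))
noncomputable def a13 : Net := (.cons 32 (nat_lit 0x80001800)
 (.cons 16 (nat_lit 0x8620000030e0)
 (.cons 8 (nat_lit 0x84007800d000d0)
 (.cons 4 (nat_lit 0xd0504020a00050c)
 (.cons 2 (nat_lit 0x233000030322020)
 (.cons 1 (nat_lit 0x4014115404540004)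
 (.cons 2 (nat_lit 0x20000)
 (.cons 4 (nat_lit 0xc0a00020a00000c)
 (.cons 8 (nat_lit 0x84007800d000d0)
 (.cons 16 (nat_lit 0x8620000030e0)
 (.cons 32 (nat_lit 0x80001800)
 .nil)))))))))))
noncomputable def ns0 : List Net := [a0, a1]
noncomputable def ws : List (List ℕ) :=
  [W (nat_lit 0x802010020100401002),
  W (nat_lit 0x8030040401002),
  W (nat_lit 0x70140701405),
  W (nat_lit 0x2009),
  W (nat_lit 0x701c0a),
  W (nat_lit 0x380c),
  W (nat_lit 0x300c),
  W (nat_lit 0x44100481004410),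
  W (nat_lit 0x60200501c070180701806),
  W (nat_lit 0x1807014050200602005),
  W (nat_lit 0x1c050200801806),
  W (nat_lit 0x80681a0201a)]
noncomputable def ns : List Net := [a0, a1, a2, a3, a4, a5, a6, a7, a8, a9, a10, a11, a12, a13]
noncomputable def D : List (ℕ × List ℕ) := app [] (mkDefs ws 2)
noncomputable def chk : List (List ℕ × List ℕ) → Bool := P.relsB ns
noncomputable def zt0 : List ℕ :=
  []
noncomputable def zcj1 : List (List ℕ) :=
  []
noncomputable def zE4 : List (ℕ × List ℕ) :=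
  [(14, W (nat_lit 0x4c11))]
noncomputable def zt5 : List ℕ :=
  []
noncomputable def zcj6 : List (List ℕ) :=
  [[18]]
noncomputable def zE10 : List (ℕ × List ℕ) :=
  [(10, W (nat_lit 0x3c0d))]
noncomputable def zt11 : List ℕ :=
  []
noncomputable def zcj12 : List (List ℕ) :=
  [[18],
  W (nat_lit 0x4c0f)]
noncomputable def zus16 : List (List ℕ) :=
  [[7],
  [6]]
noncomputable def zF17 : List (List (ℕ × List ℕ)) :=
  [[(1, W (nat_lit 0x3c0b)),
   (0, [10]),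
   (2, W (nat_lit 0x1303c0b))],
  [(1, []),
   (2, []),
   (0, [])]]
noncomputable def zus20 : List (List ℕ) :=
  [[4],
  [5],
  W (nat_lit 0x1405),
  W (nat_lit 0x1407),
  W (nat_lit 0x1409),
  W (nat_lit 0x140c)]
noncomputable def zF21 : List (List (ℕ × List ℕ)) :=
  [[(1, []),
   (3, []),
   (0, []),
   (5, W (nat_lit 0x2c08)),
   (2, [10]),
   (6, W (nat_lit 0x3c08)),
   (4, [7])],
  [(0, [6]),
   (4, []),
   (1, [7]),
   (5, W (nat_lit 0x1302c08)),
   (2, [6]),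
   (6, W (nat_lit 0x4c0b)),
   (3, [7])]]
noncomputable def zrs24 : List (ℕ × List ℕ) :=
  [(1, W (nat_lit 0x100500c06)),
  (2, [2]),
  (16, [3])]
noncomputable def G_w0_1_v0 : Lev :=
  ⟨1, 21, sg (W (nat_lit 0x501c0501c0501c05)), [[20], [22]], 8, 2⟩
noncomputable def G_w0_1_v1 : Lev :=
  ⟨3, 8, sg (W (nat_lit 0x541505c15)), [], 10, 0⟩
noncomputable def G_w0_1_vs2 : List Lev :=
  []
noncomputable def G_w0_1_vs1 : List Lev :=
  G_w0_1_v1 :: G_w0_1_vs2
noncomputable def G_w0_1_vs : List Lev :=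
  G_w0_1_v0 :: G_w0_1_vs1
noncomputable def zcj26 : List (List ℕ) :=
  [W (nat_lit 0x3c0801405),
  W (nat_lit 0x4c0801405)]
noncomputable def G_v0 : Lev :=
  ⟨0, 36, sg (W (nat_lit 0x100c0100c0100c0100c01)), [[4], [6]], 0, 2⟩
noncomputable def G_v1 : Lev :=
  ⟨2, 7, sg (W (nat_lit 0x501c0501405)), [[8], [7]], 2, 1⟩
noncomputable def G_v2 : Lev :=
  ⟨1, 3, sg (W (nat_lit 0x2009)), [[10], [12]], 3, 2⟩
noncomputable def G_v3 : Lev :=
  ⟨7, 2, sg [10], [[14], [16]], 5, 2⟩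
noncomputable def G_v4 : Lev :=
  ⟨5, 2, sg [14], [[18]], 7, 1⟩
noncomputable def G_v5 : Lev :=
  ⟨3, 2, sg [18], [], 8, 0⟩
noncomputable def G_vs6 : List Lev :=
  []
noncomputable def G_vs5 : List Lev :=
  G_v5 :: G_vs6
noncomputable def G_vs4 : List Lev :=
  G_v4 :: G_vs5
noncomputable def G_vs3 : List Lev :=
  G_v3 :: G_vs4
noncomputable def G_vs2 : List Lev :=
  G_v2 :: G_vs3
noncomputable def G_vs1 : List Lev :=
  G_v1 :: G_vs2
noncomputable def G_vs : List Lev :=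
  G_v0 :: G_vs1
noncomputable def zcj30 : List (List ℕ) :=
  [W (nat_lit 0xf02c070140c),
  W (nat_lit 0x130140c)]
noncomputable def G_w0_3_v0 : Lev :=
  ⟨16, 7, sg (W (nat_lit 0x140701405)), [[24], [7]], 10, 1⟩
noncomputable def G_w0_3_v1 : Lev :=
  ⟨1, 12, sg (W (nat_lit 0x190641902019)), [[26]], 11, 1⟩
noncomputable def G_w0_3_v2 : Lev :=
  ⟨3, 2, sg [26], [], 12, 0⟩
noncomputable def G_w0_3_vs3 : List Lev :=
  []
noncomputable def G_w0_3_vs2 : List Lev :=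
  G_w0_3_v2 :: G_w0_3_vs3
noncomputable def G_w0_3_vs1 : List Lev :=
  G_w0_3_v1 :: G_w0_3_vs2
noncomputable def G_w0_3_vs : List Lev :=
  G_w0_3_v0 :: G_w0_3_vs1
noncomputable def zcj34 : List (List ℕ) :=
  [W (nat_lit 0x1303c0b),
  W (nat_lit 0x4c08)]
noncomputable def zB37 : List BG :=
  [⟨[3], [([8], W (nat_lit 0xf02c070140c)), ([7], W (nat_lit 0x130140c))],
  [([⟨[], [], 3, []⟩], []),
   ([⟨[], W (nat_lit 0x1407), 2, W (nat_lit 0x1302c0801407)⟩,
    ⟨[4], [4], 3, []⟩,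
    ⟨[5], W (nat_lit 0x180b), 1, W (nat_lit 0x1407)⟩], W (nat_lit 0x10080100801)),
   ([⟨[], [], 0, []⟩,
    ⟨[4], W (nat_lit 0x1408), 1, W (nat_lit 0x1301405)⟩], W (nat_lit 0x100801)),
   ([⟨[], W (nat_lit 0x1409), 2, W (nat_lit 0x4c0f02c08)⟩,
    ⟨[4], W (nat_lit 0x1808), 1, W (nat_lit 0x3c06)⟩], W (nat_lit 0x100801))]⟩]
noncomputable def zE38 : List (ℕ × List ℕ) :=
  [(0, W (nat_lit 0x3c08014090100500c06))]
noncomputable def zE43 : Net :=
  .nil
noncomputable def zK44 : Lk :=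
  ⟨zE43, 1, 3, 1⟩
noncomputable def zE47 : Net :=
  (.cons 32 (nat_lit 0xfffffff0)
 (.cons 16 (nat_lit 0xf0000000f)
 (.cons 8 (nat_lit 0xf000f000f000f)
 (.cons 4 (nat_lit 0xf0f0f0f0f0f0f0f)
 .nil))))
noncomputable def zK48 : Lk :=
  ⟨zE47, 1, 3, 1⟩

theorem zb2 : bnd (pcB D [] 2 zt0 zcj1) (leB (app D []) [[18]] ([18] :: [])) = true := by decide +kernel
theorem zr3 : chk (pcR [] [18] 2 zt0 zcj1) = true := by decide +kernel
theorem zb7 : bnd (pcB D [[18]] 2 zt5 zcj6) (leB (app D zE4) [[14], [16]] ([16] :: [[18]])) = true := by decide +kernel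
theorem zr8 : chk (pcR [[18]] [16] 2 zt5 zcj6) = true := by decide +kernel
theorem zr9 : chk (defRels zE4) = true := by decide +kernel
theorem zb13 : bnd (pcB D [[14], [16]] 2 zt11 zcj12) (leB (app D zE10) [[10], [12]] ([12] :: [[14], [16]])) = true := by decide +kernel
theorem zr14 : chk (pcR [[14], [16]] [12] 2 zt11 zcj12) = true := by decide +kernel
theorem zr15 : chk (defRels zE10) = true := by decide +kernel
theorem zb18 : schB D [[8], [7]] [[10], [12]] zus16 zF17 3 = true := by decide +kernel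
theorem zr19 : chk (schR [[8], [7]] zus16 zF17) = true := by decide +kernel
theorem zb22 : schB D [[4], [6]] [[8], [7]] zus20 zF21 7 = true := by decide +kernel
theorem zr23 : chk (schR [[4], [6]] zus20 zF21) = true := by decide +kernel
theorem zc25 : P.chainB ns D G_w0_1_vs [[4], [6]] = true := by decide +kernel
theorem zb27 : wdB D [[4], [6]] G_w0_1_v0.nx zcj26 = true := by decide +kernel
theorem zr28 : chk (wdR G_w0_1_v0.nx (W (nat_lit 0x100500c06)) zcj26) = true := by decide +kernel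
theorem zc29 : P.chainB ns D G_vs [[0], [2]] = true := by decide +kernel
theorem zb31 : wdB D [[4], [6]] G_v1.nx zcj30 = true := by decide +kernel
theorem zr32 : chk (wdR G_v1.nx [2] zcj30) = true := by decide +kernel
theorem zc33 : P.chainB ns D G_w0_3_vs [[4], [6]] = true := by decide +kernel
theorem zb35 : wdB D [[4], [6]] G_w0_3_v0.nx zcj34 = true := by decide +kernel
theorem zr36 : chk (wdR G_w0_3_v0.nx [3] zcj34) = true := by decide +kernel
theorem zb39 : bB P.n P.N ns (app D zE38) [[0], [2]] [[4], [6]] 0 zrs24 zB37 = true := by decide +kernel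
theorem zb40 : P.invSz ns [[0], [2]] 0 (orbM P.N ns G_v0) 36 = true := by decide +kernel
theorem zr41 : chk (bR 0 zrs24 zB37) = true := by decide +kernel
theorem zr42 : chk (defRels zE38) = true := by decide +kernel
theorem zl45 : zK44.relB CL.J2U33.Aux.S.P CL.J2U33.Aux.T.P CL.J2U33.Aux.S.ns [[0], [2]] [[0], [2]] = true := by decide +kernel
theorem zl46 : allL (zK44.pl CL.J2U33.Aux.S.P CL.J2U33.Aux.T.P CL.J2U33.Aux.S.ns CL.J2U33.Aux.T.ns 0) (zp [] [[0], [2]] [[0], [2]]) = true := by decide +kernel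
theorem zl49 : zK48.relB CL.J2U33.Aux.S.P CL.Std.U33.P CL.J2U33.Aux.S.ns [[0], [2]] [[0], [2]] = true := by decide +kernel
theorem zl50 : allL (zK48.pl CL.J2U33.Aux.S.P CL.Std.U33.P CL.J2U33.Aux.S.ns CL.Std.U33.ns 0) (zp [] [[0], [2]] [[0], [2]]) = true := by decide +kernel
theorem zk51 : allL (keepB P.n P.N) ns0 = true := by decide +kernel
theorem ze52 : extB ns0 ns 2 ws [] = true := by decide +kernel
theorem zn53 : P.netsB ns (mkDefs ws 2) = true := by decide +kernel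

section
variable {G X : Type*} [Group G] [MulAction G X] {e : ℕ → X} {gs : List G}

theorem keep0 : allL (keepB P.n P.N) ns0 = true := zk51

theorem len {k} (c : Ctx P e gs ns0 [] k) : gs.length = 2 := c.len ze52

theorem ctx0 {k} (c : Ctx P e gs ns0 [] k) : Ctx P e (ext gs ws) ns D chk0 :=
  c.ext rfl ze52 zn53

theorem ctx {k} (c : Ctx P e gs ns0 [] k) {H : Subgroup G} (hF : Faithful e P.n H) (hH : ∀ g ∈ gs, g ∈ H) :
    Ctx P e (ext gs ws) ns D chk :=
  (ctx0 c).withB hF (mem_of_mem_ext hH _)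

instance instNe : NeZero P.n := ⟨by decide⟩
noncomputable def gs0 : List (Equiv.Perm (Fin P.n)) := permsOf P.n P.N ns0
noncomputable def gs1 : List (Equiv.Perm (Fin P.n)) := ext gs0 ws
theorem c1 : Ctx P (eF P.n) gs1 ns D chk :=
  ctx (ctx_permsOf hP keep0) (faithful_eF _) fun _ _ => trivial

theorem G_u5 (c : Ctx P e gs ns D chk) :
    UB (subW gs [[18]]) 2 :=
  (c.pc_step (UB.nil gs) (Rels.nil _)
    (c.rels _ zr3) zb2).le (by decide)

theorem G_u4 (c : Ctx P e gs ns D chk) :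
    UB (subW gs [[14], [16]]) 4 :=
  (c.pc_step (G_u5 c) (c.rels _ zr9)
    (c.rels _ zr8) zb7).le (by decide)

theorem G_u3 (c : Ctx P e gs ns D chk) :
    UB (subW gs [[10], [12]]) 8 :=
  (c.pc_step (G_u4 c) (c.rels _ zr15)
    (c.rels _ zr14) zb13).le (by decide)

theorem G_u2 (c : Ctx P e gs ns D chk) :
    UB (subW gs [[8], [7]]) 24 :=
  (c.sch_step (G_u3 c)
    (c.rels _ zr19) zb18).le (by decide)

theorem G_u1 (c : Ctx P e gs ns D chk) :
    UB (subW gs [[4], [6]]) 168 :=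
  (c.sch_step (G_u2 c)
    (c.rels _ zr23) zb22).le (by decide)

theorem G_w0_1_c : P.chainB ns D G_w0_1_vs [[4], [6]] = true :=
  zc25

theorem G_w0_1_o : prodL G_w0_1_vs 1 = 168 := by decide +kernel

theorem G_c : P.chainB ns D G_vs [[0], [2]] = true :=
  zc29

theorem G_o : prodL G_vs 1 = 6048 := by decide +kernel

theorem G_w0_3_c : P.chainB ns D G_w0_3_vs [[4], [6]] = true :=
  zc33

theorem G_w0_3_o : prodL G_w0_3_vs 1 = 168 := by decide +kernel

theorem G_u0w (c : Ctx P e gs ns D chk) :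
    AllWd e gs [[4], [6]] zrs24 :=
  ⟨c.wd (v := G_w0_1_v0) (vs := G_w0_1_vs1) (G_u1 c) G_w0_1_c G_w0_1_o
      (c.rels _ zr28) zb27,
    ⟨c.wd (v := G_v1) (vs := G_vs2) (G_u1 c) (Par.chainB_tail G_c) (by decide +kernel)
      (c.rels _ zr32) zb31,
    ⟨c.wd (v := G_w0_3_v0) (vs := G_w0_3_vs1) (G_u1 c) G_w0_3_c G_w0_3_o
      (c.rels _ zr36) zb35,
    trivial⟩⟩⟩

theorem G_u0 (c : Ctx P e gs ns D chk) :
    UB (subW gs [[0], [2]]) 6048 :=
  (c.b_step (G_u1 c) (G_u0w c) (c.rels _ zr42)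
    (c.rels _ zr41) zb39 zb40).le (by decide)

theorem G_ub (c : Ctx P e gs ns D chk) :
    UB (subW gs [[0], [2]]) 6048 :=
  (G_u0 c)

theorem toT {Γ Y : Type*} [Group Γ] [MulAction Γ Y] {e' : ℕ → Y} {cs : List Γ} {D₁ D₂ : List (ℕ × List ℕ)}
    {k₁ k₂ : List (List ℕ × List ℕ) → Bool} (c : Ctx CL.J2U33.Aux.S.P e gs CL.J2U33.Aux.S.ns D₁ k₁) (c' : Ctx CL.J2U33.Aux.T.P e' cs CL.J2U33.Aux.T.ns D₂ k₂)
    (hF : Faithful e' CL.J2U33.Aux.T.P.n (subW cs [[0], [2]])) :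
    RelLe gs [[0], [2]] cs [[0], [2]] :=
  c.relLe (K := zK44) c' hF zl45 (fun (t : ℕ) (ht : t < 1) => match t, ht with
    | 0, _ => zl46
    | t + 1, h => absurd h (by omega))

theorem toB {Γ Y : Type*} [Group Γ] [MulAction Γ Y] {e' : ℕ → Y} {cs : List Γ} {D₁ D₂ : List (ℕ × List ℕ)}
    {k₁ k₂ : List (List ℕ × List ℕ) → Bool} (c : Ctx CL.J2U33.Aux.S.P e gs CL.J2U33.Aux.S.ns D₁ k₁) (c' : Ctx CL.Std.U33.P e' cs CL.Std.U33.ns D₂ k₂)
    (hF : Faithful e' CL.Std.U33.P.n (subW cs [[0], [2]])) :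
    RelLe gs [[0], [2]] cs [[0], [2]] :=
  c.relLe (K := zK48) c' hF zl49 (fun (t : ℕ) (ht : t < 1) => match t, ht with
    | 0, _ => zl50
    | t + 1, h => absurd h (by omega))

theorem rel {Γ Y : Type*} [Group Γ] [MulAction Γ Y] {e' : ℕ → Y} {cs : List Γ} {D₂ : List (ℕ × List ℕ)}
    {k₂ : List (List ℕ × List ℕ) → Bool} (c' : Ctx CL.Std.U33.P e' cs CL.Std.U33.ns D₂ k₂) (hF : Faithful e' CL.Std.U33.P.n (subW cs [[0], [2]])) :
    RelLe CL.J2U33.Aux.T.gs1 [[0], [2]] cs [[0], [2]] :=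
  ((toT c1 CL.J2U33.Aux.T.c1 ((faithful_eF _).mono le_top)).symm_of_card (G_ub c1) (CL.J2U33.Aux.T.G_lb CL.J2U33.Aux.T.c1)).trans (toB c1 c' hF)

end
end CL.J2U33.Aux.S

namespace CL.J2U33
open CL.PG

noncomputable def xa21 : Net := (.cons 64 (nat_lit 0x849540da97fa1b0c)
 (.cons 32 (nat_lit 0xa346ab400000000807a318c)
 (.cons 16 (nat_lit 0x823d0000f0dd0000e6820000b038)
 (.cons 8 (nat_lit 0x9400ee001100ef00d8002100290070)
 (.cons 4 (nat_lit 0x608080a0808020a0500020004070400)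
 (.cons 2 (nat_lit 0x10212030001102113102320032032310)
 (.cons 1 (nat_lit 0x10004400044151051400510041014010)
 (.cons 2 (nat_lit 0x20002000000202002200020020002000)
 (.cons 4 (nat_lit 0xe080c080808060a0e080000080a0606)
 (.cons 8 (nat_lit 0x90004c004000aa0062002800100070)
 (.cons 16 (nat_lit 0x8aa80000f1460000d4a00000a418)
 (.cons 32 (nat_lit 0x8e216aee00000000d372888c)
 (.cons 64 (nat_lit 0x849540d3dcad3420)
 .nil)))))))))))))
noncomputable def xa22 : Net := (.cons 64 (nat_lit 0xb2f879a7db865862)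
 (.cons 32 (nat_lit 0xbcacba30000000000e20258)
 (.cons 16 (nat_lit 0x12400000c3490000010100005250)
 (.cons 8 (nat_lit 0x88009b00e4003400a8005300af00f6)
 (.cons 4 (nat_lit 0x900060a0c0908070c06010000040e00)
 (.cons 2 (nat_lit 0x2022130132112312023130211121202)
 (.cons 1 (nat_lit 0x155011010154441440400145114)
 (.cons 2 (nat_lit 0x22020202022020200220000)
 (.cons 4 (nat_lit 0x8000c080808080c0c02000000080e0c)
 (.cons 8 (nat_lit 0x1800d80080008c00e8005200ae0048)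
 (.cons 16 (nat_lit 0x3b680000b724000001440000f644)
 (.cons 32 (nat_lit 0x2b6aca080000000004e08640)
 (.cons 64 (nat_lit 0xb2f879ace596532a)
 .nil)))))))))))))
noncomputable def xa23 : Net := (.cons 64 (nat_lit 0x26ff7e617a09d9e8)
 (.cons 32 (nat_lit 0xac96ea1a000000005d09aae4)
 (.cons 16 (nat_lit 0xac7f00003090000093da0000c2d6)
 (.cons 8 (nat_lit 0xa0001400f8004c004d003100c20006)
 (.cons 4 (nat_lit 0xa03000b0c060607080c08070b080c04)
 (.cons 2 (nat_lit 0x2331002230201330231201020200210)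
 (.cons 1 (nat_lit 0x4411444001414414114000101440104)
 (.cons 2 (nat_lit 0x200002000200020222000000200200)
 (.cons 4 (nat_lit 0x80a0a08040204060800000600080804)
 (.cons 8 (nat_lit 0x2a001000fe00020086003800d20050)
 (.cons 16 (nat_lit 0x84380000341c000092d2000093d0)
 (.cons 32 (nat_lit 0xaaf7f816000000008c092be2)
 (.cons 64 (nat_lit 0x26ff7e64c3900ce6)
 .nil)))))))))))))
noncomputable def xa24 : Net := (.cons 64 (nat_lit 0x32065c20219e45fa)
 (.cons 32 (nat_lit 0x10a2365c000000008ec7fed4)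
 (.cons 16 (nat_lit 0x22e20000644300007ecc0000575c)
 (.cons 8 (nat_lit 0x50009e009f007400d4001400940050)
 (.cons 4 (nat_lit 0x60002060e000c0305010c000f000d00)
 (.cons 2 (nat_lit 0x2020222300001301032130122020010)
 (.cons 1 (nat_lit 0x4145041100504140544414441011410)
 (.cons 2 (nat_lit 0x2020020000000000020020202020000)
 (.cons 4 (nat_lit 0x4020e040a080004020808080c000802)
 (.cons 8 (nat_lit 0x7000b00088007400540056001c0060)
 (.cons 16 (nat_lit 0x12c20000a14e0000ff0000007704)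
 (.cons 32 (nat_lit 0xa07e54000000004bfe5c0a)
 (.cons 64 (nat_lit 0x32065c2e278f09f4)
 .nil)))))))))))))
noncomputable def xa25 : Net := (.cons 64 (nat_lit 0xa0b6bc1cd6ac104a)
 (.cons 32 (nat_lit 0xfaab4aef00000000707393cc)
 (.cons 16 (nat_lit 0x3c2e000000f60000b06c0000e598)
 (.cons 8 (nat_lit 0x9e00700006009400c8003900c800ce)
 (.cons 4 (nat_lit 0x208020b0a000405030c0a06060d0008)
 (.cons 2 (nat_lit 0x10203003030022110031000220000100)
 (.cons 1 (nat_lit 0x44114045040041511405411400404144)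
 (.cons 2 (nat_lit 0x20020020000002000000000200000000)
 (.cons 4 (nat_lit 0x20a0a0808000c080202080600080c00)
 (.cons 8 (nat_lit 0x880050000600a800c8005a00900040)
 (.cons 16 (nat_lit 0xa6b0000080f00000f0440000a9d4)
 (.cons 32 (nat_lit 0xfa8d6af0000000007433d182)
 (.cons 64 (nat_lit 0xa0b6bc19f2dcd14c)
 .nil)))))))))))))
noncomputable def xa26 : Net := (.cons 64 (nat_lit 0xb28d7feeb3bdb0c)
 (.cons 32 (nat_lit 0x7e72135f00000000a3680546)
 (.cons 16 (nat_lit 0xa5ca0000416c0000174b00005ec4)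
 (.cons 8 (nat_lit 0x160054004a009900b4001e006600a0)
 (.cons 4 (nat_lit 0xd0e060a000404090d0800050603000e)
 (.cons 2 (nat_lit 0x3102102002022003100030230101022)
 (.cons 1 (nat_lit 0x5044014404540144401010410000404)
 (.cons 2 (nat_lit 0x2022000020002000000000000000)
 (.cons 4 (nat_lit 0xc0404080802040a0800000006000800)
 (.cons 8 (nat_lit 0x46001400c2009000f0001400640028)
 (.cons 16 (nat_lit 0xb08000004a640000174200004ec6)
 (.cons 32 (nat_lit 0x7e52406800000000a728054a)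
 (.cons 64 (nat_lit 0xb28d7f225a8890c)
 .nil)))))))))))))
noncomputable def xa27 : Net := (.cons 64 (nat_lit 0xe0609160464e2100)
 (.cons 32 (nat_lit 0xb9308002000000001b421404)
 (.cons 16 (nat_lit 0xc1220000308400004e8300009628)
 (.cons 8 (nat_lit 0x420030002400a300d6008e00540062)
 (.cons 4 (nat_lit 0x4000809020000000506060009080f0c)
 (.cons 2 (nat_lit 0x20002200022320003130100020011302)
 (.cons 1 (nat_lit 0x15104140544540441044500400401444)
 (.cons 2 (nat_lit 0x20002200022000202020000000000202)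
 (.cons 4 (nat_lit 0x400080802000000000606000808000c)
 (.cons 8 (nat_lit 0x4200300024004000c0008c00540062)
 (.cons 16 (nat_lit 0xc1220000308400005c0400009628)
 (.cons 32 (nat_lit 0xb9308002000000001b421404)
 (.cons 64 (nat_lit 0xe0609160464e2100)
 .nil)))))))))))))
noncomputable def xa28 : Net := (.cons 64 (nat_lit 0x885c2d0f60809020)
 (.cons 32 (nat_lit 0xe86438900000000033338420)
 (.cons 16 (nat_lit 0x61040000004c0000e2d00000d9b0)
 (.cons 8 (nat_lit 0x4800280088000c00e2009400ca0034)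
 (.cons 4 (nat_lit 0x400040b04080800000802080c0d0e02)
 (.cons 2 (nat_lit 0x1001022122102022002022220220002)
 (.cons 1 (nat_lit 0x100411001004010001540411400150)
 (.cons 2 (nat_lit 0x22002002020002020220200000)
 (.cons 4 (nat_lit 0x40004000408000000080208080c0202)
 (.cons 8 (nat_lit 0x4000280008000c00a0009400ca0034)
 (.cons 16 (nat_lit 0x61000000000c0000e2d00000d9b0)
 (.cons 32 (nat_lit 0xe86418900000000033338420)
 (.cons 64 (nat_lit 0x885c2d0f60809020)
 .nil)))))))))))))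
noncomputable def xa29 : Net := (.cons 64 (nat_lit 0x2ccbadebcb0c4d14)
 (.cons 32 (nat_lit 0x7757bba100000000f77ee002)
 (.cons 16 (nat_lit 0x8c7d000001190000440800001358)
 (.cons 8 (nat_lit 0x9c004c00c200280032009000d1004e)
 (.cons 4 (nat_lit 0xe07060b040904000c080201050b000a)
 (.cons 2 (nat_lit 0x2022123202000030300220001100320)
 (.cons 1 (nat_lit 0x44544401450044451550440404410450)
 (.cons 2 (nat_lit 0x20022002000020000000220000000200)
 (.cons 4 (nat_lit 0x806060a0000080c0c0a00080406000a)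
 (.cons 8 (nat_lit 0x9c0050004a0024006000900040004c)
 (.cons 16 (nat_lit 0x8334000009720000440c00001b4c)
 (.cons 32 (nat_lit 0x7f9d962800000000f55ea00a)
 (.cons 64 (nat_lit 0x2ccbade3d99f0d50)
 .nil)))))))))))))
noncomputable def xa30 : Net := (.cons 64 (nat_lit 0xc828458cfb944180)
 (.cons 32 (nat_lit 0x8cc8d000000000006d002400)
 (.cons 16 (nat_lit 0x55080000020a0000cc4100009948)
 (.cons 8 (nat_lit 0x6000c0000e0045001c000800d00008)
 (.cons 4 (nat_lit 0xc08000c0c0300080c040602030a0004)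
 (.cons 2 (nat_lit 0x1000002200002201202000000200220)
 (.cons 1 (nat_lit 0x10000044450004000040000055050110)
 (.cons 2 (nat_lit 0x2200002000000000000000220)
 (.cons 4 (nat_lit 0x400000c0c0000080c040000000a0000)
 (.cons 8 (nat_lit 0x60004000060004001c000000d00008)
 (.cons 16 (nat_lit 0x51080000020a0000cc0000008948)
 (.cons 32 (nat_lit 0x8cc8d000000000006d002400)
 (.cons 64 (nat_lit 0xc828458cfb940180)
 .nil)))))))))))))
noncomputable def xws : List (List ℕ) :=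
  [W (nat_lit 0x1705412034100300d),
  W (nat_lit 0x6412034170240f),
  W (nat_lit 0xac2b0b82c0b82e),
  W (nat_lit 0x2e0b82b0b42c0b02c),
  W (nat_lit 0xc42f),
  W (nat_lit 0x320bc2f),
  W (nat_lit 0x360d8330cc33),
  W (nat_lit 0xd834),
  W (nat_lit 0xe8370dc37),
  W (nat_lit 0xf03c)]
noncomputable def xns : List Net := [CL.Std.J2.a0, CL.Std.J2.a1, CL.Std.J2.a2, CL.Std.J2.a3, CL.Std.J2.a4, CL.Std.J2.a5, CL.Std.J2.a6, CL.Std.J2.a7, CL.Std.J2.a8, CL.Std.J2.a9, CL.Std.J2.a10, CL.Std.J2.a11, CL.Std.J2.a12, CL.Std.J2.a13, CL.Std.J2.a14, CL.Std.J2.a15, CL.Std.J2.a16, CL.Std.J2.a17, CL.Std.J2.a18, CL.Std.J2.a19, CL.Std.J2.a20, xa21, xa22, xa23, xa24, xa25, xa26, xa27, xa28, xa29, xa30]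
noncomputable def xD : List (ℕ × List ℕ) := app CL.Std.J2.D (mkDefs xws 21)
noncomputable def xchk : List (List ℕ × List ℕ) → Bool := CL.Std.J2.P.relsB xns
noncomputable def xG_v0 : Lev :=
  ⟨0, 100, sg (W (nat_lit 0x101c050040301c0100c070140100c01)), [[8], [10]], 0, 2⟩
noncomputable def xG_v1 : Lev :=
  ⟨5, 36, sg (W (nat_lit 0xb02c090240902c0902c09)), [[12], [14]], 2, 2⟩
noncomputable def xG_v2 : Lev :=
  ⟨7, 7, sg (W (nat_lit 0x340f03c0d)), [[16], [18]], 4, 2⟩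
noncomputable def xG_v3 : Lev :=
  ⟨9, 3, sg (W (nat_lit 0x4411)), [[20], [22]], 6, 2⟩
noncomputable def xG_v4 : Lev :=
  ⟨1, 2, sg [20], [[22]], 8, 0⟩
noncomputable def xG_v5 : Lev :=
  ⟨28, 2, sg [22], [[24]], 8, 1⟩
noncomputable def xG_v6 : Lev :=
  ⟨2, 2, sg [24], [], 9, 0⟩
noncomputable def xG_vs7 : List Lev :=
  []
noncomputable def xG_vs6 : List Lev :=
  xG_v6 :: xG_vs7
noncomputable def xG_vs5 : List Lev :=
  xG_v5 :: xG_vs6
noncomputable def xG_vs4 : List Lev :=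
  xG_v4 :: xG_vs5
noncomputable def xG_vs3 : List Lev :=
  xG_v3 :: xG_vs4
noncomputable def xG_vs2 : List Lev :=
  xG_v2 :: xG_vs3
noncomputable def xG_vs1 : List Lev :=
  xG_v1 :: xG_vs2
noncomputable def xG_vs : List Lev :=
  xG_v0 :: xG_vs1
noncomputable def xzE1 : Net :=
  (.cons 64 (nat_lit 0x145f608d55fd8448)
 (.cons 32 (nat_lit 0x899d698900000000f302bf91)
 (.cons 16 (nat_lit 0xd8000000d635000057c200008f93)
 (.cons 8 (nat_lit 0x5100b000880068004200d2008e00cb)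
 (.cons 4 (nat_lit 0xd0a08040a03020b0f00030704000c02)
 (.cons 2 (nat_lit 0x31210010023012333120220221200030)
 (.cons 1 (nat_lit 0x10040040540000411100000444500041)
 (.cons 2 (nat_lit 0x20000020020000200200000220000000)
 (.cons 4 (nat_lit 0x802000c0804040c080000040200000c)
 (.cons 8 (nat_lit 0x14003800ec004a0060004000a0001e)
 (.cons 16 (nat_lit 0xd9080000e04c000054e0000049b6)
 (.cons 32 (nat_lit 0x8dd8290000000000308230e0)
 (.cons 64 (nat_lit 0x145f608b5f849696)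
 .nil)))))))))))))
noncomputable def xzK2 : Lk :=
  ⟨xzE1, 1, 3, 1⟩
noncomputable def xzts5 : List (List ℕ) :=
  [W (nat_lit 0x3d0dc340ac2e),
  W (nat_lit 0x330bc360b03c)]
noncomputable def xzts8 : List (List ℕ) :=
  [W (nat_lit 0x1705412034100300d),
  W (nat_lit 0x6412034170240f)]
noncomputable def xo100_sc : List (List ℕ) :=
  sg (W (nat_lit 0x101c050040301c0100c070140100c01))
noncomputable def xo63_sc : List (List ℕ) :=
  sg (W (nat_lit 0x240902c0902c0902c0902c09))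
noncomputable def xo36_sc : List (List ℕ) :=
  sg (W (nat_lit 0xb02c090240902c0902c09))

theorem xzc0 : CL.Std.J2.P.chainB xns xD xG_vs [[0], [2], [4], [6]] = true := by decide +kernel
theorem xzl3 : xzK2.relB CL.Std.J2.P CL.J2U33.Aux.T.P CL.J2U33.xns [[42], [44]] [[0], [2]] = true := by decide +kernel
theorem xzl4 : allL (xzK2.pl CL.Std.J2.P CL.J2U33.Aux.T.P CL.J2U33.xns CL.J2U33.Aux.T.ns 0) (zp [] [[42], [44]] [[0], [2]]) = true := by decide +kernel
theorem xzm6 : leB xD xzts5 [[42], [44]] = true := by decide +kernel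
theorem xzr7 : xchk (zp [] [[8], [10]] xzts5) = true := by decide +kernel
theorem xzm9 : leB xD xzts8 [[8], [10]] = true := by decide +kernel
theorem xzr10 : xchk (zp [] [[42], [44]] xzts8) = true := by decide +kernel
theorem xzo11 : CL.Std.J2.P.orbSz xns xD [[0], [2], [4], [6]] xo100_sc 0 100 = true := by decide +kernel
theorem xzo12 : CL.Std.J2.P.orbSz xns xD [[8], [10]] xo63_sc 1 63 = true := by decide +kernel
theorem xzo13 : CL.Std.J2.P.orbSz xns xD [[8], [10]] xo36_sc 5 36 = true := by decide +kernel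
theorem xze14 : extB CL.Std.J2.ns xns 21 xws CL.Std.J2.D = true := by decide +kernel
theorem xzn15 : CL.Std.J2.P.netsB xns (mkDefs xws 21) = true := by decide +kernel

section
variable {G X : Type*} [Group G] [MulAction G X] {e : ℕ → X} {gs : List G}

theorem xlen {k} (c : Ctx CL.Std.J2.P e gs CL.Std.J2.ns CL.Std.J2.D k) : gs.length = 21 := c.len xze14

theorem xctx0 {k} (c : Ctx CL.Std.J2.P e gs CL.Std.J2.ns CL.Std.J2.D k) : Ctx CL.Std.J2.P e (ext gs xws) xns xD chk0 :=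
  c.ext rfl xze14 xzn15

theorem xctx {k} (c : Ctx CL.Std.J2.P e gs CL.Std.J2.ns CL.Std.J2.D k) {H : Subgroup G} (hF : Faithful e CL.Std.J2.P.n H) (hH : ∀ g ∈ gs, g ∈ H) :
    Ctx CL.Std.J2.P e (ext gs xws) xns xD xchk :=
  (xctx0 c).withB hF (mem_of_mem_ext hH _)

theorem xG_c : CL.Std.J2.P.chainB xns xD xG_vs [[0], [2], [4], [6]] = true :=
  xzc0

theorem xG_o : prodL xG_vs 1 = 604800 := by decide +kernel

theorem xG_ex (c : Ctx CL.Std.J2.P e gs xns xD xchk) (hU : UB (subW gs [[0], [2], [4], [6]]) 604800) :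
    Exact e CL.Std.J2.P.n CL.Std.J2.P.N gs xns 1 xG_vs [[0], [2], [4], [6]] :=
  c.exact xG_c xG_o hU

theorem xiso_r_T {Γ Y : Type*} [Group Γ] [MulAction Γ Y] {e' : ℕ → Y} {cs : List Γ} {D₁ D₂ : List (ℕ × List ℕ)}
    {k₁ k₂ : List (List ℕ × List ℕ) → Bool} (c : Ctx CL.Std.J2.P e gs CL.J2U33.xns D₁ k₁) (c' : Ctx CL.J2U33.Aux.T.P e' cs CL.J2U33.Aux.T.ns D₂ k₂)
    (hF : Faithful e' CL.J2U33.Aux.T.P.n (subW cs [[0], [2]])) :
    RelLe gs [[42], [44]] cs [[0], [2]] :=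
  c.relLe (K := xzK2) c' hF xzl3 (fun (t : ℕ) (ht : t < 1) => match t, ht with
    | 0, _ => xzl4
    | t + 1, h => absurd h (by omega))

theorem xiso_r {Γ Y : Type*} [Group Γ] [MulAction Γ Y] {e' : ℕ → Y} {cs : List Γ} {D₁ D₂ : List (ℕ × List ℕ)}
    {k₁ k₂ : List (List ℕ × List ℕ) → Bool} (c : Ctx CL.Std.J2.P e gs CL.J2U33.xns D₁ k₁) (c' : Ctx CL.Std.U33.P e' cs CL.Std.U33.ns D₂ k₂)
    (hF : Faithful e' CL.Std.U33.P.n (subW cs [[0], [2]])) :
    RelLe gs [[42], [44]] cs [[0], [2]] :=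
  (xiso_r_T c CL.J2U33.Aux.T.c1 ((faithful_eF _).mono le_top)).trans (CL.J2U33.Aux.S.rel c' hF)

theorem xiso_e (c : Ctx CL.Std.J2.P e gs xns xD xchk) :
    subW gs (app [[42], [44]] []) = (subW gs [[8], [10]]) :=
  le_antisymm (c.le_of_rels (ws := [[42], [44]]) (l := [[8], [10]]) (c.rels _ xzr10) xzm9) (c.le_of_rels (ws := [[8], [10]]) (l := [[42], [44]]) (c.rels _ xzr7) xzm6)

theorem xiso (c : Ctx CL.Std.J2.P e gs xns xD xchk) (hK : Nat.card (subW gs [[8], [10]]) = 6048) :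
    Nonempty ((subW gs [[8], [10]]) ≃* (subW CL.Std.U33.gs1 [[0], [2]])) :=
  (RelLe.quo' (l := [[42], [44]]) (lQ := []) (xiso_r c CL.Std.U33.c1 ((faithful_eF _).mono le_top)) (by decide) (xiso_e c) (a := 1) (b := 6048) (UB.of_card hK (by norm_num))
    (LB.one _) (LB.of_card CL.Std.U33.card)).equiv_nil

theorem xo100 (c : Ctx CL.Std.J2.P e gs xns xD xchk) :
    MulAction.orbit (subW gs [[0], [2], [4], [6]]) (e 0) = mset e CL.Std.J2.P.n (grow CL.Std.J2.P.N xns xo100_sc (bit 0)) ∧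
      (MulAction.orbit (subW gs [[0], [2], [4], [6]]) (e 0)).ncard = 100 :=
  c.orbit xzo11

theorem xo63 (c : Ctx CL.Std.J2.P e gs xns xD xchk) :
    MulAction.orbit (subW gs [[8], [10]]) (e 1) = mset e CL.Std.J2.P.n (grow CL.Std.J2.P.N xns xo63_sc (bit 1)) ∧
      (MulAction.orbit (subW gs [[8], [10]]) (e 1)).ncard = 63 :=
  c.orbit xzo12

theorem xo36 (c : Ctx CL.Std.J2.P e gs xns xD xchk) :
    MulAction.orbit (subW gs [[8], [10]]) (e 5) = mset e CL.Std.J2.P.n (grow CL.Std.J2.P.N xns xo36_sc (bit 5)) ∧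
      (MulAction.orbit (subW gs [[8], [10]]) (e 5)).ncard = 36 :=
  c.orbit xzo13

theorem xtop {Γ : Type*} [Group Γ] (f : Nonempty (subW CL.Std.J2.gs1 [[0], [2], [4], [6]] ≃* Γ)) :
    ∃ (_ : MulAction Γ (Fin CL.Std.J2.P.n)) (cs : List Γ), Top CL.Std.J2.P xns xD xchk [[0], [2], [4], [6]] 604800 (eF CL.Std.J2.P.n) cs := by
  obtain ⟨_, cs, t⟩ := CL.Std.J2.c1.exists_top (b := 21) (by decide +kernel) (by decide +kernel) ((faithful_eF _).mono le_top) CL.Std.J2.card (by norm_num) f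
  exact ⟨_, _, t.ext (xctx t.c t.fa fun _ _ => trivial) (b := 21) (by decide +kernel) (by decide +kernel)⟩

end
end CL.J2U33

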