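/-
Relations of 2^11:M24 in J4, and the index of M24 in the group they define.
Generated by tools/dce.
-/
import Cfsg.Agent.Spor.J4DM
import Cfsg.Agent.Spor.J4DL

set_option autoImplicit false
set_option maxRecDepth 200000
set_option Elab.async false
set_option linter.unusedVariables false

namespace CL.J4DA
open CL.PG CL.DCE

noncomputable def AT : Tr :=
  .n (.n (.n (.n (.n (.n (.l ⟨(nat_lit 0), (nat_lit 0), (nat_lit 0), (nat_lit 0)⟩)
 (.l ⟨(nat_lit 0xe0000e), (nat_lit 0x822b08d), (nat_lit 0), (nat_lit 0x100121903e)⟩))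
 (.l ⟨(nat_lit 0x400004), (nat_lit 0x1fc2412084), (nat_lit 0), (nat_lit 0x704716445)⟩))
 (.n (.n (.l ⟨(nat_lit 0x200002), (nat_lit 115), (nat_lit 0), (nat_lit 179)⟩)
 (.l ⟨(nat_lit 0x800005), (nat_lit 3120), (nat_lit 0x170720649e), (nat_lit 0x1185a1201b1185a1201b2a8ae23caa2b88f2b07e0447c2703a1983d18c110fc59158601ec3d18c110fc0820c2b2b4a022c7e008042947f290a022c7e008b62d0b62d0b62ccb62d0b62d0b42d8b42d0b607047164451f0a7258461684806c8825c732b07e0447c2703a1983d18c110fc7c2703a198ad21c4313c4423436124780089b1108d0d8492b48710c4f1743027caa)⟩))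
 (.l ⟨(nat_lit 0xc0000c), (nat_lit 0x7422caf), (nat_lit 0), (nat_lit 0x2d0b52ccb52ccb52ccb32d4b32d4b32ccb52ccb52d0b52d0b52ccb5)⟩)))
 (.n (.n (.n (.l ⟨(nat_lit 0x800007), (nat_lit 18), (nat_lit 0), (nat_lit 0)⟩)
 (.l ⟨(nat_lit 0xe0000d), (nat_lit 0x204a0b818), (nat_lit 0xe85a00c84), (nat_lit 0x2b82c21007)⟩))
 (.l ⟨(nat_lit 0x600006), (nat_lit 0x80204af), (nat_lit 0), (nat_lit 0x2b48710c4f)⟩))
 (.n (.l ⟨(nat_lit 0x400004), (nat_lit 0x8129073), (nat_lit 0), (nat_lit 0x7426087)⟩)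
 (.l ⟨(nat_lit 0xc0000d), (nat_lit 0x1dc240d412), (nat_lit 0x38cd62fc040080300804008030080400404004030040400403), (nat_lit 0x2ccb32d4b32ccb52d0b52d0b52ccb32d4b32ccb52ccb32d4b32d4b4)⟩))))
 (.n (.n (.n (.n (.l ⟨(nat_lit 0x400003), (nat_lit 18), (nat_lit 0), (nat_lit 0)⟩)
 (.l ⟨(nat_lit 0xe00009), (nat_lit 0x3e0302e), (nat_lit 0x2f0db2f8040080300804008030080400404004030040400403), (nat_lit 0xa92802f17850110882b84a0d48e10c9c00477128352384314044220ae)⟩))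
 (.l ⟨(nat_lit 0x600006), (nat_lit 0x901f47f), (nat_lit 0), (nat_lit 0x2a4a00bc5e)⟩))
 (.n (.l ⟨(nat_lit 0x200003), (nat_lit 0x406029), (nat_lit 0x40080300804008030080400404004030040400403), (nat_lit 0x40080300804008030080400404004030040400403)⟩)
 (.l ⟨(nat_lit 0xc0000c), (nat_lit 0x1acad0443b), (nat_lit 0), (nat_lit 0x28c8029803)⟩)))
 (.n (.n (.n (.l ⟨(nat_lit 0xc00003), (nat_lit 4), (nat_lit 0), (nat_lit 0)⟩)
 (.l ⟨(nat_lit 0xe00009), (nat_lit 0x10c3918c31), (nat_lit 0xe85a00c84320e23c00201002010020100400804008040080400804008040080401004008040080400804010020100201002010040080400804008042f4ee374040080300804008030080400404004030040400403), (nat_lit 0xa92802f17850110882b84a0d48e10c9c00477128352384314044220ae1943926c7b100121903e1943926c7b0487d2ac74260870704716445254a81ec461684806cb52ccb32d4b32ccb52ccb52d0b52ccb52ccb50047d2309f28c80298030047d2309f2b82c21007)⟩))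
 (.l ⟨(nat_lit 0x600006), (nat_lit 0x270730ec2d), (nat_lit 0), (nat_lit 0x9c00477)⟩))
 (.n (.l ⟨(nat_lit 0x400004), (nat_lit 0x83238b0), (nat_lit 0), (nat_lit 0x8329c93)⟩)
 (.l ⟨(nat_lit 0xe0000e), (nat_lit 0x7e1dc92), (nat_lit 0), (nat_lit 0x1943926c7b)⟩)))))
 (.n (.n (.n (.n (.n (.l ⟨(nat_lit 0x200001), (nat_lit 0), (nat_lit 0), (nat_lit 0)⟩)
 (.l ⟨(nat_lit 0xe00005), (nat_lit 0x4350042e), (nat_lit 0x1007c2581d), (nat_lit 0xac1f811)⟩))
 (.l ⟨(nat_lit 0x400005), (nat_lit 0x214240d412), (nat_lit 0x328e1300040080300804008030080400404004030040400403), (nat_lit 0x2ccb32d4b32ccb52d0b52ccb32d4b32d4b32d4b32d4b3)⟩))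
 (.n (.l ⟨(nat_lit 0x200002), (nat_lit 1), (nat_lit 0), (nat_lit 181)⟩)
 (.l ⟨(nat_lit 0xc00003), (nat_lit 0x4271d02e), (nat_lit 0x30cef3c4020100201002010040080400804008040080400804008040100400804008040080401002010020100201004008040080400804), (nat_lit 0x201002010020100400804008040080400804008040080401004008040080400804010020100201002010040080400804008042d0b52ccb52ccb32d4b32d4b32d4b32d4b42d4b42d4b3)⟩)))
 (.n (.n (.n (.l ⟨(nat_lit 0xa00005), (nat_lit 3120), (nat_lit 0), (nat_lit 0)⟩)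
 (.l ⟨(nat_lit 0xe0000f), (nat_lit 0x1441c28c03), (nat_lit 0xe85a00c84320e23c0020100201002010040080400804008040080400804008040100400804008040080401002010020100201004008040080400804), (nat_lit 0x487d2ac74260870704716445254a81ec461684806cb52ccb32d4b32ccb52ccb52d0b52ccb52ccb50047d2309f28c80298030047d2309f2b82c21007)⟩))
 (.l ⟨(nat_lit 0x600005), (nat_lit 0x2803425c16), (nat_lit 0x2e4dd2fc040080300804008030080400404004030040400403), (nat_lit 0x2ccb32d4b32ccb52d0b52ccb32d4b32d4b32d4b32d4b3)⟩))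
 (.n (.l ⟨(nat_lit 0x400004), (nat_lit 0xa01e4ae), (nat_lit 0), (nat_lit 0x952a07b)⟩)
 (.l ⟨(nat_lit 0xe0000e), (nat_lit 0x4902c8a3), (nat_lit 0), (nat_lit 0x1f05f1545a)⟩))))
 (.n (.n (.n (.n (.l ⟨(nat_lit 0x600005), (nat_lit 0x10ec0b), (nat_lit 0), (nat_lit 0)⟩)
 (.l ⟨(nat_lit 0xe0000b), (nat_lit 0x1e07d09031), (nat_lit 0x1007c2581d374e42f8040080300804008030080400404004030040400403), (nat_lit 0x461684806c461684806caa2b88f2a8ae23cac1f811)⟩))
 (.l ⟨(nat_lit 0x600006), (nat_lit 0xa21ec9e), (nat_lit 0), (nat_lit 0x1108d0d849)⟩))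
 (.n (.l ⟨(nat_lit 0x400004), (nat_lit 176303), (nat_lit 0), (nat_lit 0x902b4a9)⟩)
 (.l ⟨(nat_lit 0xc00005), (nat_lit 0x406029), (nat_lit 0x2cce53a8040080300804008030080400404004030040400403), (nat_lit 0xb52ccb32d4b32ccb52ccb52d0b52ccb52ccb5)⟩)))
 (.n (.n (.n (.l ⟨(nat_lit 0xe00007), (nat_lit 11275), (nat_lit 0), (nat_lit 0)⟩)
 (.l ⟨(nat_lit 0xa00008), (nat_lit 0x170720649e), (nat_lit 0), (nat_lit 0x2a4a00bc5e14044220ae1283523843270011dc4a0d48e10c50110882b8650e49b1ec40048640f8650e49b1ec121f4ab1d09821c1c11c59114952a07b1185a1201b2d4b32ccb52ccb32d4b32d4b42d4b32d4b32d4011f48c27ca3200a600c011f48c27cae0b08401c40048640f87c17c5516840048640f8650e49b1ec121f4ab240ad2a4902b4a907047164450704716445)⟩))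
 (.l ⟨(nat_lit 0xc0000c), (nat_lit 0x48021483), (nat_lit 0), (nat_lit 0x47d2309f)⟩))
 (.n (.l ⟨(nat_lit 0x400003), (nat_lit 0x3b12031), (nat_lit 0xec3b8040080300804008030080400404004030040400403), (nat_lit 0x100200c020100200c02010010100100c010100100cb32ccb52d0b52ccb52ccb32d4b42d4b42d4b42d4b42d4b4)⟩)
 (.l ⟨(nat_lit 0xe0000e), (nat_lit 0x7421087), (nat_lit 0), (nat_lit 0x270011dc5d0c09f2a84423436124ad21c4313ca92802f1789c00477)⟩)))))
noncomputable def AC : Cf :=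
  ⟨true, [], [], 114, 178, 64,
  [(false, [], []),
  (false, [], [[], []]),
  (true, [], [[]]),
  (true, [2, 0, 3, 0, 2, 0, 3, 0, 3, 1, 2, 1, 3, 1, 2, 1, 3], [[2, 0, 3, 0, 2, 0, 3, 0, 3, 1, 2, 1, 3, 1, 2, 1, 3], [2, 0, 3, 0, 2, 0, 3, 0, 3, 1, 2, 1, 3, 1, 2, 1, 3]]),
  (true, [0, 2, 0, 2, 0, 2, 2, 0, 2, 0, 2, 0, 2, 0, 2, 0, 2, 0, 2, 2], [[3, 1, 3, 1, 3, 1, 3, 3, 1, 3, 1, 3, 1, 3, 3, 1, 3, 1, 3, 1, 3, 3, 3, 1, 3, 1, 3, 1, 3, 1, 3, 1, 3, 1, 3, 3, 1, 3, 1, 3, 1], [0, 2, 0, 2, 0, 2, 2, 0, 2, 0, 2, 0, 2, 0, 2, 0, 2, 0, 2, 2], [3, 1, 3, 1, 3, 1, 3, 3, 1, 3, 1, 3, 1, 3, 3, 1, 3, 1, 3, 1, 3, 3, 3, 1, 3, 1, 3, 1, 3, 1, 3, 1, 3, 1, 3, 3, 1, 3, 1, 3, 1]])],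
  AT, CL.J4DM.chk⟩
noncomputable def AR0 : List (List ℕ) :=
  [[0],
  [],
  [],
  [],
  [],
  [],
  [],
  [],
  [(nat_lit 1), (nat_lit 0x73000007), 0, (nat_lit 5)],
  [(nat_lit 1), (nat_lit 0x75000007), 0, (nat_lit 5)],
  [(nat_lit 3), (nat_lit 7), 0, (nat_lit 5)],
  [(nat_lit 1), (nat_lit 0x2b0af00000b), (nat_lit 33), (nat_lit 37), (nat_lit 33), (nat_lit 37), (nat_lit 35), (nat_lit 37), (nat_lit 35), (nat_lit 37), (nat_lit 33), (nat_lit 33), (nat_lit 37), (nat_lit 33), (nat_lit 33), (nat_lit 37), (nat_lit 33), (nat_lit 33), (nat_lit 37), (nat_lit 35), (nat_lit 37), (nat_lit 35), (nat_lit 9)],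
  [(nat_lit 1), (nat_lit 0x812907300000b), (nat_lit 33), (nat_lit 37), (nat_lit 35), (nat_lit 37), (nat_lit 33), (nat_lit 33), (nat_lit 37), (nat_lit 33), (nat_lit 37), (nat_lit 33), (nat_lit 37), (nat_lit 35), (nat_lit 37), (nat_lit 35), (nat_lit 37), (nat_lit 33), (nat_lit 33), (nat_lit 37), (nat_lit 33), (nat_lit 33), (nat_lit 37), (nat_lit 33), (nat_lit 9)],
  [(nat_lit 1), (nat_lit 0xa01e4ae00000b), (nat_lit 33), (nat_lit 37), (nat_lit 33), (nat_lit 33), (nat_lit 37), (nat_lit 33), (nat_lit 33), (nat_lit 37), (nat_lit 33), (nat_lit 33), (nat_lit 37), (nat_lit 33), (nat_lit 37), (nat_lit 33), (nat_lit 37), (nat_lit 33), (nat_lit 37), (nat_lit 35), (nat_lit 37), (nat_lit 9)],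
  [(nat_lit 1), (nat_lit 0x83238b000000b), (nat_lit 35), (nat_lit 37), (nat_lit 33), (nat_lit 37), (nat_lit 33), (nat_lit 37), (nat_lit 33), (nat_lit 37), (nat_lit 33), (nat_lit 37), (nat_lit 33), (nat_lit 37), (nat_lit 33), (nat_lit 37), (nat_lit 33), (nat_lit 9)],
  [(nat_lit 3), (nat_lit 0x7d2a09e000029), (nat_lit 33), (nat_lit 33), (nat_lit 37), (nat_lit 35), (nat_lit 37), (nat_lit 33), (nat_lit 37), (nat_lit 33), (nat_lit 33), (nat_lit 37), (nat_lit 35), (nat_lit 37), (nat_lit 35), (nat_lit 37), (nat_lit 35), (nat_lit 37), (nat_lit 35), (nat_lit 37), (nat_lit 35), (nat_lit 0x2b0ae000009)],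
  [(nat_lit 0x2d0c939801), (nat_lit 0x7c2a47f00003f), (nat_lit 33), (nat_lit 37), (nat_lit 35), (nat_lit 37), (nat_lit 33), (nat_lit 37), (nat_lit 33), (nat_lit 33), (nat_lit 37), (nat_lit 33), (nat_lit 37), (nat_lit 33), (nat_lit 37), (nat_lit 35), (nat_lit 37), (nat_lit 33), (nat_lit 37), (nat_lit 35), (nat_lit 37), (nat_lit 35), (nat_lit 0x74224a6000009)],
  [(nat_lit 3), (nat_lit 0x8500000b), (nat_lit 33), (nat_lit 33), (nat_lit 37), (nat_lit 33), (nat_lit 33), (nat_lit 37), (nat_lit 35), (nat_lit 37), (nat_lit 33), (nat_lit 33), (nat_lit 37), (nat_lit 33), (nat_lit 37), (nat_lit 33), (nat_lit 37), (nat_lit 33), (nat_lit 37), (nat_lit 33), (nat_lit 0x8a28480000009)],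
  [(nat_lit 1), (nat_lit 0x901f47f00000f), (nat_lit 55), (nat_lit 67), (nat_lit 55), (nat_lit 59), (nat_lit 13)],
  [(nat_lit 1), (nat_lit 0xa21ec9e00000f), (nat_lit 53), (nat_lit 51), (nat_lit 65), (nat_lit 65), (nat_lit 65), (nat_lit 13)],
  [(nat_lit 1), (nat_lit 0x80204af00000f), (nat_lit 45), (nat_lit 51), (nat_lit 45), (nat_lit 67), (nat_lit 45), (nat_lit 13)],
  [(nat_lit 3), (nat_lit 0x8325479000045), (nat_lit 0x792747f00000d)],
  [(nat_lit 1), (nat_lit 0x872b4b2000057), (nat_lit 13)],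
  [(nat_lit 1), (nat_lit 0x1ccac2848500001b), (nat_lit 33), (nat_lit 37), (nat_lit 33), (nat_lit 33), (nat_lit 37), (nat_lit 33), (nat_lit 37), (nat_lit 33), (nat_lit 37), (nat_lit 35), (nat_lit 37), (nat_lit 33), (nat_lit 33), (nat_lit 37), (nat_lit 33), (nat_lit 37), (nat_lit 33), (nat_lit 37), (nat_lit 35), (nat_lit 37), (nat_lit 35), (nat_lit 37), (nat_lit 35), (nat_lit 25)],
  [(nat_lit 1), (nat_lit 0x7422caf00001b), (nat_lit 35), (nat_lit 37), (nat_lit 33), (nat_lit 37), (nat_lit 33), (nat_lit 37), (nat_lit 33), (nat_lit 33), (nat_lit 37), (nat_lit 33), (nat_lit 37), (nat_lit 33), (nat_lit 33), (nat_lit 37), (nat_lit 33), (nat_lit 37), (nat_lit 35), (nat_lit 37), (nat_lit 35), (nat_lit 37), (nat_lit 33), (nat_lit 37), (nat_lit 25)],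
  [(nat_lit 4), (nat_lit 7), 0, (nat_lit 5), (nat_lit 35), (nat_lit 37), (nat_lit 33), (nat_lit 37), (nat_lit 33), (nat_lit 33), (nat_lit 37), (nat_lit 33), (nat_lit 37), (nat_lit 33), (nat_lit 37), (nat_lit 33), (nat_lit 37), (nat_lit 35), (nat_lit 37), (nat_lit 35), (nat_lit 37), (nat_lit 33), (nat_lit 0x832bcb1000019)],
  [(nat_lit 0x308d333401), (nat_lit 0x27c8a000067), (nat_lit 37), (nat_lit 35), (nat_lit 37), (nat_lit 33), (nat_lit 37), (nat_lit 33), (nat_lit 37), (nat_lit 33), (nat_lit 37), (nat_lit 35), (nat_lit 37), (nat_lit 35), (nat_lit 37), (nat_lit 35), (nat_lit 37), (nat_lit 35), (nat_lit 37), (nat_lit 33), (nat_lit 37), (nat_lit 0x8224c8d000019)],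
  [(nat_lit 3), (nat_lit 11), (nat_lit 37), (nat_lit 33), (nat_lit 33), (nat_lit 37), (nat_lit 33), (nat_lit 33), (nat_lit 37), (nat_lit 33), (nat_lit 37), (nat_lit 35), (nat_lit 37), (nat_lit 33), (nat_lit 37), (nat_lit 33), (nat_lit 37), (nat_lit 0x73294aa000019)],
  [(nat_lit 3), (nat_lit 0x7700001b), (nat_lit 33), (nat_lit 33), (nat_lit 37), (nat_lit 33), (nat_lit 33), (nat_lit 37), (nat_lit 35), (nat_lit 37), (nat_lit 35), (nat_lit 37), (nat_lit 33), (nat_lit 33), (nat_lit 37), (nat_lit 33), (nat_lit 33), (nat_lit 37), (nat_lit 33), (nat_lit 33), (nat_lit 37), (nat_lit 33), (nat_lit 37), (nat_lit 35), (nat_lit 0xa32587f000019)],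
  [(nat_lit 1), (nat_lit 0x1ccad2908900001f), (nat_lit 89), (nat_lit 73), (nat_lit 77), (nat_lit 73), (nat_lit 81), (nat_lit 81), (nat_lit 29)],
  [(nat_lit 1), (nat_lit 0x7e1dc9200001f), (nat_lit 77), (nat_lit 83), (nat_lit 91), (nat_lit 77), (nat_lit 73), (nat_lit 29)],
  [(nat_lit 1), (nat_lit 0x742108700001f), (nat_lit 89), (nat_lit 75), (nat_lit 77), (nat_lit 81), (nat_lit 73), (nat_lit 89), (nat_lit 29)],
  [(nat_lit 1), (nat_lit 0x822b08d00001f), (nat_lit 77), (nat_lit 73), (nat_lit 89), (nat_lit 89), (nat_lit 79), (nat_lit 83), (nat_lit 29)],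
  [(nat_lit 3), (nat_lit 13), (nat_lit 75), (nat_lit 81), (nat_lit 91), (nat_lit 77), (nat_lit 73), (nat_lit 91), (nat_lit 0x7424cb000001d)],
  [(nat_lit 3), (nat_lit 0x1cc75000013), (nat_lit 73), (nat_lit 83), (nat_lit 79), (nat_lit 89), (nat_lit 79), (nat_lit 83), (nat_lit 0x7c26c7e00001d)],
  [(nat_lit 3), (nat_lit 0x1d485000017), (nat_lit 67), (nat_lit 67), (nat_lit 47), (nat_lit 47), (nat_lit 0x9d2907e000085)],
  [(nat_lit 4), (nat_lit 0x731e49000001b), (nat_lit 33), (nat_lit 33), (nat_lit 37), (nat_lit 33), (nat_lit 37), (nat_lit 33), (nat_lit 37), (nat_lit 33), (nat_lit 37), (nat_lit 35), (nat_lit 37), (nat_lit 33), (nat_lit 33), (nat_lit 37), (nat_lit 33), (nat_lit 37), (nat_lit 35), (nat_lit 37), (nat_lit 35), (nat_lit 37), (nat_lit 35), (nat_lit 0x1cc9027891000009), (nat_lit 67), (nat_lit 67), (nat_lit 47), (nat_lit 47), (nat_lit 0x7d220a9000085)],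
  [(nat_lit 4), (nat_lit 0x83200b2000087), (nat_lit 49), (nat_lit 65), (nat_lit 53), (nat_lit 67), (nat_lit 0x962787f00006d), (nat_lit 93), (nat_lit 105), (nat_lit 93), (nat_lit 0x88288b0000091)],
  [(nat_lit 3), (nat_lit 0x9f2c490000089), (nat_lit 121), (nat_lit 129), (nat_lit 121), (nat_lit 0x7d2b89d000095)],
  [(nat_lit 0x1e07d09031314d13c001), (nat_lit 0x802b093000099), (nat_lit 129), (nat_lit 117), (nat_lit 129), (nat_lit 121), (nat_lit 0x85244b000008f)],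
  [(nat_lit 2), (nat_lit 21), (nat_lit 159)]]
noncomputable def Apr : List (ℕ × ℕ × List ℕ × List ℕ) :=
  [(1, 14, [2, 0, 2, 0, 3, 0, 3, 0, 2, 0, 2, 0, 2], [3, 1, 3, 1, 3, 1, 2, 1, 2, 1, 3, 1, 3]), (2, 2, [0], [1])]
noncomputable def Aex : List (List ℕ) :=
  [[117, 115, 115], [119, 116, 118], [115, 117, 115], [122, 117, 115], [123, 118, 117], [124, 117, 120], [122, 116], [120, 115], [125, 118], [126, 123], [129, 129], [131, 121], [135, 120], [136, 136], [142, 133], [137, 135], [141, 145], [143, 143], [152, 148], [155, 115], [154, 124], [156, 131], [159, 115], [159, 114], [160, 146], [157, 158], [169, 155], [167, 151], [170, 164], [169, 137]]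
noncomputable def Ast4 : List ℕ :=
  [0, (nat_lit 5), (nat_lit 35), (nat_lit 37), (nat_lit 35), (nat_lit 37), (nat_lit 35), (nat_lit 37), (nat_lit 33), (nat_lit 37), (nat_lit 33), (nat_lit 37), (nat_lit 35), (nat_lit 37), (nat_lit 35), (nat_lit 37), (nat_lit 35), (nat_lit 37), (nat_lit 35), (nat_lit 37), (nat_lit 33), (nat_lit 0x872b0a7000009), (nat_lit 0x7f284a400000d), (nat_lit 77), (nat_lit 81), (nat_lit 89), (nat_lit 75), (nat_lit 89), (nat_lit 73), (nat_lit 0x792c4a500001d), (nat_lit 123), (nat_lit 119), (nat_lit 127), (nat_lit 0x991fc74000093), (nat_lit 93), (nat_lit 99), (nat_lit 107), (nat_lit 0x83260a6000071), (nat_lit 93), (nat_lit 93), (nat_lit 105), (nat_lit 105), (nat_lit 0x2488000001b), (nat_lit 0x8a1ec86000007), 0]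
noncomputable def Ast3 : List ℕ :=
  [0, (nat_lit 5), (nat_lit 33), (nat_lit 33), (nat_lit 37), (nat_lit 33), (nat_lit 33), (nat_lit 37), (nat_lit 35), (nat_lit 37), (nat_lit 33), (nat_lit 37), (nat_lit 33), (nat_lit 37), (nat_lit 33), (nat_lit 33), (nat_lit 37), (nat_lit 33), (nat_lit 33), (nat_lit 37), (nat_lit 33), (nat_lit 37), (nat_lit 33), (nat_lit 0x972b8a5000009), (nat_lit 0x1cc772c88300000d), (nat_lit 83), (nat_lit 91), (nat_lit 77), (nat_lit 83), (nat_lit 89), (nat_lit 83), (nat_lit 91), (nat_lit 0x921e49200000f), (nat_lit 47), (nat_lit 51), (nat_lit 67), (nat_lit 67), (nat_lit 57), (nat_lit 0x751f4a70000a1), (nat_lit 0x9b1e4af000013), (nat_lit 0x8a1fc7c00000f), (nat_lit 45), (nat_lit 67), (nat_lit 47), (nat_lit 47), (nat_lit 51), (nat_lit 0x9f24ca900000b), (nat_lit 0x24c9b000007), 0]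
noncomputable def Ast2 : List ℕ :=
  [0, (nat_lit 5), (nat_lit 35), (nat_lit 37), (nat_lit 35), (nat_lit 37), (nat_lit 35), (nat_lit 37), (nat_lit 33), (nat_lit 37), (nat_lit 33), (nat_lit 37), (nat_lit 35), (nat_lit 37), (nat_lit 35), (nat_lit 37), (nat_lit 35), (nat_lit 37), (nat_lit 35), (nat_lit 37), (nat_lit 33), (nat_lit 0x872b0a7000009), (nat_lit 0x7f284a400000d), (nat_lit 73), (nat_lit 81), (nat_lit 81), (nat_lit 79), (nat_lit 89), (nat_lit 81), (nat_lit 91), (nat_lit 0x842788f00000f), (nat_lit 49), (nat_lit 53), (nat_lit 49), (nat_lit 65), (nat_lit 65), (nat_lit 0x7d2ac8900000b), (nat_lit 0x8f1fcb0000007), 0]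
noncomputable def Ast1 : List ℕ :=
  [0, (nat_lit 5), (nat_lit 35), (nat_lit 37), (nat_lit 35), (nat_lit 37), (nat_lit 35), (nat_lit 37), (nat_lit 33), (nat_lit 37), (nat_lit 33), (nat_lit 37), (nat_lit 35), (nat_lit 37), (nat_lit 35), (nat_lit 37), (nat_lit 35), (nat_lit 37), (nat_lit 35), (nat_lit 37), (nat_lit 33), (nat_lit 0x872b0a7000009), (nat_lit 0x7f284a400000d), (nat_lit 83), (nat_lit 89), (nat_lit 79), (nat_lit 81), (nat_lit 81), (nat_lit 79), (nat_lit 91), (nat_lit 0x7f25caf00000f), (nat_lit 55), (nat_lit 67), (nat_lit 55), (nat_lit 59), (nat_lit 0x7726c9b00000b), (nat_lit 0x952ac88000007), 0]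
noncomputable def Ast0 : List ℕ :=
  [0, (nat_lit 5), (nat_lit 33), (nat_lit 33), (nat_lit 37), (nat_lit 33), (nat_lit 33), (nat_lit 37), (nat_lit 35), (nat_lit 37), (nat_lit 33), (nat_lit 37), (nat_lit 33), (nat_lit 37), (nat_lit 33), (nat_lit 33), (nat_lit 37), (nat_lit 33), (nat_lit 33), (nat_lit 37), (nat_lit 33), (nat_lit 37), (nat_lit 33), (nat_lit 0x972b8a5000009), (nat_lit 0x1cc772c88300000d), (nat_lit 75), (nat_lit 89), (nat_lit 73), (nat_lit 89), (nat_lit 73), (nat_lit 77), (nat_lit 89), (nat_lit 0x7c2a48f00000f), (nat_lit 55), (nat_lit 59), (nat_lit 47), (nat_lit 67), (nat_lit 67), (nat_lit 0x2c4a700000b), (nat_lit 0x922a481000007), 0]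
noncomputable def VT : Tr :=
  .n (.n (.n (.n (.n (.n (.l ⟨(nat_lit 0), (nat_lit 0), (nat_lit 0), (nat_lit 0)⟩)
 (.l ⟨(nat_lit 3), (nat_lit 0), (nat_lit 0), (nat_lit 0)⟩))
 (.l ⟨(nat_lit 0x600003), (nat_lit 0x60341cc01), (nat_lit 0x15f4fd510040400403004040040300403004030040400403004040040300403), (nat_lit 0)⟩))
 (.n (.n (.l ⟨(nat_lit 0x400004), (nat_lit 0x171212b431), (nat_lit 0), (nat_lit 0)⟩)
 (.l ⟨(nat_lit 0x400005), (nat_lit 0x480b044110300c02001), (nat_lit 0x4cd5a5294500404004030040400403004030040300404004030040400403004034d56c5395e), (nat_lit 0)⟩))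
 (.l ⟨(nat_lit 0x600006), (nat_lit 0x26c8d4341b), (nat_lit 0), (nat_lit 0)⟩)))
 (.n (.n (.n (.l ⟨(nat_lit 0x200002), (nat_lit 3), (nat_lit 0), (nat_lit 0)⟩)
 (.l ⟨(nat_lit 0x400004), (nat_lit 0x1010120480701c0b048120480702c120480b044080440804411), (nat_lit 0), (nat_lit 0)⟩))
 (.l ⟨(nat_lit 0x600007), (nat_lit 0xcf50b012), (nat_lit 0x13a5695d0040400403004040040300403004030040400403004040040300403), (nat_lit 0)⟩))
 (.n (.l ⟨(nat_lit 0x400005), (nat_lit 0x40e044), (nat_lit 0x4cd5a529450040400403004040040300403004030040400403004040040300403), (nat_lit 0)⟩)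
 (.l ⟨(nat_lit 0x200003), (nat_lit 1), (nat_lit 0x1592c42c16), (nat_lit 0)⟩))))
 (.n (.n (.n (.n (.l ⟨(nat_lit 0x400003), (nat_lit 18444), (nat_lit 0), (nat_lit 0)⟩)
 (.l ⟨(nat_lit 0x400003), (nat_lit 18444), (nat_lit 0), (nat_lit 0)⟩))
 (.l ⟨(nat_lit 0x600005), (nat_lit 0x108c2b), (nat_lit 0x5c904c824), (nat_lit 0)⟩))
 (.n (.l ⟨(nat_lit 0x400003), (nat_lit 0xac8c15c97), (nat_lit 0x13b515700040400403004040040300403004030040400403004040040300403), (nat_lit 0)⟩)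
 (.l ⟨(nat_lit 0x400003), (nat_lit 0xac553dc35), (nat_lit 0x108c2b), (nat_lit 0)⟩)))
 (.n (.n (.n (.l ⟨(nat_lit 0x200003), (nat_lit 17451), (nat_lit 0x4240b808), (nat_lit 0)⟩)
 (.l ⟨(nat_lit 0x400004), (nat_lit 0x41201c070481202c0b02c0b02c1203011044080440c), (nat_lit 0), (nat_lit 0)⟩))
 (.l ⟨(nat_lit 0x600007), (nat_lit 0x11743c68), (nat_lit 0x1446725867), (nat_lit 0)⟩))
 (.n (.l ⟨(nat_lit 0x600006), (nat_lit 0xd0a904882), (nat_lit 0), (nat_lit 0)⟩)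
 (.l ⟨(nat_lit 0x200002), (nat_lit 0x10100b02c120481202c1201c12048120480c0440c03011), (nat_lit 0), (nat_lit 0)⟩)))))
 (.n (.n (.n (.n (.n (.l ⟨(nat_lit 0x200001), (nat_lit 0), (nat_lit 0), (nat_lit 0)⟩)
 (.l ⟨(nat_lit 0x200003), (nat_lit 1), (nat_lit 0x1592c42c16), (nat_lit 0)⟩))
 (.l ⟨(nat_lit 0x600006), (nat_lit 0xcfc1ac17), (nat_lit 0), (nat_lit 0)⟩))
 (.n (.l ⟨(nat_lit 0x400004), (nat_lit 0x4924d1c), (nat_lit 0), (nat_lit 0)⟩)
 (.l ⟨(nat_lit 0x200006), (nat_lit 0x550c4ac55), (nat_lit 0), (nat_lit 0)⟩)))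
 (.n (.n (.n (.l ⟨(nat_lit 0x200002), (nat_lit 245), (nat_lit 0), (nat_lit 0)⟩)
 (.l ⟨(nat_lit 0x400004), (nat_lit 0x30481202c1201c0b02c0b0480702c120480c0441102011), (nat_lit 0), (nat_lit 0)⟩))
 (.l ⟨(nat_lit 0x600007), (nat_lit 0x2805b1a049), (nat_lit 0x17241320914955d620040400403004040040300403004030040400403004040040300403), (nat_lit 0)⟩))
 (.n (.l ⟨(nat_lit 0x600006), (nat_lit 0x311627c78), (nat_lit 0), (nat_lit 0)⟩)
 (.l ⟨(nat_lit 0x200002), (nat_lit 0x481201c120480701c12048120480c044110201104404), (nat_lit 0), (nat_lit 0)⟩))))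
 (.n (.n (.n (.n (.l ⟨(nat_lit 0x600003), (nat_lit 1), (nat_lit 0), (nat_lit 0)⟩)
 (.l ⟨(nat_lit 0x200003), (nat_lit 0x440c02001), (nat_lit 0x4240b808), (nat_lit 0)⟩))
 (.l ⟨(nat_lit 0x600007), (nat_lit 17451), (nat_lit 0x4cd435b95f0040400403004040040300403004030040400403004040040300403), (nat_lit 0)⟩))
 (.n (.l ⟨(nat_lit 0x400004), (nat_lit 0x21ca310c83), (nat_lit 0), (nat_lit 0)⟩)
 (.l ⟨(nat_lit 0x400004), (nat_lit 0x11c8f1201e), (nat_lit 0), (nat_lit 0)⟩)))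
 (.n (.n (.n (.l ⟨(nat_lit 0x400004), (nat_lit 0x10c4050f), (nat_lit 0), (nat_lit 0)⟩)
 (.l ⟨(nat_lit 0x200005), (nat_lit 0), (nat_lit 18444), (nat_lit 0)⟩))
 (.l ⟨(nat_lit 0x600006), (nat_lit 0x1310c0fc1d), (nat_lit 0), (nat_lit 0)⟩))
 (.n (.l ⟨(nat_lit 0x600006), (nat_lit 0x34a52e), (nat_lit 0), (nat_lit 0)⟩)
 (.l ⟨(nat_lit 0x200002), (nat_lit 0x404048070480b02c0b02c120481202c0b0480b), (nat_lit 0), (nat_lit 0)⟩)))))
noncomputable def VC : Cf :=
  ⟨false, [], [], 242, 306, 64,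
  [(false, [], []),
  (false, [], [[], []]),
  (true, [], [[]]),
  (true, [1, 2, 1, 2, 1, 3, 1, 3, 1], [[1, 2, 1, 3, 1, 2, 1, 3, 1, 3, 1, 3, 1, 2, 1, 3, 1, 2, 1, 3, 1, 3, 0, 2, 0, 2, 0, 3, 0, 3, 0], [2, 0, 2, 0, 3, 0, 2, 0, 3, 0, 2, 0, 2, 0, 2, 0, 3, 0, 2, 0, 3, 0]])],
  VT, CL.J4DM.chk⟩
noncomputable def VR0 : List (List ℕ) :=
  [[0],
  [],
  [],
  [],
  [(nat_lit 1), (nat_lit 0xf3000007), 0, (nat_lit 5)],
  [(nat_lit 1), (nat_lit 0xf5000007), 0, (nat_lit 5)],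
  [(nat_lit 3), (nat_lit 7), 0, (nat_lit 5)],
  [(nat_lit 1), (nat_lit 0x10c4050f00000b), (nat_lit 23), (nat_lit 19), (nat_lit 23), (nat_lit 23), (nat_lit 23), (nat_lit 19), (nat_lit 21), (nat_lit 21), (nat_lit 21), (nat_lit 17), (nat_lit 21), (nat_lit 21), (nat_lit 9)],
  [(nat_lit 1), (nat_lit 0x3ccfa484fb00000b), (nat_lit 19), (nat_lit 21), (nat_lit 21), (nat_lit 19), (nat_lit 21), (nat_lit 17), (nat_lit 21), (nat_lit 21), (nat_lit 19), (nat_lit 21), (nat_lit 21), (nat_lit 17), (nat_lit 23), (nat_lit 9)],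
  [(nat_lit 1), (nat_lit 0x110498f900000b), (nat_lit 17), (nat_lit 23), (nat_lit 23), (nat_lit 23), (nat_lit 19), (nat_lit 23), (nat_lit 17), (nat_lit 21), (nat_lit 19), (nat_lit 21), (nat_lit 17), (nat_lit 9)],
  [(nat_lit 3), (nat_lit 0x3ccf5000019), (nat_lit 23), (nat_lit 19), (nat_lit 21), (nat_lit 17), (nat_lit 21), (nat_lit 17), (nat_lit 21), (nat_lit 21), (nat_lit 0xfb41530000009)],
  [(nat_lit 0x4e13656401), (nat_lit 0xf34b50f00002b), (nat_lit 17), (nat_lit 21), (nat_lit 21), (nat_lit 19), (nat_lit 23), (nat_lit 19), (nat_lit 23), (nat_lit 17), (nat_lit 21), (nat_lit 17), (nat_lit 23), (nat_lit 0xf83d919000009)],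
  [(nat_lit 3), (nat_lit 0xf33d51d00000b), (nat_lit 21), (nat_lit 21), (nat_lit 17), (nat_lit 23), (nat_lit 19), (nat_lit 21), (nat_lit 21), (nat_lit 21), (nat_lit 21), (nat_lit 21), (nat_lit 21), (nat_lit 0x3cd1a42905000009)],
  [(nat_lit 1), (nat_lit 0x3ccfb4710700000f), (nat_lit 17), (nat_lit 23), (nat_lit 19), (nat_lit 23), (nat_lit 23), (nat_lit 19), (nat_lit 23), (nat_lit 23), (nat_lit 19), (nat_lit 21), (nat_lit 13)],
  [(nat_lit 1), (nat_lit 0x3ccfd4c92600000f), (nat_lit 17), (nat_lit 21), (nat_lit 17), (nat_lit 21), (nat_lit 21), (nat_lit 17), (nat_lit 23), (nat_lit 19), (nat_lit 23), (nat_lit 19), (nat_lit 23), (nat_lit 17), (nat_lit 21), (nat_lit 13)],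
  [(nat_lit 1), (nat_lit 0xf34a52e00000f), (nat_lit 21), (nat_lit 19), (nat_lit 23), (nat_lit 17), (nat_lit 21), (nat_lit 19), (nat_lit 23), (nat_lit 23), (nat_lit 19), (nat_lit 21), (nat_lit 21), (nat_lit 17), (nat_lit 13)],
  [(nat_lit 3), (nat_lit 0xf3000019), (nat_lit 21), (nat_lit 19), (nat_lit 21), (nat_lit 21), (nat_lit 17), (nat_lit 21), (nat_lit 17), (nat_lit 23), (nat_lit 23), (nat_lit 19), (nat_lit 23), (nat_lit 23), (nat_lit 0x11f3fd1100000d)],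
  [(nat_lit 0x5816f53401), (nat_lit 0xfa43d28000043), (nat_lit 23), (nat_lit 19), (nat_lit 23), (nat_lit 17), (nat_lit 21), (nat_lit 17), (nat_lit 23), (nat_lit 19), (nat_lit 23), (nat_lit 23), (nat_lit 17), (nat_lit 0x1204bd0d00000d)],
  [(nat_lit 3), (nat_lit 0xf300000b), (nat_lit 19), (nat_lit 21), (nat_lit 21), (nat_lit 21), (nat_lit 21), (nat_lit 19), (nat_lit 23), (nat_lit 17), (nat_lit 23), (nat_lit 19), (nat_lit 0x10c3d91500000d)],
  [(nat_lit 3), (nat_lit 15), (nat_lit 21), (nat_lit 17), (nat_lit 23), (nat_lit 23), (nat_lit 17), (nat_lit 21), (nat_lit 21), (nat_lit 17), (nat_lit 21), (nat_lit 19), (nat_lit 21), (nat_lit 17), (nat_lit 21), (nat_lit 17), (nat_lit 0x3cd034b91f00000d)],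
  [(nat_lit 3), (nat_lit 0x3ccf500000f), (nat_lit 19), (nat_lit 21), (nat_lit 19), (nat_lit 23), (nat_lit 23), (nat_lit 23), (nat_lit 19), (nat_lit 21), (nat_lit 21), (nat_lit 19), (nat_lit 21), (nat_lit 0xfa4691d00000d)],
  [(nat_lit 3), (nat_lit 0xf300004b), (nat_lit 37), (nat_lit 47), (nat_lit 29), (nat_lit 37), (nat_lit 35), (nat_lit 45), (nat_lit 0x10945d22000049)],
  [(nat_lit 3), (nat_lit 0x3d51d00004b), (nat_lit 29), (nat_lit 35), (nat_lit 45), (nat_lit 45), (nat_lit 39), (nat_lit 39), (nat_lit 0xf74312a000049)],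
  [(nat_lit 0x5119c9619d335b15a53401), (nat_lit 0x3cd0d48cf9000059), (nat_lit 59), (nat_lit 55), (nat_lit 69), (nat_lit 0x3cd2c4690d000059)],
  [(nat_lit 0x13a5695d004040040300404004030040300403004040040300404004030040350d564f401), (nat_lit 0x12a3e50b000057), (nat_lit 93), (nat_lit 53), (nat_lit 57), (nat_lit 0x103458fd000051)],
  [(nat_lit 0x14dd5f4d801), (nat_lit 79), (nat_lit 53), (nat_lit 59), (nat_lit 71), (nat_lit 63), (nat_lit 99), (nat_lit 99), (nat_lit 53), (nat_lit 0xf747cf600000f)],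
  [(nat_lit 2), (nat_lit 103), (nat_lit 75)],
  [(nat_lit 0x5b94055401), (nat_lit 107), (nat_lit 17), (nat_lit 21), (nat_lit 21), (nat_lit 17), (nat_lit 23), (nat_lit 17), (nat_lit 0x12e40115000009)],
  [(nat_lit 2), (nat_lit 13), (nat_lit 101)],
  [(nat_lit 0), (nat_lit 23), (nat_lit 23), (nat_lit 19), (nat_lit 23), (nat_lit 19), (nat_lit 21), (nat_lit 17), (nat_lit 23), (nat_lit 19), (nat_lit 23), (nat_lit 19), (nat_lit 23)],
  [(nat_lit 0), (nat_lit 17), (nat_lit 23), (nat_lit 17), (nat_lit 21), (nat_lit 17), (nat_lit 23), (nat_lit 23), (nat_lit 19), (nat_lit 23), (nat_lit 19), (nat_lit 23), (nat_lit 23), (nat_lit 17)],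
  [(nat_lit 0), (nat_lit 19), (nat_lit 23), (nat_lit 17), (nat_lit 23), (nat_lit 23), (nat_lit 23), (nat_lit 19), (nat_lit 23), (nat_lit 19), (nat_lit 21), (nat_lit 21), (nat_lit 17)],
  [(nat_lit 2), (nat_lit 7)],
  [(nat_lit 2), (nat_lit 113)],
  [(nat_lit 2), (nat_lit 9)],
  [(nat_lit 2), (nat_lit 25)],
  [(nat_lit 0), (nat_lit 37), (nat_lit 37), (nat_lit 33), (nat_lit 111), (nat_lit 45), (nat_lit 37)],
  [(nat_lit 0), (nat_lit 29), (nat_lit 37), (nat_lit 111), (nat_lit 45), (nat_lit 45), (nat_lit 35), (nat_lit 111)],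
  [(nat_lit 0), (nat_lit 45), (nat_lit 29), (nat_lit 35), (nat_lit 47), (nat_lit 111), (nat_lit 39)],
  [(nat_lit 2), (nat_lit 11)],
  [(nat_lit 2), (nat_lit 0x3d52c4391e000031)]]
noncomputable def Vpr : List (ℕ × ℕ × List ℕ × List ℕ) :=
  [(1, 0, [2], [3]), (2, 0, [0, 2, 0, 3, 0, 3, 0, 3, 0, 2, 0, 2, 0, 2, 0, 2, 0, 2, 0, 2, 0, 3, 0], [1, 2, 1, 3, 1, 3, 1, 3, 1, 3, 1, 3, 1, 3, 1, 2, 1, 2, 1, 2, 1, 3, 1])]
noncomputable def Vex : List (List ℕ) :=
  [[242, 242, 244], [243, 245, 243], [244, 243, 246], [245, 249, 251], [250, 253, 245], [255, 248, 253], [250, 249], [259, 254], [253, 249], [262, 247], [256, 262], [257, 253], [269, 260], [264, 266], [271, 251], [264, 242], [267, 254], [274, 259], [278, 274], [277, 262], [283, 281], [281, 286], [281, 277], [284, 254], [286, 253], [288, 245], [294, 277], [292, 279], [297, 295], [301, 294]]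
noncomputable def VM : ℕ :=
  (nat_lit 0x7)
noncomputable def Vo1 : Cov :=
  ⟨1, [29, 30, 31], [0, 1, 2, 0, 1, 2, 0, 1, 2, 0, 1, 2, 0, 1, 0],
  [64, 66, 70, 68], 1771⟩
noncomputable def Vo2 : Cov :=
  ⟨2, [36, 37, 38], [0, 1, 2, 0, 1, 2, 0, 1, 2, 0, 1, 2, 0, 1, 0],
  [78, 80], 276⟩
noncomputable def Vos : List Cov :=
  [Vo1, Vo2]

theorem Az0 : AC.L = mkL AC.al AC.be relsA [(3, 9), (4, 21)] := by decide +kernel
theorem Az1 : AC.recs AR0 41 0 = true := by decide +kernel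
theorem Az2 : (relsA.getD 0 []).rotate 0 = 0 :: (sh AC.al ++ 0 :: sh AC.be) := by decide +kernel
theorem Az3 : pairR CL.J4DM.chk relsA 64 Apr 118 114 = true := by decide +kernel
theorem Az4 : pairB CL.J4DM.chk 114 64 Aex 178 118 = true := by decide +kernel
theorem Az5 : AC.trace 41 (subs LA (RA.getD 4 [])) [] Ast4 = true := by decide +kernel
theorem Az6 : AC.trace 41 (subs LA (RA.getD 3 [])) [] Ast3 = true := by decide +kernel
theorem Az7 : AC.trace 41 (subs LA (RA.getD 2 [])) [] Ast2 = true := by decide +kernel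
theorem Az8 : AC.trace 41 (subs LA (RA.getD 1 [])) [] Ast1 = true := by decide +kernel
theorem Az9 : AC.trace 41 (subs LA (RA.getD 0 [])) [] Ast0 = true := by decide +kernel
theorem Vz0 : VC.L = mkL VC.al VC.be relsV [(3, 0)] := by decide +kernel
theorem Vz1 : VC.recs VR0 41 0 = true := by decide +kernel
theorem Vz2 : (relsV.getD 0 []).rotate 0 = 0 :: (sh VC.al ++ 0 :: sh VC.be) := by decide +kernel
theorem Vz3 : pairR CL.J4DM.chk relsV 64 Vpr 246 242 = true := by decide +kernel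
theorem Vz4 : pairB CL.J4DM.chk 242 64 Vex 306 246 = true := by decide +kernel
theorem Vz5 : lamB CL.J4DL.P CL.J4DL.ns CL.J4DM.chk 10 242 306 [[242], [244]] [[2], [17, 6, 6, 17, 10, 10, 10, 10, 10, 0]] [[0], [2]] (sg (W (nat_lit 0x100c0100c0100c0100c0100c0100c0100c0100c0100c0100c0100c0100c0100c0100c0100c0100c0100c0100c01))) = true := by decide +kernel
theorem Vz6 : Vo1.ok VC 41 CL.J4DL.P.n CL.J4DL.P.N 20 VM CL.J4DL.ns = true := by decide +kernel
theorem Vz7 : CL.J4DM.chk (zp [] [[378], [380], [382]] (Vo1.sw VC)) = true := by decide +kernel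
theorem Vz8 : Vo2.ok VC 41 CL.J4DL.P.n CL.J4DL.P.N 20 VM CL.J4DL.ns = true := by decide +kernel
theorem Vz9 : CL.J4DM.chk (zp [] [[392], [394], [396]] (Vo2.sw VC)) = true := by decide +kernel
theorem Vz10 : bnd (invB CL.J4DM.P.N CL.J4DM.ns [[242], [244]] (nat_lit 0x4000000000000000000000000000000000000000000020000000000000000000000000000000000000000010000001000001100100000008010010000000000020000000000000000000100002000000080000010000000000000000000000)) (bnd (Nat.beq (Nat.land (nat_lit 0x4000000000000000000000000000000000000000000020000000000000000000000000000000000000000010000001000001100100000008010010000000000020000000000000000000100002000000080000010000000000000000000000) (gathW 0 CL.J4DM.P.N CL.J4DM.ns [38] (nat_lit 0x4000000000000000000000000000000000000000000020000000000000000000000000000000000000000010000001000001100100000008010010000000000020000000000000000000100002000000080000010000000000000000000000)))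 (bit 145))
    (CL.J4DM.P.orbSz CL.J4DM.ns CL.J4DM.D [[0], [2]] (sg (W (nat_lit 0x40300c0100c0100c0100c0100c0100c0100c0100c0100c0100c0100c0100c0100c01))) 145 CL.J4DM.P.n)) = true := by decide +kernel
theorem Vz11 : bnd (Nat.beq (VC.T.get 1).h 2097153) (bnd (Nat.beq (VC.T.get 1).u 0) (tb VM 1)) = true := by decide +kernel
theorem Vz12 : VM = maskC Vos := by decide +kernel

variable {Γ G X Λ : Type*} [Group Γ] [Group G] [MulAction Γ X] [MulAction Γ Λ] {φ : Γ →* G} {e : ℕ → X} {eL : ℕ → Λ} {g0 gs : List Γ} {t : G}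

theorem Aup {Y : Type*} [MulAction G Y] {gs : List G} {r : Y → G → Y} {q : Y} (S : Sys AC gs t r q) : Upto AC gs t r q 41 :=
  (S.recs _ (Upto.zero _ _ _ _ _)
    Az1)

theorem AL : AC.L = mkL AC.al AC.be relsA [(3, 9), (4, 21)] := Az0

theorem Ainv {gs : List G} (hr : ∀ r ∈ relsA, wordG (t :: gs) r = 1) : t⁻¹ = wordG gs AC.al * t * wordG gs AC.be :=
  inv_of_rel hr _ _ Az2

theorem Apair {H : Subgroup Γ} (E : Env H g0 gs CL.J4DM.chk) (hr : ∀ r ∈ relsA, wordG (t :: gs.map φ) r = 1) :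
    PairTo (gs.map φ) t 114 64 178 :=
  PairTo.defs (E.map φ) (by decide) _ (PairTo.rels (E.map φ) (by decide) hr _ (PairTo.nil _ _ 114 64) (by decide) Az3) (by decide)
    Az4

theorem Asys {H : Subgroup Γ} (E : Env H g0 gs CL.J4DM.chk) (hr : ∀ r ∈ relsA, wordG (t :: gs.map φ) r = 1) :
    Sys AC (gs.map φ) t (fun x a : G => x * a) 1 :=
  sys_tracked (Ainv hr) (Apair E hr) hr AL (E.map φ) rfl

theorem Atr {H : Subgroup Γ} (E : Env H g0 gs CL.J4DM.chk) (hr : ∀ r ∈ relsA, wordG (t :: gs.map φ) r = 1) :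
    ∀ r ∈ RA, wordG (t :: gs.map φ) (subs LA r) = 1 :=
  List.forall_mem_cons.2 ⟨(Asys E hr).trace (Aup (Asys E hr)) Az9,
    List.forall_mem_cons.2 ⟨(Asys E hr).trace (Aup (Asys E hr)) Az8,
    List.forall_mem_cons.2 ⟨(Asys E hr).trace (Aup (Asys E hr)) Az7,
    List.forall_mem_cons.2 ⟨(Asys E hr).trace (Aup (Asys E hr)) Az6,
    List.forall_mem_cons.2 ⟨(Asys E hr).trace (Aup (Asys E hr)) Az5,
    fun _ h => absurd h List.not_mem_nil⟩⟩⟩⟩⟩

theorem Vup {Y : Type*} [MulAction G Y] {gs : List G} {r : Y → G → Y} {q : Y} (S : Sys VC gs t r q) : Upto VC gs t r q 41 :=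
  (S.recs _ (Upto.zero _ _ _ _ _)
    Vz1)

theorem VL : VC.L = mkL VC.al VC.be relsV [(3, 0)] := Vz0

theorem Vinv {gs : List G} (hr : ∀ r ∈ relsV, wordG (t :: gs) r = 1) : t⁻¹ = wordG gs VC.al * t * wordG gs VC.be :=
  inv_of_rel hr _ _ Vz2

theorem Vpair {H : Subgroup Γ} (E : Env H g0 gs CL.J4DM.chk) (hr : ∀ r ∈ relsV, wordG (t :: gs.map φ) r = 1) :
    PairTo (gs.map φ) t 242 64 306 :=
  PairTo.defs (E.map φ) (by decide) _ (PairTo.rels (E.map φ) (by decide) hr _ (PairTo.nil _ _ 242 64) (by decide) Vz3) (by decide)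
    Vz4

theorem Vlam (c : Ctx CL.J4DM.P e gs CL.J4DM.ns CL.J4DM.D CL.J4DM.chk) {k : List (List ℕ × List ℕ) → Bool} (cL : Ctx CL.J4DL.P eL g0 CL.J4DL.ns [] k)
    (E : Env (subW g0 [[0], [2]]) g0 gs CL.J4DM.chk) (hp : PairTo (gs.map φ) t 242 64 306) (hU : UB (subW g0 [[0], [2]]) 244823040) :
    Lam φ (subW g0 [[0], [2]]) (gs.map φ) t g0 eL CL.J4DL.P.n CL.J4DL.P.N (2 * 10) CL.J4DL.ns ∧ (subW g0 [[0], [2]]) ⊓ MulAction.stabilizer Γ (eL 0) = subW gs [[242], [244]] ∧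
      ∀ i < CL.J4DL.P.n, ∃ h ∈ (subW g0 [[0], [2]]), h • eL 0 = eL i :=
  lam_of cL E hp Vz5 (CL.J4DM.VK_lb c) hU

theorem Vfaith (c : Ctx CL.J4DM.P e gs CL.J4DM.ns CL.J4DM.D CL.J4DM.chk) {k : List (List ℕ × List ℕ) → Bool} (cL : Ctx CL.J4DL.P eL g0 CL.J4DL.ns [] k)
    (E : Env (subW g0 [[0], [2]]) g0 gs CL.J4DM.chk) (hp : PairTo (gs.map φ) t 242 64 306) (hU : UB (subW g0 [[0], [2]]) 244823040)
    (hF : Faithful e CL.J4DM.P.n (subW g0 [[0], [2]])) : Faithful eL CL.J4DL.P.n (subW g0 [[0], [2]]) :=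
  have A := Vlam c cL E hp hU
  A.1.faithful2 c E A.2.1 Vz10 hF

theorem Vres (c : Ctx CL.J4DM.P e gs CL.J4DM.ns CL.J4DM.D CL.J4DM.chk) {k : List (List ℕ × List ℕ) → Bool} (cL : Ctx CL.J4DL.P eL g0 CL.J4DL.ns [] k)
    (E : Env (subW g0 [[0], [2]]) g0 gs CL.J4DM.chk) (hp : PairTo (gs.map φ) t 242 64 306) (hU : UB (subW g0 [[0], [2]]) 244823040)
    (hr : ∀ r ∈ relsV, wordG (t :: gs.map φ) r = 1) (hg : ∀ K : Subgroup G, (subW g0 [[0], [2]]).map φ ≤ K → t ∈ K → K = ⊤) :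
    Res ((subW g0 [[0], [2]]).map φ) [1771, 276] :=
  have A := Vlam c cL E hp hU
  have S := sys_coset (C := VC) (E.mem_map φ) (Vinv hr) hp hr VL (E.map φ)
  res_of_cov (os := Vos) A.1 S (Vup S) Vz12 Vz11 hg hU
    (List.forall_mem_cons.2 ⟨Cov.lb A.1 E Vz6 Vz7 (CL.J4DM.VS1_lb c) (by decide),
    List.forall_mem_cons.2 ⟨Cov.lb A.1 E Vz8 Vz9 (CL.J4DM.VS2_lb c) (by decide),
    fun _ h => absurd h List.not_mem_nil⟩⟩)


end CL.J4DA
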