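/-
Certificate of the double coset enumeration for the group J4.
Generated by tools/dce.
-/
import Cfsg.Agent.Spor.J4DS
import Cfsg.Agent.Spor.J4DK

set_option autoImplicit false
set_option maxRecDepth 200000
set_option Elab.async false
set_option linter.unusedVariables false

namespace CL.J4DD
open CL.PG CL.DCE

noncomputable def T0 : Tr :=
  .n (.n (.n (.n (.n (.n (.n (.n (.l ⟨(nat_lit 0), (nat_lit 0), (nat_lit 0), (nat_lit 0)⟩)
 (.l ⟨(nat_lit 0x800007), (nat_lit 0x1a05014), (nat_lit 0x7804269041d00456d4844d50), (nat_lit 0)⟩))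
 (.n (.l ⟨(nat_lit 0xa00007), (nat_lit 0x2a2746f16420), (nat_lit 0x2025c1734c9e), (nat_lit 0)⟩)
 (.l ⟨(nat_lit 0xc0000d), (nat_lit 0xb01009), (nat_lit 0x126549664940400803008040080300804004040040300404004034854e4553b), (nat_lit 0)⟩)))
 (.n (.n (.l ⟨(nat_lit 0x600005), (nat_lit 0x5d0911c3849b), (nat_lit 0x9125c1120c79), (nat_lit 0)⟩)
 (.l ⟨(nat_lit 0xa0000a), (nat_lit 0x100702c140280d048160500a), (nat_lit 0), (nat_lit 0)⟩))
 (.l ⟨(nat_lit 0xc0000d), (nat_lit 0x8c094a308c12), (nat_lit 0x194894dd291f003479604ad4b454020100201002010040080400804008040080400804008040100400804008040080401002010020100201004008040080400804), (nat_lit 0)⟩)))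
 (.n (.n (.n (.l ⟨(nat_lit 0x400003), (nat_lit 0x37054bd02c03), (nat_lit 0x45d385251744c040080300804008030080400404004030040400403), (nat_lit 0)⟩)
 (.l ⟨(nat_lit 0xc00009), (nat_lit 0xf0600c), (nat_lit 0x9584e83cd2255d505711a), (nat_lit 0)⟩))
 (.l ⟨(nat_lit 0xa0000b), (nat_lit 0x4075544fce8), (nat_lit 0x4793f4d1190100201002010020100200c02014040040400403004030040300403), (nat_lit 0)⟩))
 (.n (.n (.l ⟨(nat_lit 0x800009), (nat_lit 0x772f47d2b076), (nat_lit 0x4a54c504040080300804008030080400404004030040400403), (nat_lit 0)⟩)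
 (.l ⟨(nat_lit 0xc0000b), (nat_lit 0x641004013), (nat_lit 0x8e49c8001ccf465204f168), (nat_lit 0)⟩))
 (.l ⟨(nat_lit 0xa00005), (nat_lit 3), (nat_lit 0), (nat_lit 0)⟩))))
 (.n (.n (.n (.n (.l ⟨(nat_lit 0x200002), (nat_lit 1), (nat_lit 0), (nat_lit 0)⟩)
 (.l ⟨(nat_lit 0x800008), (nat_lit 0x4190341303413058040640c), (nat_lit 0), (nat_lit 0)⟩))
 (.l ⟨(nat_lit 0xa0000b), (nat_lit 0x12370f71b414), (nat_lit 0x1514cd21538040080300804008030080400404004030040400403), (nat_lit 0)⟩))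
 (.n (.n (.l ⟨(nat_lit 0x800008), (nat_lit 0x57d613182f), (nat_lit 0), (nat_lit 0)⟩)
 (.l ⟨(nat_lit 0xc0000b), (nat_lit 0x600105c03), (nat_lit 0x16d2a39c2f2492251d5f47d15), (nat_lit 0)⟩))
 (.l ⟨(nat_lit 0x800003), (nat_lit 16), (nat_lit 0), (nat_lit 0)⟩)))
 (.n (.n (.n (.l ⟨(nat_lit 0x600006), (nat_lit 0xf53d2f8d8), (nat_lit 0), (nat_lit 0)⟩)
 (.l ⟨(nat_lit 0x800009), (nat_lit 0x1a05014), (nat_lit 0x4a54c50404008030080400803008040040400403004040040356d4844d50), (nat_lit 0)⟩))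
 (.l ⟨(nat_lit 0xc0000b), (nat_lit 0x1b0406004401), (nat_lit 0x194894dd291f003), (nat_lit 0)⟩))
 (.n (.n (.l ⟨(nat_lit 0xa0000a), (nat_lit 0x431003c02f), (nat_lit 0), (nat_lit 0)⟩)
 (.l ⟨(nat_lit 0xc0000c), (nat_lit 0xc0b05c11064090441503003), (nat_lit 0), (nat_lit 0)⟩))
 (.l ⟨(nat_lit 0xa00007), (nat_lit 0x305417), (nat_lit 0x809705cd32792345d2249915), (nat_lit 0)⟩)))))
 (.n (.n (.n (.n (.n (.l ⟨(nat_lit 0x800003), (nat_lit 16), (nat_lit 0), (nat_lit 0)⟩)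
 (.l ⟨(nat_lit 0xa00007), (nat_lit 0x41304c03), (nat_lit 0x833fc2d480674b13946942), (nat_lit 0)⟩))
 (.n (.l ⟨(nat_lit 0xa00009), (nat_lit 0x268651e81028801), (nat_lit 0x924c3b558bb), (nat_lit 0)⟩)
 (.l ⟨(nat_lit 0xa0000d), (nat_lit 0x4c0f04403), (nat_lit 0x4d4f95e1740f4553f4753d), (nat_lit 0)⟩)))
 (.n (.n (.l ⟨(nat_lit 0x600007), (nat_lit 0x3f5082a55cd3), (nat_lit 0x16645557534040080300804008030080400404004030040400403), (nat_lit 0)⟩)
 (.l ⟨(nat_lit 0xc0000b), (nat_lit 0x241205404), (nat_lit 0x194894dd291f00345d3e50d48), (nat_lit 0)⟩))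
 (.l ⟨(nat_lit 3), (nat_lit 0), (nat_lit 0), (nat_lit 0)⟩)))
 (.n (.n (.n (.l ⟨(nat_lit 0x400005), (nat_lit 0x772f47d2b076), (nat_lit 0x831c06434c6e), (nat_lit 0)⟩)
 (.l ⟨(nat_lit 0xa00009), (nat_lit 0x300906004), (nat_lit 0x633c46e4fc1f4c13457127), (nat_lit 0)⟩))
 (.l ⟨(nat_lit 0xc0000c), (nat_lit 0x7d1e49c45cb6), (nat_lit 0), (nat_lit 0)⟩))
 (.n (.n (.l ⟨(nat_lit 0x800009), (nat_lit 0x6d39cbd3ec9a), (nat_lit 0x7804269041d004451685154b46c020100201002010040080400804008040080400804008040100400804008040080401002010020100201004008040080400804), (nat_lit 0)⟩)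
 (.l ⟨(nat_lit 0xa0000b), (nat_lit 0x100f05c04), (nat_lit 0x2025c1734c9e4515a4f54445402010020100201004008040080400804008040080400804010040080400804008040100201002010020100400804008040080454d5d4d11f), (nat_lit 0)⟩))
 (.l ⟨(nat_lit 0x600006), (nat_lit 0x14058190580d0601100c14), (nat_lit 0), (nat_lit 0)⟩))))
 (.n (.n (.n (.n (.l ⟨(nat_lit 0x200003), (nat_lit 0xed4255507), (nat_lit 0x3c4e741c4b), (nat_lit 0)⟩)
 (.l ⟨(nat_lit 0xa00009), (nat_lit 0xc03c19), (nat_lit 0x51434286909d1d4cd474e91e), (nat_lit 0)⟩))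
 (.l ⟨(nat_lit 0xa0000b), (nat_lit 0x814c87454445), (nat_lit 0x4871088c14a15e499684cc020100201002010040080400804008040080400804008040100400804008040080401002010020100201004008040080400804), (nat_lit 0)⟩))
 (.n (.n (.l ⟨(nat_lit 0x800008), (nat_lit 0x3f56d4522c5b), (nat_lit 0), (nat_lit 0)⟩)
 (.l ⟨(nat_lit 0xa0000b), (nat_lit 0x4c1304809), (nat_lit 0x4871088c14a15e499684cc020100201002010040080400804008040080400804008040100400804008040080401002010020100201004008040080400804505564ad5b), (nat_lit 0)⟩))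
 (.l ⟨(nat_lit 0x400004), (nat_lit 0x40b054070301a0240c05c10), (nat_lit 0), (nat_lit 0)⟩)))
 (.n (.n (.n (.l ⟨(nat_lit 0x600006), (nat_lit 0xbd643b563), (nat_lit 0), (nat_lit 0)⟩)
 (.l ⟨(nat_lit 0x600009), (nat_lit 0x1a02815), (nat_lit 0x772f47d2b0765751b58d34), (nat_lit 0)⟩))
 (.l ⟨(nat_lit 0xc0000d), (nat_lit 0x10cd340a50e), (nat_lit 0x4794e4b131474040080300804008030080400404004030040400403), (nat_lit 0)⟩))
 (.n (.n (.l ⟨(nat_lit 0xa0000a), (nat_lit 0xb3150f0a8be), (nat_lit 0), (nat_lit 0)⟩)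
 (.l ⟨(nat_lit 0x80000d), (nat_lit 9), (nat_lit 0x48453d81134d214e9604d524), (nat_lit 0)⟩))
 (.l ⟨(nat_lit 0xa00007), (nat_lit 0x1406411), (nat_lit 0x2b4448d4995257d614d939), (nat_lit 0)⟩))))))
 (.n (.n (.n (.n (.n (.n (.l ⟨(nat_lit 0x400003), (nat_lit 12), (nat_lit 0), (nat_lit 0)⟩)
 (.l ⟨(nat_lit 0x400007), (nat_lit 0x501a01403), (nat_lit 0x5d0911c3849b5015c4a531), (nat_lit 0)⟩))
 (.n (.l ⟨(nat_lit 0xa00009), (nat_lit 0x1ec3d594f821401), (nat_lit 0x633c46e4fc1f), (nat_lit 0)⟩)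
 (.l ⟨(nat_lit 0xc0000d), (nat_lit 0xc0a04c04), (nat_lit 0x499244694b0100200c020100200c02010010100100c010100100d21575674e530), (nat_lit 0)⟩)))
 (.n (.n (.l ⟨(nat_lit 0x600007), (nat_lit 0x353c52d28017), (nat_lit 0x193b4ef13479), (nat_lit 0)⟩)
 (.l ⟨(nat_lit 0x60000b), (nat_lit 0x101405403), (nat_lit 0x2690b5454f19d225996353d15), (nat_lit 0)⟩))
 (.l ⟨(nat_lit 0x200002), (nat_lit 0xc19028180501200c1405c07), (nat_lit 0), (nat_lit 0)⟩)))
 (.n (.n (.n (.l ⟨(nat_lit 0x400003), (nat_lit 0xb330b00289a), (nat_lit 0x11f57d43564040080300804008030080400404004030040400403), (nat_lit 0)⟩)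
 (.l ⟨(nat_lit 0x800009), (nat_lit 0x641505407), (nat_lit 0x1e0109a41074011145a14552d1b008040080400804010020100201002010020100201002010040100201002010020100400804008040080401002010020100201115599444f919), (nat_lit 0)⟩))
 (.l ⟨(nat_lit 0xc0000c), (nat_lit 0xf4e94e14f), (nat_lit 0), (nat_lit 0)⟩))
 (.n (.n (.l ⟨(nat_lit 0x800009), (nat_lit 0x2f3a0f218c95), (nat_lit 0x11548d5359c040080300804008030080400404004030040400403), (nat_lit 0)⟩)
 (.l ⟨(nat_lit 0xa0000b), (nat_lit 0x1a02815), (nat_lit 0x1514cd2153804008030080400803008040040400403004040040345d624a92a), (nat_lit 0)⟩))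
 (.l ⟨(nat_lit 0x400005), (nat_lit 0x1a05014), (nat_lit 0x831c06434c6e56d4844d50), (nat_lit 0)⟩))))
 (.n (.n (.n (.n (.l ⟨(nat_lit 0x200003), (nat_lit 0xa1451746c16), (nat_lit 0x40080300804008030080400404004030040400403), (nat_lit 0)⟩)
 (.l ⟨(nat_lit 0x800008), (nat_lit 0xc1702c030241500c1106814), (nat_lit 0), (nat_lit 0)⟩))
 (.l ⟨(nat_lit 0xa0000b), (nat_lit 0x6e4acf82945e), (nat_lit 0x1194b536498040080300804008030080400404004030040400403), (nat_lit 0)⟩))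
 (.n (.n (.l ⟨(nat_lit 0x800008), (nat_lit 0x320fb3d001), (nat_lit 0), (nat_lit 0)⟩)
 (.l ⟨(nat_lit 0xa0000b), (nat_lit 0xc1605810), (nat_lit 0x4871088c14a12247d265451500804008040080401002010020100201002010020100201004010020100201002010040080400804008040100201002010020111d48d275911c), (nat_lit 0)⟩))
 (.l ⟨(nat_lit 0x200003), (nat_lit 0x581305807), (nat_lit 0x40080300804008030080400404004030040400403579314f94e), (nat_lit 0)⟩)))
 (.n (.n (.n (.l ⟨(nat_lit 0x600006), (nat_lit 0x574d535), (nat_lit 0), (nat_lit 0)⟩)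
 (.l ⟨(nat_lit 0x600009), (nat_lit 0x5c1704c0b), (nat_lit 0x1a4bc5e15c8544d5856961), (nat_lit 0)⟩))
 (.l ⟨(nat_lit 0xc0000b), (nat_lit 0x4d4f95e1740f), (nat_lit 0x8e49c8001ccf), (nat_lit 0)⟩))
 (.n (.n (.l ⟨(nat_lit 0xa0000a), (nat_lit 0x55d35d58), (nat_lit 0), (nat_lit 0)⟩)
 (.l ⟨(nat_lit 0xc0000c), (nat_lit 0xc1303c030601802c1002c05), (nat_lit 0), (nat_lit 0)⟩))
 (.l ⟨(nat_lit 0xc00007), (nat_lit 10), (nat_lit 0), (nat_lit 0)⟩)))))
 (.n (.n (.n (.n (.n (.l ⟨(nat_lit 0xc00007), (nat_lit 10), (nat_lit 0), (nat_lit 0)⟩)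
 (.l ⟨(nat_lit 0x600007), (nat_lit 0xf00c14), (nat_lit 0x166455575340400803008040080300804004040040300404004034694d4713e), (nat_lit 0)⟩))
 (.n (.l ⟨(nat_lit 0xa0000b), (nat_lit 0xa1451746c16), (nat_lit 0x121c42230528), (nat_lit 0)⟩)
 (.l ⟨(nat_lit 0x80000d), (nat_lit 0x401705403), (nat_lit 0x3702c705381052d6149d17), (nat_lit 0)⟩)))
 (.n (.n (.l ⟨(nat_lit 0x600007), (nat_lit 0x310440700c10), (nat_lit 0x37495402ecf3), (nat_lit 0)⟩)
 (.l ⟨(nat_lit 0xa0000b), (nat_lit 0x1300c10), (nat_lit 0x4793f4d1190100201002010020100200c02014040040400403004030040300403479605793a), (nat_lit 0)⟩))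
 (.l ⟨(nat_lit 0x200003), (nat_lit 5), (nat_lit 0x3c4e741c4b4691c53115), (nat_lit 0)⟩)))
 (.n (.n (.n (.l ⟨(nat_lit 0x600006), (nat_lit 0x580bd32c2f), (nat_lit 0), (nat_lit 0)⟩)
 (.l ⟨(nat_lit 0x800009), (nat_lit 0x1302c16), (nat_lit 0x16344d235680400803008040080300804004040040300404004034756156549), (nat_lit 0)⟩))
 (.l ⟨(nat_lit 0xc00009), (nat_lit 0x8f2495a1f001), (nat_lit 0x60a31c8d225803), (nat_lit 0)⟩))
 (.n (.n (.l ⟨(nat_lit 0x800009), (nat_lit 0x1f281064b81e), (nat_lit 0x114541604d51c0100201002010020100200c02014040040400403004030040300403), (nat_lit 0)⟩)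
 (.l ⟨(nat_lit 0xa0000b), (nat_lit 0x905003), (nat_lit 0x1325412b58c040080300804008030080400404004030040400403565535a165), (nat_lit 0)⟩))
 (.l ⟨(nat_lit 0x600006), (nat_lit 0x1a05c11044140481a0140f), (nat_lit 0), (nat_lit 0)⟩))))
 (.n (.n (.n (.n (.l ⟨(nat_lit 0x400004), (nat_lit 0x453f4c73dc0d), (nat_lit 0), (nat_lit 0)⟩)
 (.l ⟨(nat_lit 0x800009), (nat_lit 11273), (nat_lit 0x4554c4996144c040080400804008040080300805010010100100c0100c0100c0100d1e5453852915), (nat_lit 0)⟩))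
 (.l ⟨(nat_lit 0xa0000b), (nat_lit 0x248211d0b902803), (nat_lit 0x2025c1734c9e4515a4f544454020100201002010040080400804008040080400804008040100400804008040080401002010020100201004008040080400804), (nat_lit 0)⟩))
 (.n (.n (.l ⟨(nat_lit 0x800007), (nat_lit 0x2f3a0f218c95), (nat_lit 0x7b08c9b4a885), (nat_lit 0)⟩)
 (.l ⟨(nat_lit 0xa0000b), (nat_lit 0x581305807), (nat_lit 0x121c42230528579314f94e), (nat_lit 0)⟩))
 (.l ⟨(nat_lit 0x200005), (nat_lit 0), (nat_lit 12), (nat_lit 0)⟩)))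
 (.n (.n (.n (.l ⟨(nat_lit 0x600006), (nat_lit 0x104921c8c657401), (nat_lit 0), (nat_lit 0)⟩)
 (.l ⟨(nat_lit 0xa0000a), (nat_lit 0xb054010681a0240101c12), (nat_lit 0), (nat_lit 0)⟩))
 (.l ⟨(nat_lit 0xc0000d), (nat_lit 0x8103cc957449), (nat_lit 0x44d5851d3145c040080300804008030080400404004030040400403), (nat_lit 0)⟩))
 (.n (.n (.l ⟨(nat_lit 0xa0000a), (nat_lit 0x944388138c83), (nat_lit 0), (nat_lit 0)⟩)
 (.l ⟨(nat_lit 0xc0000d), (nat_lit 0x1501019), (nat_lit 0x65225374a47c00d1e5812b52d15008040080400804010020100201002010020100201002010040100201002010020100400804008040080401002010020100201120545515a114), (nat_lit 0)⟩))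
 (.l ⟨(nat_lit 0x800007), (nat_lit 0x170580b), (nat_lit 0x1ec2326d2a215145754e56d14), (nat_lit 0)⟩)))))))
 (.n (.n (.n (.n (.n (.n (.n (.l ⟨(nat_lit 0x200001), (nat_lit 0), (nat_lit 0), (nat_lit 0)⟩)
 (.l ⟨(nat_lit 0x800007), (nat_lit 0x681505003), (nat_lit 0x73585475540d4ad6346562), (nat_lit 0)⟩))
 (.n (.l ⟨(nat_lit 0xa00007), (nat_lit 0x2a5002b39d38), (nat_lit 0x833fc2d48067), (nat_lit 0)⟩)
 (.l ⟨(nat_lit 0xc0000d), (nat_lit 0x640b0480b), (nat_lit 0x44d5851d3145c0400803008040080300804004040040300404004034513157552), (nat_lit 0)⟩)))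
 (.n (.n (.l ⟨(nat_lit 0x600007), (nat_lit 0x570291746c16), (nat_lit 0x15d53142474040080300804008030080400404004030040400403), (nat_lit 0)⟩)
 (.l ⟨(nat_lit 0x40000b), (nat_lit 0), (nat_lit 3), (nat_lit 0)⟩))
 (.l ⟨(nat_lit 0x200002), (nat_lit 0x906801034180401702416), (nat_lit 0), (nat_lit 0)⟩)))
 (.n (.n (.n (.l ⟨(nat_lit 0x400004), (nat_lit 0x3302d47420d0), (nat_lit 0), (nat_lit 0)⟩)
 (.l ⟨(nat_lit 0xa00009), (nat_lit 0x3c0102c12), (nat_lit 0x24930ed562ed1a5015950913), (nat_lit 0)⟩))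
 (.l ⟨(nat_lit 0xc0000c), (nat_lit 0x5574dd33407), (nat_lit 0), (nat_lit 0)⟩))
 (.n (.n (.l ⟨(nat_lit 0x800009), (nat_lit 0x455cf435c16), (nat_lit 0x16344d23568040080300804008030080400404004030040400403), (nat_lit 0)⟩)
 (.l ⟨(nat_lit 0xa0000b), (nat_lit 0x170580b), (nat_lit 0x1174955f585190100200c020100200c02010010100100c010100100d145754e56d14), (nat_lit 0)⟩))
 (.l ⟨(nat_lit 0x400005), (nat_lit 11269), (nat_lit 0x11749d354811d0100200c020100200c02010010100100c010100100d175851756d14), (nat_lit 0)⟩))))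
 (.n (.n (.n (.n (.l ⟨(nat_lit 0x200002), (nat_lit 279), (nat_lit 0), (nat_lit 0)⟩)
 (.l ⟨(nat_lit 0x800008), (nat_lit 0xc0b05c0a00c0f054190280a), (nat_lit 0), (nat_lit 0)⟩))
 (.l ⟨(nat_lit 0xa0000b), (nat_lit 0x1f258b12b0a7), (nat_lit 0x1325412b58c040080300804008030080400404004030040400403), (nat_lit 0)⟩))
 (.n (.n (.l ⟨(nat_lit 0x800008), (nat_lit 0xc4d84c039), (nat_lit 0), (nat_lit 0)⟩)
 (.l ⟨(nat_lit 0x80000b), (nat_lit 0x41702803), (nat_lit 0x268651e810288014e1614f53f), (nat_lit 0)⟩))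
 (.l ⟨(nat_lit 0x200003), (nat_lit 12292), (nat_lit 0x16c51064c1041234ad4957d13), (nat_lit 0)⟩)))
 (.n (.n (.n (.l ⟨(nat_lit 0x600006), (nat_lit 0x353a56313401), (nat_lit 0), (nat_lit 0)⟩)
 (.l ⟨(nat_lit 0x800009), (nat_lit 0x100c0480f), (nat_lit 0x4515058135470040080400804008040080300805010010100100c0100c0100c0100d234a52f53915), (nat_lit 0)⟩))
 (.l ⟨(nat_lit 0xc0000b), (nat_lit 0x91ecdd1d874), (nat_lit 0x5b4a8e70bc92), (nat_lit 0)⟩))
 (.n (.n (.l ⟨(nat_lit 0xa0000a), (nat_lit 0x4d8d65443d), (nat_lit 0), (nat_lit 0)⟩)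
 (.l ⟨(nat_lit 0xc0000c), (nat_lit 0xd028120540d0641905403), (nat_lit 0), (nat_lit 0)⟩))
 (.l ⟨(nat_lit 0x600007), (nat_lit 9220), (nat_lit 0x37495402ecf34f53759946), (nat_lit 0)⟩)))))
 (.n (.n (.n (.n (.n (.l ⟨(nat_lit 0xa00005), (nat_lit 3), (nat_lit 0), (nat_lit 0)⟩)
 (.l ⟨(nat_lit 0xa00007), (nat_lit 0x40180640a), (nat_lit 0x6639cb04d4044ed354c930), (nat_lit 0)⟩))
 (.n (.l ⟨(nat_lit 0xa00009), (nat_lit 0x7a0f4cc18498), (nat_lit 0x1e08041574a1), (nat_lit 0)⟩)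
 (.l ⟨(nat_lit 0x80000d), (nat_lit 0x580305003), (nat_lit 0x8f2495a1f00150d5b4d522), (nat_lit 0)⟩)))
 (.n (.n (.l ⟨(nat_lit 0x600007), (nat_lit 0x42f55835474), (nat_lit 0x14f575394e4020100201002010040080400804008040080400804008040100400804008040080401002010020100201004008040080400804), (nat_lit 0)⟩)
 (.l ⟨(nat_lit 0xa0000b), (nat_lit 0x1300c14), (nat_lit 0x1194b5364980400803008040080300804004040040300404004034754a58141), (nat_lit 0)⟩))
 (.l ⟨(nat_lit 0x600003), (nat_lit 4), (nat_lit 0), (nat_lit 0)⟩)))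
 (.n (.n (.n (.l ⟨(nat_lit 0x400005), (nat_lit 0x174d4ba2440d), (nat_lit 0x45d274d520474040080300804008030080400404004030040400403), (nat_lit 0)⟩)
 (.l ⟨(nat_lit 0xc00009), (nat_lit 0x581104c13), (nat_lit 0x60a31c8d225803489424a966), (nat_lit 0)⟩))
 (.l ⟨(nat_lit 0xc00009), (nat_lit 0x3702c7053810), (nat_lit 0x6446c6720485), (nat_lit 0)⟩))
 (.n (.n (.l ⟨(nat_lit 0x800009), (nat_lit 0x4d03c030404d), (nat_lit 0x12046523571150100201002010020100200c02014040040400403004030040300403), (nat_lit 0)⟩)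
 (.l ⟨(nat_lit 0x80000b), (nat_lit 0x101406812), (nat_lit 0x1a15e0ec9f1140156d2d4b12d), (nat_lit 0)⟩))
 (.l ⟨(nat_lit 0x600006), (nat_lit 0x4180501704c150541a0480f), (nat_lit 0), (nat_lit 0)⟩))))
 (.n (.n (.n (.n (.l ⟨(nat_lit 0x400004), (nat_lit 0xbccb33d21), (nat_lit 0), (nat_lit 0)⟩)
 (.l ⟨(nat_lit 0xa00009), (nat_lit 0x540c06405), (nat_lit 0x1e08041574a15393659d43), (nat_lit 0)⟩))
 (.l ⟨(nat_lit 0xa0000b), (nat_lit 0x190ca3c8a11f001), (nat_lit 0x809705cd32791d56927504020100201002010040080400804008040080400804008040100400804008040080401002010020100201004008040080400804), (nat_lit 0)⟩))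
 (.n (.n (.l ⟨(nat_lit 0x800007), (nat_lit 0x772f47d2b076), (nat_lit 0x7804269041d004), (nat_lit 0)⟩)
 (.l ⟨(nat_lit 0xa0000b), (nat_lit 0x4c1304003), (nat_lit 0x809705cd32791d56927504020100201002010040080400804008040080400804008040100400804008040080401002010020100201004008040080400804481514d93b), (nat_lit 0)⟩))
 (.l ⟨(nat_lit 0x400004), (nat_lit 0x1204c10050070680f03005), (nat_lit 0), (nat_lit 0)⟩)))
 (.n (.n (.n (.l ⟨(nat_lit 0x600003), (nat_lit 0x8857cc322490), (nat_lit 0x1614e5154ac020100201002010040080400804008040080400804008040100400804008040080401002010020100201004008040080400804), (nat_lit 0)⟩)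
 (.l ⟨(nat_lit 0x800009), (nat_lit 0x170580b), (nat_lit 0x4552354d670100200c020100200c02010010100100c010100100d145754e56d14), (nat_lit 0)⟩))
 (.l ⟨(nat_lit 0xc0000d), (nat_lit 0x40151f11416), (nat_lit 0x1264911a52c040080300804008030080400404004030040400403), (nat_lit 0)⟩))
 (.n (.n (.l ⟨(nat_lit 0xa00007), (nat_lit 0x9a42d5153c67), (nat_lit 0x2b4448d49952), (nat_lit 0)⟩)
 (.l ⟨(nat_lit 0xc0000d), (nat_lit 0x1504003), (nat_lit 0x4794e4b1314740400803008040080300804004040040300404004034dd5159921), (nat_lit 0)⟩))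
 (.l ⟨(nat_lit 0x600007), (nat_lit 0x1604c16), (nat_lit 0x5754c5091d0100200c020100200c02010010100100c010100100d1f5154e53921), (nat_lit 0)⟩))))))
 (.n (.n (.n (.n (.n (.n (.l ⟨(nat_lit 0x600003), (nat_lit 4), (nat_lit 0), (nat_lit 0)⟩)
 (.l ⟨(nat_lit 0x600007), (nat_lit 0x640b0480b), (nat_lit 0x471515111b4780400803008040080300804004040040300404004034513157552), (nat_lit 0)⟩))
 (.n (.l ⟨(nat_lit 0xa00009), (nat_lit 0x1a15e0ec9f11401), (nat_lit 0x1450d0a1a427), (nat_lit 0)⟩)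
 (.l ⟨(nat_lit 0xa0000d), (nat_lit 0x541506005), (nat_lit 0x1b04060044014b11b4655c), (nat_lit 0)⟩)))
 (.n (.n (.l ⟨(nat_lit 0x600007), (nat_lit 0x8103cc957449), (nat_lit 0x471515111b478040080300804008030080400404004030040400403), (nat_lit 0)⟩)
 (.l ⟨(nat_lit 0x80000b), (nat_lit 0x3c1804c05), (nat_lit 0x7a0f4cc184984c1365611d), (nat_lit 0)⟩))
 (.l ⟨(nat_lit 0x200002), (nat_lit 0xc12014190280f0541701c03), (nat_lit 0), (nat_lit 0)⟩)))
 (.n (.n (.n (.l ⟨(nat_lit 0x400004), (nat_lit 0x371849d32107), (nat_lit 0), (nat_lit 0)⟩)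
 (.l ⟨(nat_lit 0x800009), (nat_lit 0x1406411), (nat_lit 0x1e0109a410740111e5212859d1a00804008040080401002010020100201002010020100201004010020100201002010040080400804008040100201002010020111a5453c55913), (nat_lit 0)⟩))
 (.l ⟨(nat_lit 0xc00007), (nat_lit 0x1c1908352c3b), (nat_lit 0x45d245356845c020100201002010040080400804008040080400804008040100400804008040080401002010020100201004008040080400804), (nat_lit 0)⟩))
 (.n (.n (.l ⟨(nat_lit 0x800009), (nat_lit 0x2d3e8243a84d), (nat_lit 0x7804269041d004479484a167468020100201002010040080400804008040080400804008040100400804008040080401002010020100201004008040080400804), (nat_lit 0)⟩)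
 (.l ⟨(nat_lit 0x60000b), (nat_lit 0x4c0404005), (nat_lit 0xa9400ace74e11a595535251c), (nat_lit 0)⟩))
 (.l ⟨(nat_lit 0x600005), (nat_lit 0x581305807), (nat_lit 0x7b3b4273ec2c579314f94e), (nat_lit 0)⟩))))
 (.n (.n (.n (.n (.l ⟨(nat_lit 0x200003), (nat_lit 0x4d03c030404d), (nat_lit 0x5b1441930410), (nat_lit 0)⟩)
 (.l ⟨(nat_lit 0x200009), (nat_lit 0), (nat_lit 16), (nat_lit 0)⟩))
 (.l ⟨(nat_lit 0xa0000b), (nat_lit 0x834fc805a08e), (nat_lit 0x121c422305284891f49951454020100201002010040080400804008040080400804008040100400804008040080401002010020100201004008040080400804), (nat_lit 0)⟩))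
 (.n (.n (.l ⟨(nat_lit 0x800003), (nat_lit 0x8a30c5a2d951), (nat_lit 0x4d51e55d660100201002010020100200c02014040040400403004030040300403), (nat_lit 0)⟩)
 (.l ⟨(nat_lit 0x80000b), (nat_lit 0x54070640b), (nat_lit 0x7b0f5653e0850051c53d644951f), (nat_lit 0)⟩))
 (.l ⟨(nat_lit 0x400004), (nat_lit 0xc1703c13054190301901007), (nat_lit 0), (nat_lit 0)⟩)))
 (.n (.n (.n (.l ⟨(nat_lit 0x600006), (nat_lit 0x45d223fc01), (nat_lit 0), (nat_lit 0)⟩)
 (.l ⟨(nat_lit 0x600009), (nat_lit 0xa00c0c), (nat_lit 0x2f3a0f218c954f52551145), (nat_lit 0)⟩))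
 (.l ⟨(nat_lit 0xc0000d), (nat_lit 0x772f47d2b076), (nat_lit 0x15e46966550040080300804008030080400404004030040400403), (nat_lit 0)⟩))
 (.n (.n (.l ⟨(nat_lit 0xa00005), (nat_lit 0x8b358e42193c), (nat_lit 0x13d49558564040080300804008030080400404004030040400403), (nat_lit 0)⟩)
 (.l ⟨(nat_lit 0x60000d), (nat_lit 0), (nat_lit 10), (nat_lit 0)⟩))
 (.l ⟨(nat_lit 0x600007), (nat_lit 0x1802415), (nat_lit 0x14f575394e40201002010020100400804008040080400804008040080401004008040080400804010020100201002010040080400804008045411b5052a), (nat_lit 0)⟩)))))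
 (.n (.n (.n (.n (.n (.l ⟨(nat_lit 0x200002), (nat_lit 189), (nat_lit 0), (nat_lit 0)⟩)
 (.l ⟨(nat_lit 0x400007), (nat_lit 0x500c03009), (nat_lit 0xa1451746c164b9584b928), (nat_lit 0)⟩))
 (.n (.l ⟨(nat_lit 0xa0000b), (nat_lit 0x2f3a0f218c95), (nat_lit 0x45d2557d61464040080300804008030080400404004030040400403), (nat_lit 0)⟩)
 (.l ⟨(nat_lit 0xc0000d), (nat_lit 0x1a05014), (nat_lit 0x15e4696655004008030080400803008040040400403004040040356d4844d50), (nat_lit 0)⟩)))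
 (.n (.n (.l ⟨(nat_lit 0x800008), (nat_lit 0xd245d35), (nat_lit 0), (nat_lit 0)⟩)
 (.l ⟨(nat_lit 0x60000b), (nat_lit 0x5c0f05c10), (nat_lit 0x2a2746f164205912f52d66), (nat_lit 0)⟩))
 (.l ⟨(nat_lit 0x400003), (nat_lit 12), (nat_lit 0), (nat_lit 0)⟩)))
 (.n (.n (.n (.l ⟨(nat_lit 0x600006), (nat_lit 0x4f10e4a43d), (nat_lit 0), (nat_lit 0)⟩)
 (.l ⟨(nat_lit 0x800009), (nat_lit 12292), (nat_lit 0x4811948d5c454040080400804008040080300805010010100100c0100c0100c0100d234ad4957d13), (nat_lit 0)⟩))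
 (.l ⟨(nat_lit 0xc00009), (nat_lit 0x12114f6044d3), (nat_lit 0x25613a0f3), (nat_lit 0)⟩))
 (.n (.n (.l ⟨(nat_lit 0x800009), (nat_lit 0x211b0493a0a5), (nat_lit 0x11553126585130100201002010020100200c02014040040400403004030040300403), (nat_lit 0)⟩)
 (.l ⟨(nat_lit 0x60000b), (nat_lit 0x1c0905003), (nat_lit 0x728d032a8f35a11d5392d), (nat_lit 0)⟩))
 (.l ⟨(nat_lit 0x200007), (nat_lit 0), (nat_lit 4), (nat_lit 0)⟩))))
 (.n (.n (.n (.n (.l ⟨(nat_lit 0x400004), (nat_lit 0xc52512cd9), (nat_lit 0), (nat_lit 0)⟩)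
 (.l ⟨(nat_lit 0xc00009), (nat_lit 0x601503019), (nat_lit 0x6446c6720485499604ad44), (nat_lit 0)⟩))
 (.l ⟨(nat_lit 0xa0000b), (nat_lit 0x6d53c9d1bcea), (nat_lit 0x2025c1734c9e4854144d4f464020100201002010040080400804008040080400804008040100400804008040080401002010020100201004008040080400804), (nat_lit 0)⟩))
 (.n (.n (.l ⟨(nat_lit 0x800007), (nat_lit 0x1a4bc5e15c85), (nat_lit 0x73585475540d), (nat_lit 0)⟩)
 (.l ⟨(nat_lit 0xa0000b), (nat_lit 0x281406807), (nat_lit 0x2025c1734c9e4854144d4f4640201002010020100400804008040080400804008040080401004008040080400804010020100201002010040080400804008045655457147), (nat_lit 0)⟩))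
 (.l ⟨(nat_lit 0x600005), (nat_lit 0x680a04004), (nat_lit 0x24497044831e51959d4d4b914), (nat_lit 0)⟩)))
 (.n (.n (.n (.l ⟨(nat_lit 0x600005), (nat_lit 0xa1451746c16), (nat_lit 0x7b3b4273ec2c), (nat_lit 0)⟩)
 (.l ⟨(nat_lit 0xa0000a), (nat_lit 0xc1705c1105c120401201001), (nat_lit 0), (nat_lit 0)⟩))
 (.l ⟨(nat_lit 0xc0000d), (nat_lit 0xa10234168), (nat_lit 0x12654966494040080300804008030080400404004030040400403), (nat_lit 0)⟩))
 (.n (.n (.l ⟨(nat_lit 0xa00007), (nat_lit 0x728d032a8f3), (nat_lit 0x6639cb04d404), (nat_lit 0)⟩)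
 (.l ⟨(nat_lit 0xa0000d), (nat_lit 0x641706403), (nat_lit 0x91ecdd1d874485434a115), (nat_lit 0)⟩))
 (.l ⟨(nat_lit 0x600007), (nat_lit 0x401a03c19), (nat_lit 0x193b4ef1347947d624cd47), (nat_lit 0)⟩)))))))
noncomputable def T : Tr :=
  T0
noncomputable def C : Cf :=
  ⟨false, [], [], 188, 274, 86,
  [(false, [], []),
  (false, [], [[], []]),
  (true, [], [[]]),
  (true, [2, 0, 3, 0, 2, 0, 3, 0, 3, 1, 2, 1, 3, 1, 2, 1, 3], [[2, 0, 3, 0, 2, 0, 3, 0, 3, 1, 2, 1, 3, 1, 2, 1, 3], [2, 0, 3, 0, 2, 0, 3, 0, 3, 1, 2, 1, 3, 1, 2, 1, 3]]),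
  (true, [2, 0, 2, 0, 2, 0, 2, 0, 3, 0, 3, 1, 2, 1, 3, 1, 3, 1, 3, 1, 3], [[2, 0, 2, 0, 2, 0, 2, 0, 3, 0, 3, 1, 2, 1, 3, 1, 3, 1, 3, 1, 3], [2, 0, 2, 0, 2, 0, 2, 0, 3, 0, 3, 4, 1, 2, 1, 3, 1, 3, 1, 3, 1, 3]]),
  (true, [0, 2, 0, 2, 0, 2, 2, 0, 2, 0, 2, 0, 2, 0, 2, 0, 2, 0, 2, 2], [[3, 1, 3, 1, 3, 1, 3, 3, 1, 3, 1, 3, 1, 3, 3, 1, 3, 1, 3, 1, 3, 3, 3, 1, 3, 1, 3, 1, 3, 1, 3, 1, 3, 1, 3, 3, 1, 3, 1, 3, 1], [0, 2, 0, 2, 0, 2, 2, 0, 2, 0, 2, 0, 2, 0, 2, 0, 2, 0, 2, 2], [3, 1, 3, 1, 3, 1, 3, 3, 1, 3, 1, 3, 1, 3, 3, 1, 3, 1, 3, 1, 3, 3, 3, 1, 3, 1, 3, 1, 3, 1, 3, 1, 3, 1, 3, 3, 1, 3, 1, 3, 1]])],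
  T, CL.J4DS.chk⟩
noncomputable def R0 : List (List ℕ) :=
  [[0],
  [],
  [],
  [],
  [],
  [],
  [],
  [(nat_lit 1), (nat_lit 0xbd000007), 0, (nat_lit 5)],
  [(nat_lit 1), (nat_lit 0xbf000007), 0, (nat_lit 5)],
  [(nat_lit 1), (nat_lit 0xcb3d0e441cd3000007), 0, (nat_lit 5)],
  [(nat_lit 3), (nat_lit 7), 0, (nat_lit 5)],
  [(nat_lit 4), (nat_lit 7), 0, (nat_lit 5)],
  [(nat_lit 4), (nat_lit 0xbe3c8f73a8c500002d), (nat_lit 29), (nat_lit 33), (nat_lit 37), (nat_lit 29), (nat_lit 33), (nat_lit 31), (nat_lit 33), (nat_lit 29), (nat_lit 29), (nat_lit 33), (nat_lit 29), (nat_lit 33), (nat_lit 31), (nat_lit 33), (nat_lit 37), (nat_lit 29), (nat_lit 33), (nat_lit 29), (nat_lit 29), (nat_lit 33), (nat_lit 31), (nat_lit 33), (nat_lit 31), (nat_lit 33), (nat_lit 0x3accb34cee00002d)],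
  [(nat_lit 1), (nat_lit 0xc73acf6434c500000b), (nat_lit 37), (nat_lit 31), (nat_lit 33), (nat_lit 37), (nat_lit 29), (nat_lit 33), (nat_lit 37), (nat_lit 31), (nat_lit 33), (nat_lit 29), (nat_lit 29), (nat_lit 33), (nat_lit 37), (nat_lit 31), (nat_lit 33), (nat_lit 31), (nat_lit 33), (nat_lit 31), (nat_lit 33), (nat_lit 31), (nat_lit 37), (nat_lit 33), (nat_lit 29), (nat_lit 33), (nat_lit 9)],
  [(nat_lit 1), (nat_lit 0xcc3d8d4424bf00000b), (nat_lit 33), (nat_lit 37), (nat_lit 29), (nat_lit 33), (nat_lit 29), (nat_lit 33), (nat_lit 29), (nat_lit 33), (nat_lit 31), (nat_lit 33), (nat_lit 29), (nat_lit 29), (nat_lit 33), (nat_lit 37), (nat_lit 29), (nat_lit 33), (nat_lit 29), (nat_lit 33), (nat_lit 31), (nat_lit 33), (nat_lit 31), (nat_lit 33), (nat_lit 9)],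
  [(nat_lit 1), (nat_lit 0x36d11310e200000b), (nat_lit 29), (nat_lit 29), (nat_lit 33), (nat_lit 37), (nat_lit 29), (nat_lit 33), (nat_lit 37), (nat_lit 29), (nat_lit 33), (nat_lit 29), (nat_lit 33), (nat_lit 29), (nat_lit 29), (nat_lit 33), (nat_lit 29), (nat_lit 33), (nat_lit 29), (nat_lit 33), (nat_lit 37), (nat_lit 31), (nat_lit 33), (nat_lit 31), (nat_lit 33), (nat_lit 29), (nat_lit 29), (nat_lit 33), (nat_lit 9)],
  [(nat_lit 3), (nat_lit 0x310c63d8bf000031), (nat_lit 29), (nat_lit 33), (nat_lit 29), (nat_lit 33), (nat_lit 29), (nat_lit 37), (nat_lit 29), (nat_lit 33), (nat_lit 31), (nat_lit 33), (nat_lit 29), (nat_lit 33), (nat_lit 29), (nat_lit 33), (nat_lit 31), (nat_lit 33), (nat_lit 29), (nat_lit 33), (nat_lit 29), (nat_lit 33), (nat_lit 31), (nat_lit 33), (nat_lit 29), (nat_lit 29), (nat_lit 0xc1388f3304bd000009)],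
  [(nat_lit 0x46d4549d5944c01), (nat_lit 0xc73f0c93b8c6000043), (nat_lit 29), (nat_lit 29), (nat_lit 33), (nat_lit 29), (nat_lit 33), (nat_lit 37), (nat_lit 31), (nat_lit 33), (nat_lit 31), (nat_lit 33), (nat_lit 29), (nat_lit 37), (nat_lit 29), (nat_lit 33), (nat_lit 29), (nat_lit 33), (nat_lit 37), (nat_lit 31), (nat_lit 33), (nat_lit 29), (nat_lit 37), (nat_lit 0xc53bcd140cbd000009)],
  [(nat_lit 3), (nat_lit 0x3950c31cff00002d), (nat_lit 29), (nat_lit 29), (nat_lit 33), (nat_lit 29), (nat_lit 33), (nat_lit 31), (nat_lit 33), (nat_lit 31), (nat_lit 33), (nat_lit 37), (nat_lit 31), (nat_lit 33), (nat_lit 29), (nat_lit 33), (nat_lit 29), (nat_lit 33), (nat_lit 29), (nat_lit 33), (nat_lit 29), (nat_lit 37), (nat_lit 29), (nat_lit 33), (nat_lit 29), (nat_lit 33), (nat_lit 0x325093b503000009)],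
  [(nat_lit 0x15e5255949c01), (nat_lit 0x39cd03fd0700004b), (nat_lit 29), (nat_lit 29), (nat_lit 33), (nat_lit 29), (nat_lit 33), (nat_lit 29), (nat_lit 33), (nat_lit 29), (nat_lit 33), (nat_lit 29), (nat_lit 29), (nat_lit 33), (nat_lit 37), (nat_lit 31), (nat_lit 33), (nat_lit 37), (nat_lit 29), (nat_lit 33), (nat_lit 31), (nat_lit 33), (nat_lit 31), (nat_lit 33), (nat_lit 31), (nat_lit 33), (nat_lit 31), (nat_lit 0x420f340cd1000009)],
  [(nat_lit 3), (nat_lit 0xbd00000b), (nat_lit 33), (nat_lit 37), (nat_lit 29), (nat_lit 33), (nat_lit 37), (nat_lit 31), (nat_lit 33), (nat_lit 31), (nat_lit 33), (nat_lit 29), (nat_lit 29), (nat_lit 33), (nat_lit 37), (nat_lit 31), (nat_lit 33), (nat_lit 31), (nat_lit 33), (nat_lit 37), (nat_lit 29), (nat_lit 33), (nat_lit 29), (nat_lit 37), (nat_lit 0x43cc9350d2000009)],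
  [(nat_lit 3), (nat_lit 0xc700000b), (nat_lit 31), (nat_lit 33), (nat_lit 31), (nat_lit 33), (nat_lit 31), (nat_lit 33), (nat_lit 31), (nat_lit 33), (nat_lit 29), (nat_lit 29), (nat_lit 33), (nat_lit 37), (nat_lit 31), (nat_lit 33), (nat_lit 31), (nat_lit 33), (nat_lit 29), (nat_lit 33), (nat_lit 31), (nat_lit 33), (nat_lit 29), (nat_lit 33), (nat_lit 31), (nat_lit 37), (nat_lit 33), (nat_lit 0xc1344df328c7000009)],
  [(nat_lit 1), (nat_lit 0xc8335103c8be00000f), (nat_lit 33), (nat_lit 29), (nat_lit 37), (nat_lit 31), (nat_lit 33), (nat_lit 31), (nat_lit 33), (nat_lit 29), (nat_lit 33), (nat_lit 29), (nat_lit 29), (nat_lit 33), (nat_lit 29), (nat_lit 33), (nat_lit 37), (nat_lit 31), (nat_lit 33), (nat_lit 31), (nat_lit 37), (nat_lit 33), (nat_lit 31), (nat_lit 33), (nat_lit 31), (nat_lit 33), (nat_lit 13)],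
  [(nat_lit 1), (nat_lit 0x30505370fb00000f), (nat_lit 31), (nat_lit 33), (nat_lit 37), (nat_lit 29), (nat_lit 33), (nat_lit 31), (nat_lit 33), (nat_lit 31), (nat_lit 33), (nat_lit 37), (nat_lit 31), (nat_lit 33), (nat_lit 31), (nat_lit 33), (nat_lit 29), (nat_lit 29), (nat_lit 33), (nat_lit 31), (nat_lit 37), (nat_lit 33), (nat_lit 31), (nat_lit 33), (nat_lit 29), (nat_lit 29), (nat_lit 33), (nat_lit 29), (nat_lit 33), (nat_lit 29), (nat_lit 13)],
  [(nat_lit 1), (nat_lit 0x3fcd3344c600000f), (nat_lit 29), (nat_lit 33), (nat_lit 29), (nat_lit 37), (nat_lit 29), (nat_lit 33), (nat_lit 31), (nat_lit 33), (nat_lit 29), (nat_lit 37), (nat_lit 29), (nat_lit 33), (nat_lit 29), (nat_lit 33), (nat_lit 29), (nat_lit 37), (nat_lit 29), (nat_lit 33), (nat_lit 29), (nat_lit 37), (nat_lit 33), (nat_lit 29), (nat_lit 29), (nat_lit 13)],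
  [(nat_lit 1), (nat_lit 0xc136d00448bd00000f), (nat_lit 33), (nat_lit 29), (nat_lit 33), (nat_lit 31), (nat_lit 33), (nat_lit 37), (nat_lit 31), (nat_lit 33), (nat_lit 37), (nat_lit 29), (nat_lit 33), (nat_lit 29), (nat_lit 33), (nat_lit 37), (nat_lit 31), (nat_lit 33), (nat_lit 31), (nat_lit 37), (nat_lit 29), (nat_lit 13)],
  [(nat_lit 1), (nat_lit 0x2f90831d0400000f), (nat_lit 29), (nat_lit 37), (nat_lit 31), (nat_lit 33), (nat_lit 31), (nat_lit 33), (nat_lit 29), (nat_lit 37), (nat_lit 29), (nat_lit 33), (nat_lit 29), (nat_lit 29), (nat_lit 33), (nat_lit 29), (nat_lit 37), (nat_lit 29), (nat_lit 33), (nat_lit 37), (nat_lit 29), (nat_lit 29), (nat_lit 33), (nat_lit 29), (nat_lit 29), (nat_lit 33), (nat_lit 31), (nat_lit 33), (nat_lit 13)],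
  [(nat_lit 1), (nat_lit 0x394f2424dd00000f), (nat_lit 33), (nat_lit 29), (nat_lit 29), (nat_lit 33), (nat_lit 31), (nat_lit 33), (nat_lit 29), (nat_lit 33), (nat_lit 29), (nat_lit 37), (nat_lit 29), (nat_lit 33), (nat_lit 37), (nat_lit 31), (nat_lit 33), (nat_lit 31), (nat_lit 33), (nat_lit 29), (nat_lit 29), (nat_lit 13)],
  [(nat_lit 1), (nat_lit 0xbd334d93f8c400000f), (nat_lit 33), (nat_lit 29), (nat_lit 29), (nat_lit 33), (nat_lit 29), (nat_lit 33), (nat_lit 37), (nat_lit 31), (nat_lit 33), (nat_lit 29), (nat_lit 29), (nat_lit 33), (nat_lit 29), (nat_lit 33), (nat_lit 37), (nat_lit 29), (nat_lit 33), (nat_lit 37), (nat_lit 29), (nat_lit 33), (nat_lit 29), (nat_lit 33), (nat_lit 29), (nat_lit 33), (nat_lit 13)],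
  [(nat_lit 5), (nat_lit 7), 0, (nat_lit 5), (nat_lit 31), (nat_lit 33), (nat_lit 37), (nat_lit 31), (nat_lit 33), (nat_lit 29), (nat_lit 37), (nat_lit 29), (nat_lit 33), (nat_lit 31), (nat_lit 33), (nat_lit 37), (nat_lit 29), (nat_lit 33), (nat_lit 37), (nat_lit 31), (nat_lit 33), (nat_lit 29), (nat_lit 37), (nat_lit 29), (nat_lit 33), (nat_lit 0x42ce32fcd500000d)],
  [(nat_lit 0x14a4d95649801), (nat_lit 0x384c5330be000077), (nat_lit 37), (nat_lit 29), (nat_lit 33), (nat_lit 29), (nat_lit 29), (nat_lit 33), (nat_lit 31), (nat_lit 33), (nat_lit 29), (nat_lit 29), (nat_lit 33), (nat_lit 31), (nat_lit 33), (nat_lit 31), (nat_lit 33), (nat_lit 37), (nat_lit 31), (nat_lit 37), (nat_lit 29), (nat_lit 33), (nat_lit 31), (nat_lit 33), (nat_lit 29), (nat_lit 0x3d0e0400d000000d)],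
  [(nat_lit 3), (nat_lit 11), (nat_lit 33), (nat_lit 31), (nat_lit 33), (nat_lit 31), (nat_lit 33), (nat_lit 29), (nat_lit 33), (nat_lit 29), (nat_lit 33), (nat_lit 29), (nat_lit 29), (nat_lit 33), (nat_lit 29), (nat_lit 37), (nat_lit 29), (nat_lit 33), (nat_lit 29), (nat_lit 29), (nat_lit 33), (nat_lit 29), (nat_lit 37), (nat_lit 33), (nat_lit 31), (nat_lit 33), (nat_lit 29), (nat_lit 0xbd42cdc3bcc100000d)],
  [(nat_lit 5), (nat_lit 0xbe30cce00000b), (nat_lit 37), (nat_lit 29), (nat_lit 33), (nat_lit 29), (nat_lit 37), (nat_lit 29), (nat_lit 33), (nat_lit 31), (nat_lit 33), (nat_lit 29), (nat_lit 29), (nat_lit 33), (nat_lit 29), (nat_lit 33), (nat_lit 29), (nat_lit 37), (nat_lit 29), (nat_lit 33), (nat_lit 31), (nat_lit 33), (nat_lit 29), (nat_lit 33), (nat_lit 31), (nat_lit 33), (nat_lit 31), (nat_lit 0x439093b4d300002d), (nat_lit 29), (nat_lit 33), (nat_lit 31), (nat_lit 33), (nat_lit 29), (nat_lit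 37), (nat_lit 29), (nat_lit 33), (nat_lit 29), (nat_lit 37), (nat_lit 29), (nat_lit 33), (nat_lit 37), (nat_lit 31), (nat_lit 33), (nat_lit 29), (nat_lit 29), (nat_lit 33), (nat_lit 37), (nat_lit 29), (nat_lit 29), (nat_lit 33), (nat_lit 29), (nat_lit 33), (nat_lit 0x448cf440d400000d)],
  [(nat_lit 3), (nat_lit 0xc100000f), (nat_lit 29), (nat_lit 37), (nat_lit 29), (nat_lit 33), (nat_lit 29), (nat_lit 37), (nat_lit 29), (nat_lit 33), (nat_lit 29), (nat_lit 29), (nat_lit 33), (nat_lit 29), (nat_lit 33), (nat_lit 31), (nat_lit 33), (nat_lit 29), (nat_lit 33), (nat_lit 29), (nat_lit 29), (nat_lit 33), (nat_lit 31), (nat_lit 33), (nat_lit 29), (nat_lit 33), (nat_lit 29), (nat_lit 0x41cf63b0c700000d)],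
  [(nat_lit 3), (nat_lit 0xbd2f4bf00000f), (nat_lit 29), (nat_lit 37), (nat_lit 29), (nat_lit 33), (nat_lit 37), (nat_lit 31), (nat_lit 33), (nat_lit 31), (nat_lit 33), (nat_lit 29), (nat_lit 29), (nat_lit 33), (nat_lit 29), (nat_lit 33), (nat_lit 29), (nat_lit 29), (nat_lit 33), (nat_lit 37), (nat_lit 29), (nat_lit 33), (nat_lit 31), (nat_lit 33), (nat_lit 29), (nat_lit 29), (nat_lit 0x328f1354d300000d)],
  [(nat_lit 3), (nat_lit 0xc400000f), (nat_lit 37), (nat_lit 29), (nat_lit 33), (nat_lit 29), (nat_lit 33), (nat_lit 29), (nat_lit 33), (nat_lit 37), (nat_lit 29), (nat_lit 33), (nat_lit 31), (nat_lit 33), (nat_lit 37), (nat_lit 29), (nat_lit 33), (nat_lit 31), (nat_lit 33), (nat_lit 37), (nat_lit 29), (nat_lit 37), (nat_lit 29), (nat_lit 33), (nat_lit 29), (nat_lit 0xc63ecee314c800000d)],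
  [(nat_lit 3), (nat_lit 0x320be00000f), (nat_lit 29), (nat_lit 29), (nat_lit 33), (nat_lit 29), (nat_lit 33), (nat_lit 29), (nat_lit 37), (nat_lit 31), (nat_lit 33), (nat_lit 31), (nat_lit 33), (nat_lit 29), (nat_lit 37), (nat_lit 29), (nat_lit 33), (nat_lit 29), (nat_lit 33), (nat_lit 31), (nat_lit 37), (nat_lit 29), (nat_lit 33), (nat_lit 31), (nat_lit 33), (nat_lit 0x440bf404f700000d)],
  [(nat_lit 5), (nat_lit 0x31cc9370d100000f), (nat_lit 29), (nat_lit 37), (nat_lit 31), (nat_lit 33), (nat_lit 29), (nat_lit 37), (nat_lit 29), (nat_lit 33), (nat_lit 37), (nat_lit 31), (nat_lit 33), (nat_lit 29), (nat_lit 37), (nat_lit 29), (nat_lit 33), (nat_lit 37), (nat_lit 31), (nat_lit 33), (nat_lit 31), (nat_lit 33), (nat_lit 29), (nat_lit 29), (nat_lit 33), (nat_lit 0xc3414e4410be00002d), (nat_lit 29), (nat_lit 33), (nat_lit 29), (nat_lit 29), (nat_lit 33), (nat_lit 29), (nat_lit 37), (nat_lit 29), (nat_lit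 33), (nat_lit 29), (nat_lit 33), (nat_lit 29), (nat_lit 33), (nat_lit 31), (nat_lit 33), (nat_lit 29), (nat_lit 33), (nat_lit 31), (nat_lit 33), (nat_lit 29), (nat_lit 33), (nat_lit 29), (nat_lit 33), (nat_lit 29), (nat_lit 37), (nat_lit 29), (nat_lit 0x3e50738ce300000d)],
  [(nat_lit 4), (nat_lit 0x2fcc100000f), (nat_lit 33), (nat_lit 37), (nat_lit 31), (nat_lit 33), (nat_lit 29), (nat_lit 29), (nat_lit 33), (nat_lit 29), (nat_lit 33), (nat_lit 29), (nat_lit 33), (nat_lit 29), (nat_lit 37), (nat_lit 31), (nat_lit 33), (nat_lit 29), (nat_lit 29), (nat_lit 33), (nat_lit 29), (nat_lit 29), (nat_lit 33), (nat_lit 31), (nat_lit 0xbd348d43dcbe00000d)],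
  [(nat_lit 1), (nat_lit 0x3b906448ff000013), (nat_lit 29), (nat_lit 33), (nat_lit 37), (nat_lit 29), (nat_lit 33), (nat_lit 31), (nat_lit 33), (nat_lit 31), (nat_lit 33), (nat_lit 29), (nat_lit 33), (nat_lit 29), (nat_lit 33), (nat_lit 31), (nat_lit 33), (nat_lit 29), (nat_lit 37), (nat_lit 29), (nat_lit 37), (nat_lit 33), (nat_lit 29), (nat_lit 29), (nat_lit 33), (nat_lit 29), (nat_lit 33), (nat_lit 17)],
  [(nat_lit 1), (nat_lit 0x384cc3dcc3000013), (nat_lit 33), (nat_lit 37), (nat_lit 29), (nat_lit 33), (nat_lit 37), (nat_lit 31), (nat_lit 33), (nat_lit 37), (nat_lit 31), (nat_lit 33), (nat_lit 37), (nat_lit 29), (nat_lit 33), (nat_lit 29), (nat_lit 33), (nat_lit 37), (nat_lit 29), (nat_lit 37), (nat_lit 33), (nat_lit 29), (nat_lit 37), (nat_lit 33), (nat_lit 31), (nat_lit 17)],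
  [(nat_lit 1), (nat_lit 0xc640cf93e0c3000013), (nat_lit 29), (nat_lit 33), (nat_lit 31), (nat_lit 33), (nat_lit 37), (nat_lit 31), (nat_lit 33), (nat_lit 29), (nat_lit 33), (nat_lit 29), (nat_lit 37), (nat_lit 29), (nat_lit 33), (nat_lit 29), (nat_lit 29), (nat_lit 33), (nat_lit 29), (nat_lit 37), (nat_lit 29), (nat_lit 33), (nat_lit 29), (nat_lit 33), (nat_lit 29), (nat_lit 33), (nat_lit 17)],
  [(nat_lit 1), (nat_lit 0x320fb3d0bf000013), (nat_lit 29), (nat_lit 37), (nat_lit 31), (nat_lit 33), (nat_lit 31), (nat_lit 33), (nat_lit 29), (nat_lit 33), (nat_lit 31), (nat_lit 33), (nat_lit 29), (nat_lit 37), (nat_lit 29), (nat_lit 33), (nat_lit 31), (nat_lit 33), (nat_lit 31), (nat_lit 33), (nat_lit 31), (nat_lit 33), (nat_lit 31), (nat_lit 33), (nat_lit 29), (nat_lit 33), (nat_lit 29), (nat_lit 33), (nat_lit 31), (nat_lit 17)],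
  [(nat_lit 4), (nat_lit 0x348c63890600002d), (nat_lit 33), (nat_lit 31), (nat_lit 33), (nat_lit 29), (nat_lit 37), (nat_lit 29), (nat_lit 33), (nat_lit 37), (nat_lit 31), (nat_lit 33), (nat_lit 31), (nat_lit 33), (nat_lit 29), (nat_lit 29), (nat_lit 33), (nat_lit 31), (nat_lit 33), (nat_lit 29), (nat_lit 33), (nat_lit 31), (nat_lit 33), (nat_lit 29), (nat_lit 33), (nat_lit 29), (nat_lit 37), (nat_lit 29), (nat_lit 0x37cc840510000011)],
  [(nat_lit 0x479215955d47401), (nat_lit 0x2fd04390d40000af), (nat_lit 31), (nat_lit 33), (nat_lit 29), (nat_lit 33), (nat_lit 29), (nat_lit 29), (nat_lit 33), (nat_lit 29), (nat_lit 33), (nat_lit 29), (nat_lit 33), (nat_lit 29), (nat_lit 29), (nat_lit 33), (nat_lit 29), (nat_lit 29), (nat_lit 33), (nat_lit 31), (nat_lit 37), (nat_lit 29), (nat_lit 33), (nat_lit 29), (nat_lit 0xc832d0f41cc7000011)],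
  [(nat_lit 3), (nat_lit 0xbd00000f), (nat_lit 29), (nat_lit 33), (nat_lit 29), (nat_lit 29), (nat_lit 33), (nat_lit 29), (nat_lit 37), (nat_lit 29), (nat_lit 33), (nat_lit 29), (nat_lit 33), (nat_lit 29), (nat_lit 33), (nat_lit 29), (nat_lit 33), (nat_lit 31), (nat_lit 33), (nat_lit 29), (nat_lit 29), (nat_lit 33), (nat_lit 31), (nat_lit 0x2fcd9438c5000011)],
  [(nat_lit 3), (nat_lit 0x2f4bf00000f), (nat_lit 29), (nat_lit 29), (nat_lit 33), (nat_lit 37), (nat_lit 29), (nat_lit 33), (nat_lit 31), (nat_lit 33), (nat_lit 31), (nat_lit 33), (nat_lit 37), (nat_lit 31), (nat_lit 33), (nat_lit 31), (nat_lit 33), (nat_lit 31), (nat_lit 33), (nat_lit 31), (nat_lit 37), (nat_lit 33), (nat_lit 31), (nat_lit 37), (nat_lit 33), (nat_lit 31), (nat_lit 33), (nat_lit 0xc1344c4374c1000011)],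
  [(nat_lit 5), (nat_lit 0x2f4d3314ce00000f), (nat_lit 29), (nat_lit 29), (nat_lit 33), (nat_lit 29), (nat_lit 37), (nat_lit 29), (nat_lit 33), (nat_lit 29), (nat_lit 33), (nat_lit 37), (nat_lit 29), (nat_lit 33), (nat_lit 29), (nat_lit 33), (nat_lit 37), (nat_lit 31), (nat_lit 33), (nat_lit 29), (nat_lit 29), (nat_lit 33), (nat_lit 31), (nat_lit 0x3b8ec43cd600000d), (nat_lit 123), (nat_lit 91), (nat_lit 109), (nat_lit 123), (nat_lit 101), (nat_lit 0x44904370e30000b9)],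
  [(nat_lit 3), (nat_lit 0xbd000013), (nat_lit 33), (nat_lit 29), (nat_lit 37), (nat_lit 29), (nat_lit 33), (nat_lit 31), (nat_lit 33), (nat_lit 31), (nat_lit 33), (nat_lit 29), (nat_lit 29), (nat_lit 33), (nat_lit 29), (nat_lit 37), (nat_lit 29), (nat_lit 33), (nat_lit 31), (nat_lit 33), (nat_lit 29), (nat_lit 37), (nat_lit 33), (nat_lit 29), (nat_lit 29), (nat_lit 33), (nat_lit 0xd33d8eb000011)],
  [(nat_lit 3), (nat_lit 0xbf000013), (nat_lit 33), (nat_lit 31), (nat_lit 33), (nat_lit 29), (nat_lit 33), (nat_lit 37), (nat_lit 29), (nat_lit 33), (nat_lit 29), (nat_lit 29), (nat_lit 33), (nat_lit 29), (nat_lit 33), (nat_lit 29), (nat_lit 33), (nat_lit 29), (nat_lit 33), (nat_lit 31), (nat_lit 37), (nat_lit 33), (nat_lit 29), (nat_lit 33), (nat_lit 31), (nat_lit 33), (nat_lit 0x434bd33504000011)],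
  [(nat_lit 3), (nat_lit 0x2f4bf000013), (nat_lit 31), (nat_lit 33), (nat_lit 29), (nat_lit 33), (nat_lit 31), (nat_lit 33), (nat_lit 31), (nat_lit 33), (nat_lit 37), (nat_lit 29), (nat_lit 33), (nat_lit 29), (nat_lit 33), (nat_lit 31), (nat_lit 33), (nat_lit 29), (nat_lit 33), (nat_lit 31), (nat_lit 37), (nat_lit 33), (nat_lit 29), (nat_lit 33), (nat_lit 31), (nat_lit 33), (nat_lit 31), (nat_lit 0x2fccd3f511000011)],
  [(nat_lit 5), (nat_lit 0x304be000013), (nat_lit 29), (nat_lit 33), (nat_lit 29), (nat_lit 33), (nat_lit 29), (nat_lit 33), (nat_lit 29), (nat_lit 33), (nat_lit 29), (nat_lit 33), (nat_lit 29), (nat_lit 33), (nat_lit 37), (nat_lit 31), (nat_lit 33), (nat_lit 37), (nat_lit 31), (nat_lit 33), (nat_lit 29), (nat_lit 29), (nat_lit 33), (nat_lit 29), (nat_lit 33), (nat_lit 31), (nat_lit 33), (nat_lit 0x43cf234cfe00000d), (nat_lit 97), (nat_lit 121), (nat_lit 91), (nat_lit 123), (nat_lit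 0xc83c8d2444c40000b5)],
  [(nat_lit 5), (nat_lit 0x344ed3ccfb000013), (nat_lit 31), (nat_lit 33), (nat_lit 29), (nat_lit 33), (nat_lit 37), (nat_lit 29), (nat_lit 33), (nat_lit 37), (nat_lit 29), (nat_lit 33), (nat_lit 29), (nat_lit 33), (nat_lit 37), (nat_lit 29), (nat_lit 33), (nat_lit 29), (nat_lit 33), (nat_lit 29), (nat_lit 33), (nat_lit 31), (nat_lit 33), (nat_lit 31), (nat_lit 33), (nat_lit 31), (nat_lit 33), (nat_lit 0xc9370e330cbe00000d), (nat_lit 103), (nat_lit 121), (nat_lit 105), (nat_lit 123), (nat_lit 105), (nat_lit 103), (nat_lit 0xbe448ef3d4c50000b5)],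
  [(nat_lit 4), (nat_lit 19), (nat_lit 33), (nat_lit 29), (nat_lit 29), (nat_lit 33), (nat_lit 29), (nat_lit 37), (nat_lit 29), (nat_lit 33), (nat_lit 31), (nat_lit 33), (nat_lit 29), (nat_lit 33), (nat_lit 29), (nat_lit 33), (nat_lit 37), (nat_lit 29), (nat_lit 33), (nat_lit 37), (nat_lit 29), (nat_lit 33), (nat_lit 31), (nat_lit 0xca30ccd418bf000011)],
  [(nat_lit 4), (nat_lit 0x2f4bd000013), (nat_lit 29), (nat_lit 37), (nat_lit 29), (nat_lit 33), (nat_lit 29), (nat_lit 33), (nat_lit 29), (nat_lit 37), (nat_lit 29), (nat_lit 33), (nat_lit 37), (nat_lit 29), (nat_lit 33), (nat_lit 29), (nat_lit 37), (nat_lit 29), (nat_lit 33), (nat_lit 31), (nat_lit 37), (nat_lit 29), (nat_lit 33), (nat_lit 0xbe3e90a37cc6000011)],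
  [(nat_lit 4), (nat_lit 0xbe000013), (nat_lit 29), (nat_lit 33), (nat_lit 31), (nat_lit 33), (nat_lit 37), (nat_lit 29), (nat_lit 33), (nat_lit 37), (nat_lit 29), (nat_lit 33), (nat_lit 37), (nat_lit 29), (nat_lit 33), (nat_lit 29), (nat_lit 33), (nat_lit 29), (nat_lit 29), (nat_lit 33), (nat_lit 29), (nat_lit 0xbf3d8d042cbd000011)],
  [(nat_lit 1), (nat_lit 0xc340d0c334c1000017), (nat_lit 57), (nat_lit 61), (nat_lit 53), (nat_lit 79), (nat_lit 63), (nat_lit 59), (nat_lit 77), (nat_lit 55), (nat_lit 21)],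
  [(nat_lit 1), (nat_lit 0x318e83fcf4000017), (nat_lit 53), (nat_lit 77), (nat_lit 69), (nat_lit 69), (nat_lit 63), (nat_lit 57), (nat_lit 71), (nat_lit 21)],
  [(nat_lit 1), (nat_lit 0xbd3acde430c3000017), (nat_lit 71), (nat_lit 55), (nat_lit 79), (nat_lit 55), (nat_lit 55), (nat_lit 71), (nat_lit 71), (nat_lit 57), (nat_lit 21)],
  [(nat_lit 3), (nat_lit 0xc332ceb368c3000051), (nat_lit 53), (nat_lit 63), (nat_lit 57), (nat_lit 77), (nat_lit 53), (nat_lit 77), (nat_lit 69), (nat_lit 57), (nat_lit 53), (nat_lit 0x39ccf40903000015)],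
  [(nat_lit 0x44d2150d3f44c01), (nat_lit 0x404fe388c80000ef), (nat_lit 61), (nat_lit 59), (nat_lit 77), (nat_lit 77), (nat_lit 63), (nat_lit 59), (nat_lit 61), (nat_lit 0xbd32ced3a4bd000015)],
  [(nat_lit 5), (nat_lit 0x2f4c7384cb00000f), (nat_lit 31), (nat_lit 33), (nat_lit 29), (nat_lit 33), (nat_lit 29), (nat_lit 33), (nat_lit 29), (nat_lit 33), (nat_lit 29), (nat_lit 37), (nat_lit 31), (nat_lit 33), (nat_lit 31), (nat_lit 33), (nat_lit 37), (nat_lit 29), (nat_lit 33), (nat_lit 37), (nat_lit 31), (nat_lit 37), (nat_lit 0x358d4324df000009), (nat_lit 63), (nat_lit 79), (nat_lit 53), (nat_lit 69), (nat_lit 79), (nat_lit 63), (nat_lit 57), (nat_lit 57), (nat_lit 0xcc3d4bf394d5000015)],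
  [(nat_lit 0xad11235265495f585364e401), (nat_lit 0x31cef418db0000f7), (nat_lit 93), (nat_lit 89), (nat_lit 115), (nat_lit 95), (nat_lit 97), (nat_lit 0x4250b380e30000f5)],
  [(nat_lit 3), (nat_lit 0xc9330e03a4c5000099), (nat_lit 89), (nat_lit 89), (nat_lit 121), (nat_lit 109), (nat_lit 93), (nat_lit 123), (nat_lit 0xc443cec404c10000f5)],
  [(nat_lit 5), (nat_lit 0x3fcf54050e000099), (nat_lit 93), (nat_lit 91), (nat_lit 103), (nat_lit 121), (nat_lit 121), (nat_lit 91), (nat_lit 0x418fd43cd8000089), (nat_lit 111), (nat_lit 121), (nat_lit 115), (nat_lit 123), (nat_lit 103), (nat_lit 0x3c902445030000f5)],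
  [(nat_lit 5), (nat_lit 0x440ef3a0cd0000bd), (nat_lit 161), (nat_lit 167), (nat_lit 177), (nat_lit 163), (nat_lit 169), (nat_lit 0xbd3d8e6340c60000bb), (nat_lit 89), (nat_lit 89), (nat_lit 95), (nat_lit 123), (nat_lit 99), (nat_lit 0xc637ccc3e4bf000101)],
  [(nat_lit 5), (nat_lit 0xbd334bf000013), (nat_lit 37), (nat_lit 29), (nat_lit 33), (nat_lit 29), (nat_lit 37), (nat_lit 29), (nat_lit 33), (nat_lit 29), (nat_lit 33), (nat_lit 29), (nat_lit 33), (nat_lit 29), (nat_lit 33), (nat_lit 29), (nat_lit 33), (nat_lit 29), (nat_lit 29), (nat_lit 33), (nat_lit 29), (nat_lit 33), (nat_lit 0x428d33c8dd00000d), (nat_lit 89), (nat_lit 109), (nat_lit 123), (nat_lit 101), (nat_lit 123), (nat_lit 113), (nat_lit 0xbf380ee30cc5000101)],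
  [(nat_lit 5), (nat_lit 0xbd2f4c1000013), (nat_lit 37), (nat_lit 29), (nat_lit 33), (nat_lit 29), (nat_lit 29), (nat_lit 33), (nat_lit 29), (nat_lit 33), (nat_lit 31), (nat_lit 33), (nat_lit 37), (nat_lit 29), (nat_lit 33), (nat_lit 29), (nat_lit 29), (nat_lit 33), (nat_lit 29), (nat_lit 33), (nat_lit 31), (nat_lit 33), (nat_lit 31), (nat_lit 33), (nat_lit 0x3f8e241cf900000d), (nat_lit 89), (nat_lit 123), (nat_lit 97), (nat_lit 95), (nat_lit 121), (nat_lit 111), (nat_lit 0xc13e8ec41cbe000101)],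
  [(nat_lit 5), (nat_lit 0xbf31cbf000013), (nat_lit 31), (nat_lit 33), (nat_lit 29), (nat_lit 37), (nat_lit 29), (nat_lit 33), (nat_lit 29), (nat_lit 37), (nat_lit 29), (nat_lit 33), (nat_lit 37), (nat_lit 31), (nat_lit 33), (nat_lit 31), (nat_lit 33), (nat_lit 37), (nat_lit 31), (nat_lit 33), (nat_lit 29), (nat_lit 37), (nat_lit 33), (nat_lit 29), (nat_lit 33), (nat_lit 31), (nat_lit 0xc33b8ff360c4000011), (nat_lit 159), (nat_lit 171), (nat_lit 167), (nat_lit 169), (nat_lit 0xc8408dd3e8bf000109)],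
  [(nat_lit 5), (nat_lit 0xbd30cc8000013), (nat_lit 31), (nat_lit 33), (nat_lit 29), (nat_lit 33), (nat_lit 37), (nat_lit 29), (nat_lit 33), (nat_lit 37), (nat_lit 29), (nat_lit 33), (nat_lit 29), (nat_lit 33), (nat_lit 37), (nat_lit 29), (nat_lit 33), (nat_lit 29), (nat_lit 33), (nat_lit 29), (nat_lit 33), (nat_lit 31), (nat_lit 33), (nat_lit 31), (nat_lit 33), (nat_lit 31), (nat_lit 33), (nat_lit 0x40ce3400ca00000d), (nat_lit 89), (nat_lit 121), (nat_lit 99), (nat_lit 123), (nat_lit 91), (nat_lit 99), (nat_lit 0x3a4d83f8e30000f5)],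
  [(nat_lit 3), (nat_lit 23), (nat_lit 77), (nat_lit 69), (nat_lit 61), (nat_lit 57), (nat_lit 77), (nat_lit 69), (nat_lit 69), (nat_lit 0xc5420ef440be000015)],
  [(nat_lit 3), (nat_lit 0x2f4bf000017), (nat_lit 53), (nat_lit 71), (nat_lit 71), (nat_lit 63), (nat_lit 79), (nat_lit 55), (nat_lit 77), (nat_lit 61), (nat_lit 0xc133d0942cc3000015)],
  [(nat_lit 3), (nat_lit 0x2f4c1000017), (nat_lit 79), (nat_lit 55), (nat_lit 59), (nat_lit 79), (nat_lit 55), (nat_lit 69), (nat_lit 63), (nat_lit 53), (nat_lit 0x3ecdd32cf8000015)],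
  [(nat_lit 3), (nat_lit 0xc4324cf000017), (nat_lit 61), (nat_lit 61), (nat_lit 71), (nat_lit 71), (nat_lit 59), (nat_lit 79), (nat_lit 59), (nat_lit 69), (nat_lit 0x370fa3550d000015)]]
noncomputable def R1 : List (List ℕ) :=
  [[(nat_lit 3), (nat_lit 0xc431cbf000017), (nat_lit 57), (nat_lit 57), (nat_lit 71), (nat_lit 71), (nat_lit 57), (nat_lit 79), (nat_lit 59), (nat_lit 69), (nat_lit 0x30cd7380d0000015)],
  [(nat_lit 5), (nat_lit 0x30cd0000017), (nat_lit 79), (nat_lit 71), (nat_lit 79), (nat_lit 53), (nat_lit 53), (nat_lit 69), (nat_lit 79), (nat_lit 0xc54210a41cc7000015), (nat_lit 225), (nat_lit 229), (nat_lit 225), (nat_lit 243), (nat_lit 227), (nat_lit 0xcc324d03ecbf000119)],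
  [(nat_lit 5), (nat_lit 0xbd30cce000017), (nat_lit 53), (nat_lit 57), (nat_lit 79), (nat_lit 63), (nat_lit 77), (nat_lit 57), (nat_lit 77), (nat_lit 55), (nat_lit 57), (nat_lit 0x305043cd10000015), (nat_lit 225), (nat_lit 231), (nat_lit 227), (nat_lit 241), (nat_lit 241), (nat_lit 249), (nat_lit 0x420d0448dd000119)],
  [(nat_lit 5), (nat_lit 0x2f4bf354c9000017), (nat_lit 77), (nat_lit 63), (nat_lit 59), (nat_lit 53), (nat_lit 79), (nat_lit 61), (nat_lit 61), (nat_lit 0xcc32103378e9000081), (nat_lit 105), (nat_lit 111), (nat_lit 113), (nat_lit 121), (nat_lit 95), (nat_lit 0x31d04344eb000101)],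
  [(nat_lit 5), (nat_lit 0x398f840ced000017), (nat_lit 77), (nat_lit 63), (nat_lit 59), (nat_lit 53), (nat_lit 79), (nat_lit 61), (nat_lit 61), (nat_lit 0x3fd08350c6000081), (nat_lit 111), (nat_lit 113), (nat_lit 109), (nat_lit 123), (nat_lit 123), (nat_lit 0xbe410e73b8bf000101)],
  [(nat_lit 5), (nat_lit 0xc4354c9000017), (nat_lit 79), (nat_lit 53), (nat_lit 77), (nat_lit 71), (nat_lit 71), (nat_lit 79), (nat_lit 79), (nat_lit 0x315103b902000081), (nat_lit 89), (nat_lit 115), (nat_lit 105), (nat_lit 121), (nat_lit 105), (nat_lit 0xcb3acbd3e4c3000101)],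
  [(nat_lit 4), (nat_lit 0x2f8bf000017), (nat_lit 53), (nat_lit 57), (nat_lit 63), (nat_lit 59), (nat_lit 53), (nat_lit 57), (nat_lit 63), (nat_lit 0x320e9378c3000015)],
  [(nat_lit 1), (nat_lit 0xbe3ece0304c300001b), (nat_lit 93), (nat_lit 113), (nat_lit 109), (nat_lit 121), (nat_lit 113), (nat_lit 25)],
  [(nat_lit 1), (nat_lit 0x338f341cf300001b), (nat_lit 91), (nat_lit 105), (nat_lit 95), (nat_lit 121), (nat_lit 97), (nat_lit 25)],
  [(nat_lit 5), (nat_lit 0x2f4c400000f), (nat_lit 31), (nat_lit 33), (nat_lit 31), (nat_lit 33), (nat_lit 29), (nat_lit 37), (nat_lit 29), (nat_lit 33), (nat_lit 37), (nat_lit 31), (nat_lit 33), (nat_lit 29), (nat_lit 33), (nat_lit 29), (nat_lit 33), (nat_lit 29), (nat_lit 29), (nat_lit 33), (nat_lit 37), (nat_lit 29), (nat_lit 29), (nat_lit 33), (nat_lit 29), (nat_lit 37), (nat_lit 33), (nat_lit 0xc532104354d000000d), (nat_lit 91), (nat_lit 103), (nat_lit 123), (nat_lit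 99), (nat_lit 111), (nat_lit 0xc1338f7448c1000019)],
  [(nat_lit 0x14854d6050401), (nat_lit 0x3ccd63c11200014f), (nat_lit 93), (nat_lit 121), (nat_lit 109), (nat_lit 121), (nat_lit 105), (nat_lit 0x3c8fd428eb000019)],
  [(nat_lit 5), (nat_lit 0xcf350cf000013), (nat_lit 33), (nat_lit 29), (nat_lit 33), (nat_lit 31), (nat_lit 33), (nat_lit 29), (nat_lit 29), (nat_lit 33), (nat_lit 31), (nat_lit 33), (nat_lit 29), (nat_lit 29), (nat_lit 33), (nat_lit 31), (nat_lit 33), (nat_lit 29), (nat_lit 33), (nat_lit 29), (nat_lit 37), (nat_lit 29), (nat_lit 33), (nat_lit 29), (nat_lit 33), (nat_lit 0x358e0438e200000d), (nat_lit 91), (nat_lit 105), (nat_lit 121), (nat_lit 115), (nat_lit 121), (nat_lit 109), (nat_lit 0xc435511420be000019)],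
  [(nat_lit 5), (nat_lit 0xc8000013), (nat_lit 31), (nat_lit 33), (nat_lit 29), (nat_lit 33), (nat_lit 31), (nat_lit 33), (nat_lit 29), (nat_lit 33), (nat_lit 29), (nat_lit 37), (nat_lit 29), (nat_lit 33), (nat_lit 37), (nat_lit 31), (nat_lit 33), (nat_lit 29), (nat_lit 33), (nat_lit 31), (nat_lit 37), (nat_lit 33), (nat_lit 29), (nat_lit 33), (nat_lit 31), (nat_lit 33), (nat_lit 0x334cf3711200000d), (nat_lit 91), (nat_lit 95), (nat_lit 99), (nat_lit 121), (nat_lit 97), (nat_lit 0x2fcde400d0000019)],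
  [(nat_lit 5), (nat_lit 0xd62fcce000013), (nat_lit 29), (nat_lit 33), (nat_lit 29), (nat_lit 29), (nat_lit 33), (nat_lit 29), (nat_lit 33), (nat_lit 29), (nat_lit 29), (nat_lit 33), (nat_lit 37), (nat_lit 29), (nat_lit 33), (nat_lit 29), (nat_lit 33), (nat_lit 37), (nat_lit 31), (nat_lit 33), (nat_lit 29), (nat_lit 37), (nat_lit 33), (nat_lit 31), (nat_lit 33), (nat_lit 29), (nat_lit 33), (nat_lit 31), (nat_lit 0x310d9448f300000d), (nat_lit 89), (nat_lit 97), (nat_lit 101), (nat_lit 109), (nat_lit 105), (nat_lit 0x35910334e7000019)],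
  [(nat_lit 5), (nat_lit 0x2f4bf000017), (nat_lit 61), (nat_lit 61), (nat_lit 57), (nat_lit 77), (nat_lit 71), (nat_lit 77), (nat_lit 63), (nat_lit 79), (nat_lit 0x310f141ce0000081), (nat_lit 89), (nat_lit 89), (nat_lit 93), (nat_lit 123), (nat_lit 93), (nat_lit 0x31d0c358c3000019)],
  [(nat_lit 5), (nat_lit 0x2fcbe000017), (nat_lit 55), (nat_lit 61), (nat_lit 71), (nat_lit 59), (nat_lit 77), (nat_lit 77), (nat_lit 59), (nat_lit 63), (nat_lit 53), (nat_lit 0x30cd142110000081), (nat_lit 97), (nat_lit 111), (nat_lit 123), (nat_lit 91), (nat_lit 121), (nat_lit 105), (nat_lit 0xc8360f8304c5000019)],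
  [(nat_lit 5), (nat_lit 0xd0000017), (nat_lit 55), (nat_lit 57), (nat_lit 57), (nat_lit 55), (nat_lit 79), (nat_lit 79), (nat_lit 79), (nat_lit 57), (nat_lit 0x334fc438d7000015), (nat_lit 227), (nat_lit 235), (nat_lit 243), (nat_lit 233), (nat_lit 241), (nat_lit 0xbe434f8404dc000165)],
  [(nat_lit 3), (nat_lit 0xbd00001b), (nat_lit 93), (nat_lit 101), (nat_lit 113), (nat_lit 123), (nat_lit 123), (nat_lit 95), (nat_lit 0x420c4440fe000019)],
  [(nat_lit 3), (nat_lit 0x2f4bd00001b), (nat_lit 105), (nat_lit 121), (nat_lit 97), (nat_lit 123), (nat_lit 113), (nat_lit 0xc83e0d636cc7000019)],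
  [(nat_lit 3), (nat_lit 0x2fcc100001b), (nat_lit 89), (nat_lit 105), (nat_lit 123), (nat_lit 105), (nat_lit 113), (nat_lit 121), (nat_lit 0x340ce310f5000019)],
  [(nat_lit 3), (nat_lit 0xc400001b), (nat_lit 99), (nat_lit 111), (nat_lit 123), (nat_lit 123), (nat_lit 123), (nat_lit 0xbd408f136cc1000019)],
  [(nat_lit 3), (nat_lit 0xc300001b), (nat_lit 91), (nat_lit 101), (nat_lit 93), (nat_lit 123), (nat_lit 123), (nat_lit 0x340fc440cf000019)],
  [(nat_lit 5), (nat_lit 0x3f8e8388f800001b), (nat_lit 89), (nat_lit 89), (nat_lit 123), (nat_lit 93), (nat_lit 109), (nat_lit 103), (nat_lit 0xc93c8e93e8d8000101), (nat_lit 231), (nat_lit 225), (nat_lit 229), (nat_lit 225), (nat_lit 0xc8428d53d4bf000161)],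
  [(nat_lit 0), (nat_lit 31), (nat_lit 33), (nat_lit 29), (nat_lit 33), (nat_lit 29), (nat_lit 33), (nat_lit 31), (nat_lit 33), (nat_lit 29), (nat_lit 33), (nat_lit 29), (nat_lit 33), (nat_lit 37), (nat_lit 31), (nat_lit 33), (nat_lit 29), (nat_lit 29), (nat_lit 33), (nat_lit 31), (nat_lit 37), (nat_lit 33), (nat_lit 31), (nat_lit 33), (nat_lit 29)],
  [(nat_lit 0), (nat_lit 31), (nat_lit 33), (nat_lit 37), (nat_lit 31), (nat_lit 33), (nat_lit 29), (nat_lit 33), (nat_lit 37), (nat_lit 29), (nat_lit 33), (nat_lit 31), (nat_lit 33), (nat_lit 31), (nat_lit 33), (nat_lit 37), (nat_lit 31), (nat_lit 33), (nat_lit 29), (nat_lit 29), (nat_lit 33), (nat_lit 29), (nat_lit 37)],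
  [(nat_lit 0), (nat_lit 33), (nat_lit 29), (nat_lit 33), (nat_lit 29), (nat_lit 33), (nat_lit 29), (nat_lit 33), (nat_lit 29), (nat_lit 33), (nat_lit 37), (nat_lit 29), (nat_lit 33), (nat_lit 31), (nat_lit 33), (nat_lit 37), (nat_lit 29), (nat_lit 33), (nat_lit 31), (nat_lit 33), (nat_lit 31), (nat_lit 33), (nat_lit 29), (nat_lit 33), (nat_lit 29), (nat_lit 29)],
  [(nat_lit 2), (nat_lit 7)],
  [(nat_lit 2), (nat_lit 13)],
  [(nat_lit 2), (nat_lit 0x310c63d8bf000031)],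
  [(nat_lit 2), (nat_lit 9)],
  [(nat_lit 2), (nat_lit 17)],
  [(nat_lit 2), (nat_lit 0xcd354f3424bd00002d)],
  [(nat_lit 2), (nat_lit 0x420db3a0f8000029)],
  [(nat_lit 0), (nat_lit 63), (nat_lit 57), (nat_lit 53), (nat_lit 61), (nat_lit 69), (nat_lit 55), (nat_lit 71)],
  [(nat_lit 0), (nat_lit 71), (nat_lit 53), (nat_lit 63), (nat_lit 77), (nat_lit 55), (nat_lit 69), (nat_lit 61)],
  [(nat_lit 0), (nat_lit 55), (nat_lit 57), (nat_lit 63), (nat_lit 59), (nat_lit 55), (nat_lit 61), (nat_lit 77), (nat_lit 71)],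
  [(nat_lit 2), (nat_lit 11)],
  [(nat_lit 2), (nat_lit 0xc3444f7360be000081)],
  [(nat_lit 2), (nat_lit 21)],
  [(nat_lit 2), (nat_lit 0xc142cc1414be000055)],
  [(nat_lit 2), (nat_lit 0x414f22f4fa000051)],
  [(nat_lit 2), (nat_lit 0x420db3a0f800007d)],
  [(nat_lit 0), (nat_lit 111), (nat_lit 123), (nat_lit 93), (nat_lit 111), (nat_lit 101), (nat_lit 121)],
  [(nat_lit 0), (nat_lit 93), (nat_lit 115), (nat_lit 121), (nat_lit 89), (nat_lit 121)],
  [(nat_lit 0), (nat_lit 89), (nat_lit 97), (nat_lit 101), (nat_lit 123), (nat_lit 105), (nat_lit 123)],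
  [(nat_lit 2), (nat_lit 15)],
  [(nat_lit 2), (nat_lit 0xcd304cc340bf000101)],
  [(nat_lit 2), (nat_lit 0x39ce1440f0000099)],
  [(nat_lit 2), (nat_lit 25)],
  [(nat_lit 2), (nat_lit 0x3e8c53acd4000095)],
  [(nat_lit 2), (nat_lit 0x4250b380e30000f5)],
  [(nat_lit 2), (nat_lit 0xc93bcf83e0cb000085)],
  [(nat_lit 2), (nat_lit 0xbe41cf8414be0000b9)],
  [(nat_lit 2), (nat_lit 0x3250c374f1000089)],
  [(nat_lit 2), (nat_lit 0x414f22f4fa0000b5)],
  [(nat_lit 2), (nat_lit 0x3550d30d0c0000bd)],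
  [(nat_lit 2), (nat_lit 0x3a90634cdb000083)],
  [(nat_lit 2), (nat_lit 0x2f8db41cfc00008d)],
  [(nat_lit 2), (nat_lit 0x358e3310ec000105)],
  [(nat_lit 2), (nat_lit 0x394df370da0000fd)],
  [(nat_lit 2), (nat_lit 0x310f7318e8000091)],
  [(nat_lit 2), (nat_lit 0x36102360d200007f)],
  [(nat_lit 0), (nat_lit 171), (nat_lit 179), (nat_lit 165), (nat_lit 163)],
  [(nat_lit 0), (nat_lit 161), (nat_lit 179), (nat_lit 171), (nat_lit 167), (nat_lit 171)],
  [(nat_lit 0), (nat_lit 177), (nat_lit 161), (nat_lit 161), (nat_lit 171)],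
  [(nat_lit 2), (nat_lit 19)],
  [(nat_lit 2), (nat_lit 0xc7374f1390c800010d)],
  [(nat_lit 2), (nat_lit 0x3e0e0444ed000115)],
  [(nat_lit 2), (nat_lit 0xc83ece23d0bf0000dd)],
  [(nat_lit 2), (nat_lit 0x3410a354ee000155)],
  [(nat_lit 2), (nat_lit 0xcc404fa418c400015d)],
  [(nat_lit 2), (nat_lit 0xc43a9033b0bd000111)],
  [(nat_lit 2), (nat_lit 0xbf440ee3a0c30000d1)],
  [(nat_lit 2), (nat_lit 0xc43ece6400bd0000cd)],
  [(nat_lit 2), (nat_lit 0x368de418d1000109)],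
  [(nat_lit 2), (nat_lit 0x330ec35110000159)],
  [(nat_lit 2), (nat_lit 0x31d0b40cf30000c5)],
  [(nat_lit 2), (nat_lit 0xcd354f3424bd0000d5)],
  [(nat_lit 2), (nat_lit 0x414f22f4fa0000c1)],
  [(nat_lit 2), (nat_lit 0xcd34cd93e0bf0000d9)],
  [(nat_lit 2), (nat_lit 0x2f5024110b0000bf)],
  [(nat_lit 2), (nat_lit 0x39ccf3b8ef0000bb)],
  [(nat_lit 2), (nat_lit 0x41cc5434de0000b7)],
  [(nat_lit 2), (nat_lit 0xbe41cf8414be0000c9)],
  [(nat_lit 0), (nat_lit 227), (nat_lit 241), (nat_lit 241), (nat_lit 227), (nat_lit 249)],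
  [(nat_lit 0), (nat_lit 225), (nat_lit 249), (nat_lit 235), (nat_lit 241), (nat_lit 225)],
  [(nat_lit 0), (nat_lit 225), (nat_lit 229), (nat_lit 229), (nat_lit 241), (nat_lit 225), (nat_lit 249)],
  [(nat_lit 2), (nat_lit 23)],
  [(nat_lit 2), (nat_lit 0xcc4410d3e4bf0000f7)],
  [(nat_lit 2), (nat_lit 0x368e0408c7000117)],
  [(nat_lit 2), (nat_lit 0x304e83b4f2000161)],
  [(nat_lit 2), (nat_lit 0x31cf4428eb000129)],
  [(nat_lit 2), (nat_lit 0x3210a420e4000141)],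
  [(nat_lit 2), (nat_lit 0x438d93d510000103)],
  [(nat_lit 2), (nat_lit 0xcc3c509324bf000165)],
  [(nat_lit 2), (nat_lit 0x3890b39ce9000113)],
  [(nat_lit 2), (nat_lit 0xc7334d1438c600012d)],
  [(nat_lit 2), (nat_lit 0xc63e50e33cc900010b)],
  [(nat_lit 2), (nat_lit 0x3ad0035505000131)],
  [(nat_lit 2), (nat_lit 0x328fb380e5000135)],
  [(nat_lit 2), (nat_lit 0x420db3a0f8000119)],
  [(nat_lit 2), (nat_lit 0x40cfe418f100013d)],
  [(nat_lit 2), (nat_lit 0x30cca39912000169)],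
  [(nat_lit 2), (nat_lit 0xbe41cf8414be00011d)],
  [(nat_lit 2), (nat_lit 0x3050c350d4000121)],
  [(nat_lit 2), (nat_lit 0xc443cfd3ccc6000107)],
  [(nat_lit 2), (nat_lit 0x3f507378c9000139)],
  [(nat_lit 2), (nat_lit 0x414d7358d700010f)],
  [(nat_lit 2), (nat_lit 0x40cfd4490f000125)],
  [(nat_lit 2), (nat_lit 0x448c73e0d70000ff)],
  [(nat_lit 0), (nat_lit 325), (nat_lit 331), (nat_lit 337), (nat_lit 327), (nat_lit 339), (nat_lit 325), (nat_lit 339), (nat_lit 325), (nat_lit 339), (nat_lit 327)],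
  [(nat_lit 0), (nat_lit 325), (nat_lit 331), (nat_lit 337), (nat_lit 327), (nat_lit 337), (nat_lit 325), (nat_lit 337), (nat_lit 325), (nat_lit 339)],
  [(nat_lit 0), (nat_lit 325), (nat_lit 331), (nat_lit 337), (nat_lit 325), (nat_lit 337), (nat_lit 327), (nat_lit 337), (nat_lit 325), (nat_lit 337), (nat_lit 325), (nat_lit 337)],
  [(nat_lit 2), (nat_lit 27)],
  [(nat_lit 2), (nat_lit 0xcb3910a37cce00015f)],
  [(nat_lit 2), (nat_lit 0x384fb440cb000171)],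
  [(nat_lit 2), (nat_lit 0xca3ecfb448be000181)],
  [(nat_lit 2), (nat_lit 0x32ced348bf000167)],
  [(nat_lit 2), (nat_lit 0x32cf82fce500017d)],
  [(nat_lit 2), (nat_lit 0x2f8db41cfc000179)],
  [(nat_lit 2), (nat_lit 0xcb41d1138cda000175)],
  [(nat_lit 2), (nat_lit 0x358c530d06000163)],
  [(nat_lit 2), (nat_lit 0x2fce931ce700016b)],
  [(nat_lit 2), (nat_lit 0x3b50537ccc00015b)],
  [(nat_lit 2), (nat_lit 0x3d50b344c1000157)],
  [(nat_lit 2), (nat_lit 0x414f22f4fa00016d)]]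
noncomputable def pr : List (ℕ × ℕ × List ℕ × List ℕ) :=
  [(1, 14, [2, 0, 2, 0, 3, 0, 3, 0, 2, 0, 2, 0, 2], [3, 1, 3, 1, 3, 1, 2, 1, 2, 1, 3, 1, 3]), (2, 2, [0], [1]), (5, 0, [3, 0, 2, 0, 2, 0, 2, 0, 3, 0, 4, 1, 2, 1, 3, 1, 3, 1, 3, 1, 2], [3, 0, 2, 0, 2, 0, 2, 0, 3, 0, 5, 1, 2, 1, 3, 1, 3, 3, 0, 2, 0, 2, 0, 2, 0, 2, 1, 2, 1, 3, 1, 3, 1, 2, 1, 3, 1, 3, 1, 3, 1, 2, 1, 3, 1, 2, 1, 2, 1, 2, 1, 3, 1, 3, 1, 2, 1, 3, 1, 3, 1, 3, 1, 3])]
noncomputable def ex : List (List ℕ) :=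
  [[191, 189, 191], [193, 189, 191], [194, 194, 188], [196, 190, 193], [195, 196, 201], [198, 201, 201], [197, 188], [204, 202], [202, 192], [207, 188], [209, 206], [215, 208], [209, 197], [216, 211], [219, 211], [214, 191], [219, 216], [225, 208], [227, 211], [222, 205], [229, 210], [225, 215], [228, 202], [237, 231], [241, 205], [239, 215], [235, 226], [241, 241], [245, 236], [245, 218], [253, 222], [249, 218], [246, 231], [252, 205], [255, 233], [258, 251], [265, 228], [260, 262], [266, 251], [263, 200]]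
noncomputable def M : ℕ :=
  (nat_lit 0x7f)
noncomputable def o1 : Cov :=
  ⟨1, [97, 98, 99], [0, 2, 1, 0, 2, 1, 0, 2, 1, 0, 2, 1, 0, 2, 1, 0, 2, 0, 0],
  [200, 202, 210, 204, 212, 206, 208], 15180⟩
noncomputable def o2 : Cov :=
  ⟨2, [107, 108, 109], [0, 1, 2, 0, 1, 2, 0, 1, 2, 0, 1, 2, 0, 1, 2, 0, 1, 2, 0],
  [220, 224, 222, 226, 230, 228], 28336⟩
noncomputable def o3 : Cov :=
  ⟨3, [116, 117, 118], [2, 0, 1, 2, 0, 1, 2, 0, 1, 2, 0, 1, 2, 0, 1, 2, 0, 0],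
  [238, 260, 264, 258, 242, 270, 244, 266, 262, 252, 248, 268, 256, 246, 250, 240, 254], 3400320⟩
noncomputable def o4 : Cov :=
  ⟨4, [136, 137, 138], [0, 2, 1, 0, 2, 0, 2, 1, 0, 2, 0, 2, 1, 0, 2, 1, 0, 2, 1],
  [278, 302, 296, 282, 292, 284, 308, 314, 310, 288, 306, 294, 290, 298, 304, 312, 300, 286, 280], 32643072⟩
noncomputable def o5 : Cov :=
  ⟨5, [158, 159, 160], [1, 0, 2, 1, 0, 2, 1, 0, 2, 1, 0, 2, 1, 0, 2, 1, 0, 1],
  [322, 338, 346, 364, 366, 324, 336, 328, 360, 358, 326, 348, 350, 344, 354, 342, 332, 340, 334, 362, 352, 330, 356], 54405120⟩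
noncomputable def o6 : Cov :=
  ⟨6, [184, 185, 186], [0, 1, 2, 0, 1, 2, 0, 1, 2, 0, 1, 2, 0, 1, 2, 0, 0],
  [374, 378, 392, 394, 396, 382, 388, 390, 376, 384, 386, 398, 380], 82575360⟩
noncomputable def os : List Cov :=
  [o1, o2, o3, o4, o5, o6]
noncomputable def reps : List (List ℕ) :=
  [[0],
  [0, 13, 0],
  [0, 5, 0],
  [0, 17, 0],
  [0, 4, 0, 13, 0],
  [0, 11, 0, 5, 0]]

theorem z0 : C.L = mkL C.al C.be J4DA.rels [(3, 9), (6, 12), (4, 21)] := by decide +kernel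
theorem z1 : C.recs R0 74 0 = true := by decide +kernel
theorem z2 : C.recs R1 200 74 = true := by decide +kernel
theorem z3 : (J4DA.rels.getD 0 []).rotate 0 = 0 :: (sh C.al ++ 0 :: sh C.be) := by decide +kernel
theorem z4 : pairR CL.J4DS.chk J4DA.rels 86 pr 194 188 = true := by decide +kernel
theorem z5 : pairB CL.J4DS.chk 188 86 ex 274 194 = true := by decide +kernel
theorem z6 : lamB CL.J4DK.P CL.J4DK.ns CL.J4DS.chk 13 188 274 [[188], [190], [192]] [[2, 6, 14, 0, 11, 2], [0], [2, 15, 4, 14, 3]] [[0], [2], [4]] (sg (W (nat_lit 0x4030040300403004030040300403004030040300403004030040300403004030040300403004030040300403004030040500c0100c0101403))) = true := by decide +kernel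
theorem z7 : o1.ok C 200 CL.J4DK.P.n CL.J4DK.P.N 26 M CL.J4DK.ns = true := by decide +kernel
theorem z8 : CL.J4DS.chk (zp [] [[408], [410], [412]] (o1.sw C)) = true := by decide +kernel
theorem z9 : o2.ok C 200 CL.J4DK.P.n CL.J4DK.P.N 26 M CL.J4DK.ns = true := by decide +kernel
theorem z10 : CL.J4DS.chk (zp [] [[472], [474], [476]] (o2.sw C)) = true := by decide +kernel
theorem z11 : o3.ok C 200 CL.J4DK.P.n CL.J4DK.P.N 26 M CL.J4DK.ns = true := by decide +kernel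
theorem z12 : CL.J4DS.chk (zp [] [[504], [506], [508]] (o3.sw C)) = true := by decide +kernel
theorem z13 : o4.ok C 200 CL.J4DK.P.n CL.J4DK.P.N 26 M CL.J4DK.ns = true := by decide +kernel
theorem z14 : CL.J4DS.chk (zp [] [[522], [524], [526]] (o4.sw C)) = true := by decide +kernel
theorem z15 : o5.ok C 200 CL.J4DK.P.n CL.J4DK.P.N 26 M CL.J4DK.ns = true := by decide +kernel
theorem z16 : CL.J4DS.chk (zp [] [[532], [534], [536]] (o5.sw C)) = true := by decide +kernel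
theorem z17 : o6.ok C 200 CL.J4DK.P.n CL.J4DK.P.N 26 M CL.J4DK.ns = true := by decide +kernel
theorem z18 : CL.J4DS.chk (zp [] [[542], [544], [546]] (o6.sw C)) = true := by decide +kernel
theorem z19 : bnd (invB CL.J4DS.P.N CL.J4DS.ns [[188], [190], [192]] (nat_lit 0x1000000000000000000000000000000000001004000000000)) (bnd (Nat.beq (Nat.land (nat_lit 0x1000000000000000000000000000000000001004000000000) (gathW 0 CL.J4DS.P.N CL.J4DS.ns [4] (nat_lit 0x1000000000000000000000000000000000001004000000000))) (bit 192))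
    (CL.J4DS.P.orbSz CL.J4DS.ns CL.J4DS.D [[0], [2], [4]] (sg (W (nat_lit 0x100c0100c0100c0100c0100c0100c0100c0100c0100c0100c0100c0100c0100c0100c0100c01014030040300403))) 192 CL.J4DS.P.n)) = true := by decide +kernel
theorem z20 : bnd (Nat.beq (C.T.get 1).h 2097153) (bnd (Nat.beq (C.T.get 1).u 0) (tb M 1)) = true := by decide +kernel
theorem z21 : M = maskC os := by decide +kernel
theorem z22 : bnd (Nat.beq (C.T.get 1).i 0) (bnd (Nat.ble (Nat.succ 0) 1) (CL.J4DS.chk [(W (C.T.get 1).u, [])])) = true := by decide +kernel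
theorem z23 : bnd (Nat.beq (C.T.get 2).i 1) (bnd (Nat.ble (Nat.succ 1) 2) (CL.J4DS.chk [(W (C.T.get 2).u, [11])])) = true := by decide +kernel
theorem z24 : bnd (Nat.beq (C.T.get 3).i 1) (bnd (Nat.ble (Nat.succ 1) 3) (CL.J4DS.chk [(W (C.T.get 3).u, [3])])) = true := by decide +kernel
theorem z25 : bnd (Nat.beq (C.T.get 4).i 1) (bnd (Nat.ble (Nat.succ 1) 4) (CL.J4DS.chk [(W (C.T.get 4).u, [15])])) = true := by decide +kernel
theorem z26 : bnd (Nat.beq (C.T.get 5).i 2) (bnd (Nat.ble (Nat.succ 2) 5) (CL.J4DS.chk [(W (C.T.get 5).u, [2])])) = true := by decide +kernel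
theorem z27 : bnd (Nat.beq (C.T.get 6).i 3) (bnd (Nat.ble (Nat.succ 3) 6) (CL.J4DS.chk [(W (C.T.get 6).u, [9])])) = true := by decide +kernel

variable {Γ G X Λ : Type*} [Group Γ] [Group G] [MulAction Γ X] [MulAction Γ Λ] {φ : Γ →* G} {e : ℕ → X} {eL : ℕ → Λ} {g0 gs : List Γ} {t : G}

theorem up {Y : Type*} [MulAction G Y] {gs : List G} {r : Y → G → Y} {q : Y} (S : Sys C gs t r q) : Upto C gs t r q 200 :=
  (S.recs _ (S.recs _ (Upto.zero _ _ _ _ _)
    z1)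
    z2)

theorem L : C.L = mkL C.al C.be J4DA.rels [(3, 9), (6, 12), (4, 21)] := z0

theorem inv {gs : List G} (hr : ∀ r ∈ J4DA.rels, wordG (t :: gs) r = 1) : t⁻¹ = wordG gs C.al * t * wordG gs C.be :=
  inv_of_rel hr _ _ z3

theorem pair {H : Subgroup Γ} (E : Env H g0 gs CL.J4DS.chk) (hr : ∀ r ∈ J4DA.rels, wordG (t :: gs.map φ) r = 1) :
    PairTo (gs.map φ) t 188 86 274 :=
  PairTo.defs (E.map φ) (by decide) _ (PairTo.rels (E.map φ) (by decide) hr _ (PairTo.nil _ _ 188 86) (by decide) z4) (by decide)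
    z5

theorem lam (c : Ctx CL.J4DS.P e gs CL.J4DS.ns CL.J4DS.D CL.J4DS.chk) {k : List (List ℕ × List ℕ) → Bool} (cL : Ctx CL.J4DK.P eL g0 CL.J4DK.ns [] k)
    (E : Env (subW g0 [[0], [2], [4]]) g0 gs CL.J4DS.chk) (hp : PairTo (gs.map φ) t 188 86 274) (hU : UB (subW g0 [[0], [2], [4]]) 501397585920) :
    Lam φ (subW g0 [[0], [2], [4]]) (gs.map φ) t g0 eL CL.J4DK.P.n CL.J4DK.P.N (2 * 13) CL.J4DK.ns ∧ (subW g0 [[0], [2], [4]]) ⊓ MulAction.stabilizer Γ (eL 0) = subW gs [[188], [190], [192]] ∧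
      ∀ i < CL.J4DK.P.n, ∃ h ∈ (subW g0 [[0], [2], [4]]), h • eL 0 = eL i :=
  lam_of cL E hp z6 (CL.J4DS.K_lb c) hU

theorem faith (c : Ctx CL.J4DS.P e gs CL.J4DS.ns CL.J4DS.D CL.J4DS.chk) {k : List (List ℕ × List ℕ) → Bool} (cL : Ctx CL.J4DK.P eL g0 CL.J4DK.ns [] k)
    (E : Env (subW g0 [[0], [2], [4]]) g0 gs CL.J4DS.chk) (hp : PairTo (gs.map φ) t 188 86 274) (hU : UB (subW g0 [[0], [2], [4]]) 501397585920)
    (hF : Faithful e CL.J4DS.P.n (subW g0 [[0], [2], [4]])) : Faithful eL CL.J4DK.P.n (subW g0 [[0], [2], [4]]) :=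
  have A := lam c cL E hp hU
  A.1.faithful2 c E A.2.1 z19 hF

theorem res (c : Ctx CL.J4DS.P e gs CL.J4DS.ns CL.J4DS.D CL.J4DS.chk) {k : List (List ℕ × List ℕ) → Bool} (cL : Ctx CL.J4DK.P eL g0 CL.J4DK.ns [] k)
    (E : Env (subW g0 [[0], [2], [4]]) g0 gs CL.J4DS.chk) (hp : PairTo (gs.map φ) t 188 86 274) (hU : UB (subW g0 [[0], [2], [4]]) 501397585920)
    (hr : ∀ r ∈ J4DA.rels, wordG (t :: gs.map φ) r = 1) (hg : ∀ K : Subgroup G, (subW g0 [[0], [2], [4]]).map φ ≤ K → t ∈ K → K = ⊤) :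
    Res ((subW g0 [[0], [2], [4]]).map φ) [15180, 28336, 3400320, 32643072, 54405120, 82575360] :=
  have A := lam c cL E hp hU
  have S := sys_coset (C := C) (E.mem_map φ) (inv hr) hp hr L (E.map φ)
  res_of_cov (os := os) A.1 S (up S) z21 z20 hg hU
    (List.forall_mem_cons.2 ⟨Cov.lb A.1 E z7 z8 (CL.J4DS.S1_lb c) (by decide),
    List.forall_mem_cons.2 ⟨Cov.lb A.1 E z9 z10 (CL.J4DS.S2_lb c) (by decide),
    List.forall_mem_cons.2 ⟨Cov.lb A.1 E z11 z12 (CL.J4DS.S3_lb c) (by decide),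
    List.forall_mem_cons.2 ⟨Cov.lb A.1 E z13 z14 (CL.J4DS.S4_lb c) (by decide),
    List.forall_mem_cons.2 ⟨Cov.lb A.1 E z15 z16 (CL.J4DS.S5_lb c) (by decide),
    List.forall_mem_cons.2 ⟨Cov.lb A.1 E z17 z18 (CL.J4DS.S6_lb c) (by decide),
    fun _ h => absurd h List.not_mem_nil⟩⟩⟩⟩⟩⟩)

theorem q1 {Y : Type*} [MulAction G Y] {gs : List G} (hc : ∀ R, CL.J4DS.chk R = true → Rels gs R) (q : Y) :
    qq C.T gs t q 1 = wordG (t :: gs) [0] • q :=
  qq_step hc (qq_zero _ _ _ _) z22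

theorem q2 {Y : Type*} [MulAction G Y] {gs : List G} (hc : ∀ R, CL.J4DS.chk R = true → Rels gs R) (q : Y) :
    qq C.T gs t q 2 = wordG (t :: gs) [0, 13, 0] • q :=
  qq_step hc (q1 hc q) z23

theorem q3 {Y : Type*} [MulAction G Y] {gs : List G} (hc : ∀ R, CL.J4DS.chk R = true → Rels gs R) (q : Y) :
    qq C.T gs t q 3 = wordG (t :: gs) [0, 5, 0] • q :=
  qq_step hc (q1 hc q) z24

theorem q4 {Y : Type*} [MulAction G Y] {gs : List G} (hc : ∀ R, CL.J4DS.chk R = true → Rels gs R) (q : Y) :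
    qq C.T gs t q 4 = wordG (t :: gs) [0, 17, 0] • q :=
  qq_step hc (q1 hc q) z25

theorem q5 {Y : Type*} [MulAction G Y] {gs : List G} (hc : ∀ R, CL.J4DS.chk R = true → Rels gs R) (q : Y) :
    qq C.T gs t q 5 = wordG (t :: gs) [0, 4, 0, 13, 0] • q :=
  qq_step hc (q2 hc q) z26

theorem q6 {Y : Type*} [MulAction G Y] {gs : List G} (hc : ∀ R, CL.J4DS.chk R = true → Rels gs R) (q : Y) :
    qq C.T gs t q 6 = wordG (t :: gs) [0, 11, 0, 5, 0] • q :=
  qq_step hc (q3 hc q) z27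

theorem resW (c : Ctx CL.J4DS.P e gs CL.J4DS.ns CL.J4DS.D CL.J4DS.chk) {k : List (List ℕ × List ℕ) → Bool} (cL : Ctx CL.J4DK.P eL g0 CL.J4DK.ns [] k)
    (E : Env (subW g0 [[0], [2], [4]]) g0 gs CL.J4DS.chk) (hp : PairTo (gs.map φ) t 188 86 274) (hU : UB (subW g0 [[0], [2], [4]]) 501397585920)
    (hr : ∀ r ∈ J4DA.rels, wordG (t :: gs.map φ) r = 1) (hg : ∀ K : Subgroup G, (subW g0 [[0], [2], [4]]).map φ ≤ K → t ∈ K → K = ⊤) :
    ResW ((subW g0 [[0], [2], [4]]).map φ) (reps.map (wordG (t :: gs.map φ))) [15180, 28336, 3400320, 32643072, 54405120, 82575360] :=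
  have A := lam c cL E hp hU
  have S := sys_coset (C := C) (E.mem_map φ) (inv hr) hp hr L (E.map φ)
  resW_of_cov (os := os) A.1 S (up S) z21 z20 hg hU
    (List.forall_mem_cons.2 ⟨Cov.lb A.1 E z7 z8 (CL.J4DS.S1_lb c) (by decide),
    List.forall_mem_cons.2 ⟨Cov.lb A.1 E z9 z10 (CL.J4DS.S2_lb c) (by decide),
    List.forall_mem_cons.2 ⟨Cov.lb A.1 E z11 z12 (CL.J4DS.S3_lb c) (by decide),
    List.forall_mem_cons.2 ⟨Cov.lb A.1 E z13 z14 (CL.J4DS.S4_lb c) (by decide),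
    List.forall_mem_cons.2 ⟨Cov.lb A.1 E z15 z16 (CL.J4DS.S5_lb c) (by decide),
    List.forall_mem_cons.2 ⟨Cov.lb A.1 E z17 z18 (CL.J4DS.S6_lb c) (by decide),
    fun _ h => absurd h List.not_mem_nil⟩⟩⟩⟩⟩⟩)
    (.cons (q1 (E.map φ) _) (.cons (q2 (E.map φ) _) (.cons (q3 (E.map φ) _) (.cons (q4 (E.map φ) _) (.cons (q5 (E.map φ) _) (.cons (q6 (E.map φ) _) .nil))))))


end CL.J4DD
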