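/-
Words for the double coset enumerations in the group J4.
Generated by tools/dce.
-/
import Cfsg.Agent.Spor.DCE6
import Cfsg.Agent.Spor.M24Pres

set_option autoImplicit false

namespace CL.J4DA
open CL.PG Cfsg.Spor

/-- the relators with `t` in the letters `t, x, y = 0, 2, 4` -/
def relsA : List (List ℕ) :=
  [[0, 0],
  [1, 5, 3, 5, 3, 5, 3, 4, 3, 4, 3, 5, 3, 5, 0, 4, 2, 4, 2, 5, 2, 5, 2, 4, 2, 4, 2, 4],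
  [1, 3, 0, 2],
  [4, 3, 4, 3, 5, 3, 4, 3, 5, 0, 4, 2, 5, 2, 4, 2, 5, 2, 4, 3, 4, 3, 5, 3, 4, 3, 5, 0, 4, 2, 5, 2, 4, 2, 5, 2, 4, 3, 4, 3, 5, 3, 4, 3, 5, 0, 4, 2, 5, 2, 4, 2, 5, 2],
  [4, 2, 4, 2, 4, 2, 4, 4, 2, 4, 2, 4, 2, 4, 4, 2, 4, 2, 4, 2, 4, 0, 5, 5, 3, 5, 3, 5, 3, 5, 3, 5, 3, 5, 3, 5, 5, 3, 5, 3, 5, 3, 0, 2, 4, 2, 4, 2, 4, 4, 2, 4, 2, 4, 2, 4, 2, 4, 2, 4, 2, 4, 4, 4, 2, 4, 2, 4, 2, 4, 4, 2, 4, 2, 4, 2, 4, 4, 2, 4, 2, 4, 2, 4, 0, 5, 5, 3, 5, 3, 5, 3, 5, 3, 5, 3, 5, 3, 5, 5, 3, 5, 3, 5, 3, 0, 2, 4, 2, 4, 2, 4, 4, 2, 4, 2, 4, 2, 4, 2, 4, 2, 4, 2, 4, 4]]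

/-- `t, x, y, s` as words in `t, x, y` -/
def LA : List (List ℕ) :=
  [[0],
  [2],
  [4],
  [4, 3, 4, 3, 5, 3, 5, 3, 5, 3, 5, 0, 4, 2, 4, 2, 4, 2, 4, 2, 5, 2, 4, 3, 4, 3, 5, 3, 5, 3, 5, 3, 5, 0, 4, 2, 4, 2, 4, 2, 4, 2, 5, 2, 4, 3, 4, 3, 5, 3, 5, 3, 5, 3, 5, 0, 4, 2, 4, 2, 4, 2, 4, 2, 5, 2]]

/-- relators in the letters `t, x, y, s = 0, 2, 4, 6` -/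
def RA : List (List ℕ) :=
  [[6, 6],
  [6, 4, 7, 5],
  [6, 2, 4, 2, 5, 2, 5, 2, 5, 2, 4, 2, 4, 2, 4, 2, 4, 2, 4, 2, 4, 2, 5, 2, 7, 3, 4, 3, 5, 3, 5, 3, 5, 3, 5, 3, 5, 3, 5, 3, 4, 3, 4, 3, 4, 3, 5, 3],
  [6, 2, 4, 2, 4, 2, 5, 2, 5, 2, 6, 3, 4, 3, 4, 3, 5, 3, 5, 3, 4, 2, 4, 2, 5, 2, 4, 2, 5, 2, 4, 2, 4, 2, 4, 2, 5, 2, 4, 2, 5, 2, 6, 3, 4, 3, 5, 3, 4, 3, 5, 3, 5, 3, 5, 3, 4, 3, 5, 3, 4, 3, 5, 3, 5],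
  [0, 5, 2, 4, 2, 4, 2, 4, 2, 5, 2, 6, 3, 4, 3, 5, 3, 5, 3, 5, 3, 4, 1, 5, 2, 4, 2, 4, 2, 4, 2, 5, 2, 7, 3, 4, 3, 5, 3, 5, 5, 2, 4, 2, 4, 2, 4, 2, 4, 3, 4, 3, 5, 3, 5, 3, 4, 3, 5, 3, 5, 3, 5, 3, 4, 3, 5, 3, 4, 3, 4, 3, 4, 3, 5, 3, 5, 3, 4, 3, 5, 3, 5, 3, 5, 3, 5]]

/-- relators in the letters `s, x, y = 0, 2, 4` -/
def relsV : List (List ℕ) :=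
  [[0, 0],
  [0, 4, 1, 5],
  [0, 2, 4, 2, 5, 2, 5, 2, 5, 2, 4, 2, 4, 2, 4, 2, 4, 2, 4, 2, 4, 2, 5, 2, 1, 3, 4, 3, 5, 3, 5, 3, 5, 3, 5, 3, 5, 3, 5, 3, 4, 3, 4, 3, 4, 3, 5, 3],
  [0, 2, 4, 2, 4, 2, 5, 2, 5, 2, 0, 3, 4, 3, 4, 3, 5, 3, 5, 3, 4, 2, 4, 2, 5, 2, 4, 2, 5, 2, 4, 2, 4, 2, 4, 2, 5, 2, 4, 2, 5, 2, 0, 3, 4, 3, 5, 3, 4, 3, 5, 3, 5, 3, 5, 3, 4, 3, 5, 3, 4, 3, 5, 3, 5]]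

/-- the same in the letters `x, y, s = 0, 2, 4` -/
def Rw : List (List ℕ) :=
  [[4, 4],
  [4, 2, 5, 3],
  [4, 0, 2, 0, 3, 0, 3, 0, 3, 0, 2, 0, 2, 0, 2, 0, 2, 0, 2, 0, 2, 0, 3, 0, 5, 1, 2, 1, 3, 1, 3, 1, 3, 1, 3, 1, 3, 1, 3, 1, 2, 1, 2, 1, 2, 1, 3, 1],
  [4, 0, 2, 0, 2, 0, 3, 0, 3, 0, 4, 1, 2, 1, 2, 1, 3, 1, 3, 1, 2, 0, 2, 0, 3, 0, 2, 0, 3, 0, 2, 0, 2, 0, 2, 0, 3, 0, 2, 0, 3, 0, 4, 1, 2, 1, 3, 1, 2, 1, 3, 1, 3, 1, 3, 1, 2, 1, 3, 1, 2, 1, 3, 1, 3]]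

/-- the relators for the enumeration over `2^11:M24`, letters `t, x, y, s` -/
def rels : List (List ℕ) :=
  [[0, 0],
  [1, 5, 3, 5, 3, 5, 3, 4, 3, 4, 3, 5, 3, 5, 0, 4, 2, 4, 2, 5, 2, 5, 2, 4, 2, 4, 2, 4],
  [1, 3, 0, 2],
  [4, 3, 4, 3, 5, 3, 4, 3, 5, 0, 4, 2, 5, 2, 4, 2, 5, 2, 4, 3, 4, 3, 5, 3, 4, 3, 5, 0, 4, 2, 5, 2, 4, 2, 5, 2, 4, 3, 4, 3, 5, 3, 4, 3, 5, 0, 4, 2, 5, 2, 4, 2, 5, 2],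
  [4, 2, 4, 2, 4, 2, 4, 4, 2, 4, 2, 4, 2, 4, 4, 2, 4, 2, 4, 2, 4, 0, 5, 5, 3, 5, 3, 5, 3, 5, 3, 5, 3, 5, 3, 5, 5, 3, 5, 3, 5, 3, 0, 2, 4, 2, 4, 2, 4, 4, 2, 4, 2, 4, 2, 4, 2, 4, 2, 4, 2, 4, 4, 4, 2, 4, 2, 4, 2, 4, 4, 2, 4, 2, 4, 2, 4, 4, 2, 4, 2, 4, 2, 4, 0, 5, 5, 3, 5, 3, 5, 3, 5, 3, 5, 3, 5, 3, 5, 5, 3, 5, 3, 5, 3, 0, 2, 4, 2, 4, 2, 4, 4, 2, 4, 2, 4, 2, 4, 2, 4, 2, 4, 2, 4, 4],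
  [0, 5, 2, 4, 2, 4, 2, 4, 2, 5, 2, 6, 3, 4, 3, 5, 3, 5, 3, 5, 3, 4, 1, 5, 2, 4, 2, 4, 2, 4, 2, 5, 2, 7, 3, 4, 3, 5, 3, 5, 5, 2, 4, 2, 4, 2, 4, 2, 4, 3, 4, 3, 5, 3, 5, 3, 4, 3, 5, 3, 5, 3, 5, 3, 4, 3, 5, 3, 4, 3, 4, 3, 4, 3, 5, 3, 5, 3, 4, 3, 5, 3, 5, 3, 5, 3, 5],
  [7, 4, 3, 4, 3, 5, 3, 5, 3, 5, 3, 5, 0, 4, 2, 4, 2, 4, 2, 4, 2, 5, 2, 4, 3, 4, 3, 5, 3, 5, 3, 5, 3, 5, 0, 4, 2, 4, 2, 4, 2, 4, 2, 5, 2, 4, 3, 4, 3, 5, 3, 5, 3, 5, 3, 5, 0, 4, 2, 4, 2, 4, 2, 4, 2, 5, 2]]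

/-- the relators of `2^11:M24`, with `t` in the role of `s` -/
def RL1 : List (FreeGroup J4.Gen) := M24P.RL0 ++ Rw.map (wordG [J4.x, J4.y, J4.t])

end CL.J4DA
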