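import Cfsg.Agent.Spor.J4K2

/-!
# The classes of a group of Janko-four type: the centraliser of an element of order five
-/

namespace CL.J4

open Cfsg CL.Spor Subgroup CL.Fgs Matrix
open CL.F24 (ap)

namespace Cn

/-- The code is valid and has the order `n`. -/
noncomputable def ordN (e : ℕ × ℕ × ℕ) : Bool :=
  and (and (Nat.blt e.2.1 2048) (inM24 e.2.2)) (and (and (Nat.blt 0 e.1) (neq (npow e.2 e.1) (0, pone)))
    (allBelow (fun m => or (Nat.beq m 0) (not (neq (npow e.2 m) (0, pone)))) e.1))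

/-- Representatives of `J5 ⊓ H` modulo `Z3`. -/
def K24 : List (ℕ × ℕ) := [(0, 984818244535754528103549039458486304), (66, 976990105829392847739289005721748544), (80,
  984330238668445353307680420861740096), (83, 976934804572108675034832543981668384), (66,
  984573615201180725592165913404213249), (0, 973047580892981701841065988820402241), (3,
  973077093383442264481391789193234433), (18, 984209759864417955904179982171570241), (0,
  976407453246317410417703175176946690), (66, 972630884079178960397296386183364642), (65,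
  973128714237996665546949957675156482), (17, 976787273056919003825215379677413410), (18,
  972560815420533050926679905878345760), (17, 972671457549521778548133670890800192), (3,
  961192683227484980260593089301120064), (65, 960831283963798152912375878980765728), (83,
  984250328386525346977689119818417154), (3, 984370794807514838793873707388829730), (18,
  961358617959033883612145834690806786), (80, 961395498668911058289801702969344034), (80,
  976584445236633686703411865521915905), (65, 976448014340632676013292783797829697), (17,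
  960949281935986712095891973244225537), (83, 961439743876560502812507128215011393)]

/-- The elements of `J5 ⊓ H`. -/
noncomputable def el5 (j : ℕ) : ℕ × ℕ := nmul (nth (0, pone) K24 (j / 8)) (nth 0 Zl (j % 8), pone)

/-- The representatives with their orders. -/
def R5 : List (ℕ × ℕ × ℕ) := [(1, 0, 984818244535754528103549039458486304), (2, 1441, 984818244535754528103549039458486304), (2, 1930,
  976934804572108675034832543981668384), (3, 0, 973047580892981701841065988820402241), (4, 83,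
  976934804572108675034832543981668384), (4, 419, 976934804572108675034832543981668384), (6, 1441,
  973047580892981701841065988820402241), (8, 3, 973077093383442264481391789193234433), (8, 635,
  973077093383442264481391789193234433)]

theorem cov5 : allBelow (fun j => (fun X : ℕ × ℕ => or (or (Nat.beq X.2 pone)
      (and (allL (fun w => Nat.beq (ap (vcols (pmul X.2 X.2)) w) w) [496, 632])
        (anyL (fun w => not (or (Nat.beq (ap (vcols X.2) w) w) (Nat.beq (ap (vcols X.2) w) (Nat.xor w 1441)))) [496, 632])))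
    ((fun Y => anyL (fun e => neq Y e.2) R5) (nconj (el5 (nth 0 [0, 0, 0, 0, 0, 0, 0, 0, 0, 0, 0, 0, 0, 0, 0, 0, 0, 0, 0, 0, 0, 0, 0, 0, 0, 4, 0, 4, 0, 4, 12, 8, 0, 0, 0, 0,
      0, 0, 0, 0, 0, 0, 6, 6, 2, 2, 4, 4, 0, 6, 0, 6, 4, 2, 4, 2, 122, 122, 124, 124, 120, 120, 126, 126, 10, 10,
      14, 14, 12, 12, 8, 8, 0, 0, 0, 0, 0, 0, 0, 0, 110, 110, 106, 106, 104, 104, 108, 108, 14, 10, 14, 10, 8, 12,
      8, 12, 32, 34, 66, 64, 32, 34, 32, 34, 64, 66, 70, 68, 64, 66, 70, 68, 76, 78, 72, 74, 72, 74, 76, 78, 72, 74,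
      42, 40, 42, 40, 42, 40, 118, 118, 114, 114, 112, 112, 116, 116, 0, 0, 0, 0, 0, 0, 0, 0, 18, 18, 22, 22, 20,
      20, 16, 16, 20, 16, 20, 16, 22, 18, 22, 18, 24, 30, 24, 30, 26, 28, 26, 28, 30, 30, 24, 24, 28, 28, 26, 26, 0,
      0, 0, 0, 0, 0, 0, 0, 100, 100, 98, 98, 102, 102, 96, 96] j % 192)) X))) (el5 j)) 192 = true := by
  decide +kernel

theorem mat_fix : ∀ A : Matrix (Fin 3) (Fin 3) (ZMod 2), (∃ e, e ≠ 0 ∧ A *ᵥ e = e) ∨ A.det ≠ 1 ∨
    A * (A * A * (A * A) * (A * A)) = 1 := by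
  simp only [Matrix.det_fin_three]
  decide +kernel

end Cn

open Cn

variable {G : Type*} [Group G]

namespace NM

variable (M : NM G)

/-- The element with a given code. -/
noncomputable def elt (X : ℕ × ℕ) : G := M.v X.1 * M.μ (m24 X.2)

variable {M} {X Y : ℕ × ℕ} {g h : G}

theorem ordN_spec {e : ℕ × ℕ × ℕ} (h : ordN e = true) : M.RN e.2 (M.elt e.2) ∧ orderOf (M.elt e.2) = e.1 := by
  simp only [ordN, Bool.and_eq_true, Nat.blt_eq, allBelow_iff, Bool.or_eq_true, Nat.beq_eq, Bool.not_eq_true'] at h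
  have h1 : M.RN e.2 (M.elt e.2) := M.rn_m24 h.1.1 h.1.2
  exact ⟨h1, (orderOf_eq_iff h.2.1.1).2 ⟨(h1.pow _).eq_of M.rn_one h.2.1.2, fun m hm h0 =>
    (h1.pow m).ne_of M.rn_one ((h.2.2 m hm).resolve_left h0.ne')⟩⟩

theorem RN.mem_H (hX : M.RN X g) (h : ap (vcols X.2) 1441 = 1441) : g ∈ M.H := by
  have := (hX.cent_iff (by norm_num)).2 h
  rwa [M.v_z] at this

theorem RN.ap_inj (hX : M.RN X g) {a b : ℕ} (ha : a < 2048) (hb : b < 2048)
    (h : ap (vcols X.2) a = ap (vcols X.2) b) : a = b :=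
  (M.v_eq_iff ha hb).1 (mul_left_cancel (mul_right_cancel ((hX.conj_v ha).trans (h ▸ (hX.conj_v hb).symm))))

/-- Elements with the same power `z` are conjugate only under `H`. -/
theorem mem_H_of_conj {u w : G} {k : ℕ} (h1 : u ^ k = M.z) (h2 : w ^ k = M.z) (h : g * u * g⁻¹ = w) : g ∈ M.H :=
  M.mem_H.2 (mul_inv_eq_iff_eq_mul.1 (by rw [← h1, ← conj_pow, h, h2, h1]))

variable [Finite G]

theorem kPi_codes {π : Set ℕ} {K : Subgroup G} {l : List (ℕ × ℕ × ℕ)} (h0 : allL ordN l = true)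
    (h1 : ∀ e ∈ l, IsPiNum π e.1 ∧ ∀ u, M.RN e.2 u → u ∈ K)
    (h2 : l.Pairwise fun i j => i.1 = j.1 → ∀ u w, M.RN i.2 u → M.RN j.2 w → ∀ g ∈ K, g * u * g⁻¹ ≠ w)
    (h3 : ∀ y ∈ K, IsPiElt π y → ∃ e ∈ l, ∃ g ∈ K, M.RN e.2 (g * y * g⁻¹)) : kPi π K = l.length := by
  have h4 := fun e he => ordN_spec (M := M) ((allL_iff _ _).1 h0 e he)
  refine kPi_reps K (fun e => M.elt e.2) (fun e he => ⟨(h1 e he).2 _ (h4 e he).1,
    isPiElt_iff_isPiNum.2 ((h4 e he).2 ▸ (h1 e he).1)⟩) (h2.imp_of_mem fun {i j} hi hj h g hg e => ?_) fun y hy h => ?_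
  · exact h (by rw [← (h4 i hi).2, ← (h4 j hj).2, ← e, Fgs.orderOf_conj']) _ _ (h4 i hi).1 (h4 j hj).1 g hg e
  · obtain ⟨e, he, g, hg, h⟩ := h3 y hy h
    exact ⟨e, he, g, hg, h.eq⟩

theorem J5_le_N : M.J5 ≤ M.N := fun g h => by
  simpa using (M.φ5_iff ⟨g, M.J5_le h⟩ 0 0).1 (by rw [((M.mem_J5 (g := ⟨g, M.J5_le h⟩)).1 h).2]; rfl)

theorem RN.mem_J5 (hX : M.RN X g) (h : and (Nat.beq (ap (vcols X.2) 1441) 1441)
    (heq (hmul (hn X) F5) (hmul F5 (hn X))) = true) : g ∈ M.J5 ∧ g ∈ M.H := by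
  simp only [Bool.and_eq_true, Nat.beq_eq] at h
  have h1 := hX.mem_H h.1
  have h2 := mul_inv_eq_iff_eq_mul.1 ((hX.rh h1).conj_of_odd M.rh_g5 M.rh_g5 rfl M.g5_pow M.g5_pow h.2)
  refine ⟨(M.mem_J5 (g := ⟨g, M.mem_M3_of_H h1 h2⟩)).2 ⟨h2, Equiv.ext fun i => (M.φ5_iff _ i i).2 ?_⟩, h1⟩
  rw [mul_assoc, comm_of_zpowers h2 (pow_mem (mem_zpowers _) _), inv_mul_cancel_left]
  exact hX.mem

variable (M)

theorem exists_K24 {i : ℕ} (hi : i < 24) : ∃ k, M.RN (nth (0, pone) K24 i) k ∧ k ∈ M.J5 ∧ k ∈ M.H := by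
  have h := (allBelow_iff _ _).1 (by decide +kernel : allBelow (fun i => (fun X : ℕ × ℕ =>
    and (and (Nat.blt X.1 2048) (inM24 X.2)) (and (Nat.beq (ap (vcols X.2) 1441) 1441)
      (heq (hmul (hn X) F5) (hmul F5 (hn X))))) (nth (0, pone) K24 i)) 24 = true) i hi
  rw [Bool.and_eq_true, Bool.and_eq_true, Nat.blt_eq] at h
  exact ⟨_, M.rn_m24 h.1.1 h.1.2, (M.rn_m24 h.1.1 h.1.2).mem_J5 h.2⟩

theorem exists_el5 {j : ℕ} (hj : j < 192) : ∃ k ∈ M.J5, M.RN (el5 j) k := by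
  obtain ⟨k, h1, h2, -⟩ := M.exists_K24 (i := j / 8) (by omega)
  have h3 := (by decide : ∀ n < 8, nth 0 Zl n ∈ Zl) _ (Nat.mod_lt j (by norm_num))
  exact ⟨_, mul_mem h2 (M.Z3_le_J5 (M.v_mem_Z3 h3)), h1.mul (M.rn_v (Zl_spec _ h3).1)⟩

variable {M}

theorem enum5 (h1 : g ∈ M.J5) (h2 : g ∈ M.H) : ∃ j < 192, M.RN (el5 j) g := by
  obtain ⟨X, hX⟩ := M.exists_rn (J5_le_N h1)
  have a : ∀ b ∈ Zl, ap (vcols X.2) b ∈ Zl := fun b hb => by
    obtain ⟨c, hc, e⟩ := M.mem_Z3.1 ((mem_normalizer_iff.1 (M.J5_le h1) _).1 (M.v_mem_Z3 hb))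
    rwa [← (M.v_eq_iff (Zl_spec _ hc).1 (vcols_lt _ _)).1 (e.trans (hX.conj_v (Zl_spec _ hb).1))]
  have b : ap (vcols X.2) 1441 = 1441 := (hX.cent_iff (by norm_num)).1 (by rwa [M.v_z])
  have c : ∀ d < 2048, d ≠ 0 → d ≠ 1441 → ap (vcols X.2) d ≠ 0 ∧ ap (vcols X.2) d ≠ 1441 := fun d hd e1 e2 =>
    ⟨fun e => e1 (hX.ap_inj hd (by norm_num) (e.trans (ap_zero _).symm)),
      fun e => e2 (hX.ap_inj hd (by norm_num) (e.trans b.symm))⟩
  obtain ⟨i, hi, d1, d2⟩ := (by decide +kernel : ∀ x ∈ Zl, ∀ y ∈ Zl, x ≠ 0 ∧ x ≠ 1441 → y ≠ 0 ∧ y ≠ 1441 →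
      x ^^^ y ≠ 0 ∧ x ^^^ y ≠ 1441 → ∃ i < 24, ap (vcols (nth (0, pone) K24 i).2) 496 = x ∧
      ap (vcols (nth (0, pone) K24 i).2) 632 = y) _ (a 496 (by decide)) _ (a 632 (by decide))
    (c _ (by norm_num) (by norm_num) (by norm_num)) (c _ (by norm_num) (by norm_num) (by norm_num))
    (ap_xor _ _ _ ▸ c (496 ^^^ 632) (by decide) (by decide) (by decide))
  obtain ⟨k, k1, k2, k3⟩ := M.exists_K24 hi
  have f : ∀ d < 2048, ap (vcols (nth (0, pone) K24 i).2) d = ap (vcols X.2) d → k⁻¹ * g * M.v d = M.v d * (k⁻¹ * g) :=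
    fun d hd e => by
      have := (k1.conj_v hd).trans (e ▸ (hX.conj_v hd).symm)
      rw [show k⁻¹ * g * M.v d = k⁻¹ * (g * M.v d * g⁻¹) * g by group, ← this]
      group
  have k4 := mul_mem (inv_mem k2) h1
  obtain ⟨a, ha, e⟩ := M.mem_Z3.1 (mem_subgroupOf.1 (M.ψ7_ker.le (show M.ψ7 ⟨_, k4⟩ = 1 from M.φ7_eq_one.2
    (M.mem_cent_Z3 (M.mem_H.1 (mul_mem (inv_mem k3) h2)) (M.v496 ▸ f _ (by norm_num) d1)
      (M.v632 ▸ f _ (by norm_num) d2)))))
  obtain ⟨n, hn, rfl⟩ := (by decide : ∀ a ∈ Zl, ∃ n < 8, nth 0 Zl n = a) a ha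
  refine ⟨8 * i + n, by omega, ?_⟩
  rw [el5, show (8 * i + n) / 8 = i by omega, show (8 * i + n) % 8 = n by omega, ← mul_inv_cancel_left k g]
  exact k1.mul ((show _ = k⁻¹ * g from e) ▸ M.rn_v (Zl_spec _ ha).1)

omit [Finite G] in
theorem exists_axis' {u : G} (hu : u ∈ M.M3) (h7 : ¬ 7 ∣ orderOf u) : ∃ e ∈ M.Z3, e ≠ 1 ∧ u * e = e * u ∧
    (u * u ∈ centralizer (M.Z3 : Set G) → ∀ w ∈ M.Z3, u * w * u⁻¹ = w ∨ u * w * u⁻¹ = w * e) := by
  have h1 := M.φ7_spec ⟨u, hu⟩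
  have h0 : ∀ e, e ≠ 0 → (M.φ7 ⟨u, hu⟩).1 *ᵥ e = e → M.v (i3 e) ≠ 1 ∧ u * M.v (i3 e) = M.v (i3 e) * u := fun e h2 h3 =>
    ⟨fun h => h2 (M.ζ_inj (h.trans M.v_zero.symm)), mul_inv_eq_iff_eq_mul.1 (by rw [h1, h3])⟩
  by_cases h : u * u ∈ centralizer (M.Z3 : Set G)
  · obtain ⟨e, h2, h3, h4⟩ := mat_two (M.φ7 ⟨u, hu⟩).1 (congrArg Subtype.val (show M.φ7 ⟨u, hu⟩ * M.φ7 ⟨u, hu⟩ = 1 by
      rw [← map_mul]; exact M.φ7_eq_one.2 h))
    refine ⟨_, ⟨e, rfl⟩, (h0 e h2 h3).1, (h0 e h2 h3).2, fun _ => ?_⟩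
    rintro _ ⟨y, rfl⟩
    refine (h4 y).imp (fun h => ?_) fun h => ?_
    · have := congrArg (fun y => M.v (i3 y)) h
      simp only [i3_add, M.v_xor, ← h1] at this
      exact (eq_inv_of_mul_eq_one_right (this.trans M.v_zero)).trans (M.v_inv _)
    · rw [← h, i3_add, M.v_xor, ← h1, ← mul_assoc, M.v_mul_self, one_mul]
  · rcases mat_fix (M.φ7 ⟨u, hu⟩).1 with ⟨e, h2, h3⟩ | h2 | h2
    · exact ⟨_, ⟨e, rfl⟩, (h0 e h2 h3).1, (h0 e h2 h3).2, fun h' => (h h').elim⟩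
    · exact (h2 (M.φ7 _).2).elim
    · have h3 : M.φ7 ⟨u, hu⟩ ^ 7 = 1 := by
        rw [show ∀ A : SpecialLinearGroup (Fin 3) (ZMod 2), A ^ 7 = A * (A * A * (A * A) * (A * A)) from fun A => by
          simp only [pow_succ, pow_zero, one_mul, mul_assoc]]
        exact Subtype.ext h2
      have h4 : M.φ7 ⟨u, hu⟩ = 1 := eq_one_of_pow_eq ((Nat.Prime.coprime_iff_not_dvd (by norm_num)).2 h7) h3
        (by rw [← map_pow, ← map_one M.φ7]; exact congrArg _ (Subtype.ext (pow_orderOf_eq_one u)))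
      exact (h (mul_mem (M.φ7_eq_one.1 h4) (M.φ7_eq_one.1 h4))).elim

variable (M)

theorem kPi_J5 {π : Set ℕ} (h2 : 2 ∈ π) (h3 : 3 ∈ π) (h7 : 7 ∉ π) : kPi π M.J5 = 9 := by
  have hz : ∀ {u : G}, u ∈ M.Z3 → ∃ e ∈ R5, ∃ g ∈ M.J5, M.RN e.2 (g * u * g⁻¹) := fun {u} hu => by
    by_cases h1 : u = 1
    · exact ⟨(1, 0, pone), by decide, 1, one_mem _, by simpa [h1] using M.rn_one⟩
    · obtain ⟨k, hk, rfl⟩ := M.J5_trans hu h1
      exact ⟨(2, 1441, pone), by decide, k⁻¹, inv_mem hk, by simpa [mul_assoc] using M.rn_z⟩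
  have nc : ∀ {X Y : ℕ × ℕ} (k : ℕ), (neq (npow X k) (1441, pone) && neq (npow Y k) (1441, pone) &&
      allBelow (fun j => not (neq (nconj (el5 j) X) Y)) 192) = true →
      ∀ u w, M.RN X u → M.RN Y w → ∀ g ∈ M.J5, g * u * g⁻¹ ≠ w := fun k h u w hu hw g hg e => by
    simp only [Bool.and_eq_true, allBelow_iff, Bool.not_eq_true'] at h
    obtain ⟨j, hj, h1⟩ := enum5 hg (mem_H_of_conj ((hu.pow k).eq_of M.rn_z h.1.1) ((hw.pow k).eq_of M.rn_z h.1.2) e)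
    exact (h1.conj hu).ne_of hw (h.2 j hj) e
  refine kPi_codes (M := M) (l := R5) (by decide +kernel) (fun e he => ⟨?_, fun u hu => (hu.mem_J5 ?_).1⟩) ?_
    fun y hy h => ?_
  · exact (((isPiNum_prime Nat.prime_two h2).pow 3).mul (isPiNum_prime Nat.prime_three h3)).of_dvd
      ((by decide : ∀ e ∈ R5, e.1 ∣ 2 ^ 3 * 3) e he)
  · clear hu; revert e; decide +kernel
  · simp only [R5, List.pairwise_cons, List.forall_mem_cons, List.not_mem_nil, Nat.reduceEqDiff,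
      false_imp_iff, true_imp_iff, implies_true, true_and, and_true, List.Pairwise.nil, OfNat.one_ne_ofNat]
    refine ⟨fun u w hu hw g hg e => ?_, nc 2 (by decide +kernel), nc 4 (by decide +kernel)⟩
    exact absurd (hw.mem_V_iff.1 (e ▸ (mem_normalizer_iff.1 (J5_le_N hg) _).1 (hu.mem_V_iff.2 rfl))) (by decide)
  · obtain ⟨e, he, e1, e2, e3⟩ := exists_axis' (M.J5_le hy) fun h' => h7 (h 7 (by norm_num) h')
    obtain ⟨k, hk, rfl⟩ := M.J5_trans he e1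
    have a1 := mul_mem (mul_mem (inv_mem hk) hy) hk
    have a0 : k⁻¹ * y * k ∈ M.H := M.mem_H.2 (by
      rw [show k⁻¹ * y * k * M.z = k⁻¹ * (y * (k * M.z * k⁻¹)) * k by group, e2]; group)
    obtain ⟨j, hj, hX⟩ := enum5 a1 a0
    have a2 := (allBelow_iff _ _).1 cov5 j hj
    simp only [Bool.and_eq_true, Bool.or_eq_true, Nat.beq_eq, allL_iff, anyL_iff, neq_iff, Bool.not_eq_true',
      ← Bool.not_eq_true] at a2
    have a3 : ∀ {g e}, g ∈ M.J5 → M.RN e (g * (k⁻¹ * y * k) * g⁻¹) → ∃ g ∈ M.J5, M.RN e (g * y * g⁻¹) := fun {g _} h1 h2 =>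
      ⟨g * k⁻¹, mul_mem h1 (inv_mem hk), by simpa [mul_assoc] using h2⟩
    rcases a2 with (a2 | ⟨a2, w, hw, a4⟩) | ⟨e, he, a2⟩
    · obtain ⟨e, he, g, hg, h⟩ := hz (mem_subgroupOf.1 (M.ψ7_ker.le (show M.ψ7 ⟨_, a1⟩ = 1 from
        M.φ7_eq_one.2 (M.V_le_cent_Z3 (hX.mem_V_iff.2 a2)))))
      exact ⟨e, he, a3 hg h⟩
    · have b1 : ∀ w ∈ [496, 632], w ∈ Zl ∧ w < 2048 ∧ w ^^^ 1441 < 2048 := by decide
      have b2 := fun w hw => mem_centralizer_singleton_iff.1 (((hX.mul hX).cent_iff (b1 w hw).2.1).2 (a2 w hw))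
      have b3 := (mem_normalizer_iff_cj.1 (M.J5_le hk)).symm
      have b4 := e3 (b3 ▸ Ten.mem_centralizer_cj.2 (by
        rw [show k⁻¹ * (y * y) * k = k⁻¹ * y * k * (k⁻¹ * y * k) by group]
        exact M.mem_cent_Z3 (M.mem_H.1 (mul_mem a0 a0)) (M.v496 ▸ b2 _ (by simp)) (M.v632 ▸ b2 _ (by simp)))) _
        ((mem_normalizer_iff.1 (M.J5_le hk) _).1 (M.v_mem_Z3 (b1 w hw).1))
      have b5 : M.v (ap (vcols (el5 j).2) w) = k⁻¹ * (y * (k * M.v w * k⁻¹) * y⁻¹) * k := by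
        rw [← hX.conj_v (b1 w hw).2.1]; group
      refine (a4 (b4.imp (fun e => ?_) fun e => ?_)).elim
      · exact (M.v_eq_iff (vcols_lt _ _) (b1 w hw).2.1).1 (by rw [b5, e]; group)
      · exact (M.v_eq_iff (vcols_lt _ _) (b1 w hw).2.2).1 (by rw [b5, e, M.v_xor, M.v_z]; group)
    · obtain ⟨c, hc, h⟩ := M.exists_el5 (Nat.mod_lt _ (by norm_num) : _ % 192 < 192)
      exact ⟨e, he, a3 hc (a2 ▸ h.conj hX)⟩

end NM

end CL.J4
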