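/-
Maximal subgroups of a group of Janko-four type, part 1: the possible orders of overgroups.
-/
import Cfsg.Agent.Spor.J4X0

set_option autoImplicit false
set_option synthInstance.maxSize 4096

namespace CL.J4X

/-- the shape of the tests -/
theorem enum' {x : ℕ} {a b : ℕ → Bool} (h : allP (fun n => n % x != 0 || (!a n || (!okB n || b n))) fac 1 = true)
    {n : ℕ} (hn : n ∣ 86775571046077562880) (hx : x ∣ n) (ha : a n = true) (ho : okB n = true) : b n = true := by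
  simpa [Nat.mod_eq_zero_of_dvd hx, ha, ho] using enum h hn

theorem ks_mod {n q e k : ℕ} (h : k ∈ ks n q e) : (n / (q * k) % q == 1) = true := by
  simp only [ks, List.mem_filter, Bool.and_eq_true] at h
  exact h.2.2.2

variable {n : ℕ} (hn : n ∣ 86775571046077562880) (ho : okB n = true)
include hn ho

theorem arH (h : 21799895040 ∣ n) : n = 21799895040 ∨ n = 86775571046077562880 ∨ n = 21799895040 * 23 ∨
    37 ∣ n ∧ ks n 37 12 = [12] :=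
  of_decide_eq_true (enum' (a := fun _ => true) (b := fun n => decide (n = 21799895040 ∨ n = 86775571046077562880 ∨
    n = 21799895040 * 23 ∨ 37 ∣ n ∧ ks n 37 12 = [12])) (by decide +kernel) hn h rfl ho)

theorem arV (h : 501397585920 ∣ n) : n = 501397585920 ∨ n = 86775571046077562880 ∨ 37 ∣ n ∧ ks n 37 12 = [12] :=
  of_decide_eq_true (enum' (a := fun _ => true) (b := fun n => decide (n = 501397585920 ∨ n = 86775571046077562880 ∨
    37 ∣ n ∧ ks n 37 12 = [12])) (by decide +kernel) hn h rfl ho)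

theorem arK (h : 660602880 ∣ n) (h5 : n / 26880 % 5 = 1) (h7 : n / 2520 % 7 = 1) :
    n = 660602880 ∨ n = 86775571046077562880 :=
  of_decide_eq_true (enum' (a := fun n => n / 26880 % 5 == 1 && n / 2520 % 7 == 1)
    (b := fun n => decide (n = 660602880 ∨ n = 86775571046077562880)) (by decide +kernel) hn h (by simp [h5, h7]) ho)

theorem arA (h : 10239344640 ∣ n) : n = 10239344640 ∨ n = 86775571046077562880 ∨ n = 10239344640 * 2 ∨
    n = 10239344640 * 33 ∨ n * 2 = 86775571046077562880 ∨ 29 ∣ n ∧ ks n 29 28 = [28] ∨ 43 ∣ n ∧ ks n 43 14 = [14] :=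
  of_decide_eq_true (enum' (a := fun _ => true) (b := fun n => decide (n = 10239344640 ∨ n = 86775571046077562880 ∨
    n = 10239344640 * 2 ∨ n = 10239344640 * 33 ∨ n * 2 = 86775571046077562880 ∨ 29 ∣ n ∧ ks n 29 28 = [28] ∨
    43 ∣ n ∧ ks n 43 14 = [14])) (by decide +kernel) hn h rfl ho)

theorem arU (h : 319440 ∣ n) (h1 : n / 319440 % 1331 = 1) : n = 319440 ∨ n = 86775571046077562880 ∨
    n = 2 ^ 19 * 9 * 5 * 7 * 1331 ∨ n = 2 ^ 18 * 9 * 5 * 7 * 1331 * 31 * 43 ∨ 29 ∣ n ∧ ks n 29 28 = [28] :=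
  of_decide_eq_true (enum' (a := fun n => n / 319440 % 1331 == 1) (b := fun n => decide (n = 319440 ∨
    n = 86775571046077562880 ∨ n = 2 ^ 19 * 9 * 5 * 7 * 1331 ∨ n = 2 ^ 18 * 9 * 5 * 7 * 1331 * 31 * 43 ∨
    29 ∣ n ∧ ks n 29 28 = [28])) (by decide +kernel) hn h (by simp [h1]) ho)

theorem ar29 (h : 29 * 28 ∣ n) (h1 : 28 ∈ ks n 29 28) : n = 86775571046077562880 ∨
    (n / 28 % 7 = 1 → n = 29 * 28 ∨ 3 ∣ n) ∧ ∀ r ∈ [23 * 31, 23 * 37, 23 * 43, 31 * 37, 31 * 43, 37 * 43], ¬ r ∣ n :=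
  of_decide_eq_true (enum' (a := fun n => n / (29 * 28) % 29 == 1) (b := fun n => decide (n = 86775571046077562880 ∨
    (n / 28 % 7 = 1 → n = 29 * 28 ∨ 3 ∣ n) ∧ ∀ r ∈ [23 * 31, 23 * 37, 23 * 43, 31 * 37, 31 * 43, 37 * 43], ¬ r ∣ n))
    (by decide +kernel) hn h (ks_mod h1) ho)

theorem ar43 (h : 43 * 14 ∣ n) (h1 : 14 ∈ ks n 43 14) : n = 86775571046077562880 ∨
    (n / 14 % 7 = 1 → n = 43 * 14 ∨ 3 ∣ n) ∧ ∀ r ∈ [23 * 29, 23 * 37, 29 * 31, 29 * 37], ¬ r ∣ n :=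
  of_decide_eq_true (enum' (a := fun n => n / (43 * 14) % 43 == 1) (b := fun n => decide (n = 86775571046077562880 ∨
    (n / 14 % 7 = 1 → n = 43 * 14 ∨ 3 ∣ n) ∧ ∀ r ∈ [23 * 29, 23 * 37, 29 * 31, 29 * 37], ¬ r ∣ n))
    (by decide +kernel) hn h (ks_mod h1) ho)

theorem ar37 (h : 37 * 12 ∣ n) (h1 : 12 ∈ ks n 37 12) : n = 86775571046077562880 ∨
    (∀ r ∈ [23 * 31, 23 * 43, 29 * 31, 29 * 43, 31 * 43], ¬ r ∣ n) ∧
    (¬ 9 ∣ n → ¬ 7 ∣ n → ¬ 31 ∣ n → Nat.gcd n 1331 % 3 = 1 → (5 ∣ n → n / 60 % 3 = 1) → n = 37 * 12) ∧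
    (27 ∣ n → n / 108 % 3 = 1 → n = 279720 ∨ 23 ∣ n ∧ ks n 23 22 = [1] ∨ 43 ∣ n ∧ ks n 43 14 = [1] ∨
      29 ∣ n ∧ ks n 29 28 = [28]) :=
  of_decide_eq_true (enum' (a := fun n => n / (37 * 12) % 37 == 1) (b := fun n => decide (n = 86775571046077562880 ∨
    (∀ r ∈ [23 * 31, 23 * 43, 29 * 31, 29 * 43, 31 * 43], ¬ r ∣ n) ∧
    (¬ 9 ∣ n → ¬ 7 ∣ n → ¬ 31 ∣ n → Nat.gcd n 1331 % 3 = 1 → (5 ∣ n → n / 60 % 3 = 1) → n = 37 * 12) ∧
    (27 ∣ n → n / 108 % 3 = 1 → n = 279720 ∨ 23 ∣ n ∧ ks n 23 22 = [1] ∨ 43 ∣ n ∧ ks n 43 14 = [1] ∨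
      29 ∣ n ∧ ks n 29 28 = [28]))) (by decide +kernel) hn h (ks_mod h1) ho)

omit hn ho in
/-- the order `2640 c` of the centraliser in an overgroup of the Sylow 11-normaliser -/
theorem arC {c a : ℕ} (ha : a ≤ 15) (hc : c ∣ 2 ^ a * 21) (h3 : 3 ∣ c) (h : c % 11 = 1) :
    c = 12 ∨ c = 3 * 2 ^ 12 ∨ c = 21 * 2 ^ 5 ∨ c = 21 * 2 ^ 15 := by
  have := allP_spec (l := [(2, 15), (3, 1), (7, 1)]) (c := 1) (p := fun c => decide (3 ∣ c → c % 11 = 1 →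
    c = 12 ∨ c = 3 * 2 ^ 12 ∨ c = 21 * 2 ^ 5 ∨ c = 21 * 2 ^ 15)) (by decide +kernel) (by decide +kernel) c
    (hc.trans (mul_dvd_mul (pow_dvd_pow 2 ha) (by decide)))
  rw [one_mul] at this
  exact of_decide_eq_true this h3 h

end CL.J4X
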