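/-
Certificate of the double coset enumeration for the Lyons group.
Generated by tools/dce.
-/
import Cfsg.Agent.Spor.LyS
import Cfsg.Agent.Spor.LyL

set_option autoImplicit false
set_option maxRecDepth 200000
set_option Elab.async false
set_option linter.unusedVariables false

namespace CL.LyD
open CL.PG CL.DCE

noncomputable def rels : List (List ℕ) :=
  [[1, 12, 0, 49],
  [1, 14, 0, 51],
  [1, 16, 0, 53],
  [1, 18, 0, 55],
  [1, 20, 0, 57],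
  [1, 24, 0, 59],
  [1, 26, 0, 61],
  [1, 28, 0, 63],
  [0, 0, 33],
  [30, 0, 30, 0, 30, 0, 32],
  [42, 0, 64, 0, 72, 0],
  [1, 36, 1, 74, 0, 34, 0, 40],
  [0, 68, 0, 66, 1, 70, 1, 76],
  [0, 44, 0, 38, 1, 46, 1, 78]]
noncomputable def T0 : Tr :=
  .n (.n (.n (.n (.n (.n (.n (.n (.l ⟨(nat_lit 0), (nat_lit 0), (nat_lit 0), (nat_lit 0)⟩)
 (.l ⟨(nat_lit 0x400009), (nat_lit 0x200100c050040401407), (nat_lit 0x320fc1f2bcd6340d9), (nat_lit 0)⟩))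
 (.l ⟨(nat_lit 0x800009), (nat_lit 0x8d25028), (nat_lit 0xb42f4d20802a2ccc638cdb08023), (nat_lit 0)⟩))
 (.n (.l ⟨(nat_lit 0x600005), (nat_lit 0xca37044), (nat_lit 0x1f380360a8d8340da08023), (nat_lit 0)⟩)
 (.l ⟨(nat_lit 0x400007), (nat_lit 0x14030180301407), (nat_lit 0x8c318ca01c1f2c8c1360da), (nat_lit 0)⟩)))
 (.n (.n (.n (.l ⟨(nat_lit 0x400004), (nat_lit 59), (nat_lit 0), (nat_lit 0)⟩)
 (.l ⟨(nat_lit 0x800009), (nat_lit 0x1407004060100101407), (nat_lit 0x268da0a01f2c4d4380c4), (nat_lit 0)⟩))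
 (.l ⟨(nat_lit 0x200005), (nat_lit 0), (nat_lit 7199), (nat_lit 0)⟩))
 (.n (.l ⟨(nat_lit 0x800007), (nat_lit 0xe0a735c28), (nat_lit 0x48da1c812), (nat_lit 0)⟩)
 (.l ⟨(nat_lit 0x800008), (nat_lit 0x701407018070180201808018070180300401), (nat_lit 0), (nat_lit 0)⟩))))
 (.n (.n (.n (.n (.l ⟨(nat_lit 0x200002), (nat_lit 18), (nat_lit 0), (nat_lit 0)⟩)
 (.l ⟨(nat_lit 0x800009), (nat_lit 0x5020020140700c03), (nat_lit 0x2d0bd348200a8ba340de080232bcc12ecdd), (nat_lit 0)⟩))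
 (.l ⟨(nat_lit 0x200003), (nat_lit 3), (nat_lit 0x8020078bd2ecba), (nat_lit 0)⟩))
 (.n (.l ⟨(nat_lit 0x800008), (nat_lit 0x807853), (nat_lit 0), (nat_lit 0)⟩)
 (.l ⟨(nat_lit 0x800007), (nat_lit 0x601c0200c0101407), (nat_lit 0x2d0bd348200a8cc2e8db080232bcc6304e1), (nat_lit 0)⟩)))
 (.n (.n (.l ⟨(nat_lit 0x600006), (nat_lit 0x1c23c99), (nat_lit 0), (nat_lit 0)⟩)
 (.l ⟨(nat_lit 0x800005), (nat_lit 0x1801014080040301407), (nat_lit 0x48521cc4e038b3378df), (nat_lit 0)⟩))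
 (.n (.l ⟨(nat_lit 0x800009), (nat_lit 0x320d83f), (nat_lit 0x2c8cf358c80802a), (nat_lit 0)⟩)
 (.l ⟨(nat_lit 0x600009), (nat_lit 0x1c0501c040040301407), (nat_lit 0x3c0c83f07cc9360d5), (nat_lit 0)⟩)))))
 (.n (.n (.n (.n (.n (.l ⟨(nat_lit 0x800003), (nat_lit 0x98d526002), (nat_lit 0), (nat_lit 0)⟩)
 (.l ⟨(nat_lit 0x800009), (nat_lit 0x40600c060200501c03), (nat_lit 0x1236872048e23042008cbf358d6), (nat_lit 0)⟩))
 (.l ⟨(nat_lit 0x200002), (nat_lit 0x30040501006010040040300401), (nat_lit 0), (nat_lit 0)⟩))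
 (.n (.l ⟨(nat_lit 0x600007), (nat_lit 0xc42707001), (nat_lit 0x1f380360a8c82f0d208023), (nat_lit 0)⟩)
 (.l ⟨(nat_lit 0x600007), (nat_lit 0x3018080100101407), (nat_lit 0x7ce00d82a320bc3482008cb4324b6), (nat_lit 0)⟩)))
 (.n (.n (.l ⟨(nat_lit 0x400005), (nat_lit 0xd20c843), (nat_lit 0xaf36cce2d04c), (nat_lit 0)⟩)
 (.l ⟨(nat_lit 0x400005), (nat_lit 0x801005008040040501c03), (nat_lit 0xaf36cce2d04c2c4b638cd9080442d8c72e8e4), (nat_lit 0)⟩))
 (.n (.l ⟨(nat_lit 0x800007), (nat_lit 0x8952b028), (nat_lit 0x12148731380e2bcc336ce508023), (nat_lit 0)⟩)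
 (.l ⟨(nat_lit 0x800009), (nat_lit 3), (nat_lit 0xd1398c108020078bd2ecba), (nat_lit 0)⟩))))
 (.n (.n (.n (.n (.l ⟨(nat_lit 0x200003), (nat_lit 29), (nat_lit 0x200801e), (nat_lit 0)⟩)
 (.l ⟨(nat_lit 0x800009), (nat_lit 0x1405020040040501c03), (nat_lit 0xb42f4d20802a2ccc638cdb080232bcb1318da), (nat_lit 0)⟩))
 (.l ⟨(nat_lit 0x600003), (nat_lit 0x40501c040040301407), (nat_lit 0), (nat_lit 0)⟩))
 (.n (.l ⟨(nat_lit 0x800005), (nat_lit 51263), (nat_lit 0xe52f0c00802a), (nat_lit 0)⟩)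
 (.l ⟨(nat_lit 0x600007), (nat_lit 0x1c0100c0101407), (nat_lit 0x1f380360a8b4300d8080232c0b830cde), (nat_lit 0)⟩)))
 (.n (.n (.l ⟨(nat_lit 0x600003), (nat_lit 0x602506312801), (nat_lit 0x2c0b3378ba0802a), (nat_lit 0)⟩)
 (.l ⟨(nat_lit 0x600006), (nat_lit 0x70140200c06004040180801002), (nat_lit 0), (nat_lit 0)⟩))
 (.n (.l ⟨(nat_lit 0x800009), (nat_lit 0x9a36828), (nat_lit 0xb42f4d20802a2bcd42e4bc08023), (nat_lit 0)⟩)
 (.l ⟨(nat_lit 0x600009), (nat_lit 0x1c05008050080501c04), (nat_lit 0x27148c301c1f2c4e2358c0), (nat_lit 0)⟩))))))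
 (.n (.n (.n (.n (.n (.n (.l ⟨(nat_lit 0x400003), (nat_lit 7), (nat_lit 0), (nat_lit 0)⟩)
 (.l ⟨(nat_lit 0x600009), (nat_lit 0x180100c010140401407), (nat_lit 0x8952b02807cce398b5), (nat_lit 0)⟩))
 (.l ⟨(nat_lit 0x800009), (nat_lit 0x44c636028), (nat_lit 0xb42f4d20802a2c0b3380c008023), (nat_lit 0)⟩))
 (.n (.l ⟨(nat_lit 0x600007), (nat_lit 29), (nat_lit 0xb1314c32bc200801e), (nat_lit 0)⟩)
 (.l ⟨(nat_lit 0x800007), (nat_lit 0x180700c050040401407), (nat_lit 0xb42f4d20802a2bcc1310bd), (nat_lit 0)⟩)))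
 (.n (.n (.l ⟨(nat_lit 0x400004), (nat_lit 73), (nat_lit 0), (nat_lit 0)⟩)
 (.l ⟨(nat_lit 0x600005), (nat_lit 0x1c0501c040040301407), (nat_lit 0x2bcd82e4bb0802a2d0d92c4d7), (nat_lit 0)⟩))
 (.n (.l ⟨(nat_lit 0x800007), (nat_lit 0x70a729828), (nat_lit 0x394bc300200a8db340c508023), (nat_lit 0)⟩)
 (.l ⟨(nat_lit 0x800008), (nat_lit 0x201808018030140201804004030140700406), (nat_lit 0), (nat_lit 0)⟩))))
 (.n (.n (.n (.n (.l ⟨(nat_lit 0x200002), (nat_lit 26), (nat_lit 0), (nat_lit 0)⟩)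
 (.l ⟨(nat_lit 0x600009), (nat_lit 0x1808008040140301407), (nat_lit 0x100d83b0a01f2bcb5370c3), (nat_lit 0)⟩))
 (.l ⟨(nat_lit 0x200003), (nat_lit 0x1c0501c040040301407), (nat_lit 0x802a2d0d92c4d7), (nat_lit 0)⟩))
 (.n (.l ⟨(nat_lit 0x800008), (nat_lit 0x10644e0ec01), (nat_lit 0), (nat_lit 0)⟩)
 (.l ⟨(nat_lit 0x800007), (nat_lit 0x1407004040040501c03), (nat_lit 0xe52f0c00802a2d4e5328bc080232c4cf35cd6), (nat_lit 0)⟩)))
 (.n (.n (.l ⟨(nat_lit 0x600003), (nat_lit 40), (nat_lit 0x2bcb3324cf08023), (nat_lit 0)⟩)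
 (.l ⟨(nat_lit 0x400005), (nat_lit 0x804014040180801407), (nat_lit 0xaf36cce2d04c2c0cf2f8c7), (nat_lit 0)⟩))
 (.n (.l ⟨(nat_lit 0x800009), (nat_lit 49192), (nat_lit 0xb42f4d20802a2bcc8370ba08023), (nat_lit 0)⟩)
 (.l ⟨(nat_lit 0x800009), (nat_lit 0x2014070040501c04), (nat_lit 0x1236872048c9388c0080232c4bb368b9), (nat_lit 0)⟩)))))
 (.n (.n (.n (.n (.n (.l ⟨(nat_lit 0x200002), (nat_lit 14), (nat_lit 0), (nat_lit 0)⟩)
 (.l ⟨(nat_lit 0x800009), (nat_lit 0x1405020030040401407), (nat_lit 0x2d0bd348200a8af320dc2e82008ccf36ce0), (nat_lit 0)⟩))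
 (.l ⟨(nat_lit 0x200002), (nat_lit 0xc0300406010020180301804), (nat_lit 0), (nat_lit 0)⟩))
 (.n (.l ⟨(nat_lit 0x600007), (nat_lit 0x80e0dc51), (nat_lit 0x1f380360a8b4300d808023354cd35049), (nat_lit 0)⟩)
 (.l ⟨(nat_lit 0x400007), (nat_lit 0x1014070080500c0201407), (nat_lit 0x3f07ce3374d6), (nat_lit 0)⟩)))
 (.n (.n (.l ⟨(nat_lit 0x600006), (nat_lit 0xf04838), (nat_lit 0), (nat_lit 0)⟩)
 (.l ⟨(nat_lit 0x600005), (nat_lit 0x2005014020100501c03), (nat_lit 0x7ce00d82a2c0b3398cc), (nat_lit 0)⟩))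
 (.n (.l ⟨(nat_lit 0x800009), (nat_lit 29), (nat_lit 0x344e6304200801e), (nat_lit 0)⟩)
 (.l ⟨(nat_lit 0x800009), (nat_lit 0x7014070100100c0501c03), (nat_lit 0xd6344b80802a2c8e032cc0), (nat_lit 0)⟩))))
 (.n (.n (.n (.n (.l ⟨(nat_lit 0x400004), (nat_lit 0x109c4a), (nat_lit 0), (nat_lit 0)⟩)
 (.l ⟨(nat_lit 0x800009), (nat_lit 0x140501c0100c0101407), (nat_lit 0x2d0bd348200a8cc2e8db080232d0e2310df080232dcc5388c6), (nat_lit 0)⟩))
 (.l ⟨(nat_lit 0x400004), (nat_lit 0x101802014010100501c060080500804), (nat_lit 0), (nat_lit 0)⟩))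
 (.n (.l ⟨(nat_lit 0x800007), (nat_lit 59455), (nat_lit 0xb42f4d20802a), (nat_lit 0)⟩)
 (.l ⟨(nat_lit 0x600007), (nat_lit 0x14020140201807), (nat_lit 0x1f380360a8b4300d808023354cd350492e4b9), (nat_lit 0)⟩)))
 (.n (.n (.l ⟨(nat_lit 0x600005), (nat_lit 63), (nat_lit 0x2bcd82e4bb0802a), (nat_lit 0)⟩)
 (.l ⟨(nat_lit 0x200007), (nat_lit 0), (nat_lit 0x10143c16c1f), (nat_lit 0)⟩))
 (.n (.l ⟨(nat_lit 0x800009), (nat_lit 0x7cc524828), (nat_lit 0x2d0bd348200a8db358bc08023), (nat_lit 0)⟩)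
 (.l ⟨(nat_lit 0x600009), (nat_lit 0x1c0600c060180701407), (nat_lit 0x3829cd70a01f2bcb1388d6), (nat_lit 0)⟩)))))))
 (.n (.n (.n (.n (.n (.n (.n (.l ⟨(nat_lit 0x200001), (nat_lit 0), (nat_lit 0), (nat_lit 0)⟩)
 (.l ⟨(nat_lit 0x800009), (nat_lit 0x1c03014010100501c03), (nat_lit 0xc83f07cbc2e0d6), (nat_lit 0)⟩))
 (.l ⟨(nat_lit 0x800009), (nat_lit 0x3048831c28), (nat_lit 0xb42f4d20802a2ccc638cdb080232dcc630cbf08023), (nat_lit 0)⟩))
 (.n (.l ⟨(nat_lit 0x600005), (nat_lit 0x230c632807), (nat_lit 0x1f380360a8af2ccda35c49), (nat_lit 0)⟩)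
 (.l ⟨(nat_lit 0x800007), (nat_lit 0x1c040140101407), (nat_lit 0x12148731380e2bcc336ce5080232bccc394c1), (nat_lit 0)⟩)))
 (.n (.n (.l ⟨(nat_lit 0x400003), (nat_lit 7), (nat_lit 73), (nat_lit 0)⟩)
 (.l ⟨(nat_lit 0x800005), (nat_lit 3), (nat_lit 0xcc2d4d408020078bd2ecba), (nat_lit 0)⟩))
 (.n (.l ⟨(nat_lit 0x800007), (nat_lit 0x9c5230c07), (nat_lit 0x394bc300200a8c1304c908023), (nat_lit 0)⟩)
 (.l ⟨(nat_lit 0x800008), (nat_lit 0x1405020060040500c050040501c0101405), (nat_lit 0), (nat_lit 0)⟩))))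
 (.n (.n (.n (.n (.l ⟨(nat_lit 0x200002), (nat_lit 2), (nat_lit 0), (nat_lit 0)⟩)
 (.l ⟨(nat_lit 0x600009), (nat_lit 0x4018060080601c03), (nat_lit 0x1a318d80a01f2e0da36cd2), (nat_lit 0)⟩))
 (.l ⟨(nat_lit 0x400003), (nat_lit 7), (nat_lit 0), (nat_lit 0)⟩))
 (.n (.l ⟨(nat_lit 0x800003), (nat_lit 43), (nat_lit 0xb02e8de3884e), (nat_lit 0)⟩)
 (.l ⟨(nat_lit 0x800007), (nat_lit 0xc05014080100201407), (nat_lit 0x394bc300200a8c1304c9080232bcb8330d4), (nat_lit 0)⟩)))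
 (.n (.n (.l ⟨(nat_lit 0x600006), (nat_lit 0x3a24c9e), (nat_lit 0), (nat_lit 0)⟩)
 (.l ⟨(nat_lit 0x600005), (nat_lit 0x403018020180700404), (nat_lit 0x1f380360a8af2ccda35c492f4bb), (nat_lit 0)⟩))
 (.n (.l ⟨(nat_lit 0x800009), (nat_lit 0x360d03f), (nat_lit 0xd6344b80802a), (nat_lit 0)⟩)
 (.l ⟨(nat_lit 0x800009), (nat_lit 0x700403014010100501c03), (nat_lit 0x2c0d138cce0802a2bcb6398cc), (nat_lit 0)⟩)))))
 (.n (.n (.n (.n (.n (.l ⟨(nat_lit 0x200002), (nat_lit 6), (nat_lit 0), (nat_lit 0)⟩)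
 (.l ⟨(nat_lit 0x800009), (nat_lit 0x1c04014010140700c03), (nat_lit 0x2d0bd348200a8b3318e336c2008cb7318c32fc2008cba358e6), (nat_lit 0)⟩))
 (.l ⟨(nat_lit 0x200002), (nat_lit 0x80600c0500c020100601802), (nat_lit 0), (nat_lit 0)⟩))
 (.n (.l ⟨(nat_lit 0x600007), (nat_lit 0x3c9233028), (nat_lit 0x7ce00d82a2d0c03602008cb7374d908023), (nat_lit 0)⟩)
 (.l ⟨(nat_lit 0x600007), (nat_lit 0x20040140201407), (nat_lit 0x7ce00d82a2d0c03602008cb7374d9080232c8d5300e1), (nat_lit 0)⟩)))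
 (.n (.n (.l ⟨(nat_lit 0x400005), (nat_lit 0x4c523041), (nat_lit 0xaf36cce2d04c2c4b638cd908044), (nat_lit 0)⟩)
 (.l ⟨(nat_lit 0x800005), (nat_lit 0x700403014010100501c03), (nat_lit 0xe52f0c00802a2bcb6398cc), (nat_lit 0)⟩))
 (.n (.l ⟨(nat_lit 0x800007), (nat_lit 0x68c636028), (nat_lit 0x2d0bd348200a8cc2e8db08023), (nat_lit 0)⟩)
 (.l ⟨(nat_lit 0x400009), (nat_lit 1028), (nat_lit 0x1d07cb92ecb9), (nat_lit 0)⟩))))
 (.n (.n (.n (.n (.l ⟨(nat_lit 0x200003), (nat_lit 63), (nat_lit 32810), (nat_lit 0)⟩)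
 (.l ⟨(nat_lit 0x600009), (nat_lit 0xc0500c0601c03), (nat_lit 0x70a72982807cb72f4c4), (nat_lit 0)⟩))
 (.l ⟨(nat_lit 0x400004), (nat_lit 0xc01018010140401001020050080600804), (nat_lit 0), (nat_lit 0)⟩))
 (.n (.l ⟨(nat_lit 0x800005), (nat_lit 0x49a11020), (nat_lit 0x12148731380e), (nat_lit 0)⟩)
 (.l ⟨(nat_lit 0x800007), (nat_lit 0x1004018080100501c03), (nat_lit 0x1236872048bf2c0dd), (nat_lit 0)⟩)))
 (.n (.n (.l ⟨(nat_lit 0x600006), (nat_lit 0xfc9904435), (nat_lit 0), (nat_lit 0)⟩)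
 (.l ⟨(nat_lit 0x600006), (nat_lit 0x8030180200c0301803014070040601807), (nat_lit 0), (nat_lit 0)⟩))
 (.n (.l ⟨(nat_lit 0x800009), (nat_lit 0x4c13244a), (nat_lit 0x1236872048c9388c008023), (nat_lit 0)⟩)
 (.l ⟨(nat_lit 0x600009), (nat_lit 0x20040040500c0201407), (nat_lit 0xe83f07cd3354e1), (nat_lit 0)⟩))))))
 (.n (.n (.n (.n (.n (.n (.l ⟨(nat_lit 0x600003), (nat_lit 0x4050f05b), (nat_lit 0), (nat_lit 0)⟩)
 (.l ⟨(nat_lit 0x800009), (nat_lit 0x501c0501c03), (nat_lit 0xb42f4d20802a36cd62f02008cb52fcd4), (nat_lit 0)⟩))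
 (.l ⟨(nat_lit 0x800009), (nat_lit 0xd4d332828), (nat_lit 0x48da1c812388c108023), (nat_lit 0)⟩))
 (.n (.l ⟨(nat_lit 0x600007), (nat_lit 0x4a83304a), (nat_lit 0x1f380360a8b4300d808023), (nat_lit 0)⟩)
 (.l ⟨(nat_lit 0x800007), (nat_lit 0x1c0500c0201407), (nat_lit 0xaf2fcc630c200a8dc314db), (nat_lit 0)⟩)))
 (.n (.n (.l ⟨(nat_lit 0x400005), (nat_lit 0x360d03f), (nat_lit 0x2c8e531cdb0802a), (nat_lit 0)⟩)
 (.l ⟨(nat_lit 0x400005), (nat_lit 0x7014070100100c0501c03), (nat_lit 0x2c8e531cdb0802a2c8e032cc0), (nat_lit 0)⟩))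
 (.n (.l ⟨(nat_lit 0x800007), (nat_lit 0x40360ec28), (nat_lit 0xe52f0c00802a2d4e5328bc08023), (nat_lit 0)⟩)
 (.l ⟨(nat_lit 0x200009), (nat_lit 0), (nat_lit 0x26354980081f), (nat_lit 0)⟩))))
 (.n (.n (.n (.n (.l ⟨(nat_lit 0x200002), (nat_lit 28), (nat_lit 0), (nat_lit 0)⟩)
 (.l ⟨(nat_lit 0x800009), (nat_lit 0x1014070100201407), (nat_lit 0x2d0bd348200a8af350b92f02008caf398db), (nat_lit 0)⟩))
 (.l ⟨(nat_lit 0x800003), (nat_lit 0xc03018030080401807), (nat_lit 0), (nat_lit 0)⟩))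
 (.n (.l ⟨(nat_lit 0x800005), (nat_lit 29), (nat_lit 0x330b5350200801e), (nat_lit 0)⟩)
 (.l ⟨(nat_lit 0x800007), (nat_lit 0x500c0501c0201407), (nat_lit 0xe52f0c00802a36cd03142008ccf2e8d6), (nat_lit 0)⟩)))
 (.n (.n (.l ⟨(nat_lit 0x600006), (nat_lit 0x391481c10402), (nat_lit 0), (nat_lit 0)⟩)
 (.l ⟨(nat_lit 0x600006), (nat_lit 0x40400804010070180101006), (nat_lit 0), (nat_lit 0)⟩))
 (.n (.l ⟨(nat_lit 0x800009), (nat_lit 0xcd3504a), (nat_lit 0x2d0bd348200a8cc2e8db080232d0e2310df08023), (nat_lit 0)⟩)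
 (.l ⟨(nat_lit 0x800009), (nat_lit 0x1004008060200201407), (nat_lit 0xb42f4d20802a2c0b3380c0080232c4b9388cb), (nat_lit 0)⟩)))))
 (.n (.n (.n (.n (.n (.l ⟨(nat_lit 0x200002), (nat_lit 16), (nat_lit 0), (nat_lit 0)⟩)
 (.l ⟨(nat_lit 0x400009), (nat_lit 0x18070100201407), (nat_lit 0x1268440801f2c8cf35ce5), (nat_lit 0)⟩))
 (.l ⟨(nat_lit 3), (nat_lit 0), (nat_lit 31), (nat_lit 0)⟩))
 (.n (.l ⟨(nat_lit 0x800008), (nat_lit 0x106401), (nat_lit 0), (nat_lit 0)⟩)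
 (.l ⟨(nat_lit 0x400007), (nat_lit 0x2004004050040401407), (nat_lit 0xc03c0fc1f2cce0394b5), (nat_lit 0)⟩)))
 (.n (.n (.l ⟨(nat_lit 0x600006), (nat_lit 0xc230caa), (nat_lit 0), (nat_lit 0)⟩)
 (.l ⟨(nat_lit 0x600005), (nat_lit 0x1804018080100401407), (nat_lit 0x1f380360a8d8340da080232bcbe2ccc1), (nat_lit 0)⟩))
 (.n (.l ⟨(nat_lit 0x800009), (nat_lit 51263), (nat_lit 0x2c0d138cce0802a), (nat_lit 0)⟩)
 (.l ⟨(nat_lit 0x800009), (nat_lit 0x800403014030080501c03), (nat_lit 0x2c8cf358c80802a2ccda320df), (nat_lit 0)⟩))))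
 (.n (.n (.n (.n (.l ⟨(nat_lit 0x400004), (nat_lit 2), (nat_lit 0), (nat_lit 0)⟩)
 (.l ⟨(nat_lit 0x800009), (nat_lit 0x5004060080301407), (nat_lit 0xc02807cbe36cdd), (nat_lit 0)⟩))
 (.l ⟨(nat_lit 0x400004), (nat_lit 0x500c0801403014030080501c0300c0601801), (nat_lit 0), (nat_lit 0)⟩))
 (.n (.l ⟨(nat_lit 0x800007), (nat_lit 0x3c0c83f), (nat_lit 0x2bcbf318c30802a), (nat_lit 0)⟩)
 (.l ⟨(nat_lit 0x400007), (nat_lit 0x8018040140101407), (nat_lit 0x328dc1101f2c0d42f4d6), (nat_lit 0)⟩)))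
 (.n (.n (.l ⟨(nat_lit 0x600005), (nat_lit 0x300f03f), (nat_lit 0x7ce00d82a), (nat_lit 0)⟩)
 (.l ⟨(nat_lit 0x600007), (nat_lit 3), (nat_lit 0x2c4c530caf08020078bd2ecba), (nat_lit 0)⟩))
 (.n (.l ⟨(nat_lit 0x800009), (nat_lit 0x2349400828), (nat_lit 0x2d0bd348200a8ba340de08023), (nat_lit 0)⟩)
 (.l ⟨(nat_lit 0x800009), (nat_lit 0x401403018020100501c03), (nat_lit 0x8d250020a01f2d0cf36ce5), (nat_lit 0)⟩)))))))
noncomputable def T : Tr :=
  T0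
noncomputable def C : Cf :=
  ⟨false, [31], [], 118, 174, 56,
  [(false, [], []),
  (false, [], [[31], []]),
  (true, [], [[]]),
  (true, [29], [[29, 31], [29, 31, 31]]),
  (true, [63], [[71, 31], [41, 31]]),
  (true, [34], [[38, 31], [32], [72]]),
  (true, [67], [[65, 31], [69], [75]]),
  (true, [65], [[69], [75], [67, 31]]),
  (true, [38], [[32], [72], [34, 31]]),
  (true, [43], [[37, 31], [45], [77]])],
  T, CL.LyS.chk⟩
noncomputable def R0 : List (List ℕ) :=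
  [[0],
  [],
  [],
  [],
  [],
  [(nat_lit 1), (nat_lit 0xa31f097000007), 0, (nat_lit 5)],
  [(nat_lit 1), (nat_lit 0x7c2449f000007), 0, (nat_lit 5)],
  [(nat_lit 1), (nat_lit 0x7829087000007), 0, (nat_lit 5)],
  [(nat_lit 1), (nat_lit 0xab2249f000007), 0, (nat_lit 5)],
  [(nat_lit 1), (nat_lit 0x7d23486000007), 0, (nat_lit 5)],
  [(nat_lit 1), (nat_lit 0x8220884000007), 0, (nat_lit 5)],
  [(nat_lit 1), (nat_lit 0x8121482000007), 0, (nat_lit 5)],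
  [(nat_lit 3), (nat_lit 7), 0, (nat_lit 5)],
  [(nat_lit 4), (nat_lit 7), 0, (nat_lit 5)],
  [(nat_lit 1), (nat_lit 0x1e4782849400000b), (nat_lit 37), (nat_lit 41), (nat_lit 37), (nat_lit 45), (nat_lit 43), (nat_lit 9)],
  [(nat_lit 1), (nat_lit 0x7d2348600000b), (nat_lit 39), (nat_lit 9)],
  [(nat_lit 1), (nat_lit 0x8400000b), (nat_lit 39), (nat_lit 39), (nat_lit 43), (nat_lit 9)],
  [(nat_lit 5), (nat_lit 7), 0, (nat_lit 5), (nat_lit 9)],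
  [(nat_lit 1), (nat_lit 71), (nat_lit 9)],
  [(nat_lit 4), (nat_lit 0x1f47b00000b), (nat_lit 23), (nat_lit 39), (nat_lit 35), (nat_lit 41), (nat_lit 37), (nat_lit 0x1e8ad23ca3000009)],
  [(nat_lit 6), (nat_lit 0x8624cad00000b), (nat_lit 43), (nat_lit 39), (nat_lit 33), (nat_lit 41), (nat_lit 35), (nat_lit 45), (nat_lit 0x1dcae24898000035), (nat_lit 39), (nat_lit 35), (nat_lit 39), (nat_lit 43), (nat_lit 23), (nat_lit 39), (nat_lit 0x1dca32587c000009)],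
  [(nat_lit 7), (nat_lit 0x7f2b08500000b), (nat_lit 27), (nat_lit 45), (nat_lit 41), (nat_lit 37), (nat_lit 35), (nat_lit 41), (nat_lit 47), (nat_lit 0x1f4862889a000009), (nat_lit 73), (nat_lit 63), (nat_lit 75), (nat_lit 61), (nat_lit 75), (nat_lit 0x1e47e2aca1000051)],
  [(nat_lit 1), (nat_lit 0x931f89600000f), (nat_lit 29), (nat_lit 45), (nat_lit 23), (nat_lit 47), (nat_lit 13)],
  [(nat_lit 1), (nat_lit 0x1e4841ec9800000f), (nat_lit 29), (nat_lit 37), (nat_lit 43), (nat_lit 23), (nat_lit 47), (nat_lit 13)],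
  [(nat_lit 1), (nat_lit 0x992049100000f), (nat_lit 47), (nat_lit 43), (nat_lit 39), (nat_lit 13)],
  [(nat_lit 1), (nat_lit 0x8124c9e00000f), (nat_lit 31), (nat_lit 45), (nat_lit 21), (nat_lit 41), (nat_lit 37), (nat_lit 13)],
  [(nat_lit 8), (nat_lit 7), 0, (nat_lit 5), (nat_lit 25), (nat_lit 37), (nat_lit 41), (nat_lit 37), (nat_lit 47), (nat_lit 43), (nat_lit 39), (nat_lit 31), (nat_lit 0x1dc7b2449700000d)],
  [(nat_lit 1), (nat_lit 0x1e8882848a00006b), (nat_lit 13)],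
  [(nat_lit 4), (nat_lit 0x8722c7b000035), (nat_lit 37), (nat_lit 41), (nat_lit 23), (nat_lit 37), (nat_lit 29), (nat_lit 0x1e07b2988200000d)],
  [(nat_lit 0xb0388c538801), (nat_lit 0x1dc8c268a5000073), (nat_lit 31), (nat_lit 41), (nat_lit 37), (nat_lit 45), (nat_lit 31), (nat_lit 43), (nat_lit 47), (nat_lit 0x1e0aa234aa00000d)],
  [(nat_lit 4), (nat_lit 11), (nat_lit 43), (nat_lit 39), (nat_lit 0x1dca02048300000d)],
  [(nat_lit 4), (nat_lit 0x1dc8300000b), (nat_lit 37), (nat_lit 41), (nat_lit 39), (nat_lit 47), (nat_lit 43), (nat_lit 29), (nat_lit 29), (nat_lit 0x1e09b2109600000d)],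
  [(nat_lit 8), (nat_lit 0x1f09c278a600000b), (nat_lit 33), (nat_lit 47), (nat_lit 23), (nat_lit 23), (nat_lit 25), (nat_lit 0x9f25482000009), (nat_lit 75), (nat_lit 65), (nat_lit 59), (nat_lit 73), (nat_lit 59), (nat_lit 0xa0260a200007d)],
  [(nat_lit 5), (nat_lit 0x1e4812948500000b), (nat_lit 27), (nat_lit 45), (nat_lit 41), (nat_lit 37), (nat_lit 35), (nat_lit 41), (nat_lit 47), (nat_lit 0x7d2287d000009), (nat_lit 57), (nat_lit 75), (nat_lit 59), (nat_lit 73), (nat_lit 63), (nat_lit 73), (nat_lit 67), (nat_lit 0x1dc7b2889f00007d)],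
  [(nat_lit 3), (nat_lit 15), (nat_lit 29), (nat_lit 29), (nat_lit 47), (nat_lit 43), (nat_lit 39), (nat_lit 31), (nat_lit 0x1e48d22c7700000d)],
  [(nat_lit 8), (nat_lit 0x1e4901f48700000f), (nat_lit 27), (nat_lit 45), (nat_lit 43), (nat_lit 33), (nat_lit 45), (nat_lit 25), (nat_lit 39), (nat_lit 0xa92487e000009), (nat_lit 59), (nat_lit 75), (nat_lit 63), (nat_lit 75), (nat_lit 65), (nat_lit 75), (nat_lit 59), (nat_lit 0x7c220a000007d)],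
  [(nat_lit 8), (nat_lit 0x1e8842188400000f), (nat_lit 23), (nat_lit 35), (nat_lit 41), (nat_lit 31), (nat_lit 39), (nat_lit 47), (nat_lit 0x1ec982088e000009), (nat_lit 61), (nat_lit 75), (nat_lit 61), (nat_lit 73), (nat_lit 59), (nat_lit 0x902109a00007d)],
  [(nat_lit 8), (nat_lit 0x7b1dc7f00000f), (nat_lit 23), (nat_lit 37), (nat_lit 35), (nat_lit 21), (nat_lit 41), (nat_lit 37), (nat_lit 45), (nat_lit 0x1dc872b48500000d), (nat_lit 111), (nat_lit 117), (nat_lit 95), (nat_lit 89), (nat_lit 0x7f294a100008d)],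
  [(nat_lit 5), (nat_lit 0x1f08d2ac8200000f), (nat_lit 23), (nat_lit 41), (nat_lit 37), (nat_lit 47), (nat_lit 27), (nat_lit 23), (nat_lit 0x1dc8a23c7900000d), (nat_lit 89), (nat_lit 109), (nat_lit 93), (nat_lit 117), (nat_lit 109), (nat_lit 0x9d2549c00008d)],
  [(nat_lit 1), (nat_lit 0x8120c82000013), (nat_lit 21), (nat_lit 29), (nat_lit 37), (nat_lit 41), (nat_lit 37), (nat_lit 17)],
  [(nat_lit 1), (nat_lit 0x1e49320c9c000013), (nat_lit 41), (nat_lit 39), (nat_lit 17)],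
  [(nat_lit 9), (nat_lit 7), 0, (nat_lit 5), (nat_lit 23), (nat_lit 25), (nat_lit 33), (nat_lit 23), (nat_lit 37), (nat_lit 0x1e082298aa000011)],
  [(nat_lit 0xb02e8de38801), (nat_lit 167), (nat_lit 23), (nat_lit 25), (nat_lit 33), (nat_lit 23), (nat_lit 37), (nat_lit 0x1e082298aa000011)],
  [(nat_lit 3), (nat_lit 11), (nat_lit 23), (nat_lit 25), (nat_lit 33), (nat_lit 23), (nat_lit 37), (nat_lit 0x941f49c000011)],
  [(nat_lit 4), (nat_lit 0x7900000b), (nat_lit 21), (nat_lit 45), (nat_lit 33), (nat_lit 37), (nat_lit 47), (nat_lit 43), (nat_lit 0xad21088000011)],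
  [(nat_lit 8), (nat_lit 0x771e47700000b), (nat_lit 25), (nat_lit 41), (nat_lit 33), (nat_lit 37), (nat_lit 43), (nat_lit 47), (nat_lit 43), (nat_lit 0xae2148c000009), (nat_lit 73), (nat_lit 57), (nat_lit 75), (nat_lit 63), (nat_lit 73), (nat_lit 59), (nat_lit 0x7d214a50000b1)],
  [(nat_lit 4), (nat_lit 0x8100000f), (nat_lit 41), (nat_lit 47), (nat_lit 25), (nat_lit 41), (nat_lit 39), (nat_lit 25), (nat_lit 41), (nat_lit 0x7c2149a000011)],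
  [(nat_lit 4), (nat_lit 0x20c7900000f), (nat_lit 25), (nat_lit 43), (nat_lit 25), (nat_lit 29), (nat_lit 47), (nat_lit 0x1dc872388b000011)],
  [(nat_lit 8), (nat_lit 0x1dcac2889f00000f), (nat_lit 45), (nat_lit 25), (nat_lit 31), (nat_lit 35), (nat_lit 39), (nat_lit 0x772249e000009), (nat_lit 65), (nat_lit 73), (nat_lit 59), (nat_lit 73), (nat_lit 63), (nat_lit 0x1ec8123ca80000b5)],
  [(nat_lit 8), (nat_lit 0x1e0a71ec9a00000f), (nat_lit 23), (nat_lit 47), (nat_lit 35), (nat_lit 41), (nat_lit 31), (nat_lit 37), (nat_lit 0x1e07826094000009), (nat_lit 73), (nat_lit 61), (nat_lit 67), (nat_lit 75), (nat_lit 67), (nat_lit 75), (nat_lit 0x89224910000b1)],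
  [(nat_lit 8), (nat_lit 0x9c2709e00000f), (nat_lit 23), (nat_lit 47), (nat_lit 35), (nat_lit 41), (nat_lit 31), (nat_lit 37), (nat_lit 0xa02189b000009), (nat_lit 57), (nat_lit 75), (nat_lit 65), (nat_lit 75), (nat_lit 67), (nat_lit 73), (nat_lit 0xa32608d0000b1)],
  [(nat_lit 8), (nat_lit 0x791e48400000f), (nat_lit 23), (nat_lit 47), (nat_lit 35), (nat_lit 41), (nat_lit 31), (nat_lit 37), (nat_lit 0x1f8a32ac8b000009), (nat_lit 57), (nat_lit 65), (nat_lit 75), (nat_lit 65), (nat_lit 75), (nat_lit 61), (nat_lit 0x1f4ad248840000b1)],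
  [(nat_lit 8), (nat_lit 0x1dc8e1f09400000f), (nat_lit 45), (nat_lit 39), (nat_lit 35), (nat_lit 41), (nat_lit 47), (nat_lit 29), (nat_lit 37), (nat_lit 0x9b21079000009), (nat_lit 73), (nat_lit 67), (nat_lit 73), (nat_lit 61), (nat_lit 73), (nat_lit 65), (nat_lit 0x1dc8b28cad0000b5)],
  [(nat_lit 8), (nat_lit 0x1e4812248100000f), (nat_lit 35), (nat_lit 41), (nat_lit 37), (nat_lit 45), (nat_lit 35), (nat_lit 41), (nat_lit 39), (nat_lit 0x1e4ab2489b00000d), (nat_lit 89), (nat_lit 95), (nat_lit 99), (nat_lit 119), (nat_lit 0x94208a30000b9)],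
  [(nat_lit 3), (nat_lit 19), (nat_lit 41), (nat_lit 45), (nat_lit 41), (nat_lit 31), (nat_lit 37), (nat_lit 41), (nat_lit 0x992b889000011)],
  [(nat_lit 4), (nat_lit 0x79000013), (nat_lit 33), (nat_lit 45), (nat_lit 31), (nat_lit 41), (nat_lit 47), (nat_lit 0x1e0992ac96000011)],
  [(nat_lit 4), (nat_lit 0x1e47d000013), (nat_lit 23), (nat_lit 45), (nat_lit 29), (nat_lit 45), (nat_lit 27), (nat_lit 45), (nat_lit 0x1e89727890000011)],
  [(nat_lit 4), (nat_lit 0x1f47b000013), (nat_lit 39), (nat_lit 35), (nat_lit 43), (nat_lit 21), (nat_lit 35), (nat_lit 43), (nat_lit 0x9e26480000011)],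
  [(nat_lit 8), (nat_lit 0x77000013), (nat_lit 21), (nat_lit 39), (nat_lit 29), (nat_lit 41), (nat_lit 25), (nat_lit 0x1dc8f29c9900000d), (nat_lit 101), (nat_lit 117), (nat_lit 111), (nat_lit 103), (nat_lit 0x1dc90290820000b9)],
  [(nat_lit 8), (nat_lit 0x8128488000013), (nat_lit 21), (nat_lit 39), (nat_lit 29), (nat_lit 41), (nat_lit 25), (nat_lit 0x1ec8c2889200000d), (nat_lit 93), (nat_lit 109), (nat_lit 109), (nat_lit 93), (nat_lit 89), (nat_lit 0x1f0aa230a70000d5)],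
  [(nat_lit 8), (nat_lit 0x87264ae000013), (nat_lit 21), (nat_lit 45), (nat_lit 41), (nat_lit 27), (nat_lit 39), (nat_lit 27), (nat_lit 47), (nat_lit 0x1e4862949500000d), (nat_lit 99), (nat_lit 119), (nat_lit 111), (nat_lit 0x1dc9c204840000b9)],
  [(nat_lit 8), (nat_lit 0x1ec8c228a8000013), (nat_lit 27), (nat_lit 39), (nat_lit 39), (nat_lit 33), (nat_lit 47), (nat_lit 0x1dc841e8a000000d), (nat_lit 95), (nat_lit 117), (nat_lit 109), (nat_lit 97), (nat_lit 0x912a8880000c1)],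
  [(nat_lit 8), (nat_lit 0x1e0982109e000013), (nat_lit 47), (nat_lit 29), (nat_lit 35), (nat_lit 41), (nat_lit 37), (nat_lit 0x1e89c2309900000d), (nat_lit 119), (nat_lit 109), (nat_lit 93), (nat_lit 111), (nat_lit 0xa3278840000b9)],
  [(nat_lit 8), (nat_lit 0x1e48128488000013), (nat_lit 47), (nat_lit 29), (nat_lit 35), (nat_lit 41), (nat_lit 37), (nat_lit 0x812488700000d), (nat_lit 117), (nat_lit 0x82260a60000b9)],
  [(nat_lit 8), (nat_lit 0x23494000013), (nat_lit 47), (nat_lit 29), (nat_lit 35), (nat_lit 41), (nat_lit 37), (nat_lit 0x204852309d00000d), (nat_lit 91), (nat_lit 95), (nat_lit 111), (nat_lit 97), (nat_lit 119), (nat_lit 0x1ec8e2aca30000b9)],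
  [(nat_lit 8), (nat_lit 0x1dc7b2088a000013), (nat_lit 27), (nat_lit 41), (nat_lit 37), (nat_lit 45), (nat_lit 43), (nat_lit 21), (nat_lit 0x22cae27c8f000011), (nat_lit 159), (nat_lit 159), (nat_lit 169), (nat_lit 157), (nat_lit 169), (nat_lit 157), (nat_lit 169), (nat_lit 0x1fc8e22c87000101)],
  [(nat_lit 8), (nat_lit 0x7f23494000013), (nat_lit 21), (nat_lit 45), (nat_lit 25), (nat_lit 41), (nat_lit 35), (nat_lit 41), (nat_lit 0x781e8ab00000d), (nat_lit 89), (nat_lit 93), (nat_lit 97), (nat_lit 119), (nat_lit 0x1e07b2a0880000b9)],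
  [(nat_lit 8), (nat_lit 0x1dc8323c91000013), (nat_lit 21), (nat_lit 37), (nat_lit 21), (nat_lit 25), (nat_lit 47), (nat_lit 0x1ec8c2a8a800000d), (nat_lit 91), (nat_lit 119), (nat_lit 93), (nat_lit 109), (nat_lit 109), (nat_lit 0x2a8890000c1)],
  [(nat_lit 0), (nat_lit 25), (nat_lit 37), (nat_lit 43), (nat_lit 31), (nat_lit 45), (nat_lit 43)],
  [(nat_lit 0), (nat_lit 25), (nat_lit 37), (nat_lit 47), (nat_lit 33), (nat_lit 31), (nat_lit 43)],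
  [(nat_lit 0), (nat_lit 47), (nat_lit 43), (nat_lit 29), (nat_lit 47), (nat_lit 35), (nat_lit 47)],
  [(nat_lit 2), (nat_lit 7)],
  [(nat_lit 2), (nat_lit 0x8520c82000031)],
  [(nat_lit 2), (nat_lit 9)],
  [(nat_lit 2), (nat_lit 0x1f0a11e49f000035)],
  [(nat_lit 2), (nat_lit 17)],
  [(nat_lit 2), (nat_lit 13)],
  [(nat_lit 0), (nat_lit 57), (nat_lit 75), (nat_lit 67), (nat_lit 75), (nat_lit 59), (nat_lit 75)],
  [(nat_lit 0), (nat_lit 73), (nat_lit 57), (nat_lit 75), (nat_lit 57), (nat_lit 75)],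
  [(nat_lit 0), (nat_lit 75), (nat_lit 61), (nat_lit 67), (nat_lit 73), (nat_lit 63), (nat_lit 73)],
  [(nat_lit 2), (nat_lit 11)],
  [(nat_lit 2), (nat_lit 0x8520c820000ad)],
  [(nat_lit 2), (nat_lit 0x1f0a11e49f000079)],
  [(nat_lit 2), (nat_lit 0x1e8a824c8800004d)],
  [(nat_lit 2), (nat_lit 0x1f88f208ac000055)],
  [(nat_lit 2), (nat_lit 0x1dc7e2b8940000b1)],
  [(nat_lit 2), (nat_lit 0x1e07b2b89400007d)],
  [(nat_lit 2), (nat_lit 0x1dc861ec89000081)],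
  [(nat_lit 2), (nat_lit 0x7b298a70000b5)],
  [(nat_lit 2), (nat_lit 0x21483000085)],
  [(nat_lit 2), (nat_lit 0x1e0972188f000051)],
  [(nat_lit 0), (nat_lit 89), (nat_lit 117), (nat_lit 111), (nat_lit 91), (nat_lit 111)],
  [(nat_lit 0), (nat_lit 95), (nat_lit 109), (nat_lit 109), (nat_lit 117)],
  [(nat_lit 0), (nat_lit 95), (nat_lit 111), (nat_lit 111), (nat_lit 99)],
  [(nat_lit 2), (nat_lit 15)],
  [(nat_lit 2), (nat_lit 0x8520c82000089)],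
  [(nat_lit 2), (nat_lit 0x1e889280a2000087)],
  [(nat_lit 2), (nat_lit 0x1dc942b4890000d1)],
  [(nat_lit 2), (nat_lit 0x1dc89230850000b9)],
  [(nat_lit 2), (nat_lit 0xa4234a30000bd)],
  [(nat_lit 2), (nat_lit 0x7c2447e000091)],
  [(nat_lit 2), (nat_lit 0x1e89d220a9000095)],
  [(nat_lit 2), (nat_lit 0xab2949e00007b)],
  [(nat_lit 2), (nat_lit 0x1eca82b47d00007f)],
  [(nat_lit 2), (nat_lit 0x1dc8e224a90000d5)],
  [(nat_lit 2), (nat_lit 0x1dc802509c0000c5)],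
  [(nat_lit 2), (nat_lit 0x1e49727c9e0000cd)],
  [(nat_lit 2), (nat_lit 0x972089e0000c9)],
  [(nat_lit 2), (nat_lit 0x1e08022ca600008d)],
  [(nat_lit 2), (nat_lit 0x871e0a50000c1)],
  [(nat_lit 2), (nat_lit 0x20481000099)],
  [(nat_lit 2), (nat_lit 0x1e09c2149e000083)],
  [(nat_lit 0), (nat_lit 159), (nat_lit 169), (nat_lit 159), (nat_lit 169), (nat_lit 159), (nat_lit 169), (nat_lit 157), (nat_lit 157)],
  [(nat_lit 0), (nat_lit 169), (nat_lit 157), (nat_lit 157), (nat_lit 157), (nat_lit 169), (nat_lit 157), (nat_lit 169)],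
  [(nat_lit 0), (nat_lit 159), (nat_lit 159), (nat_lit 163), (nat_lit 169)],
  [(nat_lit 2), (nat_lit 19)],
  [(nat_lit 2), (nat_lit 0x8520c820000d9)]]
noncomputable def R1 : List (List ℕ) :=
  [[(nat_lit 2), (nat_lit 0x8120c810000af)],
  [(nat_lit 2), (nat_lit 0x1e8a824c880000e5)],
  [(nat_lit 2), (nat_lit 0x1eca2240a70000e1)],
  [(nat_lit 2), (nat_lit 0x912809d0000bf)],
  [(nat_lit 2), (nat_lit 0x1dc7e2b8940000dd)],
  [(nat_lit 2), (nat_lit 0x1e483288810000f5)],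
  [(nat_lit 2), (nat_lit 0x1e4812a893000109)],
  [(nat_lit 2), (nat_lit 0x1e4aa278880000c7)],
  [(nat_lit 2), (nat_lit 0x9b274a90000bb)],
  [(nat_lit 2), (nat_lit 0x1dc792a89e0000c3)],
  [(nat_lit 2), (nat_lit 0x1f09728cad0000ff)],
  [(nat_lit 2), (nat_lit 0x1dc9e260a10000b3)],
  [(nat_lit 2), (nat_lit 0x842009e0000df)],
  [(nat_lit 2), (nat_lit 0x962b87d0000d3)],
  [(nat_lit 2), (nat_lit 0x7d21c9c0000f9)],
  [(nat_lit 2), (nat_lit 0x872789e00010d)],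
  [(nat_lit 2), (nat_lit 0x82278ae000105)],
  [(nat_lit 2), (nat_lit 0x9728ca80000e9)],
  [(nat_lit 2), (nat_lit 0x1e89727cad0000b7)],
  [(nat_lit 2), (nat_lit 0x1dc8920ca50000fd)],
  [(nat_lit 2), (nat_lit 0x200a228c9a0000d7)],
  [(nat_lit 2), (nat_lit 0x1dc7d2908b0000cf)],
  [(nat_lit 2), (nat_lit 0x772b8a30000f1)],
  [(nat_lit 2), (nat_lit 0x1dc79238a2000101)],
  [(nat_lit 2), (nat_lit 0x7f2148c0000cb)],
  [(nat_lit 2), (nat_lit 0x1fc8d2a88e0000ed)],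
  [(nat_lit 2), (nat_lit 0x8628ca50000eb)],
  [(nat_lit 2), (nat_lit 0x1e49c2a08c0000f3)]]
noncomputable def pr : List (ℕ × ℕ × List ℕ × List ℕ) :=
  [(0, 2, [47], [10]), (1, 2, [49], [12]), (2, 2, [51], [14]), (3, 2, [53], [16]), (4, 2, [55], [18]), (5, 2, [57], [22]), (6, 2, [59], [24]), (7, 2, [61], [26])]
noncomputable def ex : List (List ℕ) :=
  [[126, 131, 122], [126, 130, 127], [133, 127, 119], [128, 132, 125], [137, 141, 133], [134, 122, 132], [145, 119], [138, 135], [147, 139], [147, 129], [153, 120], [154, 139], [146, 124], [156, 155], [151, 120], [163, 121], [161, 132], [158, 121], [162, 169], [166, 140]]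
noncomputable def M : ℕ :=
  (nat_lit 0x1f)
noncomputable def o1 : Cov :=
  ⟨1, [68, 69, 70], [0, 1, 2, 0, 1, 2, 0, 1, 2, 0, 1, 2, 0, 1, 2, 0, 1, 2, 0],
  [142, 144, 146, 152, 148, 150], 19530⟩
noncomputable def o2 : Cov :=
  ⟨2, [77, 78, 79], [0, 2, 1, 0, 2, 1, 0, 2, 1, 0, 2, 1, 0, 2, 1, 0, 2, 0],
  [160, 162, 168, 166, 170, 172, 178, 164, 176, 174, 180], 968750⟩
noncomputable def o3 : Cov :=
  ⟨3, [91, 92, 93], [0, 2, 1, 0, 2, 0, 1, 0, 2, 0, 1, 0, 2, 0, 1, 2, 0, 0],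
  [188, 190, 212, 218, 216, 208, 200, 222, 194, 204, 198, 210, 202, 214, 192, 206, 196, 220], 2034375⟩
noncomputable def o4 : Cov :=
  ⟨4, [112, 113, 114], [0, 1, 2, 0, 1, 2, 0, 1, 2, 0, 1, 2, 0, 1, 0],
  [230, 232, 266, 272, 280, 238, 236, 242, 258, 254, 262, 264, 274, 282, 234, 244, 248, 284, 288, 250, 278, 270, 246, 240, 286, 276, 268, 256, 260, 252], 5812500⟩
noncomputable def os : List Cov :=
  [o1, o2, o3, o4]

theorem z0 : C.L = mkL C.al C.be rels [(9, 1), (10, 1), (11, 2), (12, 0), (12, 2), (11, 0), (13, 0)] := by decide +kernel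
theorem z1 : C.recs R0 117 0 = true := by decide +kernel
theorem z2 : C.recs R1 145 117 = true := by decide +kernel
theorem z3 : (rels.getD 8 []).rotate 1 = 0 :: (sh C.al ++ 0 :: sh C.be) := by decide +kernel
theorem z4 : pairR CL.LyS.chk rels 56 pr 134 118 = true := by decide +kernel
theorem z5 : pairB CL.LyS.chk 118 56 ex 174 134 = true := by decide +kernel
theorem z6 : lamB CL.LyL.P CL.LyL.ns CL.LyS.chk 4 118 174 [[118], [120], [122], [124], [126], [128], [130], [132]] [[5, 2, 4, 3, 5, 3, 4, 2], [3, 5, 3, 0, 5, 1, 2, 2], [1, 3, 1, 5, 0, 2, 0], [3, 1, 2, 5, 3, 0, 2], [4, 0, 5, 1, 5, 0, 4, 1], [0, 0, 0], [2, 0, 3, 0, 0], [2, 2, 0, 3, 3, 0, 0]] [[0], [2], [4], [6]] (sg (W (nat_lit 0x407014030040500c070140100c050040301c05004030140301c03))) = true := by decide +kernel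
theorem z7 : o1.ok C 145 CL.LyL.P.n CL.LyL.P.N 8 M CL.LyL.ns = true := by decide +kernel
theorem z8 : CL.LyS.chk (zp [] [[230], [232], [234]] (o1.sw C)) = true := by decide +kernel
theorem z9 : o2.ok C 145 CL.LyL.P.n CL.LyL.P.N 8 M CL.LyL.ns = true := by decide +kernel
theorem z10 : CL.LyS.chk (zp [] [[240], [242], [244]] (o2.sw C)) = true := by decide +kernel
theorem z11 : o3.ok C 145 CL.LyL.P.n CL.LyL.P.N 8 M CL.LyL.ns = true := by decide +kernel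
theorem z12 : CL.LyS.chk (zp [] [[248], [250], [252]] (o3.sw C)) = true := by decide +kernel
theorem z13 : o4.ok C 145 CL.LyL.P.n CL.LyL.P.N 8 M CL.LyL.ns = true := by decide +kernel
theorem z14 : CL.LyS.chk (zp [] [[256], [258], [260]] (o4.sw C)) = true := by decide +kernel
theorem z15 : bnd (allL (fun w => ptW CL.LyS.P.N CL.LyS.ns w 0 0) [[118], [120], [122], [124], [126], [128], [130], [132]]) (CL.LyS.P.orbSz CL.LyS.ns CL.LyS.D [[0], [2], [4], [6]] (sg (W (nat_lit 0x4010140700c0500407014030040500c0101c0500c0101407))) 0 CL.LyS.P.n) = true := by decide +kernel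
theorem z16 : bnd (Nat.beq (C.T.get 1).h 2097153) (bnd (Nat.beq (C.T.get 1).u 0) (tb M 1)) = true := by decide +kernel
theorem z17 : M = maskC os := by decide +kernel

variable {Γ G X Λ : Type*} [Group Γ] [Group G] [MulAction Γ X] [MulAction Γ Λ] {φ : Γ →* G} {e : ℕ → X} {eL : ℕ → Λ} {g0 gs : List Γ} {t : G}

theorem up {Y : Type*} [MulAction G Y] {gs : List G} {r : Y → G → Y} {q : Y} (S : Sys C gs t r q) : Upto C gs t r q 145 :=
  (S.recs _ (S.recs _ (Upto.zero _ _ _ _ _)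
    z1)
    z2)

theorem L : C.L = mkL C.al C.be rels [(9, 1), (10, 1), (11, 2), (12, 0), (12, 2), (11, 0), (13, 0)] := z0

theorem inv {gs : List G} (hr : ∀ r ∈ rels, wordG (t :: gs) r = 1) : t⁻¹ = wordG gs C.al * t * wordG gs C.be :=
  inv_of_rel hr _ _ z3

theorem pair {H : Subgroup Γ} (E : Env H g0 gs CL.LyS.chk) (hr : ∀ r ∈ rels, wordG (t :: gs.map φ) r = 1) :
    PairTo (gs.map φ) t 118 56 174 :=
  PairTo.defs (E.map φ) (by decide) _ (PairTo.rels (E.map φ) (by decide) hr _ (PairTo.nil _ _ 118 56) (by decide) z4) (by decide)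
    z5

theorem lam (c : Ctx CL.LyS.P e gs CL.LyS.ns CL.LyS.D CL.LyS.chk) {k : List (List ℕ × List ℕ) → Bool} (cL : Ctx CL.LyL.P eL g0 CL.LyL.ns [] k)
    (E : Env (subW g0 [[0], [2], [4], [6]]) g0 gs CL.LyS.chk) (hp : PairTo (gs.map φ) t 118 56 174) (hU : UB (subW g0 [[0], [2], [4], [6]]) 5859000000) :
    Lam φ (subW g0 [[0], [2], [4], [6]]) (gs.map φ) t g0 eL CL.LyL.P.n CL.LyL.P.N (2 * 4) CL.LyL.ns ∧ (subW g0 [[0], [2], [4], [6]]) ⊓ MulAction.stabilizer Γ (eL 0) = subW gs [[118], [120], [122], [124], [126], [128], [130], [132]] ∧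
      ∀ i < CL.LyL.P.n, ∃ h ∈ (subW g0 [[0], [2], [4], [6]]), h • eL 0 = eL i :=
  lam_of cL E hp z6 (CL.LyS.K_lb c) hU

theorem faith (c : Ctx CL.LyS.P e gs CL.LyS.ns CL.LyS.D CL.LyS.chk) {k : List (List ℕ × List ℕ) → Bool} (cL : Ctx CL.LyL.P eL g0 CL.LyL.ns [] k)
    (E : Env (subW g0 [[0], [2], [4], [6]]) g0 gs CL.LyS.chk) (hp : PairTo (gs.map φ) t 118 56 174) (hU : UB (subW g0 [[0], [2], [4], [6]]) 5859000000)
    (hF : Faithful e CL.LyS.P.n (subW g0 [[0], [2], [4], [6]])) : Faithful eL CL.LyL.P.n (subW g0 [[0], [2], [4], [6]]) :=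
  have A := lam c cL E hp hU
  A.1.faithful c E A.2.1 z15 hF

theorem res (c : Ctx CL.LyS.P e gs CL.LyS.ns CL.LyS.D CL.LyS.chk) {k : List (List ℕ × List ℕ) → Bool} (cL : Ctx CL.LyL.P eL g0 CL.LyL.ns [] k)
    (E : Env (subW g0 [[0], [2], [4], [6]]) g0 gs CL.LyS.chk) (hp : PairTo (gs.map φ) t 118 56 174) (hU : UB (subW g0 [[0], [2], [4], [6]]) 5859000000)
    (hr : ∀ r ∈ rels, wordG (t :: gs.map φ) r = 1) (hg : ∀ K : Subgroup G, (subW g0 [[0], [2], [4], [6]]).map φ ≤ K → t ∈ K → K = ⊤) :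
    Res ((subW g0 [[0], [2], [4], [6]]).map φ) [19530, 968750, 2034375, 5812500] :=
  have A := lam c cL E hp hU
  have S := sys_coset (C := C) (E.mem_map φ) (inv hr) hp hr L (E.map φ)
  res_of_cov (os := os) A.1 S (up S) z17 z16 hg hU
    (List.forall_mem_cons.2 ⟨Cov.lb A.1 E z7 z8 (CL.LyS.S1_lb c) (by decide),
    List.forall_mem_cons.2 ⟨Cov.lb A.1 E z9 z10 (CL.LyS.S2_lb c) (by decide),
    List.forall_mem_cons.2 ⟨Cov.lb A.1 E z11 z12 (CL.LyS.S3_lb c) (by decide),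
    List.forall_mem_cons.2 ⟨Cov.lb A.1 E z13 z14 (CL.LyS.S4_lb c) (by decide),
    fun _ h => absurd h List.not_mem_nil⟩⟩⟩⟩)


end CL.LyD
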