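import Cfsg.Agent.Spor.TCSound

/-! coset enumeration certificate generated by tools/tc -/

set_option maxRecDepth 100000
set_option autoImplicit false
set_option linter.all false

namespace CL.TC.M11pA

noncomputable def rows0 : Tr ℕ := (.leaf (nat_lit 0x74417cd85ff2141ff908fb027f30b57f1857f20fe68499fe41ff30ae48215fe613f9847f20c1fec05fe40ff30733fc80fc60dea02abf6c13e204fe40c3fe60dfc80fe60867e302fa80bf9010ff981fe60bf98100))
noncomputable def recs0 : Tr ℕ := (.leaf (nat_lit 0x80e101c40004000b3216ac44005001200160049585990b5624644438907103222ac2038807045608640958119015e02b805680ac))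
noncomputable def rows : Tr ℕ := rows0
noncomputable def recs : Tr ℕ := recs0
noncomputable def ci0 : CI := ⟨[], (nat_lit 0), false, (.node (nat_lit 1) (.leaf Rule.defn) (.leaf Rule.copy)), (.node (nat_lit 2) (.node (nat_lit 1) (.leaf (XRule.rot (nat_lit 0) [] 8 0)) (.leaf (XRule.rot (nat_lit 612147584749179997333451544353449886617) [25, 7, 43, 7, 25, 7, 25, 25, 7, 43, 7, 25, 7, 43, 7, 43, 7, 25, 7] 6 3))) (.node (nat_lit 1) (.leaf (XRule.rot (nat_lit 903) [7, 7] 8 0)) (.leaf (XRule.rot (nat_lit 5529) [25, 43] 8 0))))⟩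
noncomputable def ci7 : CI := ⟨[0], (nat_lit 7), false, (.node (nat_lit 4) (.node (nat_lit 2) (.node (nat_lit 1) (.leaf Rule.defn) (.leaf Rule.copy)) (.node (nat_lit 1) (.leaf (Rule.fwd [nat_lit 7] 8 0)) (.leaf (Rule.fwd [nat_lit 43, nat_lit 7, nat_lit 25, nat_lit 7, nat_lit 43, nat_lit 7, nat_lit 43, nat_lit 7, nat_lit 25, nat_lit 7, nat_lit 25, nat_lit 7, nat_lit 43, nat_lit 7, nat_lit 25, nat_lit 7, nat_lit 25, nat_lit 25] 6 11)))) (.leaf (Rule.fwd [nat_lit 25, nat_lit 7, nat_lit 25, nat_lit 25, nat_lit 7, nat_lit 43, nat_lit 7, nat_lit 25, nat_lit 7, nat_lit 43, nat_lit 7, nat_lit 43, nat_lit 7, nat_lit 25, nat_lit 7, nat_lit 25, nat_lit 7, nat_lit 43] 6 6))), (.node (nat_lit 2) (.node (nat_lit 1) (.leaf XRule.defn) (.leaf XRule.defn)) (.leaf (XRule.rot (nat_lit 7) [7] 8 0)))⟩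
noncomputable def ci25 : CI := ⟨[1], (nat_lit 43), false, (.node (nat_lit 2) (.node (nat_lit 1) (.leaf Rule.defn) (.leaf Rule.copy)) (.node (nat_lit 1) (.leaf (Rule.fwd [nat_lit 43] 8 0)) (.leaf (Rule.fwd [nat_lit 25, nat_lit 25, nat_lit 25] 0 0)))), (.node (nat_lit 4) (.node (nat_lit 2) (.node (nat_lit 1) (.leaf XRule.defn) (.leaf XRule.defn)) (.node (nat_lit 1) (.leaf (XRule.rot (nat_lit 120455) [7, 45, 7] 8 0)) (.leaf (XRule.rot (nat_lit 1969998983) [7, 25, 47, 43, 7] 8 0)))) (.node (nat_lit 1) (.leaf (XRule.rot (nat_lit 10029414064748436263616869452046214220598407) [7, 25, 7, 25, 7, 25, 7, 25, 7, 25, 7, 25, 7, 25, 7, 25, 7, 25, 7, 25, 7] 2 1)) (.leaf (XRule.rot (nat_lit 37368139124695070913278681863832473) [25, 7, 25, 25, 7, 25, 25, 7, 25, 25, 7, 25, 25, 7, 25, 25, 7] 4 1))))⟩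
noncomputable def ci43 : CI := ⟨[2], (nat_lit 25), false, (.node (nat_lit 2) (.node (nat_lit 1) (.leaf Rule.defn) (.leaf Rule.copy)) (.node (nat_lit 1) (.leaf (Rule.fwd [nat_lit 25] 8 0)) (.leaf (Rule.fwd [nat_lit 43, nat_lit 43, nat_lit 43] 1 0)))), (.node (nat_lit 2) (.node (nat_lit 1) (.leaf XRule.defn) (.leaf XRule.defn)) (.leaf (XRule.rot (nat_lit 25) [25] 8 0)))⟩
noncomputable def ci44 : CI := ⟨[0, 1, 0], (nat_lit 45), true, (.node (nat_lit 1) (.leaf Rule.defn) (.leaf Rule.copy)), (.node (nat_lit 1) (.leaf XRule.defn) (.leaf XRule.ax))⟩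
noncomputable def ci45 : CI := ⟨[0, 2, 0], (nat_lit 44), false, (.node (nat_lit 1) (.leaf Rule.defn) (.leaf Rule.copy)), (.node (nat_lit 1) (.leaf XRule.defn) (.leaf XRule.defn))⟩
noncomputable def ci46 : CI := ⟨[2, 0, 1, 0, 1], (nat_lit 47), true, (.node (nat_lit 1) (.leaf Rule.defn) (.leaf Rule.copy)), (.node (nat_lit 1) (.leaf XRule.defn) (.leaf XRule.ax))⟩
noncomputable def ci47 : CI := ⟨[2, 0, 2, 0, 1], (nat_lit 46), false, (.node (nat_lit 1) (.leaf Rule.defn) (.leaf Rule.copy)), (.node (nat_lit 1) (.leaf XRule.defn) (.leaf XRule.defn))⟩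
noncomputable def outer : Tr CI := (.node (nat_lit 2) (.node (nat_lit 1) (.node (nat_lit 4) (.leaf ci0) (.leaf ci44)) (.node (nat_lit 4) (.leaf ci25) (.leaf ci45))) (.node (nat_lit 1) (.leaf ci46) (.node (nat_lit 4) (.leaf ci43) (.node (nat_lit 8) (.leaf ci7) (.leaf ci47)))))
def cols : List ℕ := [nat_lit 7, nat_lit 25, nat_lit 43]
def invL : List ℕ := [0, 2, 1]
def rels : List (List ℕ) := [[1, 1, 1, 1], [0, 1, 0, 1, 0, 1, 0, 1, 0, 1, 0, 1, 0, 1, 0, 1, 0, 1, 0, 1, 0, 1], [0, 1, 1, 0, 1, 1, 0, 1, 1, 0, 1, 1, 0, 1, 1, 0, 1, 1], [0, 1, 0, 1, 0, 2, 0, 1, 0, 1, 1, 0, 2, 0, 1, 0, 2, 0, 2]]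
def subs : List (List ℕ) := [[0, 1, 0], [2, 0, 1, 0, 1]]
noncomputable def row (n : ℕ) : ℕ := rowOf (fun h => rows.get h) (nat_lit 4) (nat_lit 15) (nat_lit 61) (nat_lit 0x1fffffffffffffff) n
noncomputable def xleaf (h : ℕ) : ℕ := recs.get h
noncomputable def mF : ℕ → ℕ := mainRow row (rowChk row xleaf outer (nat_lit 8) (nat_lit 255) (nat_lit 7) (nat_lit 11) (nat_lit 2047) (nat_lit 262143) (nat_lit 128) (nat_lit 11) (nat_lit 256) (nat_lit 7) (nat_lit 127) (nat_lit 15) (nat_lit 32767) (nat_lit 8) (nat_lit 255) cols)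
noncomputable def xF : ℕ → ℕ → ℕ := xLeaf row xleaf outer (nat_lit 255) (nat_lit 11) (nat_lit 262143) (nat_lit 128) (nat_lit 11) (nat_lit 7) (nat_lit 127) (nat_lit 15) (nat_lit 32767) (nat_lit 32640) (nat_lit 8) (nat_lit 255) (nat_lit 10) (nat_lit 1023) (nat_lit 3) (nat_lit 7) (nat_lit 43) (nat_lit 1408) (nat_lit 128)
noncomputable def cert : Cert := ⟨row, xleaf, outer, cols, nat_lit 8, nat_lit 255, nat_lit 7, nat_lit 11, nat_lit 2047, nat_lit 262143, nat_lit 128, nat_lit 11, nat_lit 256, nat_lit 7, nat_lit 127, nat_lit 15, nat_lit 32767, nat_lit 32640, nat_lit 8, nat_lit 255, nat_lit 10, nat_lit 1023, nat_lit 3, nat_lit 7, nat_lit 43, nat_lit 1408, nat_lit 128, nat_lit 18, nat_lit 128, nat_lit 1⟩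
theorem tabok : tabOK (fun i => invL.getD i i) rels subs outer cols (nat_lit 7) (nat_lit 43) = true := by decide +kernel
theorem m0 : rng mF (nat_lit 1) (nat_lit 11) = 0 := by decide +kernel
noncomputable def s0 : List ℕ := [nat_lit 0x100400404000680000103000000ac00000004350b424000000000000001040000000106000000000000000000ac00000000000000000104410000000000000000004388d000004210a4310f000004210a431104390d42d090000043899001134341a44d10048004550b06d1942412000000000000000000000000000000000000000000000000000000000000000000000000000000000000000000000000000000000000000000000000000000000000000000000000000000000000000000000000000000000000000000000000000000000000000000000000000000000000000000000000000000000000000000000000000000000000000000000]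
theorem x0 : xs xF s0 (nat_lit 1) = 0 := by decide +kernel
theorem mz0 : AllZ mF 1 (nat_lit 12) := (AllZ.step (AllZ.nil mF 1) (nat_lit 11) (nat_lit 12) rfl m0)
theorem xz0 : XZ xF (nat_lit 1) := (XZ.step (XZ.nil xF) s0 (nat_lit 1) (nat_lit 1) (by decide +kernel) x0)
/-- the certificate (11 points) is valid -/
theorem valid : cert.Valid (fun i => invL.getD i i) rels subs 3 :=
  ⟨by decide +kernel, tabok, by decide +kernel, mz0, xz0⟩
theorem cert_N : cert.N = 11 := rfl

end CL.TC.M11pA
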