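/-
Osima's integrality condition modulo 1024 (helper18 for helper82).
-/
import Cfsg.Agent.Spor.MO23C
import Cfsg.Agent.Blk.RkInt

set_option autoImplicit false

open Cfsg Finset CL.Char
open scoped Classical

namespace CL.Spor.MO

variable {G : Type*} [Group G] [Finite G]

def ssum : List ℤ → ℤ → Bool
  | [], s => s % 1024 == 0
  | x :: l, s => if x.natAbs = 3840 then ssum l (s + x) else ssum l s || (x % 2 == 0 && ssum l (s + x))

theorem ssum_cons {x s : ℤ} {l : List ℤ} (b : Prop) (h1 : x.natAbs = 3840 → b) (h2 : b → x % 2 = 0)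
    (h : ssum l (s + if b then x else 0) = true) : ssum (x :: l) s = true := by
  rw [ssum]
  by_cases hb : b
  · rw [if_pos hb] at h
    simp [h, h2 hb]
  · rw [if_neg hb, add_zero] at h
    rw [if_neg fun e => hb (h1 e), h, Bool.true_or]

theorem ssum_of {ι : Type*} (φ : ι → ℕ) (x : ℕ → ℤ) (P : ι → Prop) (l : List ℕ) : ∀ m : Multiset ι, m.map φ = l →
    (∀ i ∈ m, ((x (φ i)).natAbs = 3840 → P i) ∧ (P i → x (φ i) % 2 = 0)) →
    ∀ s, (s + (m.map fun i => if P i then x (φ i) else 0).sum) % 1024 = 0 → ssum (l.map x) s = true := by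
  induction l with
  | nil =>
    intro m hm _ s hs
    rw [Multiset.coe_nil, Multiset.map_eq_zero] at hm
    subst hm
    simpa [ssum] using hs
  | cons d l ih =>
    intro m hm h s hs
    obtain ⟨i, hi, rfl, hl⟩ := (Multiset.map_eq_cons φ m l d).2 hm
    refine ssum_cons (P i) (h i hi).1 (h i hi).2 (ih _ hl (fun j hj => h j (Multiset.mem_of_mem_erase hj)) _ ?_)
    rwa [← Multiset.cons_erase hi, Multiset.map_cons, Multiset.sum_cons, ← add_assoc] at hs

theorem two_num : ∀ m ∈ Nat.divisors 945, ∀ y ∈ Finset.Icc (-3 : ℤ) 3, 64 * y ^ 2 ≤ m →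
    (15 : ℤ) ∣ (239085 / m : ℕ) * y → y = 0 := by decide +kernel

theorem two_zero {K n : ℕ} {Z : ℤ} (h : n * K = 244823040) (h1 : K % 1024 = 0) (h2 : K % 11 ≠ 0) (h3 : K % 23 ≠ 0)
    (h4 : Z ^ 2 ≤ K) (h5 : (3840 : ℤ) ∣ n * Z) : Z = 0 := by
  obtain ⟨m, rfl⟩ := Nat.dvd_of_mod_eq_zero h1
  have e : n * m = 239085 := by nlinarith
  have c1 : m.Coprime 11 := ((by norm_num : Nat.Prime 11).coprime_iff_not_dvd.2 fun h => h2 (by omega)).symm
  have c2 : m.Coprime 23 := ((by norm_num : Nat.Prime 23).coprime_iff_not_dvd.2 fun h => h3 (by omega)).symm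
  have hm : m ∣ 945 := (c1.mul_right c2).dvd_of_dvd_mul_right (show m ∣ 945 * (11 * 23) from ⟨n, by rw [mul_comm m, e]⟩)
  have m0 : 0 < m := Nat.pos_of_dvd_of_pos hm (by norm_num)
  have hn : 239085 / m = n := Nat.div_eq_of_eq_mul_left m0 e.symm
  have o : Odd n := (Nat.odd_mul.1 (e ▸ (by decide : Odd 239085))).1
  have c3 : IsCoprime ((2 : ℤ) ^ 8) n :=
    IsCoprime.pow_left (Nat.isCoprime_iff_coprime.2 (Nat.coprime_two_left.2 o))
  obtain ⟨y, rfl⟩ := c3.dvd_of_dvd_mul_left (Dvd.dvd.trans (by norm_num) h5)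
  have m1 : m ≤ 945 := Nat.le_of_dvd (by norm_num) hm
  push_cast at h4
  have h6 : 64 * y ^ 2 ≤ m := by nlinarith
  have h7 : (15 : ℤ) ∣ n * y := by
    obtain ⟨t, ht⟩ := h5
    exact ⟨t, by linarith⟩
  rw [two_num m (Nat.mem_divisors.2 ⟨hm, by norm_num⟩) y (Finset.mem_Icc.2 ⟨by nlinarith, by nlinarith⟩) h6
    (hn ▸ h7), mul_zero]

theorem ssum_true [IsSimpleGroup G] (a : PBk G 244823040 23) (b : PBk G 244823040 11) (av : a.v = 1) (bv : b.v = 1)
    {p : ℕ} (c : PBk G 244823040 p) (cv : c.v = 1) : ssum (-c.F :: c.c.map fun d => sg p d * d) 0 = true := by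
  obtain ⟨z, hz, hK⟩ := exists_central_invol (G := G) (k := 9) (m := 239085) a.card
  obtain ⟨Z, hZ, h4⟩ := exists_invol_values a.perf hz
  obtain ⟨M, hM⟩ := CL.Blk.exists_isPModular Nat.prime_two
  have hi := (Subgroup.centralizer ({z} : Set G)).index_mul_card
  rw [a.card] at hi
  choose w hw using fun χ : IrrCharacter G => degree_dvd_index_mul χ (hZ χ)
  have io : (Subgroup.centralizer ({z} : Set G)).index % 2 = 1 := by
    obtain ⟨m, hm⟩ := Nat.dvd_of_mod_eq_zero hK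
    rw [hm] at hi
    have : (Subgroup.centralizer ({z} : Set G)).index * m = 239085 := by
      rw [mul_left_comm] at hi; omega
    exact Nat.odd_iff.1 (Nat.odd_mul.1 (this ▸ (by decide : Odd 239085))).1
  have d0 : ∀ χ : IrrCharacter G, (dg χ : ℤ) ≠ 0 := fun χ => by exact_mod_cast χ.2.charDegree_pos.ne'
  have hc : ∀ χ : IrrCharacter G, centralChar (χ : G → ℂ) z = w χ := fun χ => by
    rw [centralChar, ← χ.2.cast_charDegree, hZ, div_eq_iff (by exact_mod_cast d0 χ), mul_comm (w χ : ℂ)]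
    exact_mod_cast hw χ
  have k1 : ∀ χ : IrrCharacter G, dg χ = 3840 → 2 ∣ w χ := fun χ e => by
    have h1 := hw χ
    have h2 := sum_sq_le_card_centralizer hZ {χ}
    rw [sum_singleton] at h2
    rw [e] at h1
    rw [two_zero hi hK (b.cc_mod (by omega) hz) (a.cc_mod (by omega) hz) h2 ⟨_, h1⟩] at h1
    omega
  have k2 : ∀ χ : IrrCharacter G, 2 ∣ w χ → 2 ∣ dg χ := fun χ e => by
    have h1 : Even (((Subgroup.centralizer ({z} : Set G)).index : ℤ) * Z χ) := by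
      rw [hw]; exact (even_iff_two_dvd.2 e).mul_left _
    have h2 := h4 χ
    rw [Int.even_mul, Int.even_iff, Int.even_iff] at h1
    omega
  have hE := CL.Blk.coeff_mem_valRing (CL.Blk.blockIdem_mem_OG_of_closed hM (A := {χ | 2 ∣ w χ}) fun χ hχ ψ hψ => by
    have h1 := (CL.Blk.sameBlock_iff_val hM).1 hψ z
    rw [hc, hc, ← Int.cast_sub, CL.Blk.val_intCast_lt_one_iff hM] at h1
    exact (dvd_sub hχ h1).trans (dvd_of_eq (by ring))) c.x⁻¹
  have px : p ∣ orderOf c.x := c.hx.symm.dvd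
  have pz : ¬ p ∣ orderOf z := hz ▸ fun h => c.p2 ((Nat.prime_dvd_prime_iff_eq c.pp Nat.prime_two).mp h)
  obtain ⟨μ, hμ⟩ := c.B.Y_nonempty c.pp
  have hY : ∀ ν ∈ c.B.Y, w ν = w μ := fun ν hν => mul_left_cancel₀ (d0 μ) (by
    have h1 : Z ν = Z μ := by exact_mod_cast (hZ ν).symm.trans ((c.B.Y_reg hν hμ pz).trans (hZ μ))
    rw [← hw, ← h1, hw, c.B.deg_Y ν hν, c.B.deg_Y μ hμ])
  have hS : c.S = c.X0 ∪ c.B.Y := by ext χ; rw [c.mem_S_iff, mem_union]
  obtain ⟨E, hEm⟩ : ∃ E : Set (IrrCharacter G), E = {χ | 2 ∣ w χ} := ⟨_, rfl⟩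
  rw [← hEm] at hE
  replace hEm : ∀ χ, χ ∈ E ↔ 2 ∣ w χ := fun χ => by rw [hEm]; rfl
  have e : ∑ χ : IrrCharacter G with χ ∈ E, (χ : G → ℂ) 1 * (starRingEnd ℂ) ((χ : G → ℂ) c.x⁻¹) =
      (((if μ ∈ E then -c.F else 0) + ∑ χ ∈ c.X0, if χ ∈ E then sg p (dg χ) * dg χ else 0 : ℤ) : ℂ) := by
    rw [sum_filter, ← sum_subset (subset_univ c.S), hS,
      sum_union (disjoint_left.mpr fun χ hχ => c.B.disj χ (c.mem_X0.mp hχ).2), add_comm]
    · push_cast
      congr 1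
      · rw [sum_congr rfl (g := fun ν : IrrCharacter G => if μ ∈ E then (c.B.f : ℂ) * (ν : G → ℂ) c.x else 0)
          fun ν hν => if_congr (by rw [hEm, hEm, hY ν hν]) (by
            rw [CL.Blk.irr_conj, inv_inv, ← ν.2.cast_charDegree, c.B.deg_Y ν hν]) rfl]
        split_ifs
        · rw [← mul_sum, c.B.Y_sing _ px, PBk.F]; push_cast; ring
        · simp
      · refine sum_congr rfl fun χ hχ => ?_
        rw [CL.Blk.irr_conj, inv_inv, c.val_X hχ px, ← χ.2.cast_charDegree, mul_comm]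
    · intro χ _ hχ
      by_cases h1 : χ = irrOne G
      · have h2 := hw χ
        have h3 : Z χ = 1 := by exact_mod_cast (hZ χ).symm.trans (h1 ▸ irrOne_apply z)
        rw [h3, h1, charDegree_irrOne] at h2
        exact if_neg fun h => by rw [hEm, h1] at h; omega
      · rw [CL.Blk.irr_conj, inv_inv, c.val_zero (by_contra fun h => hχ (c.mem_S cv h1 h)) px, mul_zero, ite_self]
  rw [CL.Blk.coeff_blockIdem, CL.Blk.blockCoeff_eq_sum, e, a.card] at hE
  generalize hn : ((if μ ∈ E then -c.F else 0) + ∑ χ ∈ c.X0, if χ ∈ E then sg p (dg χ) * dg χ else 0 : ℤ) = n at hE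
  have h1024 : ((2 : ℕ) : ℤ) ^ 10 ∣ n := by
    rw [← CL.Blk.Rk.val_intCast_le_pow_iff hM, show (n : ℂ) = ((2 : ℕ) : ℂ) ^ 10 *
      (((239085 : ℕ) : ℂ) * (((244823040 : ℕ) : ℂ)⁻¹ * n)) by push_cast; ring, map_mul, map_pow]
    exact mul_le_of_le_one_right' (CL.Blk.val_le_one_iff.2 (mul_mem (natCast_mem _ _) hE))
  have sgn : ∀ d : ℕ, (sg p d * d).natAbs = d := fun d => by unfold sg; split_ifs <;> simp
  refine ssum_cons (μ ∈ E) (fun h => (hEm _).2 (k1 μ ?_)) (fun h => ?_) (ssum_of (fun χ : IrrCharacter G => dg χ)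
    (fun d => sg p d * d) (· ∈ E) _ _ c.map_X0 (fun χ _ => ⟨fun h => (hEm _).2 (k1 χ ?_), fun h => ?_⟩) _ ?_)
  · rw [c.B.deg_Y μ hμ, ← c.natAbs_F, ← h, Int.natAbs_neg]
  · have h1 := k2 μ ((hEm _).1 h)
    rw [c.B.deg_Y μ hμ, ← c.natAbs_F] at h1
    omega
  · rw [← h, sgn]
  · have h1 := k2 χ ((hEm _).1 h)
    have h2 := sgn (dg χ)
    omega
  · rw [zero_add, ← sum_eq_multiset_sum, hn]
    exact Int.emod_eq_zero_of_dvd h1024

end CL.Spor.MO
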