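/-
Simple groups of order 244823040: the degrees in the principal 23-block.
-/
import Cfsg.Agent.Spor.MO24A
import Cfsg.Agent.Spor.MOTri
import Cfsg.Agent.Spor.MOTwo
import Cfsg.Agent.Spor.MOEnum3

set_option autoImplicit false
set_option maxRecDepth 100000

namespace CL.Spor.MO

def R24 : List (List ℕ × ℤ) :=
  [([22, 22, 22, 45, 45, 45, 252, 528, 1540, 5544], 3024), ([22, 22, 45, 45, 252, 990, 990, 3520, 5544, 10395],
  264), ([22, 45, 45, 45, 231, 252, 252, 5544, 5544, 10395], 264), ([22, 45, 45, 45, 252, 528, 528, 528, 528, 5544],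
  3024), ([22, 45, 45, 45, 252, 1540, 1540, 1540, 1540, 5544], -1024), ([22, 45, 252, 528, 528, 990, 1540, 1540,
  1540, 5544], 540), ([22, 231, 252, 990, 1540, 3840, 3840, 3840, 5544, 5544], -1024), ([22, 528, 528, 1540, 1540,
  1540, 5544, 5544, 5544, 10395], 540), ([45, 45, 45, 231, 231, 231, 252, 3520, 5544, 10395], -1024), ([45, 45, 45,
  231, 231, 252, 528, 528, 1540, 5544], 3024), ([45, 45, 45, 252, 252, 990, 1540, 5544, 5544, 10395], -495), ([45,
  45, 231, 231, 252, 990, 990, 3520, 5544, 10395], 770), ([45, 45, 252, 252, 990, 990, 1540, 5544, 5544, 10395],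
  540), ([45, 45, 252, 528, 990, 990, 1540, 3520, 5544, 10395], -1760), ([45, 231, 231, 252, 990, 1540, 1540, 1540,
  1540, 5544], 540), ([45, 231, 252, 528, 990, 990, 1540, 5544, 5544, 10395], 540), ([45, 252, 252, 990, 1540, 1540,
  3840, 3840, 5544, 5544], 770), ([231, 231, 1540, 1540, 1540, 1540, 5544, 5544, 5544, 10395], 540), ([231, 252,
  252, 3520, 3840, 3840, 3840, 3840, 5544, 5544], -1024), ([231, 252, 528, 1540, 3520, 3520, 3840, 3840, 3840,
  5544], -1024), ([231, 252, 1540, 3520, 3520, 3520, 3840, 3840, 3840, 5544], 3024), ([528, 1540, 1540, 1540, 3520,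
  3840, 5544, 5544, 5544, 10395], 770)]

theorem c24_7 : degAll F24 244823040 23 11 1 (if 1 % 2 = 0 then 2 * 23 else 1) (fun c F =>
    !(c.elem 5544 && (c.elem 252 || Nat.blt 2 ((fd 23 11 c F).count 5544) || c.elem 2772) && chk3 23 (fd 23 11 c F) [] &&
      ssum (-F :: c.map fun d => sg 23 d * d) 0) || R24.elem (c, F)) = true :=
  degAll_of_degF (by decide +kernel)

end CL.Spor.MO
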