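/-
Auxiliary models.
Generated by tools/pg.
-/
import Cfsg.Agent.Spor.PGCtx
import Cfsg.Agent.Spor.PGSub
import Cfsg.Agent.Spor.MonW

set_option autoImplicit false
set_option maxRecDepth 200000
set_option Elab.async false
set_option linter.unusedVariables false

namespace CL.Spor.Mon5A.T
open CL.PG

def P : Par := ⟨60, 64, 6, 3⟩
theorem hP : P.Ok := by decide
noncomputable def a0 : Net := (.cons 32 (nat_lit 0x30b997ec)
 (.cons 16 (nat_lit 0xf22f0000a084)
 (.cons 8 (nat_lit 0x6000db006900cd)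
 (.cons 4 (nat_lit 0x8020a01040c010c)
 (.cons 2 (nat_lit 0x2001100323130321)
 (.cons 1 (nat_lit 0x4401140404054115)
 (.cons 2 (nat_lit 0x2002000000000000)
 (.cons 4 (nat_lit 0x4040202080c0406)
 (.cons 8 (nat_lit 0xe200ec00000090)
 (.cons 16 (nat_lit 0xe1600000efc4)
 (.cons 32 (nat_lit 0x374aaa8c)
 .nil)))))))))))
noncomputable def a1 : Net := (.cons 32 (nat_lit 0x94feffc8)
 (.cons 16 (nat_lit 0x8072000017c8)
 (.cons 8 (nat_lit 0xcd001b00310058)
 (.cons 4 (nat_lit 0xd08040e05040102)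
 (.cons 2 (nat_lit 0x320222332300101)
 (.cons 1 (nat_lit 0x111104140041144)
 (.cons 2 (nat_lit 0x2202220000020)
 (.cons 4 (nat_lit 0x20208060e0408)
 (.cons 8 (nat_lit 0xcc00e0006e0098)
 (.cons 16 (nat_lit 0x8d6200005bb4)
 (.cons 32 (nat_lit 0x9320b7fc)
 .nil)))))))))))
noncomputable def a2 : Net := (.cons 32 (nat_lit 0x1000d004)
 (.cons 16 (nat_lit 0x2080000d562)
 (.cons 8 (nat_lit 0x16009a000a00a2)
 (.cons 4 (nat_lit 0x1090001000f0400)
 (.cons 2 (nat_lit 0x231130212112003)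
 (.cons 1 (nat_lit 0x414004404410415)
 (.cons 2 (nat_lit 0x220000200200000)
 (.cons 4 (nat_lit 0x40000040c0400)
 (.cons 8 (nat_lit 0x14009a005400a0)
 (.cons 16 (nat_lit 0xc00005462)
 (.cons 32 (nat_lit 0x1002d200)
 .nil)))))))))))
noncomputable def a3 : Net := .nil
noncomputable def a4 : Net := (.cons 32 (nat_lit 0x96a5571a)
 (.cons 16 (nat_lit 0xf4fc0000de3a)
 (.cons 8 (nat_lit 0xfb00d400c70066)
 (.cons 4 (nat_lit 0x701090d000c020c)
 (.cons 2 (nat_lit 0x3112002010232310)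
 (.cons 1 (nat_lit 0x511415144144410)
 (.cons 2 (nat_lit 0x20020202202020)
 (.cons 4 (nat_lit 0xa08000e0004000c)
 (.cons 8 (nat_lit 0x8000c0001c0068)
 (.cons 16 (nat_lit 0xf5560000d66c)
 (.cons 32 (nat_lit 0x9a499960)
 .nil)))))))))))
noncomputable def a5 : Net := (.cons 32 (nat_lit 0x57c85f66)
 (.cons 16 (nat_lit 0x6d610000d676)
 (.cons 8 (nat_lit 0x250011008a00d0)
 (.cons 4 (nat_lit 0xf0900080005000a)
 (.cons 2 (nat_lit 0x103222032121220)
 (.cons 1 (nat_lit 0x1144145441111100)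
 (.cons 2 (nat_lit 0x2002200220220200)
 (.cons 4 (nat_lit 0x8040c0208020c08)
 (.cons 8 (nat_lit 0x5e00d800e000fe)
 (.cons 16 (nat_lit 0x7fc40000576c)
 (.cons 32 (nat_lit 0x55d8c840)
 .nil)))))))))))
noncomputable def a6 : Net := (.cons 32 (nat_lit 0x64db8d84)
 (.cons 16 (nat_lit 0x6ca70000a2a2)
 (.cons 8 (nat_lit 0x300a0007300c0)
 (.cons 4 (nat_lit 0x60001080808050e)
 (.cons 2 (nat_lit 0x2311101032020010)
 (.cons 1 (nat_lit 0x4011015441144114)
 (.cons 2 (nat_lit 0x2002000202000202)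
 (.cons 4 (nat_lit 0x608060804000408)
 (.cons 8 (nat_lit 0xa0024005a00c0)
 (.cons 16 (nat_lit 0x6c0200003b88)
 (.cons 32 (nat_lit 0x69a60824)
 .nil)))))))))))
noncomputable def a7 : Net := (.cons 32 (nat_lit 0xfd020f00)
 (.cons 16 (nat_lit 0x387000000f4e)
 (.cons 8 (nat_lit 0xd3000100a500b2)
 (.cons 4 (nat_lit 0x8010d010a000004)
 (.cons 2 (nat_lit 0x2211022023013102)
 (.cons 1 (nat_lit 0x5555100500000054)
 (.cons 2 (nat_lit 0x2)
 (.cons 4 (nat_lit 0xa0200000004)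
 (.cons 8 (nat_lit 0x2c00b200a000b2)
 (.cons 16 (nat_lit 0x387000000f44)
 (.cons 32 (nat_lit 0xf5020f00)
 .nil)))))))))))
noncomputable def a8 : Net := (.cons 32 (nat_lit 0x8b56a10c)
 (.cons 16 (nat_lit 0xbbc00001494)
 (.cons 8 (nat_lit 0x10001300af007c)
 (.cons 4 (nat_lit 0x20c08060b0902)
 (.cons 2 (nat_lit 0x2023203211232330)
 (.cons 1 (nat_lit 0x1505015151141554)
 (.cons 2 (nat_lit 0x2000020002022000)
 (.cons 4 (nat_lit 0x6080c08080002)
 (.cons 8 (nat_lit 0x1000900090005c)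
 (.cons 16 (nat_lit 0xbd800001494)
 (.cons 32 (nat_lit 0x8b56a10c)
 .nil)))))))))))
noncomputable def a9 : Net := (.cons 32 (nat_lit 0xfd020f00)
 (.cons 16 (nat_lit 0x387000000f4e)
 (.cons 8 (nat_lit 0xd3000100a500b2)
 (.cons 4 (nat_lit 0x8010d010a000004)
 (.cons 2 (nat_lit 0x2211022023013102)
 (.cons 1 (nat_lit 0x5555100500000054)
 (.cons 2 (nat_lit 0x2)
 (.cons 4 (nat_lit 0xa0200000004)
 (.cons 8 (nat_lit 0x2c00b200a000b2)
 (.cons 16 (nat_lit 0x387000000f44)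
 (.cons 32 (nat_lit 0xf5020f00)
 .nil)))))))))))
noncomputable def ns0 : List Net := [a0, a1, a2, a3]
noncomputable def ws : List (List ℕ) :=
  [W (nat_lit 0x1c05010010040401c07010070080500c01),
  W (nat_lit 0x501402008040200601807014040040401001),
  W (nat_lit 0xc0240c0280c),
  W (nat_lit 0x300c02409),
  W (nat_lit 0xf0380e),
  W (nat_lit 0xe0400e)]
noncomputable def ns : List Net := [a0, a1, a2, a3, a4, a5, a6, a7, a8, a9]
noncomputable def D : List (ℕ × List ℕ) := app [] (mkDefs ws 4)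
noncomputable def chk : List (List ℕ × List ℕ) → Bool := P.relsB ns
noncomputable def G_v0 : Lev :=
  ⟨0, 60, sg (W (nat_lit 0x100c05004030040500c01)), [[8], [10]], 0, 2⟩
noncomputable def G_v1 : Lev :=
  ⟨6, 15, sg (W (nat_lit 0x90240b0240902c09)), [[12], [14]], 2, 2⟩
noncomputable def G_v2 : Lev :=
  ⟨20, 2, sg [12], [[16], [18]], 4, 2⟩
noncomputable def G_v3 : Lev :=
  ⟨1, 4, sg (W (nat_lit 0x4c11)), [], 6, 0⟩
noncomputable def G_vs4 : List Lev :=
  []
noncomputable def G_vs3 : List Lev :=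
  G_v3 :: G_vs4
noncomputable def G_vs2 : List Lev :=
  G_v2 :: G_vs3
noncomputable def G_vs1 : List Lev :=
  G_v1 :: G_vs2
noncomputable def G_vs : List Lev :=
  G_v0 :: G_vs1

theorem zc0 : P.chainB ns D G_vs [[0], [2], [4], [6]] = true := by decide +kernel
theorem zk1 : allL (keepB P.n P.N) ns0 = true := by decide +kernel
theorem ze2 : extB ns0 ns 4 ws [] = true := by decide +kernel
theorem zn3 : P.netsB ns (mkDefs ws 4) = true := by decide +kernel

section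
variable {G X : Type*} [Group G] [MulAction G X] {e : ℕ → X} {gs : List G}

theorem keep0 : allL (keepB P.n P.N) ns0 = true := zk1

theorem len {k} (c : Ctx P e gs ns0 [] k) : gs.length = 4 := c.len ze2

theorem ctx0 {k} (c : Ctx P e gs ns0 [] k) : Ctx P e (ext gs ws) ns D chk0 :=
  c.ext rfl ze2 zn3

theorem ctx {k} (c : Ctx P e gs ns0 [] k) {H : Subgroup G} (hF : Faithful e P.n H) (hH : ∀ g ∈ gs, g ∈ H) :
    Ctx P e (ext gs ws) ns D chk :=
  (ctx0 c).withB hF (mem_of_mem_ext hH _)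

instance instNe : NeZero P.n := ⟨by decide⟩
noncomputable def gs0 : List (Equiv.Perm (Fin P.n)) := permsOf P.n P.N ns0
noncomputable def gs1 : List (Equiv.Perm (Fin P.n)) := ext gs0 ws
theorem c1 : Ctx P (eF P.n) gs1 ns D chk :=
  ctx (ctx_permsOf hP keep0) (faithful_eF _) fun _ _ => trivial

theorem G_c : P.chainB ns D G_vs [[0], [2], [4], [6]] = true :=
  zc0

theorem G_o : prodL G_vs 1 = 7200 := by decide +kernel

theorem G_lb (c : Ctx P e gs ns D chk) :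
    LB (subW gs [[0], [2], [4], [6]]) 7200 :=
  c.lb G_c G_o

end
end CL.Spor.Mon5A.T

namespace CL.Spor.Mon5A.S
open CL.PG

def P : Par := ⟨70, 80, 7, 3⟩
theorem hP : P.Ok := by decide
noncomputable def a0 : Net := (.cons 40 (nat_lit 0x2f8a24085c)
 (.cons 20 (nat_lit 0x6b92900000d75bc)
 (.cons 10 (nat_lit 0x1e000600035d000c8)
 (.cons 5 (nat_lit 0x200b014020001906818)
 (.cons 1 (nat_lit 0x8000401)
 (.cons 1 (nat_lit 0x8508081214002802)
 (.cons 1 (nat_lit 0x2800529005214a029004)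
 (.cons 1 (nat_lit 0x1084a5204a509481284a)
 (.cons 1 (nat_lit 0x2900509020004a528004)
 (.cons 5 (nat_lit 0x100e010100601e0480c)
 (.cons 10 (nat_lit 0x3600240002000028a)
 (.cons 20 (nat_lit 0x6198c00000c70ac)
 (.cons 40 (nat_lit 0x2f8a183602)
 .nil)))))))))))))
noncomputable def a1 : Net := (.cons 40 (nat_lit 0xe47ba70c53)
 (.cons 20 (nat_lit 0x6297d000000aea0)
 (.cons 10 (nat_lit 0x31100346002f100270)
 (.cons 5 (nat_lit 0x38150641001c0c05008)
 (.cons 1 (nat_lit 0x800100000000a0)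
 (.cons 1 (nat_lit 0x4200a109024000040142)
 (.cons 1 (nat_lit 0x214a42148428000200a4)
 (.cons 1 (nat_lit 0x1294a408485204050948)
 (.cons 1 (nat_lit 0x204002942500481200a1)
 (.cons 5 (nat_lit 0x781c070080400e0601a)
 (.cons 10 (nat_lit 0x188002c6002da00370)
 (.cons 20 (nat_lit 0xc2ada00000006e2)
 (.cons 40 (nat_lit 0xe47ad6a948)
 .nil)))))))))))))
noncomputable def a2 : Net := (.cons 40 (nat_lit 0x6ab5e0500)
 (.cons 20 (nat_lit 0xecc520000007b94)
 (.cons 10 (nat_lit 0xb0002800005000020)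
 (.cons 5 (nat_lit 0x381a058120001701016)
 (.cons 1 (nat_lit 0x28020000000000000000)
 (.cons 1 (nat_lit 0x50140000000010200000)
 (.cons 1 (nat_lit 0x284a00000128084004a5)
 (.cons 1 (nat_lit 0x52940109021214800842)
 (.cons 1 (nat_lit 0x284210000128404084a5)
 (.cons 5 (nat_lit 0x3812000100000001000)
 (.cons 10 (nat_lit 0xb0002800015000120)
 (.cons 20 (nat_lit 0xecc52000004ea94)
 (.cons 40 (nat_lit 0x6ab5e0500)
 .nil)))))))))))))
noncomputable def a3 : Net := .nil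
noncomputable def a4 : Net := (.cons 40 (nat_lit 0xda078062ca)
 (.cons 20 (nat_lit 0x1e1e800000fe8de)
 (.cons 10 (nat_lit 0x128003860013400120)
 (.cons 5 (nat_lit 0x400d060180601802402)
 (.cons 1 (nat_lit 0x20001000a00000000000)
 (.cons 1 (nat_lit 0x50102021401000200008)
 (.cons 1 (nat_lit 0x280a4010a12008508084)
 (.cons 1 (nat_lit 0x5004a009424090210902)
 (.cons 1 (nat_lit 0x28020284a00808109480)
 (.cons 5 (nat_lit 0xc050080201003004)
 (.cons 10 (nat_lit 0x2400036a001c000124)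
 (.cons 20 (nat_lit 0x9c3d200000ff992)
 (.cons 40 (nat_lit 0xda0d2c129c)
 .nil)))))))))))))
noncomputable def a5 : Net := (.cons 40 (nat_lit 0x96c56c2564)
 (.cons 20 (nat_lit 0x12dd5000000371c)
 (.cons 10 (nat_lit 0x2ee002c30001c001b2)
 (.cons 5 (nat_lit 0x74180140c0400e03014)
 (.cons 1 (nat_lit 0x4000000000000)
 (.cons 1 (nat_lit 0x40148528000000040840)
 (.cons 1 (nat_lit 0x28485294a421421210a0)
 (.cons 1 (nat_lit 0x1094212848408425214a)
 (.cons 1 (nat_lit 0x20405004252042400080)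
 (.cons 5 (nat_lit 0x280804016060080701c)
 (.cons 10 (nat_lit 0x2f4003a6001b4001c0)
 (.cons 20 (nat_lit 0x1ca000006a732)
 (.cons 40 (nat_lit 0x96d615a9dc)
 .nil)))))))))))))
noncomputable def a6 : Net := (.cons 40 (nat_lit 0x6266d30b84)
 (.cons 20 (nat_lit 0x5c84800000c1110)
 (.cons 10 (nat_lit 0xb0002080018000260)
 (.cons 5 (nat_lit 0x4405020180181b04800)
 (.cons 1 (nat_lit 0x20000000000000000)
 (.cons 1 (nat_lit 0x48000020280000000)
 (.cons 1 (nat_lit 0x21484200850108400404)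
 (.cons 1 (nat_lit 0x5094a401024284a00808)
 (.cons 1 (nat_lit 0x29085210a508084084a4)
 (.cons 5 (nat_lit 0x681a020180081000800)
 (.cons 10 (nat_lit 0xb0002000018000260)
 (.cons 20 (nat_lit 0x5c84800000c1110)
 (.cons 40 (nat_lit 0x6266d30b84)
 .nil)))))))))))))
noncomputable def a7 : Net := (.cons 40 (nat_lit 0xd28282320)
 (.cons 20 (nat_lit 0x1b0000000078c00)
 (.cons 10 (nat_lit 0x26c002190012a001ca)
 (.cons 5 (nat_lit 0x400607c1c0280e03012)
 (.cons 1 (nat_lit 0x1000010000000000)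
 (.cons 1 (nat_lit 0xa520020000002800)
 (.cons 1 (nat_lit 0x24294052000421400)
 (.cons 1 (nat_lit 0x4a5284a4010842800)
 (.cons 1 (nat_lit 0x9025004042048020084)
 (.cons 5 (nat_lit 0x40481c0081001000)
 (.cons 10 (nat_lit 0x26c000980010a001ca)
 (.cons 20 (nat_lit 0x120000000078c00)
 (.cons 40 (nat_lit 0xd28282300)
 .nil)))))))))))))
noncomputable def a8 : Net := (.cons 40 (nat_lit 0x800bf03ea4)
 (.cons 20 (nat_lit 0x8800a00000031e0)
 (.cons 10 (nat_lit 0x9000350000f400056)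
 (.cons 5 (nat_lit 0x5004048000241001c12)
 (.cons 1 (nat_lit 0x8000000000002000000)
 (.cons 1 (nat_lit 0x50140500420014010008)
 (.cons 1 (nat_lit 0x210a4200a5010a528424)
 (.cons 1 (nat_lit 0x52142500420294a50842)
 (.cons 1 (nat_lit 0x9004214002102509420)
 (.cons 5 (nat_lit 0x5004048000201002010)
 (.cons 10 (nat_lit 0x9000150000f400208)
 (.cons 20 (nat_lit 0x8800000000030e0)
 (.cons 40 (nat_lit 0x800bf03ea4)
 .nil)))))))))))))
noncomputable def a9 : Net := (.cons 40 (nat_lit 0x1f70d4fea1)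
 (.cons 20 (nat_lit 0x83c890000032c2e)
 (.cons 10 (nat_lit 0x200001440010d00386)
 (.cons 5 (nat_lit 0x4c1b0441c0301a07009)
 (.cons 1 (nat_lit 0x8000200050000008000)
 (.cons 1 (nat_lit 0x508005000a1010012800)
 (.cons 1 (nat_lit 0x21404284852008021020)
 (.cons 1 (nat_lit 0x528481084a400404284a)
 (.cons 1 (nat_lit 0x20214a4004a029020)
 (.cons 5 (nat_lit 0x8050100080a02006)
 (.cons 10 (nat_lit 0x1c000f8001ce000b4)
 (.cons 20 (nat_lit 0x9694c0000032524)
 (.cons 40 (nat_lit 0x1f578cd0c2)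
 .nil)))))))))))))
noncomputable def a10 : Net := (.cons 40 (nat_lit 0x441fdbf0e0)
 (.cons 20 (nat_lit 0xe2c400000083600)
 (.cons 10 (nat_lit 0x25a003080000000024)
 (.cons 5 (nat_lit 0x60020301a0500c04c18)
 (.cons 1 (nat_lit 0x1000000200140000000)
 (.cons 1 (nat_lit 0x2800001400284040800)
 (.cons 1 (nat_lit 0x148128085014a529080)
 (.cons 1 (nat_lit 0x5294a521420284a12048)
 (.cons 1 (nat_lit 0x1081280250940500480)
 (.cons 5 (nat_lit 0x6002030180400c03018)
 (.cons 10 (nat_lit 0x242003080000000024)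
 (.cons 20 (nat_lit 0xe2c400000083600)
 (.cons 40 (nat_lit 0x441fdbf060)
 .nil)))))))))))))
noncomputable def a11 : Net := (.cons 40 (nat_lit 0xe0327ab920)
 (.cons 20 (nat_lit 0x3950000000b4080)
 (.cons 10 (nat_lit 0x225002aa000c8003c8)
 (.cons 5 (nat_lit 0x141f0000c068160280c)
 (.cons 1 (nat_lit 0x120000)
 (.cons 1 (nat_lit 0x48000001000a52840)
 (.cons 1 (nat_lit 0x840800129005290a0)
 (.cons 1 (nat_lit 0x5014a1200a5200a12840)
 (.cons 1 (nat_lit 0x8408081294a121000)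
 (.cons 5 (nat_lit 0x10000000c068160600c)
 (.cons 10 (nat_lit 0x204000a8000c8003c8)
 (.cons 20 (nat_lit 0x3950000000b0800)
 (.cons 40 (nat_lit 0xe0327aa820)
 .nil)))))))))))))
noncomputable def a12 : Net := (.cons 40 (nat_lit 0x1ca922ccb4)
 (.cons 20 (nat_lit 0xfc671000001fd26)
 (.cons 10 (nat_lit 0x61002bc0007100096)
 (.cons 5 (nat_lit 0xc010400f0140004004)
 (.cons 1 (nat_lit 0x80000800000000)
 (.cons 1 (nat_lit 0x2902508085094802800)
 (.cons 1 (nat_lit 0x10a529024214a401480)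
 (.cons 1 (nat_lit 0x4294a528425294a02940)
 (.cons 1 (nat_lit 0x204800808529000010a0)
 (.cons 5 (nat_lit 0x40180080e0281002000)
 (.cons 10 (nat_lit 0x286000140039a)
 (.cons 20 (nat_lit 0xe4758000001db10)
 (.cons 40 (nat_lit 0x1c874006bc)
 .nil)))))))))))))
noncomputable def ns0 : List Net := [a0, a1, a2, a3]
noncomputable def ws : List (List ℕ) :=
  [W (nat_lit 0x8040040501c050080501006),
  W (nat_lit 0x406008040100601803008070100101004),
  W (nat_lit 0x90240c0240c03009),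
  W (nat_lit 0xc0300a02c0a03009),
  W (nat_lit 0xe03c0d),
  W (nat_lit 0x1802),
  W (nat_lit 0x90300c0280c0280c0300a),
  W (nat_lit 0xb02409),
  W (nat_lit 0x300c0280a)]
noncomputable def ns : List Net := [a0, a1, a2, a3, a4, a5, a6, a7, a8, a9, a10, a11, a12]
noncomputable def D : List (ℕ × List ℕ) := app [] (mkDefs ws 4)
noncomputable def chk : List (List ℕ × List ℕ) → Bool := P.relsB ns
noncomputable def zus0 : List (List ℕ) :=
  [[15],
  [16],
  W (nat_lit 0x4011)]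
noncomputable def zF1 : List (List (ℕ × List ℕ)) :=
  [[(1, []),
   (0, []),
   (3, []),
   (2, [])],
  [(2, []),
   (3, []),
   (0, []),
   (1, [])]]
noncomputable def zE4 : List (ℕ × List ℕ) :=
  [(14, [15])]
noncomputable def zt5 : List ℕ :=
  []
noncomputable def zcj6 : List (List ℕ) :=
  [[16],
  [15]]
noncomputable def zus10 : List (List ℕ) :=
  [[8],
  [9],
  [11],
  W (nat_lit 0x2409),
  W (nat_lit 0x240b),
  W (nat_lit 0x280a),
  W (nat_lit 0x280b),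
  W (nat_lit 0x280c),
  W (nat_lit 0x280d),
  W (nat_lit 0x90240b),
  W (nat_lit 0x3011),
  W (nat_lit 0x2411),
  W (nat_lit 0x240d),
  W (nat_lit 0x90340a)]
noncomputable def zF11 : List (List (ℕ × List ℕ)) :=
  [[(1, []),
   (4, []),
   (0, []),
   (9, W (nat_lit 0x4011)),
   (6, []),
   (10, [16]),
   (2, []),
   (12, W (nat_lit 0x400d)),
   (3, [16]),
   (5, [15]),
   (8, [16]),
   (14, []),
   (11, [12]),
   (7, [15]),
   (13, [])],
  [(1, W (nat_lit 0x400d)),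
   (5, []),
   (7, []),
   (0, []),
   (10, []),
   (3, W (nat_lit 0x440d)),
   (6, W (nat_lit 0x440d)),
   (14, W (nat_lit 0x440d)),
   (2, []),
   (12, W (nat_lit 0x4011)),
   (13, W (nat_lit 0x400d)),
   (4, [15]),
   (9, [16]),
   (11, [12]),
   (8, W (nat_lit 0x400d))]]
noncomputable def zrs14 : List (ℕ × List ℕ) :=
  [(1, W (nat_lit 0x4c0a04414)),
  (2, W (nat_lit 0x1303014)),
  (6, [19])]
noncomputable def G_w0_1_v0 : Lev :=
  ⟨1, 20, sg (W (nat_lit 0x240b0240b0240902c09)), [[20], [22]], 6, 2⟩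
noncomputable def G_w0_1_v1 : Lev :=
  ⟨2, 6, sg (W (nat_lit 0x1505c15)), [], 8, 0⟩
noncomputable def G_w0_1_vs2 : List Lev :=
  []
noncomputable def G_w0_1_vs1 : List Lev :=
  G_w0_1_v1 :: G_w0_1_vs2
noncomputable def G_w0_1_vs : List Lev :=
  G_w0_1_v0 :: G_w0_1_vs1
noncomputable def zcj16 : List (List ℕ) :=
  [W (nat_lit 0x40110280c),
  W (nat_lit 0x440d02409)]
noncomputable def G_w0_2_v0 : Lev :=
  ⟨2, 24, sg (W (nat_lit 0x2c0902c0902c0902c09)), [[24]], 8, 1⟩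
noncomputable def G_w0_2_v1 : Lev :=
  ⟨1, 5, sg (W (nat_lit 0x641906419)), [], 9, 0⟩
noncomputable def G_w0_2_vs2 : List Lev :=
  []
noncomputable def G_w0_2_vs1 : List Lev :=
  G_w0_2_v1 :: G_w0_2_vs2
noncomputable def G_w0_2_vs : List Lev :=
  G_w0_2_v0 :: G_w0_2_vs1
noncomputable def zcj20 : List (List ℕ) :=
  [W (nat_lit 0x4409)]
noncomputable def G_v0 : Lev :=
  ⟨0, 60, sg (W (nat_lit 0x100c05004030040500c01)), [[8], [10]], 0, 2⟩
noncomputable def G_v1 : Lev :=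
  ⟨6, 15, sg (W (nat_lit 0x2c0902c0902c09)), [[12], [14]], 2, 2⟩
noncomputable def G_v2 : Lev :=
  ⟨20, 2, sg [12], [[15], [16]], 4, 1⟩
noncomputable def G_v3 : Lev :=
  ⟨1, 4, sg (W (nat_lit 0x4410)), [], 5, 0⟩
noncomputable def G_vs4 : List Lev :=
  []
noncomputable def G_vs3 : List Lev :=
  G_v3 :: G_vs4
noncomputable def G_vs2 : List Lev :=
  G_v2 :: G_vs3
noncomputable def G_vs1 : List Lev :=
  G_v1 :: G_vs2
noncomputable def G_vs : List Lev :=
  G_v0 :: G_vs1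
noncomputable def zcj24 : List (List ℕ) :=
  [W (nat_lit 0x100240b),
  W (nat_lit 0x100440d0280c)]
noncomputable def zB27 : List BG :=
  [⟨[18], [([12], W (nat_lit 0x100240b)), ([14], W (nat_lit 0x100440d0280c))],
  [([⟨[], [11], 3, [11]⟩], []),
   ([⟨[], W (nat_lit 0x280a), 3, W (nat_lit 0x100340c)⟩,
    ⟨[8], W (nat_lit 0x902c0a), 2, W (nat_lit 0x40110340a)⟩,
    ⟨[9], [8], 1, W (nat_lit 0x3409)⟩,
    ⟨[10], W (nat_lit 0x3011), 1, W (nat_lit 0x240d)⟩], W (nat_lit 0x40200402)),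
   ([⟨[], W (nat_lit 0x240b), 3, W (nat_lit 0x110340c)⟩,
    ⟨[9], [16], 1, W (nat_lit 0x100440d0280b)⟩,
    ⟨W (nat_lit 0x240b), W (nat_lit 0xa0280c), 2, W (nat_lit 0x10044090340a)⟩], W (nat_lit 0x80100801)),
   ([⟨[], [], 0, []⟩,
    ⟨[8], [], 2, W (nat_lit 0xd02411)⟩,
    ⟨W (nat_lit 0x2409), W (nat_lit 0x3c0c), 1, W (nat_lit 0x400d02411)⟩,
    ⟨W (nat_lit 0x90240b), W (nat_lit 0x280b), 3, W (nat_lit 0x110340a)⟩], W (nat_lit 0x80100801))]⟩]
noncomputable def zE28 : List (ℕ × List ℕ) :=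
  [(0, W (nat_lit 0x400d0280c04c0a04414)),
  (2, W (nat_lit 0x400a02c1303014)),
  (4, W (nat_lit 0xc04c0c04c13)),
  (6, [])]
noncomputable def zE33 : Net :=
  .nil
noncomputable def zK34 : Lk :=
  ⟨zE33, 1, 3, 1⟩
noncomputable def zE37 : Net :=
  (.cons 40 (nat_lit 0xfffff00000)
 (.cons 20 (nat_lit 0xffc0000000fffff)
 (.cons 10 (nat_lit 0x3ff003ff003ff00000)
 (.cons 20 (nat_lit 0xffc00)
 (.cons 40 (nat_lit 0xffc0000000)
 .nil)))))
noncomputable def zK38 : Lk :=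
  ⟨zE37, 1, 2, 1⟩

theorem zb2 : schB D [[15], [16]] [] zus0 zF1 4 = true := by decide +kernel
theorem zr3 : chk (schR [[15], [16]] zus0 zF1) = true := by decide +kernel
theorem zb7 : bnd (pcB D [[15], [16]] 2 zt5 zcj6) (leB (app D zE4) [[12], [14]] ([12] :: [[15], [16]])) = true := by decide +kernel
theorem zr8 : chk (pcR [[15], [16]] [12] 2 zt5 zcj6) = true := by decide +kernel
theorem zr9 : chk (defRels zE4) = true := by decide +kernel
theorem zb12 : schB D [[8], [10]] [[12], [14]] zus10 zF11 15 = true := by decide +kernel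
theorem zr13 : chk (schR [[8], [10]] zus10 zF11) = true := by decide +kernel
theorem zc15 : P.chainB ns D G_w0_1_vs [[8], [10]] = true := by decide +kernel
theorem zb17 : wdB D [[8], [10]] G_w0_1_v0.nx zcj16 = true := by decide +kernel
theorem zr18 : chk (wdR G_w0_1_v0.nx (W (nat_lit 0x4c0a04414)) zcj16) = true := by decide +kernel
theorem zc19 : P.chainB ns D G_w0_2_vs [[8], [10]] = true := by decide +kernel
theorem zb21 : wdB D [[8], [10]] G_w0_2_v0.nx zcj20 = true := by decide +kernel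
theorem zr22 : chk (wdR G_w0_2_v0.nx (W (nat_lit 0x1303014)) zcj20) = true := by decide +kernel
theorem zc23 : P.chainB ns D G_vs [[0], [2], [4], [6]] = true := by decide +kernel
theorem zb25 : wdB D [[8], [10]] G_v1.nx zcj24 = true := by decide +kernel
theorem zr26 : chk (wdR G_v1.nx [19] zcj24) = true := by decide +kernel
theorem zb29 : bB P.n P.N ns (app D zE28) [[0], [2], [4], [6]] [[8], [10]] 0 zrs14 zB27 = true := by decide +kernel
theorem zb30 : P.invSz ns [[0], [2], [4], [6]] 0 (orbM P.N ns G_v0) 60 = true := by decide +kernel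
theorem zr31 : chk (bR 0 zrs14 zB27) = true := by decide +kernel
theorem zr32 : chk (defRels zE28) = true := by decide +kernel
theorem zl35 : zK34.relB CL.Spor.Mon5A.S.P CL.Spor.Mon5A.T.P CL.Spor.Mon5A.S.ns [[0], [2], [4], [6]] [[0], [2], [4], [6]] = true := by decide +kernel
theorem zl36 : allL (zK34.pl CL.Spor.Mon5A.S.P CL.Spor.Mon5A.T.P CL.Spor.Mon5A.S.ns CL.Spor.Mon5A.T.ns 0) (zp [] [[0], [2], [4], [6]] [[0], [2], [4], [6]]) = true := by decide +kernel
theorem zl39 : zK38.relB CL.Spor.Mon5A.S.P CL.Std.A5w2.P CL.Spor.Mon5A.S.ns [[0], [2], [4], [6]] [[0], [2], [4]] = true := by decide +kernel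
theorem zl40 : allL (zK38.pl CL.Spor.Mon5A.S.P CL.Std.A5w2.P CL.Spor.Mon5A.S.ns CL.Std.A5w2.ns 0) (zp [] [[0], [2], [4], [6]] [[0], [2], [4]]) = true := by decide +kernel
theorem zk41 : allL (keepB P.n P.N) ns0 = true := by decide +kernel
theorem ze42 : extB ns0 ns 4 ws [] = true := by decide +kernel
theorem zn43 : P.netsB ns (mkDefs ws 4) = true := by decide +kernel

section
variable {G X : Type*} [Group G] [MulAction G X] {e : ℕ → X} {gs : List G}

theorem keep0 : allL (keepB P.n P.N) ns0 = true := zk41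

theorem len {k} (c : Ctx P e gs ns0 [] k) : gs.length = 4 := c.len ze42

theorem ctx0 {k} (c : Ctx P e gs ns0 [] k) : Ctx P e (ext gs ws) ns D chk0 :=
  c.ext rfl ze42 zn43

theorem ctx {k} (c : Ctx P e gs ns0 [] k) {H : Subgroup G} (hF : Faithful e P.n H) (hH : ∀ g ∈ gs, g ∈ H) :
    Ctx P e (ext gs ws) ns D chk :=
  (ctx0 c).withB hF (mem_of_mem_ext hH _)

instance instNe : NeZero P.n := ⟨by decide⟩
noncomputable def gs0 : List (Equiv.Perm (Fin P.n)) := permsOf P.n P.N ns0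
noncomputable def gs1 : List (Equiv.Perm (Fin P.n)) := ext gs0 ws
theorem c1 : Ctx P (eF P.n) gs1 ns D chk :=
  ctx (ctx_permsOf hP keep0) (faithful_eF _) fun _ _ => trivial

theorem G_u3 (c : Ctx P e gs ns D chk) :
    UB (subW gs [[15], [16]]) 4 :=
  (c.sch_step (UB.nil gs)
    (c.rels _ zr3) zb2).le (by decide)

theorem G_u2 (c : Ctx P e gs ns D chk) :
    UB (subW gs [[12], [14]]) 8 :=
  (c.pc_step (G_u3 c) (c.rels _ zr9)
    (c.rels _ zr8) zb7).le (by decide)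

theorem G_u1 (c : Ctx P e gs ns D chk) :
    UB (subW gs [[8], [10]]) 120 :=
  (c.sch_step (G_u2 c)
    (c.rels _ zr13) zb12).le (by decide)

theorem G_w0_1_c : P.chainB ns D G_w0_1_vs [[8], [10]] = true :=
  zc15

theorem G_w0_1_o : prodL G_w0_1_vs 1 = 120 := by decide +kernel

theorem G_w0_2_c : P.chainB ns D G_w0_2_vs [[8], [10]] = true :=
  zc19

theorem G_w0_2_o : prodL G_w0_2_vs 1 = 120 := by decide +kernel

theorem G_c : P.chainB ns D G_vs [[0], [2], [4], [6]] = true :=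
  zc23

theorem G_o : prodL G_vs 1 = 7200 := by decide +kernel

theorem G_u0w (c : Ctx P e gs ns D chk) :
    AllWd e gs [[8], [10]] zrs14 :=
  ⟨c.wd (v := G_w0_1_v0) (vs := G_w0_1_vs1) (G_u1 c) G_w0_1_c G_w0_1_o
      (c.rels _ zr18) zb17,
    ⟨c.wd (v := G_w0_2_v0) (vs := G_w0_2_vs1) (G_u1 c) G_w0_2_c G_w0_2_o
      (c.rels _ zr22) zb21,
    ⟨c.wd (v := G_v1) (vs := G_vs2) (G_u1 c) (Par.chainB_tail G_c) (by decide +kernel)
      (c.rels _ zr26) zb25,
    trivial⟩⟩⟩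

theorem G_u0 (c : Ctx P e gs ns D chk) :
    UB (subW gs [[0], [2], [4], [6]]) 7200 :=
  (c.b_step (G_u1 c) (G_u0w c) (c.rels _ zr32)
    (c.rels _ zr31) zb29 zb30).le (by decide)

theorem G_ub (c : Ctx P e gs ns D chk) :
    UB (subW gs [[0], [2], [4], [6]]) 7200 :=
  (G_u0 c)

theorem toT {Γ Y : Type*} [Group Γ] [MulAction Γ Y] {e' : ℕ → Y} {cs : List Γ} {D₁ D₂ : List (ℕ × List ℕ)}
    {k₁ k₂ : List (List ℕ × List ℕ) → Bool} (c : Ctx CL.Spor.Mon5A.S.P e gs CL.Spor.Mon5A.S.ns D₁ k₁) (c' : Ctx CL.Spor.Mon5A.T.P e' cs CL.Spor.Mon5A.T.ns D₂ k₂)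
    (hF : Faithful e' CL.Spor.Mon5A.T.P.n (subW cs [[0], [2], [4], [6]])) :
    RelLe gs [[0], [2], [4], [6]] cs [[0], [2], [4], [6]] :=
  c.relLe (K := zK34) c' hF zl35 (fun (t : ℕ) (ht : t < 1) => match t, ht with
    | 0, _ => zl36
    | t + 1, h => absurd h (by omega))

theorem toB {Γ Y : Type*} [Group Γ] [MulAction Γ Y] {e' : ℕ → Y} {cs : List Γ} {D₁ D₂ : List (ℕ × List ℕ)}
    {k₁ k₂ : List (List ℕ × List ℕ) → Bool} (c : Ctx CL.Spor.Mon5A.S.P e gs CL.Spor.Mon5A.S.ns D₁ k₁) (c' : Ctx CL.Std.A5w2.P e' cs CL.Std.A5w2.ns D₂ k₂)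
    (hF : Faithful e' CL.Std.A5w2.P.n (subW cs [[0], [2], [4]])) :
    RelLe gs [[0], [2], [4], [6]] cs [[0], [2], [4]] :=
  c.relLe (K := zK38) c' hF zl39 (fun (t : ℕ) (ht : t < 1) => match t, ht with
    | 0, _ => zl40
    | t + 1, h => absurd h (by omega))

theorem rel {Γ Y : Type*} [Group Γ] [MulAction Γ Y] {e' : ℕ → Y} {cs : List Γ} {D₂ : List (ℕ × List ℕ)}
    {k₂ : List (List ℕ × List ℕ) → Bool} (c' : Ctx CL.Std.A5w2.P e' cs CL.Std.A5w2.ns D₂ k₂) (hF : Faithful e' CL.Std.A5w2.P.n (subW cs [[0], [2], [4]])) :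
    RelLe CL.Spor.Mon5A.T.gs1 [[0], [2], [4], [6]] cs [[0], [2], [4]] :=
  ((toT c1 CL.Spor.Mon5A.T.c1 ((faithful_eF _).mono le_top)).symm_of_card (G_ub c1) (CL.Spor.Mon5A.T.G_lb CL.Spor.Mon5A.T.c1)).trans (toB c1 c' hF)

end
end CL.Spor.Mon5A.S

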