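/-
The automorphism group of `L_3(4)` on 42 points.
Generated by tools/pg.
-/
import Cfsg.Agent.Spor.PGCov
import Cfsg.Agent.Spor.PGTop2
import Cfsg.Agent.Spor.StdL34
import Cfsg.Agent.Spor.PGCtx

set_option autoImplicit false
set_option maxRecDepth 200000
set_option Elab.async false
set_option linter.unusedVariables false

namespace CL.ONT.G
open CL.PG

def P : Par := ⟨42, 48, 6, 3⟩
theorem hP : P.Ok := by decide
noncomputable def a0 : Net := (.cons 24 (nat_lit 0x2c2290)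
 (.cons 12 (nat_lit 0x8f000999)
 (.cons 6 (nat_lit 0x1c03601c02d)
 (.cons 3 (nat_lit 0x1020801061c5)
 (.cons 1 (nat_lit 0x8208200241)
 (.cons 1 (nat_lit 0x410490492482)
 (.cons 1 (nat_lit 0x240200201200)
 (.cons 3 (nat_lit 0x102086000080)
 (.cons 6 (nat_lit 0x14034018030)
 (.cons 12 (nat_lit 0x250000882)
 (.cons 24 (nat_lit 0x2e0464)
 .nil)))))))))))
noncomputable def a1 : Net := (.cons 24 (nat_lit 0x8b0000)
 (.cons 12 (nat_lit 0xc70000864)
 (.cons 6 (nat_lit 0x3000400a00c)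
 (.cons 3 (nat_lit 0x1001450c0)
 (.cons 1 (nat_lit 0x8000200000)
 (.cons 1 (nat_lit 0x10082480000)
 (.cons 1 (nat_lit 0x48008040248)
 (.cons 3 (nat_lit 0x100080000)
 (.cons 6 (nat_lit 0x2000400a008)
 (.cons 12 (nat_lit 0xc50000864)
 (.cons 24 (nat_lit 0x8b0000)
 .nil)))))))))))
noncomputable def a2 : Net := (.cons 24 (nat_lit 0xe4600a)
 (.cons 12 (nat_lit 0x4ce000a4a)
 (.cons 6 (nat_lit 0x1002000d010)
 (.cons 3 (nat_lit 0x142100100000)
 (.cons 1 (nat_lit 0x48208001)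
 (.cons 1 (nat_lit 0x80090490002)
 (.cons 1 (nat_lit 0x8249208001)
 (.cons 3 (nat_lit 0x102100100000)
 (.cons 6 (nat_lit 0x2000c000)
 (.cons 12 (nat_lit 0x4ca000a48)
 (.cons 24 (nat_lit 0xe4600a)
 .nil)))))))))))
noncomputable def a3 : Net := (.cons 12 (nat_lit 0x800000864)
 (.cons 6 (nat_lit 0x802801a034)
 (.cons 3 (nat_lit 0x4183106044)
 (.cons 1 (nat_lit 0x200000000008)
 (.cons 1 (nat_lit 0x400480000090)
 (.cons 1 (nat_lit 0x200000041008)
 (.cons 3 (nat_lit 0x2004)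
 (.cons 6 (nat_lit 0x8028012004)
 (.cons 12 (nat_lit 0x800000864)
 .nil)))))))))
noncomputable def a4 : Net := (.cons 24 (nat_lit 0xd08035)
 (.cons 12 (nat_lit 0xf0e000e74)
 (.cons 6 (nat_lit 0x10038039030)
 (.cons 3 (nat_lit 0x51801421c4)
 (.cons 1 (nat_lit 0x9040008008)
 (.cons 1 (nat_lit 0x12080090490)
 (.cons 1 (nat_lit 0x209201249009)
 (.cons 3 (nat_lit 0x100102004)
 (.cons 6 (nat_lit 0x10038028030)
 (.cons 12 (nat_lit 0x208000ed2)
 (.cons 24 (nat_lit 0xd060ca)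
 .nil)))))))))))
noncomputable def a5 : Net := .nil
noncomputable def a6 : Net := (.cons 24 (nat_lit 0x5d2a)
 (.cons 12 (nat_lit 0x84400038a)
 (.cons 6 (nat_lit 0x101c030034)
 (.cons 3 (nat_lit 0x1061051461c6)
 (.cons 1 (nat_lit 0x40008040008)
 (.cons 1 (nat_lit 0x90410090090)
 (.cons 1 (nat_lit 0x40000248200)
 (.cons 3 (nat_lit 0x104104104184)
 (.cons 6 (nat_lit 0x8038024)
 (.cons 12 (nat_lit 0x8440003b0)
 (.cons 24 (nat_lit 0x1a2a)
 .nil)))))))))))
noncomputable def a7 : Net := (.cons 24 (nat_lit 0x212000)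
 (.cons 12 (nat_lit 0x810000408)
 (.cons 6 (nat_lit 0x802002c008)
 (.cons 3 (nat_lit 0x6100182040)
 (.cons 1 (nat_lit 0x200000201000)
 (.cons 1 (nat_lit 0x400080402480)
 (.cons 1 (nat_lit 0x208008241008)
 (.cons 3 (nat_lit 0x2100180000)
 (.cons 6 (nat_lit 0x802000c008)
 (.cons 12 (nat_lit 0x810000408)
 (.cons 24 (nat_lit 0x212000)
 .nil)))))))))))
noncomputable def a8 : Net := (.cons 24 (nat_lit 0x113b8c)
 (.cons 12 (nat_lit 0x9d800025c)
 (.cons 6 (nat_lit 0x2f034030013)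
 (.cons 3 (nat_lit 0x1840001801c6)
 (.cons 1 (nat_lit 0x1000000200)
 (.cons 1 (nat_lit 0x402402080402)
 (.cons 1 (nat_lit 0x201201248001)
 (.cons 3 (nat_lit 0x184100100186)
 (.cons 6 (nat_lit 0x2802402000e)
 (.cons 12 (nat_lit 0x8ce000002)
 (.cons 24 (nat_lit 0x103ea2)
 .nil)))))))))))
noncomputable def a9 : Net := (.cons 24 (nat_lit 0x967361)
 (.cons 12 (nat_lit 0xcf3000b40)
 (.cons 6 (nat_lit 0x1017031022)
 (.cons 3 (nat_lit 0x1811450c5180)
 (.cons 1 (nat_lit 0x1008000001)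
 (.cons 1 (nat_lit 0x82490412082)
 (.cons 1 (nat_lit 0x48209009)
 (.cons 3 (nat_lit 0x2004080102)
 (.cons 6 (nat_lit 0x2601e006020)
 (.cons 12 (nat_lit 0xcec000b40)
 (.cons 24 (nat_lit 0x962e70)
 .nil)))))))))))
noncomputable def a10 : Net := .nil
noncomputable def a11 : Net := (.cons 24 (nat_lit 0xf22d4c)
 (.cons 12 (nat_lit 0xcec000864)
 (.cons 6 (nat_lit 0x24028033034)
 (.cons 3 (nat_lit 0xc60071811c4)
 (.cons 1 (nat_lit 0x49000008000)
 (.cons 1 (nat_lit 0x492400092410)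
 (.cons 1 (nat_lit 0x49200009040)
 (.cons 3 (nat_lit 0x180100100084)
 (.cons 6 (nat_lit 0x10018010024)
 (.cons 12 (nat_lit 0x9f400086c)
 (.cons 24 (nat_lit 0xf1d998)
 .nil)))))))))))
noncomputable def a12 : Net := (.cons 24 (nat_lit 0xd903b8)
 (.cons 12 (nat_lit 0x86400064c)
 (.cons 6 (nat_lit 0x1801e02b00e)
 (.cons 3 (nat_lit 0x4104046042)
 (.cons 1 (nat_lit 0x40201008248)
 (.cons 1 (nat_lit 0x492492410492)
 (.cons 1 (nat_lit 0x201201049240)
 (.cons 3 (nat_lit 0x102184006000)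
 (.cons 6 (nat_lit 0x801002a02e)
 (.cons 12 (nat_lit 0x864000460)
 (.cons 24 (nat_lit 0xd8dcf8)
 .nil)))))))))))
noncomputable def a13 : Net := (.cons 24 (nat_lit 0x3bbec)
 (.cons 12 (nat_lit 0x9600004c)
 (.cons 6 (nat_lit 0x2200b002030)
 (.cons 3 (nat_lit 0x101147180040)
 (.cons 1 (nat_lit 0x40040200)
 (.cons 1 (nat_lit 0x80482482400)
 (.cons 1 (nat_lit 0x201041000)
 (.cons 3 (nat_lit 0x100182184000)
 (.cons 6 (nat_lit 0x20032024018)
 (.cons 12 (nat_lit 0x92000826)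
 (.cons 24 (nat_lit 0x3bf14)
 .nil)))))))))))
noncomputable def a14 : Net := (.cons 24 (nat_lit 0xc94b26)
 (.cons 12 (nat_lit 0x7a6000a08)
 (.cons 6 (nat_lit 0x2401202d038)
 (.cons 3 (nat_lit 0x105105043186)
 (.cons 1 (nat_lit 0x200041048248)
 (.cons 1 (nat_lit 0x482092090490)
 (.cons 1 (nat_lit 0x208040049200)
 (.cons 3 (nat_lit 0x180100106006)
 (.cons 6 (nat_lit 0x8032028038)
 (.cons 12 (nat_lit 0x3a6000940)
 (.cons 24 (nat_lit 0xc891d0)
 .nil)))))))))))
noncomputable def a15 : Net := (.cons 24 (nat_lit 0xc0124)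
 (.cons 12 (nat_lit 0x8680009b0)
 (.cons 6 (nat_lit 0x28012034008)
 (.cons 3 (nat_lit 0xc4184084040)
 (.cons 1 (nat_lit 0x1000248)
 (.cons 1 (nat_lit 0x402080490)
 (.cons 1 (nat_lit 0x200041008248)
 (.cons 3 (nat_lit 0x80180000000)
 (.cons 6 (nat_lit 0x800001c000)
 (.cons 12 (nat_lit 0x84c000090)
 (.cons 24 (nat_lit 0xc0124)
 .nil)))))))))))
noncomputable def a16 : Net := (.cons 24 (nat_lit 0x839840)
 (.cons 12 (nat_lit 0x954000864)
 (.cons 6 (nat_lit 0x31018024018)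
 (.cons 3 (nat_lit 0x1011011431c4)
 (.cons 1 (nat_lit 0x8001040200)
 (.cons 1 (nat_lit 0x410092490410)
 (.cons 1 (nat_lit 0x9201208048)
 (.cons 3 (nat_lit 0x102180104)
 (.cons 6 (nat_lit 0x3001800801c)
 (.cons 12 (nat_lit 0x974000864)
 (.cons 24 (nat_lit 0x832040)
 .nil)))))))))))
noncomputable def a17 : Net := (.cons 24 (nat_lit 0x49490)
 (.cons 12 (nat_lit 0xae9000864)
 (.cons 6 (nat_lit 0x801000d014)
 (.cons 3 (nat_lit 0x470850c1080)
 (.cons 1 (nat_lit 0x201041201000)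
 (.cons 1 (nat_lit 0x402092492090)
 (.cons 1 (nat_lit 0x200001201208)
 (.cons 3 (nat_lit 0x82186104)
 (.cons 6 (nat_lit 0xa01001e020)
 (.cons 12 (nat_lit 0xaca000864)
 (.cons 24 (nat_lit 0x40d44)
 .nil)))))))))))
noncomputable def a18 : Net := (.cons 24 (nat_lit 0xcc7fc4)
 (.cons 12 (nat_lit 0x864000c94)
 (.cons 6 (nat_lit 0x2100c038018)
 (.cons 3 (nat_lit 0x187100001000)
 (.cons 1 (nat_lit 0x40200008)
 (.cons 1 (nat_lit 0x90490410010)
 (.cons 1 (nat_lit 0x208009208)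
 (.cons 3 (nat_lit 0x100186180004)
 (.cons 6 (nat_lit 0x10028000018)
 (.cons 12 (nat_lit 0x8e4000ea4)
 (.cons 24 (nat_lit 0xcf5d7c)
 .nil)))))))))))
noncomputable def a19 : Net := (.cons 24 (nat_lit 0x4c838)
 (.cons 12 (nat_lit 0x86c000844)
 (.cons 6 (nat_lit 0x2002402f030)
 (.cons 3 (nat_lit 0x102184081104)
 (.cons 1 (nat_lit 0x48000200000)
 (.cons 1 (nat_lit 0x92410412080)
 (.cons 1 (nat_lit 0x49040241000)
 (.cons 3 (nat_lit 0x100084002000)
 (.cons 6 (nat_lit 0x24008000)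
 (.cons 12 (nat_lit 0x86400086c)
 (.cons 24 (nat_lit 0x684d0)
 .nil)))))))))))
noncomputable def a20 : Net := (.cons 24 (nat_lit 0xc6f3bc)
 (.cons 12 (nat_lit 0xc2c000c9c)
 (.cons 6 (nat_lit 0x2d00e02c01a)
 (.cons 3 (nat_lit 0x1c61800060c2)
 (.cons 1 (nat_lit 0x1200008048)
 (.cons 1 (nat_lit 0x82490412090)
 (.cons 1 (nat_lit 0x40048209000)
 (.cons 3 (nat_lit 0x84186080086)
 (.cons 6 (nat_lit 0x1c034024012)
 (.cons 12 (nat_lit 0x850000f24)
 (.cons 24 (nat_lit 0xc76a6c)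
 .nil)))))))))))
noncomputable def a21 : Net := (.cons 24 (nat_lit 0x2b1ab8)
 (.cons 12 (nat_lit 0xac0000454)
 (.cons 6 (nat_lit 0xb01600e024)
 (.cons 3 (nat_lit 0x144086184084)
 (.cons 1 (nat_lit 0x40008000000)
 (.cons 1 (nat_lit 0x82090400410)
 (.cons 1 (nat_lit 0x48200240048)
 (.cons 3 (nat_lit 0x100082100184)
 (.cons 6 (nat_lit 0xa01003a010)
 (.cons 12 (nat_lit 0x8d8000c00)
 (.cons 24 (nat_lit 0x28d6d4)
 .nil)))))))))))
noncomputable def a22 : Net := (.cons 24 (nat_lit 0x45c488)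
 (.cons 12 (nat_lit 0x8e40002cc)
 (.cons 6 (nat_lit 0x1103c003028)
 (.cons 3 (nat_lit 0x104180006180)
 (.cons 1 (nat_lit 0x200040208)
 (.cons 1 (nat_lit 0x92402090410)
 (.cons 1 (nat_lit 0x40240041008)
 (.cons 3 (nat_lit 0x100080106084)
 (.cons 6 (nat_lit 0x2202c024000)
 (.cons 12 (nat_lit 0x8e4000360)
 (.cons 24 (nat_lit 0x461048)
 .nil)))))))))))
noncomputable def a23 : Net := (.cons 24 (nat_lit 0x648160)
 (.cons 12 (nat_lit 0x23c000290)
 (.cons 6 (nat_lit 0x28000000018)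
 (.cons 3 (nat_lit 0x1400c0004140)
 (.cons 1 (nat_lit 0x40000200200)
 (.cons 1 (nat_lit 0x82000480480)
 (.cons 1 (nat_lit 0x241040208040)
 (.cons 3 (nat_lit 0x100080102000)
 (.cons 6 (nat_lit 0x3800800801c)
 (.cons 12 (nat_lit 0x674000328)
 (.cons 24 (nat_lit 0x648960)
 .nil)))))))))))
noncomputable def a24 : Net := (.cons 24 (nat_lit 0x1a03d0)
 (.cons 12 (nat_lit 0x144000864)
 (.cons 6 (nat_lit 0x28008031018)
 (.cons 3 (nat_lit 0x140000181080)
 (.cons 1 (nat_lit 0x1200000000)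
 (.cons 1 (nat_lit 0x2400082000)
 (.cons 1 (nat_lit 0x40208048200)
 (.cons 3 (nat_lit 0x102186080)
 (.cons 6 (nat_lit 0x28008000008)
 (.cons 12 (nat_lit 0x164000864)
 (.cons 24 (nat_lit 0x1a0750)
 .nil)))))))))))
noncomputable def a25 : Net := (.cons 24 (nat_lit 0x793230)
 (.cons 12 (nat_lit 0xd0a000864)
 (.cons 6 (nat_lit 0x3a00800c018)
 (.cons 3 (nat_lit 0x861021400c4)
 (.cons 1 (nat_lit 0x1000200000)
 (.cons 1 (nat_lit 0x2410400400)
 (.cons 1 (nat_lit 0x209208201240)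
 (.cons 3 (nat_lit 0x6100102000)
 (.cons 6 (nat_lit 0x3000800c00c)
 (.cons 12 (nat_lit 0xf08000864)
 (.cons 24 (nat_lit 0x793a30)
 .nil)))))))))))
noncomputable def a26 : Net := (.cons 24 (nat_lit 0x2596cc)
 (.cons 12 (nat_lit 0x844000924)
 (.cons 6 (nat_lit 0x1000c000008)
 (.cons 3 (nat_lit 0x1810861030c4)
 (.cons 1 (nat_lit 0x1040)
 (.cons 1 (nat_lit 0x82010082480)
 (.cons 1 (nat_lit 0x40048009040)
 (.cons 3 (nat_lit 0x180086102080)
 (.cons 6 (nat_lit 0x1800c02400c)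
 (.cons 12 (nat_lit 0x844000828)
 (.cons 24 (nat_lit 0x25b248)
 .nil)))))))))))
noncomputable def a27 : Net := (.cons 24 (nat_lit 0x2b8)
 (.cons 12 (nat_lit 0x824000802)
 (.cons 6 (nat_lit 0x2001001e03a)
 (.cons 3 (nat_lit 0x21000401c4)
 (.cons 1 (nat_lit 0x8200000000)
 (.cons 1 (nat_lit 0x12400402002)
 (.cons 1 (nat_lit 0x8000209040)
 (.cons 3 (nat_lit 0x100000004)
 (.cons 6 (nat_lit 0x1000602a)
 (.cons 12 (nat_lit 0x824000c6a)
 (.cons 24 (nat_lit 0x278)
 .nil)))))))))))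
noncomputable def a28 : Net := (.cons 24 (nat_lit 0xa4708)
 (.cons 12 (nat_lit 0x24000860)
 (.cons 6 (nat_lit 0x801c03400c)
 (.cons 3 (nat_lit 0x82102047184)
 (.cons 1 (nat_lit 0x1040009200)
 (.cons 1 (nat_lit 0x2080412410)
 (.cons 1 (nat_lit 0x201048009240)
 (.cons 3 (nat_lit 0x80102000184)
 (.cons 6 (nat_lit 0x800803400c)
 (.cons 12 (nat_lit 0x4000860)
 (.cons 24 (nat_lit 0xa4708)
 .nil)))))))))))
noncomputable def a29 : Net := (.cons 24 (nat_lit 0x244e18)
 (.cons 12 (nat_lit 0x404000d98)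
 (.cons 6 (nat_lit 0x8000030014)
 (.cons 3 (nat_lit 0x86146106102)
 (.cons 1 (nat_lit 0x240001008)
 (.cons 1 (nat_lit 0x10480002412)
 (.cons 1 (nat_lit 0x41240009048)
 (.cons 3 (nat_lit 0x86000006102)
 (.cons 6 (nat_lit 0x20000)
 (.cons 12 (nat_lit 0x404000d98)
 (.cons 24 (nat_lit 0x244e18)
 .nil)))))))))))
noncomputable def a30 : Net := (.cons 24 (nat_lit 0x6f2054)
 (.cons 12 (nat_lit 0x1bc0007ca)
 (.cons 6 (nat_lit 0x2802902303c)
 (.cons 3 (nat_lit 0x821c6146080)
 (.cons 1 (nat_lit 0x40040200200)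
 (.cons 1 (nat_lit 0x80090490480)
 (.cons 1 (nat_lit 0x8248248200)
 (.cons 3 (nat_lit 0x182106000180)
 (.cons 6 (nat_lit 0x28032014018)
 (.cons 12 (nat_lit 0x7d4000ffc)
 (.cons 24 (nat_lit 0x6fe574)
 .nil)))))))))))
noncomputable def a31 : Net := (.cons 24 (nat_lit 0xafd90a)
 (.cons 12 (nat_lit 0x329000494)
 (.cons 6 (nat_lit 0x503f01402c)
 (.cons 3 (nat_lit 0x1c2105086006)
 (.cons 1 (nat_lit 0x200040008000)
 (.cons 1 (nat_lit 0x410482012410)
 (.cons 1 (nat_lit 0x1040000208)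
 (.cons 3 (nat_lit 0x86004000004)
 (.cons 6 (nat_lit 0x2016004028)
 (.cons 12 (nat_lit 0x9fe0005ac)
 (.cons 24 (nat_lit 0xae98d8)
 .nil)))))))))))
noncomputable def a32 : Net := (.cons 24 (nat_lit 0xe9dc30)
 (.cons 12 (nat_lit 0xa2700063a)
 (.cons 6 (nat_lit 0x3f034036)
 (.cons 3 (nat_lit 0x6183144000)
 (.cons 1 (nat_lit 0x208040040008)
 (.cons 1 (nat_lit 0x410490090012)
 (.cons 1 (nat_lit 0x1040048048)
 (.cons 3 (nat_lit 0x84180104080)
 (.cons 6 (nat_lit 0x2e030036)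
 (.cons 12 (nat_lit 0xa28000618)
 (.cons 24 (nat_lit 0xe8bc78)
 .nil)))))))))))
noncomputable def a33 : Net := (.cons 24 (nat_lit 0x43b800)
 (.cons 12 (nat_lit 0xa11000198)
 (.cons 6 (nat_lit 0x38000030020)
 (.cons 3 (nat_lit 0x6000044002)
 (.cons 1 (nat_lit 0x48000)
 (.cons 1 (nat_lit 0x412080490000)
 (.cons 1 (nat_lit 0x8208200)
 (.cons 3 (nat_lit 0x184000)
 (.cons 6 (nat_lit 0x30000030000)
 (.cons 12 (nat_lit 0xa10000198)
 (.cons 24 (nat_lit 0x43b800)
 .nil)))))))))))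
noncomputable def a34 : Net := (.cons 24 (nat_lit 0x6906cc)
 (.cons 12 (nat_lit 0x7b4000898)
 (.cons 6 (nat_lit 0x18030022000)
 (.cons 3 (nat_lit 0x80087105046)
 (.cons 1 (nat_lit 0x200008000)
 (.cons 1 (nat_lit 0x90410092010)
 (.cons 1 (nat_lit 0x8009048000)
 (.cons 3 (nat_lit 0x84004004)
 (.cons 6 (nat_lit 0x18020000008)
 (.cons 12 (nat_lit 0x7b4000898)
 (.cons 24 (nat_lit 0x6946c4)
 .nil)))))))))))
noncomputable def a35 : Net := (.cons 24 (nat_lit 0x79c8a0)
 (.cons 12 (nat_lit 0xa04000618)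
 (.cons 6 (nat_lit 0x18018030020)
 (.cons 3 (nat_lit 0x180081040102)
 (.cons 1 (nat_lit 0x1008)
 (.cons 1 (nat_lit 0x10002412090)
 (.cons 1 (nat_lit 0x1008)
 (.cons 3 (nat_lit 0x100)
 (.cons 6 (nat_lit 0x10018000020)
 (.cons 12 (nat_lit 0xa04000618)
 (.cons 24 (nat_lit 0x79c8a0)
 .nil)))))))))))
noncomputable def a36 : Net := (.cons 24 (nat_lit 0xd0404)
 (.cons 12 (nat_lit 0x6c8000e08)
 (.cons 6 (nat_lit 0x32020020)
 (.cons 3 (nat_lit 0xc6100004000)
 (.cons 1 (nat_lit 0x8048208000)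
 (.cons 1 (nat_lit 0x12490412012)
 (.cons 1 (nat_lit 0x8049208200)
 (.cons 3 (nat_lit 0x6100004000)
 (.cons 6 (nat_lit 0x32020020)
 (.cons 12 (nat_lit 0x6c8000e08)
 (.cons 24 (nat_lit 0xd0404)
 .nil)))))))))))
noncomputable def a37 : Net := (.cons 24 (nat_lit 0x710f1a)
 (.cons 12 (nat_lit 0x94700073a)
 (.cons 6 (nat_lit 0x3903601e00e)
 (.cons 3 (nat_lit 0x431020c3142)
 (.cons 1 (nat_lit 0x9001048200)
 (.cons 1 (nat_lit 0x412402092480)
 (.cons 1 (nat_lit 0x9201240200)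
 (.cons 3 (nat_lit 0x80100)
 (.cons 6 (nat_lit 0xc02202602c)
 (.cons 12 (nat_lit 0xa60000fa6)
 (.cons 24 (nat_lit 0x72e02a)
 .nil)))))))))))
noncomputable def a38 : Net := (.cons 24 (nat_lit 0xefa75a)
 (.cons 12 (nat_lit 0x3dd000af4)
 (.cons 6 (nat_lit 0x1b007033004)
 (.cons 3 (nat_lit 0x1811051c7100)
 (.cons 1 (nat_lit 0x209008)
 (.cons 1 (nat_lit 0x92482412412)
 (.cons 1 (nat_lit 0x41048201008)
 (.cons 3 (nat_lit 0x100004102106)
 (.cons 6 (nat_lit 0xc03601c000)
 (.cons 12 (nat_lit 0x11a000ae0)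
 (.cons 24 (nat_lit 0xed41d8)
 .nil)))))))))))
noncomputable def a39 : Net := (.cons 24 (nat_lit 0x208b08)
 (.cons 12 (nat_lit 0x4000798)
 (.cons 6 (nat_lit 0x800802e010)
 (.cons 3 (nat_lit 0x1061c4180)
 (.cons 1 (nat_lit 0x48208008)
 (.cons 1 (nat_lit 0x2492492410)
 (.cons 1 (nat_lit 0x48048048)
 (.cons 3 (nat_lit 0x106004180)
 (.cons 6 (nat_lit 0xc02a010)
 (.cons 12 (nat_lit 0x4000798)
 (.cons 24 (nat_lit 0x20cc08)
 .nil)))))))))))
noncomputable def a40 : Net := (.cons 24 (nat_lit 0xbd554c)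
 (.cons 12 (nat_lit 0x5da00068c)
 (.cons 6 (nat_lit 0x2a031020000)
 (.cons 3 (nat_lit 0x81084083104)
 (.cons 1 (nat_lit 0x200001040)
 (.cons 1 (nat_lit 0x412482402080)
 (.cons 1 (nat_lit 0x40001209040)
 (.cons 3 (nat_lit 0x80100002100)
 (.cons 6 (nat_lit 0x1e018020020)
 (.cons 12 (nat_lit 0x5a800068e)
 (.cons 24 (nat_lit 0xbd7448)
 .nil)))))))))))
noncomputable def a41 : Net := (.cons 24 (nat_lit 0x8a0800)
 (.cons 12 (nat_lit 0xe40000104)
 (.cons 6 (nat_lit 0x18004008004)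
 (.cons 3 (nat_lit 0x5100001104)
 (.cons 1 (nat_lit 0x201000040040)
 (.cons 1 (nat_lit 0x412092082480)
 (.cons 1 (nat_lit 0x248000040040)
 (.cons 3 (nat_lit 0x2100000100)
 (.cons 6 (nat_lit 0x18004008004)
 (.cons 12 (nat_lit 0xe40000104)
 (.cons 24 (nat_lit 0x8a0800)
 .nil)))))))))))
noncomputable def a42 : Net := (.cons 24 (nat_lit 0x54dce2)
 (.cons 12 (nat_lit 0x5a0000808)
 (.cons 6 (nat_lit 0x3900203c)
 (.cons 3 (nat_lit 0x11021021c6)
 (.cons 1 (nat_lit 0x9049001008)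
 (.cons 1 (nat_lit 0x92092082412)
 (.cons 1 (nat_lit 0x48248008008)
 (.cons 3 (nat_lit 0x82002100002)
 (.cons 6 (nat_lit 0x10020000012)
 (.cons 12 (nat_lit 0x59a000a14)
 (.cons 24 (nat_lit 0x540f66)
 .nil)))))))))))
noncomputable def a43 : Net := (.cons 24 (nat_lit 0x9530ae)
 (.cons 12 (nat_lit 0x96d000bc0)
 (.cons 6 (nat_lit 0x2500002c008)
 (.cons 3 (nat_lit 0x1041c11c1084)
 (.cons 1 (nat_lit 0x40041201000)
 (.cons 1 (nat_lit 0x82092412012)
 (.cons 1 (nat_lit 0x48049208200)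
 (.cons 3 (nat_lit 0x4100006000)
 (.cons 6 (nat_lit 0x402c000000)
 (.cons 12 (nat_lit 0x970000f74)
 (.cons 24 (nat_lit 0x95b96e)
 .nil)))))))))))
noncomputable def a44 : Net := (.cons 24 (nat_lit 0xcf5d7c)
 (.cons 12 (nat_lit 0x8e4000ea4)
 (.cons 6 (nat_lit 0x1902a000018)
 (.cons 3 (nat_lit 0xc6186182004)
 (.cons 1 (nat_lit 0x208008008)
 (.cons 1 (nat_lit 0x402490410010)
 (.cons 1 (nat_lit 0x40201208)
 (.cons 3 (nat_lit 0x100000000)
 (.cons 6 (nat_lit 0x28004038018)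
 (.cons 12 (nat_lit 0x864000c94)
 (.cons 24 (nat_lit 0xcc7fc4)
 .nil)))))))))))
noncomputable def a45 : Net := (.cons 24 (nat_lit 0xa13814)
 (.cons 12 (nat_lit 0xde9000dec)
 (.cons 6 (nat_lit 0xf028024004)
 (.cons 3 (nat_lit 0x1040071020c4)
 (.cons 1 (nat_lit 0x48200000008)
 (.cons 1 (nat_lit 0x90402410010)
 (.cons 1 (nat_lit 0x208048048)
 (.cons 3 (nat_lit 0x182006104004)
 (.cons 6 (nat_lit 0x3e020010004)
 (.cons 12 (nat_lit 0xdc2000d04)
 (.cons 24 (nat_lit 0xa1bd2c)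
 .nil)))))))))))
noncomputable def a46 : Net := (.cons 24 (nat_lit 0x1fdf80)
 (.cons 12 (nat_lit 0x8f0000048)
 (.cons 6 (nat_lit 0x1003a022030)
 (.cons 3 (nat_lit 0x1851c2000104)
 (.cons 1 (nat_lit 0x8008)
 (.cons 1 (nat_lit 0x10410)
 (.cons 1 (nat_lit 0x40248248008)
 (.cons 3 (nat_lit 0x80002000104)
 (.cons 6 (nat_lit 0x10030022010)
 (.cons 12 (nat_lit 0x8a0000048)
 (.cons 24 (nat_lit 0x1fdb00)
 .nil)))))))))))
noncomputable def a47 : Net := (.cons 24 (nat_lit 0x588724)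
 (.cons 12 (nat_lit 0xc74000a2c)
 (.cons 6 (nat_lit 0x30008028002)
 (.cons 3 (nat_lit 0x100100046044)
 (.cons 1 (nat_lit 0x200208008)
 (.cons 1 (nat_lit 0x410410412410)
 (.cons 1 (nat_lit 0x48008201000)
 (.cons 3 (nat_lit 0x106186006006)
 (.cons 6 (nat_lit 0x2200802802a)
 (.cons 12 (nat_lit 0x960000828)
 (.cons 24 (nat_lit 0x5865f0)
 .nil)))))))))))
noncomputable def a48 : Net := (.cons 24 (nat_lit 0x6121c0)
 (.cons 12 (nat_lit 0x84c000c88)
 (.cons 6 (nat_lit 0x28030024024)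
 (.cons 3 (nat_lit 0x83100182180)
 (.cons 1 (nat_lit 0x8000009048)
 (.cons 1 (nat_lit 0x12000012490)
 (.cons 1 (nat_lit 0x41000049048)
 (.cons 3 (nat_lit 0x84000080180)
 (.cons 6 (nat_lit 0x28020024024)
 (.cons 12 (nat_lit 0x844000480)
 (.cons 24 (nat_lit 0x612140)
 .nil)))))))))))
noncomputable def a49 : Net := (.cons 24 (nat_lit 0x878c84)
 (.cons 12 (nat_lit 0xf4000a44)
 (.cons 6 (nat_lit 0x1103000300c)
 (.cons 3 (nat_lit 0x80080006080)
 (.cons 1 (nat_lit 0x8040008)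
 (.cons 1 (nat_lit 0x402010490010)
 (.cons 1 (nat_lit 0x41048001208)
 (.cons 3 (nat_lit 0x80080006080)
 (.cons 6 (nat_lit 0x10030004008)
 (.cons 12 (nat_lit 0x84000a44)
 (.cons 24 (nat_lit 0x8638c0)
 .nil)))))))))))
noncomputable def a50 : Net := (.cons 24 (nat_lit 0x8b0000)
 (.cons 12 (nat_lit 0xc70000864)
 (.cons 6 (nat_lit 0x3000400a00c)
 (.cons 3 (nat_lit 0x1001450c0)
 (.cons 1 (nat_lit 0x8000200000)
 (.cons 1 (nat_lit 0x10082480000)
 (.cons 1 (nat_lit 0x48008040248)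
 (.cons 3 (nat_lit 0x100080000)
 (.cons 6 (nat_lit 0x2000400a008)
 (.cons 12 (nat_lit 0xc50000864)
 (.cons 24 (nat_lit 0x8b0000)
 .nil)))))))))))
noncomputable def a51 : Net := (.cons 24 (nat_lit 0xb10344)
 (.cons 12 (nat_lit 0x924000824)
 (.cons 6 (nat_lit 0x24008002018)
 (.cons 3 (nat_lit 0x103102183084)
 (.cons 1 (nat_lit 0x200200001000)
 (.cons 1 (nat_lit 0x410480092080)
 (.cons 1 (nat_lit 0x208208000200)
 (.cons 3 (nat_lit 0x4102100080)
 (.cons 6 (nat_lit 0x8008030018)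
 (.cons 12 (nat_lit 0x924000824)
 (.cons 24 (nat_lit 0xb0b300)
 .nil)))))))))))
noncomputable def a52 : Net := (.cons 24 (nat_lit 0x549c64)
 (.cons 12 (nat_lit 0x464000164)
 (.cons 6 (nat_lit 0x21014029010)
 (.cons 3 (nat_lit 0x1050801c0004)
 (.cons 1 (nat_lit 0x10002002000)
 (.cons 1 (nat_lit 0x1048208200)
 (.cons 3 (nat_lit 0x6080082000)
 (.cons 6 (nat_lit 0x20014022010)
 (.cons 12 (nat_lit 0x464000164)
 (.cons 24 (nat_lit 0x552020)
 .nil))))))))))
noncomputable def a53 : Net := (.cons 24 (nat_lit 0xa4708)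
 (.cons 12 (nat_lit 0x24000860)
 (.cons 6 (nat_lit 0x801c03400c)
 (.cons 3 (nat_lit 0x82102047184)
 (.cons 1 (nat_lit 0x1040009200)
 (.cons 1 (nat_lit 0x2080412410)
 (.cons 1 (nat_lit 0x201048009240)
 (.cons 3 (nat_lit 0x80102000184)
 (.cons 6 (nat_lit 0x800803400c)
 (.cons 12 (nat_lit 0x4000860)
 (.cons 24 (nat_lit 0xa4708)
 .nil)))))))))))
noncomputable def a54 : Net := (.cons 24 (nat_lit 0xb2dca7)
 (.cons 12 (nat_lit 0x6b9000134)
 (.cons 6 (nat_lit 0x2c00002303d)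
 (.cons 3 (nat_lit 0x1030470820c2)
 (.cons 1 (nat_lit 0x201200000000)
 (.cons 1 (nat_lit 0x402412080480)
 (.cons 1 (nat_lit 0x1208001040)
 (.cons 3 (nat_lit 0x4102100080)
 (.cons 6 (nat_lit 0xa02c02203c)
 (.cons 12 (nat_lit 0xc8e0001a8)
 (.cons 24 (nat_lit 0xb0b898)
 .nil)))))))))))
noncomputable def a55 : Net := (.cons 24 (nat_lit 0x8bc1bc)
 (.cons 12 (nat_lit 0xf1e000649)
 (.cons 6 (nat_lit 0x3202001d012)
 (.cons 3 (nat_lit 0x100100083087)
 (.cons 1 (nat_lit 0x201008000008)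
 (.cons 1 (nat_lit 0x412090090012)
 (.cons 1 (nat_lit 0x8040041000)
 (.cons 3 (nat_lit 0x104080004)
 (.cons 6 (nat_lit 0x2022014030)
 (.cons 12 (nat_lit 0xf1e000262)
 (.cons 24 (nat_lit 0x8a3380)
 .nil)))))))))))
noncomputable def a56 : Net := (.cons 24 (nat_lit 0xb3611e)
 (.cons 12 (nat_lit 0x954000c6a)
 (.cons 6 (nat_lit 0xf03e00402a)
 (.cons 3 (nat_lit 0xc0102086140)
 (.cons 1 (nat_lit 0x40000041040)
 (.cons 1 (nat_lit 0x90082082482)
 (.cons 1 (nat_lit 0x240201000048)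
 (.cons 3 (nat_lit 0x84002004102)
 (.cons 6 (nat_lit 0x2006024026)
 (.cons 12 (nat_lit 0xa50000810)
 (.cons 24 (nat_lit 0xb35940)
 .nil)))))))))))
noncomputable def a57 : Net := (.cons 24 (nat_lit 0xcfb1a0)
 (.cons 12 (nat_lit 0xe5c000cd2)
 (.cons 6 (nat_lit 0x13002039004)
 (.cons 3 (nat_lit 0x1c2105180006)
 (.cons 1 (nat_lit 0x1040208008)
 (.cons 1 (nat_lit 0x92492492010)
 (.cons 1 (nat_lit 0x41000248008)
 (.cons 3 (nat_lit 0x100100000000)
 (.cons 6 (nat_lit 0x20004002000)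
 (.cons 12 (nat_lit 0xa56000dd4)
 (.cons 24 (nat_lit 0xcf2474)
 .nil)))))))))))
noncomputable def a58 : Net := (.cons 24 (nat_lit 0x9da8f4)
 (.cons 12 (nat_lit 0xd30000024)
 (.cons 6 (nat_lit 0x3100c01001c)
 (.cons 3 (nat_lit 0x3105001184)
 (.cons 1 (nat_lit 0x8001000040)
 (.cons 1 (nat_lit 0x90012002080)
 (.cons 1 (nat_lit 0x40001009048)
 (.cons 3 (nat_lit 0x100006000100)
 (.cons 6 (nat_lit 0x2200a010014)
 (.cons 12 (nat_lit 0x4a8000004)
 (.cons 24 (nat_lit 0x9d1824)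
 .nil)))))))))))
noncomputable def a59 : Net := (.cons 24 (nat_lit 0x2202f0)
 (.cons 12 (nat_lit 0xd94000a52)
 (.cons 6 (nat_lit 0x38008006010)
 (.cons 3 (nat_lit 0x1820401c0186)
 (.cons 1 (nat_lit 0x200000240040)
 (.cons 1 (nat_lit 0x482010492082)
 (.cons 1 (nat_lit 0x200008209048)
 (.cons 3 (nat_lit 0x4080004)
 (.cons 6 (nat_lit 0xe012)
 (.cons 12 (nat_lit 0xfa8000a6a)
 (.cons 24 (nat_lit 0x2046f0)
 .nil)))))))))))
noncomputable def a60 : Net := (.cons 24 (nat_lit 0xcab56c)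
 (.cons 12 (nat_lit 0x97d000a4c)
 (.cons 6 (nat_lit 0x2100802003c)
 (.cons 3 (nat_lit 0x81087102040)
 (.cons 1 (nat_lit 0x40000208040)
 (.cons 1 (nat_lit 0x90412412480)
 (.cons 1 (nat_lit 0x9208208040)
 (.cons 3 (nat_lit 0x84002100000)
 (.cons 6 (nat_lit 0x3601a02c024)
 (.cons 12 (nat_lit 0x9f0000840)
 (.cons 24 (nat_lit 0xcb3428)
 .nil)))))))))))
noncomputable def a61 : Net := (.cons 24 (nat_lit 0x64ec90)
 (.cons 12 (nat_lit 0x840000074)
 (.cons 6 (nat_lit 0x2401803e02c)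
 (.cons 3 (nat_lit 0x420401c0104)
 (.cons 1 (nat_lit 0x48008001208)
 (.cons 1 (nat_lit 0x90090082490)
 (.cons 1 (nat_lit 0x249200041200)
 (.cons 3 (nat_lit 0x100080100084)
 (.cons 6 (nat_lit 0x1c01001a034)
 (.cons 12 (nat_lit 0x820000044)
 (.cons 24 (nat_lit 0x650738)
 .nil)))))))))))
noncomputable def a62 : Net := (.cons 24 (nat_lit 0x40c1b8)
 (.cons 12 (nat_lit 0xce40000e6)
 (.cons 6 (nat_lit 0x901c029026)
 (.cons 3 (nat_lit 0xc0104100144)
 (.cons 1 (nat_lit 0x1208001048)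
 (.cons 1 (nat_lit 0x412410082492)
 (.cons 1 (nat_lit 0x201000049200)
 (.cons 3 (nat_lit 0x4100104080)
 (.cons 6 (nat_lit 0x38000020000)
 (.cons 12 (nat_lit 0x8e4000802)
 (.cons 24 (nat_lit 0x408700)
 .nil)))))))))))
noncomputable def a63 : Net := (.cons 24 (nat_lit 0x868f38)
 (.cons 12 (nat_lit 0xd8e000922)
 (.cons 6 (nat_lit 0x9020034018)
 (.cons 3 (nat_lit 0x2102183082)
 (.cons 1 (nat_lit 0x1040001008)
 (.cons 1 (nat_lit 0x412090482092)
 (.cons 1 (nat_lit 0x241040200048)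
 (.cons 3 (nat_lit 0x106104006004)
 (.cons 6 (nat_lit 0xe00002c008)
 (.cons 12 (nat_lit 0x5a80008be)
 (.cons 24 (nat_lit 0x84c6c0)
 .nil)))))))))))
noncomputable def a64 : Net := (.cons 24 (nat_lit 0x6121c0)
 (.cons 12 (nat_lit 0x84c000c88)
 (.cons 6 (nat_lit 0x28030024024)
 (.cons 3 (nat_lit 0x83100182180)
 (.cons 1 (nat_lit 0x8000009048)
 (.cons 1 (nat_lit 0x12000012490)
 (.cons 1 (nat_lit 0x41000049048)
 (.cons 3 (nat_lit 0x84000080180)
 (.cons 6 (nat_lit 0x28020024024)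
 (.cons 12 (nat_lit 0x844000480)
 (.cons 24 (nat_lit 0x612140)
 .nil)))))))))))
noncomputable def a65 : Net := (.cons 24 (nat_lit 0x80c440)
 (.cons 12 (nat_lit 0x4b8000864)
 (.cons 6 (nat_lit 0x10000017028)
 (.cons 3 (nat_lit 0x1041040c51c0)
 (.cons 1 (nat_lit 0x40001000)
 (.cons 1 (nat_lit 0x80090402000)
 (.cons 1 (nat_lit 0x1040200240)
 (.cons 3 (nat_lit 0x100104084000)
 (.cons 6 (nat_lit 0x28028)
 (.cons 12 (nat_lit 0x4b0000864)
 (.cons 24 (nat_lit 0x80c440)
 .nil)))))))))))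
noncomputable def a66 : Net := (.cons 24 (nat_lit 0x244e18)
 (.cons 12 (nat_lit 0x404000d98)
 (.cons 6 (nat_lit 0x8000030014)
 (.cons 3 (nat_lit 0x86146106102)
 (.cons 1 (nat_lit 0x240001008)
 (.cons 1 (nat_lit 0x10480002412)
 (.cons 1 (nat_lit 0x41240009048)
 (.cons 3 (nat_lit 0x86000006102)
 (.cons 6 (nat_lit 0x20000)
 (.cons 12 (nat_lit 0x404000d98)
 (.cons 24 (nat_lit 0x244e18)
 .nil)))))))))))
noncomputable def a67 : Net := (.cons 24 (nat_lit 0x8b0000)
 (.cons 12 (nat_lit 0xc70000864)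
 (.cons 6 (nat_lit 0x3000400a00c)
 (.cons 3 (nat_lit 0x1001450c0)
 (.cons 1 (nat_lit 0x8000200000)
 (.cons 1 (nat_lit 0x10082480000)
 (.cons 1 (nat_lit 0x48008040248)
 (.cons 3 (nat_lit 0x100080000)
 (.cons 6 (nat_lit 0x2000400a008)
 (.cons 12 (nat_lit 0xc50000864)
 (.cons 24 (nat_lit 0x8b0000)
 .nil)))))))))))
noncomputable def a68 : Net := (.cons 24 (nat_lit 0x244e18)
 (.cons 12 (nat_lit 0x404000d98)
 (.cons 6 (nat_lit 0x8000030014)
 (.cons 3 (nat_lit 0x86146106102)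
 (.cons 1 (nat_lit 0x240001008)
 (.cons 1 (nat_lit 0x10480002412)
 (.cons 1 (nat_lit 0x41240009048)
 (.cons 3 (nat_lit 0x86000006102)
 (.cons 6 (nat_lit 0x20000)
 (.cons 12 (nat_lit 0x404000d98)
 (.cons 24 (nat_lit 0x244e18)
 .nil)))))))))))
noncomputable def a69 : Net := (.cons 24 (nat_lit 0xa4708)
 (.cons 12 (nat_lit 0x24000860)
 (.cons 6 (nat_lit 0x801c03400c)
 (.cons 3 (nat_lit 0x82102047184)
 (.cons 1 (nat_lit 0x1040009200)
 (.cons 1 (nat_lit 0x2080412410)
 (.cons 1 (nat_lit 0x201048009240)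
 (.cons 3 (nat_lit 0x80102000184)
 (.cons 6 (nat_lit 0x800803400c)
 (.cons 12 (nat_lit 0x4000860)
 (.cons 24 (nat_lit 0xa4708)
 .nil)))))))))))
noncomputable def a70 : Net := (.cons 24 (nat_lit 0x1bb094)
 (.cons 12 (nat_lit 0x96e000534)
 (.cons 6 (nat_lit 0x3c01403803e)
 (.cons 3 (nat_lit 0x1440050c1140)
 (.cons 1 (nat_lit 0x201000201000)
 (.cons 1 (nat_lit 0x482082402080)
 (.cons 1 (nat_lit 0x201008248048)
 (.cons 3 (nat_lit 0x84000180080)
 (.cons 6 (nat_lit 0x1a00800002e)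
 (.cons 12 (nat_lit 0x8d0000128)
 (.cons 24 (nat_lit 0x19fee4)
 .nil)))))))))))
noncomputable def a71 : Net := (.cons 24 (nat_lit 0xe24a4)
 (.cons 12 (nat_lit 0x860000054)
 (.cons 6 (nat_lit 0x803e003008)
 (.cons 3 (nat_lit 0x1441071c1004)
 (.cons 1 (nat_lit 0x1240201200)
 (.cons 1 (nat_lit 0x82490402490)
 (.cons 1 (nat_lit 0x40200241008)
 (.cons 3 (nat_lit 0x102004104104)
 (.cons 6 (nat_lit 0x8038032020)
 (.cons 12 (nat_lit 0x844000c40)
 (.cons 24 (nat_lit 0xd5430)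
 .nil)))))))))))
noncomputable def a72 : Net := (.cons 24 (nat_lit 0x84c5c0)
 (.cons 12 (nat_lit 0x841000864)
 (.cons 6 (nat_lit 0x8019035034)
 (.cons 3 (nat_lit 0x40083007180)
 (.cons 1 (nat_lit 0x201000240200)
 (.cons 1 (nat_lit 0x402490490480)
 (.cons 1 (nat_lit 0x200040208200)
 (.cons 3 (nat_lit 0x2080084180)
 (.cons 6 (nat_lit 0x8018000020)
 (.cons 12 (nat_lit 0x850000864)
 (.cons 24 (nat_lit 0x848640)
 .nil)))))))))))
noncomputable def a73 : Net := (.cons 24 (nat_lit 0x48838)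
 (.cons 12 (nat_lit 0x864000944)
 (.cons 6 (nat_lit 0x1f03e034)
 (.cons 3 (nat_lit 0x100047043186)
 (.cons 1 (nat_lit 0x40001000008)
 (.cons 1 (nat_lit 0x82012010012)
 (.cons 1 (nat_lit 0x41041201208)
 (.cons 3 (nat_lit 0x100004002006)
 (.cons 6 (nat_lit 0x20006038020)
 (.cons 12 (nat_lit 0x864000840)
 (.cons 24 (nat_lit 0x48ca8)
 .nil)))))))))))
noncomputable def a74 : Net := (.cons 24 (nat_lit 0x4334f4)
 (.cons 12 (nat_lit 0x68000a34)
 (.cons 6 (nat_lit 0x1002c03a000)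
 (.cons 3 (nat_lit 0x851861c0100)
 (.cons 1 (nat_lit 0x208208040)
 (.cons 1 (nat_lit 0x490492490)
 (.cons 1 (nat_lit 0x41200208208)
 (.cons 3 (nat_lit 0x80006004084)
 (.cons 6 (nat_lit 0x2803c038)
 (.cons 12 (nat_lit 0x4c0009c0)
 (.cons 24 (nat_lit 0x413374)
 .nil)))))))))))
noncomputable def a75 : Net := (.cons 24 (nat_lit 0x59f630)
 (.cons 12 (nat_lit 0x864000708)
 (.cons 6 (nat_lit 0x15024028034)
 (.cons 3 (nat_lit 0x1841820460c0)
 (.cons 1 (nat_lit 0x40000048048)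
 (.cons 1 (nat_lit 0x90402490490)
 (.cons 1 (nat_lit 0x1000049048)
 (.cons 3 (nat_lit 0x100000000000)
 (.cons 6 (nat_lit 0x16024008034)
 (.cons 12 (nat_lit 0x864000708)
 (.cons 24 (nat_lit 0x5b3230)
 .nil)))))))))))
noncomputable def a76 : Net := (.cons 24 (nat_lit 0x8b0000)
 (.cons 12 (nat_lit 0xc70000864)
 (.cons 6 (nat_lit 0x3000400a00c)
 (.cons 3 (nat_lit 0x1001450c0)
 (.cons 1 (nat_lit 0x8000200000)
 (.cons 1 (nat_lit 0x10082480000)
 (.cons 1 (nat_lit 0x48008040248)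
 (.cons 3 (nat_lit 0x100080000)
 (.cons 6 (nat_lit 0x2000400a008)
 (.cons 12 (nat_lit 0xc50000864)
 (.cons 24 (nat_lit 0x8b0000)
 .nil)))))))))))
noncomputable def a77 : Net := (.cons 24 (nat_lit 0x84c0)
 (.cons 12 (nat_lit 0x804000738)
 (.cons 6 (nat_lit 0x2001c00a028)
 (.cons 3 (nat_lit 0x3040084006)
 (.cons 1 (nat_lit 0x1000201048)
 (.cons 1 (nat_lit 0x12002402092)
 (.cons 1 (nat_lit 0x8000249248)
 (.cons 3 (nat_lit 0x4000084006)
 (.cons 6 (nat_lit 0x2000c008028)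
 (.cons 12 (nat_lit 0x804000738)
 (.cons 24 (nat_lit 0x8440)
 .nil)))))))))))
noncomputable def a78 : Net := (.cons 24 (nat_lit 0xa4a990)
 (.cons 12 (nat_lit 0xc00000b24)
 (.cons 6 (nat_lit 0x2800c034018)
 (.cons 3 (nat_lit 0x84146086084)
 (.cons 1 (nat_lit 0x208040)
 (.cons 1 (nat_lit 0x2080410080)
 (.cons 1 (nat_lit 0x40000209240)
 (.cons 3 (nat_lit 0x84100102080)
 (.cons 6 (nat_lit 0x2000c018008)
 (.cons 12 (nat_lit 0xc00000b24)
 (.cons 24 (nat_lit 0xa4a990)
 .nil)))))))))))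
noncomputable def a79 : Net := (.cons 24 (nat_lit 0x549c64)
 (.cons 12 (nat_lit 0x464000164)
 (.cons 6 (nat_lit 0x21014029010)
 (.cons 3 (nat_lit 0x1050801c0004)
 (.cons 1 (nat_lit 0x10002002000)
 (.cons 1 (nat_lit 0x1048208200)
 (.cons 3 (nat_lit 0x6080082000)
 (.cons 6 (nat_lit 0x20014022010)
 (.cons 12 (nat_lit 0x464000164)
 (.cons 24 (nat_lit 0x552020)
 .nil))))))))))
noncomputable def a80 : Net := (.cons 24 (nat_lit 0x244e18)
 (.cons 12 (nat_lit 0x404000d98)
 (.cons 6 (nat_lit 0x8000030014)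
 (.cons 3 (nat_lit 0x86146106102)
 (.cons 1 (nat_lit 0x240001008)
 (.cons 1 (nat_lit 0x10480002412)
 (.cons 1 (nat_lit 0x41240009048)
 (.cons 3 (nat_lit 0x86000006102)
 (.cons 6 (nat_lit 0x20000)
 (.cons 12 (nat_lit 0x404000d98)
 (.cons 24 (nat_lit 0x244e18)
 .nil)))))))))))
noncomputable def a81 : Net := (.cons 24 (nat_lit 0x508100)
 (.cons 12 (nat_lit 0x495000500)
 (.cons 6 (nat_lit 0x2802f008)
 (.cons 3 (nat_lit 0x4144106141)
 (.cons 1 (nat_lit 0x240200001)
 (.cons 1 (nat_lit 0x82482492092)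
 (.cons 1 (nat_lit 0x8248008008)
 (.cons 3 (nat_lit 0x4004100106)
 (.cons 6 (nat_lit 0x28010008)
 (.cons 12 (nat_lit 0x90000500)
 (.cons 24 (nat_lit 0x508100)
 .nil)))))))))))
noncomputable def a82 : Net := (.cons 24 (nat_lit 0x5dbd44)
 (.cons 12 (nat_lit 0xf52000866)
 (.cons 6 (nat_lit 0x1f01d000020)
 (.cons 3 (nat_lit 0x1000040184)
 (.cons 1 (nat_lit 0x248000008000)
 (.cons 1 (nat_lit 0x490002012090)
 (.cons 1 (nat_lit 0x249241008200)
 (.cons 3 (nat_lit 0x6006002000)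
 (.cons 6 (nat_lit 0x200c000014)
 (.cons 12 (nat_lit 0xeea000864)
 (.cons 24 (nat_lit 0x5dbc94)
 .nil)))))))))))
noncomputable def a83 : Net := (.cons 24 (nat_lit 0x585b3b)
 (.cons 12 (nat_lit 0xa6f0007b9)
 (.cons 6 (nat_lit 0x2a00a02501a)
 (.cons 3 (nat_lit 0xc60041861c0)
 (.cons 1 (nat_lit 0x8000209008)
 (.cons 1 (nat_lit 0x412090412090)
 (.cons 1 (nat_lit 0x8201048008)
 (.cons 3 (nat_lit 0x4082100100)
 (.cons 6 (nat_lit 0x3400e01001a)
 (.cons 12 (nat_lit 0xee2000df0)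
 (.cons 24 (nat_lit 0x584634)
 .nil)))))))))))
noncomputable def a84 : Net := (.cons 24 (nat_lit 0x4ba5d4)
 (.cons 12 (nat_lit 0xe0000820)
 (.cons 6 (nat_lit 0xa00a00003e)
 (.cons 3 (nat_lit 0x6100000144)
 (.cons 1 (nat_lit 0x8200)
 (.cons 1 (nat_lit 0x12410010480)
 (.cons 1 (nat_lit 0x240001008048)
 (.cons 3 (nat_lit 0x100000080)
 (.cons 6 (nat_lit 0xa002000026)
 (.cons 12 (nat_lit 0xe0000820)
 (.cons 24 (nat_lit 0x4ba5d4)
 .nil)))))))))))
noncomputable def a85 : Net := (.cons 24 (nat_lit 0xa06618)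
 (.cons 12 (nat_lit 0xe640001da)
 (.cons 6 (nat_lit 0x3200a015004)
 (.cons 3 (nat_lit 0x44081081080)
 (.cons 1 (nat_lit 0x40200)
 (.cons 1 (nat_lit 0x10402090402)
 (.cons 1 (nat_lit 0x40208040040)
 (.cons 3 (nat_lit 0x80082000100)
 (.cons 6 (nat_lit 0x202001401a)
 (.cons 12 (nat_lit 0x4660005d8)
 (.cons 24 (nat_lit 0xa26e1e)
 .nil)))))))))))
noncomputable def a86 : Net := (.cons 24 (nat_lit 0x90a65e)
 (.cons 12 (nat_lit 0xbde0008e8)
 (.cons 6 (nat_lit 0x2802e021002)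
 (.cons 3 (nat_lit 0x1c41000c4086)
 (.cons 1 (nat_lit 0x48001000048)
 (.cons 1 (nat_lit 0x490092000092)
 (.cons 1 (nat_lit 0x48201000240)
 (.cons 3 (nat_lit 0x184104000084)
 (.cons 6 (nat_lit 0x3a018002)
 (.cons 12 (nat_lit 0x3f000087a)
 (.cons 24 (nat_lit 0x914968)
 .nil)))))))))))
noncomputable def a87 : Net := (.cons 24 (nat_lit 0xa4a990)
 (.cons 12 (nat_lit 0xc00000b24)
 (.cons 6 (nat_lit 0x2800c034018)
 (.cons 3 (nat_lit 0x84146086084)
 (.cons 1 (nat_lit 0x208040)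
 (.cons 1 (nat_lit 0x2080410080)
 (.cons 1 (nat_lit 0x40000209240)
 (.cons 3 (nat_lit 0x84100102080)
 (.cons 6 (nat_lit 0x2000c018008)
 (.cons 12 (nat_lit 0xc00000b24)
 (.cons 24 (nat_lit 0xa4a990)
 .nil)))))))))))
noncomputable def a88 : Net := (.cons 24 (nat_lit 0x8e3b16)
 (.cons 12 (nat_lit 0xedd000830)
 (.cons 6 (nat_lit 0x28033028028)
 (.cons 3 (nat_lit 0x1c10810841c2)
 (.cons 1 (nat_lit 0x40001200000)
 (.cons 1 (nat_lit 0x90402480482)
 (.cons 1 (nat_lit 0x9000208040)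
 (.cons 3 (nat_lit 0x104104182000)
 (.cons 6 (nat_lit 0x22016008020)
 (.cons 12 (nat_lit 0xe82000a04)
 (.cons 24 (nat_lit 0x8dd0e8)
 .nil)))))))))))
noncomputable def a89 : Net := (.cons 24 (nat_lit 0x8d0190)
 (.cons 12 (nat_lit 0x9900008c4)
 (.cons 6 (nat_lit 0x10038022014)
 (.cons 3 (nat_lit 0x184003045104)
 (.cons 1 (nat_lit 0x200008)
 (.cons 1 (nat_lit 0x400000482410)
 (.cons 1 (nat_lit 0x40240040200)
 (.cons 3 (nat_lit 0x180000184104)
 (.cons 6 (nat_lit 0x10018000008)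
 (.cons 12 (nat_lit 0x9900008c4)
 (.cons 24 (nat_lit 0x8d0190)
 .nil)))))))))))
noncomputable def a90 : Net := (.cons 24 (nat_lit 0x8005a2)
 (.cons 12 (nat_lit 0xa04000892)
 (.cons 6 (nat_lit 0x2003800800a)
 (.cons 3 (nat_lit 0xc0101002)
 (.cons 1 (nat_lit 0x200001000008)
 (.cons 1 (nat_lit 0x400012012010)
 (.cons 1 (nat_lit 0x200001240248)
 (.cons 6 (nat_lit 0x2003800800a)
 (.cons 12 (nat_lit 0xa04000892)
 (.cons 24 (nat_lit 0x8004a2)
 .nil))))))))))
noncomputable def a91 : Net := (.cons 24 (nat_lit 0x79b842)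
 (.cons 12 (nat_lit 0xc0100032c)
 (.cons 6 (nat_lit 0x34029028032)
 (.cons 3 (nat_lit 0x184081046000)
 (.cons 1 (nat_lit 0x201040040008)
 (.cons 1 (nat_lit 0x412480080412)
 (.cons 1 (nat_lit 0x208000040008)
 (.cons 3 (nat_lit 0x6000000006)
 (.cons 6 (nat_lit 0x14028000000)
 (.cons 12 (nat_lit 0xb00000b28)
 (.cons 24 (nat_lit 0x79b852)
 .nil)))))))))))
noncomputable def a92 : Net := (.cons 24 (nat_lit 0x460b80)
 (.cons 12 (nat_lit 0x624000210)
 (.cons 6 (nat_lit 0x20008008022)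
 (.cons 3 (nat_lit 0x82042104046)
 (.cons 1 (nat_lit 0x200001200000)
 (.cons 1 (nat_lit 0x400412410000)
 (.cons 1 (nat_lit 0x240001201008)
 (.cons 3 (nat_lit 0x80002104002)
 (.cons 6 (nat_lit 0x20008008022)
 (.cons 12 (nat_lit 0x624000210)
 (.cons 24 (nat_lit 0x460a80)
 .nil)))))))))))
noncomputable def a93 : Net := (.cons 24 (nat_lit 0x7f5d60)
 (.cons 12 (nat_lit 0x8e8000044)
 (.cons 6 (nat_lit 0x3c01801a030)
 (.cons 3 (nat_lit 0x431010c4004)
 (.cons 1 (nat_lit 0x9008000208)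
 (.cons 1 (nat_lit 0x92410000490)
 (.cons 1 (nat_lit 0x249040200008)
 (.cons 3 (nat_lit 0x100000000)
 (.cons 6 (nat_lit 0x2c01a03a008)
 (.cons 12 (nat_lit 0x828000860)
 (.cons 24 (nat_lit 0x7c7a20)
 .nil)))))))))))
noncomputable def a94 : Net := (.cons 24 (nat_lit 0x1fdf80)
 (.cons 12 (nat_lit 0x8f0000048)
 (.cons 6 (nat_lit 0x1003a022030)
 (.cons 3 (nat_lit 0x1851c2000104)
 (.cons 1 (nat_lit 0x8008)
 (.cons 1 (nat_lit 0x10410)
 (.cons 1 (nat_lit 0x40248248008)
 (.cons 3 (nat_lit 0x80002000104)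
 (.cons 6 (nat_lit 0x10030022010)
 (.cons 12 (nat_lit 0x8a0000048)
 (.cons 24 (nat_lit 0x1fdb00)
 .nil)))))))))))
noncomputable def a95 : Net := (.cons 24 (nat_lit 0x8d38)
 (.cons 12 (nat_lit 0xdc)
 (.cons 6 (nat_lit 0x1902e002)
 (.cons 3 (nat_lit 0x41c3140002)
 (.cons 1 (nat_lit 0x40200048)
 (.cons 1 (nat_lit 0x480482090)
 (.cons 1 (nat_lit 0x40200248)
 (.cons 3 (nat_lit 0x180004004)
 (.cons 6 (nat_lit 0x30008022)
 (.cons 12 (nat_lit 0x8d0)
 (.cons 24 (nat_lit 0x8540)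
 .nil)))))))))))
noncomputable def a96 : Net := (.cons 24 (nat_lit 0x90590)
 (.cons 12 (nat_lit 0xec4000864)
 (.cons 6 (nat_lit 0x3a00200201e)
 (.cons 3 (nat_lit 0x82003084102)
 (.cons 1 (nat_lit 0x208008040048)
 (.cons 1 (nat_lit 0x410092480090)
 (.cons 1 (nat_lit 0x248001040248)
 (.cons 3 (nat_lit 0x80004080100)
 (.cons 6 (nat_lit 0x1200200201a)
 (.cons 12 (nat_lit 0xec4000864)
 (.cons 24 (nat_lit 0x90110)
 .nil)))))))))))
noncomputable def a97 : Net := (.cons 24 (nat_lit 0x10598)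
 (.cons 12 (nat_lit 0x66000020c)
 (.cons 6 (nat_lit 0x1801003c018)
 (.cons 3 (nat_lit 0x86186183104)
 (.cons 1 (nat_lit 0x8001041040)
 (.cons 1 (nat_lit 0x12402092490)
 (.cons 1 (nat_lit 0x48009248040)
 (.cons 3 (nat_lit 0x86106184184)
 (.cons 6 (nat_lit 0x1801003c010)
 (.cons 12 (nat_lit 0x66000020c)
 (.cons 24 (nat_lit 0x10408)
 .nil)))))))))))
noncomputable def a98 : Net := (.cons 24 (nat_lit 0x8d0190)
 (.cons 12 (nat_lit 0x9900008c4)
 (.cons 6 (nat_lit 0x10038022014)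
 (.cons 3 (nat_lit 0x184003045104)
 (.cons 1 (nat_lit 0x200008)
 (.cons 1 (nat_lit 0x400000482410)
 (.cons 1 (nat_lit 0x40240040200)
 (.cons 3 (nat_lit 0x180000184104)
 (.cons 6 (nat_lit 0x10018000008)
 (.cons 12 (nat_lit 0x9900008c4)
 (.cons 24 (nat_lit 0x8d0190)
 .nil)))))))))))
noncomputable def a99 : Net := (.cons 24 (nat_lit 0x8005a2)
 (.cons 12 (nat_lit 0xa04000892)
 (.cons 6 (nat_lit 0x2003800800a)
 (.cons 3 (nat_lit 0xc0101002)
 (.cons 1 (nat_lit 0x200001000008)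
 (.cons 1 (nat_lit 0x400012012010)
 (.cons 1 (nat_lit 0x200001240248)
 (.cons 6 (nat_lit 0x2003800800a)
 (.cons 12 (nat_lit 0xa04000892)
 (.cons 24 (nat_lit 0x8004a2)
 .nil))))))))))
noncomputable def a100 : Net := (.cons 24 (nat_lit 0xa705f8)
 (.cons 12 (nat_lit 0xea4000a4c)
 (.cons 6 (nat_lit 0x30001003030)
 (.cons 3 (nat_lit 0x84103043184)
 (.cons 1 (nat_lit 0x200240041008)
 (.cons 1 (nat_lit 0x412492492010)
 (.cons 1 (nat_lit 0x241241048000)
 (.cons 3 (nat_lit 0x2002006004)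
 (.cons 6 (nat_lit 0x2800403c020)
 (.cons 12 (nat_lit 0x4c4000a60)
 (.cons 24 (nat_lit 0xa49340)
 .nil)))))))))))
noncomputable def a101 : Net := (.cons 24 (nat_lit 0x84c0)
 (.cons 12 (nat_lit 0x804000738)
 (.cons 6 (nat_lit 0x2001c00a028)
 (.cons 3 (nat_lit 0x3040084006)
 (.cons 1 (nat_lit 0x1000201048)
 (.cons 1 (nat_lit 0x12002402092)
 (.cons 1 (nat_lit 0x8000249248)
 (.cons 3 (nat_lit 0x4000084006)
 (.cons 6 (nat_lit 0x2000c008028)
 (.cons 12 (nat_lit 0x804000738)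
 (.cons 24 (nat_lit 0x8440)
 .nil)))))))))))
noncomputable def a102 : Net := (.cons 24 (nat_lit 0xcd8990)
 (.cons 12 (nat_lit 0x8e40000a8)
 (.cons 6 (nat_lit 0x3001b02c028)
 (.cons 3 (nat_lit 0x80147001084)
 (.cons 1 (nat_lit 0x200200)
 (.cons 1 (nat_lit 0x400000480480)
 (.cons 1 (nat_lit 0x48048200208)
 (.cons 3 (nat_lit 0x80002000080)
 (.cons 6 (nat_lit 0x3000002c028)
 (.cons 12 (nat_lit 0x8e4000080)
 (.cons 24 (nat_lit 0xcd8990)
 .nil)))))))))))
noncomputable def a103 : Net := (.cons 24 (nat_lit 0xa4a990)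
 (.cons 12 (nat_lit 0xc00000b24)
 (.cons 6 (nat_lit 0x2800c034018)
 (.cons 3 (nat_lit 0x84146086084)
 (.cons 1 (nat_lit 0x208040)
 (.cons 1 (nat_lit 0x2080410080)
 (.cons 1 (nat_lit 0x40000209240)
 (.cons 3 (nat_lit 0x84100102080)
 (.cons 6 (nat_lit 0x2000c018008)
 (.cons 12 (nat_lit 0xc00000b24)
 (.cons 24 (nat_lit 0xa4a990)
 .nil)))))))))))
noncomputable def a104 : Net := (.cons 24 (nat_lit 0x549c64)
 (.cons 12 (nat_lit 0x464000164)
 (.cons 6 (nat_lit 0x21014029010)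
 (.cons 3 (nat_lit 0x1050801c0004)
 (.cons 1 (nat_lit 0x10002002000)
 (.cons 1 (nat_lit 0x1048208200)
 (.cons 3 (nat_lit 0x6080082000)
 (.cons 6 (nat_lit 0x20014022010)
 (.cons 12 (nat_lit 0x464000164)
 (.cons 24 (nat_lit 0x552020)
 .nil))))))))))
noncomputable def a105 : Net := (.cons 24 (nat_lit 0xa4708)
 (.cons 12 (nat_lit 0x24000860)
 (.cons 6 (nat_lit 0x801c03400c)
 (.cons 3 (nat_lit 0x82102047184)
 (.cons 1 (nat_lit 0x1040009200)
 (.cons 1 (nat_lit 0x2080412410)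
 (.cons 1 (nat_lit 0x201048009240)
 (.cons 3 (nat_lit 0x80102000184)
 (.cons 6 (nat_lit 0x800803400c)
 (.cons 12 (nat_lit 0x4000860)
 (.cons 24 (nat_lit 0xa4708)
 .nil)))))))))))
noncomputable def a106 : Net := (.cons 24 (nat_lit 0xf22d4c)
 (.cons 12 (nat_lit 0xcec000864)
 (.cons 6 (nat_lit 0x24028033034)
 (.cons 3 (nat_lit 0xc60071811c4)
 (.cons 1 (nat_lit 0x49000008000)
 (.cons 1 (nat_lit 0x492400092410)
 (.cons 1 (nat_lit 0x49200009040)
 (.cons 3 (nat_lit 0x180100100084)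
 (.cons 6 (nat_lit 0x10018010024)
 (.cons 12 (nat_lit 0x9f400086c)
 (.cons 24 (nat_lit 0xf1d998)
 .nil)))))))))))
noncomputable def a107 : Net := (.cons 24 (nat_lit 0x41918)
 (.cons 12 (nat_lit 0xd240009a4)
 (.cons 6 (nat_lit 0x21006002030)
 (.cons 3 (nat_lit 0x21040030c2)
 (.cons 1 (nat_lit 0x41201001008)
 (.cons 1 (nat_lit 0x492402412492)
 (.cons 1 (nat_lit 0x40209009048)
 (.cons 3 (nat_lit 0x104106104006)
 (.cons 6 (nat_lit 0x400c01c)
 (.cons 12 (nat_lit 0xd24000124)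
 (.cons 24 (nat_lit 0x58158)
 .nil)))))))))))
noncomputable def a108 : Net := (.cons 24 (nat_lit 0xa4a990)
 (.cons 12 (nat_lit 0xc00000b24)
 (.cons 6 (nat_lit 0x2800c034018)
 (.cons 3 (nat_lit 0x84146086084)
 (.cons 1 (nat_lit 0x208040)
 (.cons 1 (nat_lit 0x2080410080)
 (.cons 1 (nat_lit 0x40000209240)
 (.cons 3 (nat_lit 0x84100102080)
 (.cons 6 (nat_lit 0x2000c018008)
 (.cons 12 (nat_lit 0xc00000b24)
 (.cons 24 (nat_lit 0xa4a990)
 .nil)))))))))))
noncomputable def a109 : Net := (.cons 24 (nat_lit 0x1fdf80)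
 (.cons 12 (nat_lit 0x8f0000048)
 (.cons 6 (nat_lit 0x1003a022030)
 (.cons 3 (nat_lit 0x1851c2000104)
 (.cons 1 (nat_lit 0x8008)
 (.cons 1 (nat_lit 0x10410)
 (.cons 1 (nat_lit 0x40248248008)
 (.cons 3 (nat_lit 0x80002000104)
 (.cons 6 (nat_lit 0x10030022010)
 (.cons 12 (nat_lit 0x8a0000048)
 (.cons 24 (nat_lit 0x1fdb00)
 .nil)))))))))))
noncomputable def a110 : Net := (.cons 24 (nat_lit 0x8b0000)
 (.cons 12 (nat_lit 0xc70000864)
 (.cons 6 (nat_lit 0x3000400a00c)
 (.cons 3 (nat_lit 0x1001450c0)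
 (.cons 1 (nat_lit 0x8000200000)
 (.cons 1 (nat_lit 0x10082480000)
 (.cons 1 (nat_lit 0x48008040248)
 (.cons 3 (nat_lit 0x100080000)
 (.cons 6 (nat_lit 0x2000400a008)
 (.cons 12 (nat_lit 0xc50000864)
 (.cons 24 (nat_lit 0x8b0000)
 .nil)))))))))))
noncomputable def a111 : Net := (.cons 24 (nat_lit 0x61faa)
 (.cons 12 (nat_lit 0x865000564)
 (.cons 6 (nat_lit 0x28020038010)
 (.cons 3 (nat_lit 0x41c1042186)
 (.cons 1 (nat_lit 0x201001000008)
 (.cons 1 (nat_lit 0x412402400410)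
 (.cons 1 (nat_lit 0x201241008000)
 (.cons 3 (nat_lit 0x6000102102)
 (.cons 6 (nat_lit 0x803001a020)
 (.cons 12 (nat_lit 0x844000454)
 (.cons 24 (nat_lit 0x45642)
 .nil)))))))))))
noncomputable def a112 : Net := (.cons 24 (nat_lit 0x21bd3c)
 (.cons 12 (nat_lit 0x239000ac4)
 (.cons 6 (nat_lit 0x20001014028)
 (.cons 3 (nat_lit 0x10860c6100)
 (.cons 1 (nat_lit 0x200000008200)
 (.cons 1 (nat_lit 0x400402090410)
 (.cons 1 (nat_lit 0x201201208040)
 (.cons 3 (nat_lit 0x104000100)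
 (.cons 6 (nat_lit 0x28030026028)
 (.cons 12 (nat_lit 0x212000b24)
 (.cons 24 (nat_lit 0x213804)
 .nil)))))))))))
noncomputable def a113 : Net := (.cons 24 (nat_lit 0xfaaa14)
 (.cons 12 (nat_lit 0x1e8000216)
 (.cons 6 (nat_lit 0x2c01e038018)
 (.cons 3 (nat_lit 0x440001c00c4)
 (.cons 1 (nat_lit 0x40000040240)
 (.cons 1 (nat_lit 0x82402082490)
 (.cons 1 (nat_lit 0x240209000200)
 (.cons 3 (nat_lit 0x180000180004)
 (.cons 6 (nat_lit 0x200603003c)
 (.cons 12 (nat_lit 0xdc000022c)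
 (.cons 24 (nat_lit 0xfaac8c)
 .nil)))))))))))
noncomputable def a114 : Net := (.cons 24 (nat_lit 0x71f1d0)
 (.cons 12 (nat_lit 0xa1900005a)
 (.cons 6 (nat_lit 0x2601402c020)
 (.cons 3 (nat_lit 0x800840400c2)
 (.cons 1 (nat_lit 0x1008040008)
 (.cons 1 (nat_lit 0x92010090090)
 (.cons 1 (nat_lit 0x209040040248)
 (.cons 3 (nat_lit 0x80080000000)
 (.cons 6 (nat_lit 0x600400c000)
 (.cons 12 (nat_lit 0xc20000058)
 (.cons 24 (nat_lit 0x713918)
 .nil)))))))))))
noncomputable def a115 : Net := (.cons 24 (nat_lit 0x434248)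
 (.cons 12 (nat_lit 0x44a00061c)
 (.cons 6 (nat_lit 0x1003000a000)
 (.cons 3 (nat_lit 0x82086184186)
 (.cons 1 (nat_lit 0x200201048)
 (.cons 1 (nat_lit 0x2490482490)
 (.cons 1 (nat_lit 0x48201201048)
 (.cons 3 (nat_lit 0x82086184184)
 (.cons 6 (nat_lit 0x10030008000)
 (.cons 12 (nat_lit 0x44a00041c)
 (.cons 24 (nat_lit 0x434248)
 .nil)))))))))))
noncomputable def a116 : Net := (.cons 24 (nat_lit 0xa79bc0)
 (.cons 12 (nat_lit 0x841000030)
 (.cons 6 (nat_lit 0xc00c000022)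
 (.cons 3 (nat_lit 0x144086000144)
 (.cons 1 (nat_lit 0x48008001)
 (.cons 1 (nat_lit 0x2492090402)
 (.cons 1 (nat_lit 0x8048008001)
 (.cons 3 (nat_lit 0x4086000104)
 (.cons 6 (nat_lit 0xc00c000020)
 (.cons 12 (nat_lit 0x840000020)
 (.cons 24 (nat_lit 0xa79bc0)
 .nil)))))))))))
noncomputable def a117 : Net := (.cons 24 (nat_lit 0x10598)
 (.cons 12 (nat_lit 0x66000020c)
 (.cons 6 (nat_lit 0x1801003c018)
 (.cons 3 (nat_lit 0x86186183104)
 (.cons 1 (nat_lit 0x8001041040)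
 (.cons 1 (nat_lit 0x12402092490)
 (.cons 1 (nat_lit 0x48009248040)
 (.cons 3 (nat_lit 0x86106184184)
 (.cons 6 (nat_lit 0x1801003c010)
 (.cons 12 (nat_lit 0x66000020c)
 (.cons 24 (nat_lit 0x10408)
 .nil)))))))))))
noncomputable def a118 : Net := (.cons 24 (nat_lit 0x12576a)
 (.cons 12 (nat_lit 0x97a0008c7)
 (.cons 6 (nat_lit 0x15032033003)
 (.cons 3 (nat_lit 0x1011050070c2)
 (.cons 1 (nat_lit 0x41008008208)
 (.cons 1 (nat_lit 0x482410012492)
 (.cons 1 (nat_lit 0x41208049201)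
 (.cons 3 (nat_lit 0x100084000106)
 (.cons 6 (nat_lit 0x1002600a010)
 (.cons 12 (nat_lit 0x960000810)
 (.cons 24 (nat_lit 0x124538)
 .nil)))))))))))
noncomputable def a119 : Net := (.cons 24 (nat_lit 0x3127bf)
 (.cons 12 (nat_lit 0x6500067a)
 (.cons 6 (nat_lit 0x501800b02f)
 (.cons 3 (nat_lit 0x450070461c4)
 (.cons 1 (nat_lit 0x8001000001)
 (.cons 1 (nat_lit 0x10082410082)
 (.cons 1 (nat_lit 0x9209041001)
 (.cons 3 (nat_lit 0x6082002004)
 (.cons 6 (nat_lit 0x803a03003c)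
 (.cons 12 (nat_lit 0x60000a30)
 (.cons 24 (nat_lit 0x31bee8)
 .nil)))))))))))
noncomputable def a120 : Net := (.cons 24 (nat_lit 0x4679b0)
 (.cons 12 (nat_lit 0xa59000040)
 (.cons 6 (nat_lit 0x1c00400c03e)
 (.cons 3 (nat_lit 0x142082040184)
 (.cons 1 (nat_lit 0x40040009)
 (.cons 1 (nat_lit 0x10080082092)
 (.cons 1 (nat_lit 0x1000008201)
 (.cons 3 (nat_lit 0x2080002080)
 (.cons 6 (nat_lit 0x34004002008)
 (.cons 12 (nat_lit 0xa48000040)
 (.cons 24 (nat_lit 0x4618b0)
 .nil)))))))))))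
noncomputable def a121 : Net := (.cons 24 (nat_lit 0x47fa1c)
 (.cons 12 (nat_lit 0x2790001d6)
 (.cons 6 (nat_lit 0xd00b02002c)
 (.cons 3 (nat_lit 0x1420c6040106)
 (.cons 1 (nat_lit 0x208000200209)
 (.cons 1 (nat_lit 0x410400482412)
 (.cons 1 (nat_lit 0x1200001)
 (.cons 3 (nat_lit 0x100000000102)
 (.cons 6 (nat_lit 0x14028020030)
 (.cons 12 (nat_lit 0x63a0001d2)
 (.cons 24 (nat_lit 0x469512)
 .nil)))))))))))
noncomputable def a122 : Net := (.cons 24 (nat_lit 0x60284)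
 (.cons 12 (nat_lit 0x8000df8)
 (.cons 6 (nat_lit 0x2003103d002)
 (.cons 3 (nat_lit 0x106002186102)
 (.cons 1 (nat_lit 0x48200200008)
 (.cons 1 (nat_lit 0x90400402492)
 (.cons 1 (nat_lit 0x48200208200)
 (.cons 3 (nat_lit 0x104000106084)
 (.cons 6 (nat_lit 0x2003003c00c)
 (.cons 12 (nat_lit 0x80001f8)
 (.cons 24 (nat_lit 0x60284)
 .nil)))))))))))
noncomputable def a123 : Net := (.cons 24 (nat_lit 0x54e290)
 (.cons 12 (nat_lit 0x198000822)
 (.cons 6 (nat_lit 0x1001c032030)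
 (.cons 3 (nat_lit 0x1841400041c0)
 (.cons 1 (nat_lit 0x9000000)
 (.cons 1 (nat_lit 0x402412000490)
 (.cons 1 (nat_lit 0x48009201000)
 (.cons 3 (nat_lit 0x184100000000)
 (.cons 6 (nat_lit 0x1001c032030)
 (.cons 12 (nat_lit 0x198000820)
 (.cons 24 (nat_lit 0x54e290)
 .nil)))))))))))
noncomputable def a124 : Net := (.cons 24 (nat_lit 0xe199d8)
 (.cons 12 (nat_lit 0xa05000198)
 (.cons 6 (nat_lit 0x38038030000)
 (.cons 3 (nat_lit 0x84182002)
 (.cons 1 (nat_lit 0x8040000)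
 (.cons 1 (nat_lit 0x412010080080)
 (.cons 1 (nat_lit 0x8048200)
 (.cons 3 (nat_lit 0x4102000)
 (.cons 6 (nat_lit 0x18030000)
 (.cons 12 (nat_lit 0xa04000198)
 (.cons 24 (nat_lit 0xe19808)
 .nil)))))))))))
noncomputable def a125 : Net := (.cons 24 (nat_lit 0x50c1f6)
 (.cons 12 (nat_lit 0xafc000c66)
 (.cons 6 (nat_lit 0x1c00402103c)
 (.cons 3 (nat_lit 0x841041c0100)
 (.cons 1 (nat_lit 0x48001000040)
 (.cons 1 (nat_lit 0x90412082482)
 (.cons 1 (nat_lit 0x249001208240)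
 (.cons 3 (nat_lit 0x104104186104)
 (.cons 6 (nat_lit 0x20000020036)
 (.cons 12 (nat_lit 0xae0000444)
 (.cons 24 (nat_lit 0x510be2)
 .nil)))))))))))
noncomputable def a126 : Net := (.cons 24 (nat_lit 0xa49740)
 (.cons 12 (nat_lit 0x4c4000574)
 (.cons 6 (nat_lit 0x2803b022000)
 (.cons 3 (nat_lit 0x2141105084)
 (.cons 1 (nat_lit 0x201209040200)
 (.cons 1 (nat_lit 0x412492090490)
 (.cons 1 (nat_lit 0x240009008208)
 (.cons 3 (nat_lit 0x84100084000)
 (.cons 6 (nat_lit 0x3003e02003c)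
 (.cons 12 (nat_lit 0xea40000e0)
 (.cons 24 (nat_lit 0xa70578)
 .nil)))))))))))
noncomputable def a127 : Net := (.cons 24 (nat_lit 0x8b0000)
 (.cons 12 (nat_lit 0xc70000864)
 (.cons 6 (nat_lit 0x3000400a00c)
 (.cons 3 (nat_lit 0x1001450c0)
 (.cons 1 (nat_lit 0x8000200000)
 (.cons 1 (nat_lit 0x10082480000)
 (.cons 1 (nat_lit 0x48008040248)
 (.cons 3 (nat_lit 0x100080000)
 (.cons 6 (nat_lit 0x2000400a008)
 (.cons 12 (nat_lit 0xc50000864)
 (.cons 24 (nat_lit 0x8b0000)
 .nil)))))))))))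
noncomputable def a128 : Net := (.cons 24 (nat_lit 0x1fdf80)
 (.cons 12 (nat_lit 0x8f0000048)
 (.cons 6 (nat_lit 0x1003a022030)
 (.cons 3 (nat_lit 0x1851c2000104)
 (.cons 1 (nat_lit 0x8008)
 (.cons 1 (nat_lit 0x10410)
 (.cons 1 (nat_lit 0x40248248008)
 (.cons 3 (nat_lit 0x80002000104)
 (.cons 6 (nat_lit 0x10030022010)
 (.cons 12 (nat_lit 0x8a0000048)
 (.cons 24 (nat_lit 0x1fdb00)
 .nil)))))))))))
noncomputable def a129 : Net := (.cons 24 (nat_lit 0x4334f4)
 (.cons 12 (nat_lit 0x68000a34)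
 (.cons 6 (nat_lit 0x1002c03a000)
 (.cons 3 (nat_lit 0x851861c0100)
 (.cons 1 (nat_lit 0x208208040)
 (.cons 1 (nat_lit 0x490492490)
 (.cons 1 (nat_lit 0x41200208208)
 (.cons 3 (nat_lit 0x80006004084)
 (.cons 6 (nat_lit 0x2803c038)
 (.cons 12 (nat_lit 0x4c0009c0)
 (.cons 24 (nat_lit 0x413374)
 .nil)))))))))))
noncomputable def a130 : Net := (.cons 24 (nat_lit 0xcf5d7c)
 (.cons 12 (nat_lit 0x8e4000ea4)
 (.cons 6 (nat_lit 0x1902a000018)
 (.cons 3 (nat_lit 0xc6186182004)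
 (.cons 1 (nat_lit 0x208008008)
 (.cons 1 (nat_lit 0x402490410010)
 (.cons 1 (nat_lit 0x40201208)
 (.cons 3 (nat_lit 0x100000000)
 (.cons 6 (nat_lit 0x28004038018)
 (.cons 12 (nat_lit 0x864000c94)
 (.cons 24 (nat_lit 0xcc7fc4)
 .nil)))))))))))
noncomputable def a131 : Net := (.cons 24 (nat_lit 0x2046f0)
 (.cons 12 (nat_lit 0xfa8000a6a)
 (.cons 6 (nat_lit 0x400000e012)
 (.cons 3 (nat_lit 0x6044140084)
 (.cons 1 (nat_lit 0x200008049040)
 (.cons 1 (nat_lit 0x490010492082)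
 (.cons 1 (nat_lit 0x200000240048)
 (.cons 3 (nat_lit 0x184000000106)
 (.cons 6 (nat_lit 0x28008006010)
 (.cons 12 (nat_lit 0xd94000a52)
 (.cons 24 (nat_lit 0x2202f0)
 .nil)))))))))))
noncomputable def a132 : Net := (.cons 24 (nat_lit 0x5e9100)
 (.cons 12 (nat_lit 0x626000500)
 (.cons 6 (nat_lit 0x3d03901c014)
 (.cons 3 (nat_lit 0x100104085040)
 (.cons 1 (nat_lit 0x201208008)
 (.cons 1 (nat_lit 0x82482492490)
 (.cons 1 (nat_lit 0x208240201009)
 (.cons 3 (nat_lit 0x100104082000)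
 (.cons 6 (nat_lit 0x2400a01c014)
 (.cons 12 (nat_lit 0x622000500)
 (.cons 24 (nat_lit 0x5e9100)
 .nil)))))))))))
noncomputable def a133 : Net := (.cons 24 (nat_lit 0x3e2359)
 (.cons 12 (nat_lit 0x6ba0006fd)
 (.cons 6 (nat_lit 0x1a00000901c)
 (.cons 3 (nat_lit 0x140102006184)
 (.cons 1 (nat_lit 0x1000201200)
 (.cons 1 (nat_lit 0x402080402480)
 (.cons 1 (nat_lit 0x49001248201)
 (.cons 3 (nat_lit 0x106000000182)
 (.cons 6 (nat_lit 0x800002a028)
 (.cons 12 (nat_lit 0x4440002c8)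
 (.cons 24 (nat_lit 0x3da3ee)
 .nil)))))))))))
noncomputable def a134 : Net := (.cons 24 (nat_lit 0x95bd6e)
 (.cons 12 (nat_lit 0x6d000f74)
 (.cons 6 (nat_lit 0x2b021000000)
 (.cons 3 (nat_lit 0x1460801c1002)
 (.cons 1 (nat_lit 0x201201041000)
 (.cons 1 (nat_lit 0x482402092012)
 (.cons 1 (nat_lit 0x200209048200)
 (.cons 3 (nat_lit 0x106004006080)
 (.cons 6 (nat_lit 0xe02002c008)
 (.cons 12 (nat_lit 0x830000bc0)
 (.cons 24 (nat_lit 0x95302e)
 .nil)))))))))))
noncomputable def a135 : Net := (.cons 24 (nat_lit 0xf22d4c)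
 (.cons 12 (nat_lit 0xcec000864)
 (.cons 6 (nat_lit 0x24028033034)
 (.cons 3 (nat_lit 0xc60071811c4)
 (.cons 1 (nat_lit 0x49000008000)
 (.cons 1 (nat_lit 0x492400092410)
 (.cons 1 (nat_lit 0x49200009040)
 (.cons 3 (nat_lit 0x180100100084)
 (.cons 6 (nat_lit 0x10018010024)
 (.cons 12 (nat_lit 0x9f400086c)
 (.cons 24 (nat_lit 0xf1d998)
 .nil)))))))))))
noncomputable def a136 : Net := (.cons 24 (nat_lit 0x8e4438)
 (.cons 12 (nat_lit 0x8e4000844)
 (.cons 6 (nat_lit 0x3a03802f034)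
 (.cons 3 (nat_lit 0xc20c30c1104)
 (.cons 1 (nat_lit 0x201040001008)
 (.cons 1 (nat_lit 0x412082092090)
 (.cons 1 (nat_lit 0x201240209208)
 (.cons 3 (nat_lit 0x2080180004)
 (.cons 6 (nat_lit 0x1a01e016020)
 (.cons 12 (nat_lit 0x84c000860)
 (.cons 24 (nat_lit 0x8e4480)
 .nil)))))))))))
noncomputable def a137 : Net := (.cons 24 (nat_lit 0x8b0000)
 (.cons 12 (nat_lit 0xc70000864)
 (.cons 6 (nat_lit 0x3000400a00c)
 (.cons 3 (nat_lit 0x1001450c0)
 (.cons 1 (nat_lit 0x8000200000)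
 (.cons 1 (nat_lit 0x10082480000)
 (.cons 1 (nat_lit 0x48008040248)
 (.cons 3 (nat_lit 0x100080000)
 (.cons 6 (nat_lit 0x2000400a008)
 (.cons 12 (nat_lit 0xc50000864)
 (.cons 24 (nat_lit 0x8b0000)
 .nil)))))))))))
noncomputable def a138 : Net := (.cons 24 (nat_lit 0xdc412a)
 (.cons 12 (nat_lit 0x864000c82)
 (.cons 6 (nat_lit 0x2018022006)
 (.cons 3 (nat_lit 0x1060c4087040)
 (.cons 1 (nat_lit 0x8249009040)
 (.cons 1 (nat_lit 0x490492412090)
 (.cons 1 (nat_lit 0x41241008000)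
 (.cons 3 (nat_lit 0x80000002004)
 (.cons 6 (nat_lit 0x2401002800e)
 (.cons 12 (nat_lit 0x864000e86)
 (.cons 24 (nat_lit 0xdc8efa)
 .nil)))))))))))
noncomputable def a139 : Net := (.cons 24 (nat_lit 0x8a0080)
 (.cons 12 (nat_lit 0x880000c80)
 (.cons 6 (nat_lit 0x24034004008)
 (.cons 3 (nat_lit 0x102000004184)
 (.cons 1 (nat_lit 0x208200)
 (.cons 1 (nat_lit 0x80002490400)
 (.cons 1 (nat_lit 0x40209240)
 (.cons 3 (nat_lit 0x100180)
 (.cons 6 (nat_lit 0x24004028008)
 (.cons 12 (nat_lit 0x880000c80)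
 (.cons 24 (nat_lit 0x884000)
 .nil)))))))))))
noncomputable def a140 : Net := (.cons 24 (nat_lit 0xdc412a)
 (.cons 12 (nat_lit 0x864000c82)
 (.cons 6 (nat_lit 0x2018022006)
 (.cons 3 (nat_lit 0x1060c4087040)
 (.cons 1 (nat_lit 0x8249009040)
 (.cons 1 (nat_lit 0x490492412090)
 (.cons 1 (nat_lit 0x41241008000)
 (.cons 3 (nat_lit 0x80000002004)
 (.cons 6 (nat_lit 0x2401002800e)
 (.cons 12 (nat_lit 0x864000e86)
 (.cons 24 (nat_lit 0xdc8efa)
 .nil)))))))))))
noncomputable def a141 : Net := (.cons 24 (nat_lit 0x5ebc)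
 (.cons 12 (nat_lit 0x84c000040)
 (.cons 6 (nat_lit 0x2502c03c028)
 (.cons 3 (nat_lit 0x1070041c60c0)
 (.cons 1 (nat_lit 0x1200048000)
 (.cons 1 (nat_lit 0x2490090400)
 (.cons 1 (nat_lit 0x1208000240)
 (.cons 3 (nat_lit 0x4106000100)
 (.cons 6 (nat_lit 0x402c030018)
 (.cons 12 (nat_lit 0x8480008c0)
 (.cons 24 (nat_lit 0x21254)
 .nil)))))))))))
noncomputable def a142 : Net := (.cons 24 (nat_lit 0xa4a990)
 (.cons 12 (nat_lit 0xc00000b24)
 (.cons 6 (nat_lit 0x2800c034018)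
 (.cons 3 (nat_lit 0x84146086084)
 (.cons 1 (nat_lit 0x208040)
 (.cons 1 (nat_lit 0x2080410080)
 (.cons 1 (nat_lit 0x40000209240)
 (.cons 3 (nat_lit 0x84100102080)
 (.cons 6 (nat_lit 0x2000c018008)
 (.cons 12 (nat_lit 0xc00000b24)
 (.cons 24 (nat_lit 0xa4a990)
 .nil)))))))))))
noncomputable def a143 : Net := (.cons 24 (nat_lit 0x1fdf80)
 (.cons 12 (nat_lit 0x8f0000048)
 (.cons 6 (nat_lit 0x1003a022030)
 (.cons 3 (nat_lit 0x1851c2000104)
 (.cons 1 (nat_lit 0x8008)
 (.cons 1 (nat_lit 0x10410)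
 (.cons 1 (nat_lit 0x40248248008)
 (.cons 3 (nat_lit 0x80002000104)
 (.cons 6 (nat_lit 0x10030022010)
 (.cons 12 (nat_lit 0x8a0000048)
 (.cons 24 (nat_lit 0x1fdb00)
 .nil)))))))))))
noncomputable def a144 : Net := (.cons 24 (nat_lit 0x942078)
 (.cons 12 (nat_lit 0x860000630)
 (.cons 6 (nat_lit 0x201a000028)
 (.cons 3 (nat_lit 0x183081140)
 (.cons 1 (nat_lit 0x48048000000)
 (.cons 1 (nat_lit 0x90090000000)
 (.cons 1 (nat_lit 0x8248208200)
 (.cons 3 (nat_lit 0x80080)
 (.cons 6 (nat_lit 0x22008018028)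
 (.cons 12 (nat_lit 0x860000298)
 (.cons 24 (nat_lit 0x9420e8)
 .nil)))))))))))
noncomputable def a145 : Net := (.cons 24 (nat_lit 0x477168)
 (.cons 12 (nat_lit 0x469000892)
 (.cons 6 (nat_lit 0x11038028008)
 (.cons 3 (nat_lit 0x1103100042)
 (.cons 1 (nat_lit 0x40208008)
 (.cons 1 (nat_lit 0x480410010)
 (.cons 1 (nat_lit 0x9001208048)
 (.cons 3 (nat_lit 0x100004000)
 (.cons 6 (nat_lit 0x10038028028)
 (.cons 12 (nat_lit 0x6a000890)
 (.cons 24 (nat_lit 0x477068)
 .nil)))))))))))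
noncomputable def a146 : Net := (.cons 24 (nat_lit 0xe70328)
 (.cons 12 (nat_lit 0xc60000690)
 (.cons 6 (nat_lit 0x2803400c028)
 (.cons 3 (nat_lit 0x4107086182)
 (.cons 1 (nat_lit 0x208040001000)
 (.cons 1 (nat_lit 0x410080012000)
 (.cons 1 (nat_lit 0x208249001200)
 (.cons 3 (nat_lit 0x4100006080)
 (.cons 6 (nat_lit 0x28034004028)
 (.cons 12 (nat_lit 0xc60000690)
 (.cons 24 (nat_lit 0xe70328)
 .nil)))))))))))
noncomputable def ns0 : List Net := [a0, a1, a2, a3, a4, a5, a6, a7]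
noncomputable def ws : List (List ℕ) :=
  [W (nat_lit 0x1403),
  W (nat_lit 0x40901c05),
  W (nat_lit 0x240202401),
  W (nat_lit 0x1c0201c01),
  W (nat_lit 0x901c01),
  W (nat_lit 0x280b0200800c080140401c0d0080f028050100101806024050280d0040b014100181001802),
  W (nat_lit 0xa020090200601c0e040070140a03c0503c0202403040010280801802),
  W (nat_lit 0x741d),
  W (nat_lit 0x1b06c1d),
  W (nat_lit 0x1b0781b0781c),
  W (nat_lit 0x841f),
  W (nat_lit 0x8c2308c21),
  W (nat_lit 0x1f08820),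
  W (nat_lit 0xa4250a026),
  W (nat_lit 0x982909c2a09826),
  W (nat_lit 0xb82e0b82c),
  W (nat_lit 0xb02e),
  W (nat_lit 0xb82b),
  W (nat_lit 0x310bc32),
  W (nat_lit 0xc0310cc30),
  W (nat_lit 0x380d836),
  W (nat_lit 0x370d8380d836),
  W (nat_lit 0x781b0741c0781c),
  W (nat_lit 0x1d0701e),
  W (nat_lit 0x1e0781e06c1b06c1e0781e),
  W (nat_lit 0x3f1043e),
  W (nat_lit 0x108420f43f),
  W (nat_lit 0x3f0fc411003e),
  W (nat_lit 0x11c45),
  W (nat_lit 0x6c1b0781c),
  W (nat_lit 0x781c0741b),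
  W (nat_lit 0x1304e),
  W (nat_lit 0x4d1344b1344d),
  W (nat_lit 0x521405114450),
  W (nat_lit 0x4c1204c130481405012),
  W (nat_lit 0x4c11),
  W (nat_lit 0x581585815455),
  W (nat_lit 0x1585715455),
  W (nat_lit 0x16058),
  W (nat_lit 0x591705816c5b),
  W (nat_lit 0x5918059),
  W (nat_lit 0x17c59),
  W (nat_lit 0x591745a),
  W (nat_lit 0x5d17c59),
  W (nat_lit 0x66190681a0611986419464),
  W (nat_lit 0x64184661986118c631886719866),
  W (nat_lit 0x6b1845915c14),
  W (nat_lit 0x1a4651685c0445b),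
  W (nat_lit 0x1b46d1bc6e1b870),
  W (nat_lit 0x1bc6e1c06d1b46f),
  W (nat_lit 0x721c874),
  W (nat_lit 0x1c8741c474),
  W (nat_lit 0x1d071),
  W (nat_lit 0x1d4781e479),
  W (nat_lit 0x1d4791e476),
  W (nat_lit 0x1e8751e076),
  W (nat_lit 0x7d1ec7b),
  W (nat_lit 0x1f47b1f87c),
  W (nat_lit 0x2007c),
  W (nat_lit 0x7f1f07e),
  W (nat_lit 0x8720c8320c82220842148822081),
  W (nat_lit 0x8521085220832188721c8220c852148421082),
  W (nat_lit 0x70180301c060240700808004030200601802),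
  W (nat_lit 0x18060200902002018030240301802),
  W (nat_lit 0x2348d2408d),
  W (nat_lit 0x2388e2408e),
  W (nat_lit 0x2489425091),
  W (nat_lit 0x9324c90),
  W (nat_lit 0x24090),
  W (nat_lit 0x9826496),
  W (nat_lit 0x2689526496),
  W (nat_lit 0x9726495),
  W (nat_lit 0x26096),
  W (nat_lit 0x350bc2b09801),
  W (nat_lit 0xe43b0d82507c1c),
  W (nat_lit 0xd82f0ac250881c0041b),
  W (nat_lit 0x390ec360c02b0981d),
  W (nat_lit 0x390d8310942006c1d),
  W (nat_lit 0x3b0c42b07c1c),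
  W (nat_lit 0xd431),
  W (nat_lit 0xe4350941d),
  W (nat_lit 0xec3009822),
  W (nat_lit 0x390d83009820),
  W (nat_lit 0x2acb12ccb22bcaa2b4ab2d4ab2a4b22ccb62bcac2b8b22c8af2b8ab),
  W (nat_lit 0xac2c8b22d0ae2b0b32bca92d0b02c0ae2c8b2),
  W (nat_lit 0xa92acaf2b8b32c4ad2d4b22ccb02c0b12a4b02a4ac),
  W (nat_lit 0x2ecb8),
  W (nat_lit 0x2e8b8),
  W (nat_lit 0x2ecb7),
  W (nat_lit 0x2dcb92f0b8),
  W (nat_lit 0x308c4308c230cc130cc3300c22f8c2),
  W (nat_lit 0xc02f4c22f4bf2f4c1304bd304c3308c2300be),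
  W (nat_lit 0x6918c57),
  W (nat_lit 0x1a461),
  W (nat_lit 0x631685b),
  W (nat_lit 0x691ac63),
  W (nat_lit 0x34061330cc34062188623406634062194cc),
  W (nat_lit 0xd019465194cb184cf198cb184cf188cf198d0),
  W (nat_lit 0x1ac631685b),
  W (nat_lit 0x6b1645c),
  W (nat_lit 0x354d8360d6),
  W (nat_lit 0x360d6358d8),
  W (nat_lit 0x364db),
  W (nat_lit 0x5515c5615c5615857),
  W (nat_lit 0x551545715857),
  W (nat_lit 0x1605615c551605815857),
  W (nat_lit 0x37ce2390e1),
  W (nat_lit 0x6b19455),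
  W (nat_lit 0x1845a16c560445c),
  W (nat_lit 0xea3a0ea),
  W (nat_lit 0x501204c13),
  W (nat_lit 0x130481405011),
  W (nat_lit 0xef3b8ee),
  W (nat_lit 0x3b4f03b4ef),
  W (nat_lit 0x3b8f03b8ee3c0ee),
  W (nat_lit 0x3c8f33d8f23d0f2),
  W (nat_lit 0xf13d0f43d4f1),
  W (nat_lit 0x651645c),
  W (nat_lit 0x18457),
  W (nat_lit 0x3f0fe3f8fc3f8fe),
  W (nat_lit 0x16058),
  W (nat_lit 0x158581605616055),
  W (nat_lit 0x581585715c5715455),
  W (nat_lit 0x41101),
  W (nat_lit 0x390d82507c01),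
  W (nat_lit 0xd82f0ac2608001),
  W (nat_lit 0x3b0d83109820),
  W (nat_lit 0x390ec3109822),
  W (nat_lit 0xe43b0d42f09822),
  W (nat_lit 0xd430),
  W (nat_lit 0x42d1044d0c4450c4390b4250b4491443d14),
  W (nat_lit 0x4450d4410d4291144d0b4390b429104410b4390a),
  W (nat_lit 0x1124490b4491342510451094310d4290e42d114450f43911),
  W (nat_lit 0x11545d15),
  W (nat_lit 0x4611546115),
  W (nat_lit 0x11c4711d),
  W (nat_lit 0x10041),
  W (nat_lit 0x108420fc3d),
  W (nat_lit 0x3f0f83e1003d)]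
noncomputable def ns : List Net := [a0, a1, a2, a3, a4, a5, a6, a7, a8, a9, a10, a11, a12, a13, a14, a15, a16, a17, a18, a19, a20, a21, a22, a23, a24, a25, a26, a27, a28, a29, a30, a31, a32, a33, a34, a35, a36, a37, a38, a39, a40, a41, a42, a43, a44, a45, a46, a47, a48, a49, a50, a51, a52, a53, a54, a55, a56, a57, a58, a59, a60, a61, a62, a63, a64, a65, a66, a67, a68, a69, a70, a71, a72, a73, a74, a75, a76, a77, a78, a79, a80, a81, a82, a83, a84, a85, a86, a87, a88, a89, a90, a91, a92, a93, a94, a95, a96, a97, a98, a99, a100, a101, a102, a103, a104, a105, a106, a107, a108, a109, a110, a111, a112, a113, a114, a115, a116, a117, a118, a119, a120, a121, a122, a123, a124, a125, a126, a127, a128, a129, a130, a131, a132, a133, a134, a135, a136, a137, a138, a139, a140, a141, a142, a143, a144, a145, a146]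
noncomputable def D : List (ℕ × List ℕ) := app [] (mkDefs ws 8)
noncomputable def chk : List (List ℕ × List ℕ) → Bool := P.relsB ns
noncomputable def zus0 : List (List ℕ) :=
  [[56],
  [58],
  W (nat_lit 0xe43b)]
noncomputable def zF1 : List (List (ℕ × List ℕ)) :=
  [[(1, []),
   (0, []),
   (3, []),
   (2, [])],
  [(2, []),
   (3, []),
   (0, []),
   (1, [])]]
noncomputable def zE4 : List (ℕ × List ℕ) :=
  [(52, W (nat_lit 0x390ec37))]
noncomputable def zt5 : List ℕ :=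
  []
noncomputable def zcj6 : List (List ℕ) :=
  [W (nat_lit 0xe43b),
  [56]]
noncomputable def zus10 : List (List ℕ) :=
  [[46],
  [47],
  [48]]
noncomputable def zF11 : List (List (ℕ × List ℕ)) :=
  [[(1, []),
   (2, []),
   (0, []),
   (3, [52])],
  [(3, []),
   (1, [53]),
   (0, [52]),
   (2, [53])],
  [(1, [56]),
   (2, W (nat_lit 0xe43b)),
   (0, [58]),
   (3, W (nat_lit 0xec35))]]
noncomputable def zE14 : List (ℕ × List ℕ) :=
  [(42, W (nat_lit 0xc02d))]
noncomputable def zt15 : List ℕ :=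
  W (nat_lit 0x390d82f)
noncomputable def zcj16 : List (List ℕ) :=
  [W (nat_lit 0x390d42f),
  W (nat_lit 0x390ec35),
  [47]]
noncomputable def zus20 : List (List ℕ) :=
  [[36],
  [37]]
noncomputable def zF21 : List (List (ℕ × List ℕ)) :=
  [[(1, []),
   (2, []),
   (0, [])],
  [(0, W (nat_lit 0x3b0c02b)),
   (2, W (nat_lit 0xd82b)),
   (1, W (nat_lit 0x390d82b))],
  [(1, W (nat_lit 0x390d830)),
   (2, W (nat_lit 0x390d831)),
   (0, W (nat_lit 0xe435))]]
noncomputable def zus24 : List (List ℕ) :=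
  [[30],
  [31],
  [33]]
noncomputable def zF25 : List (List (ℕ × List ℕ)) :=
  [[(1, []),
   (2, []),
   (0, []),
   (3, W (nat_lit 0xe4360c026))],
  [(2, [36]),
   (1, W (nat_lit 0x3b0d826)),
   (3, W (nat_lit 0x350c426)),
   (0, [])],
  [(1, W (nat_lit 0x390d42f0ac26)),
   (2, W (nat_lit 0x390d8310ac25)),
   (3, W (nat_lit 0x390d8310ac26)),
   (0, W (nat_lit 0x350bc2b))]]
noncomputable def zus28 : List (List ℕ) :=
  [[26],
  [27],
  [28],
  W (nat_lit 0x6c1d)]
noncomputable def zF29 : List (List (ℕ × List ℕ)) :=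
  [[(1, []),
   (3, W (nat_lit 0x941f)),
   (0, []),
   (2, W (nat_lit 0x390d8300941f)),
   (4, W (nat_lit 0x390bc2b09822))],
  [(3, []),
   (4, []),
   (2, W (nat_lit 0xec360c426)),
   (0, [30]),
   (1, W (nat_lit 0x350c420))]]
noncomputable def zrs32 : List (ℕ × List ℕ) :=
  [(1, [1]),
  (2, W (nat_lit 0x206c1d0081b)),
  (3, W (nat_lit 0x20740207002))]
noncomputable def G_v0 : Lev :=
  ⟨0, 42, sg (W (nat_lit 0x409014010340700c0101401)), [[26], [28]], 5, 2⟩
noncomputable def G_v1 : Lev :=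
  ⟨1, 5, sg (W (nat_lit 0x741b06c1b)), [[30], [32], [34]], 7, 3⟩
noncomputable def G_v2 : Lev :=
  ⟨24, 4, sg (W (nat_lit 0x8c1f)), [[36], [38], [40]], 10, 3⟩
noncomputable def G_v3 : Lev :=
  ⟨33, 3, sg (W (nat_lit 0x9425)), [[42], [44]], 13, 2⟩
noncomputable def G_v4 : Lev :=
  ⟨38, 2, sg [42], [[46], [48], [50]], 15, 3⟩
noncomputable def G_v5 : Lev :=
  ⟨3, 4, sg (W (nat_lit 0x310bc2f)), [[52], [54]], 18, 2⟩
noncomputable def G_v6 : Lev :=
  ⟨7, 3, sg (W (nat_lit 0xd435)), [[56], [58]], 20, 2⟩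
noncomputable def G_v7 : Lev :=
  ⟨2, 4, sg (W (nat_lit 0xec39)), [], 22, 0⟩
noncomputable def G_vs8 : List Lev :=
  []
noncomputable def G_vs7 : List Lev :=
  G_v7 :: G_vs8
noncomputable def G_vs6 : List Lev :=
  G_v6 :: G_vs7
noncomputable def G_vs5 : List Lev :=
  G_v5 :: G_vs6
noncomputable def G_vs4 : List Lev :=
  G_v4 :: G_vs5
noncomputable def G_vs3 : List Lev :=
  G_v3 :: G_vs4
noncomputable def G_vs2 : List Lev :=
  G_v2 :: G_vs3
noncomputable def G_vs1 : List Lev :=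
  G_v1 :: G_vs2
noncomputable def G_vs : List Lev :=
  G_v0 :: G_vs1
noncomputable def zcj34 : List (List ℕ) :=
  [W (nat_lit 0x390d830),
  W (nat_lit 0x3b0bc1f),
  W (nat_lit 0x2b09420)]
noncomputable def G_w0_2_v0 : Lev :=
  ⟨2, 20, sg (W (nat_lit 0x741b06c1b0741b0741b)), [[60], [62], [64]], 22, 3⟩
noncomputable def G_w0_2_v1 : Lev :=
  ⟨6, 16, sg (W (nat_lit 0xf43f0f4410fc3d)), [[66], [68], [70]], 25, 3⟩
noncomputable def G_w0_2_v2 : Lev :=
  ⟨7, 9, sg (W (nat_lit 0x11c4311443)), [[72]], 28, 1⟩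
noncomputable def G_w0_2_v3 : Lev :=
  ⟨1, 2, sg [72], [], 29, 0⟩
noncomputable def G_w0_2_vs4 : List Lev :=
  []
noncomputable def G_w0_2_vs3 : List Lev :=
  G_w0_2_v3 :: G_w0_2_vs4
noncomputable def G_w0_2_vs2 : List Lev :=
  G_w0_2_v2 :: G_w0_2_vs3
noncomputable def G_w0_2_vs1 : List Lev :=
  G_w0_2_v1 :: G_w0_2_vs2
noncomputable def G_w0_2_vs : List Lev :=
  G_w0_2_v0 :: G_w0_2_vs1
noncomputable def zcj38 : List (List ℕ) :=
  [W (nat_lit 0xec350c42b),
  W (nat_lit 0x390ec360c02b),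
  W (nat_lit 0x3b0ac25)]
noncomputable def G_w0_3_v0 : Lev :=
  ⟨3, 16, sg (W (nat_lit 0x6c1d0741b0741b0741b)), [[74], [76]], 29, 2⟩
noncomputable def G_w0_3_v1 : Lev :=
  ⟨4, 15, sg (W (nat_lit 0x12c4b1344b1344b12c4b)), [[78], [80]], 31, 2⟩
noncomputable def G_w0_3_v2 : Lev :=
  ⟨7, 12, sg (W (nat_lit 0x1444f1444f1444f)), [[82]], 33, 1⟩
noncomputable def G_w0_3_v3 : Lev :=
  ⟨2, 2, sg [82], [], 34, 0⟩
noncomputable def G_w0_3_vs4 : List Lev :=
  []
noncomputable def G_w0_3_vs3 : List Lev :=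
  G_w0_3_v3 :: G_w0_3_vs4
noncomputable def G_w0_3_vs2 : List Lev :=
  G_w0_3_v2 :: G_w0_3_vs3
noncomputable def G_w0_3_vs1 : List Lev :=
  G_w0_3_v1 :: G_w0_3_vs2
noncomputable def G_w0_3_vs : List Lev :=
  G_w0_3_v0 :: G_w0_3_vs1
noncomputable def zcj42 : List (List ℕ) :=
  [W (nat_lit 0x3b0d8310801c),
  W (nat_lit 0xbc250881d)]
noncomputable def zB45 : List BG :=
  [⟨[1], [([30], W (nat_lit 0xe42f)), ([32], W (nat_lit 0x3b0bc1f)), ([34], W (nat_lit 0x350c42b09420))],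
  [([⟨[], [], 1, []⟩], []),
   ([⟨[], [], 0, W (nat_lit 0xd430)⟩,
    ⟨[26], W (nat_lit 0x701f), 2, W (nat_lit 0xe4310941f)⟩], W (nat_lit 0x300802)),
   ([⟨[], W (nat_lit 0x6c26), 3, W (nat_lit 0x2f0ac250881c)⟩,
    ⟨[27], W (nat_lit 0x6c1d), 1, W (nat_lit 0xe43b0d430)⟩], W (nat_lit 0x8030080300801)),
   ([⟨[], [36], 2, W (nat_lit 0x390ec350bc2b0981f)⟩], W (nat_lit 0x200c020040100801))]⟩]
noncomputable def zE46 : List (ℕ × List ℕ) :=
  [(2, W (nat_lit 0xd430)),
  (4, W (nat_lit 0xe43b0c0220740206c1d0081b)),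
  (6, W (nat_lit 0x3b0d42f09822)),
  (8, W (nat_lit 0x390d82507c02)),
  (10, []),
  (12, W (nat_lit 0x390ec350c022)),
  (14, W (nat_lit 0xe43b0bc2b))]
noncomputable def zus51 : List (List ℕ) :=
  [[104],
  [106],
  W (nat_lit 0x1a46b)]
noncomputable def zF52 : List (List (ℕ × List ℕ)) :=
  [[(1, []),
   (0, []),
   (3, []),
   (2, [])],
  [(2, []),
   (3, []),
   (0, []),
   (1, [])]]
noncomputable def zus55 : List (List ℕ) :=
  [[96],
  [98],
  [100]]
noncomputable def zF56 : List (List (ℕ × List ℕ)) :=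
  [[(1, []),
   (0, []),
   (3, [104]),
   (2, [104])],
  [(2, []),
   (3, [104]),
   (0, []),
   (1, [104])],
  [(3, []),
   (2, [104]),
   (1, [104]),
   (0, [])],
  [(3, W (nat_lit 0x1a46b)),
   (2, [106]),
   (1, [106]),
   (0, W (nat_lit 0x1a46b))]]
noncomputable def zE59 : List (ℕ × List ℕ) :=
  [(92, W (nat_lit 0x1ac61)),
  (88, W (nat_lit 0x1a46517c5f))]
noncomputable def zt60 : List ℕ :=
  []
noncomputable def zcj61 : List (List ℕ) :=
  [W (nat_lit 0x1a465),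
  [96],
  W (nat_lit 0x1ac61),
  W (nat_lit 0x1ac65)]
noncomputable def zus65 : List (List ℕ) :=
  [[86],
  [90],
  [91]]
noncomputable def zF66 : List (List (ℕ × List ℕ)) :=
  [[(0, [88]),
   (3, W (nat_lit 0x691845a)),
   (1, W (nat_lit 0x6b1945a)),
   (2, W (nat_lit 0x6b1845a))],
  [(1, []),
   (0, W (nat_lit 0x1ac61)),
   (3, W (nat_lit 0x691945a)),
   (2, W (nat_lit 0x6b19459))],
  [(2, []),
   (1, W (nat_lit 0x6918c59)),
   (3, []),
   (0, [])]]
noncomputable def zus69 : List (List ℕ) :=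
  [[84],
  [85],
  W (nat_lit 0x15455),
  W (nat_lit 0x1545a)]
noncomputable def zF70 : List (List (ℕ × List ℕ)) :=
  [[(1, []),
   (3, []),
   (0, []),
   (4, [90]),
   (2, [91])],
  [(0, [86]),
   (3, [88]),
   (4, [91]),
   (1, W (nat_lit 0x611645b)),
   (2, W (nat_lit 0x1a46b18459))]]
noncomputable def zus73 : List (List ℕ) :=
  [[16],
  [17],
  [19],
  W (nat_lit 0x4413),
  W (nat_lit 0x4414),
  W (nat_lit 0x4813),
  W (nat_lit 0x4459),
  W (nat_lit 0x4861),
  W (nat_lit 0x4456),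
  W (nat_lit 0x4457),
  W (nat_lit 0x445b),
  W (nat_lit 0x4461),
  W (nat_lit 0x4863),
  W (nat_lit 0x4867),
  W (nat_lit 0x445c),
  W (nat_lit 0x1115811),
  W (nat_lit 0x446b),
  W (nat_lit 0x1105055),
  W (nat_lit 0x4467),
  W (nat_lit 0x5055)]
noncomputable def zF74 : List (List (ℕ × List ℕ)) :=
  [[(1, []),
   (2, []),
   (0, []),
   (7, W (nat_lit 0x6b1945a1545a)),
   (10, []),
   (12, W (nat_lit 0x691945916c55)),
   (4, W (nat_lit 0x6916456)),
   (8, W (nat_lit 0x18c5915455)),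
   (3, W (nat_lit 0x1a46b18c5a15c55)),
   (16, []),
   (6, W (nat_lit 0x1a46b1945915c56)),
   (11, W (nat_lit 0x1a4631645715455)),
   (13, W (nat_lit 0x6516457)),
   (5, W (nat_lit 0x1a45a17055)),
   (19, W (nat_lit 0x1a46b)),
   (15, W (nat_lit 0x1a46115455)),
   (17, W (nat_lit 0x1a46b1545a)),
   (9, W (nat_lit 0x6b1845c15455)),
   (14, W (nat_lit 0x6b18c5915455)),
   (18, W (nat_lit 0x6b168571545a)),
   (20, W (nat_lit 0x1ac631685c))],
  [(2, [86]),
   (4, []),
   (6, []),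
   (0, []),
   (11, W (nat_lit 0x18c56)),
   (1, []),
   (9, W (nat_lit 0x6b18c571545a)),
   (7, W (nat_lit 0x1645c15455)),
   (14, W (nat_lit 0x1ac61168571545a)),
   (3, W (nat_lit 0x691ac631645c1545a)),
   (15, W (nat_lit 0x1845a16c56)),
   (13, W (nat_lit 0x1a45c15455)),
   (18, W (nat_lit 0x1ac611645b15455)),
   (5, W (nat_lit 0x1ac631685c)),
   (16, W (nat_lit 0x1a46b16455)),
   (8, W (nat_lit 0x6b1645b)),
   (10, W (nat_lit 0x1a46b15455)),
   (12, W (nat_lit 0x5a15455)),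
   (20, W (nat_lit 0x691ac631645b)),
   (17, W (nat_lit 0x6b18c5917056)),
   (19, W (nat_lit 0x1945a1545a))]]
noncomputable def L_v0 : Lev :=
  ⟨0, 21, sg (W (nat_lit 0x4c1104413044130441304411)), [[84], [86]], 34, 2⟩
noncomputable def L_v1 : Lev :=
  ⟨1, 5, sg (W (nat_lit 0x1545515455)), [[88], [86], [90]], 36, 2⟩
noncomputable def L_v2 : Lev :=
  ⟨24, 4, sg (W (nat_lit 0x5916457)), [[92], [88], [94]], 38, 2⟩
noncomputable def L_v3 : Lev :=
  ⟨33, 3, sg (W (nat_lit 0x16459)), [[96], [98], [100], [102]], 40, 4⟩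
noncomputable def L_v4 : Lev :=
  ⟨3, 4, sg (W (nat_lit 0x18c61)), [[104], [106]], 44, 2⟩
noncomputable def L_v5 : Lev :=
  ⟨2, 4, sg (W (nat_lit 0x1ac69)), [], 46, 0⟩
noncomputable def L_vs6 : List Lev :=
  []
noncomputable def L_vs5 : List Lev :=
  L_v5 :: L_vs6
noncomputable def L_vs4 : List Lev :=
  L_v4 :: L_vs5
noncomputable def L_vs3 : List Lev :=
  L_v3 :: L_vs4
noncomputable def L_vs2 : List Lev :=
  L_v2 :: L_vs3
noncomputable def L_vs1 : List Lev :=
  L_v1 :: L_vs2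
noncomputable def L_vs : List Lev :=
  L_v0 :: L_vs1
noncomputable def zcj78 : List (List (List ℕ)) :=
  [[W (nat_lit 0x651685515414), W (nat_lit 0x1ac631645b1545504414)],
  [[17], W (nat_lit 0x15c11)],
  [[17], W (nat_lit 0x4457)],
  [W (nat_lit 0x1ac5a15c5515412), W (nat_lit 0x1ac611685515411)],
  [[16], W (nat_lit 0x1845917012)],
  [[16], W (nat_lit 0x15c12)],
  [[16], W (nat_lit 0x691ac5917012)],
  [W (nat_lit 0x691845916c5515411), W (nat_lit 0x611685515412)]]
noncomputable def zE81 : Net :=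
  (.cons 24 (nat_lit 0x31c8d1)
 (.cons 12 (nat_lit 0x3230004e4)
 (.cons 6 (nat_lit 0x3c00f015034)
 (.cons 3 (nat_lit 0x1006182141)
 (.cons 1 (nat_lit 0x208040041)
 (.cons 1 (nat_lit 0x402490480482)
 (.cons 1 (nat_lit 0x201040008209)
 (.cons 3 (nat_lit 0x86000084)
 (.cons 6 (nat_lit 0x3c00e026018)
 (.cons 12 (nat_lit 0x3c00000c)
 (.cons 24 (nat_lit 0x31d64c)
 .nil)))))))))))
noncomputable def zK82 : Lk :=
  ⟨zE81, 1, 3, 1⟩
noncomputable def zts85 : List (List ℕ) :=
  [W (nat_lit 0x8920c7c1d8711b47b),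
  W (nat_lit 0x20c7b1b471)]
noncomputable def zts88 : List (List ℕ) :=
  [W (nat_lit 0x6b1845915c14),
  W (nat_lit 0x1a4651685c0445b)]
noncomputable def zm91 : ℕ :=
  (nat_lit 0x29880800000)
noncomputable def zm92 : ℕ :=
  (nat_lit 0x220000)
noncomputable def cL_F : List (List ℕ × ℕ × ℕ) :=
  [([0], zm91, zm91),
  ([2], zm92, zm92)]
noncomputable def cLG_v0 : Lev :=
  ⟨0, 42, sg (W (nat_lit 0x409014010340700c0101401)), [[26], [28]], 5, 2⟩
noncomputable def cLG_v1 : Lev :=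
  ⟨2, 20, sg (W (nat_lit 0x741b06c1b0741b0741b)), [[60], [62], [64]], 22, 3⟩
noncomputable def cLG_v2 : Lev :=
  ⟨6, 16, sg (W (nat_lit 0xf43f0f4410fc3d)), [[66], [68], [70]], 25, 3⟩
noncomputable def cLG_v3 : Lev :=
  ⟨7, 9, sg (W (nat_lit 0x11c4311443)), [[72]], 28, 1⟩
noncomputable def cLG_v4 : Lev :=
  ⟨1, 2, sg [72], [], 29, 0⟩
noncomputable def cLG_vs5 : List Lev :=
  []
noncomputable def cLG_vs4 : List Lev :=
  cLG_v4 :: cLG_vs5
noncomputable def cLG_vs3 : List Lev :=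
  cLG_v3 :: cLG_vs4
noncomputable def cLG_vs2 : List Lev :=
  cLG_v2 :: cLG_vs3
noncomputable def cLG_vs1 : List Lev :=
  cLG_v1 :: cLG_vs2
noncomputable def cLG_vs : List Lev :=
  cLG_v0 :: cLG_vs1
noncomputable def cL_x : List (ℕ × List ℕ) :=
  [((nat_lit 0), []),
  ((nat_lit 0), []),
  ((nat_lit 0), []),
  ((nat_lit 0), [(nat_lit 0x400000000)]),
  ((nat_lit 0), [])]
noncomputable def cL_G : Gl :=
  ⟨P, ns, (app D []), (diag [[16], [18]]), [], [], memM (app D []) [], true⟩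
noncomputable def cL_s : St :=
  ⟨(mkS P.n cLG_vs cL_x), [[0], [2], [4], [6], [8], [10], [12], [14]], [], mapL Prod.snd cL_F, memM (app D []) [], []⟩
noncomputable def zt96 : ST :=
  (.img (W (nat_lit 0x1001)) 1 (.dif 0 1 (.br 0 [] [] [(0, [])] (.cons (.img [0] 1 (.br 0 [] [] [(2, [])] (.cons (.img [2] 3 (.br 0 [] [] [(6, [])] (.cons (.orb 0 (.img (W (nat_lit 0x1001)) 0 (.br 0 [] [] [(7, [])] (.cons (.img [0] 0 (.br 0 [] [] [(1, [])] (.cons .fnd
 .nil)))
 .nil))))
 .nil)))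
 .nil)))
 .nil))))
noncomputable def R_v0 : Lev :=
  ⟨0, 42, sg (W (nat_lit 0x1014090040700c0101401)), [[140], [142]], 62, 2⟩
noncomputable def R_v1 : Lev :=
  ⟨1, 5, sg (W (nat_lit 0x8f2348d)), [[142], [144], [146]], 64, 2⟩
noncomputable def R_v2 : Lev :=
  ⟨24, 4, sg (W (nat_lit 0x8f2448f)), [[148], [150], [152]], 66, 3⟩
noncomputable def R_v3 : Lev :=
  ⟨33, 3, sg (W (nat_lit 0x25495)), [[154], [156], [158], [160]], 69, 4⟩
noncomputable def R_v4 : Lev :=
  ⟨3, 4, sg (W (nat_lit 0x2749b)), [[158], [160]], 73, 0⟩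
noncomputable def R_v5 : Lev :=
  ⟨2, 4, sg (W (nat_lit 0x2849f)), [], 73, 0⟩
noncomputable def R_vs6 : List Lev :=
  []
noncomputable def R_vs5 : List Lev :=
  R_v5 :: R_vs6
noncomputable def R_vs4 : List Lev :=
  R_v4 :: R_vs5
noncomputable def R_vs3 : List Lev :=
  R_v3 :: R_vs4
noncomputable def R_vs2 : List Lev :=
  R_v2 :: R_vs3
noncomputable def R_vs1 : List Lev :=
  R_v1 :: R_vs2
noncomputable def R_vs : List Lev :=
  R_v0 :: R_vs1
noncomputable def S_v0 : Lev :=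
  ⟨0, 2, sg [166], [[168], [170], [172], [174], [176], [178], [180]], 83, 0⟩
noncomputable def S_v1 : Lev :=
  ⟨1, 4, sg (W (nat_lit 0x2aca9)), [[182], [184], [186]], 83, 3⟩
noncomputable def S_v2 : Lev :=
  ⟨37, 2, sg [182], [[188], [190], [192], [194]], 86, 4⟩
noncomputable def S_v3 : Lev :=
  ⟨2, 4, sg (W (nat_lit 0x304bd)), [[196], [198]], 90, 2⟩
noncomputable def S_v4 : Lev :=
  ⟨3, 4, sg (W (nat_lit 0x31cc5)), [], 92, 0⟩
noncomputable def S_vs5 : List Lev :=
  []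
noncomputable def S_vs4 : List Lev :=
  S_v4 :: S_vs5
noncomputable def S_vs3 : List Lev :=
  S_v3 :: S_vs4
noncomputable def S_vs2 : List Lev :=
  S_v2 :: S_vs3
noncomputable def S_vs1 : List Lev :=
  S_v1 :: S_vs2
noncomputable def S_vs : List Lev :=
  S_v0 :: S_vs1
noncomputable def S_ps : List PcG :=
  [⟨[166], 2, W (nat_lit 0x2d4b12bcad), [W (nat_lit 0x2d4b12bca9), W (nat_lit 0x2ccb12b4ab), W (nat_lit 0xb52c4ad), W (nat_lit 0x2d4b32c4af), W (nat_lit 0x2ccb1), [178], [180]]⟩,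
  ⟨[168], 2, [], [W (nat_lit 0x2d4b12bcab), W (nat_lit 0xb52c4ad), W (nat_lit 0x2d4af), W (nat_lit 0x2d4b1), W (nat_lit 0x2d4b3), [180]]⟩,
  ⟨[170], 2, W (nat_lit 0x2d4b32c4af), [W (nat_lit 0x2d4b32c4ad), W (nat_lit 0x2ccaf), W (nat_lit 0xb52ccb1), W (nat_lit 0x2d4b3), [180]]⟩,
  ⟨[172], 2, [180], [W (nat_lit 0x2ccaf), W (nat_lit 0x2d4b1), [178], [180]]⟩,
  ⟨[174], 2, [], [W (nat_lit 0x2d4b1), [178], [180]]⟩,
  ⟨[176], 2, [180], [[178], [180]]⟩,
  ⟨[178], 2, [], [[180]]⟩,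
  ⟨[180], 2, [], []⟩]
noncomputable def cv0_E : List (ℕ × List CE) :=
  [(3, [])]
noncomputable def cv0_R : List (List ℕ) :=
  [[],
  [166]]
noncomputable def zcj108 : List (List (List ℕ)) :=
  [[W (nat_lit 0x2d4b12bca9), W (nat_lit 0x2ccb12b4ab), W (nat_lit 0xb52c4ad), W (nat_lit 0x2d4b32c4af), W (nat_lit 0x2ccb1), [178], [180]],
  [[168], W (nat_lit 0x2d4b12bcab), W (nat_lit 0xb52c4ad), W (nat_lit 0x2d4af), W (nat_lit 0x2d4b1), W (nat_lit 0x2d4b3), [180]],
  [W (nat_lit 0x2d4b12bca9), [170], W (nat_lit 0x2d4b32c4ad), W (nat_lit 0x2ccaf), W (nat_lit 0xb52ccb1), W (nat_lit 0x2d4b3), [180]],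
  [W (nat_lit 0x2c4a9), W (nat_lit 0xb32c4ab), [172], W (nat_lit 0x2ccaf), W (nat_lit 0x2d4b1), [178], [180]],
  [W (nat_lit 0x2d4a9), W (nat_lit 0x2ccab), W (nat_lit 0x2ccad), [174], W (nat_lit 0x2d4b1), [178], [180]],
  [W (nat_lit 0x2d4a9), W (nat_lit 0xb52ccab), W (nat_lit 0x2d4ad), W (nat_lit 0x2d4af), [176], [178], [180]],
  [W (nat_lit 0x2d4a9), W (nat_lit 0x2d4ab), [172], [174], [176], [178], [180]],
  [[168], [170], [172], [174], [176], [178], [180]]]
noncomputable def cv1_E : List (ℕ × List CE) :=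
  [(3, []),
  (3, [])]
noncomputable def cv1_R : List (List ℕ) :=
  [[],
  [168],
  [166],
  W (nat_lit 0x2a4a7)]
noncomputable def zcj115 : List (List (List ℕ)) :=
  [[W (nat_lit 0x2ccb12b4ab), W (nat_lit 0xb52c4ad), W (nat_lit 0x2d4b32c4af), W (nat_lit 0x2ccb1), [178], [180]],
  [W (nat_lit 0x2d4b12bcab), W (nat_lit 0xb52c4ad), W (nat_lit 0x2d4af), W (nat_lit 0x2d4b1), W (nat_lit 0x2d4b3), [180]],
  [[170], W (nat_lit 0x2d4b32c4ad), W (nat_lit 0x2ccaf), W (nat_lit 0xb52ccb1), W (nat_lit 0x2d4b3), [180]],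
  [W (nat_lit 0xb32c4ab), [172], W (nat_lit 0x2ccaf), W (nat_lit 0x2d4b1), [178], [180]],
  [W (nat_lit 0x2ccab), W (nat_lit 0x2ccad), [174], W (nat_lit 0x2d4b1), [178], [180]],
  [W (nat_lit 0xb52ccab), W (nat_lit 0x2d4ad), W (nat_lit 0x2d4af), [176], [178], [180]],
  [W (nat_lit 0x2d4ab), [172], [174], [176], [178], [180]],
  [[170], [172], [174], [176], [178], [180]]]
noncomputable def cv2_E : List (ℕ × List CE) :=
  [(3, []),
  (3, []),
  (3, []),
  (3, [])]
noncomputable def cv2_R : List (List ℕ) :=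
  [[],
  [170],
  [168],
  W (nat_lit 0x2aca9),
  [166],
  W (nat_lit 0x2aca7),
  W (nat_lit 0x2a4a7),
  W (nat_lit 0xab2a4a7)]
noncomputable def zcj122 : List (List (List ℕ)) :=
  [[W (nat_lit 0xb52c4ad), W (nat_lit 0x2d4b32c4af), W (nat_lit 0x2ccb1), [178], [180]],
  [W (nat_lit 0xb52c4ad), W (nat_lit 0x2d4af), W (nat_lit 0x2d4b1), W (nat_lit 0x2d4b3), [180]],
  [W (nat_lit 0x2d4b32c4ad), W (nat_lit 0x2ccaf), W (nat_lit 0xb52ccb1), W (nat_lit 0x2d4b3), [180]],
  [[172], W (nat_lit 0x2ccaf), W (nat_lit 0x2d4b1), [178], [180]],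
  [W (nat_lit 0x2ccad), [174], W (nat_lit 0x2d4b1), [178], [180]],
  [W (nat_lit 0x2d4ad), W (nat_lit 0x2d4af), [176], [178], [180]],
  [[172], [174], [176], [178], [180]],
  [[172], [174], [176], [178], [180]]]
noncomputable def cv3_E : List (ℕ × List CE) :=
  [(3, []),
  (1, [ceD, ⟨false, [166], 0, W (nat_lit 0x2d4b1)⟩]),
  (3, []),
  (1, [ceD, ⟨false, [166], 0, W (nat_lit 0x2c4af)⟩]),
  (1, [ceD, ⟨false, [170], 0, W (nat_lit 0x2d4b1)⟩]),
  (1, [ceD, ⟨false, [166], 0, W (nat_lit 0x2d4b1)⟩]),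
  (1, [ceD, ⟨false, [170], 0, W (nat_lit 0xb32c4af)⟩]),
  (1, [ceD, ⟨false, [166], 0, W (nat_lit 0x2c4af)⟩])]
noncomputable def cv3_R : List (List ℕ) :=
  [[],
  [172],
  [170],
  [168],
  W (nat_lit 0x2b4a9),
  W (nat_lit 0x2aca9),
  [166],
  W (nat_lit 0x2aca7),
  W (nat_lit 0x2a4a7),
  W (nat_lit 0xab2a4a7)]
noncomputable def zcj129 : List (List (List ℕ)) :=
  [[W (nat_lit 0x2d4b32c4af), W (nat_lit 0x2ccb1), [178], [180]],
  [W (nat_lit 0x2d4af), W (nat_lit 0x2d4b1), W (nat_lit 0x2d4b3), [180]],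
  [W (nat_lit 0x2ccaf), W (nat_lit 0xb52ccb1), W (nat_lit 0x2d4b3), [180]],
  [W (nat_lit 0x2ccaf), W (nat_lit 0x2d4b1), [178], [180]],
  [[174], W (nat_lit 0x2d4b1), [178], [180]],
  [W (nat_lit 0x2d4af), [176], [178], [180]],
  [[174], [176], [178], [180]],
  [[174], [176], [178], [180]]]
noncomputable def cv4_E : List (ℕ × List CE) :=
  [(3, []),
  (3, []),
  (1, [ceD, ⟨false, [168], 0, W (nat_lit 0x2d4b1)⟩]),
  (1, [ceD, ⟨false, [166], 0, W (nat_lit 0x2ccb1)⟩]),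
  (1, [ceD, ⟨false, [166], 0, [178]⟩]),
  (1, [ceD, ⟨false, [168], 0, W (nat_lit 0x2d4b1)⟩]),
  (1, [ceD, ⟨false, [168], 0, W (nat_lit 0x2d4b1)⟩]),
  (3, []),
  (1, [ceD, ⟨false, [166], 0, W (nat_lit 0x2ccb1)⟩]),
  (3, [])]
noncomputable def cv4_R : List (List ℕ) :=
  [[],
  [174],
  [172],
  W (nat_lit 0x2bcad),
  [170],
  [168],
  W (nat_lit 0x2b4a9),
  W (nat_lit 0x2aca9),
  [166],
  W (nat_lit 0x2aca7),
  W (nat_lit 0xaf2aca7),
  W (nat_lit 0x2a4a7),
  W (nat_lit 0xab2a4a7),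
  W (nat_lit 0x2bcab2a4a7)]
noncomputable def zcj136 : List (List (List ℕ)) :=
  [[W (nat_lit 0x2ccb1), [178], [180]],
  [W (nat_lit 0x2d4b1), W (nat_lit 0x2d4b3), [180]],
  [W (nat_lit 0xb52ccb1), W (nat_lit 0x2d4b3), [180]],
  [W (nat_lit 0x2d4b1), [178], [180]],
  [W (nat_lit 0x2d4b1), [178], [180]],
  [[176], [178], [180]],
  [[176], [178], [180]],
  [[176], [178], [180]]]
noncomputable def cv5_E : List (ℕ × List CE) :=
  [(3, []),
  (1, [ceD, ⟨false, [166], 0, W (nat_lit 0x2d4b3)⟩]),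
  (1, [ceD, ⟨false, [166], 0, [180]⟩]),
  (1, [ceD, ⟨false, [168], 0, [180]⟩]),
  (1, [ceD, ⟨false, [172], 0, [178]⟩]),
  (1, [ceD, ⟨false, [172], 0, []⟩]),
  (1, [ceD, ⟨false, [168], 0, [180]⟩]),
  (3, []),
  (1, [ceD, ⟨false, [172], 0, []⟩]),
  (1, [ceD, ⟨false, [174], 0, [178]⟩]),
  (1, [ceD, ⟨false, [174], 0, W (nat_lit 0x2d4b3)⟩]),
  (1, [ceD, ⟨false, [174], 0, W (nat_lit 0x2d4b3)⟩]),
  (1, [ceD, ⟨false, [172], 0, [178]⟩]),
  (1, [ceD, ⟨false, [172], 0, [180]⟩])]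
noncomputable def cv5_R : List (List ℕ) :=
  [[],
  [176],
  [174],
  [172],
  W (nat_lit 0x2bcad),
  [170],
  [168],
  W (nat_lit 0x2b4a9),
  W (nat_lit 0x2aca9),
  W (nat_lit 0xb12aca9),
  [166],
  W (nat_lit 0x2aca7),
  W (nat_lit 0xaf2aca7),
  W (nat_lit 0x2a4a7),
  W (nat_lit 0xab2a4a7),
  W (nat_lit 0x2bcab2a4a7)]
noncomputable def zcj143 : List (List (List ℕ)) :=
  [[[178], [180]],
  [W (nat_lit 0x2d4b3), [180]],
  [W (nat_lit 0x2d4b3), [180]],
  [[178], [180]],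
  [[178], [180]],
  [[178], [180]],
  [[178], [180]],
  [[178], [180]]]
noncomputable def cv6_E : List (ℕ × List CE) :=
  [(3, []),
  (1, [ceD, ⟨false, [166], 0, []⟩]),
  (1, [ceD, ⟨false, [170], 0, []⟩]),
  (1, [ceD, ⟨false, [174], 0, []⟩]),
  (1, [ceD, ⟨false, [166], 0, []⟩]),
  (1, [ceD, ⟨false, [174], 0, []⟩]),
  (3, []),
  (1, [ceD, ⟨false, [174], 0, [180]⟩]),
  (1, [ceD, ⟨false, [174], 0, [180]⟩]),
  (1, [ceD, ⟨false, [174], 0, []⟩]),
  (0, [⟨true, [], 1, []⟩, ⟨true, [], 1, []⟩]),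
  (3, []),
  (1, [ceD, ⟨false, [172], 0, []⟩]),
  (1, [ceD, ⟨false, [176], 0, []⟩]),
  (3, []),
  (1, [ceD, ⟨false, W (nat_lit 0xc52f4ac), 0, [180]⟩])]
noncomputable def cv6_R : List (List ℕ) :=
  [[],
  [178],
  [176],
  [174],
  [172],
  W (nat_lit 0x2bcad),
  [170],
  [168],
  W (nat_lit 0x2cca9),
  W (nat_lit 0x2b4a9),
  W (nat_lit 0x2aca9),
  W (nat_lit 0xb12aca9),
  W (nat_lit 0x2aca7),
  W (nat_lit 0xb32aca7),
  W (nat_lit 0xaf2aca7),
  W (nat_lit 0x2a4a7),
  W (nat_lit 0xab2a4a7),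
  W (nat_lit 0x2ccab2a4a7),
  W (nat_lit 0x2bcab2a4a7)]
noncomputable def zcj150 : List (List (List ℕ)) :=
  [[[180]],
  [[180]],
  [[180]],
  [[180]],
  [[180]],
  [[180]],
  [[180]],
  [[180]]]
noncomputable def cv7_E : List (ℕ × List CE) :=
  [(3, []),
  (1, [ceD, ⟨false, [168], 0, []⟩]),
  (1, [ceD, ⟨false, [168], 0, []⟩]),
  (1, [ceD, ⟨false, [168], 0, []⟩]),
  (1, [ceD, ⟨false, [176], 0, []⟩]),
  (1, [ceD, ⟨false, [188], 0, []⟩]),
  (1, [ceD, ⟨false, [178], 0, []⟩]),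
  (1, [ceD, ⟨false, [174], 0, []⟩]),
  (1, [ceD, ⟨false, [168], 0, []⟩]),
  (0, [⟨true, [], 1, []⟩, ⟨true, [], 1, []⟩]),
  (1, [ceD, ⟨false, [192], 0, []⟩]),
  (1, [ceD, ⟨false, [172], 0, []⟩]),
  (1, [ceD, ⟨false, [168], 0, []⟩]),
  (1, [ceD, ⟨false, [178], 0, []⟩]),
  (0, [⟨true, [], 1, []⟩, ⟨true, [], 1, []⟩]),
  (0, [⟨true, [], 1, []⟩, ⟨true, [], 1, []⟩]),
  (0, [⟨true, [], 1, []⟩, ⟨true, [], 1, []⟩]),
  (0, [⟨true, [], 1, []⟩, ⟨true, [], 1, []⟩]),
  (1, [ceD, ⟨false, [176], 0, []⟩])]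
noncomputable def cv7_R : List (List ℕ) :=
  [[],
  [180],
  [178],
  [176],
  [174],
  [172],
  W (nat_lit 0x2bcad),
  [170],
  [168],
  W (nat_lit 0x2cca9),
  W (nat_lit 0x2aca9),
  W (nat_lit 0xb12aca9),
  W (nat_lit 0x2aca7),
  W (nat_lit 0xb32aca7),
  W (nat_lit 0x2bcab2a4a7)]
noncomputable def cv8_F : List (List ℕ × ℕ × List ℕ) :=
  [([], 0, []),
  (W (nat_lit 0xec300ac260801d), 1, []),
  (W (nat_lit 0xe43b0d4250801b), 1, []),
  (W (nat_lit 0x350ac2206c01), 5, []),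
  (W (nat_lit 0x350c420), 1, []),
  (W (nat_lit 0x390ec350c02b0982007001), 5, []),
  (W (nat_lit 0xe4360c02b0981b07401), 5, []),
  (W (nat_lit 0x390ec360c41f), 6, []),
  (W (nat_lit 0x390ec2f0ac200740101426), 3, []),
  (W (nat_lit 0x350bc250801b07405), 6, []),
  (W (nat_lit 0xe42f0982007001), 5, []),
  (W (nat_lit 0x390d42b098200700107401), 1, []),
  (W (nat_lit 0x390ec310942007401), 7, []),
  (W (nat_lit 0xe4350ac260801c), 2, []),
  (W (nat_lit 0xe4300ac260700500c1b), 4, [])]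
noncomputable def cv8_R : List (List ℕ) :=
  [[], [2], [8], [14], [162], [22], [164], [0]]
noncomputable def T_v0 : Lev :=
  ⟨24, 4, sg (W (nat_lit 0x334c9)), [[96], [202], [206], [100]], 96, 0⟩
noncomputable def T_v1 : Lev :=
  ⟨3, 4, sg (W (nat_lit 0x33c61)), [[208], [210]], 96, 2⟩
noncomputable def T_v2 : Lev :=
  ⟨2, 4, sg (W (nat_lit 0x34cd1)), [], 98, 0⟩
noncomputable def T_vs3 : List Lev :=
  []
noncomputable def T_vs2 : List Lev :=
  T_v2 :: T_vs3
noncomputable def T_vs1 : List Lev :=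
  T_v1 :: T_vs2
noncomputable def T_vs : List Lev :=
  T_v0 :: T_vs1
noncomputable def T_ps : List PcG :=
  [⟨[200], 2, [100], [W (nat_lit 0x33c61), W (nat_lit 0x194cb), W (nat_lit 0x6533ccd), [206], [100]]⟩,
  ⟨[96], 2, [], [[202], W (nat_lit 0x194cd), [206], [100]]⟩,
  ⟨[202], 2, [], [W (nat_lit 0x6533ccd), [206], [100]]⟩,
  ⟨[204], 2, [], [[206], [100]]⟩,
  ⟨[206], 2, [], [[100]]⟩,
  ⟨[100], 2, [], []⟩]
noncomputable def cw0_E : List (ℕ × List CE) :=
  [(3, [])]
noncomputable def cw0_R : List (List ℕ) :=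
  [[],
  [200]]
noncomputable def zcj166 : List (List (List ℕ)) :=
  [[W (nat_lit 0x33c61), W (nat_lit 0x194cb), W (nat_lit 0x6533ccd), [206], [100]],
  [[96], [202], W (nat_lit 0x194cd), [206], [100]],
  [[96], [202], W (nat_lit 0x6533ccd), [206], [100]],
  [W (nat_lit 0x19461), W (nat_lit 0x6533ccb), [204], [206], [100]],
  [[96], [202], [204], [206], [100]],
  [[96], [202], [204], [206], [100]]]
noncomputable def cw1_E : List (ℕ × List CE) :=
  [(3, []),
  (3, [])]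
noncomputable def cw1_R : List (List ℕ) :=
  [[],
  [96],
  [200],
  W (nat_lit 0x184c9)]
noncomputable def zcj174 : List (List (List ℕ)) :=
  [[W (nat_lit 0x194cb), W (nat_lit 0x6533ccd), [206], [100]],
  [[202], W (nat_lit 0x194cd), [206], [100]],
  [[202], W (nat_lit 0x6533ccd), [206], [100]],
  [W (nat_lit 0x6533ccb), [204], [206], [100]],
  [[202], [204], [206], [100]],
  [[202], [204], [206], [100]]]
noncomputable def cw2_E : List (ℕ × List CE) :=
  [(3, []),
  (3, []),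
  (3, []),
  (3, [])]
noncomputable def cw2_R : List (List ℕ) :=
  [[],
  [202],
  [96],
  W (nat_lit 0x32c61),
  [200],
  W (nat_lit 0x32cc9),
  W (nat_lit 0x184c9),
  W (nat_lit 0xcb184c9)]
noncomputable def zcj182 : List (List (List ℕ)) :=
  [[W (nat_lit 0x6533ccd), [206], [100]],
  [W (nat_lit 0x194cd), [206], [100]],
  [W (nat_lit 0x6533ccd), [206], [100]],
  [[204], [206], [100]],
  [[204], [206], [100]],
  [[204], [206], [100]]]
noncomputable def cw3_E : List (ℕ × List CE) :=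
  [(3, []),
  (3, []),
  (3, []),
  (3, []),
  (3, []),
  (3, []),
  (3, []),
  (3, [])]
noncomputable def cw3_R : List (List ℕ) :=
  [[],
  [204],
  [202],
  W (nat_lit 0x334cb),
  [96],
  W (nat_lit 0x33461),
  W (nat_lit 0x32c61),
  W (nat_lit 0xcd32c61),
  [200],
  W (nat_lit 0x334c9),
  W (nat_lit 0x32cc9),
  W (nat_lit 0xcd32cc9),
  W (nat_lit 0x184c9),
  W (nat_lit 0xcd184c9),
  W (nat_lit 0xcb184c9),
  W (nat_lit 0x334cb184c9)]
noncomputable def zcj190 : List (List (List ℕ)) :=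
  [[[206], [100]],
  [[206], [100]],
  [[206], [100]],
  [[206], [100]],
  [[206], [100]],
  [[206], [100]]]
noncomputable def cw4_E : List (ℕ × List CE) :=
  [(3, []),
  (1, [ceD, ⟨false, [200], 0, [100]⟩]),
  (1, [ceD, ⟨false, [204], 0, [100]⟩]),
  (0, [⟨true, [], 1, [100]⟩, ⟨true, [], 1, [100]⟩]),
  (1, [ceD, ⟨false, [200], 0, []⟩]),
  (1, [ceD, ⟨false, [202], 0, [100]⟩]),
  (1, [ceD, ⟨false, [200], 0, [100]⟩]),
  (0, [⟨true, [], 1, []⟩, ⟨true, [], 1, []⟩]),
  (1, [ceD, ⟨false, [96], 0, []⟩]),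
  (0, [⟨true, [], 1, []⟩, ⟨true, [], 1, []⟩]),
  (1, [ceD, ⟨false, [96], 0, []⟩]),
  (1, [ceD, ⟨false, [96], 0, [100]⟩]),
  (0, [⟨true, [], 1, [100]⟩, ⟨true, [], 1, [100]⟩]),
  (1, [ceD, ⟨false, [96], 0, [100]⟩]),
  (0, [⟨true, [], 1, []⟩, ⟨true, [], 1, []⟩]),
  (0, [⟨true, [], 1, [100]⟩, ⟨true, [], 1, [100]⟩])]
noncomputable def cw4_R : List (List ℕ) :=
  [[],
  [206],
  [204],
  [202],
  [96],
  W (nat_lit 0x33461),
  W (nat_lit 0x32c61),
  [200],
  W (nat_lit 0x32cc9),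
  W (nat_lit 0xcd32cc9),
  W (nat_lit 0xcd184c9)]
noncomputable def zcj198 : List (List (List ℕ)) :=
  [[[100]],
  [[100]],
  [[100]],
  [[100]],
  [[100]],
  [[100]]]
noncomputable def cw5_E : List (ℕ × List CE) :=
  [(3, []),
  (3, []),
  (1, [ceD, ⟨false, [96], 0, []⟩]),
  (1, [ceD, ⟨false, [200], 0, []⟩]),
  (1, [ceD, ⟨false, [204], 0, []⟩]),
  (0, [⟨true, [], 1, []⟩, ⟨true, [], 1, []⟩]),
  (1, [ceD, ⟨false, W (nat_lit 0x61324cd), 0, []⟩]),
  (0, [⟨true, [], 1, []⟩, ⟨true, [], 1, []⟩]),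
  (1, [ceD, ⟨false, [200], 0, []⟩]),
  (1, [ceD, ⟨false, [208], 0, []⟩]),
  (0, [⟨true, [], 1, []⟩, ⟨true, [], 1, []⟩])]
noncomputable def cw5_R : List (List ℕ) :=
  [[],
  [100],
  [206],
  W (nat_lit 0x194cf),
  [204],
  [202],
  [96],
  W (nat_lit 0x32c61),
  W (nat_lit 0x32cc9),
  W (nat_lit 0xcd32cc9)]
noncomputable def cw6_F : List (List ℕ × ℕ × List ℕ) :=
  [([], 0, []),
  ([], 1, []),
  (W (nat_lit 0x1ac5b), 1, []),
  (W (nat_lit 0x691ac6116857), 1, []),
  (W (nat_lit 0x18c5a17056), 1, []),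
  (W (nat_lit 0x651685504813), 1, []),
  (W (nat_lit 0x691ac6516c5504813), 1, []),
  (W (nat_lit 0x691ac6315c551681105055), 1, []),
  (W (nat_lit 0x1ac651645715455), 1, []),
  (W (nat_lit 0x1ac611685c1545a), 1, [])]
noncomputable def cw6_R : List (List ℕ) :=
  [[], [2]]
noncomputable def C0_ps : List PcG :=
  [⟨[214], 2, [216], [[216], [212], [220]]⟩,
  ⟨[216], 2, [], [[212], [220]]⟩,
  ⟨[212], 2, [220], [[220]]⟩,
  ⟨[220], 2, [], []⟩]
noncomputable def C0_v0 : Lev :=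
  ⟨24, 4, sg (W (nat_lit 0x35cd5)), [[216], [218]], 100, 2⟩
noncomputable def C0_v1 : Lev :=
  ⟨2, 4, sg (W (nat_lit 0x36cd9)), [], 102, 0⟩
noncomputable def C0_vs2 : List Lev :=
  []
noncomputable def C0_vs1 : List Lev :=
  C0_v1 :: C0_vs2
noncomputable def C0_vs : List Lev :=
  C0_v0 :: C0_vs1
noncomputable def zm214 : ℕ :=
  (nat_lit 0x3)
noncomputable def zm215 : ℕ :=
  (nat_lit 0x37205000003)
noncomputable def cc0_F : List (List ℕ × ℕ × ℕ) :=
  [([0], zm214, zm214),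
  (W (nat_lit 0x401), zm215, zm215)]
noncomputable def cc0G_v0 : Lev :=
  ⟨0, 21, sg (W (nat_lit 0x4c1104413044130441304411)), [[84], [86]], 34, 2⟩
noncomputable def cc0G_v1 : Lev :=
  ⟨2, 20, sg (W (nat_lit 0x55154571545515c55)), [[222], [224], [226]], 103, 3⟩
noncomputable def cc0G_v2 : Lev :=
  ⟨19, 16, sg (W (nat_lit 0xe338cdf384df)), [[228]], 106, 1⟩
noncomputable def cc0G_v3 : Lev :=
  ⟨1, 3, sg (W (nat_lit 0x394e5)), [], 107, 0⟩
noncomputable def cc0G_vs4 : List Lev :=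
  []
noncomputable def cc0G_vs3 : List Lev :=
  cc0G_v3 :: cc0G_vs4
noncomputable def cc0G_vs2 : List Lev :=
  cc0G_v2 :: cc0G_vs3
noncomputable def cc0G_vs1 : List Lev :=
  cc0G_v1 :: cc0G_vs2
noncomputable def cc0G_vs : List Lev :=
  cc0G_v0 :: cc0G_vs1
noncomputable def cc0_x : List (ℕ × List ℕ) :=
  [((nat_lit 0), [(nat_lit 0x2ca4979b865)]),
  ((nat_lit 0), [(nat_lit 0x2ca4979b864)]),
  ((nat_lit 0), []),
  ((nat_lit 0), [])]
noncomputable def cc0_G : Gl :=
  ⟨P, ns, (app D []), (diag [[22]]), [], [], memM (app D []) [[212], [214]], true⟩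
noncomputable def cc0_s : St :=
  ⟨(mkS P.n cc0G_vs cc0_x), [[16], [18]], [], mapL Prod.snd cc0_F, memM (app D []) [[212], [214]], []⟩
noncomputable def zt219 : ST :=
  (.orb 0 (.and 1 0 (.br 0 [] [] [(0, [])] (.cons (.orb 0 (.dif 0 5 (.br 0 [[212], W (nat_lit 0x354d7)] (W (nat_lit 0xc0100c0100c01)) [(2, [])] (.cons (.img [1] 0 (.br 0 [] [] [(19, [])] (.cons (.dif 8 7 (.br 0 [] [] [(1, [])] (.cons .fnd
 .nil)))
 .nil)))
 .nil))))
 .nil))))
noncomputable def C1_ps : List PcG :=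
  [⟨[232], 2, [], [[230], [234]]⟩,
  ⟨[234], 2, [], [[230]]⟩,
  ⟨[230], 2, [], []⟩]
noncomputable def C1_v0 : Lev :=
  ⟨0, 2, sg [232], [[234], [230]], 109, 1⟩
noncomputable def C1_v1 : Lev :=
  ⟨1, 2, sg [230], [[234]], 110, 0⟩
noncomputable def C1_v2 : Lev :=
  ⟨3, 2, sg [234], [], 110, 0⟩
noncomputable def C1_vs3 : List Lev :=
  []
noncomputable def C1_vs2 : List Lev :=
  C1_v2 :: C1_vs3
noncomputable def C1_vs1 : List Lev :=
  C1_v1 :: C1_vs2
noncomputable def C1_vs : List Lev :=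
  C1_v0 :: C1_vs1
noncomputable def zm226 : ℕ :=
  (nat_lit 0x180200000d)
noncomputable def zm227 : ℕ :=
  (nat_lit 0x9c0200402d)
noncomputable def cc1_F : List (List ℕ × ℕ × ℕ) :=
  [([0], zm226, zm226),
  (W (nat_lit 0x401), zm227, zm227)]
noncomputable def cc1G_v0 : Lev :=
  ⟨5, 21, sg (W (nat_lit 0x130441104c1104c1104c11)), [[236], [238]], 110, 2⟩
noncomputable def cc1G_v1 : Lev :=
  ⟨39, 20, sg (W (nat_lit 0x3b4ef3b4ef3b4ed3bced)), [[240], [242], [244]], 112, 3⟩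
noncomputable def cc1G_v2 : Lev :=
  ⟨3, 12, sg (W (nat_lit 0xf13c4f53ccf1)), [[246], [248]], 115, 2⟩
noncomputable def cc1G_v3 : Lev :=
  ⟨1, 4, sg (W (nat_lit 0x3e4f7)), [], 117, 0⟩
noncomputable def cc1G_vs4 : List Lev :=
  []
noncomputable def cc1G_vs3 : List Lev :=
  cc1G_v3 :: cc1G_vs4
noncomputable def cc1G_vs2 : List Lev :=
  cc1G_v2 :: cc1G_vs3
noncomputable def cc1G_vs1 : List Lev :=
  cc1G_v1 :: cc1G_vs2
noncomputable def cc1G_vs : List Lev :=
  cc1G_v0 :: cc1G_vs1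
noncomputable def cc1_x : List (ℕ × List ℕ) :=
  [((nat_lit 0), [(nat_lit 0x2ca4979b865)]),
  ((nat_lit 0), []),
  ((nat_lit 0), [(nat_lit 0x1248606401a)]),
  ((nat_lit 0x18000000000000000000000000000000), [(nat_lit 0x12004000002)]),
  ((nat_lit 0), [(nat_lit 0x2000000000)])]
noncomputable def cc1_G : Gl :=
  ⟨P, ns, (app D []), (diag [[164]]), [], [], memM (app D []) [[230], [232]], true⟩
noncomputable def cc1_s : St :=
  ⟨(mkS P.n cc1G_vs cc1_x), [[16], [18]], [], mapL Prod.snd cc1_F, memM (app D []) [[230], [232]], []⟩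
noncomputable def zt231 : ST :=
  (.dif 1 0 (.orb 0 (.and 1 0 (.br 0 [W (nat_lit 0x3ace9)] [0] [(5, [])] (.cons (.img [0] 0 (.br 0 [] [] [(39, [])] (.cons (.orb 0 (.and 7 0 (.br 0 [[234]] [0] [(3, [])] (.cons (.orb 0 (.br 0 [W (nat_lit 0x3ace7)] [0] [(26, W (nat_lit 0x3dcf9)), (1, [])] (.cons (.orb 0 (.img [0] 0 (.and 2 0 (.mis 0))))
 (.cons .fnd
 .nil))))
 .nil))))
 .nil)))
 .nil)))))
noncomputable def C2_ps : List PcG :=
  [⟨[252], 2, [254], [W (nat_lit 0x3fcfb), [254]]⟩,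
  ⟨[250], 2, [254], [[254]]⟩,
  ⟨[254], 2, [], []⟩]
noncomputable def C2_v0 : Lev :=
  ⟨24, 4, sg (W (nat_lit 0x3f4fb)), [[254]], 119, 1⟩
noncomputable def C2_v1 : Lev :=
  ⟨2, 2, sg [254], [], 120, 0⟩
noncomputable def C2_vs2 : List Lev :=
  []
noncomputable def C2_vs1 : List Lev :=
  C2_v1 :: C2_vs2
noncomputable def C2_vs : List Lev :=
  C2_v0 :: C2_vs1
noncomputable def zm238 : ℕ :=
  (nat_lit 0x37205000003)
noncomputable def cc2_F : List (List ℕ × ℕ × ℕ) :=
  [(W (nat_lit 0x401), zm238, zm238)]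
noncomputable def cc2G_v0 : Lev :=
  ⟨0, 21, sg (W (nat_lit 0x4c1104413044130441304411)), [[84], [86]], 34, 2⟩
noncomputable def cc2G_v1 : Lev :=
  ⟨24, 20, sg (W (nat_lit 0x57154571545515c55)), [[256], [258], [260]], 120, 3⟩
noncomputable def cc2G_v2 : Lev :=
  ⟨36, 4, sg (W (nat_lit 0x10340d05)), [[256], [258]], 123, 0⟩
noncomputable def cc2G_v3 : Lev :=
  ⟨2, 4, sg (W (nat_lit 0x10140d01)), [[262]], 123, 1⟩
noncomputable def cc2G_v4 : Lev :=
  ⟨3, 3, sg (W (nat_lit 0x41d07)), [], 124, 0⟩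
noncomputable def cc2G_vs5 : List Lev :=
  []
noncomputable def cc2G_vs4 : List Lev :=
  cc2G_v4 :: cc2G_vs5
noncomputable def cc2G_vs3 : List Lev :=
  cc2G_v3 :: cc2G_vs4
noncomputable def cc2G_vs2 : List Lev :=
  cc2G_v2 :: cc2G_vs3
noncomputable def cc2G_vs1 : List Lev :=
  cc2G_v1 :: cc2G_vs2
noncomputable def cc2G_vs : List Lev :=
  cc2G_v0 :: cc2G_vs1
noncomputable def cc2_x : List (ℕ × List ℕ) :=
  [((nat_lit 0x300), [(nat_lit 0x2ca4979b865)]),
  ((nat_lit 0), [(nat_lit 0x5b2864798)]),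
  ((nat_lit 0), []),
  ((nat_lit 0x900000000000000000000000000000000), [(nat_lit 0x8800000024)]),
  ((nat_lit 0), [(nat_lit 0x400004008),
   (nat_lit 0x8200040),
   (nat_lit 0xb0000000),
   (nat_lit 0x181000),
   (nat_lit 0x1a000)])]
noncomputable def cc2_G : Gl :=
  ⟨P, ns, (app D []), (diag [[0]]), [], [], memM (app D []) [[250], [252]], true⟩
noncomputable def cc2_s : St :=
  ⟨(mkS P.n cc2G_vs cc2_x), [[16], [18]], [], mapL Prod.snd cc2_F, memM (app D []) [[250], [252]], []⟩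
noncomputable def zt242 : ST :=
  (.orb 0 (.and 1 0 (.br 0 [[250], W (nat_lit 0xff3ecfd)] (W (nat_lit 0xc01)) [(24, W (nat_lit 0x4813)), (0, [])] (.cons (.orb 0 (.dif 0 4 (.mis 0)))
 (.cons (.dif 1 0 (.br 0 [W (nat_lit 0x3fcfb), W (nat_lit 0x3fcfd)] (W (nat_lit 0xc01)) [(24, [])] (.cons (.img [0] 0 (.br 0 [] [] [(36, [])] (.cons (.orb 0 (.br 0 [[254]] [0] [(35, W (nat_lit 0x40507)), (2, [])] (.cons (.orb 2 (.orb 3 (.img [0] 0 (.and 2 0 (.orb 4 (.img [1] 0 (.and 2 0 (.mis 0))))))))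
 (.cons (.orb 0 (.orb 1 (.img [0] 0 (.and 2 0 (.br 0 [] [] [(3, [])] (.cons .fnd
 .nil))))))
 .nil))))
 .nil)))
 .nil)))
 .nil)))))
noncomputable def J_v0 : Lev :=
  ⟨0, 2, sg [264], [[276], [278], [280]], 130, 3⟩
noncomputable def J_v1 : Lev :=
  ⟨24, 4, sg (W (nat_lit 0x11545515)), [[282], [284]], 133, 2⟩
noncomputable def J_v2 : Lev :=
  ⟨37, 2, sg [282], [[285], [286]], 135, 1⟩
noncomputable def J_v3 : Lev :=
  ⟨2, 4, sg (W (nat_lit 0x47d1e)), [], 136, 0⟩
noncomputable def J_vs4 : List Lev :=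
  []
noncomputable def J_vs3 : List Lev :=
  J_v3 :: J_vs4
noncomputable def J_vs2 : List Lev :=
  J_v2 :: J_vs3
noncomputable def J_vs1 : List Lev :=
  J_v1 :: J_vs2
noncomputable def J_vs : List Lev :=
  J_v0 :: J_vs1
noncomputable def J_ps : List PcG :=
  [⟨[264], 2, [], [W (nat_lit 0x1134450b), W (nat_lit 0x1134450d), [270], W (nat_lit 0x44d11), [274]]⟩,
  ⟨[266], 2, W (nat_lit 0x44d11), [W (nat_lit 0x44d0d), [270], [272], [274]]⟩,
  ⟨[268], 2, W (nat_lit 0x1134450f), [[270], [272], [274]]⟩,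
  ⟨[270], 2, [274], [[272], [274]]⟩,
  ⟨[272], 2, [274], [[274]]⟩,
  ⟨[274], 2, [], []⟩]
noncomputable def cx0_E : List (ℕ × List CE) :=
  [(3, [])]
noncomputable def cx0_R : List (List ℕ) :=
  [[],
  [264]]
noncomputable def zcj253 : List (List (List ℕ)) :=
  [[W (nat_lit 0x1134450b), W (nat_lit 0x1134450d), [270], W (nat_lit 0x44d11), [274]],
  [[266], W (nat_lit 0x44d0d), [270], [272], [274]],
  [W (nat_lit 0x44d0b), [268], [270], [272], [274]],
  [[266], [268], [270], [272], [274]],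
  [[266], [268], [270], [272], [274]],
  [[266], [268], [270], [272], [274]]]
noncomputable def cx1_E : List (ℕ × List CE) :=
  [(3, []),
  (3, [])]
noncomputable def cx1_R : List (List ℕ) :=
  [[],
  [266],
  [264],
  W (nat_lit 0x42d09)]
noncomputable def zcj261 : List (List (List ℕ)) :=
  [[W (nat_lit 0x1134450d), [270], W (nat_lit 0x44d11), [274]],
  [W (nat_lit 0x44d0d), [270], [272], [274]],
  [[268], [270], [272], [274]],
  [[268], [270], [272], [274]],
  [[268], [270], [272], [274]],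
  [[268], [270], [272], [274]]]
noncomputable def cx2_E : List (ℕ × List CE) :=
  [(3, []),
  (3, []),
  (3, []),
  (3, [])]
noncomputable def cx2_R : List (List ℕ) :=
  [[],
  [268],
  [266],
  W (nat_lit 0x4350b),
  [264],
  W (nat_lit 0x43509),
  W (nat_lit 0x42d09),
  W (nat_lit 0x10d42d09)]
noncomputable def zcj269 : List (List (List ℕ)) :=
  [[[270], W (nat_lit 0x44d11), [274]],
  [[270], [272], [274]],
  [[270], [272], [274]],
  [[270], [272], [274]],
  [[270], [272], [274]],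
  [[270], [272], [274]]]
noncomputable def cx3_E : List (ℕ × List CE) :=
  [(3, []),
  (0, [⟨true, [], 1, W (nat_lit 0x44d11)⟩, ⟨true, [], 1, [272]⟩]),
  (3, []),
  (0, [⟨true, [], 1, []⟩, ⟨true, [], 1, [274]⟩]),
  (3, []),
  (0, [⟨true, [], 1, [274]⟩, ⟨true, [], 1, []⟩]),
  (3, []),
  (0, [⟨true, [], 1, [274]⟩, ⟨true, [], 1, []⟩])]
noncomputable def cx3_R : List (List ℕ) :=
  [[],
  [270],
  [266],
  W (nat_lit 0x43d0b),
  [264],
  W (nat_lit 0x43d09),
  W (nat_lit 0x42d09),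
  W (nat_lit 0x10f42d09)]
noncomputable def zcj277 : List (List (List ℕ)) :=
  [[W (nat_lit 0x44d11), [274]],
  [[272], [274]],
  [[272], [274]],
  [[272], [274]],
  [[272], [274]],
  [[272], [274]]]
noncomputable def cx4_E : List (ℕ × List CE) :=
  [(3, []),
  (3, []),
  (0, [⟨true, [], 1, [274]⟩, ⟨true, [], 1, []⟩]),
  (0, [⟨true, [], 1, []⟩, ⟨true, [], 1, [274]⟩]),
  (1, [ceD, ⟨false, [266], 0, []⟩]),
  (1, [ceD, ⟨false, [266], 0, []⟩]),
  (1, [ceD, ⟨false, [264], 0, [274]⟩]),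
  (1, [ceD, ⟨false, [264], 0, [274]⟩])]
noncomputable def cx4_R : List (List ℕ) :=
  [[],
  [272],
  [270],
  W (nat_lit 0x4450f),
  [264],
  W (nat_lit 0x43d09),
  W (nat_lit 0x42d09),
  W (nat_lit 0x10f42d09)]
noncomputable def zcj285 : List (List (List ℕ)) :=
  [[[274]],
  [[274]],
  [[274]],
  [[274]],
  [[274]],
  [[274]]]
noncomputable def cx5_E : List (ℕ × List CE) :=
  [(3, []),
  (0, [⟨true, [], 1, []⟩, ⟨true, [], 1, []⟩]),
  (0, [⟨true, [], 1, []⟩, ⟨true, [], 1, []⟩]),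
  (1, [ceD, ⟨false, [264], 0, []⟩]),
  (1, [ceD, ⟨false, [272], 0, []⟩]),
  (0, [⟨true, [], 1, []⟩, ⟨true, [], 1, []⟩]),
  (0, [⟨true, [], 1, []⟩, ⟨true, [], 1, []⟩]),
  (1, [ceD, ⟨false, [272], 0, []⟩])]
noncomputable def cx5_R : List (List ℕ) :=
  [[],
  [274],
  W (nat_lit 0x4450f),
  [264],
  W (nat_lit 0x10f42d09)]
noncomputable def cx6_F : List (List ℕ × ℕ × List ℕ) :=
  [([], 0, []),
  ([], 1, []),
  ([], 2, []),
  ([], 3, []),
  ([], 4, [])]
noncomputable def cx6_R : List (List ℕ) :=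
  [[], [100], W (nat_lit 0x691ac63), W (nat_lit 0x2403), W (nat_lit 0x3c65)]
noncomputable def zm296 : ℕ :=
  (nat_lit 0x3)
noncomputable def zm297 : ℕ :=
  (nat_lit 0x37205000003)
noncomputable def cJ_F : List (List ℕ × ℕ × ℕ) :=
  [([0], zm296, zm296),
  (W (nat_lit 0x401), zm297, zm297)]
noncomputable def cJG_v0 : Lev :=
  ⟨0, 42, sg (W (nat_lit 0x409014010340700c0101401)), [[26], [28]], 5, 2⟩
noncomputable def cJG_v1 : Lev :=
  ⟨2, 20, sg (W (nat_lit 0x741b06c1b0741b0741b)), [[60], [62], [64]], 22, 3⟩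
noncomputable def cJG_v2 : Lev :=
  ⟨16, 16, sg (W (nat_lit 0x3d0fc3d0fc3d)), [[288], [290], [292]], 136, 3⟩
noncomputable def cJG_v3 : Lev :=
  ⟨6, 9, sg (W (nat_lit 0x4852548d21)), [[292]], 139, 0⟩
noncomputable def cJG_v4 : Lev :=
  ⟨1, 2, sg [292], [], 139, 0⟩
noncomputable def cJG_vs5 : List Lev :=
  []
noncomputable def cJG_vs4 : List Lev :=
  cJG_v4 :: cJG_vs5
noncomputable def cJG_vs3 : List Lev :=
  cJG_v3 :: cJG_vs4
noncomputable def cJG_vs2 : List Lev :=
  cJG_v2 :: cJG_vs3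
noncomputable def cJG_vs1 : List Lev :=
  cJG_v1 :: cJG_vs2
noncomputable def cJG_vs : List Lev :=
  cJG_v0 :: cJG_vs1
noncomputable def cJ_x : List (ℕ × List ℕ) :=
  [((nat_lit 0), []),
  ((nat_lit 0), [(nat_lit 0x2ca4979b864)]),
  ((nat_lit 0), [(nat_lit 0x8800000020)]),
  ((nat_lit 0), [(nat_lit 0x2020150b040),
   (nat_lit 0x4000200800)]),
  ((nat_lit 0), [])]
noncomputable def cJ_G : Gl :=
  ⟨P, ns, (app D []), (diag [[22]]), [], [], memM (app D []) [[264], [266], [268], [270], [272], [274]], true⟩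
noncomputable def cJ_s : St :=
  ⟨(mkS P.n cJG_vs cJ_x), [[0], [2], [4], [6], [8], [10], [12], [14]], [], mapL Prod.snd cJ_F, memM (app D []) [[264], [266], [268], [270], [272], [274]], []⟩
noncomputable def zt301 : ST :=
  (.br 0 [W (nat_lit 0x45909)] [0] [(0, [])] (.cons (.orb 0 (.dif 0 3 (.br 0 [W (nat_lit 0x46d15), W (nat_lit 0x47d1b)] (W (nat_lit 0x4030040100c01)) [(2, [])] (.cons (.orb 0 (.img [0] 0 (.img [1] 2 (.dif 1 0 (.br 0 [W (nat_lit 0x4791b)] [0] [(16, [])] (.cons (.orb 0 (.orb 1 (.img [1] 0 (.and 2 0 (.dif 0 14 (.br 0 [] [] [(6, [])] (.cons (.dif 15 14 (.br 0 [] [] [(1, [])] (.cons .fnd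
 .nil)))
 .nil)))))))
 .nil))))))
 .nil))))
 .nil))
noncomputable def rGL : List (List ℕ × List ℕ) :=
  [([14, 16, 15], [4, 6, 17]),
  ([14, 18, 15], [16, 6, 17, 25]),
  ([8, 25, 25, 16, 9], [24, 24, 4]),
  ([14, 24, 18, 1, 16, 24, 1, 15], [16, 25, 4, 24, 18]),
  ([162, 18, 24, 18, 17, 19, 25, 18, 5, 163], [0, 18, 16, 6, 19, 0, 6, 17])]

theorem zb2 : schB D [[56], [58]] [] zus0 zF1 4 = true := by decide +kernel
theorem zr3 : chk (schR [[56], [58]] zus0 zF1) = true := by decide +kernel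
theorem zb7 : bnd (pcB D [[56], [58]] 3 zt5 zcj6) (leB (app D zE4) [[52], [54]] ([54] :: [[56], [58]])) = true := by decide +kernel
theorem zr8 : chk (pcR [[56], [58]] [54] 3 zt5 zcj6) = true := by decide +kernel
theorem zr9 : chk (defRels zE4) = true := by decide +kernel
theorem zb12 : schB D [[46], [48], [50]] [[52], [54]] zus10 zF11 4 = true := by decide +kernel
theorem zr13 : chk (schR [[46], [48], [50]] zus10 zF11) = true := by decide +kernel
theorem zb17 : bnd (pcB D [[46], [48], [50]] 2 zt15 zcj16) (leB (app D zE14) [[42], [44]] ([44] :: [[46], [48], [50]])) = true := by decide +kernel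
theorem zr18 : chk (pcR [[46], [48], [50]] [44] 2 zt15 zcj16) = true := by decide +kernel
theorem zr19 : chk (defRels zE14) = true := by decide +kernel
theorem zb22 : schB D [[36], [38], [40]] [[42], [44]] zus20 zF21 3 = true := by decide +kernel
theorem zr23 : chk (schR [[36], [38], [40]] zus20 zF21) = true := by decide +kernel
theorem zb26 : schB D [[30], [32], [34]] [[36], [38], [40]] zus24 zF25 4 = true := by decide +kernel
theorem zr27 : chk (schR [[30], [32], [34]] zus24 zF25) = true := by decide +kernel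
theorem zb30 : schB D [[26], [28]] [[30], [32], [34]] zus28 zF29 5 = true := by decide +kernel
theorem zr31 : chk (schR [[26], [28]] zus28 zF29) = true := by decide +kernel
theorem zc33 : P.chainB ns D G_vs [[0], [2], [4], [6], [8], [10], [12], [14]] = true := by decide +kernel
theorem zb35 : wdB D [[26], [28]] G_v1.nx zcj34 = true := by decide +kernel
theorem zr36 : chk (wdR G_v1.nx [1] zcj34) = true := by decide +kernel
theorem zc37 : P.chainB ns D G_w0_2_vs [[26], [28]] = true := by decide +kernel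
theorem zb39 : wdB D [[26], [28]] G_w0_2_v0.nx zcj38 = true := by decide +kernel
theorem zr40 : chk (wdR G_w0_2_v0.nx (W (nat_lit 0x206c1d0081b)) zcj38) = true := by decide +kernel
theorem zc41 : P.chainB ns D G_w0_3_vs [[26], [28]] = true := by decide +kernel
theorem zb43 : wdB D [[26], [28]] G_w0_3_v0.nx zcj42 = true := by decide +kernel
theorem zr44 : chk (wdR G_w0_3_v0.nx (W (nat_lit 0x20740207002)) zcj42) = true := by decide +kernel
theorem zb47 : bB P.n P.N ns (app D zE46) [[0], [2], [4], [6], [8], [10], [12], [14]] [[26], [28]] 0 zrs32 zB45 = true := by decide +kernel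
theorem zb48 : P.invSz ns [[0], [2], [4], [6], [8], [10], [12], [14]] 0 (orbM P.N ns G_v0) 42 = true := by decide +kernel
theorem zr49 : chk (bR 0 zrs32 zB45) = true := by decide +kernel
theorem zr50 : chk (defRels zE46) = true := by decide +kernel
theorem zb53 : schB D [[104], [106]] [] zus51 zF52 4 = true := by decide +kernel
theorem zr54 : chk (schR [[104], [106]] zus51 zF52) = true := by decide +kernel
theorem zb57 : schB D [[96], [98], [100], [102]] [[104], [106]] zus55 zF56 4 = true := by decide +kernel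
theorem zr58 : chk (schR [[96], [98], [100], [102]] zus55 zF56) = true := by decide +kernel
theorem zb62 : bnd (pcB D [[96], [98], [100], [102]] 3 zt60 zcj61) (leB (app D zE59) [[92], [88], [94]] ([94] :: [[96], [98], [100], [102]])) = true := by decide +kernel
theorem zr63 : chk (pcR [[96], [98], [100], [102]] [94] 3 zt60 zcj61) = true := by decide +kernel
theorem zr64 : chk (defRels zE59) = true := by decide +kernel
theorem zb67 : schB D [[88], [86], [90]] [[92], [88], [94]] zus65 zF66 4 = true := by decide +kernel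
theorem zr68 : chk (schR [[88], [86], [90]] zus65 zF66) = true := by decide +kernel
theorem zb71 : schB D [[84], [86]] [[88], [86], [90]] zus69 zF70 5 = true := by decide +kernel
theorem zr72 : chk (schR [[84], [86]] zus69 zF70) = true := by decide +kernel
theorem zb75 : schB D [[16], [18]] [[84], [86]] zus73 zF74 21 = true := by decide +kernel
theorem zr76 : chk (schR [[16], [18]] zus73 zF74) = true := by decide +kernel
theorem zc77 : P.chainB ns D L_vs [[16], [18]] = true := by decide +kernel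
theorem zm79 : nrmB D [[0], [2], [4], [6], [8], [10], [12], [14]] [[16], [18]] zcj78 = true := by decide +kernel
theorem zr80 : chk (nrmR [[0], [2], [4], [6], [8], [10], [12], [14]] [[16], [18]] zcj78) = true := by decide +kernel
theorem zl83 : zK82.relB CL.ONT.G.P CL.Std.L34.P CL.ONT.G.ns [[108], [110]] [[0], [2]] = true := by decide +kernel
theorem zl84 : allL (zK82.pl CL.ONT.G.P CL.Std.L34.P CL.ONT.G.ns CL.Std.L34.ns 0) (zp [] [[108], [110]] [[0], [2]]) = true := by decide +kernel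
theorem zm86 : leB D zts85 [[108], [110]] = true := by decide +kernel
theorem zr87 : chk (zp [] [[16], [18]] zts85) = true := by decide +kernel
theorem zm89 : leB D zts88 [[16], [18]] = true := by decide +kernel
theorem zr90 : chk (zp [] [[108], [110]] zts88) = true := by decide +kernel
theorem zf93 : P.fixXB ns (diag [[16], [18]]) cL_F = true := by decide +kernel
theorem zc94 : P.chainB ns D cLG_vs [[0], [2], [4], [6], [8], [10], [12], [14]] = true := by decide +kernel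
theorem zs95 : ssB P.N ns D (mkS P.n cLG_vs cL_x) [[0], [2], [4], [6], [8], [10], [12], [14]] = true := by decide +kernel
theorem zs97 : cL_G.chk zt96 cL_s none = true := by decide +kernel
theorem zr98 : chk (comR [] (mapL Prod.snd (diag [[16], [18]]))) = true := by decide +kernel
theorem zm99 : leB D [] [[0], [2], [4], [6], [8], [10], [12], [14]] = true := by decide +kernel
theorem zc100 : P.chainB ns D R_vs [[0], [2], [4], [6], [8]] = true := by decide +kernel
theorem zm101 : leB D [[0], [2], [4], [6], [8]] [[0], [2], [4], [6], [8], [10], [16], [18], [20], [22], [24]] = true := by decide +kernel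
theorem zc102 : P.chainB ns D S_vs [[166], [168], [170], [172], [174], [176], [178], [180]] = true := by decide +kernel
theorem zr103 : chk (pcsR S_ps []) = true := by decide +kernel
theorem zb104 : bnd (pcsB D S_ps []) (leB (app D []) [[166], [168], [170], [172], [174], [176], [178], [180]] (pcGens S_ps [])) = true := by decide +kernel
theorem zq105 : cvN 2 [166] [[]] cv0_E = cv0_R := by decide +kernel
theorem zr106 : chk (cvR 4 2 [166] [[]] cv0_E) = true := by decide +kernel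
theorem zb107 : cvB D [[166], [168], [170], [172], [174], [176], [178], [180]] [[168], [170], [172], [174], [176], [178], [180]] 2 [166] [[]] cv0_E = true := by decide +kernel
theorem zm109 : nrmB D [[166], [168], [170], [172], [174], [176], [178], [180]] [[168], [170], [172], [174], [176], [178], [180]] zcj108 = true := by decide +kernel
theorem zr110 : chk (nrmR [[166], [168], [170], [172], [174], [176], [178], [180]] [[168], [170], [172], [174], [176], [178], [180]] zcj108) = true := by decide +kernel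
theorem zm111 : leB D [[168], [170], [172], [174], [176], [178], [180]] [[166], [168], [170], [172], [174], [176], [178], [180]] = true := by decide +kernel
theorem zq112 : cvN 2 [168] cv0_R cv1_E = cv1_R := by decide +kernel
theorem zr113 : chk (cvR 4 2 [168] cv0_R cv1_E) = true := by decide +kernel
theorem zb114 : cvB D [[166], [168], [170], [172], [174], [176], [178], [180]] [[170], [172], [174], [176], [178], [180]] 2 [168] cv0_R cv1_E = true := by decide +kernel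
theorem zm116 : nrmB D [[166], [168], [170], [172], [174], [176], [178], [180]] [[170], [172], [174], [176], [178], [180]] zcj115 = true := by decide +kernel
theorem zr117 : chk (nrmR [[166], [168], [170], [172], [174], [176], [178], [180]] [[170], [172], [174], [176], [178], [180]] zcj115) = true := by decide +kernel
theorem zm118 : leB D [[170], [172], [174], [176], [178], [180]] [[166], [168], [170], [172], [174], [176], [178], [180]] = true := by decide +kernel
theorem zq119 : cvN 2 [170] cv1_R cv2_E = cv2_R := by decide +kernel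
theorem zr120 : chk (cvR 4 2 [170] cv1_R cv2_E) = true := by decide +kernel
theorem zb121 : cvB D [[166], [168], [170], [172], [174], [176], [178], [180]] [[172], [174], [176], [178], [180]] 2 [170] cv1_R cv2_E = true := by decide +kernel
theorem zm123 : nrmB D [[166], [168], [170], [172], [174], [176], [178], [180]] [[172], [174], [176], [178], [180]] zcj122 = true := by decide +kernel
theorem zr124 : chk (nrmR [[166], [168], [170], [172], [174], [176], [178], [180]] [[172], [174], [176], [178], [180]] zcj122) = true := by decide +kernel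
theorem zm125 : leB D [[172], [174], [176], [178], [180]] [[166], [168], [170], [172], [174], [176], [178], [180]] = true := by decide +kernel
theorem zq126 : cvN 2 [172] cv2_R cv3_E = cv3_R := by decide +kernel
theorem zr127 : chk (cvR 4 2 [172] cv2_R cv3_E) = true := by decide +kernel
theorem zb128 : cvB D [[166], [168], [170], [172], [174], [176], [178], [180]] [[174], [176], [178], [180]] 2 [172] cv2_R cv3_E = true := by decide +kernel
theorem zm130 : nrmB D [[166], [168], [170], [172], [174], [176], [178], [180]] [[174], [176], [178], [180]] zcj129 = true := by decide +kernel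
theorem zr131 : chk (nrmR [[166], [168], [170], [172], [174], [176], [178], [180]] [[174], [176], [178], [180]] zcj129) = true := by decide +kernel
theorem zm132 : leB D [[174], [176], [178], [180]] [[166], [168], [170], [172], [174], [176], [178], [180]] = true := by decide +kernel
theorem zq133 : cvN 2 [174] cv3_R cv4_E = cv4_R := by decide +kernel
theorem zr134 : chk (cvR 4 2 [174] cv3_R cv4_E) = true := by decide +kernel
theorem zb135 : cvB D [[166], [168], [170], [172], [174], [176], [178], [180]] [[176], [178], [180]] 2 [174] cv3_R cv4_E = true := by decide +kernel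
theorem zm137 : nrmB D [[166], [168], [170], [172], [174], [176], [178], [180]] [[176], [178], [180]] zcj136 = true := by decide +kernel
theorem zr138 : chk (nrmR [[166], [168], [170], [172], [174], [176], [178], [180]] [[176], [178], [180]] zcj136) = true := by decide +kernel
theorem zm139 : leB D [[176], [178], [180]] [[166], [168], [170], [172], [174], [176], [178], [180]] = true := by decide +kernel
theorem zq140 : cvN 2 [176] cv4_R cv5_E = cv5_R := by decide +kernel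
theorem zr141 : chk (cvR 4 2 [176] cv4_R cv5_E) = true := by decide +kernel
theorem zb142 : cvB D [[166], [168], [170], [172], [174], [176], [178], [180]] [[178], [180]] 2 [176] cv4_R cv5_E = true := by decide +kernel
theorem zm144 : nrmB D [[166], [168], [170], [172], [174], [176], [178], [180]] [[178], [180]] zcj143 = true := by decide +kernel
theorem zr145 : chk (nrmR [[166], [168], [170], [172], [174], [176], [178], [180]] [[178], [180]] zcj143) = true := by decide +kernel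
theorem zm146 : leB D [[178], [180]] [[166], [168], [170], [172], [174], [176], [178], [180]] = true := by decide +kernel
theorem zq147 : cvN 2 [178] cv5_R cv6_E = cv6_R := by decide +kernel
theorem zr148 : chk (cvR 4 2 [178] cv5_R cv6_E) = true := by decide +kernel
theorem zb149 : cvB D [[166], [168], [170], [172], [174], [176], [178], [180]] [[180]] 2 [178] cv5_R cv6_E = true := by decide +kernel
theorem zm151 : nrmB D [[166], [168], [170], [172], [174], [176], [178], [180]] [[180]] zcj150 = true := by decide +kernel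
theorem zr152 : chk (nrmR [[166], [168], [170], [172], [174], [176], [178], [180]] [[180]] zcj150) = true := by decide +kernel
theorem zm153 : leB D [[180]] [[166], [168], [170], [172], [174], [176], [178], [180]] = true := by decide +kernel
theorem zq154 : cvN 2 [180] cv6_R cv7_E = cv7_R := by decide +kernel
theorem zr155 : chk (cvR 4 2 [180] cv6_R cv7_E) = true := by decide +kernel
theorem zb156 : cvB D [[166], [168], [170], [172], [174], [176], [178], [180]] [] 2 [180] cv6_R cv7_E = true := by decide +kernel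
theorem zr157 : chk (fuR cv7_R cv8_R cv8_F) = true := by decide +kernel
theorem zb158 : fuB D [[0], [2], [4], [6], [8], [10], [12], [14]] [] cv7_R cv8_R cv8_F = true := by decide +kernel
theorem zc159 : P.chainB ns D T_vs [[200], [96], [202], [204], [206], [100]] = true := by decide +kernel
theorem zr160 : chk (pcsR T_ps []) = true := by decide +kernel
theorem zb161 : bnd (pcsB D T_ps []) (leB (app D []) [[200], [96], [202], [204], [206], [100]] (pcGens T_ps [])) = true := by decide +kernel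
theorem zq162 : cvN 2 [200] [[]] cw0_E = cw0_R := by decide +kernel
theorem zr163 : chk (cvR 2 2 [200] [[]] cw0_E) = true := by decide +kernel
theorem zb164 : cvB D [[200], [96], [202], [204], [206], [100]] [[96], [202], [204], [206], [100]] 2 [200] [[]] cw0_E = true := by decide +kernel
theorem zm165 : leB D [[200], [96], [202], [204], [206], [100]] [[16], [18]] = true := by decide +kernel
theorem zm167 : nrmB D [[200], [96], [202], [204], [206], [100]] [[96], [202], [204], [206], [100]] zcj166 = true := by decide +kernel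
theorem zr168 : chk (nrmR [[200], [96], [202], [204], [206], [100]] [[96], [202], [204], [206], [100]] zcj166) = true := by decide +kernel
theorem zm169 : leB D [[96], [202], [204], [206], [100]] [[200], [96], [202], [204], [206], [100]] = true := by decide +kernel
theorem zq170 : cvN 2 [96] cw0_R cw1_E = cw1_R := by decide +kernel
theorem zr171 : chk (cvR 2 2 [96] cw0_R cw1_E) = true := by decide +kernel
theorem zb172 : cvB D [[200], [96], [202], [204], [206], [100]] [[202], [204], [206], [100]] 2 [96] cw0_R cw1_E = true := by decide +kernel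
theorem zm173 : leB D [[200], [96], [202], [204], [206], [100]] [[16], [18]] = true := by decide +kernel
theorem zm175 : nrmB D [[200], [96], [202], [204], [206], [100]] [[202], [204], [206], [100]] zcj174 = true := by decide +kernel
theorem zr176 : chk (nrmR [[200], [96], [202], [204], [206], [100]] [[202], [204], [206], [100]] zcj174) = true := by decide +kernel
theorem zm177 : leB D [[202], [204], [206], [100]] [[200], [96], [202], [204], [206], [100]] = true := by decide +kernel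
theorem zq178 : cvN 2 [202] cw1_R cw2_E = cw2_R := by decide +kernel
theorem zr179 : chk (cvR 2 2 [202] cw1_R cw2_E) = true := by decide +kernel
theorem zb180 : cvB D [[200], [96], [202], [204], [206], [100]] [[204], [206], [100]] 2 [202] cw1_R cw2_E = true := by decide +kernel
theorem zm181 : leB D [[200], [96], [202], [204], [206], [100]] [[16], [18]] = true := by decide +kernel
theorem zm183 : nrmB D [[200], [96], [202], [204], [206], [100]] [[204], [206], [100]] zcj182 = true := by decide +kernel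
theorem zr184 : chk (nrmR [[200], [96], [202], [204], [206], [100]] [[204], [206], [100]] zcj182) = true := by decide +kernel
theorem zm185 : leB D [[204], [206], [100]] [[200], [96], [202], [204], [206], [100]] = true := by decide +kernel
theorem zq186 : cvN 2 [204] cw2_R cw3_E = cw3_R := by decide +kernel
theorem zr187 : chk (cvR 2 2 [204] cw2_R cw3_E) = true := by decide +kernel
theorem zb188 : cvB D [[200], [96], [202], [204], [206], [100]] [[206], [100]] 2 [204] cw2_R cw3_E = true := by decide +kernel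
theorem zm189 : leB D [[200], [96], [202], [204], [206], [100]] [[16], [18]] = true := by decide +kernel
theorem zm191 : nrmB D [[200], [96], [202], [204], [206], [100]] [[206], [100]] zcj190 = true := by decide +kernel
theorem zr192 : chk (nrmR [[200], [96], [202], [204], [206], [100]] [[206], [100]] zcj190) = true := by decide +kernel
theorem zm193 : leB D [[206], [100]] [[200], [96], [202], [204], [206], [100]] = true := by decide +kernel
theorem zq194 : cvN 2 [206] cw3_R cw4_E = cw4_R := by decide +kernel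
theorem zr195 : chk (cvR 2 2 [206] cw3_R cw4_E) = true := by decide +kernel
theorem zb196 : cvB D [[200], [96], [202], [204], [206], [100]] [[100]] 2 [206] cw3_R cw4_E = true := by decide +kernel
theorem zm197 : leB D [[200], [96], [202], [204], [206], [100]] [[16], [18]] = true := by decide +kernel
theorem zm199 : nrmB D [[200], [96], [202], [204], [206], [100]] [[100]] zcj198 = true := by decide +kernel
theorem zr200 : chk (nrmR [[200], [96], [202], [204], [206], [100]] [[100]] zcj198) = true := by decide +kernel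
theorem zm201 : leB D [[100]] [[200], [96], [202], [204], [206], [100]] = true := by decide +kernel
theorem zq202 : cvN 2 [100] cw4_R cw5_E = cw5_R := by decide +kernel
theorem zr203 : chk (cvR 2 2 [100] cw4_R cw5_E) = true := by decide +kernel
theorem zb204 : cvB D [[200], [96], [202], [204], [206], [100]] [] 2 [100] cw4_R cw5_E = true := by decide +kernel
theorem zm205 : leB D [[200], [96], [202], [204], [206], [100]] [[16], [18]] = true := by decide +kernel
theorem zr206 : chk (fuR cw5_R cw6_R cw6_F) = true := by decide +kernel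
theorem zb207 : fuB D [[16], [18]] [] cw5_R cw6_R cw6_F = true := by decide +kernel
theorem zm208 : leB D [[16], [18]] [[16], [18]] = true := by decide +kernel
theorem zr209 : chk (comR [[200], [96], [202], [204], [206], [100]] [[2]]) = true := by decide +kernel
theorem zm210 : leB D [[200], [96], [202], [204], [206], [100]] [[16], [18]] = true := by decide +kernel
theorem zr211 : chk (pcsR C0_ps []) = true := by decide +kernel
theorem zb212 : bnd (pcsB D C0_ps []) (leB (app D []) [[212], [214]] (pcGens C0_ps [])) = true := by decide +kernel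
theorem zc213 : P.chainB ns D C0_vs [[212], [214]] = true := by decide +kernel
theorem zf216 : P.fixXB ns (diag [[22]]) cc0_F = true := by decide +kernel
theorem zc217 : P.chainB ns D cc0G_vs [[16], [18]] = true := by decide +kernel
theorem zs218 : ssB P.N ns D (mkS P.n cc0G_vs cc0_x) [[16], [18]] = true := by decide +kernel
theorem zs220 : cc0_G.chk zt219 cc0_s none = true := by decide +kernel
theorem zr221 : chk (comR [[212], [214]] (mapL Prod.snd (diag [[22]]))) = true := by decide +kernel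
theorem zm222 : leB D [[212], [214]] [[16], [18]] = true := by decide +kernel
theorem zr223 : chk (pcsR C1_ps []) = true := by decide +kernel
theorem zb224 : bnd (pcsB D C1_ps []) (leB (app D []) [[230], [232]] (pcGens C1_ps [])) = true := by decide +kernel
theorem zc225 : P.chainB ns D C1_vs [[230], [232]] = true := by decide +kernel
theorem zf228 : P.fixXB ns (diag [[164]]) cc1_F = true := by decide +kernel
theorem zc229 : P.chainB ns D cc1G_vs [[16], [18]] = true := by decide +kernel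
theorem zs230 : ssB P.N ns D (mkS P.n cc1G_vs cc1_x) [[16], [18]] = true := by decide +kernel
theorem zs232 : cc1_G.chk zt231 cc1_s none = true := by decide +kernel
theorem zr233 : chk (comR [[230], [232]] (mapL Prod.snd (diag [[164]]))) = true := by decide +kernel
theorem zm234 : leB D [[230], [232]] [[16], [18]] = true := by decide +kernel
theorem zr235 : chk (pcsR C2_ps []) = true := by decide +kernel
theorem zb236 : bnd (pcsB D C2_ps []) (leB (app D []) [[250], [252]] (pcGens C2_ps [])) = true := by decide +kernel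
theorem zc237 : P.chainB ns D C2_vs [[250], [252]] = true := by decide +kernel
theorem zf239 : P.fixXB ns (diag [[0]]) cc2_F = true := by decide +kernel
theorem zc240 : P.chainB ns D cc2G_vs [[16], [18]] = true := by decide +kernel
theorem zs241 : ssB P.N ns D (mkS P.n cc2G_vs cc2_x) [[16], [18]] = true := by decide +kernel
theorem zs243 : cc2_G.chk zt242 cc2_s none = true := by decide +kernel
theorem zr244 : chk (comR [[250], [252]] (mapL Prod.snd (diag [[0]]))) = true := by decide +kernel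
theorem zm245 : leB D [[250], [252]] [[16], [18]] = true := by decide +kernel
theorem zc246 : P.chainB ns D J_vs [[264], [266], [268], [270], [272], [274]] = true := by decide +kernel
theorem zr247 : chk (pcsR J_ps []) = true := by decide +kernel
theorem zb248 : bnd (pcsB D J_ps []) (leB (app D []) [[264], [266], [268], [270], [272], [274]] (pcGens J_ps [])) = true := by decide +kernel
theorem zq249 : cvN 2 [264] [[]] cx0_E = cx0_R := by decide +kernel
theorem zr250 : chk (cvR 2 2 [264] [[]] cx0_E) = true := by decide +kernel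
theorem zb251 : cvB D [[264], [266], [268], [270], [272], [274]] [[266], [268], [270], [272], [274]] 2 [264] [[]] cx0_E = true := by decide +kernel
theorem zm252 : leB D [[264], [266], [268], [270], [272], [274]] [[264], [266], [268], [270], [272], [274]] = true := by decide +kernel
theorem zm254 : nrmB D [[264], [266], [268], [270], [272], [274]] [[266], [268], [270], [272], [274]] zcj253 = true := by decide +kernel
theorem zr255 : chk (nrmR [[264], [266], [268], [270], [272], [274]] [[266], [268], [270], [272], [274]] zcj253) = true := by decide +kernel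
theorem zm256 : leB D [[266], [268], [270], [272], [274]] [[264], [266], [268], [270], [272], [274]] = true := by decide +kernel
theorem zq257 : cvN 2 [266] cx0_R cx1_E = cx1_R := by decide +kernel
theorem zr258 : chk (cvR 2 2 [266] cx0_R cx1_E) = true := by decide +kernel
theorem zb259 : cvB D [[264], [266], [268], [270], [272], [274]] [[268], [270], [272], [274]] 2 [266] cx0_R cx1_E = true := by decide +kernel
theorem zm260 : leB D [[264], [266], [268], [270], [272], [274]] [[264], [266], [268], [270], [272], [274]] = true := by decide +kernel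
theorem zm262 : nrmB D [[264], [266], [268], [270], [272], [274]] [[268], [270], [272], [274]] zcj261 = true := by decide +kernel
theorem zr263 : chk (nrmR [[264], [266], [268], [270], [272], [274]] [[268], [270], [272], [274]] zcj261) = true := by decide +kernel
theorem zm264 : leB D [[268], [270], [272], [274]] [[264], [266], [268], [270], [272], [274]] = true := by decide +kernel
theorem zq265 : cvN 2 [268] cx1_R cx2_E = cx2_R := by decide +kernel
theorem zr266 : chk (cvR 2 2 [268] cx1_R cx2_E) = true := by decide +kernel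
theorem zb267 : cvB D [[264], [266], [268], [270], [272], [274]] [[270], [272], [274]] 2 [268] cx1_R cx2_E = true := by decide +kernel
theorem zm268 : leB D [[264], [266], [268], [270], [272], [274]] [[264], [266], [268], [270], [272], [274]] = true := by decide +kernel
theorem zm270 : nrmB D [[264], [266], [268], [270], [272], [274]] [[270], [272], [274]] zcj269 = true := by decide +kernel
theorem zr271 : chk (nrmR [[264], [266], [268], [270], [272], [274]] [[270], [272], [274]] zcj269) = true := by decide +kernel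
theorem zm272 : leB D [[270], [272], [274]] [[264], [266], [268], [270], [272], [274]] = true := by decide +kernel
theorem zq273 : cvN 2 [270] cx2_R cx3_E = cx3_R := by decide +kernel
theorem zr274 : chk (cvR 2 2 [270] cx2_R cx3_E) = true := by decide +kernel
theorem zb275 : cvB D [[264], [266], [268], [270], [272], [274]] [[272], [274]] 2 [270] cx2_R cx3_E = true := by decide +kernel
theorem zm276 : leB D [[264], [266], [268], [270], [272], [274]] [[264], [266], [268], [270], [272], [274]] = true := by decide +kernel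
theorem zm278 : nrmB D [[264], [266], [268], [270], [272], [274]] [[272], [274]] zcj277 = true := by decide +kernel
theorem zr279 : chk (nrmR [[264], [266], [268], [270], [272], [274]] [[272], [274]] zcj277) = true := by decide +kernel
theorem zm280 : leB D [[272], [274]] [[264], [266], [268], [270], [272], [274]] = true := by decide +kernel
theorem zq281 : cvN 2 [272] cx3_R cx4_E = cx4_R := by decide +kernel
theorem zr282 : chk (cvR 2 2 [272] cx3_R cx4_E) = true := by decide +kernel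
theorem zb283 : cvB D [[264], [266], [268], [270], [272], [274]] [[274]] 2 [272] cx3_R cx4_E = true := by decide +kernel
theorem zm284 : leB D [[264], [266], [268], [270], [272], [274]] [[264], [266], [268], [270], [272], [274]] = true := by decide +kernel
theorem zm286 : nrmB D [[264], [266], [268], [270], [272], [274]] [[274]] zcj285 = true := by decide +kernel
theorem zr287 : chk (nrmR [[264], [266], [268], [270], [272], [274]] [[274]] zcj285) = true := by decide +kernel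
theorem zm288 : leB D [[274]] [[264], [266], [268], [270], [272], [274]] = true := by decide +kernel
theorem zq289 : cvN 2 [274] cx4_R cx5_E = cx5_R := by decide +kernel
theorem zr290 : chk (cvR 2 2 [274] cx4_R cx5_E) = true := by decide +kernel
theorem zb291 : cvB D [[264], [266], [268], [270], [272], [274]] [] 2 [274] cx4_R cx5_E = true := by decide +kernel
theorem zm292 : leB D [[264], [266], [268], [270], [272], [274]] [[264], [266], [268], [270], [272], [274]] = true := by decide +kernel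
theorem zr293 : chk (fuR cx5_R cx6_R cx6_F) = true := by decide +kernel
theorem zb294 : fuB D [[264], [266], [268], [270], [272], [274]] [] cx5_R cx6_R cx6_F = true := by decide +kernel
theorem zm295 : leB D [[264], [266], [268], [270], [272], [274]] [[264], [266], [268], [270], [272], [274]] = true := by decide +kernel
theorem zf298 : P.fixXB ns (diag [[22]]) cJ_F = true := by decide +kernel
theorem zc299 : P.chainB ns D cJG_vs [[0], [2], [4], [6], [8], [10], [12], [14]] = true := by decide +kernel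
theorem zs300 : ssB P.N ns D (mkS P.n cJG_vs cJ_x) [[0], [2], [4], [6], [8], [10], [12], [14]] = true := by decide +kernel
theorem zs302 : cJ_G.chk zt301 cJ_s none = true := by decide +kernel
theorem zr303 : chk (comR [[264], [266], [268], [270], [272], [274]] (mapL Prod.snd (diag [[22]]))) = true := by decide +kernel
theorem zm304 : leB D [[264], [266], [268], [270], [272], [274]] [[0], [2], [4], [6], [8], [10], [12], [14]] = true := by decide +kernel
theorem zm305 : leB D [[212], [214]] [[16], [18]] = true := by decide +kernel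
theorem zm306 : leB D [[100], [98, 106, 104]] [[16], [18]] = true := by decide +kernel
theorem zm307 : leB D [[100]] [[16], [18]] = true := by decide +kernel
theorem zn308 : movB P.n P.N ns [17, 24, 24, 24, 24, 4] 0 = true := by decide +kernel
theorem zn309 : movB P.n P.N ns [0, 25, 17, 0, 19, 25, 16, 25, 4, 24, 18] 1 = true := by decide +kernel
theorem zn310 : movB P.n P.N ns [4, 19, 24, 18, 16, 19, 25, 19, 0, 18, 16, 6, 19, 0, 6, 17] 2 = true := by decide +kernel
theorem zr311 : chk rGL = true := by decide +kernel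
theorem zr312 : chk [([20], [])] = true := by decide +kernel
theorem zr313 : chk [([2, 2], [])] = true := by decide +kernel
theorem zr314 : chk [([8, 8], [])] = true := by decide +kernel
theorem zr315 : chk [([14, 14], [])] = true := by decide +kernel
theorem zr316 : chk [([162, 162], [])] = true := by decide +kernel
theorem zn317 : movB P.n P.N ns [22, 22] 2 = true := by decide +kernel
theorem zn318 : movB P.n P.N ns [164, 164] 1 = true := by decide +kernel
theorem zn319 : movB P.n P.N ns [0, 0] 2 = true := by decide +kernel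
theorem zk320 : allL (keepB P.n P.N) ns0 = true := by decide +kernel
theorem ze321 : extB ns0 ns 8 ws [] = true := by decide +kernel
theorem zn322 : P.netsB ns (mkDefs ws 8) = true := by decide +kernel

variable {G X : Type*} [Group G] [MulAction G X] {e : ℕ → X} {gs : List G}

theorem keep0 : allL (keepB P.n P.N) ns0 = true := zk320

theorem len {k} (c : Ctx P e gs ns0 [] k) : gs.length = 8 := c.len ze321

theorem ctx0 {k} (c : Ctx P e gs ns0 [] k) : Ctx P e (ext gs ws) ns D chk0 :=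
  c.ext rfl ze321 zn322

theorem ctx {k} (c : Ctx P e gs ns0 [] k) {H : Subgroup G} (hF : Faithful e P.n H) (hH : ∀ g ∈ gs, g ∈ H) :
    Ctx P e (ext gs ws) ns D chk :=
  (ctx0 c).withB hF (mem_of_mem_ext hH _)

instance instNe : NeZero P.n := ⟨by decide⟩
noncomputable def gs0 : List (Equiv.Perm (Fin P.n)) := permsOf P.n P.N ns0
noncomputable def gs1 : List (Equiv.Perm (Fin P.n)) := ext gs0 ws
theorem c1 : Ctx P (eF P.n) gs1 ns D chk :=
  ctx (ctx_permsOf hP keep0) (faithful_eF _) fun _ _ => trivial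

abbrev R0 : List (List ℕ) := [[100], [98, 106, 104]]
abbrev R1 : List (List ℕ) := [[2, 8]]
abbrev R2 : List (List ℕ) := [[100]]

abbrev lS : List (List ℕ) := [[166], [168], [170], [172], [174], [176], [178], [180]]

theorem G_u7 (c : Ctx P e gs ns D chk) :
    UB (subW gs [[56], [58]]) 4 :=
  (c.sch_step (UB.nil gs)
    (c.rels _ zr3) zb2).le (by decide)

theorem G_u6 (c : Ctx P e gs ns D chk) :
    UB (subW gs [[52], [54]]) 12 :=
  (c.pc_step (G_u7 c) (c.rels _ zr9)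
    (c.rels _ zr8) zb7).le (by decide)

theorem G_u5 (c : Ctx P e gs ns D chk) :
    UB (subW gs [[46], [48], [50]]) 48 :=
  (c.sch_step (G_u6 c)
    (c.rels _ zr13) zb12).le (by decide)

theorem G_u4 (c : Ctx P e gs ns D chk) :
    UB (subW gs [[42], [44]]) 96 :=
  (c.pc_step (G_u5 c) (c.rels _ zr19)
    (c.rels _ zr18) zb17).le (by decide)

theorem G_u3 (c : Ctx P e gs ns D chk) :
    UB (subW gs [[36], [38], [40]]) 288 :=
  (c.sch_step (G_u4 c)
    (c.rels _ zr23) zb22).le (by decide)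

theorem G_u2 (c : Ctx P e gs ns D chk) :
    UB (subW gs [[30], [32], [34]]) 1152 :=
  (c.sch_step (G_u3 c)
    (c.rels _ zr27) zb26).le (by decide)

theorem G_u1 (c : Ctx P e gs ns D chk) :
    UB (subW gs [[26], [28]]) 5760 :=
  (c.sch_step (G_u2 c)
    (c.rels _ zr31) zb30).le (by decide)

theorem G_c : P.chainB ns D G_vs [[0], [2], [4], [6], [8], [10], [12], [14]] = true :=
  zc33

theorem G_o : prodL G_vs 1 = 241920 := by decide +kernel

theorem G_w0_2_c : P.chainB ns D G_w0_2_vs [[26], [28]] = true :=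
  zc37

theorem G_w0_2_o : prodL G_w0_2_vs 1 = 5760 := by decide +kernel

theorem G_w0_3_c : P.chainB ns D G_w0_3_vs [[26], [28]] = true :=
  zc41

theorem G_w0_3_o : prodL G_w0_3_vs 1 = 5760 := by decide +kernel

theorem G_u0w (c : Ctx P e gs ns D chk) :
    AllWd e gs [[26], [28]] zrs32 :=
  ⟨c.wd (v := G_v1) (vs := G_vs2) (G_u1 c) (Par.chainB_tail G_c) (by decide +kernel)
      (c.rels _ zr36) zb35,
    ⟨c.wd (v := G_w0_2_v0) (vs := G_w0_2_vs1) (G_u1 c) G_w0_2_c G_w0_2_o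
      (c.rels _ zr40) zb39,
    ⟨c.wd (v := G_w0_3_v0) (vs := G_w0_3_vs1) (G_u1 c) G_w0_3_c G_w0_3_o
      (c.rels _ zr44) zb43,
    trivial⟩⟩⟩

theorem G_u0 (c : Ctx P e gs ns D chk) :
    UB (subW gs [[0], [2], [4], [6], [8], [10], [12], [14]]) 241920 :=
  (c.b_step (G_u1 c) (G_u0w c) (c.rels _ zr50)
    (c.rels _ zr49) zb47 zb48).le (by decide)

theorem G_ub (c : Ctx P e gs ns D chk) :
    UB (subW gs [[0], [2], [4], [6], [8], [10], [12], [14]]) 241920 :=
  (G_u0 c)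

theorem G_ex (c : Ctx P e gs ns D chk) :
    Exact e P.n P.N gs ns 1 G_vs [[0], [2], [4], [6], [8], [10], [12], [14]] :=
  c.exact G_c G_o (G_ub c)

theorem G_card (c : Ctx P e gs ns D chk) :
    Nat.card (subW gs [[0], [2], [4], [6], [8], [10], [12], [14]]) = 241920 :=
  (G_ex c).card.trans G_o

theorem L_u5 (c : Ctx P e gs ns D chk) :
    UB (subW gs [[104], [106]]) 4 :=
  (c.sch_step (UB.nil gs)
    (c.rels _ zr54) zb53).le (by decide)

theorem L_u4 (c : Ctx P e gs ns D chk) :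
    UB (subW gs [[96], [98], [100], [102]]) 16 :=
  (c.sch_step (L_u5 c)
    (c.rels _ zr58) zb57).le (by decide)

theorem L_u3 (c : Ctx P e gs ns D chk) :
    UB (subW gs [[92], [88], [94]]) 48 :=
  (c.pc_step (L_u4 c) (c.rels _ zr64)
    (c.rels _ zr63) zb62).le (by decide)

theorem L_u2 (c : Ctx P e gs ns D chk) :
    UB (subW gs [[88], [86], [90]]) 192 :=
  (c.sch_step (L_u3 c)
    (c.rels _ zr68) zb67).le (by decide)

theorem L_u1 (c : Ctx P e gs ns D chk) :
    UB (subW gs [[84], [86]]) 960 :=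
  (c.sch_step (L_u2 c)
    (c.rels _ zr72) zb71).le (by decide)

theorem L_u0 (c : Ctx P e gs ns D chk) :
    UB (subW gs [[16], [18]]) 20160 :=
  (c.sch_step (L_u1 c)
    (c.rels _ zr76) zb75).le (by decide)

theorem L_ub (c : Ctx P e gs ns D chk) :
    UB (subW gs [[16], [18]]) 20160 :=
  (L_u0 c)

theorem L_c : P.chainB ns D L_vs [[16], [18]] = true :=
  zc77

theorem L_o : prodL L_vs 1 = 20160 := by decide +kernel

theorem L_ex (c : Ctx P e gs ns D chk) :
    Exact e P.n P.N gs ns 1 L_vs [[16], [18]] :=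
  c.exact L_c L_o (L_ub c)

theorem L_card (c : Ctx P e gs ns D chk) :
    Nat.card (subW gs [[16], [18]]) = 20160 :=
  (L_ex c).card.trans L_o

theorem nL (c : Ctx P e gs ns D chk) :
    (subW gs [[0], [2], [4], [6], [8], [10], [12], [14]]) ≤ Subgroup.normalizer (subW gs [[16], [18]] : Set G) :=
  have hfin : Finite (subW gs [[16], [18]]) := (L_ub c).1
  (c.le_normalizer (cj := zcj78) hfin (c.rels _ zr80) zm79)

theorem isoL_r {Γ Y : Type*} [Group Γ] [MulAction Γ Y] {e' : ℕ → Y} {cs : List Γ} {D₁ D₂ : List (ℕ × List ℕ)}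
    {k₁ k₂ : List (List ℕ × List ℕ) → Bool} (c : Ctx CL.ONT.G.P e gs CL.ONT.G.ns D₁ k₁) (c' : Ctx CL.Std.L34.P e' cs CL.Std.L34.ns D₂ k₂)
    (hF : Faithful e' CL.Std.L34.P.n (subW cs [[0], [2]])) :
    RelLe gs [[108], [110]] cs [[0], [2]] :=
  c.relLe (K := zK82) c' hF zl83 (fun (t : ℕ) (ht : t < 1) => match t, ht with
    | 0, _ => zl84
    | t + 1, h => absurd h (by omega))

theorem isoL_e (c : Ctx P e gs ns D chk) :
    subW gs (app [[108], [110]] []) = (subW gs [[16], [18]]) :=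
  le_antisymm (c.le_of_rels (ws := [[108], [110]]) (l := [[16], [18]]) (c.rels _ zr90) zm89) (c.le_of_rels (ws := [[16], [18]]) (l := [[108], [110]]) (c.rels _ zr87) zm86)

theorem isoL (c : Ctx P e gs ns D chk) :
    Nonempty ((subW gs [[16], [18]]) ≃* (subW CL.Std.L34.gs1 [[0], [2]])) :=
  (RelLe.quo' (l := [[108], [110]]) (lQ := []) (isoL_r c CL.Std.L34.c1 ((faithful_eF _).mono le_top)) (by decide) (isoL_e c) (a := 1) (b := 20160) (L_ub c)
    (LB.one _) (LB.of_card CL.Std.L34.card)).equiv_nil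

theorem cLG_c : P.chainB ns D cLG_vs [[0], [2], [4], [6], [8], [10], [12], [14]] = true :=
  zc94

theorem cLG_o : prodL cLG_vs 1 = 241920 := by decide +kernel

theorem cL (c : Ctx P e gs ns D chk) :
    (subW gs [[0], [2], [4], [6], [8], [10], [12], [14]]) ⊓ Subgroup.centralizer (subW gs [[16], [18]] : Set G) = (subW gs []) :=
  c.cent (lx := [[16], [18]]) (Rels.nil _) (c.sOk (c.exact cLG_c cLG_o (G_ub c)) zs95) (fun _ h => by cases h)
    (c.fixX zf93) (c.rels _ zr98) zm99 zs97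

theorem R_c : P.chainB ns D R_vs [[0], [2], [4], [6], [8]] = true :=
  zc100

theorem R_o : prodL R_vs 1 = 40320 := by decide +kernel

theorem R_lb (c : Ctx P e gs ns D chk) :
    LB (subW gs [[0], [2], [4], [6], [8]]) 40320 :=
  c.lb R_c R_o

theorem leR (c : Ctx P e gs ns D chk) :
    (subW gs [[0], [2], [4], [6], [8]]) ≤ (subW gs [[0], [2], [4], [6], [8], [10], [16], [18], [20], [22], [24]]) :=
  (c.le zm101)

theorem S_c : P.chainB ns D S_vs [[166], [168], [170], [172], [174], [176], [178], [180]] = true :=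
  zc102

theorem S_o : prodL S_vs 1 = 256 := by decide +kernel

theorem S_lb (c : Ctx P e gs ns D chk) :
    LB (subW gs [[166], [168], [170], [172], [174], [176], [178], [180]]) 256 :=
  c.lb S_c S_o

theorem S_pr (c : Ctx P e gs ns D chk) :
    Rels gs (pcsR S_ps []) :=
  (c.rels _ zr103)

theorem S_pe (c : Ctx P e gs ns D chk) :
    Rels gs (defRels []) :=
  (Rels.nil _)

theorem S_pb : bnd (pcsB D S_ps []) (leB (app D []) [[166], [168], [170], [172], [174], [176], [178], [180]] (pcGens S_ps [])) = true := zb104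

theorem S_ub (c : Ctx P e gs ns D chk) :
    UB (subW gs [[166], [168], [170], [172], [174], [176], [178], [180]]) 256 :=
  c.pcs (UB.nil gs) (S_pe c) (S_pr c) S_pb (by decide +kernel)

theorem S_card (c : Ctx P e gs ns D chk) :
    Nat.card (subW gs [[166], [168], [170], [172], [174], [176], [178], [180]]) = 256 :=
  (S_ub c).card_eq (S_lb c)

theorem cv0 (c : Ctx P e gs ns D chk) :
    Cov 4 (subW gs [[166], [168], [170], [172], [174], [176], [178], [180]]) ⊤ gs cv0_R (subW gs [[168], [170], [172], [174], [176], [178], [180]]) :=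
  Cov.step' (q := 2) (g := [166]) c.defs (by norm_num) (Cov.init 4 (subW gs [[166], [168], [170], [172], [174], [176], [178], [180]]) ⊤ gs)
    (pc_lvl' c.defs (S_pr c) S_pb (S_lb c) 0 (by decide +kernel))
    (c.le_normalizer (cj := zcj108) (((S_ub c).mono (c.le zm111)).1) (c.rels _ zr110) zm109) le_top
    (c.rels _ zr106) zb107 zq105

theorem cv1 (c : Ctx P e gs ns D chk) :
    Cov 4 (subW gs [[166], [168], [170], [172], [174], [176], [178], [180]]) ⊤ gs cv1_R (subW gs [[170], [172], [174], [176], [178], [180]]) :=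
  Cov.step' (q := 2) (g := [168]) c.defs (by norm_num) (cv0 c)
    (pc_lvl' c.defs (S_pr c) S_pb (S_lb c) 1 (by decide +kernel))
    (c.le_normalizer (cj := zcj115) (((S_ub c).mono (c.le zm118)).1) (c.rels _ zr117) zm116) le_top
    (c.rels _ zr113) zb114 zq112

theorem cv2 (c : Ctx P e gs ns D chk) :
    Cov 4 (subW gs [[166], [168], [170], [172], [174], [176], [178], [180]]) ⊤ gs cv2_R (subW gs [[172], [174], [176], [178], [180]]) :=
  Cov.step' (q := 2) (g := [170]) c.defs (by norm_num) (cv1 c)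
    (pc_lvl' c.defs (S_pr c) S_pb (S_lb c) 2 (by decide +kernel))
    (c.le_normalizer (cj := zcj122) (((S_ub c).mono (c.le zm125)).1) (c.rels _ zr124) zm123) le_top
    (c.rels _ zr120) zb121 zq119

theorem cv3 (c : Ctx P e gs ns D chk) :
    Cov 4 (subW gs [[166], [168], [170], [172], [174], [176], [178], [180]]) ⊤ gs cv3_R (subW gs [[174], [176], [178], [180]]) :=
  Cov.step' (q := 2) (g := [172]) c.defs (by norm_num) (cv2 c)
    (pc_lvl' c.defs (S_pr c) S_pb (S_lb c) 3 (by decide +kernel))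
    (c.le_normalizer (cj := zcj129) (((S_ub c).mono (c.le zm132)).1) (c.rels _ zr131) zm130) le_top
    (c.rels _ zr127) zb128 zq126

theorem cv4 (c : Ctx P e gs ns D chk) :
    Cov 4 (subW gs [[166], [168], [170], [172], [174], [176], [178], [180]]) ⊤ gs cv4_R (subW gs [[176], [178], [180]]) :=
  Cov.step' (q := 2) (g := [174]) c.defs (by norm_num) (cv3 c)
    (pc_lvl' c.defs (S_pr c) S_pb (S_lb c) 4 (by decide +kernel))
    (c.le_normalizer (cj := zcj136) (((S_ub c).mono (c.le zm139)).1) (c.rels _ zr138) zm137) le_top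
    (c.rels _ zr134) zb135 zq133

theorem cv5 (c : Ctx P e gs ns D chk) :
    Cov 4 (subW gs [[166], [168], [170], [172], [174], [176], [178], [180]]) ⊤ gs cv5_R (subW gs [[178], [180]]) :=
  Cov.step' (q := 2) (g := [176]) c.defs (by norm_num) (cv4 c)
    (pc_lvl' c.defs (S_pr c) S_pb (S_lb c) 5 (by decide +kernel))
    (c.le_normalizer (cj := zcj143) (((S_ub c).mono (c.le zm146)).1) (c.rels _ zr145) zm144) le_top
    (c.rels _ zr141) zb142 zq140

theorem cv6 (c : Ctx P e gs ns D chk) :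
    Cov 4 (subW gs [[166], [168], [170], [172], [174], [176], [178], [180]]) ⊤ gs cv6_R (subW gs [[180]]) :=
  Cov.step' (q := 2) (g := [178]) c.defs (by norm_num) (cv5 c)
    (pc_lvl' c.defs (S_pr c) S_pb (S_lb c) 6 (by decide +kernel))
    (c.le_normalizer (cj := zcj150) (((S_ub c).mono (c.le zm153)).1) (c.rels _ zr152) zm151) le_top
    (c.rels _ zr148) zb149 zq147

theorem cv7 (c : Ctx P e gs ns D chk) :
    Cov 4 (subW gs [[166], [168], [170], [172], [174], [176], [178], [180]]) ⊤ gs cv7_R (subW gs []) :=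
  Cov.step' (q := 2) (g := [180]) c.defs (by norm_num) (cv6 c)
    (pc_lvl' c.defs (S_pr c) S_pb (S_lb c) 7 (by decide +kernel))
    (le_normalizer_nil gs _) le_top
    (c.rels _ zr155) zb156 zq154

theorem cv8 (c : Ctx P e gs ns D chk) :
    Cov 4 (subW gs [[166], [168], [170], [172], [174], [176], [178], [180]]) ⊤ gs cv8_R (subW gs []) :=
  Cov.fuse c.defs (cv7 c) (le_normalizer_nil gs _) le_top
    (c.rels _ zr157) zb158

theorem cv_cls (c : Ctx P e gs ns D chk) :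
    Cls 4 (subW gs [[166], [168], [170], [172], [174], [176], [178], [180]]) ⊤ gs [[], [2], [8], [14], [162], [22], [164], [0]] :=
  (cv8 c).cls

theorem T_c : P.chainB ns D T_vs [[200], [96], [202], [204], [206], [100]] = true :=
  zc159

theorem T_o : prodL T_vs 1 = 64 := by decide +kernel

theorem T_lb (c : Ctx P e gs ns D chk) :
    LB (subW gs [[200], [96], [202], [204], [206], [100]]) 64 :=
  c.lb T_c T_o

theorem T_pr (c : Ctx P e gs ns D chk) :
    Rels gs (pcsR T_ps []) :=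
  (c.rels _ zr160)

theorem T_pe (c : Ctx P e gs ns D chk) :
    Rels gs (defRels []) :=
  (Rels.nil _)

theorem T_pb : bnd (pcsB D T_ps []) (leB (app D []) [[200], [96], [202], [204], [206], [100]] (pcGens T_ps [])) = true := zb161

theorem T_ub (c : Ctx P e gs ns D chk) :
    UB (subW gs [[200], [96], [202], [204], [206], [100]]) 64 :=
  c.pcs (UB.nil gs) (T_pe c) (T_pr c) T_pb (by decide +kernel)

theorem T_card (c : Ctx P e gs ns D chk) :
    Nat.card (subW gs [[200], [96], [202], [204], [206], [100]]) = 64 :=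
  (T_ub c).card_eq (T_lb c)

theorem cw0 (c : Ctx P e gs ns D chk) :
    Cov 2 (subW gs [[200], [96], [202], [204], [206], [100]]) (subW gs [[16], [18]]) gs cw0_R (subW gs [[96], [202], [204], [206], [100]]) :=
  Cov.step' (q := 2) (g := [200]) c.defs (by norm_num) (Cov.init 2 (subW gs [[200], [96], [202], [204], [206], [100]]) (subW gs [[16], [18]]) gs)
    (pc_lvl' c.defs (T_pr c) T_pb (T_lb c) 0 (by decide +kernel))
    (c.le_normalizer (cj := zcj166) (((T_ub c).mono (c.le zm169)).1) (c.rels _ zr168) zm167) (c.le zm165)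
    (c.rels _ zr163) zb164 zq162

theorem cw1 (c : Ctx P e gs ns D chk) :
    Cov 2 (subW gs [[200], [96], [202], [204], [206], [100]]) (subW gs [[16], [18]]) gs cw1_R (subW gs [[202], [204], [206], [100]]) :=
  Cov.step' (q := 2) (g := [96]) c.defs (by norm_num) (cw0 c)
    (pc_lvl' c.defs (T_pr c) T_pb (T_lb c) 1 (by decide +kernel))
    (c.le_normalizer (cj := zcj174) (((T_ub c).mono (c.le zm177)).1) (c.rels _ zr176) zm175) (c.le zm173)
    (c.rels _ zr171) zb172 zq170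

theorem cw2 (c : Ctx P e gs ns D chk) :
    Cov 2 (subW gs [[200], [96], [202], [204], [206], [100]]) (subW gs [[16], [18]]) gs cw2_R (subW gs [[204], [206], [100]]) :=
  Cov.step' (q := 2) (g := [202]) c.defs (by norm_num) (cw1 c)
    (pc_lvl' c.defs (T_pr c) T_pb (T_lb c) 2 (by decide +kernel))
    (c.le_normalizer (cj := zcj182) (((T_ub c).mono (c.le zm185)).1) (c.rels _ zr184) zm183) (c.le zm181)
    (c.rels _ zr179) zb180 zq178

theorem cw3 (c : Ctx P e gs ns D chk) :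
    Cov 2 (subW gs [[200], [96], [202], [204], [206], [100]]) (subW gs [[16], [18]]) gs cw3_R (subW gs [[206], [100]]) :=
  Cov.step' (q := 2) (g := [204]) c.defs (by norm_num) (cw2 c)
    (pc_lvl' c.defs (T_pr c) T_pb (T_lb c) 3 (by decide +kernel))
    (c.le_normalizer (cj := zcj190) (((T_ub c).mono (c.le zm193)).1) (c.rels _ zr192) zm191) (c.le zm189)
    (c.rels _ zr187) zb188 zq186

theorem cw4 (c : Ctx P e gs ns D chk) :
    Cov 2 (subW gs [[200], [96], [202], [204], [206], [100]]) (subW gs [[16], [18]]) gs cw4_R (subW gs [[100]]) :=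
  Cov.step' (q := 2) (g := [206]) c.defs (by norm_num) (cw3 c)
    (pc_lvl' c.defs (T_pr c) T_pb (T_lb c) 4 (by decide +kernel))
    (c.le_normalizer (cj := zcj198) (((T_ub c).mono (c.le zm201)).1) (c.rels _ zr200) zm199) (c.le zm197)
    (c.rels _ zr195) zb196 zq194

theorem cw5 (c : Ctx P e gs ns D chk) :
    Cov 2 (subW gs [[200], [96], [202], [204], [206], [100]]) (subW gs [[16], [18]]) gs cw5_R (subW gs []) :=
  Cov.step' (q := 2) (g := [100]) c.defs (by norm_num) (cw4 c)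
    (pc_lvl' c.defs (T_pr c) T_pb (T_lb c) 5 (by decide +kernel))
    (le_normalizer_nil gs _) (c.le zm205)
    (c.rels _ zr203) zb204 zq202

theorem cw6 (c : Ctx P e gs ns D chk) :
    Cov 2 (subW gs [[200], [96], [202], [204], [206], [100]]) (subW gs [[16], [18]]) gs cw6_R (subW gs []) :=
  Cov.fuse c.defs (cw5 c) (le_normalizer_nil gs _) (c.le zm208)
    (c.rels _ zr206) zb207

theorem cw_cls (c : Ctx P e gs ns D chk) :
    Cls 2 (subW gs [[200], [96], [202], [204], [206], [100]]) (subW gs [[16], [18]]) gs [[], [2]] :=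
  (cw6 c).cls

theorem cmT (c : Ctx P e gs ns D chk) :
    ∀ x ∈ (subW gs [[200], [96], [202], [204], [206], [100]]), ∀ y ∈ (subW gs [[2]]), x * y = y * x :=
  commute_of_comR (c.rels _ zr209)

theorem leT (c : Ctx P e gs ns D chk) :
    (subW gs [[200], [96], [202], [204], [206], [100]]) ≤ (subW gs [[16], [18]]) :=
  (c.le zm210)

theorem C0_pr (c : Ctx P e gs ns D chk) :
    Rels gs (pcsR C0_ps []) :=
  (c.rels _ zr211)

theorem C0_pe (c : Ctx P e gs ns D chk) :
    Rels gs (defRels []) :=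
  (Rels.nil _)

theorem C0_pb : bnd (pcsB D C0_ps []) (leB (app D []) [[212], [214]] (pcGens C0_ps [])) = true := zb212

theorem C0_ub (c : Ctx P e gs ns D chk) :
    UB (subW gs [[212], [214]]) 16 :=
  c.pcs (UB.nil gs) (C0_pe c) (C0_pr c) C0_pb (by decide +kernel)

theorem C0_c : P.chainB ns D C0_vs [[212], [214]] = true :=
  zc213

theorem C0_o : prodL C0_vs 1 = 16 := by decide +kernel

theorem C0_lb (c : Ctx P e gs ns D chk) :
    LB (subW gs [[212], [214]]) 16 :=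
  c.lb C0_c C0_o

theorem C0_card (c : Ctx P e gs ns D chk) :
    Nat.card (subW gs [[212], [214]]) = 16 :=
  (C0_ub c).card_eq (C0_lb c)

theorem cc0G_c : P.chainB ns D cc0G_vs [[16], [18]] = true :=
  zc217

theorem cc0G_o : prodL cc0G_vs 1 = 20160 := by decide +kernel

theorem cc0 (c : Ctx P e gs ns D chk) :
    (subW gs [[16], [18]]) ⊓ Subgroup.centralizer (subW gs [[22]] : Set G) = (subW gs [[212], [214]]) :=
  c.cent (lx := [[22]]) (Rels.nil _) (c.sOk (c.exact cc0G_c cc0G_o (L_ub c)) zs218) (fun _ h => by cases h)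
    (c.fixX zf216) (c.rels _ zr221) zm222 zs220

theorem C1_pr (c : Ctx P e gs ns D chk) :
    Rels gs (pcsR C1_ps []) :=
  (c.rels _ zr223)

theorem C1_pe (c : Ctx P e gs ns D chk) :
    Rels gs (defRels []) :=
  (Rels.nil _)

theorem C1_pb : bnd (pcsB D C1_ps []) (leB (app D []) [[230], [232]] (pcGens C1_ps [])) = true := zb224

theorem C1_ub (c : Ctx P e gs ns D chk) :
    UB (subW gs [[230], [232]]) 8 :=
  c.pcs (UB.nil gs) (C1_pe c) (C1_pr c) C1_pb (by decide +kernel)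

theorem C1_c : P.chainB ns D C1_vs [[230], [232]] = true :=
  zc225

theorem C1_o : prodL C1_vs 1 = 8 := by decide +kernel

theorem C1_lb (c : Ctx P e gs ns D chk) :
    LB (subW gs [[230], [232]]) 8 :=
  c.lb C1_c C1_o

theorem C1_card (c : Ctx P e gs ns D chk) :
    Nat.card (subW gs [[230], [232]]) = 8 :=
  (C1_ub c).card_eq (C1_lb c)

theorem cc1G_c : P.chainB ns D cc1G_vs [[16], [18]] = true :=
  zc229

theorem cc1G_o : prodL cc1G_vs 1 = 20160 := by decide +kernel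

theorem cc1 (c : Ctx P e gs ns D chk) :
    (subW gs [[16], [18]]) ⊓ Subgroup.centralizer (subW gs [[164]] : Set G) = (subW gs [[230], [232]]) :=
  c.cent (lx := [[164]]) (Rels.nil _) (c.sOk (c.exact cc1G_c cc1G_o (L_ub c)) zs230) (fun _ h => by cases h)
    (c.fixX zf228) (c.rels _ zr233) zm234 zs232

theorem C2_pr (c : Ctx P e gs ns D chk) :
    Rels gs (pcsR C2_ps []) :=
  (c.rels _ zr235)

theorem C2_pe (c : Ctx P e gs ns D chk) :
    Rels gs (defRels []) :=
  (Rels.nil _)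

theorem C2_pb : bnd (pcsB D C2_ps []) (leB (app D []) [[250], [252]] (pcGens C2_ps [])) = true := zb236

theorem C2_ub (c : Ctx P e gs ns D chk) :
    UB (subW gs [[250], [252]]) 8 :=
  c.pcs (UB.nil gs) (C2_pe c) (C2_pr c) C2_pb (by decide +kernel)

theorem C2_c : P.chainB ns D C2_vs [[250], [252]] = true :=
  zc237

theorem C2_o : prodL C2_vs 1 = 8 := by decide +kernel

theorem C2_lb (c : Ctx P e gs ns D chk) :
    LB (subW gs [[250], [252]]) 8 :=
  c.lb C2_c C2_o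

theorem C2_card (c : Ctx P e gs ns D chk) :
    Nat.card (subW gs [[250], [252]]) = 8 :=
  (C2_ub c).card_eq (C2_lb c)

theorem cc2G_c : P.chainB ns D cc2G_vs [[16], [18]] = true :=
  zc240

theorem cc2G_o : prodL cc2G_vs 1 = 20160 := by decide +kernel

theorem cc2 (c : Ctx P e gs ns D chk) :
    (subW gs [[16], [18]]) ⊓ Subgroup.centralizer (subW gs [[0]] : Set G) = (subW gs [[250], [252]]) :=
  c.cent (lx := [[0]]) (Rels.nil _) (c.sOk (c.exact cc2G_c cc2G_o (L_ub c)) zs241) (fun _ h => by cases h)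
    (c.fixX zf239) (c.rels _ zr244) zm245 zs243

theorem J_c : P.chainB ns D J_vs [[264], [266], [268], [270], [272], [274]] = true :=
  zc246

theorem J_o : prodL J_vs 1 = 64 := by decide +kernel

theorem J_lb (c : Ctx P e gs ns D chk) :
    LB (subW gs [[264], [266], [268], [270], [272], [274]]) 64 :=
  c.lb J_c J_o

theorem J_pr (c : Ctx P e gs ns D chk) :
    Rels gs (pcsR J_ps []) :=
  (c.rels _ zr247)

theorem J_pe (c : Ctx P e gs ns D chk) :
    Rels gs (defRels []) :=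
  (Rels.nil _)

theorem J_pb : bnd (pcsB D J_ps []) (leB (app D []) [[264], [266], [268], [270], [272], [274]] (pcGens J_ps [])) = true := zb248

theorem J_ub (c : Ctx P e gs ns D chk) :
    UB (subW gs [[264], [266], [268], [270], [272], [274]]) 64 :=
  c.pcs (UB.nil gs) (J_pe c) (J_pr c) J_pb (by decide +kernel)

theorem J_card (c : Ctx P e gs ns D chk) :
    Nat.card (subW gs [[264], [266], [268], [270], [272], [274]]) = 64 :=
  (J_ub c).card_eq (J_lb c)

theorem cx0 (c : Ctx P e gs ns D chk) :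
    Cov 2 (subW gs [[264], [266], [268], [270], [272], [274]]) (subW gs [[264], [266], [268], [270], [272], [274]]) gs cx0_R (subW gs [[266], [268], [270], [272], [274]]) :=
  Cov.step' (q := 2) (g := [264]) c.defs (by norm_num) (Cov.init 2 (subW gs [[264], [266], [268], [270], [272], [274]]) (subW gs [[264], [266], [268], [270], [272], [274]]) gs)
    (pc_lvl' c.defs (J_pr c) J_pb (J_lb c) 0 (by decide +kernel))
    (c.le_normalizer (cj := zcj253) (((J_ub c).mono (c.le zm256)).1) (c.rels _ zr255) zm254) (c.le zm252)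
    (c.rels _ zr250) zb251 zq249

theorem cx1 (c : Ctx P e gs ns D chk) :
    Cov 2 (subW gs [[264], [266], [268], [270], [272], [274]]) (subW gs [[264], [266], [268], [270], [272], [274]]) gs cx1_R (subW gs [[268], [270], [272], [274]]) :=
  Cov.step' (q := 2) (g := [266]) c.defs (by norm_num) (cx0 c)
    (pc_lvl' c.defs (J_pr c) J_pb (J_lb c) 1 (by decide +kernel))
    (c.le_normalizer (cj := zcj261) (((J_ub c).mono (c.le zm264)).1) (c.rels _ zr263) zm262) (c.le zm260)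
    (c.rels _ zr258) zb259 zq257

theorem cx2 (c : Ctx P e gs ns D chk) :
    Cov 2 (subW gs [[264], [266], [268], [270], [272], [274]]) (subW gs [[264], [266], [268], [270], [272], [274]]) gs cx2_R (subW gs [[270], [272], [274]]) :=
  Cov.step' (q := 2) (g := [268]) c.defs (by norm_num) (cx1 c)
    (pc_lvl' c.defs (J_pr c) J_pb (J_lb c) 2 (by decide +kernel))
    (c.le_normalizer (cj := zcj269) (((J_ub c).mono (c.le zm272)).1) (c.rels _ zr271) zm270) (c.le zm268)
    (c.rels _ zr266) zb267 zq265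

theorem cx3 (c : Ctx P e gs ns D chk) :
    Cov 2 (subW gs [[264], [266], [268], [270], [272], [274]]) (subW gs [[264], [266], [268], [270], [272], [274]]) gs cx3_R (subW gs [[272], [274]]) :=
  Cov.step' (q := 2) (g := [270]) c.defs (by norm_num) (cx2 c)
    (pc_lvl' c.defs (J_pr c) J_pb (J_lb c) 3 (by decide +kernel))
    (c.le_normalizer (cj := zcj277) (((J_ub c).mono (c.le zm280)).1) (c.rels _ zr279) zm278) (c.le zm276)
    (c.rels _ zr274) zb275 zq273

theorem cx4 (c : Ctx P e gs ns D chk) :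
    Cov 2 (subW gs [[264], [266], [268], [270], [272], [274]]) (subW gs [[264], [266], [268], [270], [272], [274]]) gs cx4_R (subW gs [[274]]) :=
  Cov.step' (q := 2) (g := [272]) c.defs (by norm_num) (cx3 c)
    (pc_lvl' c.defs (J_pr c) J_pb (J_lb c) 4 (by decide +kernel))
    (c.le_normalizer (cj := zcj285) (((J_ub c).mono (c.le zm288)).1) (c.rels _ zr287) zm286) (c.le zm284)
    (c.rels _ zr282) zb283 zq281

theorem cx5 (c : Ctx P e gs ns D chk) :
    Cov 2 (subW gs [[264], [266], [268], [270], [272], [274]]) (subW gs [[264], [266], [268], [270], [272], [274]]) gs cx5_R (subW gs []) :=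
  Cov.step' (q := 2) (g := [274]) c.defs (by norm_num) (cx4 c)
    (pc_lvl' c.defs (J_pr c) J_pb (J_lb c) 5 (by decide +kernel))
    (le_normalizer_nil gs _) (c.le zm292)
    (c.rels _ zr290) zb291 zq289

theorem cx6 (c : Ctx P e gs ns D chk) :
    Cov 2 (subW gs [[264], [266], [268], [270], [272], [274]]) (subW gs [[264], [266], [268], [270], [272], [274]]) gs cx6_R (subW gs []) :=
  Cov.fuse c.defs (cx5 c) (le_normalizer_nil gs _) (c.le zm295)
    (c.rels _ zr293) zb294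

theorem cx_cls (c : Ctx P e gs ns D chk) :
    Cls 2 (subW gs [[264], [266], [268], [270], [272], [274]]) (subW gs [[264], [266], [268], [270], [272], [274]]) gs [[], [100], W (nat_lit 0x691ac63), W (nat_lit 0x2403), W (nat_lit 0x3c65)] :=
  (cx6 c).cls

theorem cJG_c : P.chainB ns D cJG_vs [[0], [2], [4], [6], [8], [10], [12], [14]] = true :=
  zc299

theorem cJG_o : prodL cJG_vs 1 = 241920 := by decide +kernel

theorem cJ (c : Ctx P e gs ns D chk) :
    (subW gs [[0], [2], [4], [6], [8], [10], [12], [14]]) ⊓ Subgroup.centralizer (subW gs [[22]] : Set G) = (subW gs [[264], [266], [268], [270], [272], [274]]) :=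
  c.cent (lx := [[22]]) (Rels.nil _) (c.sOk (c.exact cJG_c cJG_o (G_ub c)) zs300) (fun _ h => by cases h)
    (c.fixX zf298) (c.rels _ zr303) zm304 zs302

theorem leV (c : Ctx P e gs ns D chk) :
    (subW gs [[212], [214]]) ≤ (subW gs [[16], [18]]) :=
  (c.le zm305)

theorem leR0 (c : Ctx P e gs ns D chk) :
    subW gs R0 ≤ (subW gs [[16], [18]]) :=
  c.le zm306

theorem leR2 (c : Ctx P e gs ns D chk) :
    subW gs R2 ≤ (subW gs [[16], [18]]) :=
  c.le zm307

theorem mn1 (c : Ctx P e gs ns D chk) :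
    wordG gs [17, 24, 24, 24, 24, 4] ≠ 1 :=
  c.ne_one zn308

theorem mn2 (c : Ctx P e gs ns D chk) :
    wordG gs [0, 25, 17, 0, 19, 25, 16, 25, 4, 24, 18] ≠ 1 :=
  c.ne_one zn309

theorem mn3 (c : Ctx P e gs ns D chk) :
    wordG gs [4, 19, 24, 18, 16, 19, 25, 19, 0, 18, 16, 6, 19, 0, 6, 17] ≠ 1 :=
  c.ne_one zn310

theorem rG (c : Ctx P e gs ns D chk) :
    Rels gs rGL :=
  (c.rels _ zr311)

theorem i1 (c : Ctx P e gs ns D chk) :
    wordG gs [20] = wordG gs [] :=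
  c.eq zr312

theorem sqa (c : Ctx P e gs ns D chk) :
    wordG gs [2, 2] = wordG gs [] :=
  c.eq zr313

theorem sqd (c : Ctx P e gs ns D chk) :
    wordG gs [8, 8] = wordG gs [] :=
  c.eq zr314

theorem sqp (c : Ctx P e gs ns D chk) :
    wordG gs [14, 14] = wordG gs [] :=
  c.eq zr315

theorem sqt (c : Ctx P e gs ns D chk) :
    wordG gs [162, 162] = wordG gs [] :=
  c.eq zr316

theorem sqj (c : Ctx P e gs ns D chk) :
    wordG gs [22, 22] ≠ 1 :=
  c.ne_one zn317

theorem sqr1 (c : Ctx P e gs ns D chk) :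
    wordG gs [164, 164] ≠ 1 :=
  c.ne_one zn318

theorem sqr2 (c : Ctx P e gs ns D chk) :
    wordG gs [0, 0] ≠ 1 :=
  c.ne_one zn319


end CL.ONT.G
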