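import Cfsg.Agent.Spor.TCONAC0
import Cfsg.Agent.Spor.TCONAC1
import Cfsg.Agent.Spor.TCONAC2
import Cfsg.Agent.Spor.TCONAC3

/-! coset enumeration certificate generated by tools/tc -/

set_option maxRecDepth 100000
set_option autoImplicit false
set_option linter.all false

namespace CL.TC.ONA

theorem mz0 : AllZ mF 1 (nat_lit 50001) := (AllZ.step (AllZ.step (AllZ.step (AllZ.step (AllZ.step (AllZ.step (AllZ.step (AllZ.step (AllZ.step (AllZ.step (AllZ.step (AllZ.step (AllZ.step (AllZ.step (AllZ.step (AllZ.step (AllZ.step (AllZ.step (AllZ.step (AllZ.step (AllZ.nil mF 1) (nat_lit 2500) (nat_lit 2501) rfl m0) (nat_lit 2500) (nat_lit 5001) rfl m1) (nat_lit 2500) (nat_lit 7501) rfl m2) (nat_lit 2500) (nat_lit 10001) rfl m3) (nat_lit 2500) (nat_lit 12501) rfl m4) (nat_lit 2500) (nat_lit 15001) rfl m5) (nat_lit 2500) (nat_lit 17501) rfl m6) (nat_lit 2500) (nat_lit 20001) rfl m7) (nat_lit 2500) (nat_lit 22501) rfl m8) (nat_lit 2500) (nat_lit 25001) rfl m9) (nat_lit 2500)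 (nat_lit 27501) rfl m10) (nat_lit 2500) (nat_lit 30001) rfl m11) (nat_lit 2500) (nat_lit 32501) rfl m12) (nat_lit 2500) (nat_lit 35001) rfl m13) (nat_lit 2500) (nat_lit 37501) rfl m14) (nat_lit 2500) (nat_lit 40001) rfl m15) (nat_lit 2500) (nat_lit 42501) rfl m16) (nat_lit 2500) (nat_lit 45001) rfl m17) (nat_lit 2500) (nat_lit 47501) rfl m18) (nat_lit 2500) (nat_lit 50001) rfl m19)
theorem mz1 : AllZ mF 1 (nat_lit 100001) := (AllZ.step (AllZ.step (AllZ.step (AllZ.step (AllZ.step (AllZ.step (AllZ.step (AllZ.step (AllZ.step (AllZ.step (AllZ.step (AllZ.step (AllZ.step (AllZ.step (AllZ.step (AllZ.step (AllZ.step (AllZ.step (AllZ.step (AllZ.step mz0 (nat_lit 2500) (nat_lit 52501) rfl m20) (nat_lit 2500) (nat_lit 55001) rfl m21) (nat_lit 2500) (nat_lit 57501) rfl m22) (nat_lit 2500) (nat_lit 60001) rfl m23) (nat_lit 2500) (nat_lit 62501) rfl m24) (nat_lit 2500) (nat_lit 65001) rfl m25) (nat_lit 2500) (nat_lit 67501) rfl m26) (nat_lit 2500) (nat_lit 70001) rfl m27)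 (nat_lit 2500) (nat_lit 72501) rfl m28) (nat_lit 2500) (nat_lit 75001) rfl m29) (nat_lit 2500) (nat_lit 77501) rfl m30) (nat_lit 2500) (nat_lit 80001) rfl m31) (nat_lit 2500) (nat_lit 82501) rfl m32) (nat_lit 2500) (nat_lit 85001) rfl m33) (nat_lit 2500) (nat_lit 87501) rfl m34) (nat_lit 2500) (nat_lit 90001) rfl m35) (nat_lit 2500) (nat_lit 92501) rfl m36) (nat_lit 2500) (nat_lit 95001) rfl m37) (nat_lit 2500) (nat_lit 97501) rfl m38) (nat_lit 2500) (nat_lit 100001) rfl m39)
theorem mz2 : AllZ mF 1 (nat_lit 122761) := (AllZ.step (AllZ.step (AllZ.step (AllZ.step (AllZ.step (AllZ.step (AllZ.step (AllZ.step (AllZ.step (AllZ.step mz1 (nat_lit 2500) (nat_lit 102501) rfl m40) (nat_lit 2500) (nat_lit 105001) rfl m41) (nat_lit 2500) (nat_lit 107501) rfl m42) (nat_lit 2500) (nat_lit 110001) rfl m43) (nat_lit 2500) (nat_lit 112501) rfl m44) (nat_lit 2500) (nat_lit 115001) rfl m45) (nat_lit 2500) (nat_lit 117501) rfl m46) (nat_lit 2500) (nat_lit 120001) rfl m47) (nat_lit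 2500) (nat_lit 122501) rfl m48) (nat_lit 260) (nat_lit 122761) rfl m49)
theorem xz0 : XZ xF (nat_lit 987) := (XZ.step (XZ.step (XZ.step (XZ.step (XZ.step (XZ.step (XZ.step (XZ.step (XZ.step (XZ.step (XZ.step (XZ.step (XZ.step (XZ.step (XZ.step (XZ.step (XZ.step (XZ.step (XZ.step (XZ.step (XZ.nil xF) s0 (nat_lit 1) (nat_lit 52) (by decide +kernel) x0) s1 (nat_lit 53) (nat_lit 102) (by decide +kernel) x1) s2 (nat_lit 103) (nat_lit 154) (by decide +kernel) x2) s3 (nat_lit 155) (nat_lit 205) (by decide +kernel) x3) s4 (nat_lit 206) (nat_lit 257) (by decide +kernel) x4) s5 (nat_lit 258) (nat_lit 308) (by decide +kernel) x5) s6 (nat_lit 309) (nat_lit 354) (by decide +kernel) x6) s7 (nat_lit 355) (nat_lit 405) (by decide +kernel) x7) s8 (nat_lit 406) (nat_lit 456) (by decide +kernel) x8) s9 (nat_lit 457) (nat_lit 510) (by decide +kernel) x9) s10 (nat_lit 511) (nat_lit 562) (by decide +kernel) x10) s11 (nat_lit 563) (nat_lit 607) (by decide +kernel) x11) s12 (nat_lit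 608) (nat_lit 653) (by decide +kernel) x12) s13 (nat_lit 654) (nat_lit 701) (by decide +kernel) x13) s14 (nat_lit 702) (nat_lit 748) (by decide +kernel) x14) s15 (nat_lit 749) (nat_lit 796) (by decide +kernel) x15) s16 (nat_lit 797) (nat_lit 844) (by decide +kernel) x16) s17 (nat_lit 845) (nat_lit 891) (by decide +kernel) x17) s18 (nat_lit 892) (nat_lit 941) (by decide +kernel) x18) s19 (nat_lit 942) (nat_lit 987) (by decide +kernel) x19)
theorem xz1 : XZ xF (nat_lit 1962) := (XZ.step (XZ.step (XZ.step (XZ.step (XZ.step (XZ.step (XZ.step (XZ.step (XZ.step (XZ.step (XZ.step (XZ.step (XZ.step (XZ.step (XZ.step (XZ.step (XZ.step (XZ.step (XZ.step (XZ.step xz0 s20 (nat_lit 988) (nat_lit 1031) (by decide +kernel) x20) s21 (nat_lit 1032) (nat_lit 1078) (by decide +kernel) x21) s22 (nat_lit 1079) (nat_lit 1126) (by decide +kernel) x22) s23 (nat_lit 1127) (nat_lit 1177) (by decide +kernel) x23) s24 (nat_lit 1178) (nat_lit 1230) (by decide +kernel) x24) s25 (nat_lit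 1231) (nat_lit 1275) (by decide +kernel) x25) s26 (nat_lit 1276) (nat_lit 1322) (by decide +kernel) x26) s27 (nat_lit 1323) (nat_lit 1370) (by decide +kernel) x27) s28 (nat_lit 1371) (nat_lit 1418) (by decide +kernel) x28) s29 (nat_lit 1419) (nat_lit 1469) (by decide +kernel) x29) s30 (nat_lit 1470) (nat_lit 1519) (by decide +kernel) x30) s31 (nat_lit 1520) (nat_lit 1569) (by decide +kernel) x31) s32 (nat_lit 1570) (nat_lit 1615) (by decide +kernel) x32) s33 (nat_lit 1616) (nat_lit 1666) (by decide +kernel) x33) s34 (nat_lit 1667) (nat_lit 1713) (by decide +kernel) x34) s35 (nat_lit 1714) (nat_lit 1763) (by decide +kernel) x35) s36 (nat_lit 1764) (nat_lit 1813) (by decide +kernel) x36) s37 (nat_lit 1814) (nat_lit 1862) (by decide +kernel) x37) s38 (nat_lit 1863) (nat_lit 1912) (by decide +kernel) x38) s39 (nat_lit 1913) (nat_lit 1962) (by decide +kernel) x39)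
theorem xz2 : XZ xF (nat_lit 2353) := (XZ.step (XZ.step (XZ.step (XZ.step (XZ.step (XZ.step (XZ.step (XZ.step (XZ.step xz1 s40 (nat_lit 1963) (nat_lit 2012) (by decide +kernel) x40) s41 (nat_lit 2013) (nat_lit 2062) (by decide +kernel) x41) s42 (nat_lit 2063) (nat_lit 2114) (by decide +kernel) x42) s43 (nat_lit 2115) (nat_lit 2161) (by decide +kernel) x43) s44 (nat_lit 2162) (nat_lit 2207) (by decide +kernel) x44) s45 (nat_lit 2208) (nat_lit 2250) (by decide +kernel) x45) s46 (nat_lit 2251) (nat_lit 2292) (by decide +kernel) x46) s47 (nat_lit 2293) (nat_lit 2332) (by decide +kernel) x47) s48 (nat_lit 2333) (nat_lit 2353) (by decide +kernel) x48)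
/-- the certificate (122760 points) is valid -/
theorem valid : cert.Valid (fun i => invL.getD i i) rels subs 8 :=
  ⟨by decide +kernel, tabok, by decide +kernel, mz2, xz2⟩
theorem cert_N : cert.N = 122760 := rfl

end CL.TC.ONA
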