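import Cfsg.Agent.Spor.PGPres2
import Cfsg.Agent.Spor.PMFi24D0
import Cfsg.Agent.Spor.PMFi24D1
import Cfsg.Agent.Spor.PMFi24D2
import Cfsg.Agent.Spor.PMFi24D3

/-! permutation model generated by tools/tc/pm -/

set_option maxRecDepth 100000
set_option autoImplicit false
set_option linter.all false
set_option Elab.async false

namespace CL.PM.Fi24
open CL.PG CL.PP

noncomputable def ns : List Net := [n0, n1, n2, n3, n4, n5, n6, n7, n8, n9, n10, n11]
def ws : List (List ℕ) := []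
noncomputable def D : List (ℕ × List ℕ) := mkDefs ws 12
def P : Par := ⟨306936, 306936, 19, 5⟩
def v0 : Lev := ⟨0, 306936, [[2], [0], [4], [6], [2], [8], [10], [4], [12], [20], [14], [22], [10], [16], [8], [6], [12], [18], [20], [10], [14], [8], [12], [20], [22], [10], [14], [16], [6], [4], [20], [8], [12], [14], [6], [2], [22], [10], [12], [8], [20], [10], [4], [18], [20], [8], [6], [22], [14], [16], [4], [12], [14], [10], [8], [12], [2], [16], [10], [14], [6], [12], [4], [0], [16], [18]], [[0], [4], [6], [8], [10], [12], [14], [16], [18], [20], [22]], 0, 0⟩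
def levs : List Lev := [v0]
def o0 : SubO := ⟨6, [[6], [4], [8], [10], [6], [12], [20], [14], [22], [10], [8], [16], [18], [12], [20], [10], [14], [6], [12], [8], [20], [22], [10], [6], [14], [16], [4], [20], [8], [12], [14], [22], [10], [12], [18], [6], [16], [10], [8], [20], [4], [6], [10], [4], [8], [12], [20], [6], [10], [4], [14], [12], [8], [16], [6], [18]], 31671⟩
def o1 : SubO := ⟨1, [[0], [4], [6], [8], [10], [12], [20], [14], [22], [10], [16], [8], [12], [18], [6], [20], [10], [4], [14], [8], [12], [20], [6], [10], [14], [16], [22], [4], [20], [8], [12], [22], [10], [6], [14], [12], [18], [20], [8], [4], [10], [14], [16], [20], [8], [22], [6], [12], [10], [14], [4], [8], [12], [20], [16], [10], [14], [18], [12], [6], [14]], 275264⟩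
def subs : List SubO := [o0, o1]
def us : List (List ℕ) := [[]]
def R0 : List (List ℕ × List ℕ) := [([0, 0], []), ([0, 2, 0, 2, 0, 2], []), ([0, 4, 0, 4], []), ([0, 6, 0, 6], []), ([0, 8, 0, 8], []), ([0, 10, 0, 10], []), ([0, 12, 0, 12], []), ([0, 14, 0, 14], []), ([0, 16, 0, 16], []), ([0, 18, 0, 18], []), ([0, 20, 0, 20], []), ([0, 22, 0, 22], []), ([2, 2], []), ([2, 4, 2, 4, 2, 4], []), ([2, 6, 2, 6], []), ([2, 8, 2, 8], []), ([2, 10, 2, 10], []), ([2, 12, 2, 12], []), ([2, 14, 2, 14], []), ([2, 16, 2, 16], []), ([2, 18, 2, 18], []), ([2, 20, 2, 20], []), ([2, 22, 2, 22], []), ([4, 4], []), ([4, 6, 4, 6, 4, 6], []), ([4, 8, 4, 8], []), ([4, 10, 4, 10], []), ([4, 12, 4, 12], []), ([4, 14, 4, 14], [])]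
def R1 : List (List ℕ × List ℕ) := [([4, 16, 4, 16], []), ([4, 18, 4, 18], []), ([4, 20, 4, 20], []), ([4, 22, 4, 22], []), ([6, 6], []), ([6, 8, 6, 8, 6, 8], []), ([6, 10, 6, 10], []), ([6, 12, 6, 12], []), ([6, 14, 6, 14], []), ([6, 16, 6, 16], []), ([6, 18, 6, 18], []), ([6, 20, 6, 20], []), ([6, 22, 6, 22], []), ([8, 8], []), ([8, 10, 8, 10, 8, 10], []), ([8, 12, 8, 12], []), ([8, 14, 8, 14], []), ([8, 16, 8, 16], []), ([8, 18, 8, 18], []), ([8, 20, 8, 20], []), ([8, 22, 8, 22], []), ([10, 10], []), ([10, 12, 10, 12, 10, 12], []), ([10, 14, 10, 14], []), ([10, 16, 10, 16], []), ([10, 18, 10, 18], []), ([10, 20, 10, 20, 10, 20], []), ([10, 22, 10, 22], []), ([12, 12], [])]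
def R2 : List (List ℕ × List ℕ) := [([12, 14, 12, 14, 12, 14], []), ([12, 16, 12, 16], []), ([12, 18, 12, 18], []), ([12, 20, 12, 20], []), ([12, 22, 12, 22], []), ([14, 14], []), ([14, 16, 14, 16, 14, 16], []), ([14, 18, 14, 18], []), ([14, 20, 14, 20], []), ([14, 22, 14, 22], []), ([16, 16], []), ([16, 18, 16, 18, 16, 18], []), ([16, 20, 16, 20], []), ([16, 22, 16, 22], []), ([18, 18], []), ([18, 20, 18, 20], []), ([18, 22, 18, 22], []), ([20, 20], []), ([20, 22, 20, 22, 20, 22], []), ([22, 22], [])]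
def R3 : List (List ℕ × List ℕ) := [([0, 21, 15, 13, 11, 9, 7, 5, 21, 15, 13, 11, 9, 7, 5, 21, 15, 13, 11, 9, 7, 5, 21, 15, 13, 11, 9, 7, 5, 21, 15, 13, 11, 9, 7, 5, 21, 15, 13, 11, 9, 7, 5, 21, 15, 13, 11, 9, 7, 5, 21, 15, 13, 11, 9, 7, 5, 21, 15, 13, 11, 9, 7, 5], [])]
def R4 : List (List ℕ × List ℕ) := [([10, 8, 6, 4, 2, 0, 10, 12, 14, 16, 18, 10, 20, 22, 10, 8, 6, 4, 2, 0, 10, 12, 14, 16, 18, 10, 20, 22, 10, 8, 6, 4, 2, 0, 10, 12, 14, 16, 18, 10, 20, 22, 10, 8, 6, 4, 2, 0, 10, 12, 14, 16, 18, 10, 20, 22, 10, 8, 6, 4, 2, 0, 10, 12, 14, 16, 18, 10, 20, 22, 10, 8, 6, 4, 2, 0, 10, 12, 14, 16, 18, 10, 20, 22, 10, 8, 6, 4, 2, 0, 10, 12, 14, 16, 18, 10, 20, 22, 10, 8, 6, 4, 2, 0, 10, 12, 14, 16, 18, 10, 20, 22, 10, 8, 6, 4, 2, 0, 10, 12, 14, 16, 18, 10, 20, 22, 10, 8, 6, 4, 2, 0, 10, 12, 14, 16, 18, 10, 20, 22, 10, 8, 6, 4, 2, 0, 10, 12, 14, 16, 18, 10, 20, 22, 10, 8, 6, 4, 2, 0, 10, 12, 14, 16, 18, 10,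 20, 22, 10, 8, 6, 4, 2, 0, 10, 12, 14, 16, 18, 10, 20, 22, 10, 8, 6, 4, 2, 0, 10, 12, 14, 16, 18, 10, 20, 22, 10, 8, 6, 4, 2, 0, 10, 12, 14, 16, 18, 10, 20, 22, 10, 8, 6, 4, 2, 0, 10, 12, 14, 16, 18, 10, 20, 22, 10, 8, 6, 4, 2, 0, 10, 12, 14, 16, 18, 10, 20, 22], [])]
def R : List (List ℕ × List ℕ) := R0 ++ R1 ++ R2 ++ R3 ++ R4
theorem ok : allL (Net.okB 306936) ns = true := by decide +kernel

end CL.PM.Fi24
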