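import Cfsg.Agent.Spor.PGPres2
import Cfsg.Agent.Spor.PMOND1

/-! permutation model generated by tools/tc/pm -/

set_option maxRecDepth 100000
set_option autoImplicit false
set_option linter.all false

namespace CL.PM.ON
open CL.PG CL.PP

noncomputable def ns : List Net := [n0, n1, n2, n3, n4, n5, n6, n7, n8]
def ws : List (List ℕ) := [[6, 8, 6, 8], [4, 6, 8, 6, 4, 2, 8, 6, 8, 10, 8, 6, 4, 8, 6, 8, 10, 8, 6, 8, 2, 4, 6, 8, 6, 4]]
noncomputable def D : List (ℕ × List ℕ) := mkDefs ws 7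
def P : Par := ⟨122760, 122760, 17, 5⟩
def v0 : Lev := ⟨0, 122760, [[0], [4], [6], [8], [10], [0], [4], [8], [6], [12], [2], [4], [8], [10], [0], [6], [8], [0], [4], [10], [6], [0], [8], [4], [2], [0], [10], [6], [4], [8]], [[2], [4], [6], [8], [10], [12]], 0, 2⟩
def v1 : Lev := ⟨1, 58653, [[4], [6], [8], [10], [2], [4], [8], [12], [6], [8], [4], [2], [10], [6], [8], [4], [12], [6], [10], [2], [8], [4], [12], [10], [6], [2], [12], [8], [4], [6], [10], [2], [4], [8], [12], [6], [10], [4], [8], [10]], [[2], [14], [16]], 0, 2⟩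
def v2 : Lev := ⟨31, 64, [[2], [14], [16], [14], [14], [2], [16], [2], [16], [2], [16]], [], 0, 2⟩
def levs : List Lev := [v0, v1, v2]
def o0 : SubO := ⟨12, [[4], [2], [6], [8], [4], [6], [10], [4], [12], [8], [2], [6], [10], [4], [8], [2], [10], [12], [6], [8], [4], [10], [6], [2], [4], [8], [12], [2], [6], [10], [8], [4], [10], [6], [12], [8], [6], [10], [4], [8], [6], [8], [10]], 5586⟩
def o1 : SubO := ⟨32, [[2], [6], [10], [8], [4], [12], [6], [10], [2], [4], [8], [12], [2], [10], [6], [12], [4], [8], [2], [6], [10], [4], [8], [2], [6], [10], [12], [8], [4], [10], [8]], 6384⟩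
def o2 : SubO := ⟨6, [[2], [6], [4], [8], [2], [6], [10], [4], [8], [12], [2], [6], [10], [4], [8], [12], [2], [6], [10], [12], [4], [8], [2], [6], [10], [4], [8], [12], [2], [10], [6], [12], [8], [4], [10], [6], [2], [8], [4], [12], [6], [10], [8], [4], [2], [12], [4], [10], [6], [8]], 52136⟩
def o3 : SubO := ⟨1, [[4], [6], [8], [10], [2], [4], [8], [12], [6], [8], [4], [2], [10], [6], [8], [4], [12], [6], [10], [2], [8], [4], [12], [10], [6], [2], [12], [8], [4], [6], [10], [2], [4], [8], [12], [6], [10], [4], [8], [10]], 58653⟩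
def subs : List SubO := [o0, o1, o2, o3]
def us : List (List ℕ) := [[], [0], [10, 6, 4, 0]]
def R0 : List (List ℕ × List ℕ) := [([2, 2], []), ([2, 4, 2, 4, 2, 4], []), ([2, 6, 2, 6], []), ([2, 8, 2, 8], []), ([2, 10, 2, 10], []), ([2, 12, 2, 12], []), ([4, 4], []), ([4, 6, 4, 6, 4, 6], []), ([4, 8, 4, 8], []), ([4, 10, 4, 10], []), ([4, 12, 4, 12], []), ([6, 6], []), ([6, 8, 6, 8, 6, 8, 6, 8, 6, 8, 6, 8, 6, 8, 6, 8], []), ([6, 10, 6, 10], []), ([6, 12, 6, 12], []), ([8, 8], []), ([8, 10, 8, 10, 8, 10], []), ([8, 12, 8, 12], []), ([10, 10], []), ([10, 12, 10, 12, 10, 12], []), ([12, 12], []), ([2, 12, 1, 1], []), ([2, 12, 9, 7, 9, 7, 9, 7, 9, 7], []), ([6, 1, 9, 1, 9, 6, 8, 0, 8, 0], []), ([8, 1, 7, 1, 7, 8, 6, 0, 6, 0], []), ([4, 6, 8, 0, 4, 6, 8, 0, 4, 6, 8, 0, 4, 6, 8, 0, 4, 6, 8, 0], []), ([0, 4, 7, 0, 6, 5, 0, 4, 7, 0, 6], []), ([0, 10, 9, 0, 8, 11, 0, 10, 9, 0, 8], []), ([14], [6, 8, 6, 8]), ([16], [4,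 6, 8, 6, 4, 2, 8, 6, 8, 10, 8, 6, 4, 8, 6, 8, 10, 8, 6, 8, 2, 4, 6, 8, 6, 4])]
def R : List (List ℕ × List ℕ) := R0
theorem ok : allL (Net.okB 122760) ns = true := by decide +kernel

end CL.PM.ON
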