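/-
A standard permutation model (GL, dimension 3, field with 3 elements): degree 26, order 11232.
Generated by tools/pg.
-/
import Cfsg.Agent.Spor.PGCls
import Cfsg.Agent.Spor.PGCtx

set_option autoImplicit false
set_option maxRecDepth 200000
set_option Elab.async false
set_option linter.unusedVariables false

namespace CL.Std.GL33.M
open CL.PG

def P : Par := ⟨26, 32, 5, 3⟩
theorem hP : P.Ok := by decide
noncomputable def a0 : Net := (.cons 16 (nat_lit 0x467)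
 (.cons 8 (nat_lit 0xee0098)
 (.cons 4 (nat_lit 0xa060408)
 (.cons 2 (nat_lit 0x302110)
 (.cons 1 (nat_lit 0x44401441)
 (.cons 2 (nat_lit 0x202222)
 (.cons 4 (nat_lit 0x60c04)
 (.cons 8 (nat_lit 0xe80052)
 (.cons 16 (nat_lit 0x604)
 .nil)))))))))
noncomputable def a1 : Net := (.cons 16 (nat_lit 0xabbc)
 (.cons 8 (nat_lit 0xcd00fc)
 (.cons 4 (nat_lit 0x2090503)
 (.cons 2 (nat_lit 0x21220311)
 (.cons 1 (nat_lit 0x44114410)
 (.cons 2 (nat_lit 0x20202000)
 (.cons 4 (nat_lit 0x4000202)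
 (.cons 8 (nat_lit 0x6400aa)
 (.cons 16 (nat_lit 0xa88c)
 .nil)))))))))
noncomputable def a2 : Net := (.cons 16 (nat_lit 0x7398)
 (.cons 8 (nat_lit 0xd700e8)
 (.cons 4 (nat_lit 0x9030200)
 (.cons 2 (nat_lit 0x3002320)
 (.cons 1 (nat_lit 0x11010114)
 (.cons 2 (nat_lit 0x2020220)
 (.cons 4 (nat_lit 0x8000400)
 (.cons 8 (nat_lit 0xb400e0)
 (.cons 16 (nat_lit 0x7118)
 .nil)))))))))
noncomputable def a3 : Net := (.cons 16 (nat_lit 0xcf00)
 (.cons 8 (nat_lit 0xf00000)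
 (.cons 4 (nat_lit 0xf040300)
 (.cons 2 (nat_lit 0x30000)
 (.cons 1 (nat_lit 0x450000)
 (.cons 4 (nat_lit 0x40000)
 (.cons 8 (nat_lit 0xf00000)
 (.cons 16 (nat_lit 0xcf00)
 .nil))))))))
noncomputable def a4 : Net := (.cons 16 (nat_lit 0x1118)
 (.cons 8 (nat_lit 0x23009c)
 (.cons 4 (nat_lit 0x30c0b00)
 (.cons 2 (nat_lit 0x3000)
 (.cons 1 (nat_lit 0x45004)
 (.cons 4 (nat_lit 0x80808)
 (.cons 8 (nat_lit 0x20009c)
 (.cons 16 (nat_lit 0x1118)
 .nil))))))))
noncomputable def a5 : Net := (.cons 16 (nat_lit 0xfd00)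
 (.cons 8 (nat_lit 0x980000)
 (.cons 4 (nat_lit 0x8050000)
 (.cons 2 (nat_lit 0x33330000)
 (.cons 1 (nat_lit 0x5000100)
 (.cons 4 (nat_lit 0x8000000)
 (.cons 8 (nat_lit 0x980000)
 (.cons 16 (nat_lit 0xfd00)
 .nil))))))))
noncomputable def ns0 : List Net := [a0, a1]
noncomputable def ws : List (List ℕ) :=
  [W (nat_lit 0x40400803),
  W (nat_lit 0xc0200802),
  W (nat_lit 0x140801407018060200602006),
  W (nat_lit 0x8018080180602005)]
noncomputable def ns : List Net := [a0, a1, a2, a3, a4, a5]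
noncomputable def D : List (ℕ × List ℕ) := app [] (mkDefs ws 2)
noncomputable def chk : List (List ℕ × List ℕ) → Bool := P.relsB ns
noncomputable def V : List ℕ :=
  [(nat_lit 0x24924920124924900924924),
  (nat_lit 0x381c0e00070381c000e0703),
  (nat_lit 0x3fe00000001ff00000000ff)]
noncomputable def ms : List (List (List ℕ) × List (List ℕ)) :=
  [([[0, 2, 0], [0, 2, 2], [2, 2, 1]],
   [[2, 2, 2], [2, 0, 0], [1, 2, 0]]),
  ([[2, 1, 1], [0, 0, 2], [1, 1, 0]],
   [[1, 1, 2], [2, 2, 2], [0, 2, 0]])]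
noncomputable def G_v0 : Lev :=
  ⟨0, 26, sg (W (nat_lit 0x300c010040300c0100c01)), [[4], [6]], 0, 2⟩
noncomputable def G_v1 : Lev :=
  ⟨2, 24, sg (W (nat_lit 0x501c050140501c050140701405)), [[8], [7], [10]], 2, 2⟩
noncomputable def G_v2 : Lev :=
  ⟨8, 18, sg (W (nat_lit 0x80240b02009)), [], 4, 0⟩
noncomputable def G_vs3 : List Lev :=
  []
noncomputable def G_vs2 : List Lev :=
  G_v2 :: G_vs3
noncomputable def G_vs1 : List Lev :=
  G_v1 :: G_vs2
noncomputable def G_vs : List Lev :=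
  G_v0 :: G_vs1

theorem zv0 : vecB (tabP 3).q 2 3 P V = true := by decide +kernel
theorem zv1 : Nat.beq (lenL ms) (lenL ns0) = true := by decide +kernel
theorem zv2 : allL ((tabP 3).actB 2 3 P V) (zp Net.nil ms ns0) = true := by decide +kernel
theorem zv3 : (tabP 3).basB 3 P V [0, 2, 8] [[1, 0, 0], [0, 1, 0], [0, 0, 1]] = true := by decide +kernel
theorem zc4 : P.chainB ns D G_vs [[0], [2]] = true := by decide +kernel
theorem zk5 : allL (keepB P.n P.N) ns0 = true := by decide +kernel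
theorem ze6 : extB ns0 ns 2 ws [] = true := by decide +kernel
theorem zn7 : P.netsB ns (mkDefs ws 2) = true := by decide +kernel

section
variable {G X : Type*} [Group G] [MulAction G X] {e : ℕ → X} {gs : List G}

theorem keep0 : allL (keepB P.n P.N) ns0 = true := zk5

theorem len {k} (c : Ctx P e gs ns0 [] k) : gs.length = 2 := c.len ze6

theorem ctx0 {k} (c : Ctx P e gs ns0 [] k) : Ctx P e (ext gs ws) ns D chk0 :=
  c.ext rfl ze6 zn7

theorem ctx {k} (c : Ctx P e gs ns0 [] k) {H : Subgroup G} (hF : Faithful e P.n H) (hH : ∀ g ∈ gs, g ∈ H) :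
    Ctx P e (ext gs ws) ns D chk :=
  (ctx0 c).withB hF (mem_of_mem_ext hH _)

theorem hV : vecB (tabP 3).q 2 3 P V = true := zv0
theorem hact : allL ((tabP 3).actB 2 3 P V) (zp Net.nil ms ns0) = true := zv2
theorem hinv : allL ((tabP 3).invB 3) ms = true := actB_invB hact
theorem base {F : Type*} [Field F] {el : ℕ → F} (h : FC (tabP 3) el) : Ctx P (vecOf el (Fin.val : Fin 3 → ℕ) (tabP 3).q P.N V) (List.map (glF el (Fin.val : Fin 3 → ℕ)) ms) ns0 [] chk0 :=
  ctx_mat h (ix_fin 3) hP hV zv1 hact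
theorem faith {F : Type*} [Field F] {el : ℕ → F} (h : FC (tabP 3) el) : Faithful (vecOf el (Fin.val : Fin 3 → ℕ) (tabP 3).q P.N V) P.n (⊤ : Subgroup (GL (Fin 3) F)) :=
  faithful_vecOf h (ix_fin 3) hP hV zv3
theorem c1 {F : Type*} [Field F] {el : ℕ → F} (h : FC (tabP 3) el) : Ctx P (vecOf el (Fin.val : Fin 3 → ℕ) (tabP 3).q P.N V) (ext (List.map (glF el (Fin.val : Fin 3 → ℕ)) ms) ws) ns D chk :=
  ctx (base h) (faith h) fun _ _ => trivial

theorem G_c : P.chainB ns D G_vs [[0], [2]] = true :=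
  zc4

theorem G_o : prodL G_vs 1 = 11232 := by decide +kernel

theorem G_lb (c : Ctx P e gs ns D chk) :
    LB (subW gs [[0], [2]]) 11232 :=
  c.lb G_c G_o

end
end CL.Std.GL33.M

namespace CL.Std.GL33
open CL.PG

def P : Par := ⟨26, 32, 5, 3⟩
theorem hP : P.Ok := by decide
noncomputable def a0 : Net := (.cons 16 (nat_lit 0x467)
 (.cons 8 (nat_lit 0xee0098)
 (.cons 4 (nat_lit 0xa060408)
 (.cons 2 (nat_lit 0x302110)
 (.cons 1 (nat_lit 0x44401441)
 (.cons 2 (nat_lit 0x202222)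
 (.cons 4 (nat_lit 0x60c04)
 (.cons 8 (nat_lit 0xe80052)
 (.cons 16 (nat_lit 0x604)
 .nil)))))))))
noncomputable def a1 : Net := (.cons 16 (nat_lit 0xabbc)
 (.cons 8 (nat_lit 0xcd00fc)
 (.cons 4 (nat_lit 0x2090503)
 (.cons 2 (nat_lit 0x21220311)
 (.cons 1 (nat_lit 0x44114410)
 (.cons 2 (nat_lit 0x20202000)
 (.cons 4 (nat_lit 0x4000202)
 (.cons 8 (nat_lit 0x6400aa)
 (.cons 16 (nat_lit 0xa88c)
 .nil)))))))))
noncomputable def a2 : Net := (.cons 16 (nat_lit 0xf6a)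
 (.cons 8 (nat_lit 0x64004e)
 (.cons 4 (nat_lit 0x2090f00)
 (.cons 2 (nat_lit 0x20003020)
 (.cons 1 (nat_lit 0x45045440)
 (.cons 2 (nat_lit 0x20000020)
 (.cons 4 (nat_lit 0x2080c00)
 (.cons 8 (nat_lit 0x68005c)
 (.cons 16 (nat_lit 0xcea)
 .nil)))))))))
noncomputable def a3 : Net := (.cons 16 (nat_lit 0x99a8)
 (.cons 8 (nat_lit 0x1b00b4)
 (.cons 4 (nat_lit 0x10b030c)
 (.cons 2 (nat_lit 0x2311100)
 (.cons 1 (nat_lit 0x105040)
 (.cons 2 (nat_lit 0x200020)
 (.cons 4 (nat_lit 0x8000008)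
 (.cons 8 (nat_lit 0xd0)
 (.cons 16 (nat_lit 0x9a34)
 .nil)))))))))
noncomputable def a4 : Net := (.cons 16 (nat_lit 0xfe00)
 (.cons 8 (nat_lit 0xdb0000)
 (.cons 4 (nat_lit 0xb070000)
 (.cons 2 (nat_lit 0x3300000)
 (.cons 1 (nat_lit 0x14110100)
 (.cons 4 (nat_lit 0x8040000)
 (.cons 8 (nat_lit 0x240000)
 (.cons 16 (nat_lit 0xfe00)
 .nil))))))))
noncomputable def a5 : Net := (.cons 16 (nat_lit 0xa14)
 (.cons 8 (nat_lit 0xab0004)
 (.cons 4 (nat_lit 0x40b04)
 (.cons 2 (nat_lit 0x20030310)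
 (.cons 1 (nat_lit 0x1011100)
 (.cons 4 (nat_lit 0x8040c04)
 (.cons 8 (nat_lit 0xa80010)
 (.cons 16 (nat_lit 0xa14)
 .nil))))))))
noncomputable def a6 : Net := (.cons 16 (nat_lit 0xbe08)
 (.cons 8 (nat_lit 0xf70008)
 (.cons 4 (nat_lit 0x8000400)
 (.cons 2 (nat_lit 0x300)
 (.cons 1 (nat_lit 0x40000500)
 (.cons 4 (nat_lit 0x8000400)
 (.cons 8 (nat_lit 0x400008)
 (.cons 16 (nat_lit 0xbe08)
 .nil))))))))
noncomputable def ns0 : List Net := [a0, a1]
noncomputable def ws : List (List ℕ) :=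
  [W (nat_lit 0x200802010020080400804),
  W (nat_lit 0x80400803008030080300c02),
  W (nat_lit 0x200802008014080200502006),
  W (nat_lit 0x60200801405),
  W (nat_lit 0x50200601c07)]
noncomputable def ns : List Net := [a0, a1, a2, a3, a4, a5, a6]
noncomputable def D : List (ℕ × List ℕ) := app [] (mkDefs ws 2)
noncomputable def chk : List (List ℕ × List ℕ) → Bool := P.relsB ns
noncomputable def G_v0 : Lev :=
  ⟨0, 26, sg (W (nat_lit 0x300c010040300c0100c01)), [[4], [6]], 0, 2⟩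
noncomputable def G_v1 : Lev :=
  ⟨2, 24, sg (W (nat_lit 0x501c0501c0501c05)), [[8], [10], [12]], 2, 3⟩
noncomputable def G_v2 : Lev :=
  ⟨8, 18, sg (W (nat_lit 0xb0240d02c09)), [], 5, 0⟩
noncomputable def G_vs3 : List Lev :=
  []
noncomputable def G_vs2 : List Lev :=
  G_v2 :: G_vs3
noncomputable def G_vs1 : List Lev :=
  G_v1 :: G_vs2
noncomputable def G_vs : List Lev :=
  G_v0 :: G_vs1
noncomputable def zE1 : Net :=
  .nil
noncomputable def zK2 : Lk :=
  ⟨zE1, 1, 3, 1⟩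

theorem zc0 : P.chainB ns D G_vs [[0], [2]] = true := by decide +kernel
theorem zl3 : zK2.relB CL.Std.GL33.M.P CL.Std.GL33.P CL.Std.GL33.M.ns [[0], [2]] [[0], [2]] = true := by decide +kernel
theorem zl4 : allL (zK2.pl CL.Std.GL33.M.P CL.Std.GL33.P CL.Std.GL33.M.ns CL.Std.GL33.ns 0) (zp [] [[0], [2]] [[0], [2]]) = true := by decide +kernel
theorem zk5 : allL (keepB P.n P.N) ns0 = true := by decide +kernel
theorem ze6 : extB ns0 ns 2 ws [] = true := by decide +kernel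
theorem zn7 : P.netsB ns (mkDefs ws 2) = true := by decide +kernel

section
variable {G X : Type*} [Group G] [MulAction G X] {e : ℕ → X} {gs : List G}

theorem keep0 : allL (keepB P.n P.N) ns0 = true := zk5

theorem len {k} (c : Ctx P e gs ns0 [] k) : gs.length = 2 := c.len ze6

theorem ctx0 {k} (c : Ctx P e gs ns0 [] k) : Ctx P e (ext gs ws) ns D chk0 :=
  c.ext rfl ze6 zn7

theorem ctx {k} (c : Ctx P e gs ns0 [] k) {H : Subgroup G} (hF : Faithful e P.n H) (hH : ∀ g ∈ gs, g ∈ H) :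
    Ctx P e (ext gs ws) ns D chk :=
  (ctx0 c).withB hF (mem_of_mem_ext hH _)

instance instNe : NeZero P.n := ⟨by decide⟩
noncomputable def gs0 : List (Equiv.Perm (Fin P.n)) := permsOf P.n P.N ns0
noncomputable def gs1 : List (Equiv.Perm (Fin P.n)) := ext gs0 ws
theorem c1 : Ctx P (eF P.n) gs1 ns D chk :=
  ctx (ctx_permsOf hP keep0) (faithful_eF _) fun _ _ => trivial

theorem G_c : P.chainB ns D G_vs [[0], [2]] = true :=
  zc0

theorem G_o : prodL G_vs 1 = 11232 := by decide +kernel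

theorem G_lb (c : Ctx P e gs ns D chk) :
    LB (subW gs [[0], [2]]) 11232 :=
  c.lb G_c G_o

theorem rel {Γ Y : Type*} [Group Γ] [MulAction Γ Y] {e' : ℕ → Y} {cs : List Γ} {D₁ D₂ : List (ℕ × List ℕ)}
    {k₁ k₂ : List (List ℕ × List ℕ) → Bool} (c : Ctx CL.Std.GL33.M.P e gs CL.Std.GL33.M.ns D₁ k₁) (c' : Ctx CL.Std.GL33.P e' cs CL.Std.GL33.ns D₂ k₂)
    (hF : Faithful e' CL.Std.GL33.P.n (subW cs [[0], [2]])) :
    RelLe gs [[0], [2]] cs [[0], [2]] :=
  c.relLe (K := zK2) c' hF zl3 (fun (t : ℕ) (ht : t < 1) => match t, ht with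
    | 0, _ => zl4
    | t + 1, h => absurd h (by omega))

theorem iso {F : Type*} [Field F] [Fintype F] (hF : Fintype.card F = 3) :
    Nonempty ((subW gs1 [[0], [2]]) ≃* GL (Fin 3) F) := by
  obtain ⟨el, h⟩ := Tab.exists_fc (tabP 3) (by decide +kernel) F hF
  have hc : Nat.card (GL (Fin 3) F) = 11232 := card_gl hF 3 (by decide +kernel)
  have hK := subW_eq_range (l := [[0], [2]]) (MonoidHom.id _) Function.injective_id hc (by norm_num)
    (fun g _ => ⟨g, rfl⟩) (M.G_lb (M.c1 h))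
  exact (rel (M.c1 h) c1 ((faithful_eF _).mono le_top)).iso_of_range (MonoidHom.id _) Function.injective_id hc (by norm_num) hK (G_lb c1)
theorem card : Nat.card (subW gs1 [[0], [2]]) = 11232 := by
  obtain ⟨F, _, _, hF⟩ := exists_field 3 1 (by norm_num)
  replace hF : Fintype.card F = 3 := hF
  obtain ⟨el, h⟩ := Tab.exists_fc (tabP 3) (by decide +kernel) F hF
  exact (Nat.card_congr (iso hF).some.toEquiv).trans (card_gl hF 3 (by decide +kernel))
theorem ub : UB (subW gs1 [[0], [2]]) 11232 := UB.of_card card (by norm_num)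

end
end CL.Std.GL33

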