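/-
A standard permutation model (PSL, dimension 2, field with 11 elements): degree 12, order 660.
Generated by tools/pg.
-/
import Cfsg.Agent.Spor.PGCls
import Cfsg.Agent.Spor.PGCtx

set_option autoImplicit false
set_option maxRecDepth 200000
set_option Elab.async false
set_option linter.unusedVariables false

namespace CL.Std.L211.M
open CL.PG

def P : Par := ⟨120, 128, 7, 3⟩
theorem hP : P.Ok := by decide
noncomputable def a0 : Net := (.cons 64 (nat_lit 0xffdb000000000000)
 (.cons 32 (nat_lit 0xfff55eec0000000000000000)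
 (.cons 16 (nat_lit 0x7f94000035190000f8000000f800)
 (.cons 8 (nat_lit 0x66008e009f00f20018007700390000)
 (.cons 4 (nat_lit 0x60701080f0d0a0a0b070804060000)
 (.cons 2 (nat_lit 0x12231021200133311231000231131000)
 (.cons 1 (nat_lit 0x11504041145151414014000511455400)
 (.cons 2 (nat_lit 0x20002020002000002200000)
 (.cons 4 (nat_lit 0x800000c0208080402020000020a0800)
 (.cons 8 (nat_lit 0x10005a00c40000007000180000)
 (.cons 16 (nat_lit 0xf7f00000a8360000f80000007c00)
 (.cons 32 (nat_lit 0xffd57ddc0000000000000000)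
 (.cons 64 (nat_lit 0xffc6c00000000000)
 .nil)))))))))))))
noncomputable def a1 : Net := (.cons 64 (nat_lit 0xb34299d662d1baf4)
 (.cons 32 (nat_lit 0xa834e947000000004d31e7bc)
 (.cons 16 (nat_lit 0xf5390000c8b6000049040000b4e8)
 (.cons 8 (nat_lit 0xe40082000b00c1005900f7008000f9)
 (.cons 4 (nat_lit 0xa0e030f070301040d080e0208050807)
 (.cons 2 (nat_lit 0x312213132132023023331010312000)
 (.cons 1 (nat_lit 0x44101114514104411004454550510044)
 (.cons 2 (nat_lit 0x200020002002002200000020002)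
 (.cons 4 (nat_lit 0x208040e080204080a08000c000000)
 (.cons 8 (nat_lit 0xa8003000000052001000f0008000f0)
 (.cons 16 (nat_lit 0x751200002ee2000009880000c4d0)
 (.cons 32 (nat_lit 0xaf3a510000000004d1f0780)
 (.cons 64 (nat_lit 0xb3ccd182e7cdb000)
 .nil)))))))))))))
noncomputable def a2 : Net := (.cons 64 (nat_lit 0xfeffdffbff7fec00)
 (.cons 32 (nat_lit 0xfebfd7fa00000000fffffc00)
 (.cons 16 (nat_lit 0xc3f80000fff80000fff80000fc00)
 (.cons 8 (nat_lit 0xf8001800f800f800f800f800f80003)
 (.cons 4 (nat_lit 0x8080a0f08080808080808080808000c)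
 (.cons 2 (nat_lit 0x11111233111111111111111111110000)
 (.cons 1 (nat_lit 0x455000000000000000000000155)
 (.cons 2 (nat_lit 0x200000000000000000000000000)
 (.cons 4 (nat_lit 0x200000000000000000000000000)
 (.cons 8 (nat_lit 0x18000000000000000000000000)
 (.cons 16 (nat_lit 0x1e000000000000000000000fc00)
 (.cons 32 (nat_lit 0xa0140200000000fe000000)
 (.cons 64 (nat_lit 0xfe40080100200400)
 .nil)))))))))))))
noncomputable def ns0 : List Net := [a0, a1]
noncomputable def ws : List (List ℕ) :=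
  [W (nat_lit 0x80200c0200803)]
noncomputable def ns : List Net := [a0, a1, a2]
noncomputable def D : List (ℕ × List ℕ) := app [] (mkDefs ws 2)
noncomputable def chk : List (List ℕ × List ℕ) → Bool := P.relsB ns
noncomputable def V : List ℕ :=
  [(nat_lit 0x80100200400801002004008010020000400801002004008010020040080100002004008010020040080100200400800010020040080100200400801002004000080100200400801002004008010020000400801002004008010020040080100002004008010020040080100200400800010020040080100200400801002004000080100200400801002004008010020000400801002004008010020040080100002004008010020040080100200400),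
  (nat_lit 0xffe00000000000000000000000000000001ffc00000000000000000000000000000003ff800000000000000000000000000000007ff00000000000000000000000000000000ffe00000000000000000000000000000001ffc00000000000000000000000000000003ff800000000000000000000000000000007ff00000000000000000000000000000000ffe00000000000000000000000000000001ffc00000000000000000000000000000003ff)]
noncomputable def ms : List (List (List ℕ) × List (List ℕ)) :=
  [([[1, 6], [0, 1]],
   [[1, 5], [0, 1]]),
  ([[7, 4], [2, 6]],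
   [[6, 7], [9, 7]])]
noncomputable def G_v0 : Lev :=
  ⟨0, 120, sg (W (nat_lit 0x1004030040300403004030040300403)), [[0]], 0, 0⟩
noncomputable def G_v1 : Lev :=
  ⟨10, 11, sg (W (nat_lit 0x40100401004010040100401)), [], 0, 0⟩
noncomputable def G_vs2 : List Lev :=
  []
noncomputable def G_vs1 : List Lev :=
  G_v1 :: G_vs2
noncomputable def G_vs : List Lev :=
  G_v0 :: G_vs1
noncomputable def Z_v0 : Lev :=
  ⟨0, 2, sg [4], [], 1, 0⟩
noncomputable def Z_vs1 : List Lev :=
  []
noncomputable def Z_vs : List Lev :=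
  Z_v0 :: Z_vs1

theorem zv0 : vecB (tabP 11).q 4 2 P V = true := by decide +kernel
theorem zv1 : Nat.beq (lenL ms) (lenL ns0) = true := by decide +kernel
theorem zv2 : allL ((tabP 11).actB 4 2 P V) (zp Net.nil ms ns0) = true := by decide +kernel
theorem zv3 : (tabP 11).basB 2 P V [0, 10] [[1, 0], [0, 1]] = true := by decide +kernel
theorem zv4 : allL ((tabP 11).detB 2 10) ms = true := by decide +kernel
theorem zc5 : P.chainB ns D G_vs [[0], [2]] = true := by decide +kernel
theorem zc6 : P.chainB ns D Z_vs [[4]] = true := by decide +kernel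
theorem zr7 : chk (comR [[4]] [[0], [2]]) = true := by decide +kernel
theorem zm8 : leB D [[4]] [[0], [2]] = true := by decide +kernel
theorem zk9 : allL (keepB P.n P.N) ns0 = true := by decide +kernel
theorem ze10 : extB ns0 ns 2 ws [] = true := by decide +kernel
theorem zn11 : P.netsB ns (mkDefs ws 2) = true := by decide +kernel

section
variable {G X : Type*} [Group G] [MulAction G X] {e : ℕ → X} {gs : List G}

theorem keep0 : allL (keepB P.n P.N) ns0 = true := zk9

theorem len {k} (c : Ctx P e gs ns0 [] k) : gs.length = 2 := c.len ze10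

theorem ctx0 {k} (c : Ctx P e gs ns0 [] k) : Ctx P e (ext gs ws) ns D chk0 :=
  c.ext rfl ze10 zn11

theorem ctx {k} (c : Ctx P e gs ns0 [] k) {H : Subgroup G} (hF : Faithful e P.n H) (hH : ∀ g ∈ gs, g ∈ H) :
    Ctx P e (ext gs ws) ns D chk :=
  (ctx0 c).withB hF (mem_of_mem_ext hH _)

theorem hV : vecB (tabP 11).q 4 2 P V = true := zv0
theorem hact : allL ((tabP 11).actB 4 2 P V) (zp Net.nil ms ns0) = true := zv2
theorem hinv : allL ((tabP 11).invB 2) ms = true := actB_invB hact
theorem base {F : Type*} [Field F] {el : ℕ → F} (h : FC (tabP 11) el) : Ctx P (vecOf el (Fin.val : Fin 2 → ℕ) (tabP 11).q P.N V) (List.map (glF el (Fin.val : Fin 2 → ℕ)) ms) ns0 [] chk0 :=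
  ctx_mat h (ix_fin 2) hP hV zv1 hact
theorem faith {F : Type*} [Field F] {el : ℕ → F} (h : FC (tabP 11) el) : Faithful (vecOf el (Fin.val : Fin 2 → ℕ) (tabP 11).q P.N V) P.n (⊤ : Subgroup (GL (Fin 2) F)) :=
  faithful_vecOf h (ix_fin 2) hP hV zv3
theorem c1 {F : Type*} [Field F] {el : ℕ → F} (h : FC (tabP 11) el) : Ctx P (vecOf el (Fin.val : Fin 2 → ℕ) (tabP 11).q P.N V) (ext (List.map (glF el (Fin.val : Fin 2 → ℕ)) ms) ws) ns D chk :=
  ctx (base h) (faith h) fun _ _ => trivial

theorem G_c : P.chainB ns D G_vs [[0], [2]] = true :=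
  zc5

theorem G_o : prodL G_vs 1 = 1320 := by decide +kernel

theorem G_lb (c : Ctx P e gs ns D chk) :
    LB (subW gs [[0], [2]]) 1320 :=
  c.lb G_c G_o

theorem Z_c : P.chainB ns D Z_vs [[4]] = true :=
  zc6

theorem Z_o : prodL Z_vs 1 = 2 := by decide +kernel

theorem Z_lb (c : Ctx P e gs ns D chk) :
    LB (subW gs [[4]]) 2 :=
  c.lb Z_c Z_o

theorem hZ (c : Ctx P e gs ns D chk) :
    (subW gs [[4]]) ≤ (subW gs [[0], [2]]) ∧ Rels gs (comR [[4]] [[0], [2]]) :=
  ⟨(c.le zm8), (c.rels _ zr7)⟩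

end
end CL.Std.L211.M

namespace CL.Std.L211
open CL.PG

def P : Par := ⟨12, 12, 4, 2⟩
theorem hP : P.Ok := by decide
noncomputable def a0 : Net := (.cons 6 (nat_lit 0x3e)
 (.cons 3 (nat_lit 0x40)
 (.cons 1 (nat_lit 0x240)
 (.cons 1 (nat_lit 0x480)
 .nil))))
noncomputable def a1 : Net := (.cons 6 (nat_lit 0x13)
 (.cons 3 (nat_lit 0x142)
 (.cons 1 (nat_lit 0x8)
 (.cons 1 (nat_lit 0x90)
 (.cons 1 (nat_lit 0x49)
 (.cons 6 (nat_lit 0x36)
 .nil))))))
noncomputable def a2 : Net := (.cons 6 (nat_lit 0x14)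
 (.cons 3 (nat_lit 0x142)
 (.cons 1 (nat_lit 0x48)
 (.cons 1 (nat_lit 0x490)
 (.cons 1 (nat_lit 0x200)
 (.cons 3 (nat_lit 0x186)
 (.cons 6 (nat_lit 0x3e)
 .nil)))))))
noncomputable def a3 : Net := (.cons 6 (nat_lit 0x30)
 (.cons 3 (nat_lit 0x182)
 (.cons 1 (nat_lit 0x48)
 (.cons 1 (nat_lit 0x492)
 (.cons 1 (nat_lit 0x208)
 (.cons 3 (nat_lit 0x86)
 (.cons 6 (nat_lit 0x14)
 .nil)))))))
noncomputable def ns0 : List Net := [a0, a1]
noncomputable def ws : List (List ℕ) :=
  [W (nat_lit 0xc030040300c03),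
  W (nat_lit 0x806)]
noncomputable def ns : List Net := [a0, a1, a2, a3]
noncomputable def D : List (ℕ × List ℕ) := app [] (mkDefs ws 2)
noncomputable def chk : List (List ℕ × List ℕ) → Bool := P.relsB ns
noncomputable def G_v0 : Lev :=
  ⟨0, 12, sg (W (nat_lit 0x4010040300403)), [[4], [0]], 0, 1⟩
noncomputable def G_v1 : Lev :=
  ⟨1, 11, sg (W (nat_lit 0x50040500405)), [[6]], 1, 1⟩
noncomputable def G_v2 : Lev :=
  ⟨2, 5, sg (W (nat_lit 0x1c0701c07)), [], 2, 0⟩
noncomputable def G_vs3 : List Lev :=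
  []
noncomputable def G_vs2 : List Lev :=
  G_v2 :: G_vs3
noncomputable def G_vs1 : List Lev :=
  G_v1 :: G_vs2
noncomputable def G_vs : List Lev :=
  G_v0 :: G_vs1
noncomputable def zE1 : Net :=
  (.cons 64 (nat_lit 0x60500b16a8dc046c)
 (.cons 32 (nat_lit 0x2bd9ba00000000a786f1d6)
 (.cons 16 (nat_lit 0x204d0000196c0000b60c0000c28a)
 (.cons 8 (nat_lit 0x80000400a6004400ae0084008c00ba)
 (.cons 4 (nat_lit 0x30e010a0801020d0100030e0c0c02)
 (.cons 2 (nat_lit 0x30011011003310001300210111020)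
 (.cons 1 (nat_lit 0x40115054144545154154545410044544)
 (.cons 2 (nat_lit 0x200000200202020220000002)
 (.cons 4 (nat_lit 0x40802060a0800060008020a080808)
 (.cons 8 (nat_lit 0x80000c005e0070008800e20000000a)
 (.cons 16 (nat_lit 0x8400001930000025de00008390)
 (.cons 32 (nat_lit 0x221408000000003dd5777a)
 (.cons 64 (nat_lit 0x60434d75f0b58e02)
 .nil)))))))))))))
noncomputable def zK2 : Lk :=
  ⟨zE1, 10, 2, 1⟩

theorem zc0 : P.chainB ns D G_vs [[0], [2]] = true := by decide +kernel
theorem zl3 : zK2.relB CL.Std.L211.M.P CL.Std.L211.P CL.Std.L211.M.ns [[0], [2], [4]] [[0], [2]] = true := by decide +kernel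
theorem zl4 : allL (zK2.pl CL.Std.L211.M.P CL.Std.L211.P CL.Std.L211.M.ns CL.Std.L211.ns 0) (zp [] [[0], [2], [4]] [[0], [2]]) = true := by decide +kernel
theorem zk5 : allL (keepB P.n P.N) ns0 = true := by decide +kernel
theorem ze6 : extB ns0 ns 2 ws [] = true := by decide +kernel
theorem zn7 : P.netsB ns (mkDefs ws 2) = true := by decide +kernel

section
variable {G X : Type*} [Group G] [MulAction G X] {e : ℕ → X} {gs : List G}

theorem keep0 : allL (keepB P.n P.N) ns0 = true := zk5

theorem len {k} (c : Ctx P e gs ns0 [] k) : gs.length = 2 := c.len ze6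

theorem ctx0 {k} (c : Ctx P e gs ns0 [] k) : Ctx P e (ext gs ws) ns D chk0 :=
  c.ext rfl ze6 zn7

theorem ctx {k} (c : Ctx P e gs ns0 [] k) {H : Subgroup G} (hF : Faithful e P.n H) (hH : ∀ g ∈ gs, g ∈ H) :
    Ctx P e (ext gs ws) ns D chk :=
  (ctx0 c).withB hF (mem_of_mem_ext hH _)

instance instNe : NeZero P.n := ⟨by decide⟩
noncomputable def gs0 : List (Equiv.Perm (Fin P.n)) := permsOf P.n P.N ns0
noncomputable def gs1 : List (Equiv.Perm (Fin P.n)) := ext gs0 ws
theorem c1 : Ctx P (eF P.n) gs1 ns D chk :=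
  ctx (ctx_permsOf hP keep0) (faithful_eF _) fun _ _ => trivial

theorem G_c : P.chainB ns D G_vs [[0], [2]] = true :=
  zc0

theorem G_o : prodL G_vs 1 = 660 := by decide +kernel

theorem G_lb (c : Ctx P e gs ns D chk) :
    LB (subW gs [[0], [2]]) 660 :=
  c.lb G_c G_o

theorem rel {Γ Y : Type*} [Group Γ] [MulAction Γ Y] {e' : ℕ → Y} {cs : List Γ} {D₁ D₂ : List (ℕ × List ℕ)}
    {k₁ k₂ : List (List ℕ × List ℕ) → Bool} (c : Ctx CL.Std.L211.M.P e gs CL.Std.L211.M.ns D₁ k₁) (c' : Ctx CL.Std.L211.P e' cs CL.Std.L211.ns D₂ k₂)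
    (hF : Faithful e' CL.Std.L211.P.n (subW cs [[0], [2]])) :
    RelLe gs [[0], [2], [4]] cs [[0], [2]] :=
  c.relLe (K := zK2) c' hF zl3 (fun (t : ℕ) (ht : t < 1) => match t, ht with
    | 0, _ => zl4
    | t + 1, h => absurd h (by omega))

instance instP : Fact (Nat.Prime 11) := ⟨by norm_num⟩

theorem hom {F : Type*} [Field F] [Fintype F] (hF : Fintype.card F = 11) :
    ∃ f : Matrix.SpecialLinearGroup (Fin 2) F →* Equiv.Perm (Fin P.n), f.range = (subW gs1 [[0], [2]]) ∧ f.ker = Subgroup.center _ ∧ Nat.card (subW gs1 [[0], [2]]) = 660 := by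
  obtain ⟨el, h⟩ := Tab.exists_fc (tabP 11) (by decide +kernel) F hF
  have hc : Nat.card (Matrix.SpecialLinearGroup (Fin 2) F) = 1320 := card_sl hF 2 (by decide +kernel)
  have hK := subW_eq_range (l := [[0], [2]]) Matrix.SpecialLinearGroup.toGL Matrix.SpecialLinearGroup.toGL_injective hc (by norm_num)
    (subW_le_of_forall (mem_of_mem_ext (forall_mem_SL h (ix_fin 2) M.hinv M.zv4) _) _) (M.G_lb (M.c1 h))
  have : Finite (Matrix.SpecialLinearGroup (Fin 2) F) := Nat.finite_of_card_ne_zero (by rw [hc]; norm_num)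
  exact cquot_of_card (RelLe.cquot0 (l := [[0], [2]]) (lZ := [[4]]) (a := 2) (b := 660) (rel (M.c1 h) c1 ((faithful_eF _).mono le_top)) (by decide)
    Matrix.SpecialLinearGroup.toGL Matrix.SpecialLinearGroup.toGL_injective hc (by norm_num) hK (M.hZ (M.c1 h)).1 (M.hZ (M.c1 h)).2 (M.Z_lb (M.c1 h)) (G_lb c1)) (card_psl hF 1 (by decide +kernel))
theorem iso {F : Type*} [Field F] [Fintype F] (hF : Fintype.card F = 11) :
    Nonempty ((subW gs1 [[0], [2]]) ≃* Matrix.SpecialLinearGroup (Fin 2) F ⧸ Subgroup.center (Matrix.SpecialLinearGroup (Fin 2) F)) := cquot_equiv (hom hF)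
theorem card : Nat.card (subW gs1 [[0], [2]]) = 660 := by
  obtain ⟨F, _, _, hF⟩ := exists_field 11 1 (by norm_num)
  replace hF : Fintype.card F = 11 := hF
  exact (hom hF).choose_spec.2.2
theorem ub : UB (subW gs1 [[0], [2]]) 660 := UB.of_card card (by norm_num)

theorem simple : IsSimpleGroup (subW gs1 [[0], [2]]) := by
  obtain ⟨F, _, _, hF⟩ := exists_field 11 1 (by norm_num)
  replace hF : Fintype.card F = 11 := hF
  obtain ⟨el, h⟩ := Tab.exists_fc (tabP 11) (by decide +kernel) F hF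
  have : IsSimpleGroup (Matrix.SpecialLinearGroup (Fin 2) F ⧸ Subgroup.center (Matrix.SpecialLinearGroup (Fin 2) F)) := SLn.isSimpleGroup_PSL_fin (F := F) 2 (by norm_num) (by rw [hF]; norm_num)
  exact (iso hF).some.isSimpleGroup

end
end CL.Std.L211

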