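/-
A standard permutation model (PSL, dimension 2, field with 13 elements): degree 14, order 1092.
Generated by tools/pg.
-/
import Cfsg.Agent.Spor.PGCls
import Cfsg.Agent.Spor.PGCtx

set_option autoImplicit false
set_option maxRecDepth 200000
set_option Elab.async false
set_option linter.unusedVariables false

namespace CL.Std.L213.M
open CL.PG

def P : Par := ⟨168, 192, 8, 3⟩
theorem hP : P.Ok := by decide
noncomputable def a0 : Net := (.cons 96 (nat_lit 0x37828cc582f9894812a1c026)
 (.cons 48 (nat_lit 0x7444c71e4c7d000000000000cbc349df2f71)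
 (.cons 24 (nat_lit 0x95f2750000004989ea0000000745800000002456fa)
 (.cons 12 (nat_lit 0xf3b000630000824000215000e220000c9000006000515)
 (.cons 6 (nat_lit 0x2f00301403c00102600401202101b03002600a027026015)
 (.cons 3 (nat_lit 0x21810401c60061460441060451421031011821400c2104)
 (.cons 1 (nat_lit 0x240001040000200000208201001240041200041001000041)
 (.cons 1 (nat_lit 0x480082080402482080492402012490082410482482002092)
 (.cons 1 (nat_lit 0x41208048041041008241200048201041209049041040001)
 (.cons 3 (nat_lit 0x82004000084104102106000080082100000082080084102)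
 (.cons 6 (nat_lit 0x3e02801003c02402600402600003a01801200803a038016)
 (.cons 12 (nat_lit 0xf6000043c0003cc000ba40002d80006f0000380000094)
 (.cons 24 (nat_lit 0x91b276000000c419ca00000046adc8000000a463c8)
 (.cons 48 (nat_lit 0x53c6432b384e000000000000c3f60b3fc85c)
 (.cons 96 (nat_lit 0x37828c992e14d8ebd304e14c)
 .nil)))))))))))))))
noncomputable def a1 : Net := (.cons 96 (nat_lit 0xfc283eaaa5842b80143ea56a)
 (.cons 48 (nat_lit 0x727cc4d2a12000000000000ef497eb525c0)
 (.cons 24 (nat_lit 0x646d2a00000060ed340000004c6c320000001c82ea)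
 (.cons 12 (nat_lit 0xaa0000aaa00080a000a82000aaa000a000000aa00003f)
 (.cons 6 (nat_lit 0x20020020000000020000020000000020000000000000)
 (.cons 3 (nat_lit 0x104180180000000140000100100006100000000180005)
 (.cons 1 (nat_lit 0x48040040000000240000040200008040000000200001)
 (.cons 1 (nat_lit 0x12090480480080000480010080410012082000000480092)
 (.cons 1 (nat_lit 0x40048040040200008248000048240048048040040200208)
 (.cons 3 (nat_lit 0x104180180000000000000100100006100000000180002)
 (.cons 6 (nat_lit 0x20020020000000020000020000000020000000000000)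
 (.cons 12 (nat_lit 0x400000000050000005000000000005400000000052a)
 (.cons 24 (nat_lit 0xa61040000003c85000000000aa2040000001e64aa)
 (.cons 48 (nat_lit 0x1707f20a6508000000000000ec08beef88aa)
 (.cons 96 (nat_lit 0xfc283eea0aac1f86aa056380)
 .nil)))))))))))))))
noncomputable def a2 : Net := (.cons 96 (nat_lit 0xfc0000000000000000000000)
 (.cons 48 (nat_lit 0xe38e000000000000000000001c4630000000)
 (.cons 24 (nat_lit 0x900888000000c000730000000e0007000000eafffe)
 (.cons 12 (nat_lit 0xc100008020006b5000fa00003a1000af5000415000fe8)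
 (.cons 6 (nat_lit 0x802000300502101c03803f02901700f00702001003701e)
 (.cons 3 (nat_lit 0x801c30c61001000c71060410031461460870020c1084)
 (.cons 1 (nat_lit 0x8200041000200200048240048001008201001040048)
 (.cons 1 (nat_lit 0x480010492092092402400492480490082412402002082490)
 (.cons 1 (nat_lit 0x40208249000040209200201209008048208009000009040)
 (.cons 3 (nat_lit 0x180100100100106000100080082086002004004)
 (.cons 6 (nat_lit 0x2003800002000601200003802400000002000000003a032)
 (.cons 12 (nat_lit 0xa100004000006f2000d000002d0000550000414000f9c)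
 (.cons 24 (nat_lit 0x640088000000800066000000010004000000abfffe)
 (.cons 48 (nat_lit 0xc78e000000000000000000001e2302000000)
 (.cons 96 (nat_lit 0xfc0000000000000000000000)
 .nil)))))))))))))))
noncomputable def a3 : Net := (.cons 96 (nat_lit 0x1fdefff7ffbffdffeff000)
 (.cons 48 (nat_lit 0x405fdefef7f7000000000000041ffffff000)
 (.cons 24 (nat_lit 0x111ddc000000001fff000000001fff000000001000)
 (.cons 12 (nat_lit 0xd14000001000001000001000001000001000041000000)
 (.cons 6 (nat_lit 0x3401e03a03e03a03e03e03e03e03e03e03e03e02003e03f)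
 (.cons 3 (nat_lit 0x1041861061861841861861861861861861861861001861c7)
 (.cons 1 (nat_lit 0x1208000000000000000000000000000000000040000249)
 (.cons 1 (nat_lit 0x412410092492482492492492492492492492492080492492)
 (.cons 1 (nat_lit 0x1208000000000000000000000000000000000040000249)
 (.cons 3 (nat_lit 0x104104100000004000000000000000000000000100000000)
 (.cons 6 (nat_lit 0x20000010000010000000000000000000000000020000000)
 (.cons 12 (nat_lit 0xd14000000000000000000000000000000000040000000)
 (.cons 24 (nat_lit 0x111888000000000000000000000000000000001000)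
 (.cons 48 (nat_lit 0x404202101080000000000000041ffe000000)
 (.cons 96 (nat_lit 0x1fde010008004002001000)
 .nil)))))))))))))))
noncomputable def ns0 : List Net := [a0, a1]
noncomputable def ws : List (List ℕ) :=
  [W (nat_lit 0xc0100c0100401),
  W (nat_lit 0x180301803)]
noncomputable def ns : List Net := [a0, a1, a2, a3]
noncomputable def D : List (ℕ × List ℕ) := app [] (mkDefs ws 2)
noncomputable def chk : List (List ℕ × List ℕ) → Bool := P.relsB ns
noncomputable def V : List ℕ :=
  [(nat_lit 0x800400200100080040020010008004002001000800000000400200100080040020010008004002001000800400000000200100080040020010008004002001000800400200000000100080040020010008004002001000800400200100000000080040020010008004002001000800400200100080000000040020010008004002001000800400200100080040000000020010008004002001000800400200100080040020000000010008004002001000800400200100080040020010000000008004002001000800400200100080040020010008000000004002001000800400200100080040020010008004000000002001000800400200100080040020010008004002000000001000800400200100080040020010008004002001000000000800400200100080040020010008004002001000),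
  (nat_lit 0xfff8000000000000000000000000000000000000000000000007ffc000000000000000000000000000000000000000000000003ffe000000000000000000000000000000000000000000000001fff000000000000000000000000000000000000000000000000fff8000000000000000000000000000000000000000000000007ffc000000000000000000000000000000000000000000000003ffe000000000000000000000000000000000000000000000001fff000000000000000000000000000000000000000000000000fff8000000000000000000000000000000000000000000000007ffc000000000000000000000000000000000000000000000003ffe000000000000000000000000000000000000000000000001fff000000000000000000000000000000000000000000000000fff)]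
noncomputable def ms : List (List (List ℕ) × List (List ℕ)) :=
  [([[4, 2], [2, 11]],
   [[11, 11], [11, 4]]),
  ([[2, 1], [12, 0]],
   [[0, 12], [1, 2]])]
noncomputable def G_v0 : Lev :=
  ⟨0, 168, sg (W (nat_lit 0xc0100c0100c0100c0100c0100c0100c01)), [[4]], 0, 1⟩
noncomputable def G_v1 : Lev :=
  ⟨12, 13, sg (W (nat_lit 0x14050140501405014050140501405)), [], 1, 0⟩
noncomputable def G_vs2 : List Lev :=
  []
noncomputable def G_vs1 : List Lev :=
  G_v1 :: G_vs2
noncomputable def G_vs : List Lev :=
  G_v0 :: G_vs1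
noncomputable def Z_v0 : Lev :=
  ⟨0, 2, sg [6], [], 2, 0⟩
noncomputable def Z_vs1 : List Lev :=
  []
noncomputable def Z_vs : List Lev :=
  Z_v0 :: Z_vs1

theorem zv0 : vecB (tabP 13).q 4 2 P V = true := by decide +kernel
theorem zv1 : Nat.beq (lenL ms) (lenL ns0) = true := by decide +kernel
theorem zv2 : allL ((tabP 13).actB 4 2 P V) (zp Net.nil ms ns0) = true := by decide +kernel
theorem zv3 : (tabP 13).basB 2 P V [0, 12] [[1, 0], [0, 1]] = true := by decide +kernel
theorem zv4 : allL ((tabP 13).detB 2 12) ms = true := by decide +kernel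
theorem zc5 : P.chainB ns D G_vs [[0], [2]] = true := by decide +kernel
theorem zc6 : P.chainB ns D Z_vs [[6]] = true := by decide +kernel
theorem zr7 : chk (comR [[6]] [[0], [2]]) = true := by decide +kernel
theorem zm8 : leB D [[6]] [[0], [2]] = true := by decide +kernel
theorem zk9 : allL (keepB P.n P.N) ns0 = true := by decide +kernel
theorem ze10 : extB ns0 ns 2 ws [] = true := by decide +kernel
theorem zn11 : P.netsB ns (mkDefs ws 2) = true := by decide +kernel

section
variable {G X : Type*} [Group G] [MulAction G X] {e : ℕ → X} {gs : List G}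

theorem keep0 : allL (keepB P.n P.N) ns0 = true := zk9

theorem len {k} (c : Ctx P e gs ns0 [] k) : gs.length = 2 := c.len ze10

theorem ctx0 {k} (c : Ctx P e gs ns0 [] k) : Ctx P e (ext gs ws) ns D chk0 :=
  c.ext rfl ze10 zn11

theorem ctx {k} (c : Ctx P e gs ns0 [] k) {H : Subgroup G} (hF : Faithful e P.n H) (hH : ∀ g ∈ gs, g ∈ H) :
    Ctx P e (ext gs ws) ns D chk :=
  (ctx0 c).withB hF (mem_of_mem_ext hH _)

theorem hV : vecB (tabP 13).q 4 2 P V = true := zv0
theorem hact : allL ((tabP 13).actB 4 2 P V) (zp Net.nil ms ns0) = true := zv2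
theorem hinv : allL ((tabP 13).invB 2) ms = true := actB_invB hact
theorem base {F : Type*} [Field F] {el : ℕ → F} (h : FC (tabP 13) el) : Ctx P (vecOf el (Fin.val : Fin 2 → ℕ) (tabP 13).q P.N V) (List.map (glF el (Fin.val : Fin 2 → ℕ)) ms) ns0 [] chk0 :=
  ctx_mat h (ix_fin 2) hP hV zv1 hact
theorem faith {F : Type*} [Field F] {el : ℕ → F} (h : FC (tabP 13) el) : Faithful (vecOf el (Fin.val : Fin 2 → ℕ) (tabP 13).q P.N V) P.n (⊤ : Subgroup (GL (Fin 2) F)) :=
  faithful_vecOf h (ix_fin 2) hP hV zv3
theorem c1 {F : Type*} [Field F] {el : ℕ → F} (h : FC (tabP 13) el) : Ctx P (vecOf el (Fin.val : Fin 2 → ℕ) (tabP 13).q P.N V) (ext (List.map (glF el (Fin.val : Fin 2 → ℕ)) ms) ws) ns D chk :=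
  ctx (base h) (faith h) fun _ _ => trivial

theorem G_c : P.chainB ns D G_vs [[0], [2]] = true :=
  zc5

theorem G_o : prodL G_vs 1 = 2184 := by decide +kernel

theorem G_lb (c : Ctx P e gs ns D chk) :
    LB (subW gs [[0], [2]]) 2184 :=
  c.lb G_c G_o

theorem Z_c : P.chainB ns D Z_vs [[6]] = true :=
  zc6

theorem Z_o : prodL Z_vs 1 = 2 := by decide +kernel

theorem Z_lb (c : Ctx P e gs ns D chk) :
    LB (subW gs [[6]]) 2 :=
  c.lb Z_c Z_o

theorem hZ (c : Ctx P e gs ns D chk) :
    (subW gs [[6]]) ≤ (subW gs [[0], [2]]) ∧ Rels gs (comR [[6]] [[0], [2]]) :=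
  ⟨(c.le zm8), (c.rels _ zr7)⟩

end
end CL.Std.L213.M

namespace CL.Std.L213
open CL.PG

def P : Par := ⟨14, 16, 4, 2⟩
theorem hP : P.Ok := by decide
noncomputable def a0 : Net := (.cons 8 (nat_lit 0x20)
 (.cons 4 (nat_lit 0xa06)
 (.cons 2 (nat_lit 0x2313)
 (.cons 1 (nat_lit 0x1441)
 (.cons 2 (nat_lit 0x2222)
 (.cons 4 (nat_lit 0xa00)
 (.cons 8 (nat_lit 0x10)
 .nil)))))))
noncomputable def a1 : Net := (.cons 8 (nat_lit 0xd2)
 (.cons 4 (nat_lit 0x909)
 (.cons 2 (nat_lit 0x1322)
 (.cons 1 (nat_lit 0x4014)
 (.cons 2 (nat_lit 0x2)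
 (.cons 4 (nat_lit 0xc0a)
 (.cons 8 (nat_lit 0xc4)
 .nil)))))))
noncomputable def a2 : Net := (.cons 8 (nat_lit 0xfa)
 (.cons 2 (nat_lit 0x3300)
 (.cons 1 (nat_lit 0x5010)
 (.cons 4 (nat_lit 0xa02)
 (.cons 8 (nat_lit 0xcc)
 .nil)))))
noncomputable def a3 : Net := (.cons 8 (nat_lit 0xf8)
 (.cons 4 (nat_lit 0xe08)
 (.cons 2 (nat_lit 0x2222)
 (.cons 1 (nat_lit 0x4)
 (.cons 2 (nat_lit 0x2)
 (.cons 4 (nat_lit 0x8)
 (.cons 8 (nat_lit 0xc0)
 .nil)))))))
noncomputable def a4 : Net := (.cons 8 (nat_lit 0xe8)
 (.cons 4 (nat_lit 0x300)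
 (.cons 2 (nat_lit 0x3300)
 (.cons 1 (nat_lit 0x514)
 (.cons 4 (nat_lit 0xa00)
 (.cons 8 (nat_lit 0xcc)
 .nil))))))
noncomputable def ns0 : List Net := [a0, a1]
noncomputable def ws : List (List ℕ) :=
  [W (nat_lit 0x10100101001),
  W (nat_lit 0x10040100403),
  W (nat_lit 0x18070140801407)]
noncomputable def ns : List Net := [a0, a1, a2, a3, a4]
noncomputable def D : List (ℕ × List ℕ) := app [] (mkDefs ws 2)
noncomputable def chk : List (List ℕ × List ℕ) → Bool := P.relsB ns
noncomputable def G_v0 : Lev :=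
  ⟨0, 14, sg (W (nat_lit 0xc010040100c01)), [[4], [6]], 0, 2⟩
noncomputable def G_v1 : Lev :=
  ⟨1, 13, sg (W (nat_lit 0x140501c0501c05)), [[8]], 2, 1⟩
noncomputable def G_v2 : Lev :=
  ⟨2, 6, sg (W (nat_lit 0x90240902409)), [], 3, 0⟩
noncomputable def G_vs3 : List Lev :=
  []
noncomputable def G_vs2 : List Lev :=
  G_v2 :: G_vs3
noncomputable def G_vs1 : List Lev :=
  G_v1 :: G_vs2
noncomputable def G_vs : List Lev :=
  G_v0 :: G_vs1
noncomputable def zE1 : Net :=
  (.cons 96 (nat_lit 0xf4eef834048408adea640026)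
 (.cons 48 (nat_lit 0xd6a1a85aa6fc000000000000a3be1354a92e)
 (.cons 24 (nat_lit 0x6c0bdc0000002313f300000051a5a20000009f0640)
 (.cons 12 (nat_lit 0xd20000a44000f24000f7f00018d000a4a000434000878)
 (.cons 6 (nat_lit 0x2e01403800c02f02100502403403802101803003e010018)
 (.cons 3 (nat_lit 0xc20801441031821400020451041010470411041441c4104)
 (.cons 1 (nat_lit 0x8200040001201208040000200000200040001008048200)
 (.cons 1 (nat_lit 0x90410082012482412080090492400402080092490092402)
 (.cons 1 (nat_lit 0x200248249240049248008201201201241241041249009040)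
 (.cons 3 (nat_lit 0x6080004004004082102082180000002002004004000104)
 (.cons 6 (nat_lit 0x2402002001402400802603802001202a008030026000018)
 (.cons 12 (nat_lit 0x220000906000100000d3800040c000a580005100008ba)
 (.cons 24 (nat_lit 0xac4b2c000000e7c534000000d3beb4000000c557e4)
 (.cons 48 (nat_lit 0x568b88b2aa72000000000000aaae10cbaa94)
 (.cons 96 (nat_lit 0xf4eef884a12350044bbd8c80)
 .nil)))))))))))))))
noncomputable def zK2 : Lk :=
  ⟨zE1, 12, 2, 1⟩

theorem zc0 : P.chainB ns D G_vs [[0], [2]] = true := by decide +kernel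
theorem zl3 : zK2.relB CL.Std.L213.M.P CL.Std.L213.P CL.Std.L213.M.ns [[0], [2], [6]] [[0], [2]] = true := by decide +kernel
theorem zl4 : allL (zK2.pl CL.Std.L213.M.P CL.Std.L213.P CL.Std.L213.M.ns CL.Std.L213.ns 0) (zp [] [[0], [2], [6]] [[0], [2]]) = true := by decide +kernel
theorem zk5 : allL (keepB P.n P.N) ns0 = true := by decide +kernel
theorem ze6 : extB ns0 ns 2 ws [] = true := by decide +kernel
theorem zn7 : P.netsB ns (mkDefs ws 2) = true := by decide +kernel

section
variable {G X : Type*} [Group G] [MulAction G X] {e : ℕ → X} {gs : List G}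

theorem keep0 : allL (keepB P.n P.N) ns0 = true := zk5

theorem len {k} (c : Ctx P e gs ns0 [] k) : gs.length = 2 := c.len ze6

theorem ctx0 {k} (c : Ctx P e gs ns0 [] k) : Ctx P e (ext gs ws) ns D chk0 :=
  c.ext rfl ze6 zn7

theorem ctx {k} (c : Ctx P e gs ns0 [] k) {H : Subgroup G} (hF : Faithful e P.n H) (hH : ∀ g ∈ gs, g ∈ H) :
    Ctx P e (ext gs ws) ns D chk :=
  (ctx0 c).withB hF (mem_of_mem_ext hH _)

instance instNe : NeZero P.n := ⟨by decide⟩
noncomputable def gs0 : List (Equiv.Perm (Fin P.n)) := permsOf P.n P.N ns0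
noncomputable def gs1 : List (Equiv.Perm (Fin P.n)) := ext gs0 ws
theorem c1 : Ctx P (eF P.n) gs1 ns D chk :=
  ctx (ctx_permsOf hP keep0) (faithful_eF _) fun _ _ => trivial

theorem G_c : P.chainB ns D G_vs [[0], [2]] = true :=
  zc0

theorem G_o : prodL G_vs 1 = 1092 := by decide +kernel

theorem G_lb (c : Ctx P e gs ns D chk) :
    LB (subW gs [[0], [2]]) 1092 :=
  c.lb G_c G_o

theorem rel {Γ Y : Type*} [Group Γ] [MulAction Γ Y] {e' : ℕ → Y} {cs : List Γ} {D₁ D₂ : List (ℕ × List ℕ)}
    {k₁ k₂ : List (List ℕ × List ℕ) → Bool} (c : Ctx CL.Std.L213.M.P e gs CL.Std.L213.M.ns D₁ k₁) (c' : Ctx CL.Std.L213.P e' cs CL.Std.L213.ns D₂ k₂)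
    (hF : Faithful e' CL.Std.L213.P.n (subW cs [[0], [2]])) :
    RelLe gs [[0], [2], [6]] cs [[0], [2]] :=
  c.relLe (K := zK2) c' hF zl3 (fun (t : ℕ) (ht : t < 1) => match t, ht with
    | 0, _ => zl4
    | t + 1, h => absurd h (by omega))

instance instP : Fact (Nat.Prime 13) := ⟨by norm_num⟩

theorem hom {F : Type*} [Field F] [Fintype F] (hF : Fintype.card F = 13) :
    ∃ f : Matrix.SpecialLinearGroup (Fin 2) F →* Equiv.Perm (Fin P.n), f.range = (subW gs1 [[0], [2]]) ∧ f.ker = Subgroup.center _ ∧ Nat.card (subW gs1 [[0], [2]]) = 1092 := by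
  obtain ⟨el, h⟩ := Tab.exists_fc (tabP 13) (by decide +kernel) F hF
  have hc : Nat.card (Matrix.SpecialLinearGroup (Fin 2) F) = 2184 := card_sl hF 2 (by decide +kernel)
  have hK := subW_eq_range (l := [[0], [2]]) Matrix.SpecialLinearGroup.toGL Matrix.SpecialLinearGroup.toGL_injective hc (by norm_num)
    (subW_le_of_forall (mem_of_mem_ext (forall_mem_SL h (ix_fin 2) M.hinv M.zv4) _) _) (M.G_lb (M.c1 h))
  have : Finite (Matrix.SpecialLinearGroup (Fin 2) F) := Nat.finite_of_card_ne_zero (by rw [hc]; norm_num)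
  exact cquot_of_card (RelLe.cquot0 (l := [[0], [2]]) (lZ := [[6]]) (a := 2) (b := 1092) (rel (M.c1 h) c1 ((faithful_eF _).mono le_top)) (by decide)
    Matrix.SpecialLinearGroup.toGL Matrix.SpecialLinearGroup.toGL_injective hc (by norm_num) hK (M.hZ (M.c1 h)).1 (M.hZ (M.c1 h)).2 (M.Z_lb (M.c1 h)) (G_lb c1)) (card_psl hF 1 (by decide +kernel))
theorem iso {F : Type*} [Field F] [Fintype F] (hF : Fintype.card F = 13) :
    Nonempty ((subW gs1 [[0], [2]]) ≃* Matrix.SpecialLinearGroup (Fin 2) F ⧸ Subgroup.center (Matrix.SpecialLinearGroup (Fin 2) F)) := cquot_equiv (hom hF)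
theorem card : Nat.card (subW gs1 [[0], [2]]) = 1092 := by
  obtain ⟨F, _, _, hF⟩ := exists_field 13 1 (by norm_num)
  replace hF : Fintype.card F = 13 := hF
  exact (hom hF).choose_spec.2.2
theorem ub : UB (subW gs1 [[0], [2]]) 1092 := UB.of_card card (by norm_num)

theorem simple : IsSimpleGroup (subW gs1 [[0], [2]]) := by
  obtain ⟨F, _, _, hF⟩ := exists_field 13 1 (by norm_num)
  replace hF : Fintype.card F = 13 := hF
  obtain ⟨el, h⟩ := Tab.exists_fc (tabP 13) (by decide +kernel) F hF
  have : IsSimpleGroup (Matrix.SpecialLinearGroup (Fin 2) F ⧸ Subgroup.center (Matrix.SpecialLinearGroup (Fin 2) F)) := SLn.isSimpleGroup_PSL_fin (F := F) 2 (by norm_num) (by rw [hF]; norm_num)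
  exact (iso hF).some.isSimpleGroup

end
end CL.Std.L213

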