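/-
A standard permutation model (PSL, dimension 2, field with 7 elements): degree 8, order 168.
Generated by tools/pg.
-/
import Cfsg.Agent.Spor.PGCls
import Cfsg.Agent.Spor.PGCtx

set_option autoImplicit false
set_option maxRecDepth 200000
set_option Elab.async false
set_option linter.unusedVariables false

namespace CL.Std.L27.M
open CL.PG

def P : Par := ⟨48, 48, 6, 3⟩
theorem hP : P.Ok := by decide
noncomputable def a0 : Net := (.cons 24 (nat_lit 0x18e398)
 (.cons 12 (nat_lit 0x20003e6)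
 (.cons 6 (nat_lit 0x2500101302b)
 (.cons 3 (nat_lit 0x1801c5000044)
 (.cons 1 (nat_lit 0x49008000008)
 (.cons 1 (nat_lit 0x92010090012)
 (.cons 1 (nat_lit 0x249249048001)
 (.cons 3 (nat_lit 0x100006182004)
 (.cons 6 (nat_lit 0x2c01200e000)
 (.cons 12 (nat_lit 0xd8a000b4a)
 (.cons 24 (nat_lit 0xfef900)
 .nil)))))))))))
noncomputable def a1 : Net := (.cons 24 (nat_lit 0x18d4e7)
 (.cons 12 (nat_lit 0x264000ea8)
 (.cons 6 (nat_lit 0xa03601902a)
 (.cons 3 (nat_lit 0x103046085141)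
 (.cons 1 (nat_lit 0x1000209048)
 (.cons 1 (nat_lit 0x82090492490)
 (.cons 1 (nat_lit 0x200041049208)
 (.cons 3 (nat_lit 0x104082000004)
 (.cons 6 (nat_lit 0x8020034038)
 (.cons 12 (nat_lit 0x264000c5c)
 (.cons 24 (nat_lit 0xf855e0)
 .nil)))))))))))
noncomputable def a2 : Net := (.cons 24 (nat_lit 0x848780)
 (.cons 12 (nat_lit 0x98c000640)
 (.cons 6 (nat_lit 0x2a02d012000)
 (.cons 3 (nat_lit 0x1c51c7000)
 (.cons 1 (nat_lit 0x48008240040)
 (.cons 1 (nat_lit 0x490092482480)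
 (.cons 1 (nat_lit 0x49201248200)
 (.cons 3 (nat_lit 0x82080000000)
 (.cons 6 (nat_lit 0x24012010000)
 (.cons 12 (nat_lit 0x640000d00)
 (.cons 24 (nat_lit 0x1451c0)
 .nil)))))))))))
noncomputable def a3 : Net := (.cons 24 (nat_lit 0xeddb87)
 (.cons 12 (nat_lit 0xf8f000f82)
 (.cons 6 (nat_lit 0x2f001001005)
 (.cons 3 (nat_lit 0x1c6186186187)
 (.cons 1 (nat_lit 0x240000000009)
 (.cons 1 (nat_lit 0x492492492492)
 (.cons 1 (nat_lit 0x240000000009)
 (.cons 6 (nat_lit 0x3a000000010)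
 (.cons 12 (nat_lit 0x78000020)
 (.cons 24 (nat_lit 0x122478)
 .nil))))))))))
noncomputable def ns0 : List Net := [a0, a1]
noncomputable def ws : List (List ℕ) :=
  [W (nat_lit 0x4040100400403),
  W (nat_lit 0x180101801)]
noncomputable def ns : List Net := [a0, a1, a2, a3]
noncomputable def D : List (ℕ × List ℕ) := app [] (mkDefs ws 2)
noncomputable def chk : List (List ℕ × List ℕ) → Bool := P.relsB ns
noncomputable def V : List ℕ :=
  [(nat_lit 0x810204081020408102040810204081020408102040810204081020408102040810204081020408102040),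
  (nat_lit 0xfe000000000001fc000000000003f8000000000007f000000000000fe000000000001fc000000000003f)]
noncomputable def ms : List (List (List ℕ) × List (List ℕ)) :=
  [([[5, 5], [1, 4]],
   [[4, 2], [6, 5]]),
  ([[1, 0], [3, 1]],
   [[1, 0], [4, 1]])]
noncomputable def G_v0 : Lev :=
  ⟨0, 48, sg (W (nat_lit 0x100c0100c0100c0100c0100c01)), [[4]], 0, 1⟩
noncomputable def G_v1 : Lev :=
  ⟨6, 7, sg (W (nat_lit 0x14050140501405)), [], 1, 0⟩
noncomputable def G_vs2 : List Lev :=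
  []
noncomputable def G_vs1 : List Lev :=
  G_v1 :: G_vs2
noncomputable def G_vs : List Lev :=
  G_v0 :: G_vs1
noncomputable def Z_v0 : Lev :=
  ⟨0, 2, sg [6], [], 2, 0⟩
noncomputable def Z_vs1 : List Lev :=
  []
noncomputable def Z_vs : List Lev :=
  Z_v0 :: Z_vs1

theorem zv0 : vecB (tabP 7).q 3 2 P V = true := by decide +kernel
theorem zv1 : Nat.beq (lenL ms) (lenL ns0) = true := by decide +kernel
theorem zv2 : allL ((tabP 7).actB 3 2 P V) (zp Net.nil ms ns0) = true := by decide +kernel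
theorem zv3 : (tabP 7).basB 2 P V [0, 6] [[1, 0], [0, 1]] = true := by decide +kernel
theorem zv4 : allL ((tabP 7).detB 2 6) ms = true := by decide +kernel
theorem zc5 : P.chainB ns D G_vs [[0], [2]] = true := by decide +kernel
theorem zc6 : P.chainB ns D Z_vs [[6]] = true := by decide +kernel
theorem zr7 : chk (comR [[6]] [[0], [2]]) = true := by decide +kernel
theorem zm8 : leB D [[6]] [[0], [2]] = true := by decide +kernel
theorem zk9 : allL (keepB P.n P.N) ns0 = true := by decide +kernel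
theorem ze10 : extB ns0 ns 2 ws [] = true := by decide +kernel
theorem zn11 : P.netsB ns (mkDefs ws 2) = true := by decide +kernel

section
variable {G X : Type*} [Group G] [MulAction G X] {e : ℕ → X} {gs : List G}

theorem keep0 : allL (keepB P.n P.N) ns0 = true := zk9

theorem len {k} (c : Ctx P e gs ns0 [] k) : gs.length = 2 := c.len ze10

theorem ctx0 {k} (c : Ctx P e gs ns0 [] k) : Ctx P e (ext gs ws) ns D chk0 :=
  c.ext rfl ze10 zn11

theorem ctx {k} (c : Ctx P e gs ns0 [] k) {H : Subgroup G} (hF : Faithful e P.n H) (hH : ∀ g ∈ gs, g ∈ H) :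
    Ctx P e (ext gs ws) ns D chk :=
  (ctx0 c).withB hF (mem_of_mem_ext hH _)

theorem hV : vecB (tabP 7).q 3 2 P V = true := zv0
theorem hact : allL ((tabP 7).actB 3 2 P V) (zp Net.nil ms ns0) = true := zv2
theorem hinv : allL ((tabP 7).invB 2) ms = true := actB_invB hact
theorem base {F : Type*} [Field F] {el : ℕ → F} (h : FC (tabP 7) el) : Ctx P (vecOf el (Fin.val : Fin 2 → ℕ) (tabP 7).q P.N V) (List.map (glF el (Fin.val : Fin 2 → ℕ)) ms) ns0 [] chk0 :=
  ctx_mat h (ix_fin 2) hP hV zv1 hact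
theorem faith {F : Type*} [Field F] {el : ℕ → F} (h : FC (tabP 7) el) : Faithful (vecOf el (Fin.val : Fin 2 → ℕ) (tabP 7).q P.N V) P.n (⊤ : Subgroup (GL (Fin 2) F)) :=
  faithful_vecOf h (ix_fin 2) hP hV zv3
theorem c1 {F : Type*} [Field F] {el : ℕ → F} (h : FC (tabP 7) el) : Ctx P (vecOf el (Fin.val : Fin 2 → ℕ) (tabP 7).q P.N V) (ext (List.map (glF el (Fin.val : Fin 2 → ℕ)) ms) ws) ns D chk :=
  ctx (base h) (faith h) fun _ _ => trivial

theorem G_c : P.chainB ns D G_vs [[0], [2]] = true :=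
  zc5

theorem G_o : prodL G_vs 1 = 336 := by decide +kernel

theorem G_lb (c : Ctx P e gs ns D chk) :
    LB (subW gs [[0], [2]]) 336 :=
  c.lb G_c G_o

theorem Z_c : P.chainB ns D Z_vs [[6]] = true :=
  zc6

theorem Z_o : prodL Z_vs 1 = 2 := by decide +kernel

theorem Z_lb (c : Ctx P e gs ns D chk) :
    LB (subW gs [[6]]) 2 :=
  c.lb Z_c Z_o

theorem hZ (c : Ctx P e gs ns D chk) :
    (subW gs [[6]]) ≤ (subW gs [[0], [2]]) ∧ Rels gs (comR [[6]] [[0], [2]]) :=
  ⟨(c.le zm8), (c.rels _ zr7)⟩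

end
end CL.Std.L27.M

namespace CL.Std.L27
open CL.PG

def P : Par := ⟨8, 8, 3, 2⟩
theorem hP : P.Ok := by decide
noncomputable def a0 : Net := (.cons 4 (nat_lit 0x5)
 (.cons 2 (nat_lit 0x1)
 (.cons 1 (nat_lit 0x4)
 (.cons 2 (nat_lit 0x2)
 (.cons 4 (nat_lit 0x8)
 .nil)))))
noncomputable def a1 : Net := (.cons 4 (nat_lit 0x4)
 (.cons 2 (nat_lit 0x11)
 (.cons 1 (nat_lit 0x44)
 (.cons 2 (nat_lit 0x20)
 .nil))))
noncomputable def a2 : Net := (.cons 4 (nat_lit 0x4)
 (.cons 2 (nat_lit 0x32)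
 (.cons 1 (nat_lit 0x40)
 (.cons 2 (nat_lit 0x20)
 (.cons 4 (nat_lit 0xc)
 .nil)))))
noncomputable def a3 : Net := (.cons 4 (nat_lit 0xa)
 (.cons 2 (nat_lit 0x12)
 (.cons 1 (nat_lit 0x40)
 (.cons 4 (nat_lit 0x8)
 .nil))))
noncomputable def a4 : Net := (.cons 4 (nat_lit 0x8)
 (.cons 2 (nat_lit 0x30)
 (.cons 1 (nat_lit 0x44)
 (.cons 4 (nat_lit 0x4)
 .nil))))
noncomputable def ns0 : List Net := [a0, a1]
noncomputable def ws : List (List ℕ) :=
  [W (nat_lit 0x100400802),
  W (nat_lit 0xc02),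
  W (nat_lit 0x701806)]
noncomputable def ns : List Net := [a0, a1, a2, a3, a4]
noncomputable def D : List (ℕ × List ℕ) := app [] (mkDefs ws 2)
noncomputable def chk : List (List ℕ × List ℕ) → Bool := P.relsB ns
noncomputable def G_v0 : Lev :=
  ⟨0, 8, sg (W (nat_lit 0x40100c01)), [[4], [6]], 0, 2⟩
noncomputable def G_v1 : Lev :=
  ⟨1, 7, sg (W (nat_lit 0x50140701405)), [[8]], 2, 1⟩
noncomputable def G_v2 : Lev :=
  ⟨2, 3, sg (W (nat_lit 0x2409)), [], 3, 0⟩
noncomputable def G_vs3 : List Lev :=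
  []
noncomputable def G_vs2 : List Lev :=
  G_v2 :: G_vs3
noncomputable def G_vs1 : List Lev :=
  G_v1 :: G_vs2
noncomputable def G_vs : List Lev :=
  G_v0 :: G_vs1
noncomputable def zE1 : Net :=
  (.cons 24 (nat_lit 0x13e478)
 (.cons 12 (nat_lit 0xf8a000220)
 (.cons 6 (nat_lit 0x3500d01e012)
 (.cons 3 (nat_lit 0x146006140184)
 (.cons 1 (nat_lit 0x40000048)
 (.cons 1 (nat_lit 0x402082090492)
 (.cons 1 (nat_lit 0x49209049240)
 (.cons 3 (nat_lit 0x184100184100)
 (.cons 6 (nat_lit 0xe00c00e008)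
 (.cons 12 (nat_lit 0x8a0000cb0)
 (.cons 24 (nat_lit 0x559122)
 .nil)))))))))))
noncomputable def zK2 : Lk :=
  ⟨zE1, 6, 2, 1⟩

theorem zc0 : P.chainB ns D G_vs [[0], [2]] = true := by decide +kernel
theorem zl3 : zK2.relB CL.Std.L27.M.P CL.Std.L27.P CL.Std.L27.M.ns [[0], [2], [6]] [[0], [2]] = true := by decide +kernel
theorem zl4 : allL (zK2.pl CL.Std.L27.M.P CL.Std.L27.P CL.Std.L27.M.ns CL.Std.L27.ns 0) (zp [] [[0], [2], [6]] [[0], [2]]) = true := by decide +kernel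
theorem zk5 : allL (keepB P.n P.N) ns0 = true := by decide +kernel
theorem ze6 : extB ns0 ns 2 ws [] = true := by decide +kernel
theorem zn7 : P.netsB ns (mkDefs ws 2) = true := by decide +kernel

section
variable {G X : Type*} [Group G] [MulAction G X] {e : ℕ → X} {gs : List G}

theorem keep0 : allL (keepB P.n P.N) ns0 = true := zk5

theorem len {k} (c : Ctx P e gs ns0 [] k) : gs.length = 2 := c.len ze6

theorem ctx0 {k} (c : Ctx P e gs ns0 [] k) : Ctx P e (ext gs ws) ns D chk0 :=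
  c.ext rfl ze6 zn7

theorem ctx {k} (c : Ctx P e gs ns0 [] k) {H : Subgroup G} (hF : Faithful e P.n H) (hH : ∀ g ∈ gs, g ∈ H) :
    Ctx P e (ext gs ws) ns D chk :=
  (ctx0 c).withB hF (mem_of_mem_ext hH _)

instance instNe : NeZero P.n := ⟨by decide⟩
noncomputable def gs0 : List (Equiv.Perm (Fin P.n)) := permsOf P.n P.N ns0
noncomputable def gs1 : List (Equiv.Perm (Fin P.n)) := ext gs0 ws
theorem c1 : Ctx P (eF P.n) gs1 ns D chk :=
  ctx (ctx_permsOf hP keep0) (faithful_eF _) fun _ _ => trivial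

theorem G_c : P.chainB ns D G_vs [[0], [2]] = true :=
  zc0

theorem G_o : prodL G_vs 1 = 168 := by decide +kernel

theorem G_lb (c : Ctx P e gs ns D chk) :
    LB (subW gs [[0], [2]]) 168 :=
  c.lb G_c G_o

theorem rel {Γ Y : Type*} [Group Γ] [MulAction Γ Y] {e' : ℕ → Y} {cs : List Γ} {D₁ D₂ : List (ℕ × List ℕ)}
    {k₁ k₂ : List (List ℕ × List ℕ) → Bool} (c : Ctx CL.Std.L27.M.P e gs CL.Std.L27.M.ns D₁ k₁) (c' : Ctx CL.Std.L27.P e' cs CL.Std.L27.ns D₂ k₂)
    (hF : Faithful e' CL.Std.L27.P.n (subW cs [[0], [2]])) :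
    RelLe gs [[0], [2], [6]] cs [[0], [2]] :=
  c.relLe (K := zK2) c' hF zl3 (fun (t : ℕ) (ht : t < 1) => match t, ht with
    | 0, _ => zl4
    | t + 1, h => absurd h (by omega))

instance instP : Fact (Nat.Prime 7) := ⟨by norm_num⟩

theorem hom {F : Type*} [Field F] [Fintype F] (hF : Fintype.card F = 7) :
    ∃ f : Matrix.SpecialLinearGroup (Fin 2) F →* Equiv.Perm (Fin P.n), f.range = (subW gs1 [[0], [2]]) ∧ f.ker = Subgroup.center _ ∧ Nat.card (subW gs1 [[0], [2]]) = 168 := by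
  obtain ⟨el, h⟩ := Tab.exists_fc (tabP 7) (by decide +kernel) F hF
  have hc : Nat.card (Matrix.SpecialLinearGroup (Fin 2) F) = 336 := card_sl hF 2 (by decide +kernel)
  have hK := subW_eq_range (l := [[0], [2]]) Matrix.SpecialLinearGroup.toGL Matrix.SpecialLinearGroup.toGL_injective hc (by norm_num)
    (subW_le_of_forall (mem_of_mem_ext (forall_mem_SL h (ix_fin 2) M.hinv M.zv4) _) _) (M.G_lb (M.c1 h))
  have : Finite (Matrix.SpecialLinearGroup (Fin 2) F) := Nat.finite_of_card_ne_zero (by rw [hc]; norm_num)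
  exact cquot_of_card (RelLe.cquot0 (l := [[0], [2]]) (lZ := [[6]]) (a := 2) (b := 168) (rel (M.c1 h) c1 ((faithful_eF _).mono le_top)) (by decide)
    Matrix.SpecialLinearGroup.toGL Matrix.SpecialLinearGroup.toGL_injective hc (by norm_num) hK (M.hZ (M.c1 h)).1 (M.hZ (M.c1 h)).2 (M.Z_lb (M.c1 h)) (G_lb c1)) (card_psl hF 1 (by decide +kernel))
theorem iso {F : Type*} [Field F] [Fintype F] (hF : Fintype.card F = 7) :
    Nonempty ((subW gs1 [[0], [2]]) ≃* Matrix.SpecialLinearGroup (Fin 2) F ⧸ Subgroup.center (Matrix.SpecialLinearGroup (Fin 2) F)) := cquot_equiv (hom hF)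
theorem card : Nat.card (subW gs1 [[0], [2]]) = 168 := by
  obtain ⟨F, _, _, hF⟩ := exists_field 7 1 (by norm_num)
  replace hF : Fintype.card F = 7 := hF
  exact (hom hF).choose_spec.2.2
theorem ub : UB (subW gs1 [[0], [2]]) 168 := UB.of_card card (by norm_num)

theorem simple : IsSimpleGroup (subW gs1 [[0], [2]]) := by
  obtain ⟨F, _, _, hF⟩ := exists_field 7 1 (by norm_num)
  replace hF : Fintype.card F = 7 := hF
  obtain ⟨el, h⟩ := Tab.exists_fc (tabP 7) (by decide +kernel) F hF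
  have : IsSimpleGroup (Matrix.SpecialLinearGroup (Fin 2) F ⧸ Subgroup.center (Matrix.SpecialLinearGroup (Fin 2) F)) := SLn.isSimpleGroup_PSL_fin (F := F) 2 (by norm_num) (by rw [hF]; norm_num)
  exact (iso hF).some.isSimpleGroup

end
end CL.Std.L27

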