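/-
A standard permutation model (PSL, dimension 2, field with 8 elements): degree 9, order 504.
Generated by tools/pg.
-/
import Cfsg.Agent.Spor.PGCls
import Cfsg.Agent.Spor.PGCtx

set_option autoImplicit false
set_option maxRecDepth 200000
set_option Elab.async false
set_option linter.unusedVariables false

namespace CL.Std.L28.M
open CL.PG

def P : Par := ⟨63, 64, 6, 3⟩
theorem hP : P.Ok := by decide
noncomputable def a0 : Net := (.cons 32 (nat_lit 0xccb34cb3)
 (.cons 16 (nat_lit 0x6619000099e6)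
 (.cons 8 (nat_lit 0xad0052005200ad)
 (.cons 4 (nat_lit 0x20d020d0d020d02)
 (.cons 2 (nat_lit 0x330300303303003)
 (.cons 1 (nat_lit 0x4411441144114411)
 (.cons 4 (nat_lit 0x404040404040404)
 (.cons 8 (nat_lit 0x80008000800080)
 (.cons 16 (nat_lit 0x800000008000)
 (.cons 32 (nat_lit 0x80000000)
 .nil))))))))))
noncomputable def a1 : Net := (.cons 32 (nat_lit 0x4a34b4cb)
 (.cons 16 (nat_lit 0x188900006e66)
 (.cons 8 (nat_lit 0x3800f400260015)
 (.cons 4 (nat_lit 0xe0e00010e0e0901)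
 (.cons 2 (nat_lit 0x1021122113211221)
 (.cons 1 (nat_lit 0x4014411415411441)
 (.cons 2 (nat_lit 0x2020200020202)
 (.cons 4 (nat_lit 0xc0404040c040404)
 (.cons 8 (nat_lit 0x20002000200020)
 (.cons 16 (nat_lit 0x80000000800)
 (.cons 32 (nat_lit 0x7eff8000)
 .nil)))))))))))
noncomputable def a2 : Net := (.cons 32 (nat_lit 0xcb34b4cb)
 (.cons 16 (nat_lit 0xccb30000ccb3)
 (.cons 8 (nat_lit 0x2a002a00d500d5)
 (.cons 4 (nat_lit 0xe010e01010e010e)
 (.cons 2 (nat_lit 0x2222222211111111)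
 (.cons 1 (nat_lit 0x4114144141141441)
 (.cons 4 (nat_lit 0x808080808080808)
 (.cons 8 (nat_lit 0x80008000800080)
 (.cons 16 (nat_lit 0x800000008000)
 (.cons 32 (nat_lit 0x80000000)
 .nil))))))))))
noncomputable def a3 : Net := (.cons 32 (nat_lit 0x3e1e1e1e)
 (.cons 16 (nat_lit 0x4b400004b4f)
 (.cons 8 (nat_lit 0x4a00cd0054002c)
 (.cons 4 (nat_lit 0x30d0b0209020b0d)
 (.cons 2 (nat_lit 0x130033032033003)
 (.cons 1 (nat_lit 0x1041451410414514)
 (.cons 2 (nat_lit 0x22002200220022)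
 (.cons 4 (nat_lit 0x2000a0002000a00)
 (.cons 8 (nat_lit 0x8000800080008)
 (.cons 16 (nat_lit 0x7b8000007b80)
 (.cons 32 (nat_lit 0x7f805f80)
 .nil)))))))))))
noncomputable def a4 : Net := (.cons 32 (nat_lit 0xaad52ad5)
 (.cons 16 (nat_lit 0x2d520000d2ad)
 (.cons 8 (nat_lit 0x9e00610061009e)
 (.cons 4 (nat_lit 0x20d020d0d020d02)
 (.cons 2 (nat_lit 0x330300303303003)
 (.cons 1 (nat_lit 0x4411441144114411)
 (.cons 4 (nat_lit 0x404040404040404)
 (.cons 8 (nat_lit 0x80008000800080)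
 (.cons 16 (nat_lit 0x800000008000)
 (.cons 32 (nat_lit 0x80000000)
 .nil))))))))))
noncomputable def a5 : Net := (.cons 32 (nat_lit 0x80000000)
 (.cons 16 (nat_lit 0x800000008000)
 (.cons 8 (nat_lit 0x80008000800080)
 (.cons 4 (nat_lit 0xf0a0c0609030500)
 (.cons 2 (nat_lit 0x33003333003300)
 (.cons 1 (nat_lit 0x555555550000)
 (.cons 8 (nat_lit 0x80008000800080)
 (.cons 16 (nat_lit 0x800000008000)
 (.cons 32 (nat_lit 0x80000000)
 .nil)))))))))
noncomputable def a6 : Net := (.cons 32 (nat_lit 0x80000000)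
 (.cons 16 (nat_lit 0x800000008000)
 (.cons 8 (nat_lit 0x80008000800080)
 (.cons 4 (nat_lit 0x603090c050f0a00)
 (.cons 2 (nat_lit 0x3300330033003300)
 (.cons 1 (nat_lit 0x5555555500000000)
 (.cons 8 (nat_lit 0x80008000800080)
 (.cons 16 (nat_lit 0x800000008000)
 (.cons 32 (nat_lit 0x80000000)
 .nil)))))))))
noncomputable def a7 : Net := (.cons 32 (nat_lit 0x80000000)
 (.cons 16 (nat_lit 0x800000008000)
 (.cons 8 (nat_lit 0x80008000800080)
 (.cons 4 (nat_lit 0x305060f0c0a0900)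
 (.cons 2 (nat_lit 0x33330000333300)
 (.cons 1 (nat_lit 0x5500550055005500)
 (.cons 8 (nat_lit 0x80008000800080)
 (.cons 16 (nat_lit 0x800000008000)
 (.cons 32 (nat_lit 0x80000000)
 .nil)))))))))
noncomputable def ns0 : List Net := [a0, a1, a2]
noncomputable def ws : List (List ℕ) :=
  [W (nat_lit 0x60100100c03),
  W (nat_lit 0x180300c030180401802),
  W (nat_lit 0x240802808028070280a02808),
  W (nat_lit 0x28070240802808),
  W (nat_lit 0x2808024080200a01c07)]
noncomputable def ns : List Net := [a0, a1, a2, a3, a4, a5, a6, a7]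
noncomputable def D : List (ℕ × List ℕ) := app [] (mkDefs ws 3)
noncomputable def chk : List (List ℕ × List ℕ) → Bool := P.relsB ns
noncomputable def V : List ℕ :=
  [(nat_lit 0x40404040404040402020202020202020101010101010101008080808080808080404040404040404020202020202020201010101010101010080808080808080),
  (nat_lit 0x7f80000000000000007f80000000000000007f80000000000000007f80000000000000007f80000000000000007f80000000000000007f80000000000000007f)]
noncomputable def ms : List (List (List ℕ) × List (List ℕ)) :=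
  [([[4, 1], [7, 4]],
   [[4, 1], [7, 4]]),
  ([[2, 7], [2, 2]],
   [[2, 7], [2, 2]]),
  ([[6, 5], [6, 6]],
   [[6, 5], [6, 6]])]
noncomputable def G_v0 : Lev :=
  ⟨0, 63, sg (W (nat_lit 0x1c070240702407024070240702407)), [[10], [12], [14]], 2, 3⟩
noncomputable def G_v1 : Lev :=
  ⟨7, 8, sg (W (nat_lit 0xf0340b)), [], 5, 0⟩
noncomputable def G_vs2 : List Lev :=
  []
noncomputable def G_vs1 : List Lev :=
  G_v1 :: G_vs2
noncomputable def G_vs : List Lev :=
  G_v0 :: G_vs1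

theorem zv0 : vecB t8.q 3 2 P V = true := by decide +kernel
theorem zv1 : Nat.beq (lenL ms) (lenL ns0) = true := by decide +kernel
theorem zv2 : allL (t8.actB 3 2 P V) (zp Net.nil ms ns0) = true := by decide +kernel
theorem zv3 : t8.basB 2 P V [0, 7] [[1, 0], [0, 1]] = true := by decide +kernel
theorem zv4 : allL (t8.detB 2 1) ms = true := by decide +kernel
theorem zc5 : P.chainB ns D G_vs [[6], [8]] = true := by decide +kernel
theorem zm6 : leB D [] [[6], [8]] = true := by decide +kernel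
theorem zk7 : allL (keepB P.n P.N) ns0 = true := by decide +kernel
theorem ze8 : extB ns0 ns 3 ws [] = true := by decide +kernel
theorem zn9 : P.netsB ns (mkDefs ws 3) = true := by decide +kernel

section
variable {G X : Type*} [Group G] [MulAction G X] {e : ℕ → X} {gs : List G}

theorem keep0 : allL (keepB P.n P.N) ns0 = true := zk7

theorem len {k} (c : Ctx P e gs ns0 [] k) : gs.length = 3 := c.len ze8

theorem ctx0 {k} (c : Ctx P e gs ns0 [] k) : Ctx P e (ext gs ws) ns D chk0 :=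
  c.ext rfl ze8 zn9

theorem ctx {k} (c : Ctx P e gs ns0 [] k) {H : Subgroup G} (hF : Faithful e P.n H) (hH : ∀ g ∈ gs, g ∈ H) :
    Ctx P e (ext gs ws) ns D chk :=
  (ctx0 c).withB hF (mem_of_mem_ext hH _)

theorem hV : vecB t8.q 3 2 P V = true := zv0
theorem hact : allL (t8.actB 3 2 P V) (zp Net.nil ms ns0) = true := zv2
theorem hinv : allL (t8.invB 2) ms = true := actB_invB hact
theorem base {F : Type*} [Field F] {el : ℕ → F} (h : FC t8 el) : Ctx P (vecOf el (Fin.val : Fin 2 → ℕ) t8.q P.N V) (List.map (glF el (Fin.val : Fin 2 → ℕ)) ms) ns0 [] chk0 :=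
  ctx_mat h (ix_fin 2) hP hV zv1 hact
theorem faith {F : Type*} [Field F] {el : ℕ → F} (h : FC t8 el) : Faithful (vecOf el (Fin.val : Fin 2 → ℕ) t8.q P.N V) P.n (⊤ : Subgroup (GL (Fin 2) F)) :=
  faithful_vecOf h (ix_fin 2) hP hV zv3
theorem c1 {F : Type*} [Field F] {el : ℕ → F} (h : FC t8 el) : Ctx P (vecOf el (Fin.val : Fin 2 → ℕ) t8.q P.N V) (ext (List.map (glF el (Fin.val : Fin 2 → ℕ)) ms) ws) ns D chk :=
  ctx (base h) (faith h) fun _ _ => trivial

theorem G_c : P.chainB ns D G_vs [[6], [8]] = true :=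
  zc5

theorem G_o : prodL G_vs 1 = 504 := by decide +kernel

theorem G_lb (c : Ctx P e gs ns D chk) :
    LB (subW gs [[6], [8]]) 504 :=
  c.lb G_c G_o

theorem Z_lb (c : Ctx P e gs ns D chk) :
    LB (subW gs []) 1 :=
  LB.one _

theorem hZ (c : Ctx P e gs ns D chk) :
    (subW gs []) ≤ (subW gs [[6], [8]]) ∧ Rels gs (comR [] [[6], [8]]) :=
  ⟨(c.le zm6), Rels.nil _⟩

end
end CL.Std.L28.M

namespace CL.Std.L28
open CL.PG

def P : Par := ⟨9, 10, 4, 2⟩
theorem hP : P.Ok := by decide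
noncomputable def a0 : Net := (.cons 5 (nat_lit 0xf)
 (.cons 1 (nat_lit 0x1)
 (.cons 1 (nat_lit 0x4a)
 (.cons 1 (nat_lit 0x5)
 .nil))))
noncomputable def a1 : Net := (.cons 5 (nat_lit 0xe)
 (.cons 1 (nat_lit 0x8)
 (.cons 1 (nat_lit 0x5)
 (.cons 1 (nat_lit 0x42)
 (.cons 1 (nat_lit 0x85)
 (.cons 5 (nat_lit 0x2)
 .nil))))))
noncomputable def a2 : Net := (.cons 5 (nat_lit 0x1a)
 (.cons 1 (nat_lit 0x20)
 (.cons 1 (nat_lit 0x40)
 (.cons 1 (nat_lit 0x84)
 (.cons 1 (nat_lit 0x142)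
 (.cons 1 (nat_lit 0xa0)
 (.cons 5 (nat_lit 0x12)
 .nil)))))))
noncomputable def a3 : Net := (.cons 5 (nat_lit 0x16)
 (.cons 1 (nat_lit 0x80)
 (.cons 1 (nat_lit 0x102)
 (.cons 1 (nat_lit 0xa4)
 (.cons 5 (nat_lit 0x10)
 .nil)))))
noncomputable def ns0 : List Net := [a0, a1]
noncomputable def ws : List (List ℕ) :=
  [W (nat_lit 0xc0100403),
  W (nat_lit 0x20080200804)]
noncomputable def ns : List Net := [a0, a1, a2, a3]
noncomputable def D : List (ℕ × List ℕ) := app [] (mkDefs ws 2)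
noncomputable def chk : List (List ℕ × List ℕ) → Bool := P.relsB ns
noncomputable def G_v0 : Lev :=
  ⟨0, 9, sg (W (nat_lit 0x10040100c0100401)), [[4], [6]], 0, 2⟩
noncomputable def G_v1 : Lev :=
  ⟨1, 8, sg (W (nat_lit 0x50140701407)), [[4]], 2, 0⟩
noncomputable def G_v2 : Lev :=
  ⟨2, 7, sg (W (nat_lit 0x14050140501405)), [], 2, 0⟩
noncomputable def G_vs3 : List Lev :=
  []
noncomputable def G_vs2 : List Lev :=
  G_v2 :: G_vs3
noncomputable def G_vs1 : List Lev :=
  G_v1 :: G_vs2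
noncomputable def G_vs : List Lev :=
  G_v0 :: G_vs1
noncomputable def zE1 : Net :=
  (.cons 32 (nat_lit 0x91f50404)
 (.cons 16 (nat_lit 0x20cd0000022e)
 (.cons 8 (nat_lit 0xc003000a600ba)
 (.cons 4 (nat_lit 0x502040300040e00)
 (.cons 2 (nat_lit 0x303120303110332)
 (.cons 1 (nat_lit 0x1111411041044014)
 (.cons 2 (nat_lit 0x220220000020000)
 (.cons 4 (nat_lit 0x60c080e04040802)
 (.cons 8 (nat_lit 0xc4009000800016)
 (.cons 16 (nat_lit 0x382800007408)
 (.cons 32 (nat_lit 0x824fa810)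
 .nil)))))))))))
noncomputable def zK2 : Lk :=
  ⟨zE1, 7, 2, 1⟩

theorem zc0 : P.chainB ns D G_vs [[0], [2]] = true := by decide +kernel
theorem zl3 : zK2.relB CL.Std.L28.M.P CL.Std.L28.P CL.Std.L28.M.ns [[6], [8]] [[0], [2]] = true := by decide +kernel
theorem zl4 : allL (zK2.pl CL.Std.L28.M.P CL.Std.L28.P CL.Std.L28.M.ns CL.Std.L28.ns 0) (zp [] [[6], [8]] [[0], [2]]) = true := by decide +kernel
theorem zk5 : allL (keepB P.n P.N) ns0 = true := by decide +kernel
theorem ze6 : extB ns0 ns 2 ws [] = true := by decide +kernel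
theorem zn7 : P.netsB ns (mkDefs ws 2) = true := by decide +kernel

section
variable {G X : Type*} [Group G] [MulAction G X] {e : ℕ → X} {gs : List G}

theorem keep0 : allL (keepB P.n P.N) ns0 = true := zk5

theorem len {k} (c : Ctx P e gs ns0 [] k) : gs.length = 2 := c.len ze6

theorem ctx0 {k} (c : Ctx P e gs ns0 [] k) : Ctx P e (ext gs ws) ns D chk0 :=
  c.ext rfl ze6 zn7

theorem ctx {k} (c : Ctx P e gs ns0 [] k) {H : Subgroup G} (hF : Faithful e P.n H) (hH : ∀ g ∈ gs, g ∈ H) :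
    Ctx P e (ext gs ws) ns D chk :=
  (ctx0 c).withB hF (mem_of_mem_ext hH _)

instance instNe : NeZero P.n := ⟨by decide⟩
noncomputable def gs0 : List (Equiv.Perm (Fin P.n)) := permsOf P.n P.N ns0
noncomputable def gs1 : List (Equiv.Perm (Fin P.n)) := ext gs0 ws
theorem c1 : Ctx P (eF P.n) gs1 ns D chk :=
  ctx (ctx_permsOf hP keep0) (faithful_eF _) fun _ _ => trivial

theorem G_c : P.chainB ns D G_vs [[0], [2]] = true :=
  zc0

theorem G_o : prodL G_vs 1 = 504 := by decide +kernel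

theorem G_lb (c : Ctx P e gs ns D chk) :
    LB (subW gs [[0], [2]]) 504 :=
  c.lb G_c G_o

theorem rel {Γ Y : Type*} [Group Γ] [MulAction Γ Y] {e' : ℕ → Y} {cs : List Γ} {D₁ D₂ : List (ℕ × List ℕ)}
    {k₁ k₂ : List (List ℕ × List ℕ) → Bool} (c : Ctx CL.Std.L28.M.P e gs CL.Std.L28.M.ns D₁ k₁) (c' : Ctx CL.Std.L28.P e' cs CL.Std.L28.ns D₂ k₂)
    (hF : Faithful e' CL.Std.L28.P.n (subW cs [[0], [2]])) :
    RelLe gs [[6], [8]] cs [[0], [2]] :=
  c.relLe (K := zK2) c' hF zl3 (fun (t : ℕ) (ht : t < 1) => match t, ht with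
    | 0, _ => zl4
    | t + 1, h => absurd h (by omega))

theorem hom {F : Type*} [Field F] [Fintype F] (hF : Fintype.card F = 8) :
    ∃ f : Matrix.SpecialLinearGroup (Fin 2) F →* Equiv.Perm (Fin P.n), f.range = (subW gs1 [[0], [2]]) ∧ f.ker = Subgroup.center _ ∧ Nat.card (subW gs1 [[0], [2]]) = 504 := by
  obtain ⟨el, h⟩ := Tab.exists_fc t8 t8_field F hF
  have hc : Nat.card (Matrix.SpecialLinearGroup (Fin 2) F) = 504 := card_sl hF 2 (by decide +kernel)
  have hK := subW_eq_range (l := [[6], [8]]) Matrix.SpecialLinearGroup.toGL Matrix.SpecialLinearGroup.toGL_injective hc (by norm_num)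
    (subW_le_of_forall (mem_of_mem_ext (forall_mem_SL h (ix_fin 2) M.hinv M.zv4) _) _) (M.G_lb (M.c1 h))
  have : Finite (Matrix.SpecialLinearGroup (Fin 2) F) := Nat.finite_of_card_ne_zero (by rw [hc]; norm_num)
  exact cquot_of_card (RelLe.cquot0 (l := [[6], [8]]) (lZ := []) (a := 1) (b := 504) (rel (M.c1 h) c1 ((faithful_eF _).mono le_top)) (by decide)
    Matrix.SpecialLinearGroup.toGL Matrix.SpecialLinearGroup.toGL_injective hc (by norm_num) hK (M.hZ (M.c1 h)).1 (M.hZ (M.c1 h)).2 (M.Z_lb (M.c1 h)) (G_lb c1)) (card_psl hF 1 (by decide +kernel))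
theorem iso {F : Type*} [Field F] [Fintype F] (hF : Fintype.card F = 8) :
    Nonempty ((subW gs1 [[0], [2]]) ≃* Matrix.SpecialLinearGroup (Fin 2) F ⧸ Subgroup.center (Matrix.SpecialLinearGroup (Fin 2) F)) := cquot_equiv (hom hF)
theorem card : Nat.card (subW gs1 [[0], [2]]) = 504 := by
  obtain ⟨F, _, _, hF⟩ := exists_field 2 3 (by norm_num)
  replace hF : Fintype.card F = 8 := hF
  exact (hom hF).choose_spec.2.2
theorem ub : UB (subW gs1 [[0], [2]]) 504 := UB.of_card card (by norm_num)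

theorem simple : IsSimpleGroup (subW gs1 [[0], [2]]) := by
  obtain ⟨F, _, _, hF⟩ := exists_field 2 3 (by norm_num)
  replace hF : Fintype.card F = 8 := hF
  obtain ⟨el, h⟩ := Tab.exists_fc t8 t8_field F hF
  have : IsSimpleGroup (Matrix.SpecialLinearGroup (Fin 2) F ⧸ Subgroup.center (Matrix.SpecialLinearGroup (Fin 2) F)) := SLn.isSimpleGroup_PSL_fin (F := F) 2 (by norm_num) (by rw [hF]; norm_num)
  exact (iso hF).some.isSimpleGroup

end
end CL.Std.L28

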