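/-
A standard permutation model (PSL, dimension 3, field with 5 elements): degree 31, order 372000.
Generated by tools/pg.
-/
import Cfsg.Agent.Spor.PGCls
import Cfsg.Agent.Spor.PGCtx

set_option autoImplicit false
set_option maxRecDepth 200000
set_option Elab.async false
set_option linter.unusedVariables false

namespace CL.Std.L35.M
open CL.PG

def P : Par := ⟨124, 128, 7, 3⟩
theorem hP : P.Ok := by decide
noncomputable def a0 : Net := (.cons 64 (nat_lit 0xc31e48668b3093c6)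
 (.cons 32 (nat_lit 0xca3843210000000024200082)
 (.cons 16 (nat_lit 0x1c3800001e7c0000522e00001e3c)
 (.cons 8 (nat_lit 0x2400f300cc0046000a00b6008500e5)
 (.cons 4 (nat_lit 0x80104000a020a050d0a0c0a050d0f04)
 (.cons 2 (nat_lit 0x23311322121203000330003010111103)
 (.cons 1 (nat_lit 0x50104545044005411410411100441551)
 (.cons 2 (nat_lit 0x200020002000002200202200002000)
 (.cons 4 (nat_lit 0xe0006020e0008080808040804000800)
 (.cons 8 (nat_lit 0x240098000c00c00040003600800068)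
 (.cons 16 (nat_lit 0x1c3800009e780000494c00000e38)
 (.cons 32 (nat_lit 0x88200a840000000032008000)
 (.cons 64 (nat_lit 0xc10e79248924f384)
 .nil)))))))))))))
noncomputable def a1 : Net := (.cons 64 (nat_lit 0x62738c311218d5a4)
 (.cons 32 (nat_lit 0xbc38eea0000000002dca634e)
 (.cons 16 (nat_lit 0x621200008f4100004650000092dd)
 (.cons 8 (nat_lit 0xc700440087007300ed0078007b00e3)
 (.cons 4 (nat_lit 0x10608080207070a04000e030a040b04)
 (.cons 2 (nat_lit 0x22320210011132012231220002230121)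
 (.cons 1 (nat_lit 0x11040044011045444014141110111414)
 (.cons 2 (nat_lit 0x2020000002020202020200000200220)
 (.cons 4 (nat_lit 0x80a080802020002040406000a040804)
 (.cons 8 (nat_lit 0x7800c400820062008c0060007000a6)
 (.cons 16 (nat_lit 0xe79c000087540000e6500000455a)
 (.cons 32 (nat_lit 0xbd396f2400000000add2a16e)
 (.cons 64 (nat_lit 0x6f62411b98110726)
 .nil)))))))))))))
noncomputable def a2 : Net := (.cons 64 (nat_lit 0xb088c7333d360e7e)
 (.cons 32 (nat_lit 0xa84ad23500000000424fd613)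
 (.cons 16 (nat_lit 0x5c38000085a0000015ad00001c8a)
 (.cons 8 (nat_lit 0x4a008e00520054005a0049000400e2)
 (.cons 4 (nat_lit 0x8070907000206060c090c0f06090702)
 (.cons 2 (nat_lit 0x32112120302001032101211032002133)
 (.cons 1 (nat_lit 0x44451054411040111140440140100150)
 (.cons 2 (nat_lit 0x20202000200020022020000000200000)
 (.cons 4 (nat_lit 0x202080600000a0a0c0c04060c080200)
 (.cons 8 (nat_lit 0x5a008a00520050004200e4001c0040)
 (.cons 16 (nat_lit 0x503400008ce0000019800000bc8c)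
 (.cons 32 (nat_lit 0x2a1ad05400000000425fde06)
 (.cons 64 (nat_lit 0xbc9c9c33397ed62a)
 .nil)))))))))))))
noncomputable def a3 : Net := (.cons 64 (nat_lit 0xb082b5be2b61154f)
 (.cons 32 (nat_lit 0x4e031c9f00000000b5e63803)
 (.cons 16 (nat_lit 0x5a500000f2f500005d930000e741)
 (.cons 8 (nat_lit 0x540089009d0032009100a4000300e2)
 (.cons 4 (nat_lit 0x20c00070707080203030f0f0e06040d)
 (.cons 2 (nat_lit 0x13130110302122103013122022301030)
 (.cons 1 (nat_lit 0x14411450001111445101540140114110)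
 (.cons 2 (nat_lit 0x20000000002002020200000000202020)
 (.cons 4 (nat_lit 0x802060800060802040002080806000c)
 (.cons 8 (nat_lit 0x9c003200300010003c009c00c400a6)
 (.cons 16 (nat_lit 0x7bfa0000de0c0000bd5a0000e8de)
 (.cons 32 (nat_lit 0x54048d0a00000000f7f1d460)
 (.cons 64 (nat_lit 0xb6c0ec0cc2fb3500)
 .nil)))))))))))))
noncomputable def a4 : Net := (.cons 64 (nat_lit 0x94da1fdbeb05e397)
 (.cons 32 (nat_lit 0x16fc96d700000000b9f0292d)
 (.cons 16 (nat_lit 0xe71e00007cb9000064c600005b4b)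
 (.cons 8 (nat_lit 0x8c008a00f400ce00d000e50065006d)
 (.cons 4 (nat_lit 0x1080a0c0f0f0206020d0c01000f0609)
 (.cons 2 (nat_lit 0x21112123022200202330121023230233)
 (.cons 1 (nat_lit 0x45050440544444504445541041440441)
 (.cons 2 (nat_lit 0x20202000000002022200220)
 (.cons 4 (nat_lit 0x80a0a080208000400000a0a00000402)
 (.cons 8 (nat_lit 0xb4008c00f000a40066008c007a000e)
 (.cons 16 (nat_lit 0x7ffc0000bc400000f06800003888)
 (.cons 32 (nat_lit 0x9d0ad8600000000d88bc9a4)
 (.cons 64 (nat_lit 0x9fbee6fc9a9d4674)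
 .nil)))))))))))))
noncomputable def a5 : Net := (.cons 64 (nat_lit 0x60000003c992f3fe)
 (.cons 32 (nat_lit 0x8189cf8c00000000264ad4fc)
 (.cons 16 (nat_lit 0xf930000e0990000a68300008918)
 (.cons 8 (nat_lit 0xef005400410022001d0003004d00c8)
 (.cons 4 (nat_lit 0x70207060408030b03060403030e)
 (.cons 2 (nat_lit 0x2210031222113010300333133100300)
 (.cons 1 (nat_lit 0x5151441104401041114441514144014)
 (.cons 2 (nat_lit 0x202220200002022002200022002000)
 (.cons 4 (nat_lit 0x6060c02080400020a0008040c0a0400)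
 (.cons 8 (nat_lit 0xe000560064002a0088006c00500050)
 (.cons 16 (nat_lit 0xe0000009d68000091dc00008a32)
 (.cons 32 (nat_lit 0x828f308c000000002c3be558)
 (.cons 64 (nat_lit 0x6587fffffff9f49e)
 .nil)))))))))))))
noncomputable def a6 : Net := (.cons 64 (nat_lit 0xdffe00e83f0c1084)
 (.cons 32 (nat_lit 0xfc7f8c7a00000000e6b85094)
 (.cons 16 (nat_lit 0x6b560000fde20000b1ab00009186)
 (.cons 8 (nat_lit 0xb500d800a900f90069000c000f008a)
 (.cons 4 (nat_lit 0x70e05090b0b02010f0c060305020908)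
 (.cons 2 (nat_lit 0x3021120320323321121003320300310)
 (.cons 1 (nat_lit 0x515150010015115111454050451540)
 (.cons 2 (nat_lit 0x200020020200020200000000020)
 (.cons 4 (nat_lit 0x8080402060004080006000004040c0e)
 (.cons 8 (nat_lit 0x10008400aa00a000720004008e009a)
 (.cons 16 (nat_lit 0x4a52000038600000b5c00000bcb6)
 (.cons 32 (nat_lit 0x3638260000000000e5360d50)
 (.cons 64 (nat_lit 0xdf881fbbe1fffa84)
 .nil)))))))))))))
noncomputable def a7 : Net := (.cons 64 (nat_lit 0xffdfbfdfbffffc00)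
 (.cons 32 (nat_lit 0xff5e008000000000afbfefb8)
 (.cons 16 (nat_lit 0xa10000ff68000010470000afb8)
 (.cons 8 (nat_lit 0xa000fe000200ce00390044001700a0)
 (.cons 4 (nat_lit 0x7090008010d0b08000608090000)
 (.cons 2 (nat_lit 0x30001111003211132322202122123000)
 (.cons 1 (nat_lit 0x40005415010455401055044015151000)
 (.cons 2 (nat_lit 0x20000200000000002000200000)
 (.cons 4 (nat_lit 0x204000800040200000608020000)
 (.cons 8 (nat_lit 0xa0002000020018008c0044009000a0)
 (.cons 16 (nat_lit 0xef800000fc20000090000000e080)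
 (.cons 32 (nat_lit 0xbf5e000000000000afdf7fb8)
 (.cons 64 (nat_lit 0xff7fbfdfeffffc00)
 .nil)))))))))))))
noncomputable def a8 : Net := (.cons 64 (nat_lit 0xfffffffc7ff37c00)
 (.cons 32 (nat_lit 0xcf5c83080000000050f10c10)
 (.cons 16 (nat_lit 0xa007000082ae0000bff500001c20)
 (.cons 8 (nat_lit 0xb3003600f2009600e90024002c0058)
 (.cons 4 (nat_lit 0xe0205060d0c05040b0a030503030408)
 (.cons 2 (nat_lit 0x3000311230210023223310200331000)
 (.cons 1 (nat_lit 0x44144040541000050140404010101040)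
 (.cons 2 (nat_lit 0x20022000022000000020200020200020)
 (.cons 4 (nat_lit 0x806080000040c0606000002000408)
 (.cons 8 (nat_lit 0x1c002c00b200960040007a002c0058)
 (.cons 16 (nat_lit 0xf286000083aa0000f91000001830)
 (.cons 32 (nat_lit 0xcf5c820c000000005cc30410)
 (.cons 64 (nat_lit 0xfffffffff1f37c00)
 .nil)))))))))))))
noncomputable def ns0 : List Net := [a0, a1, a2]
noncomputable def ws : List (List ℕ) :=
  [W (nat_lit 0x3004040140200804),
  W (nat_lit 0x100600c0500802),
  W (nat_lit 0x20090240701c0902408),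
  W (nat_lit 0x280701c070280702408),
  W (nat_lit 0x300c),
  W (nat_lit 0xc0340c0340c0340c)]
noncomputable def ns : List Net := [a0, a1, a2, a3, a4, a5, a6, a7, a8]
noncomputable def D : List (ℕ × List ℕ) := app [] (mkDefs ws 3)
noncomputable def chk : List (List ℕ × List ℕ) → Bool := P.relsB ns
noncomputable def V : List ℕ :=
  [(nat_lit 0x842108421084210842108421084210804210842108421084210842108421084021084210842108421084210842108420108421084210842108421084210842100842108421084210842108421084210),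
  (nat_lit 0xf800007c00003e00001f00000f80000007c00003e00001f00000f800007c0000003e00001f00000f800007c00003e0000001f00000f800007c00003e00001f0000000f800007c00003e00001f00000f),
  (nat_lit 0xffffff800000000000000000000000000000007fffffc00000000000000000000000000000003fffffe00000000000000000000000000000001ffffff00000000000000000000000000000000ffffff)]
noncomputable def ms : List (List (List ℕ) × List (List ℕ)) :=
  [([[0, 1, 0], [4, 2, 0], [0, 0, 1]],
   [[2, 4, 0], [1, 0, 0], [0, 0, 1]]),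
  ([[2, 4, 3], [4, 2, 2], [1, 4, 4]],
   [[0, 1, 2], [1, 0, 3], [4, 1, 3]]),
  ([[2, 2, 4], [3, 2, 2], [2, 4, 4]],
   [[0, 3, 1], [2, 0, 3], [3, 1, 3]])]
noncomputable def G_v0 : Lev :=
  ⟨0, 124, sg (W (nat_lit 0x1c0701c070240702407024070240702407)), [[10], [12]], 2, 2⟩
noncomputable def G_v1 : Lev :=
  ⟨4, 120, sg (W (nat_lit 0xd02c0d02c0d02c0d02c0d02c0b0340b0340b)), [[14], [16]], 4, 2⟩
noncomputable def G_v2 : Lev :=
  ⟨24, 25, sg (W (nat_lit 0x440f0440f0440f0440f)), [], 6, 0⟩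
noncomputable def G_vs3 : List Lev :=
  []
noncomputable def G_vs2 : List Lev :=
  G_v2 :: G_vs3
noncomputable def G_vs1 : List Lev :=
  G_v1 :: G_vs2
noncomputable def G_vs : List Lev :=
  G_v0 :: G_vs1

theorem zv0 : vecB (tabP 5).q 3 3 P V = true := by decide +kernel
theorem zv1 : Nat.beq (lenL ms) (lenL ns0) = true := by decide +kernel
theorem zv2 : allL ((tabP 5).actB 3 3 P V) (zp Net.nil ms ns0) = true := by decide +kernel
theorem zv3 : (tabP 5).basB 3 P V [0, 4, 24] [[1, 0, 0], [0, 1, 0], [0, 0, 1]] = true := by decide +kernel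
theorem zv4 : allL ((tabP 5).detB 3 4) ms = true := by decide +kernel
theorem zc5 : P.chainB ns D G_vs [[6], [8]] = true := by decide +kernel
theorem zm6 : leB D [] [[6], [8]] = true := by decide +kernel
theorem zk7 : allL (keepB P.n P.N) ns0 = true := by decide +kernel
theorem ze8 : extB ns0 ns 3 ws [] = true := by decide +kernel
theorem zn9 : P.netsB ns (mkDefs ws 3) = true := by decide +kernel

section
variable {G X : Type*} [Group G] [MulAction G X] {e : ℕ → X} {gs : List G}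

theorem keep0 : allL (keepB P.n P.N) ns0 = true := zk7

theorem len {k} (c : Ctx P e gs ns0 [] k) : gs.length = 3 := c.len ze8

theorem ctx0 {k} (c : Ctx P e gs ns0 [] k) : Ctx P e (ext gs ws) ns D chk0 :=
  c.ext rfl ze8 zn9

theorem ctx {k} (c : Ctx P e gs ns0 [] k) {H : Subgroup G} (hF : Faithful e P.n H) (hH : ∀ g ∈ gs, g ∈ H) :
    Ctx P e (ext gs ws) ns D chk :=
  (ctx0 c).withB hF (mem_of_mem_ext hH _)

theorem hV : vecB (tabP 5).q 3 3 P V = true := zv0
theorem hact : allL ((tabP 5).actB 3 3 P V) (zp Net.nil ms ns0) = true := zv2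
theorem hinv : allL ((tabP 5).invB 3) ms = true := actB_invB hact
theorem base {F : Type*} [Field F] {el : ℕ → F} (h : FC (tabP 5) el) : Ctx P (vecOf el (Fin.val : Fin 3 → ℕ) (tabP 5).q P.N V) (List.map (glF el (Fin.val : Fin 3 → ℕ)) ms) ns0 [] chk0 :=
  ctx_mat h (ix_fin 3) hP hV zv1 hact
theorem faith {F : Type*} [Field F] {el : ℕ → F} (h : FC (tabP 5) el) : Faithful (vecOf el (Fin.val : Fin 3 → ℕ) (tabP 5).q P.N V) P.n (⊤ : Subgroup (GL (Fin 3) F)) :=
  faithful_vecOf h (ix_fin 3) hP hV zv3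
theorem c1 {F : Type*} [Field F] {el : ℕ → F} (h : FC (tabP 5) el) : Ctx P (vecOf el (Fin.val : Fin 3 → ℕ) (tabP 5).q P.N V) (ext (List.map (glF el (Fin.val : Fin 3 → ℕ)) ms) ws) ns D chk :=
  ctx (base h) (faith h) fun _ _ => trivial

theorem G_c : P.chainB ns D G_vs [[6], [8]] = true :=
  zc5

theorem G_o : prodL G_vs 1 = 372000 := by decide +kernel

theorem G_lb (c : Ctx P e gs ns D chk) :
    LB (subW gs [[6], [8]]) 372000 :=
  c.lb G_c G_o

theorem Z_lb (c : Ctx P e gs ns D chk) :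
    LB (subW gs []) 1 :=
  LB.one _

theorem hZ (c : Ctx P e gs ns D chk) :
    (subW gs []) ≤ (subW gs [[6], [8]]) ∧ Rels gs (comR [] [[6], [8]]) :=
  ⟨(c.le zm6), Rels.nil _⟩

end
end CL.Std.L35.M

namespace CL.Std.L35
open CL.PG

def P : Par := ⟨31, 32, 5, 3⟩
theorem hP : P.Ok := by decide
noncomputable def a0 : Net := (.cons 16 (nat_lit 0x14ad)
 (.cons 8 (nat_lit 0x3d00b9)
 (.cons 4 (nat_lit 0xd010508)
 (.cons 2 (nat_lit 0x100021)
 (.cons 1 (nat_lit 0x40415101)
 (.cons 2 (nat_lit 0x200)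
 (.cons 4 (nat_lit 0x8040c0e)
 (.cons 8 (nat_lit 0x78)
 (.cons 16 (nat_lit 0x7f40)
 .nil)))))))))
noncomputable def a1 : Net := (.cons 16 (nat_lit 0x7d83)
 (.cons 8 (nat_lit 0x3800f5)
 (.cons 4 (nat_lit 0x40e0e0c)
 (.cons 2 (nat_lit 0x23230)
 (.cons 1 (nat_lit 0x11114415)
 (.cons 2 (nat_lit 0x2022000)
 (.cons 4 (nat_lit 0xa0a00)
 (.cons 8 (nat_lit 0x280088)
 (.cons 16 (nat_lit 0x4d08)
 .nil)))))))))
noncomputable def a2 : Net := (.cons 16 (nat_lit 0xfe36)
 (.cons 8 (nat_lit 0xd600dc)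
 (.cons 4 (nat_lit 0x5010c0a)
 (.cons 2 (nat_lit 0x3022032)
 (.cons 1 (nat_lit 0x10441414)
 (.cons 2 (nat_lit 0x20022022)
 (.cons 4 (nat_lit 0xc080c)
 (.cons 8 (nat_lit 0xb200a0)
 (.cons 16 (nat_lit 0x9240)
 .nil)))))))))
noncomputable def a3 : Net := (.cons 16 (nat_lit 0x7400)
 (.cons 8 (nat_lit 0x14003a)
 (.cons 4 (nat_lit 0x90c02)
 (.cons 2 (nat_lit 0x2310212)
 (.cons 1 (nat_lit 0x1444154)
 (.cons 2 (nat_lit 0x202200)
 (.cons 4 (nat_lit 0x2080206)
 (.cons 8 (nat_lit 0x540008)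
 (.cons 16 (nat_lit 0x13e)
 .nil)))))))))
noncomputable def a4 : Net := (.cons 16 (nat_lit 0xfc00)
 (.cons 8 (nat_lit 0xc000c0)
 (.cons 4 (nat_lit 0x50b0c)
 (.cons 2 (nat_lit 0x12301110)
 (.cons 1 (nat_lit 0x1441110)
 (.cons 2 (nat_lit 0x20)
 (.cons 4 (nat_lit 0x208000c)
 (.cons 8 (nat_lit 0x400080)
 (.cons 16 (nat_lit 0xf800)
 .nil)))))))))
noncomputable def a5 : Net := (.cons 16 (nat_lit 0x16c8)
 (.cons 8 (nat_lit 0x1600b6)
 (.cons 4 (nat_lit 0x30c000e)
 (.cons 2 (nat_lit 0x1120210)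
 (.cons 1 (nat_lit 0x4014144)
 (.cons 2 (nat_lit 0x2020220)
 (.cons 4 (nat_lit 0x80000)
 (.cons 8 (nat_lit 0x2000be)
 (.cons 16 (nat_lit 0x3048)
 .nil)))))))))
noncomputable def a6 : Net := (.cons 8 (nat_lit 0x1c0030)
 (.cons 4 (nat_lit 0x8010600)
 (.cons 2 (nat_lit 0x222230)
 (.cons 1 (nat_lit 0x51000150)
 (.cons 2 (nat_lit 0x200)
 (.cons 4 (nat_lit 0x8000200)
 (.cons 8 (nat_lit 0x180030)
 .nil)))))))
noncomputable def a7 : Net := (.cons 16 (nat_lit 0xbe62)
 (.cons 8 (nat_lit 0x9f00b0)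
 (.cons 4 (nat_lit 0x4010e06)
 (.cons 2 (nat_lit 0x1032302)
 (.cons 1 (nat_lit 0x10014114)
 (.cons 2 (nat_lit 0x2002)
 (.cons 4 (nat_lit 0x80006)
 (.cons 8 (nat_lit 0x1200b2)
 (.cons 16 (nat_lit 0x92e2)
 .nil)))))))))
noncomputable def ns0 : List Net := [a0, a1]
noncomputable def ws : List (List ℕ) :=
  [W (nat_lit 0xc0300804),
  W (nat_lit 0x300c01),
  W (nat_lit 0x5014050200601c05),
  W (nat_lit 0x140701c0701806),
  W (nat_lit 0x300a03009),
  W (nat_lit 0x90300a)]
noncomputable def ns : List Net := [a0, a1, a2, a3, a4, a5, a6, a7]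
noncomputable def D : List (ℕ × List ℕ) := app [] (mkDefs ws 2)
noncomputable def chk : List (List ℕ × List ℕ) → Bool := P.relsB ns
noncomputable def G_v0 : Lev :=
  ⟨0, 31, sg (W (nat_lit 0x40100c0100c0100c0100c01)), [[4], [6]], 0, 2⟩
noncomputable def G_v1 : Lev :=
  ⟨1, 30, sg (W (nat_lit 0x501c0501c0501c0501c05)), [[8], [10]], 2, 2⟩
noncomputable def G_v2 : Lev :=
  ⟨2, 4, sg (W (nat_lit 0x902409)), [[12], [11], [14]], 4, 2⟩
noncomputable def G_v3 : Lev :=
  ⟨6, 25, sg (W (nat_lit 0xd03c0c0340f0300d)), [[14]], 6, 0⟩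
noncomputable def G_v4 : Lev :=
  ⟨7, 4, sg (W (nat_lit 0xf03c0f)), [], 6, 0⟩
noncomputable def G_vs5 : List Lev :=
  []
noncomputable def G_vs4 : List Lev :=
  G_v4 :: G_vs5
noncomputable def G_vs3 : List Lev :=
  G_v3 :: G_vs4
noncomputable def G_vs2 : List Lev :=
  G_v2 :: G_vs3
noncomputable def G_vs1 : List Lev :=
  G_v1 :: G_vs2
noncomputable def G_vs : List Lev :=
  G_v0 :: G_vs1
noncomputable def zE1 : Net :=
  (.cons 64 (nat_lit 0xd8e9a5b61edcc52c)
 (.cons 32 (nat_lit 0xe4cc0810000000050cbb260)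
 (.cons 16 (nat_lit 0xbc64000042f0000040950000f38a)
 (.cons 8 (nat_lit 0x81004a00b6002f009400b000390054)
 (.cons 4 (nat_lit 0x30b0b0e070c080b030700070702010c)
 (.cons 2 (nat_lit 0x31013111223112033011120113313302)
 (.cons 1 (nat_lit 0x4141414051444154405440144140440)
 (.cons 2 (nat_lit 0x2020020002220000000000222220220)
 (.cons 4 (nat_lit 0x20e080c0a040802040000040804)
 (.cons 8 (nat_lit 0xa0005200ac001000e8008000e40052)
 (.cons 16 (nat_lit 0x30c40000ed1400004f220000d114)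
 (.cons 32 (nat_lit 0x5f5fa3d2000000005b035528)
 (.cons 64 (nat_lit 0xd95a22cde96d87a4)
 .nil)))))))))))))
noncomputable def zK2 : Lk :=
  ⟨zE1, 4, 3, 1⟩

theorem zc0 : P.chainB ns D G_vs [[0], [2]] = true := by decide +kernel
theorem zl3 : zK2.relB CL.Std.L35.M.P CL.Std.L35.P CL.Std.L35.M.ns [[6], [8]] [[0], [2]] = true := by decide +kernel
theorem zl4 : allL (zK2.pl CL.Std.L35.M.P CL.Std.L35.P CL.Std.L35.M.ns CL.Std.L35.ns 0) (zp [] [[6], [8]] [[0], [2]]) = true := by decide +kernel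
theorem zk5 : allL (keepB P.n P.N) ns0 = true := by decide +kernel
theorem ze6 : extB ns0 ns 2 ws [] = true := by decide +kernel
theorem zn7 : P.netsB ns (mkDefs ws 2) = true := by decide +kernel

section
variable {G X : Type*} [Group G] [MulAction G X] {e : ℕ → X} {gs : List G}

theorem keep0 : allL (keepB P.n P.N) ns0 = true := zk5

theorem len {k} (c : Ctx P e gs ns0 [] k) : gs.length = 2 := c.len ze6

theorem ctx0 {k} (c : Ctx P e gs ns0 [] k) : Ctx P e (ext gs ws) ns D chk0 :=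
  c.ext rfl ze6 zn7

theorem ctx {k} (c : Ctx P e gs ns0 [] k) {H : Subgroup G} (hF : Faithful e P.n H) (hH : ∀ g ∈ gs, g ∈ H) :
    Ctx P e (ext gs ws) ns D chk :=
  (ctx0 c).withB hF (mem_of_mem_ext hH _)

instance instNe : NeZero P.n := ⟨by decide⟩
noncomputable def gs0 : List (Equiv.Perm (Fin P.n)) := permsOf P.n P.N ns0
noncomputable def gs1 : List (Equiv.Perm (Fin P.n)) := ext gs0 ws
theorem c1 : Ctx P (eF P.n) gs1 ns D chk :=
  ctx (ctx_permsOf hP keep0) (faithful_eF _) fun _ _ => trivial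

theorem G_c : P.chainB ns D G_vs [[0], [2]] = true :=
  zc0

theorem G_o : prodL G_vs 1 = 372000 := by decide +kernel

theorem G_lb (c : Ctx P e gs ns D chk) :
    LB (subW gs [[0], [2]]) 372000 :=
  c.lb G_c G_o

theorem rel {Γ Y : Type*} [Group Γ] [MulAction Γ Y] {e' : ℕ → Y} {cs : List Γ} {D₁ D₂ : List (ℕ × List ℕ)}
    {k₁ k₂ : List (List ℕ × List ℕ) → Bool} (c : Ctx CL.Std.L35.M.P e gs CL.Std.L35.M.ns D₁ k₁) (c' : Ctx CL.Std.L35.P e' cs CL.Std.L35.ns D₂ k₂)
    (hF : Faithful e' CL.Std.L35.P.n (subW cs [[0], [2]])) :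
    RelLe gs [[6], [8]] cs [[0], [2]] :=
  c.relLe (K := zK2) c' hF zl3 (fun (t : ℕ) (ht : t < 1) => match t, ht with
    | 0, _ => zl4
    | t + 1, h => absurd h (by omega))

instance instP : Fact (Nat.Prime 5) := ⟨by norm_num⟩

theorem hom {F : Type*} [Field F] [Fintype F] (hF : Fintype.card F = 5) :
    ∃ f : Matrix.SpecialLinearGroup (Fin 3) F →* Equiv.Perm (Fin P.n), f.range = (subW gs1 [[0], [2]]) ∧ f.ker = Subgroup.center _ ∧ Nat.card (subW gs1 [[0], [2]]) = 372000 := by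
  obtain ⟨el, h⟩ := Tab.exists_fc (tabP 5) (by decide +kernel) F hF
  have hc : Nat.card (Matrix.SpecialLinearGroup (Fin 3) F) = 372000 := card_sl hF 3 (by decide +kernel)
  have hK := subW_eq_range (l := [[6], [8]]) Matrix.SpecialLinearGroup.toGL Matrix.SpecialLinearGroup.toGL_injective hc (by norm_num)
    (subW_le_of_forall (mem_of_mem_ext (forall_mem_SL h (ix_fin 3) M.hinv M.zv4) _) _) (M.G_lb (M.c1 h))
  have : Finite (Matrix.SpecialLinearGroup (Fin 3) F) := Nat.finite_of_card_ne_zero (by rw [hc]; norm_num)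
  exact cquot_of_card (RelLe.cquot0 (l := [[6], [8]]) (lZ := []) (a := 1) (b := 372000) (rel (M.c1 h) c1 ((faithful_eF _).mono le_top)) (by decide)
    Matrix.SpecialLinearGroup.toGL Matrix.SpecialLinearGroup.toGL_injective hc (by norm_num) hK (M.hZ (M.c1 h)).1 (M.hZ (M.c1 h)).2 (M.Z_lb (M.c1 h)) (G_lb c1)) (card_psl hF 2 (by decide +kernel))
theorem iso {F : Type*} [Field F] [Fintype F] (hF : Fintype.card F = 5) :
    Nonempty ((subW gs1 [[0], [2]]) ≃* Matrix.SpecialLinearGroup (Fin 3) F ⧸ Subgroup.center (Matrix.SpecialLinearGroup (Fin 3) F)) := cquot_equiv (hom hF)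
theorem card : Nat.card (subW gs1 [[0], [2]]) = 372000 := by
  obtain ⟨F, _, _, hF⟩ := exists_field 5 1 (by norm_num)
  replace hF : Fintype.card F = 5 := hF
  exact (hom hF).choose_spec.2.2
theorem ub : UB (subW gs1 [[0], [2]]) 372000 := UB.of_card card (by norm_num)

theorem simple : IsSimpleGroup (subW gs1 [[0], [2]]) := by
  obtain ⟨F, _, _, hF⟩ := exists_field 5 1 (by norm_num)
  replace hF : Fintype.card F = 5 := hF
  obtain ⟨el, h⟩ := Tab.exists_fc (tabP 5) (by decide +kernel) F hF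
  have : IsSimpleGroup (Matrix.SpecialLinearGroup (Fin 3) F ⧸ Subgroup.center (Matrix.SpecialLinearGroup (Fin 3) F)) := SLn.isSimpleGroup_PSL_fin (F := F) 3 (by norm_num) (by rw [hF]; norm_num)
  exact (iso hF).some.isSimpleGroup

end
end CL.Std.L35

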