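/-
A standard permutation model (O+, dimension 4, field with 3 elements): degree 24, order 1152.
Generated by tools/pg.
-/
import Cfsg.Agent.Spor.PGCls
import Cfsg.Agent.Spor.PGCtx

set_option autoImplicit false
set_option maxRecDepth 200000
set_option Elab.async false
set_option linter.unusedVariables false

namespace CL.Std.O4p3.M
open CL.PG

def P : Par := ⟨24, 24, 5, 3⟩
theorem hP : P.Ok := by decide
noncomputable def a0 : Net := (.cons 12 (nat_lit 0x4c)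
 (.cons 6 (nat_lit 0x1100c)
 (.cons 3 (nat_lit 0x1061c2)
 (.cons 1 (nat_lit 0x8000)
 (.cons 1 (nat_lit 0x92490)
 (.cons 1 (nat_lit 0x8001)
 (.cons 3 (nat_lit 0x106002)
 (.cons 6 (nat_lit 0x1000c)
 (.cons 12 (nat_lit 0x4c)
 .nil)))))))))
noncomputable def a1 : Net := (.cons 12 (nat_lit 0x94)
 (.cons 6 (nat_lit 0x28)
 (.cons 3 (nat_lit 0x4182)
 (.cons 1 (nat_lit 0x1001)
 (.cons 1 (nat_lit 0x2002)
 (.cons 1 (nat_lit 0x41201)
 (.cons 3 (nat_lit 0x4080)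
 (.cons 6 (nat_lit 0x28)
 (.cons 12 (nat_lit 0x94)
 .nil)))))))))
noncomputable def a2 : Net := (.cons 12 (nat_lit 0xdc2)
 (.cons 6 (nat_lit 0x3e024)
 (.cons 3 (nat_lit 0x1c4182)
 (.cons 1 (nat_lit 0x48001)
 (.cons 1 (nat_lit 0x492082)
 (.cons 1 (nat_lit 0x208209)
 (.cons 3 (nat_lit 0x4182)
 (.cons 6 (nat_lit 0x10024)
 (.cons 12 (nat_lit 0xdc2)
 .nil)))))))))
noncomputable def a3 : Net := (.cons 12 (nat_lit 0x520)
 (.cons 6 (nat_lit 0x22034)
 (.cons 3 (nat_lit 0x84005)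
 (.cons 1 (nat_lit 0x1008)
 (.cons 1 (nat_lit 0x402012)
 (.cons 1 (nat_lit 0x41001)
 (.cons 3 (nat_lit 0x84002)
 (.cons 6 (nat_lit 0x22034)
 (.cons 12 (nat_lit 0x520)
 .nil)))))))))
noncomputable def a4 : Net := (.cons 12 (nat_lit 0x178)
 (.cons 6 (nat_lit 0x2c022)
 (.cons 3 (nat_lit 0x104083)
 (.cons 1 (nat_lit 0x48008)
 (.cons 1 (nat_lit 0x92090)
 (.cons 1 (nat_lit 0x248209)
 (.cons 3 (nat_lit 0x184184)
 (.cons 6 (nat_lit 0x3202c)
 (.cons 12 (nat_lit 0xfe8)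
 .nil)))))))))
noncomputable def a5 : Net := (.cons 12 (nat_lit 0xa15)
 (.cons 6 (nat_lit 0x101e)
 (.cons 3 (nat_lit 0xc1104)
 (.cons 1 (nat_lit 0x41001)
 (.cons 1 (nat_lit 0x92082)
 (.cons 1 (nat_lit 0x48048)
 (.cons 3 (nat_lit 0x104104)
 (.cons 6 (nat_lit 0x12032)
 (.cons 12 (nat_lit 0x28)
 .nil)))))))))
noncomputable def a6 : Net := (.cons 12 (nat_lit 0x9c0)
 (.cons 6 (nat_lit 0x3302c)
 (.cons 3 (nat_lit 0x184106)
 (.cons 1 (nat_lit 0x201040)
 (.cons 1 (nat_lit 0x492090)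
 (.cons 1 (nat_lit 0x48008)
 (.cons 3 (nat_lit 0x82086)
 (.cons 6 (nat_lit 0x3201c)
 (.cons 12 (nat_lit 0xa30)
 .nil)))))))))
noncomputable def a7 : Net := (.cons 12 (nat_lit 0xe22)
 (.cons 6 (nat_lit 0x9002)
 (.cons 3 (nat_lit 0x1070c2)
 (.cons 1 (nat_lit 0x241000)
 (.cons 1 (nat_lit 0x492482)
 (.cons 1 (nat_lit 0x8240)
 (.cons 3 (nat_lit 0x6004)
 (.cons 6 (nat_lit 0x4)
 (.cons 12 (nat_lit 0xc54)
 .nil)))))))))
noncomputable def a8 : Net := (.cons 12 (nat_lit 0x870)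
 (.cons 6 (nat_lit 0xc00c)
 (.cons 3 (nat_lit 0x182002)
 (.cons 1 (nat_lit 0x8040)
 (.cons 1 (nat_lit 0x490080)
 (.cons 1 (nat_lit 0x9048)
 (.cons 3 (nat_lit 0x2002)
 (.cons 6 (nat_lit 0xc00c)
 (.cons 12 (nat_lit 0x870)
 .nil)))))))))
noncomputable def a9 : Net := (.cons 12 (nat_lit 0xe40)
 (.cons 6 (nat_lit 0x202a)
 (.cons 3 (nat_lit 0x106082)
 (.cons 1 (nat_lit 0x201000)
 (.cons 1 (nat_lit 0x482490)
 (.cons 1 (nat_lit 0x48)
 (.cons 3 (nat_lit 0x2)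
 (.cons 6 (nat_lit 0x3400e)
 (.cons 12 (nat_lit 0x856)
 .nil)))))))))
noncomputable def a10 : Net := (.cons 12 (nat_lit 0x930)
 (.cons 6 (nat_lit 0x4024)
 (.cons 3 (nat_lit 0x180084)
 (.cons 1 (nat_lit 0x2010)
 (.cons 3 (nat_lit 0x4)
 (.cons 6 (nat_lit 0x4004)
 (.cons 12 (nat_lit 0x930)
 .nil)))))))
noncomputable def ns0 : List Net := [a0, a1, a2, a3]
noncomputable def ws : List (List ℕ) :=
  [W (nat_lit 0x6004030200402002),
  W (nat_lit 0x30080601c03),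
  W (nat_lit 0x90300c0240b),
  W (nat_lit 0xa02c0a0280c0240b02c0a),
  W (nat_lit 0xe03c0e0400e),
  W (nat_lit 0x3410),
  W (nat_lit 0x1404813)]
noncomputable def ns : List Net := [a0, a1, a2, a3, a4, a5, a6, a7, a8, a9, a10]
noncomputable def D : List (ℕ × List ℕ) := app [] (mkDefs ws 4)
noncomputable def chk : List (List ℕ × List ℕ) → Bool := P.relsB ns
noncomputable def V : List ℕ :=
  [(nat_lit 0x2a193845428790a440),
  (nat_lit 0x93c8244825d2241209),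
  (nat_lit 0xe070381c0e070381c0),
  (nat_lit 0xff8000007fc000003f)]
noncomputable def ms : List (List (List ℕ) × List (List ℕ)) :=
  [([[0, 0, 2, 2], [2, 1, 2, 2], [2, 0, 0, 2], [0, 0, 0, 1]],
   [[0, 0, 2, 2], [2, 1, 2, 2], [2, 0, 0, 2], [0, 0, 0, 1]]),
  ([[1, 0, 0, 0], [2, 0, 0, 1], [1, 1, 1, 2], [1, 1, 0, 0]],
   [[1, 0, 0, 0], [2, 0, 0, 1], [1, 1, 1, 2], [1, 1, 0, 0]]),
  ([[1, 2, 2, 2], [0, 0, 2, 2], [0, 0, 1, 0], [0, 2, 2, 0]],
   [[1, 2, 2, 2], [0, 0, 2, 2], [0, 0, 1, 0], [0, 2, 2, 0]]),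
  ([[1, 1, 1, 2], [0, 0, 2, 1], [0, 0, 1, 0], [0, 1, 1, 0]],
   [[1, 1, 1, 2], [0, 0, 2, 1], [0, 0, 1, 0], [0, 1, 1, 0]])]
noncomputable def G_v0 : Lev :=
  ⟨0, 24, sg (W (nat_lit 0x902c0902c0902c0902c09)), [[12], [14]], 2, 2⟩
noncomputable def G_v1 : Lev :=
  ⟨6, 6, sg (W (nat_lit 0xd03c0d)), [[16], [18]], 4, 2⟩
noncomputable def G_v2 : Lev :=
  ⟨1, 4, sg (W (nat_lit 0x4c11)), [[20]], 6, 1⟩
noncomputable def G_v3 : Lev :=
  ⟨7, 2, sg [20], [], 7, 0⟩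
noncomputable def G_vs4 : List Lev :=
  []
noncomputable def G_vs3 : List Lev :=
  G_v3 :: G_vs4
noncomputable def G_vs2 : List Lev :=
  G_v2 :: G_vs3
noncomputable def G_vs1 : List Lev :=
  G_v1 :: G_vs2
noncomputable def G_vs : List Lev :=
  G_v0 :: G_vs1

theorem zv0 : vecB (tabP 3).q 2 4 P V = true := by decide +kernel
theorem zv1 : Nat.beq (lenL ms) (lenL ns0) = true := by decide +kernel
theorem zv2 : allL ((tabP 3).actB 2 4 P V) (zp Net.nil ms ns0) = true := by decide +kernel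
theorem zv3 : (tabP 3).basB 4 P V [0, 1, 6, 7] [[0, 2, 1, 1], [0, 1, 0, 2], [2, 0, 1, 1], [1, 0, 2, 0]] = true := by decide +kernel
theorem zv4 : allL ((tabP 3).quadB 4 (aPlus 2)) ms = true := by decide +kernel
theorem zc5 : P.chainB ns D G_vs [[8], [10]] = true := by decide +kernel
theorem zk6 : allL (keepB P.n P.N) ns0 = true := by decide +kernel
theorem ze7 : extB ns0 ns 4 ws [] = true := by decide +kernel
theorem zn8 : P.netsB ns (mkDefs ws 4) = true := by decide +kernel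

section
variable {G X : Type*} [Group G] [MulAction G X] {e : ℕ → X} {gs : List G}

theorem keep0 : allL (keepB P.n P.N) ns0 = true := zk6

theorem len {k} (c : Ctx P e gs ns0 [] k) : gs.length = 4 := c.len ze7

theorem ctx0 {k} (c : Ctx P e gs ns0 [] k) : Ctx P e (ext gs ws) ns D chk0 :=
  c.ext rfl ze7 zn8

theorem ctx {k} (c : Ctx P e gs ns0 [] k) {H : Subgroup G} (hF : Faithful e P.n H) (hH : ∀ g ∈ gs, g ∈ H) :
    Ctx P e (ext gs ws) ns D chk :=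
  (ctx0 c).withB hF (mem_of_mem_ext hH _)

theorem hV : vecB (tabP 3).q 2 4 P V = true := zv0
theorem hact : allL ((tabP 3).actB 2 4 P V) (zp Net.nil ms ns0) = true := zv2
theorem hinv : allL ((tabP 3).invB 4) ms = true := actB_invB hact
theorem base {F : Type*} [Field F] {el : ℕ → F} (h : FC (tabP 3) el) : Ctx P (vecOf el (sPlus 2) (tabP 3).q P.N V) (List.map (glF el (sPlus 2)) ms) ns0 [] chk0 :=
  ctx_mat h (ix_plus 2) hP hV zv1 hact
theorem faith {F : Type*} [Field F] {el : ℕ → F} (h : FC (tabP 3) el) : Faithful (vecOf el (sPlus 2) (tabP 3).q P.N V) P.n (⊤ : Subgroup (GL (Fin 2 ⊕ Fin 2) F)) :=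
  faithful_vecOf h (ix_plus 2) hP hV zv3
theorem c1 {F : Type*} [Field F] {el : ℕ → F} (h : FC (tabP 3) el) : Ctx P (vecOf el (sPlus 2) (tabP 3).q P.N V) (ext (List.map (glF el (sPlus 2)) ms) ws) ns D chk :=
  ctx (base h) (faith h) fun _ _ => trivial

theorem hq : allL ((tabP 3).quadB 4 (aPlus 2)) ms = true := zv4

theorem G_c : P.chainB ns D G_vs [[8], [10]] = true :=
  zc5

theorem G_o : prodL G_vs 1 = 1152 := by decide +kernel

theorem G_lb (c : Ctx P e gs ns D chk) :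
    LB (subW gs [[8], [10]]) 1152 :=
  c.lb G_c G_o

end
end CL.Std.O4p3.M

namespace CL.Std.O4p3
open CL.PG

def P : Par := ⟨24, 24, 5, 3⟩
theorem hP : P.Ok := by decide
noncomputable def a0 : Net := (.cons 12 (nat_lit 0x178)
 (.cons 6 (nat_lit 0x2c022)
 (.cons 3 (nat_lit 0x104083)
 (.cons 1 (nat_lit 0x48008)
 (.cons 1 (nat_lit 0x92090)
 (.cons 1 (nat_lit 0x248209)
 (.cons 3 (nat_lit 0x184184)
 (.cons 6 (nat_lit 0x3202c)
 (.cons 12 (nat_lit 0xfe8)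
 .nil)))))))))
noncomputable def a1 : Net := (.cons 12 (nat_lit 0xa15)
 (.cons 6 (nat_lit 0x101e)
 (.cons 3 (nat_lit 0xc1104)
 (.cons 1 (nat_lit 0x41001)
 (.cons 1 (nat_lit 0x92082)
 (.cons 1 (nat_lit 0x48048)
 (.cons 3 (nat_lit 0x104104)
 (.cons 6 (nat_lit 0x12032)
 (.cons 12 (nat_lit 0x28)
 .nil)))))))))
noncomputable def a2 : Net := (.cons 12 (nat_lit 0x146)
 (.cons 6 (nat_lit 0x2901c)
 (.cons 3 (nat_lit 0x42100)
 (.cons 1 (nat_lit 0x240008)
 (.cons 1 (nat_lit 0x490092)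
 (.cons 1 (nat_lit 0x49040)
 (.cons 3 (nat_lit 0x80004)
 (.cons 6 (nat_lit 0x2e01a)
 (.cons 12 (nat_lit 0x330)
 .nil)))))))))
noncomputable def a3 : Net := (.cons 12 (nat_lit 0xa34)
 (.cons 6 (nat_lit 0xd026)
 (.cons 3 (nat_lit 0x820c2)
 (.cons 1 (nat_lit 0x201040)
 (.cons 1 (nat_lit 0x492082)
 (.cons 1 (nat_lit 0x48240)
 (.cons 3 (nat_lit 0x106084)
 (.cons 6 (nat_lit 0xc010)
 (.cons 12 (nat_lit 0x980)
 .nil)))))))))
noncomputable def a4 : Net := (.cons 12 (nat_lit 0xa10)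
 (.cons 6 (nat_lit 0x27024)
 (.cons 3 (nat_lit 0x184)
 (.cons 1 (nat_lit 0x240000)
 (.cons 1 (nat_lit 0x482082)
 (.cons 1 (nat_lit 0x201200)
 (.cons 3 (nat_lit 0x184)
 (.cons 6 (nat_lit 0x20020)
 (.cons 12 (nat_lit 0xa00)
 .nil)))))))))
noncomputable def a5 : Net := (.cons 12 (nat_lit 0xe40)
 (.cons 6 (nat_lit 0x202a)
 (.cons 3 (nat_lit 0x106082)
 (.cons 1 (nat_lit 0x201000)
 (.cons 1 (nat_lit 0x482490)
 (.cons 1 (nat_lit 0x48)
 (.cons 3 (nat_lit 0x2)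
 (.cons 6 (nat_lit 0x3400e)
 (.cons 12 (nat_lit 0x856)
 .nil)))))))))
noncomputable def a6 : Net := (.cons 12 (nat_lit 0x930)
 (.cons 6 (nat_lit 0x4024)
 (.cons 3 (nat_lit 0x180084)
 (.cons 1 (nat_lit 0x2010)
 (.cons 3 (nat_lit 0x4)
 (.cons 6 (nat_lit 0x4004)
 (.cons 12 (nat_lit 0x930)
 .nil)))))))
noncomputable def ns0 : List Net := [a0, a1]
noncomputable def ws : List (List ℕ) :=
  [W (nat_lit 0x200803004040100201001),
  W (nat_lit 0x40100100c02),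
  W (nat_lit 0x50200601c05),
  W (nat_lit 0x180602006),
  W (nat_lit 0x300a)]
noncomputable def ns : List Net := [a0, a1, a2, a3, a4, a5, a6]
noncomputable def D : List (ℕ × List ℕ) := app [] (mkDefs ws 2)
noncomputable def chk : List (List ℕ × List ℕ) → Bool := P.relsB ns
noncomputable def G_v0 : Lev :=
  ⟨0, 24, sg (W (nat_lit 0x100c0100c0100c0100c01)), [[4], [6]], 0, 2⟩
noncomputable def G_v1 : Lev :=
  ⟨6, 6, sg (W (nat_lit 0x140701405)), [[8], [10]], 2, 2⟩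
noncomputable def G_v2 : Lev :=
  ⟨1, 4, sg (W (nat_lit 0x902c09)), [[12]], 4, 1⟩
noncomputable def G_v3 : Lev :=
  ⟨7, 2, sg [12], [], 5, 0⟩
noncomputable def G_vs4 : List Lev :=
  []
noncomputable def G_vs3 : List Lev :=
  G_v3 :: G_vs4
noncomputable def G_vs2 : List Lev :=
  G_v2 :: G_vs3
noncomputable def G_vs1 : List Lev :=
  G_v1 :: G_vs2
noncomputable def G_vs : List Lev :=
  G_v0 :: G_vs1
noncomputable def zE1 : Net :=
  .nil
noncomputable def zK2 : Lk :=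
  ⟨zE1, 1, 3, 1⟩

theorem zc0 : P.chainB ns D G_vs [[0], [2]] = true := by decide +kernel
theorem zl3 : zK2.relB CL.Std.O4p3.M.P CL.Std.O4p3.P CL.Std.O4p3.M.ns [[8], [10]] [[0], [2]] = true := by decide +kernel
theorem zl4 : allL (zK2.pl CL.Std.O4p3.M.P CL.Std.O4p3.P CL.Std.O4p3.M.ns CL.Std.O4p3.ns 0) (zp [] [[8], [10]] [[0], [2]]) = true := by decide +kernel
theorem zk5 : allL (keepB P.n P.N) ns0 = true := by decide +kernel
theorem ze6 : extB ns0 ns 2 ws [] = true := by decide +kernel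
theorem zn7 : P.netsB ns (mkDefs ws 2) = true := by decide +kernel

section
variable {G X : Type*} [Group G] [MulAction G X] {e : ℕ → X} {gs : List G}

theorem keep0 : allL (keepB P.n P.N) ns0 = true := zk5

theorem len {k} (c : Ctx P e gs ns0 [] k) : gs.length = 2 := c.len ze6

theorem ctx0 {k} (c : Ctx P e gs ns0 [] k) : Ctx P e (ext gs ws) ns D chk0 :=
  c.ext rfl ze6 zn7

theorem ctx {k} (c : Ctx P e gs ns0 [] k) {H : Subgroup G} (hF : Faithful e P.n H) (hH : ∀ g ∈ gs, g ∈ H) :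
    Ctx P e (ext gs ws) ns D chk :=
  (ctx0 c).withB hF (mem_of_mem_ext hH _)

instance instNe : NeZero P.n := ⟨by decide⟩
noncomputable def gs0 : List (Equiv.Perm (Fin P.n)) := permsOf P.n P.N ns0
noncomputable def gs1 : List (Equiv.Perm (Fin P.n)) := ext gs0 ws
theorem c1 : Ctx P (eF P.n) gs1 ns D chk :=
  ctx (ctx_permsOf hP keep0) (faithful_eF _) fun _ _ => trivial

theorem G_c : P.chainB ns D G_vs [[0], [2]] = true :=
  zc0

theorem G_o : prodL G_vs 1 = 1152 := by decide +kernel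

theorem G_lb (c : Ctx P e gs ns D chk) :
    LB (subW gs [[0], [2]]) 1152 :=
  c.lb G_c G_o

theorem rel {Γ Y : Type*} [Group Γ] [MulAction Γ Y] {e' : ℕ → Y} {cs : List Γ} {D₁ D₂ : List (ℕ × List ℕ)}
    {k₁ k₂ : List (List ℕ × List ℕ) → Bool} (c : Ctx CL.Std.O4p3.M.P e gs CL.Std.O4p3.M.ns D₁ k₁) (c' : Ctx CL.Std.O4p3.P e' cs CL.Std.O4p3.ns D₂ k₂)
    (hF : Faithful e' CL.Std.O4p3.P.n (subW cs [[0], [2]])) :
    RelLe gs [[8], [10]] cs [[0], [2]] :=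
  c.relLe (K := zK2) c' hF zl3 (fun (t : ℕ) (ht : t < 1) => match t, ht with
    | 0, _ => zl4
    | t + 1, h => absurd h (by omega))

theorem iso {F : Type*} [Field F] [Fintype F] (hF : Fintype.card F = 3) :
    Nonempty ((subW gs1 [[0], [2]]) ≃* Cfsg.isometryGroup F (Cfsg.quadFormPlus 2 F)) := by
  obtain ⟨el, h⟩ := Tab.exists_fc (tabP 3) (by decide +kernel) F hF
  have hc : Nat.card (Cfsg.isometryGroup F (Cfsg.quadFormPlus 2 F)) = 1152 := card_o_plus hF 1 (by decide +kernel)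
  have hK := subW_eq_range (l := [[8], [10]]) (Cfsg.isometryGroup F (Cfsg.quadFormPlus 2 F)).subtype Subtype.val_injective hc (by norm_num)
    ((subW_le_of_forall (mem_of_mem_ext (forall_mem_isom h (ix_plus 2) (by decide +kernel) (quadFormPlus_eq h 2) M.hinv M.hq) _) _).trans (Subgroup.range_subtype _).ge) (M.G_lb (M.c1 h))
  exact (rel (M.c1 h) c1 ((faithful_eF _).mono le_top)).iso_of_range (Cfsg.isometryGroup F (Cfsg.quadFormPlus 2 F)).subtype Subtype.val_injective hc (by norm_num) hK (G_lb c1)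
theorem card : Nat.card (subW gs1 [[0], [2]]) = 1152 := by
  obtain ⟨F, _, _, hF⟩ := exists_field 3 1 (by norm_num)
  replace hF : Fintype.card F = 3 := hF
  obtain ⟨el, h⟩ := Tab.exists_fc (tabP 3) (by decide +kernel) F hF
  exact (Nat.card_congr (iso hF).some.toEquiv).trans (card_o_plus hF 1 (by decide +kernel))
theorem ub : UB (subW gs1 [[0], [2]]) 1152 := UB.of_card card (by norm_num)

end
end CL.Std.O4p3

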