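/-
A standard permutation model (Oo, dimension 5, field with 3 elements): degree 72, order 103680.
Generated by tools/pg.
-/
import Cfsg.Agent.Spor.PGCls
import Cfsg.Agent.Spor.PGCtx

set_option autoImplicit false
set_option maxRecDepth 200000
set_option Elab.async false
set_option linter.unusedVariables false

namespace CL.Std.O53.M
open CL.PG

def P : Par := ⟨72, 80, 7, 3⟩
theorem hP : P.Ok := by decide
noncomputable def a0 : Net := (.cons 40 (nat_lit 0x25a66621a8)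
 (.cons 20 (nat_lit 0x2a0000000080e00)
 (.cons 10 (nat_lit 0x300008e0022300208)
 (.cons 5 (nat_lit 0x2000000100200000014)
 (.cons 1 (nat_lit 0x200000000004)
 (.cons 1 (nat_lit 0x140000000000a)
 (.cons 1 (nat_lit 0x28400000a12800028005)
 (.cons 1 (nat_lit 0x1090800142100401000a)
 (.cons 1 (nat_lit 0x28421010212840128484)
 (.cons 5 (nat_lit 0x2000000100200000014)
 (.cons 10 (nat_lit 0x300008c0002000208)
 (.cons 20 (nat_lit 0x2a0000000080e00)
 (.cons 40 (nat_lit 0x25a6242128)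
 .nil)))))))))))))
noncomputable def a1 : Net := (.cons 40 (nat_lit 0x48da90a580)
 (.cons 20 (nat_lit 0x81800000060c10)
 (.cons 10 (nat_lit 0x400171003c40032c)
 (.cons 5 (nat_lit 0x2418064170400604400)
 (.cons 1 (nat_lit 0x40000000)
 (.cons 1 (nat_lit 0x140028000014a)
 (.cons 1 (nat_lit 0x8520084010a001084)
 (.cons 1 (nat_lit 0x10240148128404094a)
 (.cons 1 (nat_lit 0x108528085004a101004)
 (.cons 5 (nat_lit 0x2018040160400204000)
 (.cons 10 (nat_lit 0x400110003c40032c)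
 (.cons 20 (nat_lit 0x81800000060c10)
 (.cons 40 (nat_lit 0x48da10a580)
 .nil)))))))))))))
noncomputable def a2 : Net := (.cons 40 (nat_lit 0x827ad0000)
 (.cons 20 (nat_lit 0x854e80000080bc0)
 (.cons 10 (nat_lit 0x24c000480000800146)
 (.cons 5 (nat_lit 0x580200814068080700e)
 (.cons 1 (nat_lit 0x800042000000)
 (.cons 1 (nat_lit 0x1400294000000)
 (.cons 1 (nat_lit 0x9084014a00108421080)
 (.cons 1 (nat_lit 0x10908009420294212148)
 (.cons 1 (nat_lit 0x94a401080004a421081)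
 (.cons 5 (nat_lit 0x180200814040080600a)
 (.cons 10 (nat_lit 0x24c0004800008003c2)
 (.cons 20 (nat_lit 0x850a00000080bc0)
 (.cons 40 (nat_lit 0x827ad0000)
 .nil)))))))))))))
noncomputable def a3 : Net := (.cons 40 (nat_lit 0x459d0ac410)
 (.cons 20 (nat_lit 0xec891000001411a)
 (.cons 10 (nat_lit 0x380001000021400200)
 (.cons 5 (nat_lit 0x8000000804010)
 (.cons 1 (nat_lit 0x4a0)
 (.cons 1 (nat_lit 0x5000002940)
 (.cons 1 (nat_lit 0x2800021400200a0010a0)
 (.cons 1 (nat_lit 0x10808108405084002940)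
 (.cons 1 (nat_lit 0x2802021400000a1004a4)
 (.cons 5 (nat_lit 0x8000000804010)
 (.cons 10 (nat_lit 0x100001000020400200)
 (.cons 20 (nat_lit 0xa8890000001411a)
 (.cons 40 (nat_lit 0x459d0ac410)
 .nil)))))))))))))
noncomputable def a4 : Net := (.cons 40 (nat_lit 0x26b5d80820)
 (.cons 20 (nat_lit 0x6e9700000080820)
 (.cons 10 (nat_lit 0xa0003ba00228001e0)
 (.cons 5 (nat_lit 0x280c030020001a05015)
 (.cons 1 (nat_lit 0x1000040800000000)
 (.cons 1 (nat_lit 0xa0284a5000000000)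
 (.cons 1 (nat_lit 0x84090852100000000)
 (.cons 1 (nat_lit 0x10a129025084050008)
 (.cons 1 (nat_lit 0x80a5080840900500000)
 (.cons 5 (nat_lit 0x80c010140000a05010)
 (.cons 10 (nat_lit 0xa0003a800228001e0)
 (.cons 20 (nat_lit 0x6e9700000080820)
 (.cons 40 (nat_lit 0x26b5d80820)
 .nil)))))))))))))
noncomputable def a5 : Net := (.cons 40 (nat_lit 0x827ad0000)
 (.cons 20 (nat_lit 0x854e80000080bc0)
 (.cons 10 (nat_lit 0x24c000480000800146)
 (.cons 5 (nat_lit 0x580200814068080700e)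
 (.cons 1 (nat_lit 0x800042000000)
 (.cons 1 (nat_lit 0x1400294000000)
 (.cons 1 (nat_lit 0x9084014a00108421080)
 (.cons 1 (nat_lit 0x10908009420294212148)
 (.cons 1 (nat_lit 0x94a401080004a421081)
 (.cons 5 (nat_lit 0x180200814040080600a)
 (.cons 10 (nat_lit 0x24c0004800008003c2)
 (.cons 20 (nat_lit 0x850a00000080bc0)
 (.cons 40 (nat_lit 0x827ad0000)
 .nil)))))))))))))
noncomputable def a6 : Net := (.cons 40 (nat_lit 0x31d4eac1d)
 (.cons 20 (nat_lit 0x4fac30000002b05)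
 (.cons 10 (nat_lit 0x15d00262000b2)
 (.cons 5 (nat_lit 0x74050201f0641302406)
 (.cons 1 (nat_lit 0x8000000010100000000)
 (.cons 1 (nat_lit 0x101020000a0280810848)
 (.cons 1 (nat_lit 0x200a4000852940521085)
 (.cons 1 (nat_lit 0x5014a5284a128424210a)
 (.cons 1 (nat_lit 0x28000004802942128480)
 (.cons 5 (nat_lit 0x500c008180400c02004)
 (.cons 10 (nat_lit 0x3dc002b000372)
 (.cons 20 (nat_lit 0x4cf9a000008e214)
 (.cons 40 (nat_lit 0x3984c8690)
 .nil)))))))))))))
noncomputable def a7 : Net := (.cons 40 (nat_lit 0x3d79c70e8c)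
 (.cons 20 (nat_lit 0x19ed20000005d0e)
 (.cons 10 (nat_lit 0x180002c90017f001d8)
 (.cons 5 (nat_lit 0x3012040190201206c0c)
 (.cons 1 (nat_lit 0x80000840000000)
 (.cons 1 (nat_lit 0xa528421294040800)
 (.cons 1 (nat_lit 0x9425210852148121080)
 (.cons 1 (nat_lit 0x128425290a5294a12842)
 (.cons 1 (nat_lit 0x94250908400481000a0)
 (.cons 5 (nat_lit 0x201604802008120400e)
 (.cons 10 (nat_lit 0x130000180017000110)
 (.cons 20 (nat_lit 0xcb4600000c780c)
 (.cons 40 (nat_lit 0x3dbbe52be0)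
 .nil)))))))))))))
noncomputable def a8 : Net := (.cons 40 (nat_lit 0x20075f9000)
 (.cons 20 (nat_lit 0x101700000040740)
 (.cons 10 (nat_lit 0x80000d40021800212)
 (.cons 5 (nat_lit 0x815008080480800814)
 (.cons 1 (nat_lit 0x200000008400)
 (.cons 1 (nat_lit 0x1420000052940)
 (.cons 1 (nat_lit 0x852008521080)
 (.cons 1 (nat_lit 0x40021421004a52948)
 (.cons 1 (nat_lit 0x404200a02048508480)
 (.cons 5 (nat_lit 0x804000080080800014)
 (.cons 10 (nat_lit 0x80000d40021800212)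
 (.cons 20 (nat_lit 0x101700000040740)
 (.cons 40 (nat_lit 0x20075f9000)
 .nil)))))))))))))
noncomputable def a9 : Net := (.cons 40 (nat_lit 0xb001fdc000)
 (.cons 20 (nat_lit 0x17c030000046288)
 (.cons 10 (nat_lit 0x22f003030001f00028)
 (.cons 5 (nat_lit 0x4000000000000000018)
 (.cons 1 (nat_lit 0x8000000000000000020)
 (.cons 1 (nat_lit 0x50000000000000000140)
 (.cons 1 (nat_lit 0x280000000000000000a0)
 (.cons 1 (nat_lit 0x50000000000200800148)
 (.cons 1 (nat_lit 0x8000080000008029020)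
 (.cons 5 (nat_lit 0x4000000000000000018)
 (.cons 10 (nat_lit 0x20000000000000028)
 (.cons 20 (nat_lit 0x170000000046288)
 (.cons 40 (nat_lit 0xb001fdc000)
 .nil)))))))))))))
noncomputable def a10 : Net := (.cons 40 (nat_lit 0xe000000000)
 (.cons 20 (nat_lit 0xec0000000080000)
 (.cons 10 (nat_lit 0x16a003e00028000200)
 (.cons 5 (nat_lit 0x44090341c0500205416)
 (.cons 1 (nat_lit 0x42000000)
 (.cons 1 (nat_lit 0x294000000)
 (.cons 1 (nat_lit 0x29004000012108000000)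
 (.cons 1 (nat_lit 0x10802100024294812100)
 (.cons 1 (nat_lit 0x21404010012142000020)
 (.cons 5 (nat_lit 0x2808030040500005012)
 (.cons 10 (nat_lit 0x68003e00028000200)
 (.cons 20 (nat_lit 0xec0000000080000)
 (.cons 40 (nat_lit 0xe000000000)
 .nil)))))))))))))
noncomputable def a11 : Net := (.cons 40 (nat_lit 0xcfbf7f1db0)
 (.cons 20 (nat_lit 0xdfe0200000a9ee6)
 (.cons 10 (nat_lit 0x1100018a0026e00348)
 (.cons 5 (nat_lit 0x10060001905c1602806)
 (.cons 1 (nat_lit 0x50000100000)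
 (.cons 1 (nat_lit 0x4090a0210a10000)
 (.cons 1 (nat_lit 0x1405290a50148421000)
 (.cons 1 (nat_lit 0x4084a5204a1284a40842)
 (.cons 1 (nat_lit 0x29425280a10142021024)
 (.cons 5 (nat_lit 0x7012020000580002002)
 (.cons 10 (nat_lit 0x334002a00004a00308)
 (.cons 20 (nat_lit 0x17d220000099662)
 (.cons 40 (nat_lit 0xcfbfeeabb0)
 .nil)))))))))))))
noncomputable def a12 : Net := (.cons 40 (nat_lit 0xc04810080)
 (.cons 20 (nat_lit 0xe9c480000000088)
 (.cons 10 (nat_lit 0x293000200022300060)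
 (.cons 5 (nat_lit 0x4000000140201001012)
 (.cons 1 (nat_lit 0x202000000000)
 (.cons 1 (nat_lit 0x1405000000000)
 (.cons 1 (nat_lit 0x1000014a528004080a4)
 (.cons 1 (nat_lit 0x214800942500481004a)
 (.cons 1 (nat_lit 0x210000142520004080a4)
 (.cons 5 (nat_lit 0x4000000140201001012)
 (.cons 10 (nat_lit 0x290000200022000060)
 (.cons 20 (nat_lit 0xe9c480000000088)
 (.cons 40 (nat_lit 0xc04810080)
 .nil)))))))))))))
noncomputable def a13 : Net := (.cons 40 (nat_lit 0xe000000000)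
 (.cons 20 (nat_lit 0xec0000000080000)
 (.cons 10 (nat_lit 0x16a003e00028000200)
 (.cons 5 (nat_lit 0x44090341c0500205416)
 (.cons 1 (nat_lit 0x42000000)
 (.cons 1 (nat_lit 0x294000000)
 (.cons 1 (nat_lit 0x29004000012108000000)
 (.cons 1 (nat_lit 0x10802100024294812100)
 (.cons 1 (nat_lit 0x21404010012142000020)
 (.cons 5 (nat_lit 0x2808030040500005012)
 (.cons 10 (nat_lit 0x68003e00028000200)
 (.cons 20 (nat_lit 0xec0000000080000)
 (.cons 40 (nat_lit 0xe000000000)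
 .nil)))))))))))))
noncomputable def ns0 : List Net := [a0, a1, a2, a3, a4]
noncomputable def ws : List (List ℕ) :=
  [W (nat_lit 0x7008090240101c05),
  W (nat_lit 0x200100c0a),
  W (nat_lit 0x300d0300d0340d02c0e0380e),
  W (nat_lit 0xc0380c0340b0380c0340c),
  W (nat_lit 0xd02c0b02c0e),
  W (nat_lit 0x1304414),
  W (nat_lit 0x4c11040130441004410),
  W (nat_lit 0x58180541805818),
  W (nat_lit 0x1505415)]
noncomputable def ns : List Net := [a0, a1, a2, a3, a4, a5, a6, a7, a8, a9, a10, a11, a12, a13]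
noncomputable def D : List (ℕ × List ℕ) := app [] (mkDefs ws 5)
noncomputable def chk : List (List ℕ × List ℕ) → Bool := P.relsB ns
noncomputable def V : List ℕ :=
  [(nat_lit 0x5228aa114890aa48920029145508a4485524490084c300e61327009324),
  (nat_lit 0x830d30826c24c36d240018c0cc58111a3092db006432032582c10c0000),
  (nat_lit 0xe0703f1c0e070381c0001c0e00e381c0fc7038000381c0007038000e07),
  (nat_lit 0xff80001ff00003fe0000007fc0000ff80001ff0000003fe00007fc0000),
  (nat_lit 0xffffffe00000000000000000001ffffffc00000000000000000003ffff)]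
noncomputable def ms : List (List (List ℕ) × List (List ℕ)) :=
  [([[2, 1, 1, 2, 1], [1, 2, 1, 2, 1], [2, 2, 0, 1, 2], [2, 2, 2, 2, 2], [2, 2, 2, 1, 0]],
   [[2, 1, 1, 2, 1], [1, 2, 1, 2, 1], [2, 2, 0, 1, 2], [2, 2, 2, 2, 2], [2, 2, 2, 1, 0]]),
  ([[2, 1, 2, 1, 1], [2, 0, 1, 2, 2], [2, 2, 2, 2, 2], [2, 2, 1, 0, 2], [1, 1, 2, 1, 2]],
   [[2, 1, 2, 1, 1], [2, 0, 1, 2, 2], [2, 2, 2, 2, 2], [2, 2, 1, 0, 2], [1, 1, 2, 1, 2]]),
  ([[2, 0, 2, 1, 0], [2, 1, 1, 2, 0], [0, 0, 1, 0, 0], [0, 0, 0, 1, 0], [1, 0, 2, 1, 1]],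
   [[2, 0, 2, 1, 0], [2, 1, 1, 2, 0], [0, 0, 1, 0, 0], [0, 0, 0, 1, 0], [1, 0, 2, 1, 1]]),
  ([[0, 1, 2, 0, 2], [0, 1, 0, 0, 0], [1, 2, 2, 0, 1], [2, 1, 2, 1, 2], [1, 2, 1, 0, 2]],
   [[0, 1, 2, 0, 2], [0, 1, 0, 0, 0], [1, 2, 2, 0, 1], [2, 1, 2, 1, 2], [1, 2, 1, 0, 2]]),
  ([[2, 1, 0, 0, 2], [0, 1, 0, 0, 0], [1, 1, 1, 0, 2], [2, 2, 0, 1, 1], [0, 0, 0, 0, 1]],
   [[2, 1, 0, 0, 2], [0, 1, 0, 0, 0], [1, 1, 1, 0, 2], [2, 2, 0, 1, 1], [0, 0, 0, 0, 1]])]
noncomputable def G_v0 : Lev :=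
  ⟨0, 72, sg (W (nat_lit 0x340d0340b0340d02c0d0340b0340d02c0d02c0d02c0d0340b)), [[14], [16], [18]], 2, 3⟩
noncomputable def G_v1 : Lev :=
  ⟨3, 20, sg (W (nat_lit 0x440f03c0f0440f04c0f)), [[20], [22]], 5, 2⟩
noncomputable def G_v2 : Lev :=
  ⟨18, 9, sg (W (nat_lit 0x5c170541705417)), [[24], [26]], 7, 2⟩
noncomputable def G_v3 : Lev :=
  ⟨1, 4, sg (W (nat_lit 0x1b0641b)), [[24]], 9, 0⟩
noncomputable def G_v4 : Lev :=
  ⟨2, 2, sg [24], [], 9, 0⟩
noncomputable def G_vs5 : List Lev :=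
  []
noncomputable def G_vs4 : List Lev :=
  G_v4 :: G_vs5
noncomputable def G_vs3 : List Lev :=
  G_v3 :: G_vs4
noncomputable def G_vs2 : List Lev :=
  G_v2 :: G_vs3
noncomputable def G_vs1 : List Lev :=
  G_v1 :: G_vs2
noncomputable def G_vs : List Lev :=
  G_v0 :: G_vs1

theorem zv0 : vecB (tabP 3).q 2 5 P V = true := by decide +kernel
theorem zv1 : Nat.beq (lenL ms) (lenL ns0) = true := by decide +kernel
theorem zv2 : allL ((tabP 3).actB 2 5 P V) (zp Net.nil ms ns0) = true := by decide +kernel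
theorem zv3 : (tabP 3).basB 5 P V [0, 1, 2, 3, 18] [[2, 1, 2, 1, 2], [1, 1, 0, 1, 2], [0, 1, 0, 2, 0], [0, 0, 1, 0, 2], [0, 0, 0, 0, 1]] = true := by decide +kernel
theorem zv4 : allL ((tabP 3).quadB 5 (aOdd 2)) ms = true := by decide +kernel
theorem zc5 : P.chainB ns D G_vs [[10], [12]] = true := by decide +kernel
theorem zk6 : allL (keepB P.n P.N) ns0 = true := by decide +kernel
theorem ze7 : extB ns0 ns 5 ws [] = true := by decide +kernel
theorem zn8 : P.netsB ns (mkDefs ws 5) = true := by decide +kernel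

section
variable {G X : Type*} [Group G] [MulAction G X] {e : ℕ → X} {gs : List G}

theorem keep0 : allL (keepB P.n P.N) ns0 = true := zk6

theorem len {k} (c : Ctx P e gs ns0 [] k) : gs.length = 5 := c.len ze7

theorem ctx0 {k} (c : Ctx P e gs ns0 [] k) : Ctx P e (ext gs ws) ns D chk0 :=
  c.ext rfl ze7 zn8

theorem ctx {k} (c : Ctx P e gs ns0 [] k) {H : Subgroup G} (hF : Faithful e P.n H) (hH : ∀ g ∈ gs, g ∈ H) :
    Ctx P e (ext gs ws) ns D chk :=
  (ctx0 c).withB hF (mem_of_mem_ext hH _)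

theorem hV : vecB (tabP 3).q 2 5 P V = true := zv0
theorem hact : allL ((tabP 3).actB 2 5 P V) (zp Net.nil ms ns0) = true := zv2
theorem hinv : allL ((tabP 3).invB 5) ms = true := actB_invB hact
theorem base {F : Type*} [Field F] {el : ℕ → F} (h : FC (tabP 3) el) : Ctx P (vecOf el (sOdd 2) (tabP 3).q P.N V) (List.map (glF el (sOdd 2)) ms) ns0 [] chk0 :=
  ctx_mat h (ix_odd 2) hP hV zv1 hact
theorem faith {F : Type*} [Field F] {el : ℕ → F} (h : FC (tabP 3) el) : Faithful (vecOf el (sOdd 2) (tabP 3).q P.N V) P.n (⊤ : Subgroup (GL (Unit ⊕ (Fin 2 ⊕ Fin 2)) F)) :=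
  faithful_vecOf h (ix_odd 2) hP hV zv3
theorem c1 {F : Type*} [Field F] {el : ℕ → F} (h : FC (tabP 3) el) : Ctx P (vecOf el (sOdd 2) (tabP 3).q P.N V) (ext (List.map (glF el (sOdd 2)) ms) ws) ns D chk :=
  ctx (base h) (faith h) fun _ _ => trivial

theorem hq : allL ((tabP 3).quadB 5 (aOdd 2)) ms = true := zv4

theorem G_c : P.chainB ns D G_vs [[10], [12]] = true :=
  zc5

theorem G_o : prodL G_vs 1 = 103680 := by decide +kernel

theorem G_lb (c : Ctx P e gs ns D chk) :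
    LB (subW gs [[10], [12]]) 103680 :=
  c.lb G_c G_o

end
end CL.Std.O53.M

namespace CL.Std.O53
open CL.PG

def P : Par := ⟨72, 80, 7, 3⟩
theorem hP : P.Ok := by decide
noncomputable def a0 : Net := (.cons 40 (nat_lit 0x827ad0000)
 (.cons 20 (nat_lit 0x854e80000080bc0)
 (.cons 10 (nat_lit 0x24c000480000800146)
 (.cons 5 (nat_lit 0x580200814068080700e)
 (.cons 1 (nat_lit 0x800042000000)
 (.cons 1 (nat_lit 0x1400294000000)
 (.cons 1 (nat_lit 0x9084014a00108421080)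
 (.cons 1 (nat_lit 0x10908009420294212148)
 (.cons 1 (nat_lit 0x94a401080004a421081)
 (.cons 5 (nat_lit 0x180200814040080600a)
 (.cons 10 (nat_lit 0x24c0004800008003c2)
 (.cons 20 (nat_lit 0x850a00000080bc0)
 (.cons 40 (nat_lit 0x827ad0000)
 .nil)))))))))))))
noncomputable def a1 : Net := (.cons 40 (nat_lit 0x31d4eac1d)
 (.cons 20 (nat_lit 0x4fac30000002b05)
 (.cons 10 (nat_lit 0x15d00262000b2)
 (.cons 5 (nat_lit 0x74050201f0641302406)
 (.cons 1 (nat_lit 0x8000000010100000000)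
 (.cons 1 (nat_lit 0x101020000a0280810848)
 (.cons 1 (nat_lit 0x200a4000852940521085)
 (.cons 1 (nat_lit 0x5014a5284a128424210a)
 (.cons 1 (nat_lit 0x28000004802942128480)
 (.cons 5 (nat_lit 0x500c008180400c02004)
 (.cons 10 (nat_lit 0x3dc002b000372)
 (.cons 20 (nat_lit 0x4cf9a000008e214)
 (.cons 40 (nat_lit 0x3984c8690)
 .nil)))))))))))))
noncomputable def a2 : Net := (.cons 40 (nat_lit 0x20075f9000)
 (.cons 20 (nat_lit 0x101700000040740)
 (.cons 10 (nat_lit 0x80000d40021800212)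
 (.cons 5 (nat_lit 0x815008080480800814)
 (.cons 1 (nat_lit 0x200000008400)
 (.cons 1 (nat_lit 0x1420000052940)
 (.cons 1 (nat_lit 0x852008521080)
 (.cons 1 (nat_lit 0x40021421004a52948)
 (.cons 1 (nat_lit 0x404200a02048508480)
 (.cons 5 (nat_lit 0x804000080080800014)
 (.cons 10 (nat_lit 0x80000d40021800212)
 (.cons 20 (nat_lit 0x101700000040740)
 (.cons 40 (nat_lit 0x20075f9000)
 .nil)))))))))))))
noncomputable def a3 : Net := (.cons 40 (nat_lit 0x3d79c70e8c)
 (.cons 20 (nat_lit 0x19ed20000005d0e)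
 (.cons 10 (nat_lit 0x180002c90017f001d8)
 (.cons 5 (nat_lit 0x3012040190201206c0c)
 (.cons 1 (nat_lit 0x80000840000000)
 (.cons 1 (nat_lit 0xa528421294040800)
 (.cons 1 (nat_lit 0x9425210852148121080)
 (.cons 1 (nat_lit 0x128425290a5294a12842)
 (.cons 1 (nat_lit 0x94250908400481000a0)
 (.cons 5 (nat_lit 0x201604802008120400e)
 (.cons 10 (nat_lit 0x130000180017000110)
 (.cons 20 (nat_lit 0xcb4600000c780c)
 (.cons 40 (nat_lit 0x3dbbe52be0)
 .nil)))))))))))))
noncomputable def a4 : Net := (.cons 40 (nat_lit 0x4483f206b2)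
 (.cons 20 (nat_lit 0xa585000004bcc2)
 (.cons 10 (nat_lit 0x590006a0018e00162)
 (.cons 5 (nat_lit 0x41500c100541c02c16)
 (.cons 1 (nat_lit 0x108000)
 (.cons 1 (nat_lit 0x2000020000090250008)
 (.cons 1 (nat_lit 0x2948429000010a420004)
 (.cons 1 (nat_lit 0x1090212900028485004a)
 (.cons 1 (nat_lit 0x2140520000204a128000)
 (.cons 5 (nat_lit 0x10068000400000000)
 (.cons 10 (nat_lit 0x1700006a00126003c6)
 (.cons 20 (nat_lit 0x4a00e00000c8fe2)
 (.cons 40 (nat_lit 0x44d5468534)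
 .nil)))))))))))))
noncomputable def a5 : Net := (.cons 40 (nat_lit 0x8000000000)
 (.cons 20 (nat_lit 0xa000000000c0000)
 (.cons 10 (nat_lit 0x2c0003000030000200)
 (.cons 5 (nat_lit 0x4000044100601204010)
 (.cons 1 (nat_lit 0x420)
 (.cons 1 (nat_lit 0x28000000a1000002940)
 (.cons 1 (nat_lit 0x1080290042808501080)
 (.cons 1 (nat_lit 0x1290a1280a1284a02942)
 (.cons 1 (nat_lit 0x802140428085094a0)
 (.cons 5 (nat_lit 0x4000068100601204010)
 (.cons 10 (nat_lit 0x2c0003000030000200)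
 (.cons 20 (nat_lit 0xa000000000c0000)
 (.cons 40 (nat_lit 0x8000000000)
 .nil)))))))))))))
noncomputable def a6 : Net := (.cons 40 (nat_lit 0x381080000)
 (.cons 20 (nat_lit 0xa19300000080000)
 (.cons 10 (nat_lit 0x8000104000e000124)
 (.cons 5 (nat_lit 0x5001024000400603016)
 (.cons 1 (nat_lit 0x10000000020)
 (.cons 1 (nat_lit 0xa0280000140)
 (.cons 1 (nat_lit 0x802002409020014a4)
 (.cons 1 (nat_lit 0x29401284a5284000948)
 (.cons 1 (nat_lit 0x80200250802529424)
 (.cons 5 (nat_lit 0x5000020000400603016)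
 (.cons 10 (nat_lit 0x8000104000e000124)
 (.cons 20 (nat_lit 0xa19300000080000)
 (.cons 40 (nat_lit 0x381080000)
 .nil)))))))))))))
noncomputable def a7 : Net := (.cons 40 (nat_lit 0x654580a334)
 (.cons 20 (nat_lit 0xa6b970000008c4e)
 (.cons 10 (nat_lit 0x10d00298002a00023e)
 (.cons 5 (nat_lit 0x701801c1705c070740a)
 (.cons 1 (nat_lit 0x1400004000002020020)
 (.cons 1 (nat_lit 0x2800408000204050140)
 (.cons 1 (nat_lit 0x1404210000148028080)
 (.cons 1 (nat_lit 0x2948521020090010142)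
 (.cons 1 (nat_lit 0x21024200010008028024)
 (.cons 5 (nat_lit 0x200400016058060700c)
 (.cons 10 (nat_lit 0x10003da0008000210)
 (.cons 20 (nat_lit 0xc378e0000088868)
 (.cons 40 (nat_lit 0x6501912790)
 .nil)))))))))))))
noncomputable def a8 : Net := (.cons 40 (nat_lit 0xc04810080)
 (.cons 20 (nat_lit 0xe9c480000000088)
 (.cons 10 (nat_lit 0x293000200022300060)
 (.cons 5 (nat_lit 0x4000000140201001012)
 (.cons 1 (nat_lit 0x202000000000)
 (.cons 1 (nat_lit 0x1405000000000)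
 (.cons 1 (nat_lit 0x1000014a528004080a4)
 (.cons 1 (nat_lit 0x214800942500481004a)
 (.cons 1 (nat_lit 0x210000142520004080a4)
 (.cons 5 (nat_lit 0x4000000140201001012)
 (.cons 10 (nat_lit 0x290000200022000060)
 (.cons 20 (nat_lit 0xe9c480000000088)
 (.cons 40 (nat_lit 0xc04810080)
 .nil)))))))))))))
noncomputable def ns0 : List Net := [a0, a1]
noncomputable def ws : List (List ℕ) :=
  [W (nat_lit 0x20100100c020100200c02),
  W (nat_lit 0x10040100100c0300c0200c02),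
  W (nat_lit 0x140801808018080200601c06),
  W (nat_lit 0x80180601807),
  W (nat_lit 0x902c0a),
  W (nat_lit 0xa0280c0240c),
  W (nat_lit 0x340f03c0e0400e)]
noncomputable def ns : List Net := [a0, a1, a2, a3, a4, a5, a6, a7, a8]
noncomputable def D : List (ℕ × List ℕ) := app [] (mkDefs ws 2)
noncomputable def chk : List (List ℕ × List ℕ) → Bool := P.relsB ns
noncomputable def G_v0 : Lev :=
  ⟨0, 72, sg (W (nat_lit 0xc0300c0100c030040300c0100c0300403004030040300c01)), [[4], [6]], 0, 2⟩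
noncomputable def G_v1 : Lev :=
  ⟨3, 20, sg (W (nat_lit 0x701c0501c070140701c05)), [[8], [10]], 2, 2⟩
noncomputable def G_v2 : Lev :=
  ⟨18, 9, sg (W (nat_lit 0x90240902c09)), [[12], [14]], 4, 2⟩
noncomputable def G_v3 : Lev :=
  ⟨1, 4, sg (W (nat_lit 0xd03c0d)), [[16]], 6, 1⟩
noncomputable def G_v4 : Lev :=
  ⟨2, 2, sg [16], [], 7, 0⟩
noncomputable def G_vs5 : List Lev :=
  []
noncomputable def G_vs4 : List Lev :=
  G_v4 :: G_vs5
noncomputable def G_vs3 : List Lev :=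
  G_v3 :: G_vs4
noncomputable def G_vs2 : List Lev :=
  G_v2 :: G_vs3
noncomputable def G_vs1 : List Lev :=
  G_v1 :: G_vs2
noncomputable def G_vs : List Lev :=
  G_v0 :: G_vs1
noncomputable def zE1 : Net :=
  .nil
noncomputable def zK2 : Lk :=
  ⟨zE1, 1, 3, 1⟩

theorem zc0 : P.chainB ns D G_vs [[0], [2]] = true := by decide +kernel
theorem zl3 : zK2.relB CL.Std.O53.M.P CL.Std.O53.P CL.Std.O53.M.ns [[10], [12]] [[0], [2]] = true := by decide +kernel
theorem zl4 : allL (zK2.pl CL.Std.O53.M.P CL.Std.O53.P CL.Std.O53.M.ns CL.Std.O53.ns 0) (zp [] [[10], [12]] [[0], [2]]) = true := by decide +kernel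
theorem zk5 : allL (keepB P.n P.N) ns0 = true := by decide +kernel
theorem ze6 : extB ns0 ns 2 ws [] = true := by decide +kernel
theorem zn7 : P.netsB ns (mkDefs ws 2) = true := by decide +kernel

section
variable {G X : Type*} [Group G] [MulAction G X] {e : ℕ → X} {gs : List G}

theorem keep0 : allL (keepB P.n P.N) ns0 = true := zk5

theorem len {k} (c : Ctx P e gs ns0 [] k) : gs.length = 2 := c.len ze6

theorem ctx0 {k} (c : Ctx P e gs ns0 [] k) : Ctx P e (ext gs ws) ns D chk0 :=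
  c.ext rfl ze6 zn7

theorem ctx {k} (c : Ctx P e gs ns0 [] k) {H : Subgroup G} (hF : Faithful e P.n H) (hH : ∀ g ∈ gs, g ∈ H) :
    Ctx P e (ext gs ws) ns D chk :=
  (ctx0 c).withB hF (mem_of_mem_ext hH _)

instance instNe : NeZero P.n := ⟨by decide⟩
noncomputable def gs0 : List (Equiv.Perm (Fin P.n)) := permsOf P.n P.N ns0
noncomputable def gs1 : List (Equiv.Perm (Fin P.n)) := ext gs0 ws
theorem c1 : Ctx P (eF P.n) gs1 ns D chk :=
  ctx (ctx_permsOf hP keep0) (faithful_eF _) fun _ _ => trivial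

theorem G_c : P.chainB ns D G_vs [[0], [2]] = true :=
  zc0

theorem G_o : prodL G_vs 1 = 103680 := by decide +kernel

theorem G_lb (c : Ctx P e gs ns D chk) :
    LB (subW gs [[0], [2]]) 103680 :=
  c.lb G_c G_o

theorem rel {Γ Y : Type*} [Group Γ] [MulAction Γ Y] {e' : ℕ → Y} {cs : List Γ} {D₁ D₂ : List (ℕ × List ℕ)}
    {k₁ k₂ : List (List ℕ × List ℕ) → Bool} (c : Ctx CL.Std.O53.M.P e gs CL.Std.O53.M.ns D₁ k₁) (c' : Ctx CL.Std.O53.P e' cs CL.Std.O53.ns D₂ k₂)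
    (hF : Faithful e' CL.Std.O53.P.n (subW cs [[0], [2]])) :
    RelLe gs [[10], [12]] cs [[0], [2]] :=
  c.relLe (K := zK2) c' hF zl3 (fun (t : ℕ) (ht : t < 1) => match t, ht with
    | 0, _ => zl4
    | t + 1, h => absurd h (by omega))

theorem iso {F : Type*} [Field F] [Fintype F] (hF : Fintype.card F = 3) :
    Nonempty ((subW gs1 [[0], [2]]) ≃* Cfsg.isometryGroup F (Cfsg.quadFormOdd 2 F)) := by
  obtain ⟨el, h⟩ := Tab.exists_fc (tabP 3) (by decide +kernel) F hF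
  have hc : Nat.card (Cfsg.isometryGroup F (Cfsg.quadFormOdd 2 F)) = 103680 := card_o_odd hF (h.two_ne (by decide +kernel)) 2 (by decide +kernel)
  have hK := subW_eq_range (l := [[10], [12]]) (Cfsg.isometryGroup F (Cfsg.quadFormOdd 2 F)).subtype Subtype.val_injective hc (by norm_num)
    ((subW_le_of_forall (mem_of_mem_ext (forall_mem_isom h (ix_odd 2) (by decide +kernel) (quadFormOdd_eq h 2) M.hinv M.hq) _) _).trans (Subgroup.range_subtype _).ge) (M.G_lb (M.c1 h))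
  exact (rel (M.c1 h) c1 ((faithful_eF _).mono le_top)).iso_of_range (Cfsg.isometryGroup F (Cfsg.quadFormOdd 2 F)).subtype Subtype.val_injective hc (by norm_num) hK (G_lb c1)
theorem card : Nat.card (subW gs1 [[0], [2]]) = 103680 := by
  obtain ⟨F, _, _, hF⟩ := exists_field 3 1 (by norm_num)
  replace hF : Fintype.card F = 3 := hF
  obtain ⟨el, h⟩ := Tab.exists_fc (tabP 3) (by decide +kernel) F hF
  exact (Nat.card_congr (iso hF).some.toEquiv).trans (card_o_odd hF (h.two_ne (by decide +kernel)) 2 (by decide +kernel))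
theorem ub : UB (subW gs1 [[0], [2]]) 103680 := UB.of_card card (by norm_num)

end
end CL.Std.O53

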