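/-
A standard permutation model of a group of exceptional Lie type: degree 28, order 1512.
Generated by tools/pg.
-/
import Cfsg.Agent.S1069
import Cfsg.Agent.Spor.PGChev
import Cfsg.Agent.Spor.PGCtx
import Cfsg.Prelude.Def_LieTwisted

set_option autoImplicit false
set_option maxRecDepth 200000
set_option Elab.async false
set_option linter.unusedVariables false

namespace CL.Std.R3.M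
open CL.PG

def P : Par := ⟨56, 64, 6, 3⟩
theorem hP : P.Ok := by decide
noncomputable def a0 : Net := (.cons 32 (nat_lit 0x4862015c)
 (.cons 16 (nat_lit 0xcaab0000f0d6)
 (.cons 8 (nat_lit 0x4a009700e000ea)
 (.cons 4 (nat_lit 0xb040302050409)
 (.cons 2 (nat_lit 0x233230111032000)
 (.cons 1 (nat_lit 0x41010110545004)
 (.cons 2 (nat_lit 0x2000000000002)
 (.cons 4 (nat_lit 0x800040602020a08)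
 (.cons 8 (nat_lit 0x4800e6000600f4)
 (.cons 16 (nat_lit 0xc2820000766a)
 (.cons 32 (nat_lit 0x48a91484)
 .nil)))))))))))
noncomputable def a1 : Net := (.cons 32 (nat_lit 0x40ab5c89)
 (.cons 16 (nat_lit 0x7d840000fc90)
 (.cons 8 (nat_lit 0x8c0082000a0066)
 (.cons 4 (nat_lit 0xd030c0403060006)
 (.cons 2 (nat_lit 0x1031023221211012)
 (.cons 1 (nat_lit 0x1045045411404151)
 (.cons 2 (nat_lit 0x2020000022000002)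
 (.cons 4 (nat_lit 0x60c02000c0a06)
 (.cons 8 (nat_lit 0xd4008000e000f6)
 (.cons 16 (nat_lit 0x3d000000e090)
 (.cons 32 (nat_lit 0x40895c98)
 .nil)))))))))))
noncomputable def a2 : Net := (.cons 32 (nat_lit 0xe0000000)
 (.cons 16 (nat_lit 0xff0000e7fc)
 (.cons 8 (nat_lit 0x7f000300fc)
 (.cons 4 (nat_lit 0xc0003030300)
 (.cons 2 (nat_lit 0x2011331222011300)
 (.cons 1 (nat_lit 0x4054044115044000)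
 (.cons 2 (nat_lit 0x2022200000000)
 (.cons 4 (nat_lit 0x80008000c0000)
 (.cons 8 (nat_lit 0xe0008000f000fc)
 (.cons 16 (nat_lit 0x80000000fb00)
 (.cons 32 (nat_lit 0xe0000000)
 .nil)))))))))))
noncomputable def ns0 : List Net := [a0, a1, a2]
noncomputable def ws : List (List ℕ) :=
  []
noncomputable def ns : List Net := [a0, a1, a2]
noncomputable def D : List (ℕ × List ℕ) := app [] (mkDefs ws 3)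
noncomputable def chk : List (List ℕ × List ℕ) → Bool := P.relsB ns
noncomputable def zV0 : ℕ :=
  (nat_lit 0xe904428ba40a100010f9045019e408000602b9244211e7)
noncomputable def zV1 : ℕ :=
  (nat_lit 0x85189246285248002a232488c2a4900050c44931150927)
noncomputable def zV2 : ℕ :=
  (nat_lit 0xd5e77608c8513a002a1889d737aec10000000020000004)
noncomputable def zV3 : ℕ :=
  (nat_lit 0x8bc4108a750050005029e05108b8880024120f24824727)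
noncomputable def zV4 : ℕ :=
  (nat_lit 0x1d0f08010107d800404037dc2e202000a2b0c022d0d807)
noncomputable def zV5 : ℕ :=
  (nat_lit 0x336a0410eb840000cc15820f04720000008079e01009ff)
noncomputable def zV6 : ℕ :=
  (nat_lit 0x402360361b13800c36189c40206c000389c40389c4807)
noncomputable def zV7 : ℕ :=
  (nat_lit 0x88a847054310e0004642b80a188f0000311500f0a4601f)
noncomputable def zV8 : ℕ :=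
  (nat_lit 0x381c71c0e00e0001c0e3800703f0000e07000e381c01f)
noncomputable def zV9 : ℕ :=
  (nat_lit 0x2612bf1224a0000091250004c257e00048c840e919081f)
noncomputable def zV10 : ℕ :=
  (nat_lit 0x9249249249249000492492492492480024924924924927)
noncomputable def zV11 : ℕ :=
  (nat_lit 0xe070381c0e0700001c0e070381c0e0000381c0e070381f)
noncomputable def zV12 : ℕ :=
  (nat_lit 0xff80001ff0000000007fc0000ff8000000003fe00007ff)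
noncomputable def zV13 : ℕ :=
  (nat_lit 0xffffffe0000000000000001ffffffc0000000000000003)
noncomputable def V : List ℕ :=
  [zV0, zV1, zV2, zV3, zV4, zV5, zV6, zV7, zV8, zV9, zV10, zV11, zV12, zV13]
noncomputable def XL : List (ℕ × ℕ × List (List ℕ)) :=
  [(7, 1, [[1, 0, 0, 0, 0, 0, 1, 0, 0, 0, 0, 0, 0, 0], [0, 1, 0, 0, 0, 0, 0, 0, 0, 0, 0, 0, 0, 0], [0, 0, 1, 0, 0, 0, 0, 0, 0, 0, 0, 0, 0, 0], [0, 0, 0, 1, 0, 0, 0, 0, 0, 0, 0, 0, 0, 0], [0, 0, 0, 2, 1, 0, 0, 0, 0, 0, 0, 0, 0, 0], [0, 0, 0, 2, 2, 1, 0, 0, 0, 0, 0, 0, 0, 0], [0, 0, 0, 0, 0, 0, 1, 0, 0, 0, 0, 0, 0, 0], [0, 0, 0, 2, 0, 0, 0, 1, 0, 0, 0, 0, 0, 0], [0, 0, 0, 0, 0, 0, 0, 0, 1, 0, 0, 0, 0, 0], [1, 1, 0, 0, 0, 0, 2, 0, 0, 1, 0, 0, 0, 0], [0, 0, 0, 0, 0, 0, 0, 0, 2, 0, 1, 0, 0, 0], [0, 0, 0, 0, 0, 0,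 0, 0, 1, 0, 1, 1, 0, 0], [0, 0, 0, 0, 0, 0, 0, 0, 1, 0, 0, 0, 1, 0], [0, 0, 0, 0, 0, 0, 0, 0, 0, 0, 0, 0, 0, 1]]),
  (6, 1, [[1, 0, 0, 0, 0, 0, 0, 0, 0, 0, 0, 0, 0, 0], [0, 1, 0, 0, 0, 0, 0, 1, 0, 0, 0, 0, 0, 0], [0, 0, 1, 0, 0, 0, 0, 0, 0, 0, 0, 0, 0, 0], [0, 0, 2, 1, 0, 0, 0, 0, 0, 0, 0, 0, 0, 0], [0, 0, 0, 0, 1, 0, 0, 0, 0, 0, 0, 0, 0, 0], [0, 0, 0, 0, 0, 1, 0, 0, 0, 0, 0, 0, 0, 0], [0, 0, 0, 0, 0, 2, 1, 0, 0, 0, 0, 0, 0, 0], [0, 0, 0, 0, 0, 0, 0, 1, 0, 0, 0, 0, 0, 0], [0, 1, 0, 0, 0, 0, 0, 2, 1, 0, 0, 0, 0, 0], [0, 0, 0, 0, 0, 0, 0, 0, 0, 1, 0, 0, 0, 0], [0, 0, 0, 0, 0, 0, 0, 0, 0, 1, 1, 0, 0, 0], [0, 0, 0, 0, 0, 0, 0, 0, 0, 0, 0, 1, 0, 0], [0, 0, 0, 0, 0, 0, 0, 0, 0, 0, 0, 0, 1, 0], [0, 0, 0, 0, 0, 0, 0, 0, 0, 0, 0, 0, 1, 1]]),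
  (8, 1, [[1, 0, 0, 0, 0, 1, 0, 0, 0, 0, 0, 0, 0, 0], [0, 1, 0, 0, 0, 0, 0, 0, 0, 0, 0, 0, 0, 0], [0, 0, 1, 0, 0, 0, 0, 0, 0, 0, 0, 0, 0, 0], [0, 0, 0, 1, 0, 0, 0, 0, 0, 0, 0, 0, 0, 0], [0, 0, 2, 0, 1, 0, 0, 0, 0, 0, 0, 0, 0, 0], [0, 0, 0, 0, 0, 1, 0, 0, 0, 0, 0, 0, 0, 0], [0, 0, 1, 0, 1, 0, 1, 0, 0, 0, 0, 0, 0, 0], [0, 0, 0, 0, 0, 0, 0, 1, 0, 0, 0, 0, 0, 0], [0, 0, 1, 0, 0, 0, 0, 0, 1, 0, 0, 0, 0, 0], [0, 0, 0, 0, 0, 0, 0, 2, 0, 1, 0, 0, 0, 0], [1, 2, 0, 0, 0, 2, 0, 0, 0, 0, 1, 0, 0, 0], [0, 0, 0, 0, 0, 0, 0, 2, 0, 2, 0, 1, 0, 0], [0, 0, 0, 0, 0, 0, 0, 0, 0, 0, 0, 0, 1, 0], [0, 0, 0, 0, 0, 0, 0, 2, 0, 0, 0, 0, 0, 1]]),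
  (9, 1, [[1, 0, 0, 0, 2, 0, 0, 0, 0, 0, 0, 0, 0, 0], [0, 1, 0, 0, 0, 0, 0, 0, 0, 0, 0, 0, 0, 0], [0, 0, 1, 0, 0, 0, 0, 0, 0, 0, 0, 0, 0, 0], [0, 0, 0, 1, 0, 0, 0, 0, 0, 0, 0, 0, 0, 0], [0, 0, 0, 0, 1, 0, 0, 0, 0, 0, 0, 0, 0, 0], [0, 0, 1, 0, 0, 1, 0, 0, 0, 0, 0, 0, 0, 0], [0, 0, 0, 1, 0, 0, 1, 0, 0, 0, 0, 0, 0, 0], [0, 0, 0, 0, 0, 0, 0, 1, 0, 0, 0, 0, 0, 0], [0, 0, 0, 0, 0, 0, 0, 0, 1, 0, 0, 0, 0, 0], [0, 0, 2, 0, 0, 1, 0, 0, 0, 1, 0, 0, 0, 0], [0, 0, 0, 1, 0, 0, 2, 0, 0, 0, 1, 0, 0, 0], [2, 0, 0, 0, 2, 0, 0, 0, 0, 0, 0, 1, 0, 0], [0, 0, 1, 0, 0, 0, 0, 0, 0, 0, 0, 0, 1, 0], [0, 0, 0, 2, 0, 0, 0, 0, 0, 0, 0, 0, 0, 1]]),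
  (10, 0, [[1, 0, 0, 0, 0, 0, 0, 0, 0, 0, 0, 0, 0, 0], [0, 1, 0, 0, 0, 0, 0, 0, 0, 0, 0, 0, 0, 0], [0, 0, 1, 0, 0, 0, 0, 0, 0, 0, 0, 0, 0, 0], [0, 0, 0, 1, 0, 0, 0, 0, 0, 0, 0, 0, 0, 0], [0, 0, 0, 0, 1, 0, 0, 0, 0, 0, 0, 0, 0, 0], [0, 0, 0, 0, 0, 1, 0, 0, 0, 0, 0, 0, 0, 0], [0, 0, 0, 0, 0, 0, 1, 0, 0, 0, 0, 0, 0, 0], [0, 0, 0, 0, 0, 0, 0, 1, 0, 0, 0, 0, 0, 0], [0, 0, 0, 0, 0, 0, 0, 0, 1, 0, 0, 0, 0, 0], [0, 0, 0, 0, 0, 0, 0, 0, 0, 1, 0, 0, 0, 0], [0, 0, 0, 0, 0, 0, 0, 0, 0, 0, 1, 0, 0, 0], [0, 0, 0, 0, 0, 0, 0, 0, 0, 0, 0, 1, 0, 0], [0, 0, 0, 0, 0, 0, 0, 0, 0, 0, 0, 0, 1, 0], [0, 0, 0, 0, 0, 0, 0, 0, 0, 0, 0, 0, 0, 1]]),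
  (11, 0, [[1, 0, 0, 0, 0, 0, 0, 0, 0, 0, 0, 0, 0, 0], [0, 1, 0, 0, 0, 0, 0, 0, 0, 0, 0, 0, 0, 0], [0, 0, 1, 0, 0, 0, 0, 0, 0, 0, 0, 0, 0, 0], [0, 0, 0, 1, 0, 0, 0, 0, 0, 0, 0, 0, 0, 0], [0, 0, 0, 0, 1, 0, 0, 0, 0, 0, 0, 0, 0, 0], [0, 0, 0, 0, 0, 1, 0, 0, 0, 0, 0, 0, 0, 0], [0, 0, 0, 0, 0, 0, 1, 0, 0, 0, 0, 0, 0, 0], [0, 0, 0, 0, 0, 0, 0, 1, 0, 0, 0, 0, 0, 0], [0, 0, 0, 0, 0, 0, 0, 0, 1, 0, 0, 0, 0, 0], [0, 0, 0, 0, 0, 0, 0, 0, 0, 1, 0, 0, 0, 0], [0, 0, 0, 0, 0, 0, 0, 0, 0, 0, 1, 0, 0, 0], [0, 0, 0, 0, 0, 0, 0, 0, 0, 0, 0, 1, 0, 0], [0, 0, 0, 0, 0, 0, 0, 0, 0, 0, 0, 0, 1, 0], [0, 0, 0, 0, 0, 0, 0, 0, 0, 0, 0, 0, 0, 1]]),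
  (7, 0, [[1, 0, 0, 0, 0, 0, 0, 0, 0, 0, 0, 0, 0, 0], [0, 1, 0, 0, 0, 0, 0, 0, 0, 0, 0, 0, 0, 0], [0, 0, 1, 0, 0, 0, 0, 0, 0, 0, 0, 0, 0, 0], [0, 0, 0, 1, 0, 0, 0, 0, 0, 0, 0, 0, 0, 0], [0, 0, 0, 0, 1, 0, 0, 0, 0, 0, 0, 0, 0, 0], [0, 0, 0, 0, 0, 1, 0, 0, 0, 0, 0, 0, 0, 0], [0, 0, 0, 0, 0, 0, 1, 0, 0, 0, 0, 0, 0, 0], [0, 0, 0, 0, 0, 0, 0, 1, 0, 0, 0, 0, 0, 0], [0, 0, 0, 0, 0, 0, 0, 0, 1, 0, 0, 0, 0, 0], [0, 0, 0, 0, 0, 0, 0, 0, 0, 1, 0, 0, 0, 0], [0, 0, 0, 0, 0, 0, 0, 0, 0, 0, 1, 0, 0, 0], [0, 0, 0, 0, 0, 0, 0, 0, 0, 0, 0, 1, 0, 0], [0, 0, 0, 0, 0, 0, 0, 0, 0, 0, 0, 0, 1, 0], [0, 0, 0, 0, 0, 0, 0, 0, 0, 0, 0, 0, 0, 1]]),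
  (6, 0, [[1, 0, 0, 0, 0, 0, 0, 0, 0, 0, 0, 0, 0, 0], [0, 1, 0, 0, 0, 0, 0, 0, 0, 0, 0, 0, 0, 0], [0, 0, 1, 0, 0, 0, 0, 0, 0, 0, 0, 0, 0, 0], [0, 0, 0, 1, 0, 0, 0, 0, 0, 0, 0, 0, 0, 0], [0, 0, 0, 0, 1, 0, 0, 0, 0, 0, 0, 0, 0, 0], [0, 0, 0, 0, 0, 1, 0, 0, 0, 0, 0, 0, 0, 0], [0, 0, 0, 0, 0, 0, 1, 0, 0, 0, 0, 0, 0, 0], [0, 0, 0, 0, 0, 0, 0, 1, 0, 0, 0, 0, 0, 0], [0, 0, 0, 0, 0, 0, 0, 0, 1, 0, 0, 0, 0, 0], [0, 0, 0, 0, 0, 0, 0, 0, 0, 1, 0, 0, 0, 0], [0, 0, 0, 0, 0, 0, 0, 0, 0, 0, 1, 0, 0, 0], [0, 0, 0, 0, 0, 0, 0, 0, 0, 0, 0, 1, 0, 0], [0, 0, 0, 0, 0, 0, 0, 0, 0, 0, 0, 0, 1, 0], [0, 0, 0, 0, 0, 0, 0, 0, 0, 0, 0, 0, 0, 1]]),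
  (9, 0, [[1, 0, 0, 0, 0, 0, 0, 0, 0, 0, 0, 0, 0, 0], [0, 1, 0, 0, 0, 0, 0, 0, 0, 0, 0, 0, 0, 0], [0, 0, 1, 0, 0, 0, 0, 0, 0, 0, 0, 0, 0, 0], [0, 0, 0, 1, 0, 0, 0, 0, 0, 0, 0, 0, 0, 0], [0, 0, 0, 0, 1, 0, 0, 0, 0, 0, 0, 0, 0, 0], [0, 0, 0, 0, 0, 1, 0, 0, 0, 0, 0, 0, 0, 0], [0, 0, 0, 0, 0, 0, 1, 0, 0, 0, 0, 0, 0, 0], [0, 0, 0, 0, 0, 0, 0, 1, 0, 0, 0, 0, 0, 0], [0, 0, 0, 0, 0, 0, 0, 0, 1, 0, 0, 0, 0, 0], [0, 0, 0, 0, 0, 0, 0, 0, 0, 1, 0, 0, 0, 0], [0, 0, 0, 0, 0, 0, 0, 0, 0, 0, 1, 0, 0, 0], [0, 0, 0, 0, 0, 0, 0, 0, 0, 0, 0, 1, 0, 0], [0, 0, 0, 0, 0, 0, 0, 0, 0, 0, 0, 0, 1, 0], [0, 0, 0, 0, 0, 0, 0, 0, 0, 0, 0, 0, 0, 1]]),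
  (10, 1, [[1, 0, 0, 1, 0, 0, 0, 0, 0, 0, 0, 0, 0, 0], [0, 1, 0, 1, 0, 0, 0, 0, 0, 0, 0, 0, 0, 0], [0, 0, 1, 0, 0, 0, 0, 0, 0, 0, 0, 0, 0, 0], [0, 0, 0, 1, 0, 0, 0, 0, 0, 0, 0, 0, 0, 0], [0, 0, 0, 0, 1, 0, 0, 0, 0, 0, 0, 0, 0, 0], [0, 0, 0, 0, 0, 1, 0, 0, 0, 0, 0, 0, 0, 0], [0, 0, 0, 0, 0, 0, 1, 0, 0, 0, 0, 0, 0, 0], [0, 0, 1, 0, 0, 0, 0, 1, 0, 0, 0, 0, 0, 0], [0, 0, 0, 0, 0, 0, 0, 0, 1, 0, 0, 0, 0, 0], [0, 0, 0, 0, 1, 0, 0, 0, 0, 1, 0, 0, 0, 0], [0, 0, 0, 0, 0, 0, 0, 0, 0, 0, 1, 0, 0, 0], [0, 0, 0, 0, 0, 0, 2, 0, 0, 0, 0, 1, 0, 0], [0, 1, 0, 2, 0, 0, 0, 0, 0, 0, 0, 0, 1, 0], [0, 0, 0, 0, 0, 0, 0, 0, 2, 0, 0, 0, 0, 1]]),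
  (4, 2, [[1, 0, 0, 0, 0, 0, 0, 0, 0, 1, 0, 0, 0, 0], [0, 1, 0, 0, 0, 0, 0, 0, 0, 0, 0, 0, 0, 0], [0, 0, 1, 0, 0, 0, 0, 0, 0, 0, 0, 0, 0, 0], [0, 0, 0, 1, 0, 0, 0, 1, 0, 0, 0, 0, 0, 0], [0, 0, 0, 0, 1, 1, 0, 1, 0, 0, 0, 0, 0, 0], [0, 0, 0, 0, 0, 1, 0, 2, 0, 0, 0, 0, 0, 0], [1, 1, 0, 0, 0, 0, 1, 0, 0, 2, 0, 0, 0, 0], [0, 0, 0, 0, 0, 0, 0, 1, 0, 0, 0, 0, 0, 0], [0, 0, 0, 0, 0, 0, 0, 0, 1, 0, 0, 0, 2, 0], [0, 0, 0, 0, 0, 0, 0, 0, 0, 1, 0, 0, 0, 0], [0, 0, 0, 0, 0, 0, 0, 0, 0, 0, 1, 2, 2, 0], [0, 0, 0, 0, 0, 0, 0, 0, 0, 0, 0, 1, 2, 0], [0, 0, 0, 0, 0, 0, 0, 0, 0, 0, 0, 0, 1, 0], [0, 0, 0, 0, 0, 0, 0, 0, 0, 0, 0, 0, 0, 1]]),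
  (5, 2, [[1, 0, 0, 0, 0, 0, 0, 0, 0, 0, 0, 0, 0, 0], [0, 1, 0, 0, 0, 0, 0, 0, 1, 0, 0, 0, 0, 0], [0, 0, 1, 1, 0, 0, 0, 0, 0, 0, 0, 0, 0, 0], [0, 0, 0, 1, 0, 0, 0, 0, 0, 0, 0, 0, 0, 0], [0, 0, 0, 0, 1, 0, 0, 0, 0, 0, 0, 0, 0, 0], [0, 0, 0, 0, 0, 1, 1, 0, 0, 0, 0, 0, 0, 0], [0, 0, 0, 0, 0, 0, 1, 0, 0, 0, 0, 0, 0, 0], [0, 1, 0, 0, 0, 0, 0, 1, 2, 0, 0, 0, 0, 0], [0, 0, 0, 0, 0, 0, 0, 0, 1, 0, 0, 0, 0, 0], [0, 0, 0, 0, 0, 0, 0, 0, 0, 1, 2, 0, 0, 0], [0, 0, 0, 0, 0, 0, 0, 0, 0, 0, 1, 0, 0, 0], [0, 0, 0, 0, 0, 0, 0, 0, 0, 0, 0, 1, 0, 0], [0, 0, 0, 0, 0, 0, 0, 0, 0, 0, 0, 0, 1, 2], [0, 0, 0, 0, 0, 0, 0, 0, 0, 0, 0, 0, 0, 1]]),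
  (3, 2, [[1, 0, 0, 0, 0, 0, 0, 0, 0, 0, 1, 0, 0, 0], [0, 1, 0, 0, 0, 0, 0, 0, 0, 0, 0, 0, 0, 0], [0, 0, 1, 0, 0, 0, 0, 0, 2, 0, 0, 0, 0, 0], [0, 0, 0, 1, 0, 0, 0, 0, 0, 0, 0, 0, 0, 0], [0, 0, 0, 0, 1, 0, 2, 0, 2, 0, 0, 0, 0, 0], [1, 2, 0, 0, 0, 1, 0, 0, 0, 0, 2, 0, 0, 0], [0, 0, 0, 0, 0, 0, 1, 0, 2, 0, 0, 0, 0, 0], [0, 0, 0, 0, 0, 0, 0, 1, 0, 0, 0, 0, 0, 1], [0, 0, 0, 0, 0, 0, 0, 0, 1, 0, 0, 0, 0, 0], [0, 0, 0, 0, 0, 0, 0, 0, 0, 1, 0, 1, 0, 1], [0, 0, 0, 0, 0, 0, 0, 0, 0, 0, 1, 0, 0, 0], [0, 0, 0, 0, 0, 0, 0, 0, 0, 0, 0, 1, 0, 2], [0, 0, 0, 0, 0, 0, 0, 0, 0, 0, 0, 0, 1, 0], [0, 0, 0, 0, 0, 0, 0, 0, 0, 0, 0, 0, 0, 1]]),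
  (2, 2, [[1, 0, 0, 0, 0, 0, 0, 0, 0, 0, 0, 2, 0, 0], [0, 1, 0, 0, 0, 0, 0, 0, 0, 0, 0, 0, 0, 0], [0, 0, 1, 0, 0, 0, 0, 0, 0, 0, 0, 0, 2, 0], [0, 0, 0, 1, 0, 0, 0, 0, 0, 0, 0, 0, 0, 1], [2, 0, 0, 0, 1, 0, 0, 0, 0, 0, 0, 2, 0, 0], [0, 0, 0, 0, 0, 1, 0, 0, 0, 2, 0, 0, 1, 0], [0, 0, 0, 0, 0, 0, 1, 0, 0, 0, 1, 0, 0, 2], [0, 0, 0, 0, 0, 0, 0, 1, 0, 0, 0, 0, 0, 0], [0, 0, 0, 0, 0, 0, 0, 0, 1, 0, 0, 0, 0, 0], [0, 0, 0, 0, 0, 0, 0, 0, 0, 1, 0, 0, 1, 0], [0, 0, 0, 0, 0, 0, 0, 0, 0, 0, 1, 0, 0, 1], [0, 0, 0, 0, 0, 0, 0, 0, 0, 0, 0, 1, 0, 0], [0, 0, 0, 0, 0, 0, 0, 0, 0, 0, 0, 0, 1, 0], [0, 0, 0, 0, 0, 0, 0, 0, 0, 0, 0, 0, 0, 1]]),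
  (1, 0, [[1, 0, 0, 0, 0, 0, 0, 0, 0, 0, 0, 0, 0, 0], [0, 1, 0, 0, 0, 0, 0, 0, 0, 0, 0, 0, 0, 0], [0, 0, 1, 0, 0, 0, 0, 0, 0, 0, 0, 0, 0, 0], [0, 0, 0, 1, 0, 0, 0, 0, 0, 0, 0, 0, 0, 0], [0, 0, 0, 0, 1, 0, 0, 0, 0, 0, 0, 0, 0, 0], [0, 0, 0, 0, 0, 1, 0, 0, 0, 0, 0, 0, 0, 0], [0, 0, 0, 0, 0, 0, 1, 0, 0, 0, 0, 0, 0, 0], [0, 0, 0, 0, 0, 0, 0, 1, 0, 0, 0, 0, 0, 0], [0, 0, 0, 0, 0, 0, 0, 0, 1, 0, 0, 0, 0, 0], [0, 0, 0, 0, 0, 0, 0, 0, 0, 1, 0, 0, 0, 0], [0, 0, 0, 0, 0, 0, 0, 0, 0, 0, 1, 0, 0, 0], [0, 0, 0, 0, 0, 0, 0, 0, 0, 0, 0, 1, 0, 0], [0, 0, 0, 0, 0, 0, 0, 0, 0, 0, 0, 0, 1, 0], [0, 0, 0, 0, 0, 0, 0, 0, 0, 0, 0, 0, 0, 1]]),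
  (0, 0, [[1, 0, 0, 0, 0, 0, 0, 0, 0, 0, 0, 0, 0, 0], [0, 1, 0, 0, 0, 0, 0, 0, 0, 0, 0, 0, 0, 0], [0, 0, 1, 0, 0, 0, 0, 0, 0, 0, 0, 0, 0, 0], [0, 0, 0, 1, 0, 0, 0, 0, 0, 0, 0, 0, 0, 0], [0, 0, 0, 0, 1, 0, 0, 0, 0, 0, 0, 0, 0, 0], [0, 0, 0, 0, 0, 1, 0, 0, 0, 0, 0, 0, 0, 0], [0, 0, 0, 0, 0, 0, 1, 0, 0, 0, 0, 0, 0, 0], [0, 0, 0, 0, 0, 0, 0, 1, 0, 0, 0, 0, 0, 0], [0, 0, 0, 0, 0, 0, 0, 0, 1, 0, 0, 0, 0, 0], [0, 0, 0, 0, 0, 0, 0, 0, 0, 1, 0, 0, 0, 0], [0, 0, 0, 0, 0, 0, 0, 0, 0, 0, 1, 0, 0, 0], [0, 0, 0, 0, 0, 0, 0, 0, 0, 0, 0, 1, 0, 0], [0, 0, 0, 0, 0, 0, 0, 0, 0, 0, 0, 0, 1, 0], [0, 0, 0, 0, 0, 0, 0, 0, 0, 0, 0, 0, 0, 1]])]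
noncomputable def cw : List (List ℕ) :=
  [[0, 1, 2, 3, 4, 5], [6, 7, 2, 8, 9, 5], [10, 11, 12, 13, 14, 15]]

theorem zv14 : vecB (tabP 3).q 2 14 P V = true := by decide +kernel
theorem zv15 : allL (fun p => (tabP 3).actW 2 14 P V (mapL (fun c => (nth (0, 0, []) XL c).2.2) p.1, p.2)) (zp Net.nil cw ns0) = true := by decide +kernel
theorem zx16 : matF (fun a : ℕ => (a : ZMod 3)) (ixD Cfsg.Lie.chevG2) (look (XL.getD 0 (0, 0, [])).2.2) = Cfsg.Lie.chevG2.x (ZMod 3) 7 ((fun a : ℕ => (a : ZMod 3)) 1) := by decide +kernel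
theorem zx17 : matF (fun a : ℕ => (a : ZMod 3)) (ixD Cfsg.Lie.chevG2) (look (XL.getD 1 (0, 0, [])).2.2) = Cfsg.Lie.chevG2.x (ZMod 3) 6 ((fun a : ℕ => (a : ZMod 3)) 1) := by decide +kernel
theorem zx18 : matF (fun a : ℕ => (a : ZMod 3)) (ixD Cfsg.Lie.chevG2) (look (XL.getD 2 (0, 0, [])).2.2) = Cfsg.Lie.chevG2.x (ZMod 3) 8 ((fun a : ℕ => (a : ZMod 3)) 1) := by decide +kernel
theorem zx19 : matF (fun a : ℕ => (a : ZMod 3)) (ixD Cfsg.Lie.chevG2) (look (XL.getD 3 (0, 0, [])).2.2) = Cfsg.Lie.chevG2.x (ZMod 3) 9 ((fun a : ℕ => (a : ZMod 3)) 1) := by decide +kernel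
theorem zx20 : matF (fun a : ℕ => (a : ZMod 3)) (ixD Cfsg.Lie.chevG2) (look (XL.getD 4 (0, 0, [])).2.2) = Cfsg.Lie.chevG2.x (ZMod 3) 10 ((fun a : ℕ => (a : ZMod 3)) 0) := by decide +kernel
theorem zx21 : matF (fun a : ℕ => (a : ZMod 3)) (ixD Cfsg.Lie.chevG2) (look (XL.getD 5 (0, 0, [])).2.2) = Cfsg.Lie.chevG2.x (ZMod 3) 11 ((fun a : ℕ => (a : ZMod 3)) 0) := by decide +kernel
theorem zx22 : matF (fun a : ℕ => (a : ZMod 3)) (ixD Cfsg.Lie.chevG2) (look (XL.getD 6 (0, 0, [])).2.2) = Cfsg.Lie.chevG2.x (ZMod 3) 7 ((fun a : ℕ => (a : ZMod 3)) 0) := by decide +kernel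
theorem zx23 : matF (fun a : ℕ => (a : ZMod 3)) (ixD Cfsg.Lie.chevG2) (look (XL.getD 7 (0, 0, [])).2.2) = Cfsg.Lie.chevG2.x (ZMod 3) 6 ((fun a : ℕ => (a : ZMod 3)) 0) := by decide +kernel
theorem zx24 : matF (fun a : ℕ => (a : ZMod 3)) (ixD Cfsg.Lie.chevG2) (look (XL.getD 8 (0, 0, [])).2.2) = Cfsg.Lie.chevG2.x (ZMod 3) 9 ((fun a : ℕ => (a : ZMod 3)) 0) := by decide +kernel
theorem zx25 : matF (fun a : ℕ => (a : ZMod 3)) (ixD Cfsg.Lie.chevG2) (look (XL.getD 9 (0, 0, [])).2.2) = Cfsg.Lie.chevG2.x (ZMod 3) 10 ((fun a : ℕ => (a : ZMod 3)) 1) := by decide +kernel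
theorem zx26 : matF (fun a : ℕ => (a : ZMod 3)) (ixD Cfsg.Lie.chevG2) (look (XL.getD 10 (0, 0, [])).2.2) = Cfsg.Lie.chevG2.x (ZMod 3) 4 ((fun a : ℕ => (a : ZMod 3)) 2) := by decide +kernel
theorem zx27 : matF (fun a : ℕ => (a : ZMod 3)) (ixD Cfsg.Lie.chevG2) (look (XL.getD 11 (0, 0, [])).2.2) = Cfsg.Lie.chevG2.x (ZMod 3) 5 ((fun a : ℕ => (a : ZMod 3)) 2) := by decide +kernel
theorem zx28 : matF (fun a : ℕ => (a : ZMod 3)) (ixD Cfsg.Lie.chevG2) (look (XL.getD 12 (0, 0, [])).2.2) = Cfsg.Lie.chevG2.x (ZMod 3) 3 ((fun a : ℕ => (a : ZMod 3)) 2) := by decide +kernel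
theorem zx29 : matF (fun a : ℕ => (a : ZMod 3)) (ixD Cfsg.Lie.chevG2) (look (XL.getD 13 (0, 0, [])).2.2) = Cfsg.Lie.chevG2.x (ZMod 3) 2 ((fun a : ℕ => (a : ZMod 3)) 2) := by decide +kernel
theorem zx30 : matF (fun a : ℕ => (a : ZMod 3)) (ixD Cfsg.Lie.chevG2) (look (XL.getD 14 (0, 0, [])).2.2) = Cfsg.Lie.chevG2.x (ZMod 3) 1 ((fun a : ℕ => (a : ZMod 3)) 0) := by decide +kernel
theorem zx31 : matF (fun a : ℕ => (a : ZMod 3)) (ixD Cfsg.Lie.chevG2) (look (XL.getD 15 (0, 0, [])).2.2) = Cfsg.Lie.chevG2.x (ZMod 3) 0 ((fun a : ℕ => (a : ZMod 3)) 0) := by decide +kernel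
theorem zk32 : allL (keepB P.n P.N) ns0 = true := by decide +kernel
theorem ze33 : extB ns0 ns 3 ws [] = true := by decide +kernel
theorem zn34 : P.netsB ns (mkDefs ws 3) = true := by decide +kernel

section
variable {G X : Type*} [Group G] [MulAction G X] {e : ℕ → X} {gs : List G}

theorem keep0 : allL (keepB P.n P.N) ns0 = true := zk32

theorem len {k} (c : Ctx P e gs ns0 [] k) : gs.length = 3 := c.len ze33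

theorem ctx0 {k} (c : Ctx P e gs ns0 [] k) : Ctx P e (ext gs ws) ns D chk0 :=
  c.ext rfl ze33 zn34

theorem ctx {k} (c : Ctx P e gs ns0 [] k) {H : Subgroup G} (hF : Faithful e P.n H) (hH : ∀ g ∈ gs, g ∈ H) :
    Ctx P e (ext gs ws) ns D chk :=
  (ctx0 c).withB hF (mem_of_mem_ext hH _)

theorem hS : ∀ w ∈ cw, (w.map fun c => ((XL.getD c (0, 0, [])).1, (fun a : ℕ => (a : ZMod 3)) (XL.getD c (0, 0, [])).2.1)) ∈ Cfsg.Lie.g2Words (ZMod 3) 1 := by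
  simp only [cw, List.forall_mem_cons]
  exact ⟨⟨1, 0, 0, Or.inl (by decide)⟩, ⟨0, 1, 0, Or.inl (by decide)⟩, ⟨1, 0, 0, Or.inr (by decide)⟩, fun _ h => by cases h⟩

theorem hX : ∀ x ∈ XL, matF (fun a : ℕ => (a : ZMod 3)) (ixD Cfsg.Lie.chevG2) (look x.2.2) = Cfsg.Lie.chevG2.x (ZMod 3) x.1 ((fun a : ℕ => (a : ZMod 3)) x.2.1) := by
  simp only [XL, List.forall_mem_cons]
  exact ⟨zx16, zx17, zx18, zx19, zx20, zx21, zx22, zx23, zx24, zx25, zx26, zx27, zx28, zx29, zx30, zx31, fun _ h => by cases h⟩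
noncomputable def gsM : List (GL Cfsg.Lie.chevG2.Idx (ZMod 3)) := cw.map (chW Cfsg.Lie.chevG2 (fun a : ℕ => (a : ZMod 3)) XL)
theorem base : Ctx P (vecOf (fun a : ℕ => (a : ZMod 3)) (ixD Cfsg.Lie.chevG2) (tabP 3).q P.N V) gsM ns0 [] chk0 :=
  ctx_chev (d := 14) (k := 2) (ws := cw) (by simp) (fc_zmod 3) hP rfl zv14 hX rfl (by decide) zv15

theorem hle (l : List (List ℕ)) : subW gsM l ≤ (Cfsg.Lie.twistedG2 (ZMod 3) 1) :=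
  subW_le_of_forall (chW_mem_gen (by simp) hS) l
theorem hc : Nat.card (Cfsg.Lie.twistedG2 (ZMod 3) 1) = 1512 := (Cfsg.Agent.S1069.result (K := ZMod 3) (m := 0) (by simp)).trans (by norm_num)

end
end CL.Std.R3.M

namespace CL.Std.R3
open CL.PG

def P : Par := ⟨28, 32, 5, 3⟩
theorem hP : P.Ok := by decide
noncomputable def a0 : Net := (.cons 16 (nat_lit 0x438)
 (.cons 8 (nat_lit 0xc00062)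
 (.cons 4 (nat_lit 0x6050d00)
 (.cons 2 (nat_lit 0x23103213)
 (.cons 1 (nat_lit 0x1010155)
 (.cons 2 (nat_lit 0x2000200)
 (.cons 4 (nat_lit 0x6060000)
 (.cons 8 (nat_lit 0xce001e)
 (.cons 16 (nat_lit 0xa18)
 .nil)))))))))
noncomputable def a1 : Net := (.cons 16 (nat_lit 0xbe48)
 (.cons 8 (nat_lit 0x7d0064)
 (.cons 4 (nat_lit 0x10f0c05)
 (.cons 2 (nat_lit 0x1200120)
 (.cons 1 (nat_lit 0x14514114)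
 (.cons 2 (nat_lit 0x22020)
 (.cons 4 (nat_lit 0xe0e0c00)
 (.cons 8 (nat_lit 0x400068)
 (.cons 16 (nat_lit 0xbe48)
 .nil)))))))))
noncomputable def a2 : Net := (.cons 16 (nat_lit 0xf3fe)
 (.cons 8 (nat_lit 0x10014)
 (.cons 4 (nat_lit 0x50f0102)
 (.cons 2 (nat_lit 0x32000102)
 (.cons 1 (nat_lit 0x15400040)
 (.cons 2 (nat_lit 0x20200020)
 (.cons 8 (nat_lit 0xf80014)
 (.cons 16 (nat_lit 0xfd80)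
 .nil))))))))
noncomputable def a3 : Net := (.cons 16 (nat_lit 0xf6c0)
 (.cons 8 (nat_lit 0xe10000)
 (.cons 4 (nat_lit 0xd0e000e)
 (.cons 2 (nat_lit 0x23300210)
 (.cons 1 (nat_lit 0x54440514)
 (.cons 2 (nat_lit 0x2220002)
 (.cons 4 (nat_lit 0x8)
 (.cons 8 (nat_lit 0xa00000)
 (.cons 16 (nat_lit 0xf2fe)
 .nil)))))))))
noncomputable def a4 : Net := (.cons 16 (nat_lit 0xfc00)
 (.cons 8 (nat_lit 0x1900fe)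
 (.cons 4 (nat_lit 0xb060a00)
 (.cons 2 (nat_lit 0x3102100)
 (.cons 1 (nat_lit 0x10105104)
 (.cons 2 (nat_lit 0x200000)
 (.cons 4 (nat_lit 0x40a0200)
 (.cons 8 (nat_lit 0x2000fc)
 (.cons 16 (nat_lit 0xf000)
 .nil)))))))))
noncomputable def a5 : Net := (.cons 16 (nat_lit 0xd064)
 (.cons 8 (nat_lit 0x920024)
 (.cons 4 (nat_lit 0x4000800)
 (.cons 2 (nat_lit 0x3202020)
 (.cons 1 (nat_lit 0x450144)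
 (.cons 2 (nat_lit 0x200020)
 (.cons 4 (nat_lit 0x4000800)
 (.cons 8 (nat_lit 0x60020)
 (.cons 16 (nat_lit 0xd468)
 .nil)))))))))
noncomputable def ns0 : List Net := [a0, a1, a2]
noncomputable def ws : List (List ℕ) :=
  [W (nat_lit 0x300c0500c01),
  W (nat_lit 0xc060180601002),
  W (nat_lit 0x802808)]
noncomputable def ns : List Net := [a0, a1, a2, a3, a4, a5]
noncomputable def D : List (ℕ × List ℕ) := app [] (mkDefs ws 3)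
noncomputable def chk : List (List ℕ × List ℕ) → Bool := P.relsB ns
noncomputable def G_v0 : Lev :=
  ⟨0, 28, sg (W (nat_lit 0x500c0100c0100c01)), [[6], [8]], 0, 2⟩
noncomputable def G_v1 : Lev :=
  ⟨1, 27, sg (W (nat_lit 0x2407024070240702407)), [[10]], 2, 1⟩
noncomputable def G_v2 : Lev :=
  ⟨2, 2, sg [10], [], 3, 0⟩
noncomputable def G_vs3 : List Lev :=
  []
noncomputable def G_vs2 : List Lev :=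
  G_v2 :: G_vs3
noncomputable def G_vs1 : List Lev :=
  G_v1 :: G_vs2
noncomputable def G_vs : List Lev :=
  G_v0 :: G_vs1
noncomputable def zE1 : Net :=
  (.cons 16 (nat_lit 0x7b8000006000)
 (.cons 8 (nat_lit 0x6d008000010060)
 (.cons 4 (nat_lit 0x608080701010106)
 (.cons 2 (nat_lit 0x1002001311111110)
 (.cons 1 (nat_lit 0x450044155555554)
 (.cons 2 (nat_lit 0x200000000)
 (.cons 4 (nat_lit 0x40808080000000a)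
 (.cons 8 (nat_lit 0x240080000000b0)
 (.cons 16 (nat_lit 0x7b800000b000)
 .nil)))))))))
noncomputable def zK2 : Lk :=
  ⟨zE1, 2, 3, 1⟩

theorem zc0 : P.chainB ns D G_vs [[0], [2], [4]] = true := by decide +kernel
theorem zl3 : zK2.relB CL.Std.R3.M.P CL.Std.R3.P CL.Std.R3.M.ns0 [[0], [2], [4]] [[0], [2], [4]] = true := by decide +kernel
theorem zl4 : allL (zK2.pl CL.Std.R3.M.P CL.Std.R3.P CL.Std.R3.M.ns0 CL.Std.R3.ns 0) (zp [] [[0], [2], [4]] [[0], [2], [4]]) = true := by decide +kernel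
theorem zk5 : allL (keepB P.n P.N) ns0 = true := by decide +kernel
theorem ze6 : extB ns0 ns 3 ws [] = true := by decide +kernel
theorem zn7 : P.netsB ns (mkDefs ws 3) = true := by decide +kernel

section
variable {G X : Type*} [Group G] [MulAction G X] {e : ℕ → X} {gs : List G}

theorem keep0 : allL (keepB P.n P.N) ns0 = true := zk5

theorem len {k} (c : Ctx P e gs ns0 [] k) : gs.length = 3 := c.len ze6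

theorem ctx0 {k} (c : Ctx P e gs ns0 [] k) : Ctx P e (ext gs ws) ns D chk0 :=
  c.ext rfl ze6 zn7

theorem ctx {k} (c : Ctx P e gs ns0 [] k) {H : Subgroup G} (hF : Faithful e P.n H) (hH : ∀ g ∈ gs, g ∈ H) :
    Ctx P e (ext gs ws) ns D chk :=
  (ctx0 c).withB hF (mem_of_mem_ext hH _)

instance instNe : NeZero P.n := ⟨by decide⟩
noncomputable def gs0 : List (Equiv.Perm (Fin P.n)) := permsOf P.n P.N ns0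
noncomputable def gs1 : List (Equiv.Perm (Fin P.n)) := ext gs0 ws
theorem c1 : Ctx P (eF P.n) gs1 ns D chk :=
  ctx (ctx_permsOf hP keep0) (faithful_eF _) fun _ _ => trivial

theorem G_c : P.chainB ns D G_vs [[0], [2], [4]] = true :=
  zc0

theorem G_o : prodL G_vs 1 = 1512 := by decide +kernel

theorem G_lb (c : Ctx P e gs ns D chk) :
    LB (subW gs [[0], [2], [4]]) 1512 :=
  c.lb G_c G_o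

theorem rel {Γ Y : Type*} [Group Γ] [MulAction Γ Y] {e' : ℕ → Y} {cs : List Γ} {D₁ D₂ : List (ℕ × List ℕ)}
    {k₁ k₂ : List (List ℕ × List ℕ) → Bool} (c : Ctx CL.Std.R3.M.P e gs CL.Std.R3.M.ns0 D₁ k₁) (c' : Ctx CL.Std.R3.P e' cs CL.Std.R3.ns D₂ k₂)
    (hF : Faithful e' CL.Std.R3.P.n (subW cs [[0], [2], [4]])) :
    RelLe gs [[0], [2], [4]] cs [[0], [2], [4]] :=
  c.relLe (K := zK2) c' hF zl3 (fun (t : ℕ) (ht : t < 1) => match t, ht with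
    | 0, _ => zl4
    | t + 1, h => absurd h (by omega))

theorem iso0 : subW M.gsM [[0], [2], [4]] = (Cfsg.Lie.twistedG2 (ZMod 3) 1) ∧ RelLe gs1 [[0], [2], [4]] M.gsM [[0], [2], [4]] ∧ Nat.card (subW gs1 [[0], [2], [4]]) = 1512 ∧ Nonempty ((subW gs1 [[0], [2], [4]]) ≃* (Cfsg.Lie.twistedG2 (ZMod 3) 1)) :=
  (rel M.base c1 ((faithful_eF _).mono le_top)).iso_of_le (M.hle _) M.hc (by norm_num) (G_lb c1)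
theorem card : Nat.card (subW gs1 [[0], [2], [4]]) = 1512 := iso0.2.2.1
theorem ub : UB (subW gs1 [[0], [2], [4]]) 1512 := UB.of_card card (by norm_num)

theorem iso : Nonempty ((subW gs1 [[0], [2], [4]]) ≃* (Cfsg.Lie.twistedG2 (ZMod 3) 1)) := iso0.2.2.2

end
end CL.Std.R3

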