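/-
The derived subgroup of a small group of Lie type.
Generated by tools/pg.
-/
import Cfsg.Agent.Spor.PGCtx
import Cfsg.Agent.Spor.PGPrim
import Cfsg.Agent.Spor.PGSub
import Cfsg.Agent.Spor.StdL28
import Cfsg.Agent.Spor.StdR3

set_option autoImplicit false
set_option maxRecDepth 200000
set_option Elab.async false
set_option linter.unusedVariables false

namespace CL.Std.R3.Aux.T
open CL.PG

def P : Par := ⟨28, 32, 5, 3⟩
theorem hP : P.Ok := by decide
noncomputable def a0 : Net := (.cons 16 (nat_lit 0x5914)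
 (.cons 8 (nat_lit 0xa70050)
 (.cons 4 (nat_lit 0x40204)
 (.cons 2 (nat_lit 0x33020320)
 (.cons 1 (nat_lit 0x14055441)
 (.cons 2 (nat_lit 0x20000022)
 (.cons 4 (nat_lit 0x604040c)
 (.cons 8 (nat_lit 0xb60070)
 (.cons 16 (nat_lit 0x5aa0)
 .nil)))))))))
noncomputable def a1 : Net := (.cons 16 (nat_lit 0x2543)
 (.cons 8 (nat_lit 0x4600e0)
 (.cons 4 (nat_lit 0x407050a)
 (.cons 2 (nat_lit 0x20322021)
 (.cons 1 (nat_lit 0x41400510)
 (.cons 2 (nat_lit 0x22200000)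
 (.cons 4 (nat_lit 0xe020e)
 (.cons 8 (nat_lit 0x4c007c)
 (.cons 16 (nat_lit 0x205c)
 .nil)))))))))
noncomputable def a2 : Net := (.cons 16 (nat_lit 0xda04)
 (.cons 8 (nat_lit 0xaa0012)
 (.cons 4 (nat_lit 0xd00000a)
 (.cons 2 (nat_lit 0x20220020)
 (.cons 1 (nat_lit 0x111544)
 (.cons 2 (nat_lit 0x220002)
 (.cons 4 (nat_lit 0x8000004)
 (.cons 8 (nat_lit 0xa80012)
 (.cons 16 (nat_lit 0xda04)
 .nil)))))))))
noncomputable def a3 : Net := (.cons 16 (nat_lit 0x3e3c)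
 (.cons 8 (nat_lit 0x5800b4)
 (.cons 4 (nat_lit 0x20a0e08)
 (.cons 2 (nat_lit 0x33022000)
 (.cons 1 (nat_lit 0x41111144)
 (.cons 2 (nat_lit 0x22002202)
 (.cons 4 (nat_lit 0x4000200)
 (.cons 8 (nat_lit 0x4c0036)
 (.cons 16 (nat_lit 0x323a)
 .nil)))))))))
noncomputable def a4 : Net := (.cons 16 (nat_lit 0xb80)
 (.cons 8 (nat_lit 0xa6000c)
 (.cons 4 (nat_lit 0xe000f08)
 (.cons 2 (nat_lit 0x20131330)
 (.cons 1 (nat_lit 0x41054514)
 (.cons 2 (nat_lit 0x20000020)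
 (.cons 4 (nat_lit 0x6000604)
 (.cons 8 (nat_lit 0xa00010)
 (.cons 16 (nat_lit 0xb80)
 .nil)))))))))
noncomputable def ns0 : List Net := [a0, a1]
noncomputable def ws : List (List ℕ) :=
  [W (nat_lit 0xc0100c0300802),
  W (nat_lit 0x200c0100401),
  W (nat_lit 0x200801405014050200802006)]
noncomputable def ns : List Net := [a0, a1, a2, a3, a4]
noncomputable def D : List (ℕ × List ℕ) := app [] (mkDefs ws 2)
noncomputable def chk : List (List ℕ × List ℕ) → Bool := P.relsB ns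
noncomputable def G_v0 : Lev :=
  ⟨0, 28, sg (W (nat_lit 0x40100c0100c0100c01)), [[4], [6]], 0, 2⟩
noncomputable def G_v1 : Lev :=
  ⟨1, 9, sg (W (nat_lit 0x501c0501c05)), [[8]], 2, 1⟩
noncomputable def G_v2 : Lev :=
  ⟨2, 2, sg [8], [], 3, 0⟩
noncomputable def G_vs3 : List Lev :=
  []
noncomputable def G_vs2 : List Lev :=
  G_v2 :: G_vs3
noncomputable def G_vs1 : List Lev :=
  G_v1 :: G_vs2
noncomputable def G_vs : List Lev :=
  G_v0 :: G_vs1

theorem zc0 : P.chainB ns D G_vs [[0], [2]] = true := by decide +kernel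
theorem zk1 : allL (keepB P.n P.N) ns0 = true := by decide +kernel
theorem ze2 : extB ns0 ns 2 ws [] = true := by decide +kernel
theorem zn3 : P.netsB ns (mkDefs ws 2) = true := by decide +kernel

section
variable {G X : Type*} [Group G] [MulAction G X] {e : ℕ → X} {gs : List G}

theorem keep0 : allL (keepB P.n P.N) ns0 = true := zk1

theorem len {k} (c : Ctx P e gs ns0 [] k) : gs.length = 2 := c.len ze2

theorem ctx0 {k} (c : Ctx P e gs ns0 [] k) : Ctx P e (ext gs ws) ns D chk0 :=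
  c.ext rfl ze2 zn3

theorem ctx {k} (c : Ctx P e gs ns0 [] k) {H : Subgroup G} (hF : Faithful e P.n H) (hH : ∀ g ∈ gs, g ∈ H) :
    Ctx P e (ext gs ws) ns D chk :=
  (ctx0 c).withB hF (mem_of_mem_ext hH _)

instance instNe : NeZero P.n := ⟨by decide⟩
noncomputable def gs0 : List (Equiv.Perm (Fin P.n)) := permsOf P.n P.N ns0
noncomputable def gs1 : List (Equiv.Perm (Fin P.n)) := ext gs0 ws
theorem c1 : Ctx P (eF P.n) gs1 ns D chk :=
  ctx (ctx_permsOf hP keep0) (faithful_eF _) fun _ _ => trivial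

theorem G_c : P.chainB ns D G_vs [[0], [2]] = true :=
  zc0

theorem G_o : prodL G_vs 1 = 504 := by decide +kernel

theorem G_lb (c : Ctx P e gs ns D chk) :
    LB (subW gs [[0], [2]]) 504 :=
  c.lb G_c G_o

end
end CL.Std.R3.Aux.T

namespace CL.Std.R3.Aux.S
open CL.PG

def P : Par := ⟨37, 40, 6, 3⟩
theorem hP : P.Ok := by decide
noncomputable def a0 : Net := (.cons 20 (nat_lit 0xfffd0)
 (.cons 10 (nat_lit 0x3d300300)
 (.cons 5 (nat_lit 0x540600c00)
 (.cons 1 (nat_lit 0x8000)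
 (.cons 1 (nat_lit 0x10050800)
 (.cons 1 (nat_lit 0x10a521425)
 (.cons 1 (nat_lit 0x4094a5084a)
 (.cons 1 (nat_lit 0x2800509024)
 (.cons 5 (nat_lit 0x180c06004)
 (.cons 10 (nat_lit 0x25a00300)
 (.cons 20 (nat_lit 0xffff8)
 .nil)))))))))))
noncomputable def a1 : Net := (.cons 20 (nat_lit 0x81680)
 (.cons 10 (nat_lit 0x30500063)
 (.cons 5 (nat_lit 0x6c0f03000)
 (.cons 1 (nat_lit 0x2000001)
 (.cons 1 (nat_lit 0x1480294a)
 (.cons 1 (nat_lit 0x10a4214a5)
 (.cons 1 (nat_lit 0x294a1294a)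
 (.cons 1 (nat_lit 0x808100404)
 (.cons 5 (nat_lit 0x601a01018)
 (.cons 10 (nat_lit 0x10000154)
 (.cons 20 (nat_lit 0x90330)
 .nil)))))))))))
noncomputable def a2 : Net := (.cons 20 (nat_lit 0xd9c90)
 (.cons 10 (nat_lit 0x175000d8)
 (.cons 5 (nat_lit 0x4c0307c1c)
 (.cons 1 (nat_lit 0x100000000)
 (.cons 1 (nat_lit 0x284000100)
 (.cons 1 (nat_lit 0x14a4280a4)
 (.cons 1 (nat_lit 0x429485084a)
 (.cons 1 (nat_lit 0x102428484)
 (.cons 5 (nat_lit 0x20000781c)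
 (.cons 10 (nat_lit 0x206000a0)
 (.cons 20 (nat_lit 0xde840)
 .nil)))))))))))
noncomputable def a3 : Net := (.cons 20 (nat_lit 0x7cfb2)
 (.cons 10 (nat_lit 0x1b00024c)
 (.cons 5 (nat_lit 0x6c1300412)
 (.cons 1 (nat_lit 0x1000)
 (.cons 1 (nat_lit 0x80052808)
 (.cons 1 (nat_lit 0x142421404)
 (.cons 1 (nat_lit 0x5094a50942)
 (.cons 1 (nat_lit 0x2002009024)
 (.cons 5 (nat_lit 0x400000008)
 (.cons 10 (nat_lit 0x14a00000)
 (.cons 20 (nat_lit 0x7bb44)
 .nil)))))))))))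
noncomputable def a4 : Net := (.cons 20 (nat_lit 0xf140)
 (.cons 10 (nat_lit 0x2a000188)
 (.cons 5 (nat_lit 0x181a04400)
 (.cons 1 (nat_lit 0xa001400)
 (.cons 1 (nat_lit 0x5014252800)
 (.cons 1 (nat_lit 0x200a529404)
 (.cons 1 (nat_lit 0x5214252948)
 (.cons 1 (nat_lit 0x4a028004)
 (.cons 5 (nat_lit 0x81003800)
 (.cons 10 (nat_lit 0x2a000188)
 (.cons 20 (nat_lit 0xf140)
 .nil)))))))))))
noncomputable def ns0 : List Net := [a0, a1]
noncomputable def ws : List (List ℕ) :=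
  [W (nat_lit 0x4010100400804),
  W (nat_lit 0x20080201001),
  W (nat_lit 0x1c07018080140701c06)]
noncomputable def ns : List Net := [a0, a1, a2, a3, a4]
noncomputable def D : List (ℕ × List ℕ) := app [] (mkDefs ws 2)
noncomputable def chk : List (List ℕ × List ℕ) → Bool := P.relsB ns
noncomputable def zt0 : List ℕ :=
  []
noncomputable def zcj1 : List (List ℕ) :=
  []
noncomputable def zus4 : List (List ℕ) :=
  [[4],
  [6],
  [7],
  W (nat_lit 0x1407),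
  W (nat_lit 0x1408),
  W (nat_lit 0x1c07),
  W (nat_lit 0x2008),
  W (nat_lit 0x501c09)]
noncomputable def zF5 : List (List (ℕ × List ℕ)) :=
  [[(1, []),
   (0, []),
   (5, []),
   (4, []),
   (3, []),
   (2, []),
   (8, [8]),
   (7, [8]),
   (6, [8])],
  [(2, []),
   (4, []),
   (6, []),
   (0, []),
   (7, [8]),
   (1, []),
   (8, []),
   (3, []),
   (5, [8])]]
noncomputable def zus8 : List (List ℕ) :=
  [[0],
  [1],
  [2],
  [3],
  W (nat_lit 0x401),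
  W (nat_lit 0x403),
  W (nat_lit 0x404),
  W (nat_lit 0x802),
  W (nat_lit 0x803),
  W (nat_lit 0x804),
  W (nat_lit 0xc01),
  W (nat_lit 0x809),
  W (nat_lit 0xc08),
  W (nat_lit 0x808),
  W (nat_lit 0x100401),
  W (nat_lit 0x405),
  W (nat_lit 0x100404),
  W (nat_lit 0x1005),
  W (nat_lit 0x100408),
  W (nat_lit 0x408),
  W (nat_lit 0x407),
  W (nat_lit 0x1008),
  W (nat_lit 0x101009),
  W (nat_lit 0x100c05),
  W (nat_lit 0x202004),
  W (nat_lit 0x101007),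
  W (nat_lit 0xc07)]
noncomputable def zF9 : List (List (ℕ × List ℕ)) :=
  [[(1, []),
   (5, []),
   (0, []),
   (11, []),
   (9, []),
   (15, []),
   (18, W (nat_lit 0x2008)),
   (3, []),
   (2, []),
   (8, [7]),
   (7, W (nat_lit 0x2408)),
   (14, W (nat_lit 0x2408)),
   (24, [8]),
   (4, [6]),
   (20, W (nat_lit 0x2408)),
   (13, []),
   (19, W (nat_lit 0x1408)),
   (6, []),
   (16, W (nat_lit 0x901c07)),
   (23, W (nat_lit 0x901407)),
   (21, W (nat_lit 0x1408)),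
   (26, W (nat_lit 0x901407)),
   (10, W (nat_lit 0x901c07)),
   (12, W (nat_lit 0x901c07)),
   (25, [7]),
   (17, W (nat_lit 0x901407)),
   (22, W (nat_lit 0x1408)),
   (27, W (nat_lit 0x2405))],
  [(3, []),
   (6, []),
   (9, []),
   (12, W (nat_lit 0x501c09)),
   (0, []),
   (16, W (nat_lit 0x901408)),
   (19, W (nat_lit 0x1c07)),
   (1, []),
   (7, W (nat_lit 0x2408)),
   (21, [7]),
   (2, []),
   (17, [4]),
   (24, W (nat_lit 0x2008)),
   (20, W (nat_lit 0x2008)),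
   (4, W (nat_lit 0x901c07)),
   (23, [6]),
   (18, [8]),
   (5, []),
   (15, W (nat_lit 0x902008)),
   (13, W (nat_lit 0x2405)),
   (8, W (nat_lit 0x1408)),
   (26, W (nat_lit 0x1408)),
   (10, W (nat_lit 0x2405)),
   (11, W (nat_lit 0x2408)),
   (25, W (nat_lit 0x240501c09)),
   (14, []),
   (27, W (nat_lit 0x2407)),
   (22, [7])]]
noncomputable def zE12 : Net :=
  .nil
noncomputable def zK13 : Lk :=
  ⟨zE12, 1, 3, 1⟩
noncomputable def zE16 : Net :=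
  (.cons 20 (nat_lit 0xfff00)
 (.cons 10 (nat_lit 0x3fe002db)
 (.cons 5 (nat_lit 0x40106418)
 (.cons 1 (nat_lit 0x8421080a0)
 (.cons 1 (nat_lit 0x1084212142)
 (.cons 1 (nat_lit 0x21084214a5)
 (.cons 1 (nat_lit 0x4210842942)
 (.cons 1 (nat_lit 0x81)
 (.cons 5 (nat_lit 0x3010)
 (.cons 10 (nat_lit 0x292)
 (.cons 20 (nat_lit 0xe0000)
 .nil)))))))))))
noncomputable def zK17 : Lk :=
  ⟨zE16, 1, 2, 1⟩

theorem zb2 : bnd (pcB D [] 2 zt0 zcj1) (leB (app D []) [[8]] ([8] :: [])) = true := by decide +kernel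
theorem zr3 : chk (pcR [] [8] 2 zt0 zcj1) = true := by decide +kernel
theorem zb6 : schB D [[4], [6]] [[8]] zus4 zF5 9 = true := by decide +kernel
theorem zr7 : chk (schR [[4], [6]] zus4 zF5) = true := by decide +kernel
theorem zb10 : schB D [[0], [2]] [[4], [6]] zus8 zF9 28 = true := by decide +kernel
theorem zr11 : chk (schR [[0], [2]] zus8 zF9) = true := by decide +kernel
theorem zl14 : zK13.relB CL.Std.R3.Aux.S.P CL.Std.R3.Aux.T.P CL.Std.R3.Aux.S.ns [[0], [2]] [[0], [2]] = true := by decide +kernel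
theorem zl15 : allL (zK13.pl CL.Std.R3.Aux.S.P CL.Std.R3.Aux.T.P CL.Std.R3.Aux.S.ns CL.Std.R3.Aux.T.ns 0) (zp [] [[0], [2]] [[0], [2]]) = true := by decide +kernel
theorem zl18 : zK17.relB CL.Std.R3.Aux.S.P CL.Std.L28.P CL.Std.R3.Aux.S.ns [[0], [2]] [[0], [2]] = true := by decide +kernel
theorem zl19 : allL (zK17.pl CL.Std.R3.Aux.S.P CL.Std.L28.P CL.Std.R3.Aux.S.ns CL.Std.L28.ns 0) (zp [] [[0], [2]] [[0], [2]]) = true := by decide +kernel
theorem zk20 : allL (keepB P.n P.N) ns0 = true := by decide +kernel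
theorem ze21 : extB ns0 ns 2 ws [] = true := by decide +kernel
theorem zn22 : P.netsB ns (mkDefs ws 2) = true := by decide +kernel

section
variable {G X : Type*} [Group G] [MulAction G X] {e : ℕ → X} {gs : List G}

theorem keep0 : allL (keepB P.n P.N) ns0 = true := zk20

theorem len {k} (c : Ctx P e gs ns0 [] k) : gs.length = 2 := c.len ze21

theorem ctx0 {k} (c : Ctx P e gs ns0 [] k) : Ctx P e (ext gs ws) ns D chk0 :=
  c.ext rfl ze21 zn22

theorem ctx {k} (c : Ctx P e gs ns0 [] k) {H : Subgroup G} (hF : Faithful e P.n H) (hH : ∀ g ∈ gs, g ∈ H) :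
    Ctx P e (ext gs ws) ns D chk :=
  (ctx0 c).withB hF (mem_of_mem_ext hH _)

instance instNe : NeZero P.n := ⟨by decide⟩
noncomputable def gs0 : List (Equiv.Perm (Fin P.n)) := permsOf P.n P.N ns0
noncomputable def gs1 : List (Equiv.Perm (Fin P.n)) := ext gs0 ws
theorem c1 : Ctx P (eF P.n) gs1 ns D chk :=
  ctx (ctx_permsOf hP keep0) (faithful_eF _) fun _ _ => trivial

theorem G_u2 (c : Ctx P e gs ns D chk) :
    UB (subW gs [[8]]) 2 :=
  (c.pc_step (UB.nil gs) (Rels.nil _)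
    (c.rels _ zr3) zb2).le (by decide)

theorem G_u1 (c : Ctx P e gs ns D chk) :
    UB (subW gs [[4], [6]]) 18 :=
  (c.sch_step (G_u2 c)
    (c.rels _ zr7) zb6).le (by decide)

theorem G_u0 (c : Ctx P e gs ns D chk) :
    UB (subW gs [[0], [2]]) 504 :=
  (c.sch_step (G_u1 c)
    (c.rels _ zr11) zb10).le (by decide)

theorem G_ub (c : Ctx P e gs ns D chk) :
    UB (subW gs [[0], [2]]) 504 :=
  (G_u0 c)

theorem toT {Γ Y : Type*} [Group Γ] [MulAction Γ Y] {e' : ℕ → Y} {cs : List Γ} {D₁ D₂ : List (ℕ × List ℕ)}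
    {k₁ k₂ : List (List ℕ × List ℕ) → Bool} (c : Ctx CL.Std.R3.Aux.S.P e gs CL.Std.R3.Aux.S.ns D₁ k₁) (c' : Ctx CL.Std.R3.Aux.T.P e' cs CL.Std.R3.Aux.T.ns D₂ k₂)
    (hF : Faithful e' CL.Std.R3.Aux.T.P.n (subW cs [[0], [2]])) :
    RelLe gs [[0], [2]] cs [[0], [2]] :=
  c.relLe (K := zK13) c' hF zl14 (fun (t : ℕ) (ht : t < 1) => match t, ht with
    | 0, _ => zl15
    | t + 1, h => absurd h (by omega))

theorem toB {Γ Y : Type*} [Group Γ] [MulAction Γ Y] {e' : ℕ → Y} {cs : List Γ} {D₁ D₂ : List (ℕ × List ℕ)}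
    {k₁ k₂ : List (List ℕ × List ℕ) → Bool} (c : Ctx CL.Std.R3.Aux.S.P e gs CL.Std.R3.Aux.S.ns D₁ k₁) (c' : Ctx CL.Std.L28.P e' cs CL.Std.L28.ns D₂ k₂)
    (hF : Faithful e' CL.Std.L28.P.n (subW cs [[0], [2]])) :
    RelLe gs [[0], [2]] cs [[0], [2]] :=
  c.relLe (K := zK17) c' hF zl18 (fun (t : ℕ) (ht : t < 1) => match t, ht with
    | 0, _ => zl19
    | t + 1, h => absurd h (by omega))

theorem rel {Γ Y : Type*} [Group Γ] [MulAction Γ Y] {e' : ℕ → Y} {cs : List Γ} {D₂ : List (ℕ × List ℕ)}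
    {k₂ : List (List ℕ × List ℕ) → Bool} (c' : Ctx CL.Std.L28.P e' cs CL.Std.L28.ns D₂ k₂) (hF : Faithful e' CL.Std.L28.P.n (subW cs [[0], [2]])) :
    RelLe CL.Std.R3.Aux.T.gs1 [[0], [2]] cs [[0], [2]] :=
  ((toT c1 CL.Std.R3.Aux.T.c1 ((faithful_eF _).mono le_top)).symm_of_card (G_ub c1) (CL.Std.R3.Aux.T.G_lb CL.Std.R3.Aux.T.c1)).trans (toB c1 c' hF)

end
end CL.Std.R3.Aux.S

namespace CL.Std.R3.Der
open CL.PG

noncomputable def da6 : Net := (.cons 16 (nat_lit 0x420b)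
 (.cons 8 (nat_lit 0xe6008c)
 (.cons 4 (nat_lit 0xe0f020c)
 (.cons 2 (nat_lit 0x21010123)
 (.cons 1 (nat_lit 0x45401114)
 (.cons 2 (nat_lit 0x20202022)
 (.cons 4 (nat_lit 0xc0a000e)
 (.cons 8 (nat_lit 0xaa00a0)
 (.cons 16 (nat_lit 0x4282)
 .nil)))))))))
noncomputable def da7 : Net := (.cons 16 (nat_lit 0xafe8)
 (.cons 8 (nat_lit 0xce00a1)
 (.cons 4 (nat_lit 0x4070306)
 (.cons 2 (nat_lit 0x22002303)
 (.cons 1 (nat_lit 0x41411411)
 (.cons 2 (nat_lit 0x20200002)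
 (.cons 4 (nat_lit 0x40802)
 (.cons 8 (nat_lit 0x4800ba)
 (.cons 16 (nat_lit 0xa410)
 .nil)))))))))
noncomputable def da8 : Net := (.cons 16 (nat_lit 0x6)
 (.cons 8 (nat_lit 0x72)
 (.cons 4 (nat_lit 0xc06)
 (.cons 2 (nat_lit 0x2012220)
 (.cons 1 (nat_lit 0x500144)
 (.cons 2 (nat_lit 0x202)
 (.cons 4 (nat_lit 0x808)
 (.cons 8 (nat_lit 0x62)
 (.cons 16 (nat_lit 0x4)
 .nil)))))))))
noncomputable def da9 : Net := (.cons 16 (nat_lit 0xe038)
 (.cons 8 (nat_lit 0x760098)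
 (.cons 4 (nat_lit 0xc000c00)
 (.cons 2 (nat_lit 0x2211202)
 (.cons 1 (nat_lit 0x51000114)
 (.cons 2 (nat_lit 0x2000202)
 (.cons 4 (nat_lit 0xc000c00)
 (.cons 8 (nat_lit 0x340090)
 (.cons 16 (nat_lit 0xe038)
 .nil)))))))))
noncomputable def da10 : Net := (.cons 16 (nat_lit 0xd064)
 (.cons 8 (nat_lit 0x920024)
 (.cons 4 (nat_lit 0x4000800)
 (.cons 2 (nat_lit 0x3202020)
 (.cons 1 (nat_lit 0x450144)
 (.cons 2 (nat_lit 0x200020)
 (.cons 4 (nat_lit 0x4000800)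
 (.cons 8 (nat_lit 0x60020)
 (.cons 16 (nat_lit 0xd468)
 .nil)))))))))
noncomputable def da11 : Net := (.cons 16 (nat_lit 0xf164)
 (.cons 8 (nat_lit 0xde00f8)
 (.cons 4 (nat_lit 0xe0b0500)
 (.cons 2 (nat_lit 0x20031201)
 (.cons 1 (nat_lit 0x54455105)
 (.cons 4 (nat_lit 0x80800)
 (.cons 8 (nat_lit 0x200f4)
 (.cons 16 (nat_lit 0xf132)
 .nil))))))))
noncomputable def da12 : Net := (.cons 16 (nat_lit 0xe61)
 (.cons 8 (nat_lit 0x3a00c4)
 (.cons 4 (nat_lit 0x90a040d)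
 (.cons 2 (nat_lit 0x20023201)
 (.cons 1 (nat_lit 0x411011)
 (.cons 2 (nat_lit 0x222002)
 (.cons 4 (nat_lit 0x8020204)
 (.cons 8 (nat_lit 0x380098)
 (.cons 16 (nat_lit 0x77c)
 .nil)))))))))
noncomputable def da13 : Net := (.cons 16 (nat_lit 0xfffe)
 (.cons 8 (nat_lit 0x300fe)
 (.cons 4 (nat_lit 0xe030c00)
 (.cons 2 (nat_lit 0x30132300)
 (.cons 1 (nat_lit 0x41405404)
 (.cons 2 (nat_lit 0x2)
 (.cons 4 (nat_lit 0xc000800)
 (.cons 8 (nat_lit 0xfc00f0)
 (.cons 16 (nat_lit 0xfc00)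
 .nil)))))))))
noncomputable def da14 : Net := (.cons 16 (nat_lit 0xe038)
 (.cons 8 (nat_lit 0x760098)
 (.cons 4 (nat_lit 0xc000c00)
 (.cons 2 (nat_lit 0x2211202)
 (.cons 1 (nat_lit 0x51000114)
 (.cons 2 (nat_lit 0x2000202)
 (.cons 4 (nat_lit 0xc000c00)
 (.cons 8 (nat_lit 0x340090)
 (.cons 16 (nat_lit 0xe038)
 .nil)))))))))
noncomputable def da15 : Net := (.cons 16 (nat_lit 0xd064)
 (.cons 8 (nat_lit 0x920024)
 (.cons 4 (nat_lit 0x4000800)
 (.cons 2 (nat_lit 0x3202020)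
 (.cons 1 (nat_lit 0x450144)
 (.cons 2 (nat_lit 0x200020)
 (.cons 4 (nat_lit 0x4000800)
 (.cons 8 (nat_lit 0x60020)
 (.cons 16 (nat_lit 0xd468)
 .nil)))))))))
noncomputable def da16 : Net := (.cons 16 (nat_lit 0x9829)
 (.cons 8 (nat_lit 0x9300a6)
 (.cons 4 (nat_lit 0x10b0604)
 (.cons 2 (nat_lit 0x23332101)
 (.cons 1 (nat_lit 0x11144115)
 (.cons 2 (nat_lit 0x20222200)
 (.cons 4 (nat_lit 0x40804)
 (.cons 8 (nat_lit 0x8200c8)
 (.cons 16 (nat_lit 0x9adc)
 .nil)))))))))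
noncomputable def da17 : Net := (.cons 16 (nat_lit 0xef0)
 (.cons 8 (nat_lit 0xce)
 (.cons 4 (nat_lit 0x80c00)
 (.cons 2 (nat_lit 0x10100)
 (.cons 1 (nat_lit 0x5504054)
 (.cons 4 (nat_lit 0x80c00)
 (.cons 8 (nat_lit 0xc0)
 (.cons 16 (nat_lit 0xe40)
 .nil))))))))
noncomputable def da18 : Net := (.cons 16 (nat_lit 0x7070)
 (.cons 8 (nat_lit 0x8e00b0)
 (.cons 4 (nat_lit 0xb000c00)
 (.cons 2 (nat_lit 0x21133202)
 (.cons 1 (nat_lit 0x55055040)
 (.cons 4 (nat_lit 0x4000c00)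
 (.cons 8 (nat_lit 0x8800b0)
 (.cons 16 (nat_lit 0x7070)
 .nil))))))))
noncomputable def da19 : Net := (.cons 16 (nat_lit 0xd064)
 (.cons 8 (nat_lit 0x920024)
 (.cons 4 (nat_lit 0x4000800)
 (.cons 2 (nat_lit 0x3202020)
 (.cons 1 (nat_lit 0x450144)
 (.cons 2 (nat_lit 0x200020)
 (.cons 4 (nat_lit 0x4000800)
 (.cons 8 (nat_lit 0x60020)
 (.cons 16 (nat_lit 0xd468)
 .nil)))))))))
noncomputable def dws : List (List ℕ) :=
  [W (nat_lit 0x70280b01002),
  W (nat_lit 0x2c0702c01),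
  W (nat_lit 0x400e04010),
  W (nat_lit 0x38100380e),
  W (nat_lit 0x110501105011050120501205012),
  W (nat_lit 0x14060080600405),
  W (nat_lit 0x1801004030080501002),
  W (nat_lit 0x641806418),
  W (nat_lit 0x180601a05c1a0601806018),
  W (nat_lit 0x741d0701c0701e),
  W (nat_lit 0x441504c0e03c0f),
  W (nat_lit 0x210380e038210380e),
  W (nat_lit 0xe0880d0840e),
  W (nat_lit 0x260902508c2509026)]
noncomputable def dns : List Net := [CL.Std.R3.a0, CL.Std.R3.a1, CL.Std.R3.a2, CL.Std.R3.a3, CL.Std.R3.a4, CL.Std.R3.a5, da6, da7, da8, da9, da10, da11, da12, da13, da14, da15, da16, da17, da18, da19]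
noncomputable def dD : List (ℕ × List ℕ) := app CL.Std.R3.D (mkDefs dws 6)
noncomputable def dchk : List (List ℕ × List ℕ) → Bool := CL.Std.R3.P.relsB dns
noncomputable def dzt0 : List ℕ :=
  []
noncomputable def dzcj1 : List (List ℕ) :=
  []
noncomputable def dzus4 : List (List ℕ) :=
  [[16],
  [18],
  W (nat_lit 0x4413),
  W (nat_lit 0x4c11),
  W (nat_lit 0x4415),
  W (nat_lit 0x1304413),
  W (nat_lit 0x1105413),
  W (nat_lit 0x4c15)]
noncomputable def dzF5 : List (List (ℕ × List ℕ)) :=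
  [[(1, []),
   (0, []),
   (4, []),
   (5, [20]),
   (2, []),
   (3, [20]),
   (6, [20]),
   (8, []),
   (7, [])],
  [(2, []),
   (3, []),
   (0, []),
   (1, []),
   (6, []),
   (7, []),
   (4, []),
   (5, []),
   (8, [20])]]
noncomputable def dzus8 : List (List ℕ) :=
  [[12],
  [13],
  [14],
  [15],
  W (nat_lit 0x340d),
  W (nat_lit 0x340f),
  W (nat_lit 0x3410),
  W (nat_lit 0x380e),
  W (nat_lit 0x380f),
  W (nat_lit 0x3c0d),
  W (nat_lit 0x3c0e),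
  W (nat_lit 0x400d),
  W (nat_lit 0x4010),
  W (nat_lit 0xd03413),
  W (nat_lit 0xd03c0f),
  W (nat_lit 0xd0400d),
  W (nat_lit 0x3811),
  W (nat_lit 0xe0380f),
  W (nat_lit 0xe03810),
  W (nat_lit 0x3815),
  W (nat_lit 0xe03c0e),
  W (nat_lit 0xe03c0f),
  W (nat_lit 0xd03411),
  W (nat_lit 0x4013),
  W (nat_lit 0xe03c11),
  W (nat_lit 0xd03c15),
  W (nat_lit 0xe03815)]
noncomputable def dzF9 : List (List (ℕ × List ℕ)) :=
  [[(1, []),
   (5, []),
   (0, []),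
   (10, []),
   (12, []),
   (4, W (nat_lit 0x1504c11)),
   (7, W (nat_lit 0x5411)),
   (16, []),
   (2, []),
   (20, [20]),
   (22, W (nat_lit 0x5413)),
   (3, []),
   (15, W (nat_lit 0x5413)),
   (21, [20]),
   (6, W (nat_lit 0x4415)),
   (17, W (nat_lit 0x1105413)),
   (19, W (nat_lit 0x4415)),
   (8, W (nat_lit 0x4c15)),
   (18, W (nat_lit 0x541304413)),
   (13, W (nat_lit 0x4415)),
   (14, W (nat_lit 0x4413)),
   (9, []),
   (27, [20]),
   (25, []),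
   (11, [16]),
   (26, W (nat_lit 0x5411)),
   (24, W (nat_lit 0x4413)),
   (23, W (nat_lit 0x5411))],
  [(3, []),
   (6, []),
   (9, []),
   (5, W (nat_lit 0x4c15)),
   (0, []),
   (2, [18]),
   (15, []),
   (1, []),
   (18, []),
   (22, []),
   (11, W (nat_lit 0x4415)),
   (25, W (nat_lit 0x4413)),
   (20, W (nat_lit 0x1304413)),
   (4, []),
   (16, W (nat_lit 0x541304413)),
   (26, W (nat_lit 0x541105413)),
   (27, W (nat_lit 0x1304413)),
   (7, [18]),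
   (12, W (nat_lit 0x1105413)),
   (8, []),
   (23, W (nat_lit 0x5413)),
   (21, W (nat_lit 0x541304413)),
   (24, [18]),
   (10, W (nat_lit 0x541105413)),
   (13, W (nat_lit 0x5413)),
   (19, []),
   (14, W (nat_lit 0x1504c11)),
   (17, [20])]]
noncomputable def dzps12 : List (List ℕ × List ℕ) :=
  [(W (nat_lit 0x405), [5]), (W (nat_lit 0x1002), W (nat_lit 0x805))]
noncomputable def dzts15 : List (List ℕ) :=
  [W (nat_lit 0x1c06817),
  W (nat_lit 0x6c1806419)]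
noncomputable def dzts18 : List (List ℕ) :=
  [[],
  W (nat_lit 0x110540e03c11),
  W (nat_lit 0x150440d03c15),
  W (nat_lit 0x4c1104c0e03810),
  [],
  W (nat_lit 0x1103c0d),
  W (nat_lit 0x440d03411),
  W (nat_lit 0x4c0d03411),
  []]
noncomputable def dzcj21 : List (List (List ℕ)) :=
  [[W (nat_lit 0x541104c0d03c0f), W (nat_lit 0x441304010)],
  [W (nat_lit 0x4c0e), W (nat_lit 0x1504c0e03c0f)],
  [W (nat_lit 0x4c110380e), W (nat_lit 0x4c1104c0d03411)]]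
noncomputable def dzcj24 : List (List (List ℕ)) :=
  [[W (nat_lit 0x541104c0d03c0f), W (nat_lit 0x441304010)],
  [W (nat_lit 0x4c0e), W (nat_lit 0x1504c0e03c0f)],
  [W (nat_lit 0x4c110380e), W (nat_lit 0x4c1104c0d03411)]]
noncomputable def dzE27 : Net :=
  (.cons 16 (nat_lit 0x1bf4)
 (.cons 8 (nat_lit 0xc90062)
 (.cons 4 (nat_lit 0x303000c)
 (.cons 2 (nat_lit 0x21020302)
 (.cons 1 (nat_lit 0x40114050)
 (.cons 2 (nat_lit 0x22000)
 (.cons 4 (nat_lit 0x602060a)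
 (.cons 8 (nat_lit 0xc600a0)
 (.cons 16 (nat_lit 0x1e44)
 .nil)))))))))
noncomputable def dzK28 : Lk :=
  ⟨dzE27, 1, 3, 1⟩
noncomputable def dzts31 : List (List ℕ) :=
  [[12],
  W (nat_lit 0x2303423)]
noncomputable def dzts34 : List (List ℕ) :=
  [[13],
  W (nat_lit 0x441504c0e03c0f)]

theorem dzb2 : bnd (pcB dD [] 2 dzt0 dzcj1) (leB (app dD []) [[20]] ([20] :: [])) = true := by decide +kernel
theorem dzr3 : dchk (pcR [] [20] 2 dzt0 dzcj1) = true := by decide +kernel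
theorem dzb6 : schB dD [[16], [18]] [[20]] dzus4 dzF5 9 = true := by decide +kernel
theorem dzr7 : dchk (schR [[16], [18]] dzus4 dzF5) = true := by decide +kernel
theorem dzb10 : schB dD [[12], [14]] [[16], [18]] dzus8 dzF9 28 = true := by decide +kernel
theorem dzr11 : dchk (schR [[12], [14]] dzus8 dzF9) = true := by decide +kernel
theorem dzm13 : bnd (leB dD (mapL Prod.fst dzps12) [[0], [2], [4]]) (leB dD (mapL Prod.snd dzps12) [[0], [2], [4]]) = true := by decide +kernel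
theorem dzr14 : dchk (zp [] [[22], [24]] (mapL comW dzps12)) = true := by decide +kernel
theorem dzm16 : leB dD dzts15 [[22], [24]] = true := by decide +kernel
theorem dzr17 : dchk (zp [] [[12], [14]] dzts15) = true := by decide +kernel
theorem dzm19 : leB dD dzts18 [[12], [14]] = true := by decide +kernel
theorem dzr20 : dchk (zp [] (comWs [[0], [2], [4]] [[0], [2], [4]]) dzts18) = true := by decide +kernel
theorem dzm22 : nrmB dD [[0], [2], [4]] [[12], [14]] dzcj21 = true := by decide +kernel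
theorem dzr23 : dchk (nrmR [[0], [2], [4]] [[12], [14]] dzcj21) = true := by decide +kernel
theorem dzm25 : nrmB dD [[0], [2], [4]] [[12], [14]] dzcj24 = true := by decide +kernel
theorem dzr26 : dchk (nrmR [[0], [2], [4]] [[12], [14]] dzcj24) = true := by decide +kernel
theorem dzl29 : dzK28.relB CL.Std.R3.P CL.Std.R3.Aux.T.P CL.Std.R3.Der.dns [[13], [32]] [[0], [2]] = true := by decide +kernel
theorem dzl30 : allL (dzK28.pl CL.Std.R3.P CL.Std.R3.Aux.T.P CL.Std.R3.Der.dns CL.Std.R3.Aux.T.ns 0) (zp [] [[13], [32]] [[0], [2]]) = true := by decide +kernel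
theorem dzm32 : leB dD dzts31 [[13], [32]] = true := by decide +kernel
theorem dzr33 : dchk (zp [] [[12], [14]] dzts31) = true := by decide +kernel
theorem dzm35 : leB dD dzts34 [[12], [14]] = true := by decide +kernel
theorem dzr36 : dchk (zp [] [[13], [32]] dzts34) = true := by decide +kernel
theorem dze37 : extB CL.Std.R3.ns dns 6 dws CL.Std.R3.D = true := by decide +kernel
theorem dzn38 : CL.Std.R3.P.netsB dns (mkDefs dws 6) = true := by decide +kernel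

section
variable {G X : Type*} [Group G] [MulAction G X] {e : ℕ → X} {gs : List G}

theorem dlen {k} (c : Ctx CL.Std.R3.P e gs CL.Std.R3.ns CL.Std.R3.D k) : gs.length = 6 := c.len dze37

theorem dctx0 {k} (c : Ctx CL.Std.R3.P e gs CL.Std.R3.ns CL.Std.R3.D k) : Ctx CL.Std.R3.P e (ext gs dws) dns dD chk0 :=
  c.ext rfl dze37 dzn38

theorem dctx {k} (c : Ctx CL.Std.R3.P e gs CL.Std.R3.ns CL.Std.R3.D k) {H : Subgroup G} (hF : Faithful e CL.Std.R3.P.n H) (hH : ∀ g ∈ gs, g ∈ H) :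
    Ctx CL.Std.R3.P e (ext gs dws) dns dD dchk :=
  (dctx0 c).withB hF (mem_of_mem_ext hH _)

theorem dZ_u2 (c : Ctx CL.Std.R3.P e gs dns dD dchk) :
    UB (subW gs [[20]]) 2 :=
  (c.pc_step (UB.nil gs) (Rels.nil _)
    (c.rels _ dzr3) dzb2).le (by decide)

theorem dZ_u1 (c : Ctx CL.Std.R3.P e gs dns dD dchk) :
    UB (subW gs [[16], [18]]) 18 :=
  (c.sch_step (dZ_u2 c)
    (c.rels _ dzr7) dzb6).le (by decide)

theorem dZ_u0 (c : Ctx CL.Std.R3.P e gs dns dD dchk) :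
    UB (subW gs [[12], [14]]) 504 :=
  (c.sch_step (dZ_u1 c)
    (c.rels _ dzr11) dzb10).le (by decide)

theorem dZ_ub (c : Ctx CL.Std.R3.P e gs dns dD dchk) :
    UB (subW gs [[12], [14]]) 504 :=
  (dZ_u0 c)

theorem dcom_c_le (c : Ctx CL.Std.R3.P e gs dns dD dchk) :
    (subW gs [[22], [24]]) ≤ ⁅(subW gs [[0], [2], [4]]), (subW gs [[0], [2], [4]])⁆ :=
  c.le_commutator (ps := dzps12) (c.rels _ dzr14) dzm13

theorem dcom (c : Ctx CL.Std.R3.P e gs dns dD dchk) :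
    ⁅(subW gs [[0], [2], [4]]), (subW gs [[0], [2], [4]])⁆ = (subW gs [[12], [14]]) :=
  have hfin : Finite (subW gs [[12], [14]]) := (dZ_ub c).1
  le_antisymm (commutator_subW_le (c.le_normalizer (cj := dzcj24) hfin (c.rels _ dzr26) dzm25) (c.le_normalizer (cj := dzcj21) hfin (c.rels _ dzr23) dzm22)
    (c.le_of_rels (ws := (comWs [[0], [2], [4]] [[0], [2], [4]])) (l := [[12], [14]]) (c.rels _ dzr20) dzm19)) ((c.le_of_rels (ws := [[12], [14]]) (l := [[22], [24]]) (c.rels _ dzr17) dzm16).trans (dcom_c_le c))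

theorem dquo_r_T {Γ Y : Type*} [Group Γ] [MulAction Γ Y] {e' : ℕ → Y} {cs : List Γ} {D₁ D₂ : List (ℕ × List ℕ)}
    {k₁ k₂ : List (List ℕ × List ℕ) → Bool} (c : Ctx CL.Std.R3.P e gs CL.Std.R3.Der.dns D₁ k₁) (c' : Ctx CL.Std.R3.Aux.T.P e' cs CL.Std.R3.Aux.T.ns D₂ k₂)
    (hF : Faithful e' CL.Std.R3.Aux.T.P.n (subW cs [[0], [2]])) :
    RelLe gs [[13], [32]] cs [[0], [2]] :=
  c.relLe (K := dzK28) c' hF dzl29 (fun (t : ℕ) (ht : t < 1) => match t, ht with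
    | 0, _ => dzl30
    | t + 1, h => absurd h (by omega))

theorem dquo_r {Γ Y : Type*} [Group Γ] [MulAction Γ Y] {e' : ℕ → Y} {cs : List Γ} {D₁ D₂ : List (ℕ × List ℕ)}
    {k₁ k₂ : List (List ℕ × List ℕ) → Bool} (c : Ctx CL.Std.R3.P e gs CL.Std.R3.Der.dns D₁ k₁) (c' : Ctx CL.Std.L28.P e' cs CL.Std.L28.ns D₂ k₂)
    (hF : Faithful e' CL.Std.L28.P.n (subW cs [[0], [2]])) :
    RelLe gs [[13], [32]] cs [[0], [2]] :=
  (dquo_r_T c CL.Std.R3.Aux.T.c1 ((faithful_eF _).mono le_top)).trans (CL.Std.R3.Aux.S.rel c' hF)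

theorem dquo_e (c : Ctx CL.Std.R3.P e gs dns dD dchk) :
    subW gs (app [[13], [32]] []) = (subW gs [[12], [14]]) :=
  le_antisymm (c.le_of_rels (ws := [[13], [32]]) (l := [[12], [14]]) (c.rels _ dzr36) dzm35) (c.le_of_rels (ws := [[12], [14]]) (l := [[13], [32]]) (c.rels _ dzr33) dzm32)

theorem dquo (c : Ctx CL.Std.R3.P e gs dns dD dchk) :
    Nonempty ((subW gs [[12], [14]]) ≃* (subW CL.Std.L28.gs1 [[0], [2]])) :=
  (RelLe.quo' (l := [[13], [32]]) (lQ := []) (dquo_r c CL.Std.L28.c1 ((faithful_eF _).mono le_top)) (by decide) (dquo_e c) (a := 1) (b := 504) (dZ_ub c)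
    (LB.one _) (LB.of_card CL.Std.L28.card)).equiv_nil

noncomputable def gsD : List (Equiv.Perm (Fin CL.Std.R3.P.n)) := ext CL.Std.R3.gs1 dws
theorem cD : Ctx CL.Std.R3.P (eF CL.Std.R3.P.n) gsD dns dD dchk := dctx CL.Std.R3.c1 (faithful_eF _) fun _ _ => trivial
theorem eD : subW gsD [[0], [2], [4]] = subW CL.Std.R3.gs1 [[0], [2], [4]] := subW_ext (dlen CL.Std.R3.c1) dws (by decide)
theorem der {Δ : Type*} [Group Δ] {Γ : Subgroup Δ} (e : Nonempty (subW CL.Std.R3.gs1 [[0], [2], [4]] ≃* Γ)) : Nonempty (subW gsD [[12], [14]] ≃* commutator Γ) :=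
  commutator_equiv (dcom cD) (eD ▸ e)

theorem iso {Δ : Type*} [Group Δ] {Γ : Subgroup Δ} (e : Nonempty (subW CL.Std.R3.gs1 [[0], [2], [4]] ≃* Γ)) : Nonempty (commutator Γ ≃* subW CL.Std.L28.gs1 [[0], [2]]) :=
  ⟨(der e).some.symm.trans (dquo cD).some⟩

end
end CL.Std.R3.Der

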