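/-
A standard permutation model (SL, dimension 2, field with 5 elements): degree 24, order 120.
Generated by tools/pg.
-/
import Cfsg.Agent.Spor.PGCls
import Cfsg.Agent.Spor.PGCtx

set_option autoImplicit false
set_option maxRecDepth 200000
set_option Elab.async false
set_option linter.unusedVariables false

namespace CL.Std.SL25.M
open CL.PG

def P : Par := ⟨24, 24, 5, 3⟩
theorem hP : P.Ok := by decide
noncomputable def a0 : Net := (.cons 12 (nat_lit 0x426)
 (.cons 6 (nat_lit 0xc021)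
 (.cons 3 (nat_lit 0x1820c4)
 (.cons 1 (nat_lit 0x209)
 (.cons 1 (nat_lit 0x10412)
 (.cons 1 (nat_lit 0x48000)
 (.cons 3 (nat_lit 0x82000)
 (.cons 6 (nat_lit 0xc03a)
 (.cons 12 (nat_lit 0x2e8)
 .nil)))))))))
noncomputable def a1 : Net := (.cons 12 (nat_lit 0xc3e)
 (.cons 6 (nat_lit 0x35)
 (.cons 3 (nat_lit 0x1050c3)
 (.cons 1 (nat_lit 0x9200)
 (.cons 1 (nat_lit 0x12490)
 (.cons 1 (nat_lit 0x201)
 (.cons 3 (nat_lit 0x184)
 (.cons 6 (nat_lit 0x26020)
 (.cons 12 (nat_lit 0x400)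
 .nil)))))))))
noncomputable def a2 : Net := (.cons 12 (nat_lit 0x8e0)
 (.cons 6 (nat_lit 0x26010)
 (.cons 3 (nat_lit 0xc4080)
 (.cons 1 (nat_lit 0x48040)
 (.cons 1 (nat_lit 0x92090)
 (.cons 1 (nat_lit 0x241240)
 (.cons 3 (nat_lit 0x104100)
 (.cons 6 (nat_lit 0x10020)
 (.cons 12 (nat_lit 0x330)
 .nil)))))))))
noncomputable def ns0 : List Net := [a0, a1]
noncomputable def ws : List (List ℕ) :=
  [W (nat_lit 0x3008030080401001)]
noncomputable def ns : List Net := [a0, a1, a2]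
noncomputable def D : List (ℕ × List ℕ) := app [] (mkDefs ws 2)
noncomputable def chk : List (List ℕ × List ℕ) → Bool := P.relsB ns
noncomputable def V : List ℕ :=
  [(nat_lit 0x842108421084210842108421084210),
  (nat_lit 0xf8000007c000003e000001f000000f)]
noncomputable def ms : List (List (List ℕ) × List (List ℕ)) :=
  [([[4, 3], [2, 3]],
   [[3, 2], [3, 4]]),
  ([[3, 4], [4, 4]],
   [[4, 1], [1, 3]])]
noncomputable def G_v0 : Lev :=
  ⟨0, 24, sg (W (nat_lit 0xc0100c0100c0100c01)), [[4]], 0, 1⟩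
noncomputable def G_v1 : Lev :=
  ⟨4, 5, sg (W (nat_lit 0x140501405)), [], 1, 0⟩
noncomputable def G_vs2 : List Lev :=
  []
noncomputable def G_vs1 : List Lev :=
  G_v1 :: G_vs2
noncomputable def G_vs : List Lev :=
  G_v0 :: G_vs1

theorem zv0 : vecB (tabP 5).q 3 2 P V = true := by decide +kernel
theorem zv1 : Nat.beq (lenL ms) (lenL ns0) = true := by decide +kernel
theorem zv2 : allL ((tabP 5).actB 3 2 P V) (zp Net.nil ms ns0) = true := by decide +kernel
theorem zv3 : (tabP 5).basB 2 P V [0, 4] [[1, 0], [0, 1]] = true := by decide +kernel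
theorem zv4 : allL ((tabP 5).detB 2 4) ms = true := by decide +kernel
theorem zc5 : P.chainB ns D G_vs [[0], [2]] = true := by decide +kernel
theorem zk6 : allL (keepB P.n P.N) ns0 = true := by decide +kernel
theorem ze7 : extB ns0 ns 2 ws [] = true := by decide +kernel
theorem zn8 : P.netsB ns (mkDefs ws 2) = true := by decide +kernel

section
variable {G X : Type*} [Group G] [MulAction G X] {e : ℕ → X} {gs : List G}

theorem keep0 : allL (keepB P.n P.N) ns0 = true := zk6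

theorem len {k} (c : Ctx P e gs ns0 [] k) : gs.length = 2 := c.len ze7

theorem ctx0 {k} (c : Ctx P e gs ns0 [] k) : Ctx P e (ext gs ws) ns D chk0 :=
  c.ext rfl ze7 zn8

theorem ctx {k} (c : Ctx P e gs ns0 [] k) {H : Subgroup G} (hF : Faithful e P.n H) (hH : ∀ g ∈ gs, g ∈ H) :
    Ctx P e (ext gs ws) ns D chk :=
  (ctx0 c).withB hF (mem_of_mem_ext hH _)

theorem hV : vecB (tabP 5).q 3 2 P V = true := zv0
theorem hact : allL ((tabP 5).actB 3 2 P V) (zp Net.nil ms ns0) = true := zv2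
theorem hinv : allL ((tabP 5).invB 2) ms = true := actB_invB hact
theorem base {F : Type*} [Field F] {el : ℕ → F} (h : FC (tabP 5) el) : Ctx P (vecOf el (Fin.val : Fin 2 → ℕ) (tabP 5).q P.N V) (List.map (glF el (Fin.val : Fin 2 → ℕ)) ms) ns0 [] chk0 :=
  ctx_mat h (ix_fin 2) hP hV zv1 hact
theorem faith {F : Type*} [Field F] {el : ℕ → F} (h : FC (tabP 5) el) : Faithful (vecOf el (Fin.val : Fin 2 → ℕ) (tabP 5).q P.N V) P.n (⊤ : Subgroup (GL (Fin 2) F)) :=
  faithful_vecOf h (ix_fin 2) hP hV zv3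
theorem c1 {F : Type*} [Field F] {el : ℕ → F} (h : FC (tabP 5) el) : Ctx P (vecOf el (Fin.val : Fin 2 → ℕ) (tabP 5).q P.N V) (ext (List.map (glF el (Fin.val : Fin 2 → ℕ)) ms) ws) ns D chk :=
  ctx (base h) (faith h) fun _ _ => trivial

theorem G_c : P.chainB ns D G_vs [[0], [2]] = true :=
  zc5

theorem G_o : prodL G_vs 1 = 120 := by decide +kernel

theorem G_lb (c : Ctx P e gs ns D chk) :
    LB (subW gs [[0], [2]]) 120 :=
  c.lb G_c G_o

end
end CL.Std.SL25.M

namespace CL.Std.SL25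
open CL.PG

def P : Par := ⟨24, 24, 5, 3⟩
theorem hP : P.Ok := by decide
noncomputable def a0 : Net := (.cons 12 (nat_lit 0x426)
 (.cons 6 (nat_lit 0xc021)
 (.cons 3 (nat_lit 0x1820c4)
 (.cons 1 (nat_lit 0x209)
 (.cons 1 (nat_lit 0x10412)
 (.cons 1 (nat_lit 0x48000)
 (.cons 3 (nat_lit 0x82000)
 (.cons 6 (nat_lit 0xc03a)
 (.cons 12 (nat_lit 0x2e8)
 .nil)))))))))
noncomputable def a1 : Net := (.cons 12 (nat_lit 0xc3e)
 (.cons 6 (nat_lit 0x35)
 (.cons 3 (nat_lit 0x1050c3)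
 (.cons 1 (nat_lit 0x9200)
 (.cons 1 (nat_lit 0x12490)
 (.cons 1 (nat_lit 0x201)
 (.cons 3 (nat_lit 0x184)
 (.cons 6 (nat_lit 0x26020)
 (.cons 12 (nat_lit 0x400)
 .nil)))))))))
noncomputable def a2 : Net := (.cons 12 (nat_lit 0x600)
 (.cons 6 (nat_lit 0x19010)
 (.cons 3 (nat_lit 0x1c7000)
 (.cons 1 (nat_lit 0x40040)
 (.cons 1 (nat_lit 0x490490)
 (.cons 1 (nat_lit 0x200200)
 (.cons 3 (nat_lit 0x100100)
 (.cons 6 (nat_lit 0x20020)
 (.cons 12 (nat_lit 0xc00)
 .nil)))))))))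
noncomputable def ns0 : List Net := [a0, a1]
noncomputable def ws : List (List ℕ) :=
  [W (nat_lit 0xc030040100c02)]
noncomputable def ns : List Net := [a0, a1, a2]
noncomputable def D : List (ℕ × List ℕ) := app [] (mkDefs ws 2)
noncomputable def chk : List (List ℕ × List ℕ) → Bool := P.relsB ns
noncomputable def G_v0 : Lev :=
  ⟨0, 24, sg (W (nat_lit 0xc0100c0100c0100c01)), [[4]], 0, 1⟩
noncomputable def G_v1 : Lev :=
  ⟨4, 5, sg (W (nat_lit 0x140501405)), [], 1, 0⟩
noncomputable def G_vs2 : List Lev :=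
  []
noncomputable def G_vs1 : List Lev :=
  G_v1 :: G_vs2
noncomputable def G_vs : List Lev :=
  G_v0 :: G_vs1
noncomputable def zE1 : Net :=
  .nil
noncomputable def zK2 : Lk :=
  ⟨zE1, 1, 3, 1⟩

theorem zc0 : P.chainB ns D G_vs [[0], [2]] = true := by decide +kernel
theorem zl3 : zK2.relB CL.Std.SL25.M.P CL.Std.SL25.P CL.Std.SL25.M.ns [[0], [2]] [[0], [2]] = true := by decide +kernel
theorem zl4 : allL (zK2.pl CL.Std.SL25.M.P CL.Std.SL25.P CL.Std.SL25.M.ns CL.Std.SL25.ns 0) (zp [] [[0], [2]] [[0], [2]]) = true := by decide +kernel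
theorem zk5 : allL (keepB P.n P.N) ns0 = true := by decide +kernel
theorem ze6 : extB ns0 ns 2 ws [] = true := by decide +kernel
theorem zn7 : P.netsB ns (mkDefs ws 2) = true := by decide +kernel

section
variable {G X : Type*} [Group G] [MulAction G X] {e : ℕ → X} {gs : List G}

theorem keep0 : allL (keepB P.n P.N) ns0 = true := zk5

theorem len {k} (c : Ctx P e gs ns0 [] k) : gs.length = 2 := c.len ze6

theorem ctx0 {k} (c : Ctx P e gs ns0 [] k) : Ctx P e (ext gs ws) ns D chk0 :=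
  c.ext rfl ze6 zn7

theorem ctx {k} (c : Ctx P e gs ns0 [] k) {H : Subgroup G} (hF : Faithful e P.n H) (hH : ∀ g ∈ gs, g ∈ H) :
    Ctx P e (ext gs ws) ns D chk :=
  (ctx0 c).withB hF (mem_of_mem_ext hH _)

instance instNe : NeZero P.n := ⟨by decide⟩
noncomputable def gs0 : List (Equiv.Perm (Fin P.n)) := permsOf P.n P.N ns0
noncomputable def gs1 : List (Equiv.Perm (Fin P.n)) := ext gs0 ws
theorem c1 : Ctx P (eF P.n) gs1 ns D chk :=
  ctx (ctx_permsOf hP keep0) (faithful_eF _) fun _ _ => trivial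

theorem G_c : P.chainB ns D G_vs [[0], [2]] = true :=
  zc0

theorem G_o : prodL G_vs 1 = 120 := by decide +kernel

theorem G_lb (c : Ctx P e gs ns D chk) :
    LB (subW gs [[0], [2]]) 120 :=
  c.lb G_c G_o

theorem rel {Γ Y : Type*} [Group Γ] [MulAction Γ Y] {e' : ℕ → Y} {cs : List Γ} {D₁ D₂ : List (ℕ × List ℕ)}
    {k₁ k₂ : List (List ℕ × List ℕ) → Bool} (c : Ctx CL.Std.SL25.M.P e gs CL.Std.SL25.M.ns D₁ k₁) (c' : Ctx CL.Std.SL25.P e' cs CL.Std.SL25.ns D₂ k₂)
    (hF : Faithful e' CL.Std.SL25.P.n (subW cs [[0], [2]])) :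
    RelLe gs [[0], [2]] cs [[0], [2]] :=
  c.relLe (K := zK2) c' hF zl3 (fun (t : ℕ) (ht : t < 1) => match t, ht with
    | 0, _ => zl4
    | t + 1, h => absurd h (by omega))

instance instP : Fact (Nat.Prime 5) := ⟨by norm_num⟩

theorem iso {F : Type*} [Field F] [Fintype F] (hF : Fintype.card F = 5) :
    Nonempty ((subW gs1 [[0], [2]]) ≃* Matrix.SpecialLinearGroup (Fin 2) F) := by
  obtain ⟨el, h⟩ := Tab.exists_fc (tabP 5) (by decide +kernel) F hF
  have hc : Nat.card (Matrix.SpecialLinearGroup (Fin 2) F) = 120 := card_sl hF 2 (by decide +kernel)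
  have hK := subW_eq_range (l := [[0], [2]]) Matrix.SpecialLinearGroup.toGL Matrix.SpecialLinearGroup.toGL_injective hc (by norm_num)
    (subW_le_of_forall (mem_of_mem_ext (forall_mem_SL h (ix_fin 2) M.hinv M.zv4) _) _) (M.G_lb (M.c1 h))
  exact (rel (M.c1 h) c1 ((faithful_eF _).mono le_top)).iso_of_range Matrix.SpecialLinearGroup.toGL Matrix.SpecialLinearGroup.toGL_injective hc (by norm_num) hK (G_lb c1)
theorem card : Nat.card (subW gs1 [[0], [2]]) = 120 := by
  obtain ⟨F, _, _, hF⟩ := exists_field 5 1 (by norm_num)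
  replace hF : Fintype.card F = 5 := hF
  obtain ⟨el, h⟩ := Tab.exists_fc (tabP 5) (by decide +kernel) F hF
  exact (Nat.card_congr (iso hF).some.toEquiv).trans (card_sl hF 2 (by decide +kernel))
theorem ub : UB (subW gs1 [[0], [2]]) 120 := UB.of_card card (by norm_num)

end
end CL.Std.SL25

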