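/-
A standard permutation model (SL, dimension 5, field with 2 elements): degree 31, order 9999360.
Generated by tools/pg.
-/
import Cfsg.Agent.Spor.PGCls
import Cfsg.Agent.Spor.PGCtx

set_option autoImplicit false
set_option maxRecDepth 200000
set_option Elab.async false
set_option linter.unusedVariables false

namespace CL.Std.SL52.M
open CL.PG

def P : Par := ⟨31, 32, 5, 3⟩
theorem hP : P.Ok := by decide
noncomputable def a0 : Net := (.cons 16 (nat_lit 0x8000)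
 (.cons 8 (nat_lit 0x800080)
 (.cons 4 (nat_lit 0x5000005)
 (.cons 2 (nat_lit 0x11222211)
 (.cons 8 (nat_lit 0x800080)
 (.cons 16 (nat_lit 0x8000)
 .nil))))))
noncomputable def a1 : Net := (.cons 16 (nat_lit 0x8000)
 (.cons 8 (nat_lit 0xff0000)
 (.cons 16 (nat_lit 0x8000)
 .nil)))
noncomputable def a2 : Net := (.cons 16 (nat_lit 0x8000)
 (.cons 8 (nat_lit 0x480033)
 (.cons 4 (nat_lit 0xc0c0000)
 (.cons 1 (nat_lit 0x44441111)
 (.cons 16 (nat_lit 0x8000)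
 .nil)))))
noncomputable def a3 : Net := (.cons 16 (nat_lit 0x7f80)
 (.cons 8 (nat_lit 0x800080)
 (.cons 4 (nat_lit 0x3000300)
 (.cons 1 (nat_lit 0x55005500)
 (.cons 8 (nat_lit 0x800080)
 .nil)))))
noncomputable def a4 : Net := (.cons 16 (nat_lit 0x8000)
 (.cons 8 (nat_lit 0x640064)
 (.cons 4 (nat_lit 0xa00000a)
 (.cons 2 (nat_lit 0x32010132)
 (.cons 8 (nat_lit 0x640064)
 (.cons 16 (nat_lit 0x8000)
 .nil))))))
noncomputable def a5 : Net := (.cons 16 (nat_lit 0xccb3)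
 (.cons 8 (nat_lit 0x9e009e)
 (.cons 4 (nat_lit 0xc030906)
 (.cons 2 (nat_lit 0x3333)
 (.cons 1 (nat_lit 0x44444444)
 (.cons 2 (nat_lit 0x22222222)
 (.cons 8 (nat_lit 0x800080)
 (.cons 16 (nat_lit 0x8000)
 .nil))))))))
noncomputable def a6 : Net := (.cons 16 (nat_lit 0x87f8)
 (.cons 8 (nat_lit 0xf800f8)
 (.cons 4 (nat_lit 0xe0e0e0e)
 (.cons 1 (nat_lit 0x50050550)
 (.cons 4 (nat_lit 0x8080808)
 (.cons 8 (nat_lit 0x800080)
 (.cons 16 (nat_lit 0x8000)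
 .nil)))))))
noncomputable def a7 : Net := (.cons 16 (nat_lit 0x99e6)
 (.cons 8 (nat_lit 0xf800f8)
 (.cons 4 (nat_lit 0xb040b04)
 (.cons 2 (nat_lit 0x30030330)
 (.cons 1 (nat_lit 0x44444444)
 (.cons 2 (nat_lit 0x22222222)
 (.cons 4 (nat_lit 0x2020202)
 (.cons 8 (nat_lit 0x800080)
 (.cons 16 (nat_lit 0x8000)
 .nil)))))))))
noncomputable def a8 : Net := (.cons 16 (nat_lit 0xf878)
 (.cons 8 (nat_lit 0x700f8)
 (.cons 4 (nat_lit 0x8070708)
 (.cons 2 (nat_lit 0x30030330)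
 (.cons 4 (nat_lit 0x8080808)
 (.cons 8 (nat_lit 0x800080)
 (.cons 16 (nat_lit 0x8000)
 .nil)))))))
noncomputable def a9 : Net := (.cons 16 (nat_lit 0xff80)
 (.cons 8 (nat_lit 0xa10040)
 (.cons 4 (nat_lit 0x7080708)
 (.cons 2 (nat_lit 0x33330000)
 (.cons 1 (nat_lit 0x50050550)
 (.cons 8 (nat_lit 0x700070)
 (.cons 16 (nat_lit 0x8000)
 .nil)))))))
noncomputable def a10 : Net := (.cons 16 (nat_lit 0x4000)
 (.cons 8 (nat_lit 0x3d0010)
 (.cons 4 (nat_lit 0x2030200)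
 (.cons 2 (nat_lit 0x13102320)
 (.cons 1 (nat_lit 0x10454510)
 (.cons 2 (nat_lit 0x200020)
 (.cons 4 (nat_lit 0x2000200)
 (.cons 8 (nat_lit 0x100010)
 (.cons 16 (nat_lit 0x7d80)
 .nil)))))))))
noncomputable def a11 : Net := (.cons 16 (nat_lit 0xff80)
 (.cons 8 (nat_lit 0x800080)
 (.cons 4 (nat_lit 0x90c0a00)
 (.cons 2 (nat_lit 0x33003300)
 (.cons 1 (nat_lit 0x55550000)
 (.cons 8 (nat_lit 0x800080)
 (.cons 16 (nat_lit 0x8000)
 .nil)))))))
noncomputable def a12 : Net := (.cons 16 (nat_lit 0xff80)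
 (.cons 8 (nat_lit 0x800080)
 (.cons 4 (nat_lit 0x30a0600)
 (.cons 2 (nat_lit 0x333300)
 (.cons 1 (nat_lit 0x55005500)
 (.cons 8 (nat_lit 0x800080)
 (.cons 16 (nat_lit 0x8000)
 .nil)))))))
noncomputable def a13 : Net := (.cons 16 (nat_lit 0x8000)
 (.cons 8 (nat_lit 0x6f0000)
 (.cons 4 (nat_lit 0x6060000)
 (.cons 2 (nat_lit 0x33330000)
 (.cons 1 (nat_lit 0x55550000)
 (.cons 16 (nat_lit 0x8000)
 .nil))))))
noncomputable def a14 : Net := (.cons 16 (nat_lit 0x8000)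
 (.cons 8 (nat_lit 0x3f0000)
 (.cons 4 (nat_lit 0x3030000)
 (.cons 1 (nat_lit 0x55550000)
 (.cons 16 (nat_lit 0x8000)
 .nil)))))
noncomputable def a15 : Net := (.cons 16 (nat_lit 0x8000)
 (.cons 8 (nat_lit 0x840000)
 (.cons 4 (nat_lit 0xc0c0000)
 (.cons 1 (nat_lit 0x55550000)
 (.cons 16 (nat_lit 0x8000)
 .nil)))))
noncomputable def a16 : Net := (.cons 16 (nat_lit 0x8000)
 (.cons 8 (nat_lit 0xc00000)
 (.cons 4 (nat_lit 0x3030000)
 (.cons 1 (nat_lit 0x55550000)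
 (.cons 16 (nat_lit 0x8000)
 .nil)))))
noncomputable def ns0 : List Net := [a0, a1, a2, a3, a4]
noncomputable def ws : List (List ℕ) :=
  [W (nat_lit 0x280800c0a0080901c06),
  W (nat_lit 0x8080240500803),
  W (nat_lit 0x340b0340d0300c0340b),
  W (nat_lit 0xe038100340f0380e),
  W (nat_lit 0xf0380e03c0e03810),
  W (nat_lit 0x4c1304c1205011),
  W (nat_lit 0x441104c1304c1104c12),
  W (nat_lit 0x130481304c12),
  W (nat_lit 0x6415),
  W (nat_lit 0x190581a06816),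
  W (nat_lit 0x581705c1506018),
  W (nat_lit 0x5c1505c15)]
noncomputable def ns : List Net := [a0, a1, a2, a3, a4, a5, a6, a7, a8, a9, a10, a11, a12, a13, a14, a15, a16]
noncomputable def D : List (ℕ × List ℕ) := app [] (mkDefs ws 5)
noncomputable def chk : List (List ℕ × List ℕ) → Bool := P.relsB ns
noncomputable def V : List ℕ :=
  [(nat_lit 0x555555552aaaaaaa),
  (nat_lit 0x6666666619999999),
  (nat_lit 0x7878787807878787),
  (nat_lit 0x7f807f80007f807f),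
  (nat_lit 0x7fff800000007fff)]
noncomputable def ms : List (List (List ℕ) × List (List ℕ)) :=
  [([[1, 0, 0, 0, 0], [1, 1, 0, 1, 1], [1, 0, 1, 1, 1], [0, 0, 0, 1, 0], [0, 0, 0, 0, 1]],
   [[1, 0, 0, 0, 0], [1, 1, 0, 1, 1], [1, 0, 1, 1, 1], [0, 0, 0, 1, 0], [0, 0, 0, 0, 1]]),
  ([[1, 0, 0, 0, 0], [0, 1, 0, 0, 0], [0, 0, 1, 0, 0], [0, 0, 0, 1, 1], [0, 0, 0, 0, 1]],
   [[1, 0, 0, 0, 0], [0, 1, 0, 0, 0], [0, 0, 1, 0, 0], [0, 0, 0, 1, 1], [0, 0, 0, 0, 1]]),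
  ([[0, 1, 0, 0, 1], [1, 0, 0, 0, 1], [0, 0, 1, 0, 0], [1, 1, 0, 1, 1], [0, 0, 0, 0, 1]],
   [[0, 1, 0, 0, 1], [1, 0, 0, 0, 1], [0, 0, 1, 0, 0], [1, 1, 0, 1, 1], [0, 0, 0, 0, 1]]),
  ([[1, 0, 0, 1, 0], [0, 1, 0, 1, 0], [0, 0, 1, 1, 0], [0, 0, 0, 1, 0], [0, 0, 0, 1, 1]],
   [[1, 0, 0, 1, 0], [0, 1, 0, 1, 0], [0, 0, 1, 1, 0], [0, 0, 0, 1, 0], [0, 0, 0, 1, 1]]),
  ([[1, 0, 0, 0, 0], [0, 0, 1, 1, 1], [0, 0, 1, 0, 0], [0, 1, 1, 0, 1], [0, 0, 0, 0, 1]],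
   [[1, 0, 0, 0, 0], [0, 0, 1, 1, 1], [0, 0, 1, 0, 0], [0, 1, 1, 0, 1], [0, 0, 0, 0, 1]])]
noncomputable def G_v0 : Lev :=
  ⟨0, 31, sg (W (nat_lit 0x340b02c0d02c0d02c0d02c0b)), [[12], [14]], 2, 1⟩
noncomputable def G_v1 : Lev :=
  ⟨1, 30, sg (W (nat_lit 0xf0340f0340d03c0d03c0d)), [[16], [18]], 3, 2⟩
noncomputable def G_v2 : Lev :=
  ⟨3, 28, sg (W (nat_lit 0x1104c1104c1104c11)), [[20], [22], [24]], 5, 3⟩
noncomputable def G_v3 : Lev :=
  ⟨7, 24, sg (W (nat_lit 0x15054170641505c15)), [[26], [28], [30], [32]], 8, 4⟩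
noncomputable def G_v4 : Lev :=
  ⟨15, 16, sg (W (nat_lit 0x841f0741b)), [], 12, 0⟩
noncomputable def G_vs5 : List Lev :=
  []
noncomputable def G_vs4 : List Lev :=
  G_v4 :: G_vs5
noncomputable def G_vs3 : List Lev :=
  G_v3 :: G_vs4
noncomputable def G_vs2 : List Lev :=
  G_v2 :: G_vs3
noncomputable def G_vs1 : List Lev :=
  G_v1 :: G_vs2
noncomputable def G_vs : List Lev :=
  G_v0 :: G_vs1

theorem zv0 : vecB (tabP 2).q 1 5 P V = true := by decide +kernel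
theorem zv1 : Nat.beq (lenL ms) (lenL ns0) = true := by decide +kernel
theorem zv2 : allL ((tabP 2).actB 1 5 P V) (zp Net.nil ms ns0) = true := by decide +kernel
theorem zv3 : (tabP 2).basB 5 P V [0, 1, 3, 7, 15] [[1, 0, 0, 0, 0], [0, 1, 0, 0, 0], [0, 0, 1, 0, 0], [0, 0, 0, 1, 0], [0, 0, 0, 0, 1]] = true := by decide +kernel
theorem zv4 : allL ((tabP 2).detB 5 1) ms = true := by decide +kernel
theorem zc5 : P.chainB ns D G_vs [[10], [12]] = true := by decide +kernel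
theorem zk6 : allL (keepB P.n P.N) ns0 = true := by decide +kernel
theorem ze7 : extB ns0 ns 5 ws [] = true := by decide +kernel
theorem zn8 : P.netsB ns (mkDefs ws 5) = true := by decide +kernel

section
variable {G X : Type*} [Group G] [MulAction G X] {e : ℕ → X} {gs : List G}

theorem keep0 : allL (keepB P.n P.N) ns0 = true := zk6

theorem len {k} (c : Ctx P e gs ns0 [] k) : gs.length = 5 := c.len ze7

theorem ctx0 {k} (c : Ctx P e gs ns0 [] k) : Ctx P e (ext gs ws) ns D chk0 :=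
  c.ext rfl ze7 zn8

theorem ctx {k} (c : Ctx P e gs ns0 [] k) {H : Subgroup G} (hF : Faithful e P.n H) (hH : ∀ g ∈ gs, g ∈ H) :
    Ctx P e (ext gs ws) ns D chk :=
  (ctx0 c).withB hF (mem_of_mem_ext hH _)

theorem hV : vecB (tabP 2).q 1 5 P V = true := zv0
theorem hact : allL ((tabP 2).actB 1 5 P V) (zp Net.nil ms ns0) = true := zv2
theorem hinv : allL ((tabP 2).invB 5) ms = true := actB_invB hact
theorem base {F : Type*} [Field F] {el : ℕ → F} (h : FC (tabP 2) el) : Ctx P (vecOf el (Fin.val : Fin 5 → ℕ) (tabP 2).q P.N V) (List.map (glF el (Fin.val : Fin 5 → ℕ)) ms) ns0 [] chk0 :=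
  ctx_mat h (ix_fin 5) hP hV zv1 hact
theorem faith {F : Type*} [Field F] {el : ℕ → F} (h : FC (tabP 2) el) : Faithful (vecOf el (Fin.val : Fin 5 → ℕ) (tabP 2).q P.N V) P.n (⊤ : Subgroup (GL (Fin 5) F)) :=
  faithful_vecOf h (ix_fin 5) hP hV zv3
theorem c1 {F : Type*} [Field F] {el : ℕ → F} (h : FC (tabP 2) el) : Ctx P (vecOf el (Fin.val : Fin 5 → ℕ) (tabP 2).q P.N V) (ext (List.map (glF el (Fin.val : Fin 5 → ℕ)) ms) ws) ns D chk :=
  ctx (base h) (faith h) fun _ _ => trivial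

theorem G_c : P.chainB ns D G_vs [[10], [12]] = true :=
  zc5

theorem G_o : prodL G_vs 1 = 9999360 := by decide +kernel

theorem G_lb (c : Ctx P e gs ns D chk) :
    LB (subW gs [[10], [12]]) 9999360 :=
  c.lb G_c G_o

end
end CL.Std.SL52.M

namespace CL.Std.SL52
open CL.PG

def P : Par := ⟨31, 32, 5, 3⟩
theorem hP : P.Ok := by decide
noncomputable def a0 : Net := (.cons 16 (nat_lit 0xccb3)
 (.cons 8 (nat_lit 0x9e009e)
 (.cons 4 (nat_lit 0xc030906)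
 (.cons 2 (nat_lit 0x3333)
 (.cons 1 (nat_lit 0x44444444)
 (.cons 2 (nat_lit 0x22222222)
 (.cons 8 (nat_lit 0x800080)
 (.cons 16 (nat_lit 0x8000)
 .nil))))))))
noncomputable def a1 : Net := (.cons 16 (nat_lit 0x87f8)
 (.cons 8 (nat_lit 0xf800f8)
 (.cons 4 (nat_lit 0xe0e0e0e)
 (.cons 1 (nat_lit 0x50050550)
 (.cons 4 (nat_lit 0x8080808)
 (.cons 8 (nat_lit 0x800080)
 (.cons 16 (nat_lit 0x8000)
 .nil)))))))
noncomputable def a2 : Net := (.cons 16 (nat_lit 0x7e80)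
 (.cons 8 (nat_lit 0x60001e)
 (.cons 4 (nat_lit 0x80908)
 (.cons 2 (nat_lit 0x20222322)
 (.cons 1 (nat_lit 0x40411514)
 (.cons 2 (nat_lit 0x20222022)
 (.cons 4 (nat_lit 0x80008)
 (.cons 16 (nat_lit 0x7e80)
 .nil))))))))
noncomputable def a3 : Net := (.cons 16 (nat_lit 0xf878)
 (.cons 8 (nat_lit 0x5e0040)
 (.cons 4 (nat_lit 0x7080708)
 (.cons 2 (nat_lit 0x33330000)
 (.cons 1 (nat_lit 0x50050550)
 (.cons 8 (nat_lit 0x700070)
 (.cons 16 (nat_lit 0x8000)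
 .nil)))))))
noncomputable def a4 : Net := (.cons 16 (nat_lit 0xff80)
 (.cons 8 (nat_lit 0x7f0080)
 (.cons 4 (nat_lit 0x7070808)
 (.cons 2 (nat_lit 0x30030330)
 (.cons 1 (nat_lit 0x5500550)
 (.cons 4 (nat_lit 0x8080808)
 (.cons 8 (nat_lit 0x800080)
 (.cons 16 (nat_lit 0x8000)
 .nil))))))))
noncomputable def a5 : Net := (.cons 16 (nat_lit 0x2000)
 (.cons 8 (nat_lit 0x5f0000)
 (.cons 4 (nat_lit 0x5050000)
 (.cons 2 (nat_lit 0x13332000)
 (.cons 16 (nat_lit 0x5f80)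
 .nil)))))
noncomputable def a6 : Net := (.cons 16 (nat_lit 0x2000)
 (.cons 8 (nat_lit 0xfe00e0)
 (.cons 4 (nat_lit 0x3050900)
 (.cons 2 (nat_lit 0x10332300)
 (.cons 1 (nat_lit 0x15401540)
 (.cons 2 (nat_lit 0x20202020)
 (.cons 8 (nat_lit 0xe000e0)
 (.cons 16 (nat_lit 0x3f80)
 .nil))))))))
noncomputable def a7 : Net := (.cons 16 (nat_lit 0x8000)
 (.cons 8 (nat_lit 0x7f0080)
 (.cons 4 (nat_lit 0xc0c00)
 (.cons 1 (nat_lit 0x555500)
 (.cons 8 (nat_lit 0x800080)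
 (.cons 16 (nat_lit 0x8000)
 .nil))))))
noncomputable def a8 : Net := (.cons 16 (nat_lit 0x8000)
 (.cons 8 (nat_lit 0x880000)
 (.cons 4 (nat_lit 0xf0f0000)
 (.cons 16 (nat_lit 0x8000)
 .nil))))
noncomputable def a9 : Net := (.cons 16 (nat_lit 0x8000)
 (.cons 8 (nat_lit 0x840000)
 (.cons 4 (nat_lit 0xc0c0000)
 (.cons 1 (nat_lit 0x55550000)
 (.cons 16 (nat_lit 0x8000)
 .nil)))))
noncomputable def a10 : Net := (.cons 16 (nat_lit 0x8000)
 (.cons 8 (nat_lit 0xff0000)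
 (.cons 16 (nat_lit 0x8000)
 .nil)))
noncomputable def a11 : Net := (.cons 16 (nat_lit 0x8000)
 (.cons 8 (nat_lit 0x810000)
 (.cons 4 (nat_lit 0x9090000)
 (.cons 2 (nat_lit 0x33330000)
 (.cons 1 (nat_lit 0x55550000)
 (.cons 16 (nat_lit 0x8000)
 .nil))))))
noncomputable def ns0 : List Net := [a0, a1]
noncomputable def ws : List (List ℕ) :=
  [W (nat_lit 0x40100401),
  W (nat_lit 0xc03014030180600c06),
  W (nat_lit 0x100500c0300c0301804),
  W (nat_lit 0x280a0280a),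
  W (nat_lit 0x28070240902408),
  W (nat_lit 0x20080240802008),
  W (nat_lit 0xd02c100380c0400c),
  W (nat_lit 0x4010),
  W (nat_lit 0xf0380f03c0d),
  W (nat_lit 0xb0400c0380e03c0c)]
noncomputable def ns : List Net := [a0, a1, a2, a3, a4, a5, a6, a7, a8, a9, a10, a11]
noncomputable def D : List (ℕ × List ℕ) := app [] (mkDefs ws 2)
noncomputable def chk : List (List ℕ × List ℕ) → Bool := P.relsB ns
noncomputable def G_v0 : Lev :=
  ⟨0, 31, sg (W (nat_lit 0xc0100403004030040300401)), [[4], [2]], 0, 1⟩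
noncomputable def G_v1 : Lev :=
  ⟨1, 30, sg (W (nat_lit 0x300c030140300c0500c05)), [[6], [8]], 1, 2⟩
noncomputable def G_v2 : Lev :=
  ⟨3, 28, sg (W (nat_lit 0x2407024070240702407)), [[10], [12], [14]], 3, 3⟩
noncomputable def G_v3 : Lev :=
  ⟨7, 24, sg (W (nat_lit 0x2c0f0340f0340b)), [[16], [18], [20], [22]], 6, 4⟩
noncomputable def G_v4 : Lev :=
  ⟨15, 16, sg (W (nat_lit 0x5c1504c11)), [], 10, 0⟩
noncomputable def G_vs5 : List Lev :=
  []
noncomputable def G_vs4 : List Lev :=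
  G_v4 :: G_vs5
noncomputable def G_vs3 : List Lev :=
  G_v3 :: G_vs4
noncomputable def G_vs2 : List Lev :=
  G_v2 :: G_vs3
noncomputable def G_vs1 : List Lev :=
  G_v1 :: G_vs2
noncomputable def G_vs : List Lev :=
  G_v0 :: G_vs1
noncomputable def zE1 : Net :=
  .nil
noncomputable def zK2 : Lk :=
  ⟨zE1, 1, 3, 1⟩

theorem zc0 : P.chainB ns D G_vs [[0], [2]] = true := by decide +kernel
theorem zl3 : zK2.relB CL.Std.SL52.M.P CL.Std.SL52.P CL.Std.SL52.M.ns [[10], [12]] [[0], [2]] = true := by decide +kernel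
theorem zl4 : allL (zK2.pl CL.Std.SL52.M.P CL.Std.SL52.P CL.Std.SL52.M.ns CL.Std.SL52.ns 0) (zp [] [[10], [12]] [[0], [2]]) = true := by decide +kernel
theorem zk5 : allL (keepB P.n P.N) ns0 = true := by decide +kernel
theorem ze6 : extB ns0 ns 2 ws [] = true := by decide +kernel
theorem zn7 : P.netsB ns (mkDefs ws 2) = true := by decide +kernel

section
variable {G X : Type*} [Group G] [MulAction G X] {e : ℕ → X} {gs : List G}

theorem keep0 : allL (keepB P.n P.N) ns0 = true := zk5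

theorem len {k} (c : Ctx P e gs ns0 [] k) : gs.length = 2 := c.len ze6

theorem ctx0 {k} (c : Ctx P e gs ns0 [] k) : Ctx P e (ext gs ws) ns D chk0 :=
  c.ext rfl ze6 zn7

theorem ctx {k} (c : Ctx P e gs ns0 [] k) {H : Subgroup G} (hF : Faithful e P.n H) (hH : ∀ g ∈ gs, g ∈ H) :
    Ctx P e (ext gs ws) ns D chk :=
  (ctx0 c).withB hF (mem_of_mem_ext hH _)

instance instNe : NeZero P.n := ⟨by decide⟩
noncomputable def gs0 : List (Equiv.Perm (Fin P.n)) := permsOf P.n P.N ns0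
noncomputable def gs1 : List (Equiv.Perm (Fin P.n)) := ext gs0 ws
theorem c1 : Ctx P (eF P.n) gs1 ns D chk :=
  ctx (ctx_permsOf hP keep0) (faithful_eF _) fun _ _ => trivial

theorem G_c : P.chainB ns D G_vs [[0], [2]] = true :=
  zc0

theorem G_o : prodL G_vs 1 = 9999360 := by decide +kernel

theorem G_lb (c : Ctx P e gs ns D chk) :
    LB (subW gs [[0], [2]]) 9999360 :=
  c.lb G_c G_o

theorem rel {Γ Y : Type*} [Group Γ] [MulAction Γ Y] {e' : ℕ → Y} {cs : List Γ} {D₁ D₂ : List (ℕ × List ℕ)}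
    {k₁ k₂ : List (List ℕ × List ℕ) → Bool} (c : Ctx CL.Std.SL52.M.P e gs CL.Std.SL52.M.ns D₁ k₁) (c' : Ctx CL.Std.SL52.P e' cs CL.Std.SL52.ns D₂ k₂)
    (hF : Faithful e' CL.Std.SL52.P.n (subW cs [[0], [2]])) :
    RelLe gs [[10], [12]] cs [[0], [2]] :=
  c.relLe (K := zK2) c' hF zl3 (fun (t : ℕ) (ht : t < 1) => match t, ht with
    | 0, _ => zl4
    | t + 1, h => absurd h (by omega))

theorem iso {F : Type*} [Field F] [Fintype F] (hF : Fintype.card F = 2) :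
    Nonempty ((subW gs1 [[0], [2]]) ≃* Matrix.SpecialLinearGroup (Fin 5) F) := by
  obtain ⟨el, h⟩ := Tab.exists_fc (tabP 2) (by decide +kernel) F hF
  have hc : Nat.card (Matrix.SpecialLinearGroup (Fin 5) F) = 9999360 := card_sl hF 5 (by decide +kernel)
  have hK := subW_eq_range (l := [[10], [12]]) Matrix.SpecialLinearGroup.toGL Matrix.SpecialLinearGroup.toGL_injective hc (by norm_num)
    (subW_le_of_forall (mem_of_mem_ext (forall_mem_SL h (ix_fin 5) M.hinv M.zv4) _) _) (M.G_lb (M.c1 h))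
  exact (rel (M.c1 h) c1 ((faithful_eF _).mono le_top)).iso_of_range Matrix.SpecialLinearGroup.toGL Matrix.SpecialLinearGroup.toGL_injective hc (by norm_num) hK (G_lb c1)
theorem card : Nat.card (subW gs1 [[0], [2]]) = 9999360 := by
  obtain ⟨F, _, _, hF⟩ := exists_field 2 1 (by norm_num)
  replace hF : Fintype.card F = 2 := hF
  obtain ⟨el, h⟩ := Tab.exists_fc (tabP 2) (by decide +kernel) F hF
  exact (Nat.card_congr (iso hF).some.toEquiv).trans (card_sl hF 5 (by decide +kernel))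
theorem ub : UB (subW gs1 [[0], [2]]) 9999360 := UB.of_card card (by norm_num)

end
end CL.Std.SL52

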