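/-
Isomorphic Sylow 2-subgroups: `A_8` and `PSp_4(3)`, `S_8` and `O_6^-(2)`.
Generated by tools/pg.
-/
import Cfsg.Agent.Spor.PGCtx
import Cfsg.Agent.Spor.PGSub
import Cfsg.Agent.Spor.PGTop2
import Cfsg.Agent.Spor.StdO6m2
import Cfsg.Agent.Spor.StdPS43
import Cfsg.Agent.Spor.StdSym

set_option autoImplicit false
set_option maxRecDepth 200000
set_option Elab.async false
set_option linter.unusedVariables false

namespace CL.SylIso.PS43
open CL.PG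

noncomputable def xa12 : Net := (.cons 20 (nat_lit 0x95233)
 (.cons 10 (nat_lit 0x1e00328)
 (.cons 5 (nat_lit 0x381f0140d)
 (.cons 1 (nat_lit 0x2100020)
 (.cons 1 (nat_lit 0x509421014a)
 (.cons 1 (nat_lit 0x21084280a4)
 (.cons 1 (nat_lit 0x5214a1294a)
 (.cons 1 (nat_lit 0x902408481)
 (.cons 5 (nat_lit 0xc0481c)
 (.cons 10 (nat_lit 0x27800152)
 (.cons 20 (nat_lit 0x800)
 .nil)))))))))))
noncomputable def xa13 : Net := (.cons 20 (nat_lit 0xf8e7f)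
 (.cons 10 (nat_lit 0xc600038)
 (.cons 5 (nat_lit 0x40080001a)
 (.cons 1 (nat_lit 0x80000a0)
 (.cons 1 (nat_lit 0x1014040140)
 (.cons 1 (nat_lit 0x200a4280a1)
 (.cons 1 (nat_lit 0x4014a5014a)
 (.cons 1 (nat_lit 0x280a100084)
 (.cons 5 (nat_lit 0x1a04008)
 (.cons 10 (nat_lit 0x38000c6)
 (.cons 20 (nat_lit 0x7180)
 .nil)))))))))))
noncomputable def xa14 : Net := (.cons 20 (nat_lit 0xf491d)
 (.cons 10 (nat_lit 0x12c0005c)
 (.cons 5 (nat_lit 0x401607400)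
 (.cons 1 (nat_lit 0x2000420)
 (.cons 1 (nat_lit 0x29484084a)
 (.cons 1 (nat_lit 0x210a529485)
 (.cons 1 (nat_lit 0x1294a5294a)
 (.cons 1 (nat_lit 0x800121420)
 (.cons 5 (nat_lit 0x780404808)
 (.cons 10 (nat_lit 0x1b80001c)
 (.cons 20 (nat_lit 0x41116)
 .nil)))))))))))
noncomputable def xa15 : Net := (.cons 20 (nat_lit 0x7a21)
 (.cons 10 (nat_lit 0x3660016c)
 (.cons 5 (nat_lit 0x601502013)
 (.cons 1 (nat_lit 0x2000020000)
 (.cons 1 (nat_lit 0x5000050140)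
 (.cons 1 (nat_lit 0x2800029084)
 (.cons 1 (nat_lit 0x5280252948)
 (.cons 1 (nat_lit 0x2002021005)
 (.cons 5 (nat_lit 0x700002012)
 (.cons 10 (nat_lit 0x3e00016c)
 (.cons 20 (nat_lit 0x1fa20)
 .nil)))))))))))
noncomputable def xa16 : Net := (.cons 20 (nat_lit 0x32bdb)
 (.cons 10 (nat_lit 0x3600272)
 (.cons 5 (nat_lit 0x740f0640f)
 (.cons 1 (nat_lit 0xa00140)
 (.cons 1 (nat_lit 0x902409481)
 (.cons 1 (nat_lit 0x5094a1294a)
 (.cons 1 (nat_lit 0x2842420481)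
 (.cons 5 (nat_lit 0x181000810)
 (.cons 10 (nat_lit 0x25200032)
 (.cons 20 (nat_lit 0x8d024)
 .nil))))))))))
noncomputable def xa17 : Net := (.cons 20 (nat_lit 0x8f1d3)
 (.cons 10 (nat_lit 0x8e000f8)
 (.cons 5 (nat_lit 0x18190381c)
 (.cons 1 (nat_lit 0x800020004)
 (.cons 1 (nat_lit 0x501485004a)
 (.cons 1 (nat_lit 0x204a429085)
 (.cons 1 (nat_lit 0x509425210a)
 (.cons 1 (nat_lit 0x48001085)
 (.cons 5 (nat_lit 0x501005806)
 (.cons 10 (nat_lit 0xde001c2)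
 (.cons 20 (nat_lit 0x8e0b6)
 .nil)))))))))))
noncomputable def xws : List (List ℕ) :=
  [W (nat_lit 0x3c0c038050300101006),
  W (nat_lit 0x400b0380600809),
  W (nat_lit 0x400c0240501c0101c0e),
  W (nat_lit 0x781e),
  W (nat_lit 0x7c1d06c1d),
  W (nat_lit 0x1b0641b)]
noncomputable def xns : List Net := [CL.Std.PS43.a0, CL.Std.PS43.a1, CL.Std.PS43.a2, CL.Std.PS43.a3, CL.Std.PS43.a4, CL.Std.PS43.a5, CL.Std.PS43.a6, CL.Std.PS43.a7, CL.Std.PS43.a8, CL.Std.PS43.a9, CL.Std.PS43.a10, CL.Std.PS43.a11, xa12, xa13, xa14, xa15, xa16, xa17]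
noncomputable def xD : List (ℕ × List ℕ) := app CL.Std.PS43.D (mkDefs xws 12)
noncomputable def xchk : List (List ℕ × List ℕ) → Bool := CL.Std.PS43.P.relsB xns
noncomputable def xP_ps : List PcG :=
  [⟨[28], 2, [30], [[26], [32], [34], W (nat_lit 0x7c19), [30]]⟩,
  ⟨[32], 2, [], [[26], W (nat_lit 0x7c19), W (nat_lit 0x7c23), [30]]⟩,
  ⟨[26], 2, [], [[24], [34], [30]]⟩,
  ⟨[34], 2, [30], [[24], [30]]⟩,
  ⟨[24], 2, [30], [[30]]⟩,
  ⟨[30], 2, [], []⟩]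
noncomputable def xP_v0 : Lev :=
  ⟨7, 8, sg (W (nat_lit 0x6c1d0641b)), [[24], [28]], 13, 0⟩
noncomputable def xP_v1 : Lev :=
  ⟨10, 4, sg (W (nat_lit 0x7419)), [[30]], 13, 1⟩
noncomputable def xP_v2 : Lev :=
  ⟨0, 2, sg [30], [], 14, 0⟩
noncomputable def xP_vs3 : List Lev :=
  []
noncomputable def xP_vs2 : List Lev :=
  xP_v2 :: xP_vs3
noncomputable def xP_vs1 : List Lev :=
  xP_v1 :: xP_vs2
noncomputable def xP_vs : List Lev :=
  xP_v0 :: xP_vs1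

theorem xzr0 : xchk (pcsR xP_ps []) = true := by decide +kernel
theorem xzb1 : bnd (pcsB xD xP_ps []) (leB (app xD []) [[24], [26], [28]] (pcGens xP_ps [])) = true := by decide +kernel
theorem xzc2 : CL.Std.PS43.P.chainB xns xD xP_vs [[24], [26], [28]] = true := by decide +kernel
theorem xze3 : extB CL.Std.PS43.ns xns 12 xws CL.Std.PS43.D = true := by decide +kernel
theorem xzn4 : CL.Std.PS43.P.netsB xns (mkDefs xws 12) = true := by decide +kernel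

section
variable {G X : Type*} [Group G] [MulAction G X] {e : ℕ → X} {gs : List G}

theorem xlen {k} (c : Ctx CL.Std.PS43.P e gs CL.Std.PS43.ns CL.Std.PS43.D k) : gs.length = 12 := c.len xze3

theorem xctx0 {k} (c : Ctx CL.Std.PS43.P e gs CL.Std.PS43.ns CL.Std.PS43.D k) : Ctx CL.Std.PS43.P e (ext gs xws) xns xD chk0 :=
  c.ext rfl xze3 xzn4

theorem xctx {k} (c : Ctx CL.Std.PS43.P e gs CL.Std.PS43.ns CL.Std.PS43.D k) {H : Subgroup G} (hF : Faithful e CL.Std.PS43.P.n H) (hH : ∀ g ∈ gs, g ∈ H) :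
    Ctx CL.Std.PS43.P e (ext gs xws) xns xD xchk :=
  (xctx0 c).withB hF (mem_of_mem_ext hH _)

theorem xP_pr (c : Ctx CL.Std.PS43.P e gs xns xD xchk) :
    Rels gs (pcsR xP_ps []) :=
  (c.rels _ xzr0)

theorem xP_pe (c : Ctx CL.Std.PS43.P e gs xns xD xchk) :
    Rels gs (defRels []) :=
  (Rels.nil _)

theorem xP_pb : bnd (pcsB xD xP_ps []) (leB (app xD []) [[24], [26], [28]] (pcGens xP_ps [])) = true := xzb1

theorem xP_ub (c : Ctx CL.Std.PS43.P e gs xns xD xchk) :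
    UB (subW gs [[24], [26], [28]]) 64 :=
  c.pcs (UB.nil gs) (xP_pe c) (xP_pr c) xP_pb (by decide +kernel)

theorem xP_c : CL.Std.PS43.P.chainB xns xD xP_vs [[24], [26], [28]] = true :=
  xzc2

theorem xP_o : prodL xP_vs 1 = 64 := by decide +kernel

theorem xP_lb (c : Ctx CL.Std.PS43.P e gs xns xD xchk) :
    LB (subW gs [[24], [26], [28]]) 64 :=
  c.lb xP_c xP_o

theorem xP_card (c : Ctx CL.Std.PS43.P e gs xns xD xchk) :
    Nat.card (subW gs [[24], [26], [28]]) = 64 :=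
  (xP_ub c).card_eq (xP_lb c)

theorem xtop {Γ : Type*} [Group Γ] (f : Nonempty (subW CL.Std.PS43.gs1 [[0], [2]] ≃* Γ)) :
    ∃ (_ : MulAction Γ (Fin CL.Std.PS43.P.n)) (cs : List Γ), Top CL.Std.PS43.P xns xD xchk [[0], [2]] 25920 (eF CL.Std.PS43.P.n) cs := by
  obtain ⟨_, cs, t⟩ := CL.Std.PS43.c1.exists_top (b := 12) (by decide +kernel) (by decide +kernel) ((faithful_eF _).mono le_top) CL.Std.PS43.card (by norm_num) f
  exact ⟨_, _, t.ext (xctx t.c t.fa fun _ _ => trivial) (b := 12) (by decide +kernel) (by decide +kernel)⟩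

end
end CL.SylIso.PS43

namespace CL.SylIso.A8.Aux.T
open CL.PG

def P : Par := ⟨8, 8, 3, 2⟩
theorem hP : P.Ok := by decide
noncomputable def a0 : Net := (.cons 4 (nat_lit 0x9)
 (.cons 2 (nat_lit 0x21)
 (.cons 1 (nat_lit 0x41)
 .nil)))
noncomputable def a1 : Net := (.cons 4 (nat_lit 0xb)
 (.cons 2 (nat_lit 0x11)
 (.cons 1 (nat_lit 0x14)
 (.cons 2 (nat_lit 0x22)
 (.cons 4 (nat_lit 0x4)
 .nil)))))
noncomputable def a2 : Net := (.cons 4 (nat_lit 0x2)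
 (.cons 2 (nat_lit 0x23)
 (.cons 1 (nat_lit 0x11)
 (.cons 2 (nat_lit 0x2)
 (.cons 4 (nat_lit 0x4)
 .nil)))))
noncomputable def a3 : Net := (.cons 4 (nat_lit 0xc)
 (.cons 2 (nat_lit 0x20)
 (.cons 1 (nat_lit 0x4)
 (.cons 4 (nat_lit 0xc)
 .nil))))
noncomputable def a4 : Net := (.cons 4 (nat_lit 0x6)
 (.cons 2 (nat_lit 0x2)
 (.cons 1 (nat_lit 0x14)
 (.cons 4 (nat_lit 0xe)
 .nil))))
noncomputable def a5 : Net := (.cons 4 (nat_lit 0xc)
 (.cons 2 (nat_lit 0x20)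
 (.cons 1 (nat_lit 0x4)
 (.cons 4 (nat_lit 0xc)
 .nil))))
noncomputable def a6 : Net := (.cons 4 (nat_lit 0x4)
 (.cons 2 (nat_lit 0x20)
 (.cons 1 (nat_lit 0x4)
 (.cons 4 (nat_lit 0x4)
 .nil))))
noncomputable def ns0 : List Net := [a0, a1, a2]
noncomputable def ws : List (List ℕ) :=
  [W (nat_lit 0x201002),
  W (nat_lit 0x140401802),
  W (nat_lit 0xa0200a),
  W (nat_lit 0x20090200a)]
noncomputable def ns : List Net := [a0, a1, a2, a3, a4, a5, a6]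
noncomputable def D : List (ℕ × List ℕ) := app [] (mkDefs ws 3)
noncomputable def chk : List (List ℕ × List ℕ) → Bool := P.relsB ns
noncomputable def G_v0 : Lev :=
  ⟨0, 8, sg (W (nat_lit 0x500c01)), [[6], [8]], 0, 2⟩
noncomputable def G_v1 : Lev :=
  ⟨1, 2, sg [8], [[10], [12]], 2, 2⟩
noncomputable def G_v2 : Lev :=
  ⟨3, 4, sg (W (nat_lit 0x340b)), [], 4, 0⟩
noncomputable def G_vs3 : List Lev :=
  []
noncomputable def G_vs2 : List Lev :=
  G_v2 :: G_vs3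
noncomputable def G_vs1 : List Lev :=
  G_v1 :: G_vs2
noncomputable def G_vs : List Lev :=
  G_v0 :: G_vs1

theorem zc0 : P.chainB ns D G_vs [[0], [2], [4]] = true := by decide +kernel
theorem zk1 : allL (keepB P.n P.N) ns0 = true := by decide +kernel
theorem ze2 : extB ns0 ns 3 ws [] = true := by decide +kernel
theorem zn3 : P.netsB ns (mkDefs ws 3) = true := by decide +kernel

section
variable {G X : Type*} [Group G] [MulAction G X] {e : ℕ → X} {gs : List G}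

theorem keep0 : allL (keepB P.n P.N) ns0 = true := zk1

theorem len {k} (c : Ctx P e gs ns0 [] k) : gs.length = 3 := c.len ze2

theorem ctx0 {k} (c : Ctx P e gs ns0 [] k) : Ctx P e (ext gs ws) ns D chk0 :=
  c.ext rfl ze2 zn3

theorem ctx {k} (c : Ctx P e gs ns0 [] k) {H : Subgroup G} (hF : Faithful e P.n H) (hH : ∀ g ∈ gs, g ∈ H) :
    Ctx P e (ext gs ws) ns D chk :=
  (ctx0 c).withB hF (mem_of_mem_ext hH _)

instance instNe : NeZero P.n := ⟨by decide⟩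
noncomputable def gs0 : List (Equiv.Perm (Fin P.n)) := permsOf P.n P.N ns0
noncomputable def gs1 : List (Equiv.Perm (Fin P.n)) := ext gs0 ws
theorem c1 : Ctx P (eF P.n) gs1 ns D chk :=
  ctx (ctx_permsOf hP keep0) (faithful_eF _) fun _ _ => trivial

theorem G_c : P.chainB ns D G_vs [[0], [2], [4]] = true :=
  zc0

theorem G_o : prodL G_vs 1 = 64 := by decide +kernel

theorem G_lb (c : Ctx P e gs ns D chk) :
    LB (subW gs [[0], [2], [4]]) 64 :=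
  c.lb G_c G_o

end
end CL.SylIso.A8.Aux.T

namespace CL.SylIso.A8.Aux.S
open CL.PG

def P : Par := ⟨48, 48, 6, 3⟩
theorem hP : P.Ok := by decide
noncomputable def a0 : Net := (.cons 24 (nat_lit 0x7a9b5c)
 (.cons 12 (nat_lit 0xec9000b99)
 (.cons 6 (nat_lit 0x3103602b034)
 (.cons 3 (nat_lit 0x1440071c1)
 (.cons 1 (nat_lit 0x48000001009)
 (.cons 1 (nat_lit 0x90402002092)
 (.cons 1 (nat_lit 0x249041049048)
 (.cons 3 (nat_lit 0x80182082102)
 (.cons 6 (nat_lit 0x2026030004)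
 (.cons 12 (nat_lit 0xbf8000b9a)
 (.cons 24 (nat_lit 0x3696a6)
 .nil)))))))))))
noncomputable def a1 : Net := (.cons 24 (nat_lit 0xdcf20b)
 (.cons 12 (nat_lit 0xdf7000461)
 (.cons 6 (nat_lit 0x4015025020)
 (.cons 3 (nat_lit 0xc71060c6143)
 (.cons 1 (nat_lit 0x8009000041)
 (.cons 1 (nat_lit 0x490012480482)
 (.cons 1 (nat_lit 0x209040241009)
 (.cons 3 (nat_lit 0x84080000100)
 (.cons 6 (nat_lit 0x2001a02a004)
 (.cons 12 (nat_lit 0xb1e000288)
 (.cons 24 (nat_lit 0x290d34)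
 .nil)))))))))))
noncomputable def a2 : Net := (.cons 24 (nat_lit 0xc3f6a1)
 (.cons 12 (nat_lit 0x21b0009f7)
 (.cons 6 (nat_lit 0x3f00802b010)
 (.cons 3 (nat_lit 0x3105187101)
 (.cons 1 (nat_lit 0x208040248000)
 (.cons 1 (nat_lit 0x410482492080)
 (.cons 1 (nat_lit 0x209048208048)
 (.cons 3 (nat_lit 0x102084086182)
 (.cons 6 (nat_lit 0x10018000008)
 (.cons 12 (nat_lit 0xe8000cae)
 (.cons 24 (nat_lit 0xead052)
 .nil)))))))))))
noncomputable def a3 : Net := (.cons 24 (nat_lit 0x30c810)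
 (.cons 12 (nat_lit 0x22c000410)
 (.cons 6 (nat_lit 0x3a034004028)
 (.cons 3 (nat_lit 0x11030011c0)
 (.cons 1 (nat_lit 0x241000040200)
 (.cons 1 (nat_lit 0x492080090480)
 (.cons 1 (nat_lit 0x248009240048)
 (.cons 3 (nat_lit 0x6100000000)
 (.cons 6 (nat_lit 0x12030004028)
 (.cons 12 (nat_lit 0x22c000410)
 (.cons 24 (nat_lit 0x30c010)
 .nil)))))))))))
noncomputable def a4 : Net := (.cons 24 (nat_lit 0x3f7b04)
 (.cons 12 (nat_lit 0x9be000b7e)
 (.cons 6 (nat_lit 0x3801803e010)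
 (.cons 3 (nat_lit 0x1430c30c7082)
 (.cons 1 (nat_lit 0x40008001208)
 (.cons 1 (nat_lit 0x480012012410)
 (.cons 1 (nat_lit 0x200001008248)
 (.cons 3 (nat_lit 0x80004000080)
 (.cons 6 (nat_lit 0x3801803e010)
 (.cons 12 (nat_lit 0x1be000b7a)
 (.cons 24 (nat_lit 0x2f7b04)
 .nil)))))))))))
noncomputable def a5 : Net := (.cons 24 (nat_lit 0xa02910)
 (.cons 12 (nat_lit 0x4e000400)
 (.cons 6 (nat_lit 0x3401a00a038)
 (.cons 3 (nat_lit 0xc5101144040)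
 (.cons 1 (nat_lit 0x40)
 (.cons 1 (nat_lit 0x492012080490)
 (.cons 1 (nat_lit 0x200)
 (.cons 3 (nat_lit 0x100180)
 (.cons 6 (nat_lit 0x18008038)
 (.cons 12 (nat_lit 0xc8000400)
 (.cons 24 (nat_lit 0x280910)
 .nil)))))))))))
noncomputable def a6 : Net := (.cons 24 (nat_lit 0x30c810)
 (.cons 12 (nat_lit 0x22c000410)
 (.cons 6 (nat_lit 0x3a034004028)
 (.cons 3 (nat_lit 0x11030011c0)
 (.cons 1 (nat_lit 0x241000040200)
 (.cons 1 (nat_lit 0x492080090480)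
 (.cons 1 (nat_lit 0x248009240048)
 (.cons 3 (nat_lit 0x6100000000)
 (.cons 6 (nat_lit 0x12030004028)
 (.cons 12 (nat_lit 0x22c000410)
 (.cons 24 (nat_lit 0x30c010)
 .nil)))))))))))
noncomputable def a7 : Net := (.cons 24 (nat_lit 0x35fb08)
 (.cons 12 (nat_lit 0x2c500020c)
 (.cons 6 (nat_lit 0x1c01f00003c)
 (.cons 3 (nat_lit 0x801441471c4)
 (.cons 1 (nat_lit 0x41201009000)
 (.cons 1 (nat_lit 0x92482492480)
 (.cons 1 (nat_lit 0x241209041001)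
 (.cons 3 (nat_lit 0x186182080000)
 (.cons 6 (nat_lit 0x802800802c)
 (.cons 12 (nat_lit 0x5a2000c50)
 (.cons 24 (nat_lit 0xd49440)
 .nil)))))))))))
noncomputable def a8 : Net := (.cons 24 (nat_lit 0xab2a71)
 (.cons 12 (nat_lit 0x5ad000d21)
 (.cons 6 (nat_lit 0x2801800c038)
 (.cons 3 (nat_lit 0x4104182140)
 (.cons 1 (nat_lit 0x48201001)
 (.cons 1 (nat_lit 0x402490402402)
 (.cons 1 (nat_lit 0x201208009248)
 (.cons 3 (nat_lit 0x102100106000)
 (.cons 6 (nat_lit 0xc034004004)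
 (.cons 12 (nat_lit 0xcd8000300)
 (.cons 24 (nat_lit 0x90d33c)
 .nil)))))))))))
noncomputable def a9 : Net := (.cons 24 (nat_lit 0xe53348)
 (.cons 12 (nat_lit 0x682000948)
 (.cons 6 (nat_lit 0x1803c000023)
 (.cons 3 (nat_lit 0x1010c2007180)
 (.cons 1 (nat_lit 0x1209240)
 (.cons 1 (nat_lit 0x2412482)
 (.cons 1 (nat_lit 0x200009249201)
 (.cons 3 (nat_lit 0x2100006)
 (.cons 6 (nat_lit 0x1801c000014)
 (.cons 12 (nat_lit 0x282000248)
 (.cons 24 (nat_lit 0xe53348)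
 .nil)))))))))))
noncomputable def ns0 : List Net := [a0, a1, a2]
noncomputable def ws : List (List ℕ) :=
  [W (nat_lit 0x30180101402),
  W (nat_lit 0x40140300405),
  W (nat_lit 0xa01c09),
  W (nat_lit 0x70280a),
  W (nat_lit 0xd02401),
  W (nat_lit 0xb03401),
  W (nat_lit 0x3403)]
noncomputable def ns : List Net := [a0, a1, a2, a3, a4, a5, a6, a7, a8, a9]
noncomputable def D : List (ℕ × List ℕ) := app [] (mkDefs ws 3)
noncomputable def chk : List (List ℕ × List ℕ) → Bool := P.relsB ns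
noncomputable def G_ps : List PcG :=
  [⟨[4], 2, [18], [[2], [14], [16], W (nat_lit 0x4c01), [18]]⟩,
  ⟨[14], 2, [], [[2], W (nat_lit 0x4c01), W (nat_lit 0x4c11), [18]]⟩,
  ⟨[2], 2, [], [[0], [16], [18]]⟩,
  ⟨[16], 2, [18], [[0], [18]]⟩,
  ⟨[0], 2, [18], [[18]]⟩,
  ⟨[18], 2, [], []⟩]
noncomputable def zE2 : Net :=
  .nil
noncomputable def zK3 : Lk :=
  ⟨zE2, 1, 2, 1⟩
noncomputable def zE6 : Net :=
  (.cons 24 (nat_lit 0xff)
 (.cons 12 (nat_lit 0xff0000ff)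
 (.cons 6 (nat_lit 0x3c03c03c03c)
 (.cons 3 (nat_lit 0xc30c30c30c3)
 (.cons 1 (nat_lit 0x492492492492)
 (.cons 1 (nat_lit 0x249249249249)
 .nil))))))
noncomputable def zK7 : Lk :=
  ⟨zE6, 1, 3, 1⟩

theorem zr0 : chk (pcsR G_ps []) = true := by decide +kernel
theorem zb1 : bnd (pcsB D G_ps []) (leB (app D []) [[0], [2], [4]] (pcGens G_ps [])) = true := by decide +kernel
theorem zl4 : zK3.relB CL.SylIso.A8.Aux.S.P CL.SylIso.A8.Aux.T.P CL.SylIso.A8.Aux.S.ns [[0], [2], [4]] [[0], [2], [4]] = true := by decide +kernel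
theorem zl5 : allL (zK3.pl CL.SylIso.A8.Aux.S.P CL.SylIso.A8.Aux.T.P CL.SylIso.A8.Aux.S.ns CL.SylIso.A8.Aux.T.ns 0) (zp [] [[0], [2], [4]] [[0], [2], [4]]) = true := by decide +kernel
theorem zl8 : zK7.relB CL.SylIso.A8.Aux.S.P CL.Std.PS43.P CL.SylIso.A8.Aux.S.ns [[0], [2], [4]] [[24], [26], [28]] = true := by decide +kernel
theorem zl9 : allL (zK7.pl CL.SylIso.A8.Aux.S.P CL.Std.PS43.P CL.SylIso.A8.Aux.S.ns CL.SylIso.PS43.xns 0) (zp [] [[0], [2], [4]] [[24], [26], [28]]) = true := by decide +kernel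
theorem zk10 : allL (keepB P.n P.N) ns0 = true := by decide +kernel
theorem ze11 : extB ns0 ns 3 ws [] = true := by decide +kernel
theorem zn12 : P.netsB ns (mkDefs ws 3) = true := by decide +kernel

section
variable {G X : Type*} [Group G] [MulAction G X] {e : ℕ → X} {gs : List G}

theorem keep0 : allL (keepB P.n P.N) ns0 = true := zk10

theorem len {k} (c : Ctx P e gs ns0 [] k) : gs.length = 3 := c.len ze11

theorem ctx0 {k} (c : Ctx P e gs ns0 [] k) : Ctx P e (ext gs ws) ns D chk0 :=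
  c.ext rfl ze11 zn12

theorem ctx {k} (c : Ctx P e gs ns0 [] k) {H : Subgroup G} (hF : Faithful e P.n H) (hH : ∀ g ∈ gs, g ∈ H) :
    Ctx P e (ext gs ws) ns D chk :=
  (ctx0 c).withB hF (mem_of_mem_ext hH _)

instance instNe : NeZero P.n := ⟨by decide⟩
noncomputable def gs0 : List (Equiv.Perm (Fin P.n)) := permsOf P.n P.N ns0
noncomputable def gs1 : List (Equiv.Perm (Fin P.n)) := ext gs0 ws
theorem c1 : Ctx P (eF P.n) gs1 ns D chk :=
  ctx (ctx_permsOf hP keep0) (faithful_eF _) fun _ _ => trivial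

theorem G_pr (c : Ctx P e gs ns D chk) :
    Rels gs (pcsR G_ps []) :=
  (c.rels _ zr0)

theorem G_pe (c : Ctx P e gs ns D chk) :
    Rels gs (defRels []) :=
  (Rels.nil _)

theorem G_pb : bnd (pcsB D G_ps []) (leB (app D []) [[0], [2], [4]] (pcGens G_ps [])) = true := zb1

theorem G_ub (c : Ctx P e gs ns D chk) :
    UB (subW gs [[0], [2], [4]]) 64 :=
  c.pcs (UB.nil gs) (G_pe c) (G_pr c) G_pb (by decide +kernel)

theorem toT {Γ Y : Type*} [Group Γ] [MulAction Γ Y] {e' : ℕ → Y} {cs : List Γ} {D₁ D₂ : List (ℕ × List ℕ)}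
    {k₁ k₂ : List (List ℕ × List ℕ) → Bool} (c : Ctx CL.SylIso.A8.Aux.S.P e gs CL.SylIso.A8.Aux.S.ns D₁ k₁) (c' : Ctx CL.SylIso.A8.Aux.T.P e' cs CL.SylIso.A8.Aux.T.ns D₂ k₂)
    (hF : Faithful e' CL.SylIso.A8.Aux.T.P.n (subW cs [[0], [2], [4]])) :
    RelLe gs [[0], [2], [4]] cs [[0], [2], [4]] :=
  c.relLe (K := zK3) c' hF zl4 (fun (t : ℕ) (ht : t < 1) => match t, ht with
    | 0, _ => zl5
    | t + 1, h => absurd h (by omega))

theorem toB {Γ Y : Type*} [Group Γ] [MulAction Γ Y] {e' : ℕ → Y} {cs : List Γ} {D₁ D₂ : List (ℕ × List ℕ)}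
    {k₁ k₂ : List (List ℕ × List ℕ) → Bool} (c : Ctx CL.SylIso.A8.Aux.S.P e gs CL.SylIso.A8.Aux.S.ns D₁ k₁) (c' : Ctx CL.Std.PS43.P e' cs CL.SylIso.PS43.xns D₂ k₂)
    (hF : Faithful e' CL.Std.PS43.P.n (subW cs [[24], [26], [28]])) :
    RelLe gs [[0], [2], [4]] cs [[24], [26], [28]] :=
  c.relLe (K := zK7) c' hF zl8 (fun (t : ℕ) (ht : t < 1) => match t, ht with
    | 0, _ => zl9
    | t + 1, h => absurd h (by omega))

theorem rel {Γ Y : Type*} [Group Γ] [MulAction Γ Y] {e' : ℕ → Y} {cs : List Γ} {D₂ : List (ℕ × List ℕ)}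
    {k₂ : List (List ℕ × List ℕ) → Bool} (c' : Ctx CL.Std.PS43.P e' cs CL.SylIso.PS43.xns D₂ k₂) (hF : Faithful e' CL.Std.PS43.P.n (subW cs [[24], [26], [28]])) :
    RelLe CL.SylIso.A8.Aux.T.gs1 [[0], [2], [4]] cs [[24], [26], [28]] :=
  ((toT c1 CL.SylIso.A8.Aux.T.c1 ((faithful_eF _).mono le_top)).symm_of_card (G_ub c1) (CL.SylIso.A8.Aux.T.G_lb CL.SylIso.A8.Aux.T.c1)).trans (toB c1 c' hF)

end
end CL.SylIso.A8.Aux.S

namespace CL.SylIso.A8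
open CL.PG

noncomputable def xa10 : Net := (.cons 4 (nat_lit 0xf)
 (.cons 2 (nat_lit 0x1)
 (.cons 1 (nat_lit 0x41)
 (.cons 2 (nat_lit 0x20)
 .nil))))
noncomputable def xa11 : Net := (.cons 4 (nat_lit 0x8)
 (.cons 2 (nat_lit 0x3)
 (.cons 1 (nat_lit 0x50)
 (.cons 4 (nat_lit 0x8)
 .nil))))
noncomputable def xa12 : Net := (.cons 2 (nat_lit 0x31)
 (.cons 1 (nat_lit 0x45)
 .nil))
noncomputable def xa13 : Net := (.cons 4 (nat_lit 0xc)
 (.cons 2 (nat_lit 0x2)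
 (.cons 1 (nat_lit 0x4)
 (.cons 2 (nat_lit 0x2)
 (.cons 4 (nat_lit 0x4)
 .nil)))))
noncomputable def xa14 : Net := (.cons 4 (nat_lit 0xc)
 (.cons 2 (nat_lit 0x2)
 (.cons 1 (nat_lit 0x14)
 (.cons 4 (nat_lit 0x4)
 .nil))))
noncomputable def xa15 : Net := (.cons 2 (nat_lit 0x2)
 (.cons 1 (nat_lit 0x40)
 .nil))
noncomputable def xa16 : Net := (.cons 4 (nat_lit 0x7)
 (.cons 2 (nat_lit 0x11)
 (.cons 1 (nat_lit 0x41)
 (.cons 2 (nat_lit 0x22)
 (.cons 4 (nat_lit 0x8)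
 .nil)))))
noncomputable def xa17 : Net := (.cons 4 (nat_lit 0xf)
 (.cons 2 (nat_lit 0x21)
 (.cons 1 (nat_lit 0x41)
 (.cons 2 (nat_lit 0x22)
 .nil))))
noncomputable def xa18 : Net := (.cons 2 (nat_lit 0x3)
 (.cons 1 (nat_lit 0x50)
 .nil))
noncomputable def xws : List (List ℕ) :=
  [W (nat_lit 0x4c0d040090340101008),
  W (nat_lit 0x4c0d040100240501402),
  W (nat_lit 0xd0401003001),
  W (nat_lit 0x1706419),
  W (nat_lit 0x64160601a),
  W (nat_lit 0x781e),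
  W (nat_lit 0x1f07415),
  W (nat_lit 0x7c15),
  W (nat_lit 0x7017)]
noncomputable def xns : List Net := [CL.Std.A8.a0, CL.Std.A8.a1, CL.Std.A8.a2, CL.Std.A8.a3, CL.Std.A8.a4, CL.Std.A8.a5, CL.Std.A8.a6, CL.Std.A8.a7, CL.Std.A8.a8, CL.Std.A8.a9, xa10, xa11, xa12, xa13, xa14, xa15, xa16, xa17, xa18]
noncomputable def xD : List (ℕ × List ℕ) := app CL.Std.A8.D (mkDefs xws 10)
noncomputable def xchk : List (List ℕ × List ℕ) → Bool := CL.Std.A8.P.relsB xns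
noncomputable def xP_ps : List PcG :=
  [⟨[24], 2, [36], [[22], [32], [34], W (nat_lit 0x9415), [36]]⟩,
  ⟨[32], 2, [], [[22], W (nat_lit 0x9415), W (nat_lit 0x9423), [36]]⟩,
  ⟨[22], 2, [], [[20], [34], [36]]⟩,
  ⟨[34], 2, [36], [[20], [36]]⟩,
  ⟨[20], 2, [36], [[36]]⟩,
  ⟨[36], 2, [], []⟩]
noncomputable def xP_v0 : Lev :=
  ⟨0, 8, sg (W (nat_lit 0x1905c15)), [[26], [28]], 11, 2⟩
noncomputable def xP_v1 : Lev :=
  ⟨4, 2, sg [28], [[30], [27]], 13, 1⟩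
noncomputable def xP_v2 : Lev :=
  ⟨1, 4, sg (W (nat_lit 0x701f)), [], 14, 0⟩
noncomputable def xP_vs3 : List Lev :=
  []
noncomputable def xP_vs2 : List Lev :=
  xP_v2 :: xP_vs3
noncomputable def xP_vs1 : List Lev :=
  xP_v1 :: xP_vs2
noncomputable def xP_vs : List Lev :=
  xP_v0 :: xP_vs1
noncomputable def xzE3 : Net :=
  (.cons 4 (nat_lit 0x6)
 (.cons 2 (nat_lit 0x20)
 (.cons 1 (nat_lit 0x4)
 (.cons 4 (nat_lit 0xc)
 .nil))))
noncomputable def xzK4 : Lk :=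
  ⟨xzE3, 1, 2, 1⟩

theorem xzr0 : xchk (pcsR xP_ps []) = true := by decide +kernel
theorem xzb1 : bnd (pcsB xD xP_ps []) (leB (app xD []) [[20], [22], [24]] (pcGens xP_ps [])) = true := by decide +kernel
theorem xzc2 : CL.Std.A8.P.chainB xns xD xP_vs [[20], [22], [24]] = true := by decide +kernel
theorem xzl5 : xzK4.relB CL.Std.A8.P CL.SylIso.A8.Aux.T.P CL.SylIso.A8.xns [[20], [22], [24]] [[0], [2], [4]] = true := by decide +kernel
theorem xzl6 : allL (xzK4.pl CL.Std.A8.P CL.SylIso.A8.Aux.T.P CL.SylIso.A8.xns CL.SylIso.A8.Aux.T.ns 0) (zp [] [[20], [22], [24]] [[0], [2], [4]]) = true := by decide +kernel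
theorem xze7 : extB CL.Std.A8.ns xns 10 xws CL.Std.A8.D = true := by decide +kernel
theorem xzn8 : CL.Std.A8.P.netsB xns (mkDefs xws 10) = true := by decide +kernel

section
variable {G X : Type*} [Group G] [MulAction G X] {e : ℕ → X} {gs : List G}

theorem xlen {k} (c : Ctx CL.Std.A8.P e gs CL.Std.A8.ns CL.Std.A8.D k) : gs.length = 10 := c.len xze7

theorem xctx0 {k} (c : Ctx CL.Std.A8.P e gs CL.Std.A8.ns CL.Std.A8.D k) : Ctx CL.Std.A8.P e (ext gs xws) xns xD chk0 :=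
  c.ext rfl xze7 xzn8

theorem xctx {k} (c : Ctx CL.Std.A8.P e gs CL.Std.A8.ns CL.Std.A8.D k) {H : Subgroup G} (hF : Faithful e CL.Std.A8.P.n H) (hH : ∀ g ∈ gs, g ∈ H) :
    Ctx CL.Std.A8.P e (ext gs xws) xns xD xchk :=
  (xctx0 c).withB hF (mem_of_mem_ext hH _)

theorem xP_pr (c : Ctx CL.Std.A8.P e gs xns xD xchk) :
    Rels gs (pcsR xP_ps []) :=
  (c.rels _ xzr0)

theorem xP_pe (c : Ctx CL.Std.A8.P e gs xns xD xchk) :
    Rels gs (defRels []) :=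
  (Rels.nil _)

theorem xP_pb : bnd (pcsB xD xP_ps []) (leB (app xD []) [[20], [22], [24]] (pcGens xP_ps [])) = true := xzb1

theorem xP_ub (c : Ctx CL.Std.A8.P e gs xns xD xchk) :
    UB (subW gs [[20], [22], [24]]) 64 :=
  c.pcs (UB.nil gs) (xP_pe c) (xP_pr c) xP_pb (by decide +kernel)

theorem xP_c : CL.Std.A8.P.chainB xns xD xP_vs [[20], [22], [24]] = true :=
  xzc2

theorem xP_o : prodL xP_vs 1 = 64 := by decide +kernel

theorem xP_lb (c : Ctx CL.Std.A8.P e gs xns xD xchk) :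
    LB (subW gs [[20], [22], [24]]) 64 :=
  c.lb xP_c xP_o

theorem xP_card (c : Ctx CL.Std.A8.P e gs xns xD xchk) :
    Nat.card (subW gs [[20], [22], [24]]) = 64 :=
  (xP_ub c).card_eq (xP_lb c)

theorem xtop {Γ : Type*} [Group Γ] (f : Nonempty (subW CL.Std.A8.gs1 [[0], [2]] ≃* Γ)) :
    ∃ (_ : MulAction Γ (Fin CL.Std.A8.P.n)) (cs : List Γ), Top CL.Std.A8.P xns xD xchk [[0], [2]] 20160 (eF CL.Std.A8.P.n) cs := by
  obtain ⟨_, cs, t⟩ := CL.Std.A8.c1.exists_top (b := 10) (by decide +kernel) (by decide +kernel) ((faithful_eF _).mono le_top) CL.Std.A8.card (by norm_num) f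
  exact ⟨_, _, t.ext (xctx t.c t.fa fun _ _ => trivial) (b := 10) (by decide +kernel) (by decide +kernel)⟩

theorem xrel_T {Γ Y : Type*} [Group Γ] [MulAction Γ Y] {e' : ℕ → Y} {cs : List Γ} {D₁ D₂ : List (ℕ × List ℕ)}
    {k₁ k₂ : List (List ℕ × List ℕ) → Bool} (c : Ctx CL.Std.A8.P e gs CL.SylIso.A8.xns D₁ k₁) (c' : Ctx CL.SylIso.A8.Aux.T.P e' cs CL.SylIso.A8.Aux.T.ns D₂ k₂)
    (hF : Faithful e' CL.SylIso.A8.Aux.T.P.n (subW cs [[0], [2], [4]])) :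
    RelLe gs [[20], [22], [24]] cs [[0], [2], [4]] :=
  c.relLe (K := xzK4) c' hF xzl5 (fun (t : ℕ) (ht : t < 1) => match t, ht with
    | 0, _ => xzl6
    | t + 1, h => absurd h (by omega))

theorem xrel {Γ Y : Type*} [Group Γ] [MulAction Γ Y] {e' : ℕ → Y} {cs : List Γ} {D₁ D₂ : List (ℕ × List ℕ)}
    {k₁ k₂ : List (List ℕ × List ℕ) → Bool} (c : Ctx CL.Std.A8.P e gs CL.SylIso.A8.xns D₁ k₁) (c' : Ctx CL.Std.PS43.P e' cs CL.SylIso.PS43.xns D₂ k₂)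
    (hF : Faithful e' CL.Std.PS43.P.n (subW cs [[24], [26], [28]])) :
    RelLe gs [[20], [22], [24]] cs [[24], [26], [28]] :=
  (xrel_T c CL.SylIso.A8.Aux.T.c1 ((faithful_eF _).mono le_top)).trans (CL.SylIso.A8.Aux.S.rel c' hF)

theorem main {Γ Δ : Type*} [Group Γ] [Group Δ] (f : Nonempty (subW CL.Std.A8.gs1 [[0], [2]] ≃* Γ)) (f' : Nonempty (subW CL.Std.PS43.gs1 [[0], [2]] ≃* Δ))
    (P : Sylow 2 Γ) (Q : Sylow 2 Δ) : Nonempty ((P : Subgroup Γ) ≃* (Q : Subgroup Δ)) := by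
  obtain ⟨_, cs, t⟩ := xtop f
  obtain ⟨_, ds, u⟩ := CL.SylIso.PS43.xtop f'
  have := t.finite
  have := u.finite
  obtain ⟨e, gs, t, h⟩ := t.wlog_sylow (p := 2) (k := 6) (by norm_num) (by decide +kernel) (xP_card t.c) (A := P)
    (by rw [Sylow.card_eq_multiplicity, t.card]; decide +kernel)
  obtain ⟨e', gs', u, h'⟩ := u.wlog_sylow (p := 2) (k := 6) (by norm_num) (by decide +kernel) (CL.SylIso.PS43.xP_card u.c) (A := Q)
    (by rw [Sylow.card_eq_multiplicity, u.card]; decide +kernel)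
  rw [← h, ← h']
  exact (xrel t.c u.c (u.fa.mono le_top)).equiv_of_card (xP_ub t.c) (CL.SylIso.PS43.xP_lb u.c)

end
end CL.SylIso.A8

namespace CL.SylIso.O6m2
open CL.PG

noncomputable def xa11 : Net := (.cons 16 (nat_lit 0xe780)
 (.cons 8 (nat_lit 0xb9000c)
 (.cons 4 (nat_lit 0xb080308)
 (.cons 2 (nat_lit 0x20230130)
 (.cons 1 (nat_lit 0x55451454)
 (.cons 2 (nat_lit 0x200002)
 (.cons 4 (nat_lit 0x4080208)
 (.cons 8 (nat_lit 0x580012)
 (.cons 16 (nat_lit 0xe780)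
 .nil)))))))))
noncomputable def xa12 : Net := (.cons 16 (nat_lit 0x83e8)
 (.cons 8 (nat_lit 0x14)
 (.cons 4 (nat_lit 0x800010e)
 (.cons 2 (nat_lit 0x331302)
 (.cons 1 (nat_lit 0x5551444)
 (.cons 2 (nat_lit 0x220)
 (.cons 4 (nat_lit 0x8000600)
 (.cons 8 (nat_lit 0x14)
 (.cons 16 (nat_lit 0x83e8)
 .nil)))))))))
noncomputable def xa13 : Net := (.cons 16 (nat_lit 0x4122)
 (.cons 8 (nat_lit 0x490066)
 (.cons 4 (nat_lit 0x4040404)
 (.cons 2 (nat_lit 0x3210102)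
 (.cons 1 (nat_lit 0x5400150)
 (.cons 4 (nat_lit 0x4060004)
 (.cons 8 (nat_lit 0x800c6)
 (.cons 16 (nat_lit 0x473c)
 .nil))))))))
noncomputable def xa14 : Net := (.cons 16 (nat_lit 0xe660)
 (.cons 8 (nat_lit 0xe60080)
 (.cons 4 (nat_lit 0x80c0808)
 (.cons 2 (nat_lit 0x22000000)
 (.cons 1 (nat_lit 0x41550550)
 (.cons 2 (nat_lit 0x22000000)
 (.cons 4 (nat_lit 0x8000808)
 (.cons 8 (nat_lit 0xe60080)
 (.cons 16 (nat_lit 0xe660)
 .nil)))))))))
noncomputable def xa15 : Net := (.cons 16 (nat_lit 0x4780)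
 (.cons 8 (nat_lit 0x500002)
 (.cons 4 (nat_lit 0x4040004)
 (.cons 2 (nat_lit 0x10210002)
 (.cons 1 (nat_lit 0x140)
 (.cons 4 (nat_lit 0x4040004)
 (.cons 8 (nat_lit 0x500002)
 (.cons 16 (nat_lit 0x4780)
 .nil))))))))
noncomputable def xa16 : Net := (.cons 16 (nat_lit 0x606)
 (.cons 8 (nat_lit 0x700e6)
 (.cons 4 (nat_lit 0x70808)
 (.cons 2 (nat_lit 0x130100)
 (.cons 1 (nat_lit 0x450150)
 (.cons 2 (nat_lit 0x200200)
 (.cons 4 (nat_lit 0x80e08)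
 (.cons 8 (nat_lit 0x600a6)
 (.cons 16 (nat_lit 0x5e8)
 .nil)))))))))
noncomputable def xa17 : Net := (.cons 16 (nat_lit 0x1e0)
 (.cons 8 (nat_lit 0x80060)
 (.cons 4 (nat_lit 0x60600)
 (.cons 2 (nat_lit 0x2202200)
 (.cons 1 (nat_lit 0x1104400)
 (.cons 2 (nat_lit 0x2202200)
 (.cons 8 (nat_lit 0x80060)
 (.cons 16 (nat_lit 0x1e0)
 .nil))))))))
noncomputable def xa18 : Net := (.cons 16 (nat_lit 0xe660)
 (.cons 8 (nat_lit 0xe60080)
 (.cons 4 (nat_lit 0x80c0808)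
 (.cons 2 (nat_lit 0x22000000)
 (.cons 1 (nat_lit 0x41550550)
 (.cons 2 (nat_lit 0x22000000)
 (.cons 4 (nat_lit 0x8000808)
 (.cons 8 (nat_lit 0xe60080)
 (.cons 16 (nat_lit 0xe660)
 .nil)))))))))
noncomputable def xa19 : Net := (.cons 16 (nat_lit 0x688)
 (.cons 8 (nat_lit 0x600088)
 (.cons 4 (nat_lit 0x6000600)
 (.cons 2 (nat_lit 0x22232330)
 (.cons 1 (nat_lit 0x44154550)
 (.cons 2 (nat_lit 0x22202000)
 (.cons 8 (nat_lit 0x600088)
 (.cons 16 (nat_lit 0x688)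
 .nil))))))))
noncomputable def xa20 : Net := (.cons 16 (nat_lit 0x4122)
 (.cons 8 (nat_lit 0x490066)
 (.cons 4 (nat_lit 0x4040404)
 (.cons 2 (nat_lit 0x3210102)
 (.cons 1 (nat_lit 0x5400150)
 (.cons 4 (nat_lit 0x4060004)
 (.cons 8 (nat_lit 0x800c6)
 (.cons 16 (nat_lit 0x473c)
 .nil))))))))
noncomputable def xa21 : Net := (.cons 16 (nat_lit 0x4078)
 (.cons 8 (nat_lit 0xcc00b0)
 (.cons 4 (nat_lit 0xe070802)
 (.cons 2 (nat_lit 0x22110020)
 (.cons 1 (nat_lit 0x1001544)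
 (.cons 2 (nat_lit 0x2000002)
 (.cons 4 (nat_lit 0xa00080c)
 (.cons 8 (nat_lit 0xcc00b0)
 (.cons 16 (nat_lit 0x4078)
 .nil)))))))))
noncomputable def xa22 : Net := (.cons 16 (nat_lit 0x83e8)
 (.cons 8 (nat_lit 0x14)
 (.cons 4 (nat_lit 0x800010e)
 (.cons 2 (nat_lit 0x331302)
 (.cons 1 (nat_lit 0x5551444)
 (.cons 2 (nat_lit 0x220)
 (.cons 4 (nat_lit 0x8000600)
 (.cons 8 (nat_lit 0x14)
 (.cons 16 (nat_lit 0x83e8)
 .nil)))))))))
noncomputable def xa23 : Net := (.cons 16 (nat_lit 0x81e0)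
 (.cons 8 (nat_lit 0x100e0)
 (.cons 4 (nat_lit 0x80f0f08)
 (.cons 2 (nat_lit 0x3202232)
 (.cons 1 (nat_lit 0x5401154)
 (.cons 2 (nat_lit 0x202202)
 (.cons 4 (nat_lit 0x8000008)
 (.cons 8 (nat_lit 0x800080)
 (.cons 16 (nat_lit 0x87f8)
 .nil)))))))))
noncomputable def xa24 : Net := (.cons 16 (nat_lit 0x4798)
 (.cons 8 (nat_lit 0x5900b8)
 (.cons 4 (nat_lit 0x5040e00)
 (.cons 2 (nat_lit 0x13213222)
 (.cons 1 (nat_lit 0x104)
 (.cons 2 (nat_lit 0x202)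
 (.cons 4 (nat_lit 0x40e00)
 (.cons 8 (nat_lit 0x1800b8)
 (.cons 16 (nat_lit 0x4180)
 .nil)))))))))
noncomputable def xws : List (List ℕ) :=
  [W (nat_lit 0x1502c08),
  W (nat_lit 0x541103c0a04806),
  W (nat_lit 0x3c0904405),
  W (nat_lit 0x6c180681b06418),
  W (nat_lit 0x1c07019),
  W (nat_lit 0x64180641907018),
  W (nat_lit 0x2208820),
  W (nat_lit 0x1e08020),
  W (nat_lit 0x8c2508c26),
  W (nat_lit 0x240841d),
  W (nat_lit 0x240941f0741f),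
  W (nat_lit 0x9c2507c1d),
  W (nat_lit 0x902507c17),
  W (nat_lit 0x941f0741f)]
noncomputable def xns : List Net := [CL.Std.O6m2.a0, CL.Std.O6m2.a1, CL.Std.O6m2.a2, CL.Std.O6m2.a3, CL.Std.O6m2.a4, CL.Std.O6m2.a5, CL.Std.O6m2.a6, CL.Std.O6m2.a7, CL.Std.O6m2.a8, CL.Std.O6m2.a9, CL.Std.O6m2.a10, xa11, xa12, xa13, xa14, xa15, xa16, xa17, xa18, xa19, xa20, xa21, xa22, xa23, xa24]
noncomputable def xD : List (ℕ × List ℕ) := app CL.Std.O6m2.D (mkDefs xws 11)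
noncomputable def xchk : List (List ℕ × List ℕ) → Bool := CL.Std.O6m2.P.relsB xns
noncomputable def xP_ps : List PcG :=
  [⟨[40], 2, W (nat_lit 0xc427), [[44], [42], [22], [48], [46], [38]]⟩,
  ⟨[42], 2, [], [[44], W (nat_lit 0x9c2f), [38], [22], [48]]⟩,
  ⟨[44], 2, [], [[46], [38], W (nat_lit 0xc417), [48]]⟩,
  ⟨[46], 2, [38], [[38], [22], [48]]⟩,
  ⟨[38], 2, [], [[22], [48]]⟩,
  ⟨[22], 2, [48], [[48]]⟩,
  ⟨[48], 2, [], []⟩]
noncomputable def xzE0 : List (ℕ × List ℕ) :=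
  [(24, [44]),
  (26, [40])]
noncomputable def xP_v0 : Lev :=
  ⟨11, 2, sg [22], [[28], [30], [32]], 12, 3⟩
noncomputable def xP_v1 : Lev :=
  ⟨1, 8, sg (W (nat_lit 0x2107c1d0841f)), [[34], [36]], 15, 2⟩
noncomputable def xP_v2 : Lev :=
  ⟨23, 2, sg [36], [[35], [38]], 17, 1⟩
noncomputable def xP_v3 : Lev :=
  ⟨3, 2, sg [38], [[35]], 18, 0⟩
noncomputable def xP_v4 : Lev :=
  ⟨5, 2, sg [35], [], 18, 0⟩
noncomputable def xP_vs5 : List Lev :=
  []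
noncomputable def xP_vs4 : List Lev :=
  xP_v4 :: xP_vs5
noncomputable def xP_vs3 : List Lev :=
  xP_v3 :: xP_vs4
noncomputable def xP_vs2 : List Lev :=
  xP_v2 :: xP_vs3
noncomputable def xP_vs1 : List Lev :=
  xP_v1 :: xP_vs2
noncomputable def xP_vs : List Lev :=
  xP_v0 :: xP_vs1

theorem xzr1 : xchk (pcsR xP_ps []) = true := by decide +kernel
theorem xzr2 : xchk (defRels xzE0) = true := by decide +kernel
theorem xzb3 : bnd (pcsB xD xP_ps []) (leB (app xD xzE0) [[22], [24], [26]] (pcGens xP_ps [])) = true := by decide +kernel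
theorem xzc4 : CL.Std.O6m2.P.chainB xns xD xP_vs [[22], [24], [26]] = true := by decide +kernel
theorem xze5 : extB CL.Std.O6m2.ns xns 11 xws CL.Std.O6m2.D = true := by decide +kernel
theorem xzn6 : CL.Std.O6m2.P.netsB xns (mkDefs xws 11) = true := by decide +kernel

section
variable {G X : Type*} [Group G] [MulAction G X] {e : ℕ → X} {gs : List G}

theorem xlen {k} (c : Ctx CL.Std.O6m2.P e gs CL.Std.O6m2.ns CL.Std.O6m2.D k) : gs.length = 11 := c.len xze5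

theorem xctx0 {k} (c : Ctx CL.Std.O6m2.P e gs CL.Std.O6m2.ns CL.Std.O6m2.D k) : Ctx CL.Std.O6m2.P e (ext gs xws) xns xD chk0 :=
  c.ext rfl xze5 xzn6

theorem xctx {k} (c : Ctx CL.Std.O6m2.P e gs CL.Std.O6m2.ns CL.Std.O6m2.D k) {H : Subgroup G} (hF : Faithful e CL.Std.O6m2.P.n H) (hH : ∀ g ∈ gs, g ∈ H) :
    Ctx CL.Std.O6m2.P e (ext gs xws) xns xD xchk :=
  (xctx0 c).withB hF (mem_of_mem_ext hH _)

theorem xP_pr (c : Ctx CL.Std.O6m2.P e gs xns xD xchk) :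
    Rels gs (pcsR xP_ps []) :=
  (c.rels _ xzr1)

theorem xP_pe (c : Ctx CL.Std.O6m2.P e gs xns xD xchk) :
    Rels gs (defRels xzE0) :=
  (c.rels _ xzr2)

theorem xP_pb : bnd (pcsB xD xP_ps []) (leB (app xD xzE0) [[22], [24], [26]] (pcGens xP_ps [])) = true := xzb3

theorem xP_ub (c : Ctx CL.Std.O6m2.P e gs xns xD xchk) :
    UB (subW gs [[22], [24], [26]]) 128 :=
  c.pcs (UB.nil gs) (xP_pe c) (xP_pr c) xP_pb (by decide +kernel)

theorem xP_c : CL.Std.O6m2.P.chainB xns xD xP_vs [[22], [24], [26]] = true :=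
  xzc4

theorem xP_o : prodL xP_vs 1 = 128 := by decide +kernel

theorem xP_lb (c : Ctx CL.Std.O6m2.P e gs xns xD xchk) :
    LB (subW gs [[22], [24], [26]]) 128 :=
  c.lb xP_c xP_o

theorem xP_card (c : Ctx CL.Std.O6m2.P e gs xns xD xchk) :
    Nat.card (subW gs [[22], [24], [26]]) = 128 :=
  (xP_ub c).card_eq (xP_lb c)

theorem xtop {Γ : Type*} [Group Γ] (f : Nonempty (subW CL.Std.O6m2.gs1 [[0], [2]] ≃* Γ)) :
    ∃ (_ : MulAction Γ (Fin CL.Std.O6m2.P.n)) (cs : List Γ), Top CL.Std.O6m2.P xns xD xchk [[0], [2]] 51840 (eF CL.Std.O6m2.P.n) cs := by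
  obtain ⟨_, cs, t⟩ := CL.Std.O6m2.c1.exists_top (b := 11) (by decide +kernel) (by decide +kernel) ((faithful_eF _).mono le_top) CL.Std.O6m2.card (by norm_num) f
  exact ⟨_, _, t.ext (xctx t.c t.fa fun _ _ => trivial) (b := 11) (by decide +kernel) (by decide +kernel)⟩

end
end CL.SylIso.O6m2

namespace CL.SylIso.S8.Aux.T
open CL.PG

def P : Par := ⟨8, 8, 3, 2⟩
theorem hP : P.Ok := by decide
noncomputable def a0 : Net := (.cons 4 (nat_lit 0xc)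
 (.cons 2 (nat_lit 0x30)
 (.cons 1 (nat_lit 0x10)
 (.cons 4 (nat_lit 0xc)
 .nil))))
noncomputable def a1 : Net := (.cons 1 (nat_lit 0x45)
 .nil)
noncomputable def a2 : Net := (.cons 2 (nat_lit 0x33)
 (.cons 1 (nat_lit 0x44)
 .nil))
noncomputable def a3 : Net := (.cons 1 (nat_lit 0x50)
 .nil)
noncomputable def a4 : Net := (.cons 4 (nat_lit 0xc)
 (.cons 2 (nat_lit 0x30)
 (.cons 1 (nat_lit 0x40)
 (.cons 4 (nat_lit 0xc)
 .nil))))
noncomputable def a5 : Net := (.cons 1 (nat_lit 0x40)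
 .nil)
noncomputable def a6 : Net := (.cons 4 (nat_lit 0xc)
 (.cons 2 (nat_lit 0x30)
 (.cons 1 (nat_lit 0x50)
 (.cons 4 (nat_lit 0xc)
 .nil))))
noncomputable def a7 : Net := (.cons 1 (nat_lit 0x10)
 .nil)
noncomputable def ns0 : List Net := [a0, a1, a2]
noncomputable def ws : List (List ℕ) :=
  [W (nat_lit 0xc0601005),
  W (nat_lit 0x200c03),
  W (nat_lit 0x601006),
  W (nat_lit 0xa02c08),
  W (nat_lit 0x3008)]
noncomputable def ns : List Net := [a0, a1, a2, a3, a4, a5, a6, a7]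
noncomputable def D : List (ℕ × List ℕ) := app [] (mkDefs ws 3)
noncomputable def chk : List (List ℕ × List ℕ) → Bool := P.relsB ns
noncomputable def G_v0 : Lev :=
  ⟨0, 8, sg (W (nat_lit 0x140101403)), [[6], [8], [10]], 0, 3⟩
noncomputable def G_v1 : Lev :=
  ⟨6, 2, sg [6], [[12], [14]], 3, 2⟩
noncomputable def G_v2 : Lev :=
  ⟨2, 4, sg (W (nat_lit 0xd03c0d)), [[14]], 5, 0⟩
noncomputable def G_v3 : Lev :=
  ⟨4, 2, sg [14], [], 5, 0⟩
noncomputable def G_vs4 : List Lev :=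
  []
noncomputable def G_vs3 : List Lev :=
  G_v3 :: G_vs4
noncomputable def G_vs2 : List Lev :=
  G_v2 :: G_vs3
noncomputable def G_vs1 : List Lev :=
  G_v1 :: G_vs2
noncomputable def G_vs : List Lev :=
  G_v0 :: G_vs1

theorem zc0 : P.chainB ns D G_vs [[0], [2], [4]] = true := by decide +kernel
theorem zk1 : allL (keepB P.n P.N) ns0 = true := by decide +kernel
theorem ze2 : extB ns0 ns 3 ws [] = true := by decide +kernel
theorem zn3 : P.netsB ns (mkDefs ws 3) = true := by decide +kernel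

section
variable {G X : Type*} [Group G] [MulAction G X] {e : ℕ → X} {gs : List G}

theorem keep0 : allL (keepB P.n P.N) ns0 = true := zk1

theorem len {k} (c : Ctx P e gs ns0 [] k) : gs.length = 3 := c.len ze2

theorem ctx0 {k} (c : Ctx P e gs ns0 [] k) : Ctx P e (ext gs ws) ns D chk0 :=
  c.ext rfl ze2 zn3

theorem ctx {k} (c : Ctx P e gs ns0 [] k) {H : Subgroup G} (hF : Faithful e P.n H) (hH : ∀ g ∈ gs, g ∈ H) :
    Ctx P e (ext gs ws) ns D chk :=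
  (ctx0 c).withB hF (mem_of_mem_ext hH _)

instance instNe : NeZero P.n := ⟨by decide⟩
noncomputable def gs0 : List (Equiv.Perm (Fin P.n)) := permsOf P.n P.N ns0
noncomputable def gs1 : List (Equiv.Perm (Fin P.n)) := ext gs0 ws
theorem c1 : Ctx P (eF P.n) gs1 ns D chk :=
  ctx (ctx_permsOf hP keep0) (faithful_eF _) fun _ _ => trivial

theorem G_c : P.chainB ns D G_vs [[0], [2], [4]] = true :=
  zc0

theorem G_o : prodL G_vs 1 = 128 := by decide +kernel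

theorem G_lb (c : Ctx P e gs ns D chk) :
    LB (subW gs [[0], [2], [4]]) 128 :=
  c.lb G_c G_o

end
end CL.SylIso.S8.Aux.T

namespace CL.SylIso.S8.Aux.S
open CL.PG

def P : Par := ⟨35, 40, 6, 3⟩
theorem hP : P.Ok := by decide
noncomputable def a0 : Net := (.cons 20 (nat_lit 0xf9800)
 (.cons 10 (nat_lit 0x30100200)
 (.cons 5 (nat_lit 0x4110601c)
 (.cons 1 (nat_lit 0x802000000)
 (.cons 1 (nat_lit 0x5094802000)
 (.cons 1 (nat_lit 0x2108401420)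
 (.cons 1 (nat_lit 0x5214242940)
 (.cons 1 (nat_lit 0x20081000a0)
 (.cons 5 (nat_lit 0x20601c)
 (.cons 10 (nat_lit 0x200)
 (.cons 20 (nat_lit 0xf9800)
 .nil)))))))))))
noncomputable def a1 : Net := (.cons 20 (nat_lit 0x49800)
 (.cons 10 (nat_lit 0x19e00200)
 (.cons 5 (nat_lit 0x140006000)
 (.cons 1 (nat_lit 0x280202800)
 (.cons 1 (nat_lit 0x2940401400)
 (.cons 1 (nat_lit 0x1090852840)
 (.cons 1 (nat_lit 0x902000005)
 (.cons 5 (nat_lit 0x200006000)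
 (.cons 10 (nat_lit 0x18000200)
 (.cons 20 (nat_lit 0x49800)
 .nil))))))))))
noncomputable def a2 : Net := (.cons 20 (nat_lit 0x51638)
 (.cons 10 (nat_lit 0x39a000f0)
 (.cons 5 (nat_lit 0x780204419)
 (.cons 1 (nat_lit 0x40000001)
 (.cons 1 (nat_lit 0x8005080a)
 (.cons 1 (nat_lit 0x21004294a5)
 (.cons 1 (nat_lit 0x520085084a)
 (.cons 1 (nat_lit 0x20020004a0)
 (.cons 5 (nat_lit 0x80804808)
 (.cons 10 (nat_lit 0x38200070)
 (.cons 20 (nat_lit 0x570c2)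
 .nil)))))))))))
noncomputable def a3 : Net := (.cons 20 (nat_lit 0xf9800)
 (.cons 10 (nat_lit 0x28000200)
 (.cons 5 (nat_lit 0x44150601c)
 (.cons 1 (nat_lit 0x2000000)
 (.cons 1 (nat_lit 0x5204a00800)
 (.cons 1 (nat_lit 0x21084010a0)
 (.cons 1 (nat_lit 0x5090a42140)
 (.cons 1 (nat_lit 0x2040501420)
 (.cons 5 (nat_lit 0x80a0601c)
 (.cons 10 (nat_lit 0x20000200)
 (.cons 20 (nat_lit 0xf9800)
 .nil)))))))))))
noncomputable def a4 : Net := (.cons 20 (nat_lit 0x9b9e0)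
 (.cons 10 (nat_lit 0x21f00340)
 (.cons 5 (nat_lit 0x41e04004)
 (.cons 1 (nat_lit 0x800100000)
 (.cons 1 (nat_lit 0x5000a52000)
 (.cons 1 (nat_lit 0x210a521420)
 (.cons 1 (nat_lit 0x5094a52848)
 (.cons 1 (nat_lit 0x10a1200a4)
 (.cons 5 (nat_lit 0x1e04008)
 (.cons 10 (nat_lit 0x248)
 (.cons 20 (nat_lit 0x999c8)
 .nil)))))))))))
noncomputable def a5 : Net := (.cons 20 (nat_lit 0x80000)
 (.cons 10 (nat_lit 0x20100000)
 (.cons 5 (nat_lit 0x601500004)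
 (.cons 1 (nat_lit 0x42000000)
 (.cons 1 (nat_lit 0x284800000)
 (.cons 1 (nat_lit 0x148400020)
 (.cons 1 (nat_lit 0x4290202848)
 (.cons 1 (nat_lit 0x40128020)
 (.cons 5 (nat_lit 0x600a00004)
 (.cons 20 (nat_lit 0x80000)
 .nil))))))))))
noncomputable def a6 : Net := (.cons 20 (nat_lit 0x49800)
 (.cons 10 (nat_lit 0x30000200)
 (.cons 5 (nat_lit 0x4010)
 (.cons 1 (nat_lit 0x800000020)
 (.cons 1 (nat_lit 0x5000000140)
 (.cons 1 (nat_lit 0x2100401080)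
 (.cons 1 (nat_lit 0x5080802140)
 (.cons 1 (nat_lit 0x900401420)
 (.cons 5 (nat_lit 0x4010)
 (.cons 10 (nat_lit 0x20000200)
 (.cons 20 (nat_lit 0x49800)
 .nil)))))))))))
noncomputable def a7 : Net := (.cons 20 (nat_lit 0x6000)
 (.cons 10 (nat_lit 0xe000200)
 (.cons 5 (nat_lit 0x380004c10)
 (.cons 1 (nat_lit 0x9020)
 (.cons 1 (nat_lit 0x1280012940)
 (.cons 1 (nat_lit 0x2940429480)
 (.cons 1 (nat_lit 0x1290a50940)
 (.cons 1 (nat_lit 0x2800429425)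
 (.cons 5 (nat_lit 0x380003010)
 (.cons 10 (nat_lit 0xe000200)
 (.cons 20 (nat_lit 0x6000)
 .nil)))))))))))
noncomputable def a8 : Net := (.cons 20 (nat_lit 0xdd860)
 (.cons 10 (nat_lit 0x2660021e)
 (.cons 5 (nat_lit 0x101f0501c)
 (.cons 1 (nat_lit 0x4a000420)
 (.cons 1 (nat_lit 0x294802840)
 (.cons 1 (nat_lit 0x210a4014a0)
 (.cons 1 (nat_lit 0x4294202942)
 (.cons 1 (nat_lit 0xa1004a1)
 (.cons 5 (nat_lit 0x38000501a)
 (.cons 10 (nat_lit 0x2660029e)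
 (.cons 20 (nat_lit 0xd9822)
 .nil)))))))))))
noncomputable def a9 : Net := (.cons 20 (nat_lit 0x79800)
 (.cons 10 (nat_lit 0x27e00000)
 (.cons 5 (nat_lit 0x540000000)
 (.cons 1 (nat_lit 0x4084a00000)
 (.cons 1 (nat_lit 0x290a400000)
 (.cons 1 (nat_lit 0x1204a02040)
 (.cons 1 (nat_lit 0x4a400001)
 (.cons 5 (nat_lit 0x280000000)
 (.cons 10 (nat_lit 0x26000000)
 (.cons 20 (nat_lit 0x79800)
 .nil))))))))))
noncomputable def a10 : Net := (.cons 20 (nat_lit 0x7e000)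
 (.cons 10 (nat_lit 0x38000200)
 (.cons 5 (nat_lit 0x180005010)
 (.cons 1 (nat_lit 0x800001420)
 (.cons 1 (nat_lit 0x5000002940)
 (.cons 1 (nat_lit 0x2800421480)
 (.cons 1 (nat_lit 0x5000a42940)
 (.cons 1 (nat_lit 0x840421424)
 (.cons 5 (nat_lit 0x180005010)
 (.cons 10 (nat_lit 0x20000200)
 (.cons 20 (nat_lit 0x7e000)
 .nil)))))))))))
noncomputable def ns0 : List Net := [a0, a1, a2]
noncomputable def ws : List (List ℕ) :=
  [W (nat_lit 0x300c02),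
  W (nat_lit 0x40501005),
  W (nat_lit 0x40401405),
  W (nat_lit 0x200b01c07),
  W (nat_lit 0x340702403),
  W (nat_lit 0x500406),
  W (nat_lit 0x340701c03),
  W (nat_lit 0x1c07)]
noncomputable def ns : List Net := [a0, a1, a2, a3, a4, a5, a6, a7, a8, a9, a10]
noncomputable def D : List (ℕ × List ℕ) := app [] (mkDefs ws 3)
noncomputable def chk : List (List ℕ × List ℕ) → Bool := P.relsB ns
noncomputable def G_ps : List PcG :=
  [⟨[4], 2, W (nat_lit 0x5413), [[2], [14], [7], [20], [16], [18]]⟩,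
  ⟨[14], 2, [], [[2], W (nat_lit 0x4c11), [18], [7], [20]]⟩,
  ⟨[2], 2, [], [[16], [18], W (nat_lit 0x5408), [20]]⟩,
  ⟨[16], 2, [18], [[18], [7], [20]]⟩,
  ⟨[18], 2, [], [[7], [20]]⟩,
  ⟨[7], 2, [20], [[20]]⟩,
  ⟨[20], 2, [], []⟩]
noncomputable def zE0 : List (ℕ × List ℕ) :=
  [(0, [7])]
noncomputable def zE4 : Net :=
  .nil
noncomputable def zK5 : Lk :=
  ⟨zE4, 1, 2, 1⟩
noncomputable def zE8 : Net :=
  (.cons 20 (nat_lit 0xff)
 (.cons 10 (nat_lit 0x18000ff)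
 (.cons 5 (nat_lit 0x1f06018)
 (.cons 1 (nat_lit 0x108421084)
 (.cons 1 (nat_lit 0x294a5294a)
 (.cons 1 (nat_lit 0x14a5294a5)
 (.cons 1 (nat_lit 0x84210842)
 (.cons 10 (nat_lit 0x1c00000)
 .nil))))))))
noncomputable def zK9 : Lk :=
  ⟨zE8, 1, 3, 1⟩

theorem zr1 : chk (pcsR G_ps []) = true := by decide +kernel
theorem zr2 : chk (defRels zE0) = true := by decide +kernel
theorem zb3 : bnd (pcsB D G_ps []) (leB (app D zE0) [[0], [2], [4]] (pcGens G_ps [])) = true := by decide +kernel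
theorem zl6 : zK5.relB CL.SylIso.S8.Aux.S.P CL.SylIso.S8.Aux.T.P CL.SylIso.S8.Aux.S.ns [[0], [2], [4]] [[0], [2], [4]] = true := by decide +kernel
theorem zl7 : allL (zK5.pl CL.SylIso.S8.Aux.S.P CL.SylIso.S8.Aux.T.P CL.SylIso.S8.Aux.S.ns CL.SylIso.S8.Aux.T.ns 0) (zp [] [[0], [2], [4]] [[0], [2], [4]]) = true := by decide +kernel
theorem zl10 : zK9.relB CL.SylIso.S8.Aux.S.P CL.Std.O6m2.P CL.SylIso.S8.Aux.S.ns [[0], [2], [4]] [[22], [24], [26]] = true := by decide +kernel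
theorem zl11 : allL (zK9.pl CL.SylIso.S8.Aux.S.P CL.Std.O6m2.P CL.SylIso.S8.Aux.S.ns CL.SylIso.O6m2.xns 0) (zp [] [[0], [2], [4]] [[22], [24], [26]]) = true := by decide +kernel
theorem zk12 : allL (keepB P.n P.N) ns0 = true := by decide +kernel
theorem ze13 : extB ns0 ns 3 ws [] = true := by decide +kernel
theorem zn14 : P.netsB ns (mkDefs ws 3) = true := by decide +kernel

section
variable {G X : Type*} [Group G] [MulAction G X] {e : ℕ → X} {gs : List G}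

theorem keep0 : allL (keepB P.n P.N) ns0 = true := zk12

theorem len {k} (c : Ctx P e gs ns0 [] k) : gs.length = 3 := c.len ze13

theorem ctx0 {k} (c : Ctx P e gs ns0 [] k) : Ctx P e (ext gs ws) ns D chk0 :=
  c.ext rfl ze13 zn14

theorem ctx {k} (c : Ctx P e gs ns0 [] k) {H : Subgroup G} (hF : Faithful e P.n H) (hH : ∀ g ∈ gs, g ∈ H) :
    Ctx P e (ext gs ws) ns D chk :=
  (ctx0 c).withB hF (mem_of_mem_ext hH _)

instance instNe : NeZero P.n := ⟨by decide⟩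
noncomputable def gs0 : List (Equiv.Perm (Fin P.n)) := permsOf P.n P.N ns0
noncomputable def gs1 : List (Equiv.Perm (Fin P.n)) := ext gs0 ws
theorem c1 : Ctx P (eF P.n) gs1 ns D chk :=
  ctx (ctx_permsOf hP keep0) (faithful_eF _) fun _ _ => trivial

theorem G_pr (c : Ctx P e gs ns D chk) :
    Rels gs (pcsR G_ps []) :=
  (c.rels _ zr1)

theorem G_pe (c : Ctx P e gs ns D chk) :
    Rels gs (defRels zE0) :=
  (c.rels _ zr2)

theorem G_pb : bnd (pcsB D G_ps []) (leB (app D zE0) [[0], [2], [4]] (pcGens G_ps [])) = true := zb3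

theorem G_ub (c : Ctx P e gs ns D chk) :
    UB (subW gs [[0], [2], [4]]) 128 :=
  c.pcs (UB.nil gs) (G_pe c) (G_pr c) G_pb (by decide +kernel)

theorem toT {Γ Y : Type*} [Group Γ] [MulAction Γ Y] {e' : ℕ → Y} {cs : List Γ} {D₁ D₂ : List (ℕ × List ℕ)}
    {k₁ k₂ : List (List ℕ × List ℕ) → Bool} (c : Ctx CL.SylIso.S8.Aux.S.P e gs CL.SylIso.S8.Aux.S.ns D₁ k₁) (c' : Ctx CL.SylIso.S8.Aux.T.P e' cs CL.SylIso.S8.Aux.T.ns D₂ k₂)
    (hF : Faithful e' CL.SylIso.S8.Aux.T.P.n (subW cs [[0], [2], [4]])) :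
    RelLe gs [[0], [2], [4]] cs [[0], [2], [4]] :=
  c.relLe (K := zK5) c' hF zl6 (fun (t : ℕ) (ht : t < 1) => match t, ht with
    | 0, _ => zl7
    | t + 1, h => absurd h (by omega))

theorem toB {Γ Y : Type*} [Group Γ] [MulAction Γ Y] {e' : ℕ → Y} {cs : List Γ} {D₁ D₂ : List (ℕ × List ℕ)}
    {k₁ k₂ : List (List ℕ × List ℕ) → Bool} (c : Ctx CL.SylIso.S8.Aux.S.P e gs CL.SylIso.S8.Aux.S.ns D₁ k₁) (c' : Ctx CL.Std.O6m2.P e' cs CL.SylIso.O6m2.xns D₂ k₂)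
    (hF : Faithful e' CL.Std.O6m2.P.n (subW cs [[22], [24], [26]])) :
    RelLe gs [[0], [2], [4]] cs [[22], [24], [26]] :=
  c.relLe (K := zK9) c' hF zl10 (fun (t : ℕ) (ht : t < 1) => match t, ht with
    | 0, _ => zl11
    | t + 1, h => absurd h (by omega))

theorem rel {Γ Y : Type*} [Group Γ] [MulAction Γ Y] {e' : ℕ → Y} {cs : List Γ} {D₂ : List (ℕ × List ℕ)}
    {k₂ : List (List ℕ × List ℕ) → Bool} (c' : Ctx CL.Std.O6m2.P e' cs CL.SylIso.O6m2.xns D₂ k₂) (hF : Faithful e' CL.Std.O6m2.P.n (subW cs [[22], [24], [26]])) :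
    RelLe CL.SylIso.S8.Aux.T.gs1 [[0], [2], [4]] cs [[22], [24], [26]] :=
  ((toT c1 CL.SylIso.S8.Aux.T.c1 ((faithful_eF _).mono le_top)).symm_of_card (G_ub c1) (CL.SylIso.S8.Aux.T.G_lb CL.SylIso.S8.Aux.T.c1)).trans (toB c1 c' hF)

end
end CL.SylIso.S8.Aux.S

namespace CL.SylIso.S8
open CL.PG

noncomputable def xa15 : Net := (.cons 4 (nat_lit 0xe)
 (.cons 2 (nat_lit 0x10)
 (.cons 1 (nat_lit 0x40)
 (.cons 2 (nat_lit 0x20)
 (.cons 4 (nat_lit 0xe)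
 .nil)))))
noncomputable def xa16 : Net := (.cons 4 (nat_lit 0xe)
 (.cons 2 (nat_lit 0x23)
 (.cons 1 (nat_lit 0x40)
 (.cons 2 (nat_lit 0x20)
 (.cons 4 (nat_lit 0xe)
 .nil)))))
noncomputable def xa17 : Net := (.cons 2 (nat_lit 0x23)
 (.cons 1 (nat_lit 0x14)
 (.cons 2 (nat_lit 0x2)
 (.cons 4 (nat_lit 0xc)
 .nil))))
noncomputable def xa18 : Net := (.cons 2 (nat_lit 0x20)
 .nil)
noncomputable def xa19 : Net := (.cons 4 (nat_lit 0x8)
 (.cons 2 (nat_lit 0x20)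
 (.cons 1 (nat_lit 0x10)
 (.cons 2 (nat_lit 0x20)
 (.cons 4 (nat_lit 0x8)
 .nil)))))
noncomputable def xa20 : Net := (.cons 4 (nat_lit 0xe)
 (.cons 2 (nat_lit 0x31)
 (.cons 1 (nat_lit 0x50)
 (.cons 4 (nat_lit 0xe)
 .nil))))
noncomputable def xa21 : Net := (.cons 4 (nat_lit 0xe)
 (.cons 2 (nat_lit 0x2)
 (.cons 1 (nat_lit 0x5)
 (.cons 4 (nat_lit 0xe)
 .nil))))
noncomputable def xa22 : Net := (.cons 4 (nat_lit 0x4)
 (.cons 2 (nat_lit 0x21)
 (.cons 4 (nat_lit 0x4)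
 .nil)))
noncomputable def xa23 : Net := (.cons 4 (nat_lit 0x8)
 (.cons 2 (nat_lit 0x22)
 (.cons 1 (nat_lit 0x14)
 (.cons 2 (nat_lit 0x22)
 (.cons 4 (nat_lit 0x8)
 .nil)))))
noncomputable def xws : List (List ℕ) :=
  [W (nat_lit 0x3c0d0140b),
  W (nat_lit 0x54130140b01004),
  W (nat_lit 0x130340a0280600403),
  W (nat_lit 0x2408824),
  W (nat_lit 0x2209024),
  W (nat_lit 0x2709421),
  W (nat_lit 0x2307c24),
  W (nat_lit 0x9c1f07c21),
  W (nat_lit 0x7c1f)]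
noncomputable def xns : List Net := [CL.Std.S8.a0, CL.Std.S8.a1, CL.Std.S8.a2, CL.Std.S8.a3, CL.Std.S8.a4, CL.Std.S8.a5, CL.Std.S8.a6, CL.Std.S8.a7, CL.Std.S8.a8, CL.Std.S8.a9, CL.Std.S8.a10, CL.Std.S8.a11, CL.Std.S8.a12, CL.Std.S8.a13, CL.Std.S8.a14, xa15, xa16, xa17, xa18, xa19, xa20, xa21, xa22, xa23]
noncomputable def xD : List (ℕ × List ℕ) := app CL.Std.S8.D (mkDefs xws 15)
noncomputable def xchk : List (List ℕ × List ℕ) → Bool := CL.Std.S8.P.relsB xns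
noncomputable def xP_ps : List PcG :=
  [⟨[34], 2, W (nat_lit 0xbc2d), [[32], [40], [30], [46], [42], [44]]⟩,
  ⟨[40], 2, [], [[32], W (nat_lit 0xb42b), [44], [30], [46]]⟩,
  ⟨[32], 2, [], [[42], [44], W (nat_lit 0xbc1f), [46]]⟩,
  ⟨[42], 2, [44], [[44], [30], [46]]⟩,
  ⟨[44], 2, [], [[30], [46]]⟩,
  ⟨[30], 2, [46], [[46]]⟩,
  ⟨[46], 2, [], []⟩]
noncomputable def xP_v0 : Lev :=
  ⟨0, 8, sg (W (nat_lit 0x8c1f08c21)), [[36], [30], [38]], 16, 2⟩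
noncomputable def xP_v1 : Lev :=
  ⟨5, 2, sg [36], [[30], [38]], 18, 0⟩
noncomputable def xP_v2 : Lev :=
  ⟨1, 4, sg (W (nat_lit 0x1f07c1f)), [[38]], 18, 0⟩
noncomputable def xP_v3 : Lev :=
  ⟨3, 2, sg [38], [], 18, 0⟩
noncomputable def xP_vs4 : List Lev :=
  []
noncomputable def xP_vs3 : List Lev :=
  xP_v3 :: xP_vs4
noncomputable def xP_vs2 : List Lev :=
  xP_v2 :: xP_vs3
noncomputable def xP_vs1 : List Lev :=
  xP_v1 :: xP_vs2
noncomputable def xP_vs : List Lev :=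
  xP_v0 :: xP_vs1
noncomputable def xzE3 : Net :=
  (.cons 4 (nat_lit 0xe)
 (.cons 2 (nat_lit 0x22)
 (.cons 1 (nat_lit 0x14)
 (.cons 2 (nat_lit 0x2)
 (.cons 4 (nat_lit 0xc)
 .nil)))))
noncomputable def xzK4 : Lk :=
  ⟨xzE3, 1, 2, 1⟩

theorem xzr0 : xchk (pcsR xP_ps []) = true := by decide +kernel
theorem xzb1 : bnd (pcsB xD xP_ps []) (leB (app xD []) [[30], [32], [34]] (pcGens xP_ps [])) = true := by decide +kernel
theorem xzc2 : CL.Std.S8.P.chainB xns xD xP_vs [[30], [32], [34]] = true := by decide +kernel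
theorem xzl5 : xzK4.relB CL.Std.S8.P CL.SylIso.S8.Aux.T.P CL.SylIso.S8.xns [[30], [32], [34]] [[0], [2], [4]] = true := by decide +kernel
theorem xzl6 : allL (xzK4.pl CL.Std.S8.P CL.SylIso.S8.Aux.T.P CL.SylIso.S8.xns CL.SylIso.S8.Aux.T.ns 0) (zp [] [[30], [32], [34]] [[0], [2], [4]]) = true := by decide +kernel
theorem xze7 : extB CL.Std.S8.ns xns 15 xws CL.Std.S8.D = true := by decide +kernel
theorem xzn8 : CL.Std.S8.P.netsB xns (mkDefs xws 15) = true := by decide +kernel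

section
variable {G X : Type*} [Group G] [MulAction G X] {e : ℕ → X} {gs : List G}

theorem xlen {k} (c : Ctx CL.Std.S8.P e gs CL.Std.S8.ns CL.Std.S8.D k) : gs.length = 15 := c.len xze7

theorem xctx0 {k} (c : Ctx CL.Std.S8.P e gs CL.Std.S8.ns CL.Std.S8.D k) : Ctx CL.Std.S8.P e (ext gs xws) xns xD chk0 :=
  c.ext rfl xze7 xzn8

theorem xctx {k} (c : Ctx CL.Std.S8.P e gs CL.Std.S8.ns CL.Std.S8.D k) {H : Subgroup G} (hF : Faithful e CL.Std.S8.P.n H) (hH : ∀ g ∈ gs, g ∈ H) :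
    Ctx CL.Std.S8.P e (ext gs xws) xns xD xchk :=
  (xctx0 c).withB hF (mem_of_mem_ext hH _)

theorem xP_pr (c : Ctx CL.Std.S8.P e gs xns xD xchk) :
    Rels gs (pcsR xP_ps []) :=
  (c.rels _ xzr0)

theorem xP_pe (c : Ctx CL.Std.S8.P e gs xns xD xchk) :
    Rels gs (defRels []) :=
  (Rels.nil _)

theorem xP_pb : bnd (pcsB xD xP_ps []) (leB (app xD []) [[30], [32], [34]] (pcGens xP_ps [])) = true := xzb1

theorem xP_ub (c : Ctx CL.Std.S8.P e gs xns xD xchk) :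
    UB (subW gs [[30], [32], [34]]) 128 :=
  c.pcs (UB.nil gs) (xP_pe c) (xP_pr c) xP_pb (by decide +kernel)

theorem xP_c : CL.Std.S8.P.chainB xns xD xP_vs [[30], [32], [34]] = true :=
  xzc2

theorem xP_o : prodL xP_vs 1 = 128 := by decide +kernel

theorem xP_lb (c : Ctx CL.Std.S8.P e gs xns xD xchk) :
    LB (subW gs [[30], [32], [34]]) 128 :=
  c.lb xP_c xP_o

theorem xP_card (c : Ctx CL.Std.S8.P e gs xns xD xchk) :
    Nat.card (subW gs [[30], [32], [34]]) = 128 :=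
  (xP_ub c).card_eq (xP_lb c)

theorem xtop {Γ : Type*} [Group Γ] (f : Nonempty (subW CL.Std.S8.gs1 [[0], [2]] ≃* Γ)) :
    ∃ (_ : MulAction Γ (Fin CL.Std.S8.P.n)) (cs : List Γ), Top CL.Std.S8.P xns xD xchk [[0], [2]] 40320 (eF CL.Std.S8.P.n) cs := by
  obtain ⟨_, cs, t⟩ := CL.Std.S8.c1.exists_top (b := 15) (by decide +kernel) (by decide +kernel) ((faithful_eF _).mono le_top) CL.Std.S8.card (by norm_num) f
  exact ⟨_, _, t.ext (xctx t.c t.fa fun _ _ => trivial) (b := 15) (by decide +kernel) (by decide +kernel)⟩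

theorem xrel_T {Γ Y : Type*} [Group Γ] [MulAction Γ Y] {e' : ℕ → Y} {cs : List Γ} {D₁ D₂ : List (ℕ × List ℕ)}
    {k₁ k₂ : List (List ℕ × List ℕ) → Bool} (c : Ctx CL.Std.S8.P e gs CL.SylIso.S8.xns D₁ k₁) (c' : Ctx CL.SylIso.S8.Aux.T.P e' cs CL.SylIso.S8.Aux.T.ns D₂ k₂)
    (hF : Faithful e' CL.SylIso.S8.Aux.T.P.n (subW cs [[0], [2], [4]])) :
    RelLe gs [[30], [32], [34]] cs [[0], [2], [4]] :=
  c.relLe (K := xzK4) c' hF xzl5 (fun (t : ℕ) (ht : t < 1) => match t, ht with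
    | 0, _ => xzl6
    | t + 1, h => absurd h (by omega))

theorem xrel {Γ Y : Type*} [Group Γ] [MulAction Γ Y] {e' : ℕ → Y} {cs : List Γ} {D₁ D₂ : List (ℕ × List ℕ)}
    {k₁ k₂ : List (List ℕ × List ℕ) → Bool} (c : Ctx CL.Std.S8.P e gs CL.SylIso.S8.xns D₁ k₁) (c' : Ctx CL.Std.O6m2.P e' cs CL.SylIso.O6m2.xns D₂ k₂)
    (hF : Faithful e' CL.Std.O6m2.P.n (subW cs [[22], [24], [26]])) :
    RelLe gs [[30], [32], [34]] cs [[22], [24], [26]] :=
  (xrel_T c CL.SylIso.S8.Aux.T.c1 ((faithful_eF _).mono le_top)).trans (CL.SylIso.S8.Aux.S.rel c' hF)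

theorem main {Γ Δ : Type*} [Group Γ] [Group Δ] (f : Nonempty (subW CL.Std.S8.gs1 [[0], [2]] ≃* Γ)) (f' : Nonempty (subW CL.Std.O6m2.gs1 [[0], [2]] ≃* Δ))
    (P : Sylow 2 Γ) (Q : Sylow 2 Δ) : Nonempty ((P : Subgroup Γ) ≃* (Q : Subgroup Δ)) := by
  obtain ⟨_, cs, t⟩ := xtop f
  obtain ⟨_, ds, u⟩ := CL.SylIso.O6m2.xtop f'
  have := t.finite
  have := u.finite
  obtain ⟨e, gs, t, h⟩ := t.wlog_sylow (p := 2) (k := 7) (by norm_num) (by decide +kernel) (xP_card t.c) (A := P)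
    (by rw [Sylow.card_eq_multiplicity, t.card]; decide +kernel)
  obtain ⟨e', gs', u, h'⟩ := u.wlog_sylow (p := 2) (k := 7) (by norm_num) (by decide +kernel) (CL.SylIso.O6m2.xP_card u.c) (A := Q)
    (by rw [Sylow.card_eq_multiplicity, u.card]; decide +kernel)
  rw [← h, ← h']
  exact (xrel t.c u.c (u.fa.mono le_top)).equiv_of_card (xP_ub t.c) (CL.SylIso.O6m2.xP_lb u.c)

end
end CL.SylIso.S8

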