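import Cfsg.Agent.Spor.TCSound
import Cfsg.Agent.Spor.TCCo1L2D0
import Cfsg.Agent.Spor.TCCo1L2D1

/-! coset enumeration certificate generated by tools/tc -/

set_option maxRecDepth 100000
set_option autoImplicit false
set_option linter.all false

namespace CL.TC.Co1L2

noncomputable def rows : Tr ℕ := (.node (nat_lit 4096) (.node (nat_lit 2048) (.node (nat_lit 1024) (.node (nat_lit 512) (.node (nat_lit 256) (.node (nat_lit 128) (.node (nat_lit 64) (.node (nat_lit 32) (.node (nat_lit 16) rows0 rows1) (.node (nat_lit 16) rows2 rows3)) (.node (nat_lit 32) (.node (nat_lit 16) rows4 rows5) (.node (nat_lit 16) rows6 rows7))) (.node (nat_lit 64) (.node (nat_lit 32) (.node (nat_lit 16) rows8 rows9) (.node (nat_lit 16) rows10 rows11)) (.node (nat_lit 32) (.node (nat_lit 16) rows12 rows13) (.node (nat_lit 16) rows14 rows15)))) (.node (nat_lit 128) (.node (nat_lit 64) (.node (nat_lit 32) (.node (nat_lit 16) rows16 rows17) (.node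 (nat_lit 16) rows18 rows19)) (.node (nat_lit 32) (.node (nat_lit 16) rows20 rows21) (.node (nat_lit 16) rows22 rows23))) (.node (nat_lit 64) (.node (nat_lit 32) (.node (nat_lit 16) rows24 rows25) (.node (nat_lit 16) rows26 rows27)) (.node (nat_lit 32) (.node (nat_lit 16) rows28 rows29) (.node (nat_lit 16) rows30 rows31))))) (.node (nat_lit 256) (.node (nat_lit 128) (.node (nat_lit 64) (.node (nat_lit 32) (.node (nat_lit 16) rows32 rows33) (.node (nat_lit 16) rows34 rows35)) (.node (nat_lit 32) (.node (nat_lit 16) rows36 rows37) (.node (nat_lit 16) rows38 rows39))) (.node (nat_lit 64) (.node (nat_lit 32) (.node (nat_lit 16) rows40 rows41) (.node (nat_lit 16) rows42 rows43)) (.node (nat_lit 32) (.node (nat_lit 16) rows44 rows45) (.node (nat_lit 16) rows46 rows47)))) (.node (nat_lit 128) (.node (nat_lit 64) (.node (nat_lit 32) (.node (nat_lit 16) rows48 rows49) (.node (nat_lit 16) rows50 rows51)) (.node (nat_lit 32) (.node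 (nat_lit 16) rows52 rows53) (.node (nat_lit 16) rows54 rows55))) (.node (nat_lit 64) (.node (nat_lit 32) (.node (nat_lit 16) rows56 rows57) (.node (nat_lit 16) rows58 rows59)) (.node (nat_lit 32) (.node (nat_lit 16) rows60 rows61) (.node (nat_lit 16) rows62 rows63)))))) (.node (nat_lit 512) (.node (nat_lit 256) (.node (nat_lit 128) (.node (nat_lit 64) (.node (nat_lit 32) (.node (nat_lit 16) rows64 rows65) (.node (nat_lit 16) rows66 rows67)) (.node (nat_lit 32) (.node (nat_lit 16) rows68 rows69) (.node (nat_lit 16) rows70 rows71))) (.node (nat_lit 64) (.node (nat_lit 32) (.node (nat_lit 16) rows72 rows73) (.node (nat_lit 16) rows74 rows75)) (.node (nat_lit 32) (.node (nat_lit 16) rows76 rows77) (.node (nat_lit 16) rows78 rows79)))) (.node (nat_lit 128) (.node (nat_lit 64) (.node (nat_lit 32) (.node (nat_lit 16) rows80 rows81) (.node (nat_lit 16) rows82 rows83)) (.node (nat_lit 32) (.node (nat_lit 16) rows84 rows85) (.node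 (nat_lit 16) rows86 rows87))) (.node (nat_lit 64) (.node (nat_lit 32) (.node (nat_lit 16) rows88 rows89) (.node (nat_lit 16) rows90 rows91)) (.node (nat_lit 32) (.node (nat_lit 16) rows92 rows93) (.node (nat_lit 16) rows94 rows95))))) (.node (nat_lit 256) (.node (nat_lit 128) (.node (nat_lit 64) (.node (nat_lit 32) (.node (nat_lit 16) rows96 rows97) (.node (nat_lit 16) rows98 rows99)) (.node (nat_lit 32) (.node (nat_lit 16) rows100 rows101) (.node (nat_lit 16) rows102 rows103))) (.node (nat_lit 64) (.node (nat_lit 32) (.node (nat_lit 16) rows104 rows105) (.node (nat_lit 16) rows106 rows107)) (.node (nat_lit 32) (.node (nat_lit 16) rows108 rows109) (.node (nat_lit 16) rows110 rows111)))) (.node (nat_lit 128) (.node (nat_lit 64) (.node (nat_lit 32) (.node (nat_lit 16) rows112 rows113) (.node (nat_lit 16) rows114 rows115)) (.node (nat_lit 32) (.node (nat_lit 16) rows116 rows117) (.node (nat_lit 16) rows118 rows119))) (.node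 (nat_lit 64) (.node (nat_lit 32) (.node (nat_lit 16) rows120 rows121) (.node (nat_lit 16) rows122 rows123)) (.node (nat_lit 32) (.node (nat_lit 16) rows124 rows125) (.node (nat_lit 16) rows126 rows127))))))) (.node (nat_lit 1024) (.node (nat_lit 512) (.node (nat_lit 256) (.node (nat_lit 128) (.node (nat_lit 64) (.node (nat_lit 32) (.node (nat_lit 16) rows128 rows129) (.node (nat_lit 16) rows130 rows131)) (.node (nat_lit 32) (.node (nat_lit 16) rows132 rows133) (.node (nat_lit 16) rows134 rows135))) (.node (nat_lit 64) (.node (nat_lit 32) (.node (nat_lit 16) rows136 rows137) (.node (nat_lit 16) rows138 rows139)) (.node (nat_lit 32) (.node (nat_lit 16) rows140 rows141) (.node (nat_lit 16) rows142 rows143)))) (.node (nat_lit 128) (.node (nat_lit 64) (.node (nat_lit 32) (.node (nat_lit 16) rows144 rows145) (.node (nat_lit 16) rows146 rows147)) (.node (nat_lit 32) (.node (nat_lit 16) rows148 rows149) (.node (nat_lit 16)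 rows150 rows151))) (.node (nat_lit 64) (.node (nat_lit 32) (.node (nat_lit 16) rows152 rows153) (.node (nat_lit 16) rows154 rows155)) (.node (nat_lit 32) (.node (nat_lit 16) rows156 rows157) (.node (nat_lit 16) rows158 rows159))))) (.node (nat_lit 256) (.node (nat_lit 128) (.node (nat_lit 64) (.node (nat_lit 32) (.node (nat_lit 16) rows160 rows161) (.node (nat_lit 16) rows162 rows163)) (.node (nat_lit 32) (.node (nat_lit 16) rows164 rows165) (.node (nat_lit 16) rows166 rows167))) (.node (nat_lit 64) (.node (nat_lit 32) (.node (nat_lit 16) rows168 rows169) (.node (nat_lit 16) rows170 rows171)) (.node (nat_lit 32) (.node (nat_lit 16) rows172 rows173) (.node (nat_lit 16) rows174 rows175)))) (.node (nat_lit 128) (.node (nat_lit 64) (.node (nat_lit 32) (.node (nat_lit 16) rows176 rows177) (.node (nat_lit 16) rows178 rows179)) (.node (nat_lit 32) (.node (nat_lit 16) rows180 rows181) (.node (nat_lit 16) rows182 rows183)))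 (.node (nat_lit 64) (.node (nat_lit 32) (.node (nat_lit 16) rows184 rows185) (.node (nat_lit 16) rows186 rows187)) (.node (nat_lit 32) (.node (nat_lit 16) rows188 rows189) (.node (nat_lit 16) rows190 rows191)))))) (.node (nat_lit 512) (.node (nat_lit 256) (.node (nat_lit 128) (.node (nat_lit 64) (.node (nat_lit 32) (.node (nat_lit 16) rows192 rows193) (.node (nat_lit 16) rows194 rows195)) (.node (nat_lit 32) (.node (nat_lit 16) rows196 rows197) (.node (nat_lit 16) rows198 rows199))) (.node (nat_lit 64) (.node (nat_lit 32) (.node (nat_lit 16) rows200 rows201) (.node (nat_lit 16) rows202 rows203)) (.node (nat_lit 32) (.node (nat_lit 16) rows204 rows205) (.node (nat_lit 16) rows206 rows207)))) (.node (nat_lit 128) (.node (nat_lit 64) (.node (nat_lit 32) (.node (nat_lit 16) rows208 rows209) (.node (nat_lit 16) rows210 rows211)) (.node (nat_lit 32) (.node (nat_lit 16) rows212 rows213) (.node (nat_lit 16) rows214 rows215)))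 (.node (nat_lit 64) (.node (nat_lit 32) (.node (nat_lit 16) rows216 rows217) (.node (nat_lit 16) rows218 rows219)) (.node (nat_lit 32) (.node (nat_lit 16) rows220 rows221) (.node (nat_lit 16) rows222 rows223))))) (.node (nat_lit 256) (.node (nat_lit 128) (.node (nat_lit 64) (.node (nat_lit 32) (.node (nat_lit 16) rows224 rows225) (.node (nat_lit 16) rows226 rows227)) (.node (nat_lit 32) (.node (nat_lit 16) rows228 rows229) (.node (nat_lit 16) rows230 rows231))) (.node (nat_lit 64) (.node (nat_lit 32) (.node (nat_lit 16) rows232 rows233) (.node (nat_lit 16) rows234 rows235)) (.node (nat_lit 32) (.node (nat_lit 16) rows236 rows237) (.node (nat_lit 16) rows238 rows239)))) (.node (nat_lit 128) (.node (nat_lit 64) (.node (nat_lit 32) (.node (nat_lit 16) rows240 rows241) (.node (nat_lit 16) rows242 rows243)) (.node (nat_lit 32) (.node (nat_lit 16) rows244 rows245) (.node (nat_lit 16) rows246 rows247))) (.node (nat_lit 64)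 (.node (nat_lit 32) (.node (nat_lit 16) rows248 rows249) (.node (nat_lit 16) rows250 rows251)) (.node (nat_lit 32) (.node (nat_lit 16) rows252 rows253) (.node (nat_lit 16) rows254 rows255)))))))) (.node (nat_lit 1024) (.node (nat_lit 512) (.node (nat_lit 256) (.node (nat_lit 128) (.node (nat_lit 64) (.node (nat_lit 32) (.node (nat_lit 16) rows256 rows257) (.node (nat_lit 16) rows258 rows259)) (.node (nat_lit 32) (.node (nat_lit 16) rows260 rows261) (.node (nat_lit 16) rows262 rows263))) (.node (nat_lit 64) (.node (nat_lit 32) (.node (nat_lit 16) rows264 rows265) (.node (nat_lit 16) rows266 rows267)) (.node (nat_lit 32) (.node (nat_lit 16) rows268 rows269) (.node (nat_lit 16) rows270 rows271)))) (.node (nat_lit 128) (.node (nat_lit 64) (.node (nat_lit 32) (.node (nat_lit 16) rows272 rows273) (.node (nat_lit 16) rows274 rows275)) (.node (nat_lit 32) (.node (nat_lit 16) rows276 rows277) (.node (nat_lit 16) rows278 rows279)))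 (.node (nat_lit 64) (.node (nat_lit 32) (.node (nat_lit 16) rows280 rows281) (.node (nat_lit 16) rows282 rows283)) (.node (nat_lit 32) (.node (nat_lit 16) rows284 rows285) (.node (nat_lit 16) rows286 rows287))))) (.node (nat_lit 256) (.node (nat_lit 128) (.node (nat_lit 64) (.node (nat_lit 32) (.node (nat_lit 16) rows288 rows289) (.node (nat_lit 16) rows290 rows291)) (.node (nat_lit 32) (.node (nat_lit 16) rows292 rows293) (.node (nat_lit 16) rows294 rows295))) (.node (nat_lit 64) (.node (nat_lit 32) (.node (nat_lit 16) rows296 rows297) (.node (nat_lit 16) rows298 rows299)) (.node (nat_lit 32) (.node (nat_lit 16) rows300 rows301) (.node (nat_lit 16) rows302 rows303)))) (.node (nat_lit 128) (.node (nat_lit 64) (.node (nat_lit 32) (.node (nat_lit 16) rows304 rows305) (.node (nat_lit 16) rows306 rows307)) (.node (nat_lit 32) (.node (nat_lit 16) rows308 rows309) (.node (nat_lit 16) rows310 rows311))) (.node (nat_lit 64)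 (.node (nat_lit 32) (.node (nat_lit 16) rows312 rows313) (.node (nat_lit 16) rows314 rows315)) (.node (nat_lit 32) (.node (nat_lit 16) rows316 rows317) (.node (nat_lit 16) rows318 rows319)))))) (.node (nat_lit 512) (.node (nat_lit 256) (.node (nat_lit 128) (.node (nat_lit 64) (.node (nat_lit 32) (.node (nat_lit 16) rows320 rows321) (.node (nat_lit 16) rows322 rows323)) (.node (nat_lit 32) (.node (nat_lit 16) rows324 rows325) (.node (nat_lit 16) rows326 rows327))) (.node (nat_lit 64) (.node (nat_lit 32) (.node (nat_lit 16) rows328 rows329) (.node (nat_lit 16) rows330 rows331)) (.node (nat_lit 32) (.node (nat_lit 16) rows332 rows333) (.node (nat_lit 16) rows334 rows335)))) (.node (nat_lit 128) (.node (nat_lit 64) (.node (nat_lit 32) (.node (nat_lit 16) rows336 rows337) (.node (nat_lit 16) rows338 rows339)) (.node (nat_lit 32) (.node (nat_lit 16) rows340 rows341) (.node (nat_lit 16) rows342 rows343))) (.node (nat_lit 64)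 (.node (nat_lit 32) (.node (nat_lit 16) rows344 rows345) (.node (nat_lit 16) rows346 rows347)) (.node (nat_lit 32) (.node (nat_lit 16) rows348 rows349) (.node (nat_lit 16) rows350 rows351))))) (.node (nat_lit 256) (.node (nat_lit 128) (.node (nat_lit 64) (.node (nat_lit 32) (.node (nat_lit 16) rows352 rows353) (.node (nat_lit 16) rows354 rows355)) (.node (nat_lit 32) (.node (nat_lit 16) rows356 rows357) (.node (nat_lit 16) rows358 rows359))) (.node (nat_lit 64) (.node (nat_lit 32) (.node (nat_lit 16) rows360 rows361) (.node (nat_lit 16) rows362 rows363)) (.node (nat_lit 32) (.node (nat_lit 16) rows364 rows365) (.node (nat_lit 16) rows366 rows367)))) (.node (nat_lit 128) (.node (nat_lit 64) (.node (nat_lit 32) (.node (nat_lit 16) rows368 rows369) (.node (nat_lit 16) rows370 rows371)) (.node (nat_lit 32) (.node (nat_lit 16) rows372 rows373) (.node (nat_lit 16) rows374 rows375))) (.node (nat_lit 64) (.node (nat_lit 32)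 (.node (nat_lit 16) rows376 rows377) (.node (nat_lit 16) rows378 rows379)) (.node (nat_lit 32) (.node (nat_lit 16) rows380 rows381) (.node (nat_lit 16) rows382 rows383))))))))
noncomputable def recs : Tr ℕ := recs0
noncomputable def ci0 : CI := ⟨[], (nat_lit 0), false, (.node (nat_lit 1) (.leaf Rule.defn) (.leaf Rule.copy)), (.leaf (XRule.rot (nat_lit 0) [] 126 0))⟩
noncomputable def ci9 : CI := ⟨[0], (nat_lit 9), true, (.node (nat_lit 32) (.node (nat_lit 16) (.node (nat_lit 8) (.node (nat_lit 4) (.node (nat_lit 2) (.node (nat_lit 1) (.leaf Rule.defn) (.leaf Rule.copy)) (.node (nat_lit 1) (.leaf (Rule.fwd [nat_lit 9] 126 0)) (.leaf (Rule.fwd [nat_lit 329, nat_lit 9, nat_lit 329] 10 0)))) (.node (nat_lit 2) (.node (nat_lit 1) (.leaf (Rule.fwd [nat_lit 233, nat_lit 9, nat_lit 233] 8 0)) (.leaf (Rule.fwd [nat_lit 169, nat_lit 297, nat_lit 169, nat_lit 9, nat_lit 169, nat_lit 297, nat_lit 169] 118 0))) (.node (nat_lit 1)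 (.leaf (Rule.fwd [nat_lit 265, nat_lit 9, nat_lit 265, nat_lit 9, nat_lit 265] 72 0)) (.leaf (Rule.fwd [nat_lit 201, nat_lit 9, nat_lit 201] 6 0))))) (.node (nat_lit 4) (.node (nat_lit 2) (.node (nat_lit 1) (.leaf (Rule.fwd [nat_lit 73, nat_lit 9, nat_lit 73] 2 0)) (.leaf (Rule.fwd [nat_lit 137, nat_lit 9, nat_lit 105] 4 2))) (.node (nat_lit 1) (.leaf (Rule.fwd [nat_lit 105, nat_lit 9, nat_lit 137] 4 0)) (.leaf (Rule.fwd [nat_lit 201, nat_lit 9, nat_lit 265, nat_lit 201, nat_lit 265] 64 0)))) (.node (nat_lit 2) (.node (nat_lit 1) (.leaf (Rule.fwd [nat_lit 73, nat_lit 9, nat_lit 265, nat_lit 73, nat_lit 265] 56 0)) (.leaf (Rule.fwd [nat_lit 233, nat_lit 9, nat_lit 265, nat_lit 233, nat_lit 265] 68 0))) (.node (nat_lit 1) (.leaf (Rule.fwd [nat_lit 137, nat_lit 9, nat_lit 265, nat_lit 105, nat_lit 265] 61 3)) (.leaf (Rule.fwd [nat_lit 105, nat_lit 9, nat_lit 265, nat_lit 137, nat_lit 265] 60 0)))))) (.node (nat_lit 8)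 (.node (nat_lit 4) (.node (nat_lit 2) (.node (nat_lit 1) (.leaf (Rule.fwd [nat_lit 41, nat_lit 169, nat_lit 41, nat_lit 9, nat_lit 41, nat_lit 169, nat_lit 41] 116 0)) (.leaf (Rule.fwd [nat_lit 233, nat_lit 9, nat_lit 297, nat_lit 233, nat_lit 297] 70 0))) (.node (nat_lit 1) (.leaf (Rule.fwd [nat_lit 169, nat_lit 105, nat_lit 169, nat_lit 9, nat_lit 105] 58 2)) (.leaf (Rule.fwd [nat_lit 169, nat_lit 137, nat_lit 169, nat_lit 9, nat_lit 137] 59 1)))) (.node (nat_lit 2) (.node (nat_lit 1) (.leaf (Rule.fwd [nat_lit 201, nat_lit 9, nat_lit 297, nat_lit 201, nat_lit 297] 66 0)) (.leaf (Rule.fwd [nat_lit 105, nat_lit 9, nat_lit 297, nat_lit 105, nat_lit 297] 62 0))) (.node (nat_lit 1) (.leaf (Rule.fwd [nat_lit 137, nat_lit 9, nat_lit 297, nat_lit 137, nat_lit 297] 63 3)) (.leaf (Rule.fwd [nat_lit 137, nat_lit 9, nat_lit 169, nat_lit 137, nat_lit 169] 59 3))))) (.node (nat_lit 4) (.node (nat_lit 2) (.node (nat_lit 1) (.leaf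 (Rule.fwd [nat_lit 105, nat_lit 9, nat_lit 169, nat_lit 105, nat_lit 169] 58 0)) (.leaf (Rule.fwd [nat_lit 265, nat_lit 105, nat_lit 265, nat_lit 9, nat_lit 137] 61 1))) (.node (nat_lit 1) (.leaf (Rule.fwd [nat_lit 297, nat_lit 233, nat_lit 297, nat_lit 9, nat_lit 233] 70 2)) (.leaf (Rule.fwd [nat_lit 297, nat_lit 105, nat_lit 297, nat_lit 9, nat_lit 105] 62 2)))) (.node (nat_lit 2) (.node (nat_lit 1) (.leaf (Rule.fwd [nat_lit 297, nat_lit 137, nat_lit 297, nat_lit 9, nat_lit 137] 63 1)) (.leaf (Rule.fwd [nat_lit 297, nat_lit 201, nat_lit 297, nat_lit 9, nat_lit 201] 66 2))) (.node (nat_lit 1) (.leaf (Rule.fwd [nat_lit 169, nat_lit 265, nat_lit 169, nat_lit 9, nat_lit 265, nat_lit 169, nat_lit 265, nat_lit 169, nat_lit 265] 120 0)) (.leaf (Rule.fwd [nat_lit 73, nat_lit 297, nat_lit 73, nat_lit 9, nat_lit 41, nat_lit 9, nat_lit 73, nat_lit 297, nat_lit 9, nat_lit 73, nat_lit 41] 122 8))))))) (.node (nat_lit 8) (.node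 (nat_lit 4) (.node (nat_lit 2) (.node (nat_lit 1) (.leaf (Rule.fwd [nat_lit 233, nat_lit 265, nat_lit 297, nat_lit 9, nat_lit 297, nat_lit 329, nat_lit 233, nat_lit 297, nat_lit 9, nat_lit 297, nat_lit 265, nat_lit 9, nat_lit 297, nat_lit 329, nat_lit 297] 124 0)) (.leaf (Rule.fwd [nat_lit 265, nat_lit 169, nat_lit 265, nat_lit 169, nat_lit 265, nat_lit 9, nat_lit 169, nat_lit 265, nat_lit 169] 120 4))) (.node (nat_lit 1) (.leaf (Rule.fwd [nat_lit 297, nat_lit 329, nat_lit 297, nat_lit 9, nat_lit 265, nat_lit 297, nat_lit 9, nat_lit 297, nat_lit 233, nat_lit 329, nat_lit 297, nat_lit 9, nat_lit 297, nat_lit 265, nat_lit 233] 125 1)) (.leaf (Rule.fwd [nat_lit 265, nat_lit 73, nat_lit 265, nat_lit 9, nat_lit 73] 56 2)))) (.node (nat_lit 2) (.node (nat_lit 1) (.leaf (Rule.fwd [nat_lit 265, nat_lit 201, nat_lit 265, nat_lit 9, nat_lit 201] 64 2)) (.leaf (Rule.fwd [nat_lit 265, nat_lit 137, nat_lit 265, nat_lit 9, nat_lit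 105] 60 2))) (.node (nat_lit 1) (.leaf (Rule.fwd [nat_lit 265, nat_lit 297, nat_lit 9, nat_lit 297, nat_lit 233, nat_lit 329, nat_lit 297, nat_lit 9, nat_lit 297, nat_lit 265, nat_lit 233, nat_lit 9, nat_lit 297, nat_lit 329, nat_lit 297] 125 13)) (.leaf (Rule.fwd [nat_lit 265, nat_lit 233, nat_lit 265, nat_lit 9, nat_lit 233] 68 2))))) (.node (nat_lit 4) (.node (nat_lit 2) (.node (nat_lit 1) (.leaf (Rule.fwd [nat_lit 297, nat_lit 329, nat_lit 297, nat_lit 9, nat_lit 233, nat_lit 265, nat_lit 297, nat_lit 9, nat_lit 297, nat_lit 329, nat_lit 233, nat_lit 297, nat_lit 9, nat_lit 297, nat_lit 265] 124 12)) (.leaf (Rule.fwd [nat_lit 73, nat_lit 41, nat_lit 9, nat_lit 73, nat_lit 297, nat_lit 73, nat_lit 9, nat_lit 41, nat_lit 9, nat_lit 73, nat_lit 297] 122 5))) (.node (nat_lit 1) (.leaf (Rule.fwd [nat_lit 41, nat_lit 9, nat_lit 73, nat_lit 297, nat_lit 9, nat_lit 73, nat_lit 41, nat_lit 9, nat_lit 73, nat_lit 297, nat_lit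 73] 122 0)) (.leaf (Rule.fwd [nat_lit 297, nat_lit 265, nat_lit 233, nat_lit 9, nat_lit 297, nat_lit 329, nat_lit 297, nat_lit 9, nat_lit 265, nat_lit 297, nat_lit 9, nat_lit 297, nat_lit 233, nat_lit 329, nat_lit 297] 125 5)))) (.node (nat_lit 1) (.leaf (Rule.fwd [nat_lit 297, nat_lit 265, nat_lit 9, nat_lit 297, nat_lit 329, nat_lit 297, nat_lit 9, nat_lit 233, nat_lit 265, nat_lit 297, nat_lit 9, nat_lit 297, nat_lit 329, nat_lit 233, nat_lit 297] 124 9)) (.leaf (Rule.fwd [nat_lit 297, nat_lit 233, nat_lit 329, nat_lit 297, nat_lit 9, nat_lit 297, nat_lit 265, nat_lit 233, nat_lit 9, nat_lit 297, nat_lit 329, nat_lit 297, nat_lit 9, nat_lit 265, nat_lit 297] 125 10)))))), (.node (nat_lit 1) (.leaf XRule.defn) (.leaf XRule.ax))⟩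
noncomputable def ci41 : CI := ⟨[1], (nat_lit 41), true, (.node (nat_lit 16) (.node (nat_lit 8) (.node (nat_lit 4) (.node (nat_lit 2) (.node (nat_lit 1) (.leaf Rule.defn) (.leaf Rule.copy)) (.node (nat_lit 1) (.leaf (Rule.fwd [nat_lit 41] 126 0)) (.leaf (Rule.fwd [nat_lit 329, nat_lit 41, nat_lit 329] 18 0)))) (.node (nat_lit 2) (.node (nat_lit 1) (.leaf (Rule.fwd [nat_lit 233, nat_lit 41, nat_lit 233] 12 0)) (.leaf (Rule.fwd [nat_lit 297, nat_lit 41, nat_lit 297] 16 0))) (.node (nat_lit 1) (.leaf (Rule.fwd [nat_lit 201, nat_lit 169, nat_lit 73, nat_lit 169, nat_lit 201] 82 0)) (.leaf (Rule.fwd [nat_lit 265, nat_lit 41, nat_lit 265] 14 0))))) (.node (nat_lit 4) (.node (nat_lit 2) (.node (nat_lit 1) (.leaf (Rule.fwd [nat_lit 105, nat_lit 41, nat_lit 105, nat_lit 41, nat_lit 105] 78 0)) (.leaf (Rule.fwd [nat_lit 73, nat_lit 297, nat_lit 41, nat_lit 73, nat_lit 297] 76 0))) (.node (nat_lit 1) (.leaf (Rule.fwd [nat_lit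 297, nat_lit 73, nat_lit 41, nat_lit 297, nat_lit 73] 77 1)) (.leaf (Rule.fwd [nat_lit 169, nat_lit 41, nat_lit 169, nat_lit 41, nat_lit 169] 80 0)))) (.node (nat_lit 2) (.node (nat_lit 1) (.leaf (Rule.fwd [nat_lit 137, nat_lit 41, nat_lit 137, nat_lit 41, nat_lit 137] 79 1)) (.leaf (Rule.fwd [nat_lit 73, nat_lit 41, nat_lit 297, nat_lit 73, nat_lit 297] 74 0))) (.node (nat_lit 1) (.leaf (Rule.fwd [nat_lit 297, nat_lit 73, nat_lit 297, nat_lit 41, nat_lit 73] 74 2)) (.leaf (Rule.fwd [nat_lit 9, nat_lit 41, nat_lit 169, nat_lit 41, nat_lit 9, nat_lit 41, nat_lit 169] 116 3)))))) (.node (nat_lit 2) (.node (nat_lit 1) (.leaf (Rule.fwd [nat_lit 169, nat_lit 41, nat_lit 9, nat_lit 41, nat_lit 169, nat_lit 41, nat_lit 9] 116 1)) (.leaf (Rule.fwd [nat_lit 9, nat_lit 73, nat_lit 297, nat_lit 73, nat_lit 9, nat_lit 41, nat_lit 9, nat_lit 73, nat_lit 297, nat_lit 9, nat_lit 73] 122 7))) (.leaf (Rule.fwd [nat_lit 9, nat_lit 73,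 nat_lit 297, nat_lit 9, nat_lit 73, nat_lit 41, nat_lit 9, nat_lit 73, nat_lit 297, nat_lit 73, nat_lit 9] 122 1)))), (.node (nat_lit 1) (.leaf XRule.defn) (.leaf XRule.ax))⟩
noncomputable def ci73 : CI := ⟨[2], (nat_lit 73), true, (.node (nat_lit 16) (.node (nat_lit 8) (.node (nat_lit 4) (.node (nat_lit 2) (.node (nat_lit 1) (.leaf Rule.defn) (.leaf Rule.copy)) (.node (nat_lit 1) (.leaf (Rule.fwd [nat_lit 73] 126 0)) (.leaf (Rule.fwd [nat_lit 105, nat_lit 329, nat_lit 73, nat_lit 105, nat_lit 329] 86 0)))) (.node (nat_lit 2) (.node (nat_lit 1) (.leaf (Rule.fwd [nat_lit 233, nat_lit 73, nat_lit 233] 20 0)) (.leaf (Rule.fwd [nat_lit 297, nat_lit 41, nat_lit 73, nat_lit 41, nat_lit 297] 74 4))) (.node (nat_lit 1) (.leaf (Rule.fwd [nat_lit 297, nat_lit 233, nat_lit 297, nat_lit 73, nat_lit 233] 92 2)) (.leaf (Rule.fwd [nat_lit 9, nat_lit 73, nat_lit 9] 2 1))))) (.node (nat_lit 4) (.node (nat_lit 2) (.node (nat_lit 1) (.leaf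 (Rule.fwd [nat_lit 265, nat_lit 9, nat_lit 73, nat_lit 9, nat_lit 265] 56 4)) (.leaf (Rule.fwd [nat_lit 169, nat_lit 201, nat_lit 41, nat_lit 201, nat_lit 169] 82 3))) (.node (nat_lit 1) (.leaf (Rule.fwd [nat_lit 41, nat_lit 297, nat_lit 73, nat_lit 297, nat_lit 41] 74 1)) (.leaf (Rule.fwd [nat_lit 265, nat_lit 73, nat_lit 265] 22 0)))) (.node (nat_lit 2) (.node (nat_lit 1) (.leaf (Rule.fwd [nat_lit 9, nat_lit 265, nat_lit 73, nat_lit 265, nat_lit 9] 56 1)) (.leaf (Rule.fwd [nat_lit 329, nat_lit 265, nat_lit 329, nat_lit 73, nat_lit 265] 96 2))) (.node (nat_lit 1) (.leaf (Rule.fwd [nat_lit 137, nat_lit 73, nat_lit 137, nat_lit 73, nat_lit 137] 85 1)) (.leaf (Rule.fwd [nat_lit 105, nat_lit 73, nat_lit 105, nat_lit 73, nat_lit 105] 84 0)))))) (.node (nat_lit 8) (.node (nat_lit 4) (.node (nat_lit 2) (.node (nat_lit 1) (.leaf (Rule.fwd [nat_lit 265, nat_lit 73, nat_lit 297, nat_lit 265, nat_lit 297] 94 0)) (.leaf (Rule.fwd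 [nat_lit 265, nat_lit 73, nat_lit 329, nat_lit 265, nat_lit 329] 96 0))) (.node (nat_lit 1) (.leaf (Rule.fwd [nat_lit 297, nat_lit 265, nat_lit 297, nat_lit 73, nat_lit 265] 94 2)) (.leaf (Rule.fwd [nat_lit 329, nat_lit 137, nat_lit 73, nat_lit 105, nat_lit 329] 88 3)))) (.node (nat_lit 2) (.node (nat_lit 1) (.leaf (Rule.fwd [nat_lit 233, nat_lit 73, nat_lit 297, nat_lit 233, nat_lit 297] 92 0)) (.leaf (Rule.fwd [nat_lit 329, nat_lit 137, nat_lit 73, nat_lit 329, nat_lit 137] 87 1))) (.node (nat_lit 1) (.leaf (Rule.fwd [nat_lit 297, nat_lit 41, nat_lit 73, nat_lit 297, nat_lit 41] 76 1)) (.leaf (Rule.fwd [nat_lit 41, nat_lit 297, nat_lit 73, nat_lit 41, nat_lit 297] 77 2))))) (.node (nat_lit 1) (.leaf (Rule.fwd [nat_lit 201, nat_lit 73, nat_lit 201, nat_lit 73, nat_lit 201] 90 0)) (.leaf (Rule.fwd [nat_lit 105, nat_lit 329, nat_lit 73, nat_lit 329, nat_lit 137] 88 0))))), (.node (nat_lit 1) (.leaf XRule.defn) (.leaf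 XRule.ax))⟩
noncomputable def ci105 : CI := ⟨[3], (nat_lit 137), true, (.node (nat_lit 16) (.node (nat_lit 8) (.node (nat_lit 4) (.node (nat_lit 2) (.node (nat_lit 1) (.leaf Rule.defn) (.leaf Rule.copy)) (.node (nat_lit 1) (.leaf (Rule.fwd [nat_lit 137] 126 0)) (.leaf (Rule.fwd [nat_lit 329, nat_lit 105, nat_lit 329] 34 0)))) (.node (nat_lit 2) (.node (nat_lit 1) (.leaf (Rule.fwd [nat_lit 233, nat_lit 105, nat_lit 233] 28 0)) (.leaf (Rule.fwd [nat_lit 297, nat_lit 105, nat_lit 297] 32 0))) (.node (nat_lit 1) (.leaf (Rule.fwd [nat_lit 9, nat_lit 297, nat_lit 105, nat_lit 297, nat_lit 9] 62 1)) (.leaf (Rule.fwd [nat_lit 169, nat_lit 9, nat_lit 105, nat_lit 9, nat_lit 169] 58 4))))) (.node (nat_lit 4) (.node (nat_lit 2) (.node (nat_lit 1) (.leaf (Rule.fwd [nat_lit 297, nat_lit 9, nat_lit 105, nat_lit 9, nat_lit 297] 62 4)) (.leaf (Rule.fwd [nat_lit 201, nat_lit 105, nat_lit 201] 26 0))) (.node (nat_lit 1) (.leaf (Rule.fwd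 [nat_lit 9, nat_lit 265, nat_lit 137, nat_lit 265, nat_lit 9] 60 1)) (.leaf (Rule.fwd [nat_lit 201, nat_lit 329, nat_lit 201, nat_lit 329] 54 0)))) (.node (nat_lit 2) (.node (nat_lit 1) (.leaf (Rule.fwd [nat_lit 105, nat_lit 105] 0 0)) (.leaf (Rule.fwd [nat_lit 265, nat_lit 137, nat_lit 265] 30 0))) (.node (nat_lit 1) (.leaf (Rule.fwd [nat_lit 329, nat_lit 201, nat_lit 329, nat_lit 201, nat_lit 105] 98 1)) (.leaf (Rule.fwd [nat_lit 105, nat_lit 329, nat_lit 201, nat_lit 329, nat_lit 201] 98 0)))))) (.node (nat_lit 4) (.node (nat_lit 2) (.node (nat_lit 1) (.leaf (Rule.fwd [nat_lit 329, nat_lit 73, nat_lit 105, nat_lit 329, nat_lit 73] 86 1)) (.leaf (Rule.fwd [nat_lit 169, nat_lit 105, nat_lit 169] 24 0))) (.node (nat_lit 1) (.leaf (Rule.fwd [nat_lit 329, nat_lit 73, nat_lit 329, nat_lit 137, nat_lit 73] 88 1)) (.leaf (Rule.fwd [nat_lit 73, nat_lit 105, nat_lit 73, nat_lit 105, nat_lit 73] 84 1)))) (.node (nat_lit 2)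 (.node (nat_lit 1) (.leaf (Rule.fwd [nat_lit 9, nat_lit 137, nat_lit 9] 4 1)) (.leaf (Rule.fwd [nat_lit 265, nat_lit 9, nat_lit 137, nat_lit 9, nat_lit 265] 61 5))) (.node (nat_lit 1) (.leaf (Rule.fwd [nat_lit 9, nat_lit 169, nat_lit 105, nat_lit 169, nat_lit 9] 58 1)) (.leaf (Rule.fwd [nat_lit 41, nat_lit 105, nat_lit 41, nat_lit 105, nat_lit 41] 78 1)))))), (.node (nat_lit 1) (.leaf XRule.defn) (.leaf XRule.ax))⟩
noncomputable def ci137 : CI := ⟨[4], (nat_lit 105), false, (.node (nat_lit 16) (.node (nat_lit 8) (.node (nat_lit 4) (.node (nat_lit 2) (.node (nat_lit 1) (.leaf Rule.defn) (.leaf Rule.copy)) (.node (nat_lit 1) (.leaf (Rule.fwd [nat_lit 105] 126 0)) (.leaf (Rule.fwd [nat_lit 265, nat_lit 9, nat_lit 105, nat_lit 9, nat_lit 265] 60 4)))) (.node (nat_lit 2) (.node (nat_lit 1) (.leaf (Rule.fwd [nat_lit 265, nat_lit 105, nat_lit 265] 30 2)) (.leaf (Rule.fwd [nat_lit 329, nat_lit 201, nat_lit 329, nat_lit 201]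 55 1))) (.node (nat_lit 1) (.leaf (Rule.fwd [nat_lit 9, nat_lit 265, nat_lit 105, nat_lit 265, nat_lit 9] 61 2)) (.leaf (Rule.fwd [nat_lit 201, nat_lit 137, nat_lit 201] 27 1))))) (.node (nat_lit 4) (.node (nat_lit 2) (.node (nat_lit 1) (.leaf (Rule.fwd [nat_lit 329, nat_lit 137, nat_lit 329] 35 1)) (.leaf (Rule.fwd [nat_lit 73, nat_lit 329, nat_lit 137, nat_lit 73, nat_lit 329] 87 2))) (.node (nat_lit 1) (.leaf (Rule.fwd [nat_lit 297, nat_lit 9, nat_lit 137, nat_lit 9, nat_lit 297] 63 5)) (.leaf (Rule.fwd [nat_lit 201, nat_lit 329, nat_lit 201, nat_lit 329, nat_lit 137] 99 1)))) (.node (nat_lit 2) (.node (nat_lit 1) (.leaf (Rule.fwd [nat_lit 137, nat_lit 201, nat_lit 329, nat_lit 201, nat_lit 329] 99 2)) (.leaf (Rule.fwd [nat_lit 297, nat_lit 137, nat_lit 297] 33 1))) (.node (nat_lit 1) (.leaf (Rule.fwd [nat_lit 169, nat_lit 9, nat_lit 137, nat_lit 9, nat_lit 169] 59 5)) (.leaf (Rule.fwd [nat_lit 9, nat_lit 297, nat_lit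 137, nat_lit 297, nat_lit 9] 63 2)))))) (.node (nat_lit 4) (.node (nat_lit 2) (.node (nat_lit 1) (.leaf (Rule.fwd [nat_lit 73, nat_lit 137, nat_lit 73, nat_lit 137, nat_lit 73] 85 0)) (.leaf (Rule.fwd [nat_lit 169, nat_lit 137, nat_lit 169] 25 1))) (.node (nat_lit 1) (.leaf (Rule.fwd [nat_lit 137, nat_lit 137] 1 0)) (.leaf (Rule.fwd [nat_lit 73, nat_lit 105, nat_lit 329, nat_lit 73, nat_lit 329] 88 5)))) (.node (nat_lit 2) (.node (nat_lit 1) (.leaf (Rule.fwd [nat_lit 233, nat_lit 137, nat_lit 233] 29 1)) (.leaf (Rule.fwd [nat_lit 41, nat_lit 137, nat_lit 41, nat_lit 137, nat_lit 41] 79 0))) (.node (nat_lit 1) (.leaf (Rule.fwd [nat_lit 9, nat_lit 105, nat_lit 9] 4 3)) (.leaf (Rule.fwd [nat_lit 9, nat_lit 169, nat_lit 137, nat_lit 169, nat_lit 9] 59 2)))))), (.node (nat_lit 1) (.leaf XRule.defn) (.leaf XRule.defn))⟩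
noncomputable def ci169 : CI := ⟨[5], (nat_lit 169), true, (.node (nat_lit 16) (.node (nat_lit 8) (.node (nat_lit 4) (.node (nat_lit 2) (.node (nat_lit 1) (.leaf Rule.defn) (.leaf Rule.copy)) (.node (nat_lit 1) (.leaf (Rule.fwd [nat_lit 169] 126 0)) (.leaf (Rule.fwd [nat_lit 329, nat_lit 169, nat_lit 329] 38 0)))) (.node (nat_lit 2) (.node (nat_lit 1) (.leaf (Rule.fwd [nat_lit 233, nat_lit 169, nat_lit 233] 36 0)) (.leaf (Rule.fwd [nat_lit 41, nat_lit 169, nat_lit 41, nat_lit 169, nat_lit 41] 80 1))) (.node (nat_lit 1) (.leaf (Rule.fwd [nat_lit 201, nat_lit 169, nat_lit 201, nat_lit 169, nat_lit 201] 100 0)) (.leaf (Rule.fwd [nat_lit 297, nat_lit 169, nat_lit 297, nat_lit 169, nat_lit 297] 106 0))))) (.node (nat_lit 4) (.node (nat_lit 2) (.node (nat_lit 1) (.leaf (Rule.fwd [nat_lit 73, nat_lit 169, nat_lit 201, nat_lit 41, nat_lit 201] 82 2)) (.leaf (Rule.fwd [nat_lit 105, nat_lit 169, nat_lit 105] 24 1))) (.node (nat_lit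 1) (.leaf (Rule.fwd [nat_lit 137, nat_lit 169, nat_lit 137] 25 0)) (.leaf (Rule.fwd [nat_lit 297, nat_lit 169, nat_lit 9, nat_lit 169, nat_lit 297, nat_lit 169, nat_lit 9] 118 1)))) (.node (nat_lit 2) (.node (nat_lit 1) (.leaf (Rule.fwd [nat_lit 9, nat_lit 169, nat_lit 297, nat_lit 169, nat_lit 9, nat_lit 169, nat_lit 297] 118 3)) (.leaf (Rule.fwd [nat_lit 233, nat_lit 169, nat_lit 265, nat_lit 233, nat_lit 265] 102 0))) (.node (nat_lit 1) (.leaf (Rule.fwd [nat_lit 201, nat_lit 41, nat_lit 201, nat_lit 169, nat_lit 73] 82 4)) (.leaf (Rule.fwd [nat_lit 233, nat_lit 169, nat_lit 297, nat_lit 233, nat_lit 297] 104 0)))))) (.node (nat_lit 8) (.node (nat_lit 4) (.node (nat_lit 2) (.node (nat_lit 1) (.leaf (Rule.fwd [nat_lit 105, nat_lit 169, nat_lit 9, nat_lit 105, nat_lit 9] 58 3)) (.leaf (Rule.fwd [nat_lit 137, nat_lit 169, nat_lit 9, nat_lit 137, nat_lit 9] 59 0))) (.node (nat_lit 1) (.leaf (Rule.fwd [nat_lit 265, nat_lit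 233, nat_lit 265, nat_lit 169, nat_lit 233] 102 2)) (.leaf (Rule.fwd [nat_lit 41, nat_lit 9, nat_lit 41, nat_lit 169, nat_lit 41, nat_lit 9, nat_lit 41] 116 2)))) (.node (nat_lit 2) (.node (nat_lit 1) (.leaf (Rule.fwd [nat_lit 9, nat_lit 137, nat_lit 9, nat_lit 169, nat_lit 137] 59 4)) (.leaf (Rule.fwd [nat_lit 297, nat_lit 233, nat_lit 297, nat_lit 169, nat_lit 233] 104 2))) (.node (nat_lit 1) (.leaf (Rule.fwd [nat_lit 9, nat_lit 105, nat_lit 9, nat_lit 169, nat_lit 105] 58 5)) (.leaf (Rule.fwd [nat_lit 265, nat_lit 169, nat_lit 9, nat_lit 265, nat_lit 169, nat_lit 265, nat_lit 169, nat_lit 265, nat_lit 9] 120 1))))) (.node (nat_lit 2) (.node (nat_lit 1) (.leaf (Rule.fwd [nat_lit 9, nat_lit 265, nat_lit 169, nat_lit 265, nat_lit 169, nat_lit 265, nat_lit 9, nat_lit 169, nat_lit 265] 120 3)) (.leaf (Rule.fwd [nat_lit 265, nat_lit 169, nat_lit 265, nat_lit 9, nat_lit 169, nat_lit 265, nat_lit 169, nat_lit 9, nat_lit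 265] 120 6))) (.leaf (Rule.fwd [nat_lit 265, nat_lit 9, nat_lit 169, nat_lit 265, nat_lit 169, nat_lit 9, nat_lit 265, nat_lit 169, nat_lit 265] 120 8))))), (.node (nat_lit 1) (.leaf XRule.defn) (.leaf XRule.ax))⟩
noncomputable def ci201 : CI := ⟨[6], (nat_lit 201), true, (.node (nat_lit 16) (.node (nat_lit 8) (.node (nat_lit 4) (.node (nat_lit 2) (.node (nat_lit 1) (.leaf Rule.defn) (.leaf Rule.copy)) (.node (nat_lit 1) (.leaf (Rule.fwd [nat_lit 201] 126 0)) (.leaf (Rule.fwd [nat_lit 329, nat_lit 105, nat_lit 201, nat_lit 329] 54 3)))) (.node (nat_lit 2) (.node (nat_lit 1) (.leaf (Rule.fwd [nat_lit 233, nat_lit 201, nat_lit 233] 40 0)) (.leaf (Rule.fwd [nat_lit 297, nat_lit 201, nat_lit 297] 44 0))) (.node (nat_lit 1) (.leaf (Rule.fwd [nat_lit 9, nat_lit 297, nat_lit 201, nat_lit 297, nat_lit 9] 66 1)) (.leaf (Rule.fwd [nat_lit 265, nat_lit 9, nat_lit 201, nat_lit 9, nat_lit 265] 64 4))))) (.node (nat_lit 4) (.node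 (nat_lit 2) (.node (nat_lit 1) (.leaf (Rule.fwd [nat_lit 297, nat_lit 9, nat_lit 201, nat_lit 9, nat_lit 297] 66 4)) (.leaf (Rule.fwd [nat_lit 265, nat_lit 201, nat_lit 265] 42 0))) (.node (nat_lit 1) (.leaf (Rule.fwd [nat_lit 9, nat_lit 265, nat_lit 201, nat_lit 265, nat_lit 9] 64 1)) (.leaf (Rule.fwd [nat_lit 73, nat_lit 201, nat_lit 73, nat_lit 201, nat_lit 73] 90 1)))) (.node (nat_lit 2) (.node (nat_lit 1) (.leaf (Rule.fwd [nat_lit 265, nat_lit 201, nat_lit 329, nat_lit 265, nat_lit 329] 108 0)) (.leaf (Rule.fwd [nat_lit 329, nat_lit 201, nat_lit 105, nat_lit 105, nat_lit 329] 98 3))) (.node (nat_lit 1) (.leaf (Rule.fwd [nat_lit 105, nat_lit 201, nat_lit 105] 26 1)) (.leaf (Rule.fwd [nat_lit 169, nat_lit 201, nat_lit 169, nat_lit 201, nat_lit 169] 100 1)))))) (.node (nat_lit 8) (.node (nat_lit 4) (.node (nat_lit 2) (.node (nat_lit 1) (.leaf (Rule.fwd [nat_lit 105, nat_lit 105, nat_lit 329, nat_lit 201, nat_lit 329]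 98 5)) (.leaf (Rule.fwd [nat_lit 329, nat_lit 265, nat_lit 329, nat_lit 201, nat_lit 265] 108 2))) (.node (nat_lit 1) (.leaf (Rule.fwd [nat_lit 329, nat_lit 201, nat_lit 329, nat_lit 105] 54 1)) (.leaf (Rule.fwd [nat_lit 41, nat_lit 201, nat_lit 169, nat_lit 73, nat_lit 169] 82 5)))) (.node (nat_lit 2) (.node (nat_lit 1) (.leaf (Rule.fwd [nat_lit 329, nat_lit 201, nat_lit 137, nat_lit 329] 55 4)) (.leaf (Rule.fwd [nat_lit 169, nat_lit 73, nat_lit 169, nat_lit 201, nat_lit 41] 82 1))) (.node (nat_lit 1) (.leaf (Rule.fwd [nat_lit 137, nat_lit 201, nat_lit 137] 27 0)) (.leaf (Rule.fwd [nat_lit 329, nat_lit 137, nat_lit 137, nat_lit 201, nat_lit 329] 99 4))))) (.node (nat_lit 2) (.node (nat_lit 1) (.leaf (Rule.fwd [nat_lit 137, nat_lit 329, nat_lit 201, nat_lit 329] 55 2)) (.leaf (Rule.fwd [nat_lit 9, nat_lit 201, nat_lit 9] 6 1))) (.leaf (Rule.fwd [nat_lit 329, nat_lit 201, nat_lit 329, nat_lit 137, nat_lit 137] 99 0))))),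 (.node (nat_lit 1) (.leaf XRule.defn) (.leaf XRule.ax))⟩
noncomputable def ci233 : CI := ⟨[7], (nat_lit 233), true, (.node (nat_lit 16) (.node (nat_lit 8) (.node (nat_lit 4) (.node (nat_lit 2) (.node (nat_lit 1) (.leaf Rule.defn) (.leaf Rule.copy)) (.node (nat_lit 1) (.leaf (Rule.fwd [nat_lit 233] 126 0)) (.leaf (Rule.fwd [nat_lit 297, nat_lit 233, nat_lit 297] 48 0)))) (.node (nat_lit 2) (.node (nat_lit 1) (.leaf (Rule.fwd [nat_lit 9, nat_lit 297, nat_lit 233, nat_lit 297, nat_lit 9] 70 1)) (.leaf (Rule.fwd [nat_lit 169, nat_lit 297, nat_lit 233, nat_lit 297, nat_lit 169] 104 1))) (.node (nat_lit 1) (.leaf (Rule.fwd [nat_lit 265, nat_lit 169, nat_lit 233, nat_lit 169, nat_lit 265] 102 4)) (.leaf (Rule.fwd [nat_lit 329, nat_lit 233, nat_lit 329, nat_lit 233, nat_lit 329] 112 0))))) (.node (nat_lit 4) (.node (nat_lit 2) (.node (nat_lit 1) (.leaf (Rule.fwd [nat_lit 169, nat_lit 233, nat_lit 169] 36 1)) (.leaf (Rule.fwd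 [nat_lit 41, nat_lit 233, nat_lit 41] 12 1))) (.node (nat_lit 1) (.leaf (Rule.fwd [nat_lit 201, nat_lit 233, nat_lit 201] 40 1)) (.leaf (Rule.fwd [nat_lit 9, nat_lit 265, nat_lit 233, nat_lit 265, nat_lit 9] 68 1)))) (.node (nat_lit 2) (.node (nat_lit 1) (.leaf (Rule.fwd [nat_lit 169, nat_lit 265, nat_lit 233, nat_lit 265, nat_lit 169] 102 1)) (.leaf (Rule.fwd [nat_lit 105, nat_lit 233, nat_lit 105] 28 1))) (.node (nat_lit 1) (.leaf (Rule.fwd [nat_lit 137, nat_lit 233, nat_lit 137] 29 0)) (.leaf (Rule.fwd [nat_lit 265, nat_lit 233, nat_lit 265] 46 0)))))) (.node (nat_lit 8) (.node (nat_lit 4) (.node (nat_lit 2) (.node (nat_lit 1) (.leaf (Rule.fwd [nat_lit 73, nat_lit 233, nat_lit 73] 20 1)) (.leaf (Rule.fwd [nat_lit 265, nat_lit 233, nat_lit 329, nat_lit 265, nat_lit 329] 110 0))) (.node (nat_lit 1) (.leaf (Rule.fwd [nat_lit 297, nat_lit 169, nat_lit 233, nat_lit 169, nat_lit 297] 104 4)) (.leaf (Rule.fwd [nat_lit 297,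 nat_lit 73, nat_lit 233, nat_lit 73, nat_lit 297] 92 4)))) (.node (nat_lit 2) (.node (nat_lit 1) (.leaf (Rule.fwd [nat_lit 73, nat_lit 297, nat_lit 233, nat_lit 297, nat_lit 73] 92 1)) (.leaf (Rule.fwd [nat_lit 297, nat_lit 9, nat_lit 233, nat_lit 9, nat_lit 297] 70 4))) (.node (nat_lit 1) (.leaf (Rule.fwd [nat_lit 265, nat_lit 9, nat_lit 233, nat_lit 9, nat_lit 265] 68 4)) (.leaf (Rule.fwd [nat_lit 9, nat_lit 233, nat_lit 9] 8 1))))) (.node (nat_lit 2) (.node (nat_lit 1) (.leaf (Rule.fwd [nat_lit 329, nat_lit 265, nat_lit 329, nat_lit 233, nat_lit 265] 110 2)) (.leaf (Rule.fwd [nat_lit 265, nat_lit 297, nat_lit 9, nat_lit 297, nat_lit 329, nat_lit 233, nat_lit 297, nat_lit 9, nat_lit 297, nat_lit 265, nat_lit 9, nat_lit 297, nat_lit 329, nat_lit 297, nat_lit 9] 124 1))) (.node (nat_lit 1) (.leaf (Rule.fwd [nat_lit 9, nat_lit 297, nat_lit 329, nat_lit 297, nat_lit 9, nat_lit 265, nat_lit 297, nat_lit 9, nat_lit 297,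 nat_lit 233, nat_lit 329, nat_lit 297, nat_lit 9, nat_lit 297, nat_lit 265] 125 2)) (.leaf (Rule.fwd [nat_lit 329, nat_lit 297, nat_lit 9, nat_lit 297, nat_lit 265, nat_lit 233, nat_lit 9, nat_lit 297, nat_lit 329, nat_lit 297, nat_lit 9, nat_lit 265, nat_lit 297, nat_lit 9, nat_lit 297] 125 8)))))), (.node (nat_lit 1) (.leaf XRule.defn) (.leaf XRule.ax))⟩
noncomputable def ci265 : CI := ⟨[8], (nat_lit 265), true, (.node (nat_lit 32) (.node (nat_lit 16) (.node (nat_lit 8) (.node (nat_lit 4) (.node (nat_lit 2) (.node (nat_lit 1) (.leaf Rule.defn) (.leaf Rule.copy)) (.node (nat_lit 1) (.leaf (Rule.fwd [nat_lit 265] 126 0)) (.leaf (Rule.fwd [nat_lit 329, nat_lit 265, nat_lit 329] 52 0)))) (.node (nat_lit 2) (.node (nat_lit 1) (.leaf (Rule.fwd [nat_lit 233, nat_lit 329, nat_lit 265, nat_lit 329, nat_lit 233] 110 1)) (.leaf (Rule.fwd [nat_lit 297, nat_lit 265, nat_lit 297] 50 0))) (.node (nat_lit 1) (.leaf (Rule.fwd [nat_lit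 9, nat_lit 265, nat_lit 9, nat_lit 265, nat_lit 9] 72 1)) (.leaf (Rule.fwd [nat_lit 329, nat_lit 233, nat_lit 265, nat_lit 233, nat_lit 329] 110 4))))) (.node (nat_lit 4) (.node (nat_lit 2) (.node (nat_lit 1) (.leaf (Rule.fwd [nat_lit 329, nat_lit 201, nat_lit 265, nat_lit 201, nat_lit 329] 108 4)) (.leaf (Rule.fwd [nat_lit 201, nat_lit 329, nat_lit 265, nat_lit 329, nat_lit 201] 108 1))) (.node (nat_lit 1) (.leaf (Rule.fwd [nat_lit 329, nat_lit 73, nat_lit 265, nat_lit 73, nat_lit 329] 96 4)) (.leaf (Rule.fwd [nat_lit 73, nat_lit 329, nat_lit 265, nat_lit 329, nat_lit 73] 96 1)))) (.node (nat_lit 2) (.node (nat_lit 1) (.leaf (Rule.fwd [nat_lit 297, nat_lit 73, nat_lit 265, nat_lit 73, nat_lit 297] 94 4)) (.leaf (Rule.fwd [nat_lit 73, nat_lit 297, nat_lit 265, nat_lit 297, nat_lit 73] 94 1))) (.node (nat_lit 1) (.leaf (Rule.fwd [nat_lit 105, nat_lit 265, nat_lit 137] 30 3)) (.leaf (Rule.fwd [nat_lit 137, nat_lit 265,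 nat_lit 105] 30 1)))))) (.node (nat_lit 8) (.node (nat_lit 4) (.node (nat_lit 2) (.node (nat_lit 1) (.leaf (Rule.fwd [nat_lit 201, nat_lit 265, nat_lit 201] 42 1)) (.leaf (Rule.fwd [nat_lit 41, nat_lit 265, nat_lit 41] 14 1))) (.node (nat_lit 1) (.leaf (Rule.fwd [nat_lit 233, nat_lit 265, nat_lit 233] 46 1)) (.leaf (Rule.fwd [nat_lit 233, nat_lit 265, nat_lit 9, nat_lit 233, nat_lit 9] 68 3)))) (.node (nat_lit 2) (.node (nat_lit 1) (.leaf (Rule.fwd [nat_lit 105, nat_lit 265, nat_lit 9, nat_lit 137, nat_lit 9] 61 0)) (.leaf (Rule.fwd [nat_lit 201, nat_lit 265, nat_lit 9, nat_lit 201, nat_lit 9] 64 3))) (.node (nat_lit 1) (.leaf (Rule.fwd [nat_lit 233, nat_lit 265, nat_lit 169, nat_lit 233, nat_lit 169] 102 3)) (.leaf (Rule.fwd [nat_lit 73, nat_lit 265, nat_lit 73] 22 1))))) (.node (nat_lit 4) (.node (nat_lit 2) (.node (nat_lit 1) (.leaf (Rule.fwd [nat_lit 137, nat_lit 265, nat_lit 9, nat_lit 105, nat_lit 9] 60 3)) (.leaf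 (Rule.fwd [nat_lit 297, nat_lit 9, nat_lit 297, nat_lit 329, nat_lit 233, nat_lit 297, nat_lit 9, nat_lit 297, nat_lit 265, nat_lit 9, nat_lit 297, nat_lit 329, nat_lit 297, nat_lit 9, nat_lit 233] 124 2))) (.node (nat_lit 1) (.leaf (Rule.fwd [nat_lit 9, nat_lit 73, nat_lit 9, nat_lit 265, nat_lit 73] 56 5)) (.leaf (Rule.fwd [nat_lit 9, nat_lit 201, nat_lit 9, nat_lit 265, nat_lit 201] 64 5)))) (.node (nat_lit 2) (.node (nat_lit 1) (.leaf (Rule.fwd [nat_lit 73, nat_lit 265, nat_lit 9, nat_lit 73, nat_lit 9] 56 3)) (.leaf (Rule.fwd [nat_lit 9, nat_lit 105, nat_lit 9, nat_lit 265, nat_lit 137] 60 5))) (.node (nat_lit 1) (.leaf (Rule.fwd [nat_lit 9, nat_lit 137, nat_lit 9, nat_lit 265, nat_lit 105] 61 4)) (.leaf (Rule.fwd [nat_lit 9, nat_lit 233, nat_lit 9, nat_lit 265, nat_lit 233] 68 5))))))) (.node (nat_lit 4) (.node (nat_lit 2) (.node (nat_lit 1) (.leaf (Rule.fwd [nat_lit 169, nat_lit 233, nat_lit 169, nat_lit 265,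 nat_lit 233] 102 5)) (.leaf (Rule.fwd [nat_lit 169, nat_lit 9, nat_lit 265, nat_lit 169, nat_lit 265, nat_lit 169, nat_lit 265, nat_lit 9, nat_lit 169] 120 2))) (.node (nat_lit 1) (.leaf (Rule.fwd [nat_lit 169, nat_lit 265, nat_lit 9, nat_lit 169, nat_lit 265, nat_lit 169, nat_lit 9, nat_lit 265, nat_lit 169] 120 7)) (.leaf (Rule.fwd [nat_lit 233, nat_lit 9, nat_lit 297, nat_lit 329, nat_lit 297, nat_lit 9, nat_lit 265, nat_lit 297, nat_lit 9, nat_lit 297, nat_lit 233, nat_lit 329, nat_lit 297, nat_lit 9, nat_lit 297] 125 3)))) (.node (nat_lit 1) (.leaf (Rule.fwd [nat_lit 297, nat_lit 9, nat_lit 297, nat_lit 233, nat_lit 329, nat_lit 297, nat_lit 9, nat_lit 297, nat_lit 265, nat_lit 233, nat_lit 9, nat_lit 297, nat_lit 329, nat_lit 297, nat_lit 9] 125 12)) (.leaf (Rule.fwd [nat_lit 169, nat_lit 265, nat_lit 169, nat_lit 265, nat_lit 9, nat_lit 169, nat_lit 265, nat_lit 169, nat_lit 9] 120 5))))), (.node (nat_lit 1)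 (.leaf XRule.defn) (.leaf XRule.ax))⟩
noncomputable def ci297 : CI := ⟨[9], (nat_lit 297), true, (.node (nat_lit 32) (.node (nat_lit 16) (.node (nat_lit 8) (.node (nat_lit 4) (.node (nat_lit 2) (.node (nat_lit 1) (.leaf Rule.defn) (.leaf Rule.copy)) (.node (nat_lit 1) (.leaf (Rule.fwd [nat_lit 297] 126 0)) (.leaf (Rule.fwd [nat_lit 169, nat_lit 297, nat_lit 169, nat_lit 297, nat_lit 169] 106 1)))) (.node (nat_lit 2) (.node (nat_lit 1) (.leaf (Rule.fwd [nat_lit 329, nat_lit 297, nat_lit 329, nat_lit 297, nat_lit 329] 114 0)) (.leaf (Rule.fwd [nat_lit 169, nat_lit 9, nat_lit 169, nat_lit 297, nat_lit 169, nat_lit 9, nat_lit 169] 118 2))) (.node (nat_lit 1) (.leaf (Rule.fwd [nat_lit 41, nat_lit 297, nat_lit 41] 16 1)) (.leaf (Rule.fwd [nat_lit 201, nat_lit 297, nat_lit 201] 44 1))))) (.node (nat_lit 4) (.node (nat_lit 2) (.node (nat_lit 1) (.leaf (Rule.fwd [nat_lit 265, nat_lit 297, nat_lit 265] 50 1)) (.leaf (Rule.fwd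 [nat_lit 105, nat_lit 297, nat_lit 105] 32 1))) (.node (nat_lit 1) (.leaf (Rule.fwd [nat_lit 265, nat_lit 297, nat_lit 73, nat_lit 265, nat_lit 73] 94 3)) (.leaf (Rule.fwd [nat_lit 41, nat_lit 73, nat_lit 41, nat_lit 297, nat_lit 73] 74 5)))) (.node (nat_lit 2) (.node (nat_lit 1) (.leaf (Rule.fwd [nat_lit 73, nat_lit 297, nat_lit 41, nat_lit 73, nat_lit 41] 74 3)) (.leaf (Rule.fwd [nat_lit 233, nat_lit 297, nat_lit 73, nat_lit 233, nat_lit 73] 92 3))) (.node (nat_lit 1) (.leaf (Rule.fwd [nat_lit 41, nat_lit 73, nat_lit 297, nat_lit 41, nat_lit 73] 76 2)) (.leaf (Rule.fwd [nat_lit 73, nat_lit 265, nat_lit 73, nat_lit 297, nat_lit 265] 94 5)))))) (.node (nat_lit 8) (.node (nat_lit 4) (.node (nat_lit 2) (.node (nat_lit 1) (.leaf (Rule.fwd [nat_lit 73, nat_lit 233, nat_lit 73, nat_lit 297, nat_lit 233] 92 5)) (.leaf (Rule.fwd [nat_lit 233, nat_lit 297, nat_lit 169, nat_lit 233, nat_lit 169] 104 3))) (.node (nat_lit 1) (.leaf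 (Rule.fwd [nat_lit 137, nat_lit 297, nat_lit 137] 33 0)) (.leaf (Rule.fwd [nat_lit 73, nat_lit 41, nat_lit 297, nat_lit 73, nat_lit 41] 77 0)))) (.node (nat_lit 2) (.node (nat_lit 1) (.leaf (Rule.fwd [nat_lit 9, nat_lit 201, nat_lit 9, nat_lit 297, nat_lit 201] 66 5)) (.leaf (Rule.fwd [nat_lit 233, nat_lit 297, nat_lit 233] 48 1))) (.node (nat_lit 1) (.leaf (Rule.fwd [nat_lit 105, nat_lit 297, nat_lit 9, nat_lit 105, nat_lit 9] 62 3)) (.leaf (Rule.fwd [nat_lit 137, nat_lit 297, nat_lit 9, nat_lit 137, nat_lit 9] 63 0))))) (.node (nat_lit 4) (.node (nat_lit 2) (.node (nat_lit 1) (.leaf (Rule.fwd [nat_lit 201, nat_lit 297, nat_lit 9, nat_lit 201, nat_lit 9] 66 3)) (.leaf (Rule.fwd [nat_lit 9, nat_lit 105, nat_lit 9, nat_lit 297, nat_lit 105] 62 5))) (.node (nat_lit 1) (.leaf (Rule.fwd [nat_lit 233, nat_lit 297, nat_lit 9, nat_lit 233, nat_lit 9] 70 3)) (.leaf (Rule.fwd [nat_lit 9, nat_lit 233, nat_lit 9, nat_lit 297,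 nat_lit 233] 70 5)))) (.node (nat_lit 2) (.node (nat_lit 1) (.leaf (Rule.fwd [nat_lit 169, nat_lit 233, nat_lit 169, nat_lit 297, nat_lit 233] 104 5)) (.leaf (Rule.fwd [nat_lit 9, nat_lit 137, nat_lit 9, nat_lit 297, nat_lit 137] 63 4))) (.node (nat_lit 1) (.leaf (Rule.fwd [nat_lit 265, nat_lit 9, nat_lit 297, nat_lit 329, nat_lit 297, nat_lit 9, nat_lit 233, nat_lit 265, nat_lit 297, nat_lit 9, nat_lit 297, nat_lit 329, nat_lit 233, nat_lit 297, nat_lit 9] 124 10)) (.leaf (Rule.fwd [nat_lit 73, nat_lit 9, nat_lit 41, nat_lit 9, nat_lit 73, nat_lit 297, nat_lit 9, nat_lit 73, nat_lit 41, nat_lit 9, nat_lit 73] 122 10))))))) (.node (nat_lit 4) (.node (nat_lit 2) (.node (nat_lit 1) (.leaf (Rule.fwd [nat_lit 9, nat_lit 233, nat_lit 265, nat_lit 297, nat_lit 9, nat_lit 297, nat_lit 329, nat_lit 233, nat_lit 297, nat_lit 9, nat_lit 297, nat_lit 265, nat_lit 9, nat_lit 297, nat_lit 329] 124 15)) (.leaf (Rule.fwd [nat_lit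 233, nat_lit 329, nat_lit 297, nat_lit 9, nat_lit 297, nat_lit 265, nat_lit 233, nat_lit 9, nat_lit 297, nat_lit 329, nat_lit 297, nat_lit 9, nat_lit 265, nat_lit 297, nat_lit 9] 125 9))) (.node (nat_lit 1) (.leaf (Rule.fwd [nat_lit 9, nat_lit 73, nat_lit 41, nat_lit 9, nat_lit 73, nat_lit 297, nat_lit 73, nat_lit 9, nat_lit 41, nat_lit 9, nat_lit 73] 122 4)) (.leaf (Rule.fwd [nat_lit 9, nat_lit 297, nat_lit 329, nat_lit 233, nat_lit 297, nat_lit 9, nat_lit 297, nat_lit 265, nat_lit 9, nat_lit 297, nat_lit 329, nat_lit 297, nat_lit 9, nat_lit 233, nat_lit 265] 124 3)))) (.node (nat_lit 2) (.node (nat_lit 1) (.leaf (Rule.fwd [nat_lit 73, nat_lit 9, nat_lit 41, nat_lit 73, nat_lit 9, nat_lit 297, nat_lit 73, nat_lit 9, nat_lit 41, nat_lit 9, nat_lit 73] 123 11)) (.leaf (Rule.fwd [nat_lit 329, nat_lit 297, nat_lit 9, nat_lit 233, nat_lit 265, nat_lit 297, nat_lit 9, nat_lit 297, nat_lit 329, nat_lit 233, nat_lit 297, nat_lit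 9, nat_lit 297, nat_lit 265, nat_lit 9] 124 13))) (.leaf (Rule.fwd [nat_lit 73, nat_lit 9, nat_lit 41, nat_lit 9, nat_lit 73, nat_lit 297, nat_lit 73, nat_lit 9, nat_lit 41, nat_lit 73, nat_lit 9] 123 5))))), (.node (nat_lit 1) (.leaf XRule.defn) (.leaf XRule.ax))⟩
noncomputable def ci329 : CI := ⟨[10], (nat_lit 329), false, (.node (nat_lit 16) (.node (nat_lit 8) (.node (nat_lit 4) (.node (nat_lit 2) (.node (nat_lit 1) (.leaf Rule.defn) (.leaf Rule.copy)) (.node (nat_lit 1) (.leaf (Rule.fwd [nat_lit 329] 126 0)) (.leaf (Rule.fwd [nat_lit 233, nat_lit 329, nat_lit 233, nat_lit 329, nat_lit 233] 112 1)))) (.node (nat_lit 2) (.node (nat_lit 1) (.leaf (Rule.fwd [nat_lit 297, nat_lit 329, nat_lit 297, nat_lit 329, nat_lit 297] 114 1)) (.leaf (Rule.fwd [nat_lit 9, nat_lit 329, nat_lit 9] 10 1))) (.node (nat_lit 1) (.leaf (Rule.fwd [nat_lit 169, nat_lit 329, nat_lit 169] 38 1)) (.leaf (Rule.fwd [nat_lit 265, nat_lit 329, nat_lit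 265] 52 1))))) (.node (nat_lit 4) (.node (nat_lit 2) (.node (nat_lit 1) (.leaf (Rule.fwd [nat_lit 41, nat_lit 329, nat_lit 41] 18 1)) (.leaf (Rule.fwd [nat_lit 201, nat_lit 329, nat_lit 105, nat_lit 201] 54 2))) (.node (nat_lit 1) (.leaf (Rule.fwd [nat_lit 265, nat_lit 329, nat_lit 201, nat_lit 265, nat_lit 201] 108 3)) (.leaf (Rule.fwd [nat_lit 201, nat_lit 265, nat_lit 201, nat_lit 329, nat_lit 265] 108 5)))) (.node (nat_lit 2) (.node (nat_lit 1) (.leaf (Rule.fwd [nat_lit 105, nat_lit 329, nat_lit 105] 34 1)) (.leaf (Rule.fwd [nat_lit 201, nat_lit 105, nat_lit 105, nat_lit 329, nat_lit 201] 98 4))) (.node (nat_lit 1) (.leaf (Rule.fwd [nat_lit 73, nat_lit 105, nat_lit 329, nat_lit 73, nat_lit 105] 86 2)) (.leaf (Rule.fwd [nat_lit 73, nat_lit 265, nat_lit 73, nat_lit 329, nat_lit 265] 96 5)))))) (.node (nat_lit 8) (.node (nat_lit 4) (.node (nat_lit 2) (.node (nat_lit 1) (.leaf (Rule.fwd [nat_lit 137, nat_lit 73, nat_lit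 105, nat_lit 329, nat_lit 73] 88 4)) (.leaf (Rule.fwd [nat_lit 137, nat_lit 73, nat_lit 329, nat_lit 137, nat_lit 73] 87 0))) (.node (nat_lit 1) (.leaf (Rule.fwd [nat_lit 137, nat_lit 329, nat_lit 137] 35 0)) (.leaf (Rule.fwd [nat_lit 137, nat_lit 137, nat_lit 201, nat_lit 329, nat_lit 201] 99 3)))) (.node (nat_lit 2) (.node (nat_lit 1) (.leaf (Rule.fwd [nat_lit 265, nat_lit 329, nat_lit 73, nat_lit 265, nat_lit 73] 96 3)) (.leaf (Rule.fwd [nat_lit 105, nat_lit 201, nat_lit 329, nat_lit 201] 54 4))) (.node (nat_lit 1) (.leaf (Rule.fwd [nat_lit 201, nat_lit 329, nat_lit 201, nat_lit 137] 55 0)) (.leaf (Rule.fwd [nat_lit 73, nat_lit 329, nat_lit 137, nat_lit 73, nat_lit 105] 88 2))))) (.node (nat_lit 4) (.node (nat_lit 2) (.node (nat_lit 1) (.leaf (Rule.fwd [nat_lit 265, nat_lit 329, nat_lit 233, nat_lit 265, nat_lit 233] 110 3)) (.leaf (Rule.fwd [nat_lit 233, nat_lit 265, nat_lit 233, nat_lit 329, nat_lit 265] 110 5)))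 (.node (nat_lit 1) (.leaf (Rule.fwd [nat_lit 201, nat_lit 137, nat_lit 329, nat_lit 201] 55 3)) (.leaf (Rule.fwd [nat_lit 201, nat_lit 329, nat_lit 137, nat_lit 137, nat_lit 201] 99 5)))) (.leaf (Rule.fwd [nat_lit 201, nat_lit 329, nat_lit 201, nat_lit 105, nat_lit 105] 98 2))))), (.node (nat_lit 1) (.leaf XRule.defn) (.leaf XRule.defn))⟩
noncomputable def outer : Tr CI := (.node (nat_lit 32) (.node (nat_lit 64) (.node (nat_lit 1) (.leaf ci0) (.node (nat_lit 128) (.node (nat_lit 256) (.leaf ci9) (.leaf ci265)) (.leaf ci137))) (.node (nat_lit 128) (.node (nat_lit 256) (.leaf ci73) (.leaf ci329)) (.leaf ci201))) (.node (nat_lit 64) (.node (nat_lit 128) (.node (nat_lit 256) (.leaf ci41) (.leaf ci297)) (.leaf ci169)) (.node (nat_lit 128) (.leaf ci105) (.leaf ci233))))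
def cols : List ℕ := [nat_lit 9, nat_lit 41, nat_lit 73, nat_lit 105, nat_lit 137, nat_lit 169, nat_lit 201, nat_lit 233, nat_lit 265, nat_lit 297, nat_lit 329]
def invL : List ℕ := [0, 1, 2, 4, 3, 5, 6, 7, 8, 9, 10]
def rels : List (List ℕ) := [[3, 3, 3], [0, 2, 0, 2], [0, 3, 0, 4], [0, 6, 0, 6], [0, 7, 0, 7], [0, 10, 0, 10], [1, 7, 1, 7], [1, 8, 1, 8], [1, 9, 1, 9], [1, 10, 1, 10], [2, 7, 2, 7], [2, 8, 2, 8], [3, 5, 3, 5], [3, 6, 3, 6], [3, 7, 3, 7], [3, 8, 4, 8], [3, 9, 3, 9], [3, 10, 3, 10], [5, 7, 5, 7], [5, 10, 5, 10], [6, 7, 6, 7], [6, 8, 6, 8], [6, 9, 6, 9], [7, 8, 7, 8], [7, 9, 7, 9], [8, 9, 8, 9], [8, 10, 8, 10], [3, 6, 10, 6, 10], [0, 2, 0, 8, 2, 8], [0, 3, 0, 5, 3, 5], [0, 3, 0, 8, 4, 8], [0, 3, 0, 9, 3, 9], [0, 6, 0, 8, 6, 8], [0, 6, 0, 9, 6, 9], [0, 7, 0, 8, 7, 8], [0, 7, 0, 9, 7, 9], [0, 8, 0, 8, 0, 8], [1, 2, 1, 9, 2, 9], [1, 2, 9, 1, 2, 9], [1, 3, 1, 3, 1, 3], [1, 5, 1, 5, 1, 5], [1, 6, 5, 2, 5, 6],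 [2, 3, 2, 3, 2, 3], [2, 3, 10, 2, 3, 10], [2, 3, 10, 2, 10, 4], [2, 6, 2, 6, 2, 6], [2, 7, 2, 9, 7, 9], [2, 8, 2, 9, 8, 9], [2, 8, 2, 10, 8, 10], [3, 3, 10, 6, 10, 6], [5, 6, 5, 6, 5, 6], [5, 7, 5, 8, 7, 8], [5, 7, 5, 9, 7, 9], [5, 9, 5, 9, 5, 9], [6, 8, 6, 10, 8, 10], [7, 8, 7, 10, 8, 10], [7, 10, 7, 10, 7, 10], [9, 10, 9, 10, 9, 10], [0, 1, 5, 1, 0, 1, 5, 1], [0, 5, 9, 5, 0, 5, 9, 5], [0, 5, 8, 5, 0, 8, 5, 8, 5, 8], [0, 1, 0, 2, 9, 0, 2, 1, 0, 2, 9, 2], [0, 7, 8, 9, 0, 9, 10, 7, 9, 0, 9, 8, 0, 9, 10, 9]]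
def subs : List (List ℕ) := [[0], [1], [2], [3], [7], [9], [5], [6], [8]]
noncomputable def row (n : ℕ) : ℕ := rowOf (fun h => rows.get h) (nat_lit 4) (nat_lit 15) (nat_lit 361) (nat_lit 0x1ffffffffffffffffffffffffffffffffffffffffffffffffffffffffffffffffffffffffffffffffffffffffff) n
noncomputable def xleaf (h : ℕ) : ℕ := recs.get h
noncomputable def mF : ℕ → ℕ := mainRow row (rowChk row xleaf outer (nat_lit 17) (nat_lit 131071) (nat_lit 63) (nat_lit 23) (nat_lit 8388607) (nat_lit 4294967295) (nat_lit 512) (nat_lit 98280) (nat_lit 256) (nat_lit 9) (nat_lit 511) (nat_lit 26) (nat_lit 67108863) (nat_lit 8) (nat_lit 255) cols)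
noncomputable def xF : ℕ → ℕ → ℕ := xLeaf row xleaf outer (nat_lit 131071) (nat_lit 23) (nat_lit 4294967295) (nat_lit 512) (nat_lit 98280) (nat_lit 9) (nat_lit 511) (nat_lit 26) (nat_lit 67108863) (nat_lit 67108352) (nat_lit 8) (nat_lit 255) (nat_lit 10) (nat_lit 1023) (nat_lit 2) (nat_lit 3) (nat_lit 329) (nat_lit 50319360) (nat_lit 128)
noncomputable def cert : Cert := ⟨row, xleaf, outer, cols, nat_lit 17, nat_lit 131071, nat_lit 63, nat_lit 23, nat_lit 8388607, nat_lit 4294967295, nat_lit 512, nat_lit 98280, nat_lit 256, nat_lit 9, nat_lit 511, nat_lit 26, nat_lit 67108863, nat_lit 67108352, nat_lit 8, nat_lit 255, nat_lit 10, nat_lit 1023, nat_lit 2, nat_lit 3, nat_lit 329, nat_lit 50319360, nat_lit 128, nat_lit 32, nat_lit 128, nat_lit 1⟩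
theorem tabok : tabOK (fun i => invL.getD i i) rels subs outer cols (nat_lit 9) (nat_lit 329) = true := by decide +kernel

end CL.TC.Co1L2
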