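import Cfsg.Agent.Spor.TCSound
import Cfsg.Agent.Spor.TCHeldG11D0
import Cfsg.Agent.Spor.TCHeldG11D1

/-! coset enumeration certificate generated by tools/tc -/

set_option maxRecDepth 100000
set_option autoImplicit false
set_option linter.all false

namespace CL.TC.HeldG11

noncomputable def rows : Tr ℕ := (.node (nat_lit 512) (.node (nat_lit 256) (.node (nat_lit 128) (.node (nat_lit 64) (.node (nat_lit 32) (.node (nat_lit 16) rows0 rows1) (.node (nat_lit 16) rows2 rows3)) (.node (nat_lit 32) (.node (nat_lit 16) rows4 rows5) (.node (nat_lit 16) rows6 rows7))) (.node (nat_lit 64) (.node (nat_lit 32) (.node (nat_lit 16) rows8 rows9) (.node (nat_lit 16) rows10 rows11)) (.node (nat_lit 32) (.node (nat_lit 16) rows12 rows13) (.node (nat_lit 16) rows14 rows15)))) (.node (nat_lit 128) (.node (nat_lit 64) (.node (nat_lit 32) (.node (nat_lit 16) rows16 rows17) (.node (nat_lit 16) rows18 rows19)) (.node (nat_lit 32) (.node (nat_lit 16) rows20 rows21)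 (.node (nat_lit 16) rows22 rows23))) (.node (nat_lit 64) (.node (nat_lit 32) (.node (nat_lit 16) rows24 rows25) (.node (nat_lit 16) rows26 rows27)) (.node (nat_lit 32) (.node (nat_lit 16) rows28 rows29) (.node (nat_lit 16) rows30 rows31))))) (.node (nat_lit 256) (.node (nat_lit 128) (.node (nat_lit 64) (.node (nat_lit 32) (.node (nat_lit 16) rows32 rows33) (.node (nat_lit 16) rows34 rows35)) (.node (nat_lit 32) (.node (nat_lit 16) rows36 rows37) (.node (nat_lit 16) rows38 rows39))) (.node (nat_lit 64) (.node (nat_lit 32) (.node (nat_lit 16) rows40 rows41) (.node (nat_lit 16) rows42 rows43)) (.node (nat_lit 32) (.node (nat_lit 16) rows44 rows45) (.node (nat_lit 16) rows46 rows47)))) (.node (nat_lit 128) (.node (nat_lit 64) (.node (nat_lit 32) (.node (nat_lit 16) rows48 rows49) (.node (nat_lit 16) rows50 rows51)) (.node (nat_lit 32) (.node (nat_lit 16) rows52 rows53) (.node (nat_lit 16) rows54 rows55))) rows56)))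
noncomputable def recs : Tr ℕ := (.node (nat_lit 2048) (.node (nat_lit 1024) (.node (nat_lit 512) (.node (nat_lit 256) (.node (nat_lit 128) (.node (nat_lit 64) (.node (nat_lit 32) (.node (nat_lit 16) recs0 recs1) (.node (nat_lit 16) recs2 recs3)) (.node (nat_lit 32) (.node (nat_lit 16) recs4 recs5) (.node (nat_lit 16) recs6 recs7))) (.node (nat_lit 64) (.node (nat_lit 32) (.node (nat_lit 16) recs8 recs9) (.node (nat_lit 16) recs10 recs11)) (.node (nat_lit 32) (.node (nat_lit 16) recs12 recs13) (.node (nat_lit 16) recs14 recs15)))) (.node (nat_lit 128) (.node (nat_lit 64) (.node (nat_lit 32) (.node (nat_lit 16) recs16 recs17) (.node (nat_lit 16) recs18 recs19)) (.node (nat_lit 32) (.node (nat_lit 16) recs20 recs21) (.node (nat_lit 16) recs22 recs23))) (.node (nat_lit 64) (.node (nat_lit 32) (.node (nat_lit 16) recs24 recs25) (.node (nat_lit 16) recs26 recs27)) (.node (nat_lit 32) (.node (nat_lit 16) recs28 recs29) (.node (nat_lit 16) recs30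 recs31))))) (.node (nat_lit 256) (.node (nat_lit 128) (.node (nat_lit 64) (.node (nat_lit 32) (.node (nat_lit 16) recs32 recs33) (.node (nat_lit 16) recs34 recs35)) (.node (nat_lit 32) (.node (nat_lit 16) recs36 recs37) (.node (nat_lit 16) recs38 recs39))) (.node (nat_lit 64) (.node (nat_lit 32) (.node (nat_lit 16) recs40 recs41) (.node (nat_lit 16) recs42 recs43)) (.node (nat_lit 32) (.node (nat_lit 16) recs44 recs45) (.node (nat_lit 16) recs46 recs47)))) (.node (nat_lit 128) (.node (nat_lit 64) (.node (nat_lit 32) (.node (nat_lit 16) recs48 recs49) (.node (nat_lit 16) recs50 recs51)) (.node (nat_lit 32) (.node (nat_lit 16) recs52 recs53) (.node (nat_lit 16) recs54 recs55))) (.node (nat_lit 64) (.node (nat_lit 32) (.node (nat_lit 16) recs56 recs57) (.node (nat_lit 16) recs58 recs59)) (.node (nat_lit 32) (.node (nat_lit 16) recs60 recs61) (.node (nat_lit 16) recs62 recs63)))))) (.node (nat_lit 512) (.node (nat_lit 256) (.node (nat_lit 128)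 (.node (nat_lit 64) (.node (nat_lit 32) (.node (nat_lit 16) recs64 recs65) (.node (nat_lit 16) recs66 recs67)) (.node (nat_lit 32) (.node (nat_lit 16) recs68 recs69) (.node (nat_lit 16) recs70 recs71))) (.node (nat_lit 64) (.node (nat_lit 32) (.node (nat_lit 16) recs72 recs73) (.node (nat_lit 16) recs74 recs75)) (.node (nat_lit 32) (.node (nat_lit 16) recs76 recs77) (.node (nat_lit 16) recs78 recs79)))) (.node (nat_lit 128) (.node (nat_lit 64) (.node (nat_lit 32) (.node (nat_lit 16) recs80 recs81) (.node (nat_lit 16) recs82 recs83)) (.node (nat_lit 32) (.node (nat_lit 16) recs84 recs85) (.node (nat_lit 16) recs86 recs87))) (.node (nat_lit 64) (.node (nat_lit 32) (.node (nat_lit 16) recs88 recs89) (.node (nat_lit 16) recs90 recs91)) (.node (nat_lit 32) (.node (nat_lit 16) recs92 recs93) (.node (nat_lit 16) recs94 recs95))))) (.node (nat_lit 256) (.node (nat_lit 128) (.node (nat_lit 64) (.node (nat_lit 32) (.node (nat_lit 16) recs96 recs97)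 (.node (nat_lit 16) recs98 recs99)) (.node (nat_lit 32) (.node (nat_lit 16) recs100 recs101) (.node (nat_lit 16) recs102 recs103))) (.node (nat_lit 64) (.node (nat_lit 32) (.node (nat_lit 16) recs104 recs105) (.node (nat_lit 16) recs106 recs107)) (.node (nat_lit 32) (.node (nat_lit 16) recs108 recs109) (.node (nat_lit 16) recs110 recs111)))) (.node (nat_lit 128) (.node (nat_lit 64) (.node (nat_lit 32) (.node (nat_lit 16) recs112 recs113) (.node (nat_lit 16) recs114 recs115)) (.node (nat_lit 32) (.node (nat_lit 16) recs116 recs117) (.node (nat_lit 16) recs118 recs119))) (.node (nat_lit 64) (.node (nat_lit 32) (.node (nat_lit 16) recs120 recs121) (.node (nat_lit 16) recs122 recs123)) (.node (nat_lit 32) (.node (nat_lit 16) recs124 recs125) (.node (nat_lit 16) recs126 recs127))))))) (.node (nat_lit 256) (.node (nat_lit 128) (.node (nat_lit 64) (.node (nat_lit 32) (.node (nat_lit 16) recs128 recs129) (.node (nat_lit 16) recs130 recs131)) (.node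 (nat_lit 32) (.node (nat_lit 16) recs132 recs133) (.node (nat_lit 16) recs134 recs135))) (.node (nat_lit 64) (.node (nat_lit 32) (.node (nat_lit 16) recs136 recs137) (.node (nat_lit 16) recs138 recs139)) (.node (nat_lit 32) (.node (nat_lit 16) recs140 recs141) (.node (nat_lit 16) recs142 recs143)))) (.node (nat_lit 32) (.node (nat_lit 16) recs144 recs145) (.node (nat_lit 16) recs146 recs147))))
noncomputable def ci0 : CI := ⟨[], (nat_lit 0), false, (.node (nat_lit 1) (.leaf Rule.defn) (.leaf Rule.copy)), (.node (nat_lit 64) (.node (nat_lit 32) (.node (nat_lit 16) (.node (nat_lit 8) (.node (nat_lit 4) (.node (nat_lit 2) (.node (nat_lit 1) (.leaf (XRule.rot (nat_lit 0) [] 210 0)) (.leaf (XRule.rot (nat_lit 11525740279994) [186, 494, 186, 494, 10] 98 4))) (.node (nat_lit 1) (.leaf (XRule.rot (nat_lit 55350) [54, 54] 210 0)) (.leaf (XRule.rot (nat_lit 100450) [98, 98] 210 0)))) (.node (nat_lit 2) (.node (nat_lit 1) (.leaf (XRule.rot (nat_lit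 235750) [230, 230] 210 0)) (.leaf (XRule.rot (nat_lit 551450) [538, 538] 210 0))) (.node (nat_lit 1) (.leaf (XRule.rot (nat_lit 10250) [10, 10] 210 0)) (.leaf (XRule.rot (nat_lit 145550) [142, 142] 210 0))))) (.node (nat_lit 4) (.node (nat_lit 2) (.node (nat_lit 1) (.leaf (XRule.rot (nat_lit 461250) [450, 450] 210 0)) (.leaf (XRule.rot (nat_lit 596550) [582, 582] 210 0))) (.node (nat_lit 1) (.leaf (XRule.rot (nat_lit 190650) [186, 186] 210 0)) (.leaf (XRule.rot (nat_lit 371050) [362, 362] 210 0)))) (.node (nat_lit 2) (.node (nat_lit 1) (.leaf (XRule.rot (nat_lit 280850) [274, 274] 210 0)) (.leaf (XRule.rot (nat_lit 325950) [318, 318] 210 0))) (.node (nat_lit 1) (.leaf (XRule.rot (nat_lit 506350) [494, 494] 210 0)) (.leaf (XRule.rot (nat_lit 625021098082) [98, 582, 98, 582] 160 1)))))) (.node (nat_lit 8) (.node (nat_lit 4) (.node (nat_lit 2) (.node (nat_lit 1) (.leaf (XRule.rot (nat_lit 11898926183807074) [98, 318, 582, 10, 582, 10] 156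 4)) (.leaf (XRule.rot (nat_lit 577730275382) [54, 538, 54, 538] 114 1))) (.node (nat_lit 1) (.leaf (XRule.rot (nat_lit 416150) [406, 406] 210 0)) (.leaf (XRule.rot (nat_lit 640163108165994) [362, 582, 362, 230, 582] 171 2)))) (.node (nat_lit 2) (.node (nat_lit 1) (.leaf (XRule.rot (nat_lit 204945389447442) [274, 186, 274, 406, 186] 62 1)) (.leaf (XRule.rot (nat_lit 58546248218) [538, 54, 538, 54] 114 0))) (.node (nat_lit 1) (.leaf (XRule.rot (nat_lit 483240904758) [54, 450, 54, 450] 134 1)) (.leaf (XRule.rot (nat_lit 655478880196597946) [186, 230, 318, 582, 186, 582] 162 3))))) (.node (nat_lit 4) (.node (nat_lit 2) (.node (nat_lit 1) (.leaf (XRule.rot (nat_lit 655430501500786830) [142, 582, 142, 582, 142, 582] 154 0)) (.leaf (XRule.rot (nat_lit 10840189026) [98, 10, 98, 10] 2 1))) (.node (nat_lit 1) (.leaf (XRule.rot (nat_lit 204520418372078) [494, 186, 494, 10, 186] 98 0)) (.leaf (XRule.rot (nat_lit 108377345169682) [274, 582, 274, 582,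 98] 166 4)))) (.node (nat_lit 2) (.node (nat_lit 1) (.leaf (XRule.rot (nat_lit 389028358462) [318, 362, 318, 362] 84 0)) (.leaf (XRule.rot (nat_lit 209670612407478854) [582, 186, 582, 318, 230, 186] 163 3))) (.node (nat_lit 1) (.leaf (XRule.rot (nat_lit 205039601904110) [494, 186, 10, 494, 186] 99 1)) (.leaf (XRule.rot (nat_lit 635728441447129880750574) [494, 538, 494, 538, 494, 538, 494, 538] 130 0))))))) (.node (nat_lit 16) (.node (nat_lit 8) (.node (nat_lit 4) (.node (nat_lit 2) (.node (nat_lit 1) (.leaf (XRule.rot (nat_lit 105837070918) [582, 98, 582, 98] 160 0)) (.leaf (XRule.rot (nat_lit 204614723102818) [98, 186, 318, 98, 186] 36 2))) (.node (nat_lit 1) (.leaf (XRule.rot (nat_lit 59998879144518) [582, 54, 318, 582, 54] 158 2)) (.leaf (XRule.rot (nat_lit 398270780516934) [582, 362, 582, 230, 362] 170 0)))) (.node (nat_lit 2) (.node (nat_lit 1) (.leaf (XRule.rot (nat_lit 342060497478) [582, 318, 582, 318] 168 0)) (.leaf (XRule.rot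 (nat_lit 640305072548070) [230, 362, 582, 362, 582] 170 3))) (.node (nat_lit 1) (.leaf (XRule.rot (nat_lit 640210582997266) [274, 98, 582, 274, 582] 167 0)) (.leaf (XRule.rot (nat_lit 253276979571270) [582, 362, 582, 362, 230] 171 3))))) (.node (nat_lit 4) (.node (nat_lit 2) (.node (nat_lit 1) (.leaf (XRule.rot (nat_lit 544703785518290135455042118) [582, 450, 406, 362, 318, 98, 54, 582, 450] 177 2)) (.leaf (XRule.rot (nat_lit 704126561739093401403988418) [450, 582, 54, 98, 318, 362, 406, 450, 582] 176 2))) (.node (nat_lit 1) (.leaf (XRule.rot (nat_lit 640352317233470) [318, 406, 582, 406, 582] 172 3)) (.leaf (XRule.rot (nat_lit 107951958587578) [186, 318, 98, 186, 98] 36 3)))) (.node (nat_lit 2) (.node (nat_lit 1) (.leaf (XRule.rot (nat_lit 436457593326) [494, 406, 494, 406] 108 0)) (.leaf (XRule.rot (nat_lit 543547957029138) [274, 362, 494, 362, 494] 106 3))) (.node (nat_lit 1) (.leaf (XRule.rot (nat_lit 530531727458) [98, 494, 98, 494]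 94 1)) (.leaf (XRule.rot (nat_lit 253418344122862) [494, 98, 230, 494, 230] 100 2)))))) (.node (nat_lit 8) (.node (nat_lit 4) (.node (nat_lit 2) (.node (nat_lit 1) (.leaf (XRule.rot (nat_lit 543783995816518) [582, 494, 318, 582, 494] 175 1)) (.leaf (XRule.rot (nat_lit 108282809661670) [230, 494, 230, 494, 98] 100 4))) (.node (nat_lit 1) (.leaf (XRule.rot (nat_lit 640210075982098) [274, 582, 98, 274, 582] 166 1)) (.leaf (XRule.rot (nat_lit 358143933863176774) [582, 10, 582, 10, 98, 318] 156 0)))) (.node (nat_lit 2) (.node (nat_lit 1) (.leaf (XRule.rot (nat_lit 640446529870318) [494, 582, 318, 494, 582] 174 1)) (.leaf (XRule.rot (nat_lit 530854689174) [406, 494, 406, 494] 108 1))) (.node (nat_lit 1) (.leaf (XRule.rot (nat_lit 577868687546) [186, 538, 186, 538] 118 1)) (.leaf (XRule.rot (nat_lit 398554017581550) [494, 274, 362, 494, 362] 106 2))))) (.node (nat_lit 4) (.node (nat_lit 2) (.node (nat_lit 1) (.leaf (XRule.rot (nat_lit 435996219446)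 [54, 406, 54, 406] 32 0)) (.leaf (XRule.rot (nat_lit 204992541678018) [450, 54, 186, 450, 186] 140 2))) (.node (nat_lit 1) (.leaf (XRule.rot (nat_lit 108235703028162) [450, 98, 362, 450, 98] 136 2)) (.leaf (XRule.rot (nat_lit 253465588718106) [538, 54, 230, 538, 230] 120 2)))) (.node (nat_lit 2) (.node (nat_lit 1) (.leaf (XRule.rot (nat_lit 105514109202) [274, 98, 274, 98] 40 1)) (.leaf (XRule.rot (nat_lit 543405808007398) [230, 494, 98, 230, 494] 100 1))) (.node (nat_lit 1) (.leaf (XRule.rot (nat_lit 398317932882414) [494, 362, 494, 274, 362] 106 0)) (.leaf (XRule.rot (nat_lit 308991601955678658) [450, 362, 274, 230, 450, 274] 145 1)))))))) (.node (nat_lit 32) (.node (nat_lit 16) (.node (nat_lit 8) (.node (nat_lit 4) (.node (nat_lit 2) (.node (nat_lit 1) (.leaf (XRule.rot (nat_lit 704126764306259384889399746) [450, 406, 362, 318, 98, 54, 582, 450, 582] 177 1)) (.leaf (XRule.rot (nat_lit 341460711434) [10, 318, 10, 318] 12 0))) (.node (nat_lit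 1) (.leaf (XRule.rot (nat_lit 11899256388463174) [582, 10, 98, 318, 582, 10] 156 2)) (.leaf (XRule.rot (nat_lit 11242087618878) [318, 230, 10, 230, 10] 9 0)))) (.node (nat_lit 2) (.node (nat_lit 1) (.leaf (XRule.rot (nat_lit 640446806604094) [318, 494, 582, 494, 582] 174 3)) (.leaf (XRule.rot (nat_lit 543500804799046) [582, 494, 582, 318, 494] 174 0))) (.node (nat_lit 1) (.leaf (XRule.rot (nat_lit 160517855620774470) [582, 142, 582, 142, 582, 142] 154 1)) (.leaf (XRule.rot (nat_lit 398648368540230) [582, 362, 230, 582, 362] 171 1))))) (.node (nat_lit 4) (.node (nat_lit 2) (.node (nat_lit 1) (.leaf (XRule.rot (nat_lit 294354438286) [142, 274, 142, 274] 52 0)) (.leaf (XRule.rot (nat_lit 159937643732732266) [362, 450, 142, 450, 54, 142] 138 5))) (.node (nat_lit 1) (.leaf (XRule.rot (nat_lit 494885931427938) [98, 362, 450, 98, 450] 136 3)) (.leaf (XRule.rot (nat_lit 11898925676296774) [582, 318, 98, 10, 582, 10] 157 1)))) (.node (nat_lit 2)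 (.node (nat_lit 1) (.leaf (XRule.rot (nat_lit 349844978072090) [538, 318, 538, 186, 318] 124 0)) (.leaf (XRule.rot (nat_lit 301891206793798) [582, 274, 98, 582, 274] 167 1))) (.node (nat_lit 1) (.leaf (XRule.rot (nat_lit 301891391162950) [582, 98, 274, 582, 274] 166 2)) (.leaf (XRule.rot (nat_lit 58407836054) [406, 54, 406, 54] 32 1)))))) (.node (nat_lit 8) (.node (nat_lit 4) (.node (nat_lit 2) (.node (nat_lit 1) (.leaf (XRule.rot (nat_lit 156424959309922) [98, 142, 98, 274, 142] 35 3)) (.leaf (XRule.rot (nat_lit 200280304154) [538, 186, 538, 186] 118 0))) (.node (nat_lit 1) (.leaf (XRule.rot (nat_lit 61341812213733870) [494, 54, 494, 54, 494, 54] 90 1)) (.leaf (XRule.rot (nat_lit 301844008290842) [538, 274, 142, 538, 274] 123 1)))) (.node (nat_lit 2) (.node (nat_lit 1) (.leaf (XRule.rot (nat_lit 107904713902222) [142, 274, 98, 142, 98] 34 3)) (.leaf (XRule.rot (nat_lit 349892130437570) [450, 318, 450, 230, 318] 146 0))) (.node (nat_lit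 1) (.leaf (XRule.rot (nat_lit 655623637636290746) [186, 582, 186, 230, 318, 582] 162 1)) (.leaf (XRule.rot (nat_lit 495169030260834) [98, 450, 98, 362, 450] 136 1))))) (.node (nat_lit 4) (.node (nat_lit 2) (.node (nat_lit 1) (.leaf (XRule.rot (nat_lit 543358978107578) [186, 10, 494, 186, 494] 99 0)) (.leaf (XRule.rot (nat_lit 544496356740323046393842246) [582, 450, 582, 54, 98, 318, 362, 406, 450] 176 1))) (.node (nat_lit 1) (.leaf (XRule.rot (nat_lit 483425454310) [230, 450, 230, 450] 142 1)) (.leaf (XRule.rot (nat_lit 11163150742) [406, 10, 406, 10] 16 1)))) (.node (nat_lit 2) (.node (nat_lit 1) (.leaf (XRule.rot (nat_lit 253276518062222) [142, 230, 142, 362, 230] 51 3)) (.leaf (XRule.rot (nat_lit 583833089190501896665626) [538, 494, 538, 494, 538, 494, 538, 494] 130 1))) (.node (nat_lit 1) (.leaf (XRule.rot (nat_lit 543406222973026) [98, 230, 494, 230, 494] 100 3)) (.leaf (XRule.rot (nat_lit 592021004069314) [450, 362, 538, 450, 538]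 152 2))))))) (.node (nat_lit 4) (.node (nat_lit 2) (.node (nat_lit 1) (.leaf (XRule.rot (nat_lit 447027064666694) [582, 318, 406, 582, 406] 172 2)) (.leaf (XRule.rot (nat_lit 556254458093746230) [54, 494, 54, 494, 54, 494] 90 0))) (.node (nat_lit 1) (.leaf (XRule.rot (nat_lit 578099374486) [406, 538, 406, 538] 128 1)) (.leaf (XRule.rot (nat_lit 592020819700162) [450, 538, 362, 450, 538] 153 1)))) (.node (nat_lit 2) (.node (nat_lit 1) (.leaf (XRule.rot (nat_lit 252898745489418) [10, 230, 318, 10, 230] 8 2)) (.leaf (XRule.rot (nat_lit 640147788714703098838819257353134439069831736032308582807376368199184878062) [494, 450, 274, 318, 362, 494, 450, 274, 318, 362, 494, 450, 274, 318, 362, 494, 450, 274, 318, 362, 494, 450, 274, 318, 362] 194 0))) (.leaf (XRule.rot (nat_lit 1029233887077026608777817493924241111047882325356440031791101503682910681274) [186, 318, 362, 538, 582, 186, 318, 362, 538, 582, 186, 318, 362, 538, 582, 186, 318, 362, 538,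 582, 186, 318, 362, 538, 582] 178 2))))))⟩
noncomputable def ci10 : CI := ⟨[0], (nat_lit 10), true, (.node (nat_lit 16) (.node (nat_lit 8) (.node (nat_lit 4) (.node (nat_lit 2) (.node (nat_lit 1) (.leaf Rule.defn) (.leaf Rule.copy)) (.node (nat_lit 1) (.leaf (Rule.fwd [nat_lit 10] 210 0)) (.leaf (Rule.fwd [nat_lit 494, nat_lit 10, nat_lit 494] 92 1)))) (.node (nat_lit 2) (.node (nat_lit 1) (.leaf (Rule.fwd [nat_lit 54, nat_lit 186, nat_lit 10, nat_lit 54] 0 2)) (.leaf (Rule.fwd [nat_lit 538, nat_lit 10, nat_lit 538] 112 1))) (.node (nat_lit 1) (.leaf (Rule.fwd [nat_lit 494, nat_lit 186, nat_lit 494, nat_lit 186] 99 4)) (.leaf (Rule.fwd [nat_lit 98, nat_lit 10, nat_lit 98] 2 0))))) (.node (nat_lit 4) (.node (nat_lit 2) (.node (nat_lit 1) (.leaf (Rule.fwd [nat_lit 582, nat_lit 10, nat_lit 98, nat_lit 318, nat_lit 582] 156 1)) (.leaf (Rule.fwd [nat_lit 142, nat_lit 10, nat_lit 142] 4 0))) (.node (nat_lit 1) (.leaf (Rule.fwd [nat_lit 582, nat_lit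 318, nat_lit 98, nat_lit 10, nat_lit 582] 157 2)) (.leaf (Rule.fwd [nat_lit 54, nat_lit 10, nat_lit 54, nat_lit 186] 0 0)))) (.node (nat_lit 2) (.node (nat_lit 1) (.leaf (Rule.fwd [nat_lit 230, nat_lit 318, nat_lit 10, nat_lit 230] 8 2)) (.leaf (Rule.fwd [nat_lit 230, nat_lit 10, nat_lit 230, nat_lit 318] 8 0))) (.node (nat_lit 1) (.leaf (Rule.fwd [nat_lit 186, nat_lit 10, nat_lit 186] 6 0)) (.leaf (Rule.fwd [nat_lit 186, nat_lit 494, nat_lit 186, nat_lit 494] 98 3)))))) (.node (nat_lit 8) (.node (nat_lit 4) (.node (nat_lit 2) (.node (nat_lit 1) (.leaf (Rule.fwd [nat_lit 186, nat_lit 54, nat_lit 10, nat_lit 54] 1 1)) (.leaf (Rule.fwd [nat_lit 274, nat_lit 10, nat_lit 274] 10 0))) (.node (nat_lit 1) (.leaf (Rule.fwd [nat_lit 318, nat_lit 10, nat_lit 318] 12 0)) (.leaf (Rule.fwd [nat_lit 98, nat_lit 318, nat_lit 582, nat_lit 10, nat_lit 582] 156 3)))) (.node (nat_lit 2) (.node (nat_lit 1) (.leaf (Rule.fwd [nat_lit 318, nat_lit 230, nat_lit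 10, nat_lit 230] 9 1)) (.leaf (Rule.fwd [nat_lit 54, nat_lit 10, nat_lit 186, nat_lit 54] 1 3))) (.node (nat_lit 1) (.leaf (Rule.fwd [nat_lit 582, nat_lit 10, nat_lit 582, nat_lit 318, nat_lit 98] 157 4)) (.leaf (Rule.fwd [nat_lit 362, nat_lit 406, nat_lit 10, nat_lit 362] 14 2))))) (.node (nat_lit 4) (.node (nat_lit 2) (.node (nat_lit 1) (.leaf (Rule.fwd [nat_lit 230, nat_lit 10, nat_lit 318, nat_lit 230] 9 3)) (.leaf (Rule.fwd [nat_lit 362, nat_lit 10, nat_lit 362, nat_lit 406] 14 0))) (.node (nat_lit 1) (.leaf (Rule.fwd [nat_lit 362, nat_lit 10, nat_lit 406, nat_lit 362] 15 3)) (.leaf (Rule.fwd [nat_lit 406, nat_lit 10, nat_lit 406] 16 0)))) (.node (nat_lit 1) (.leaf (Rule.fwd [nat_lit 406, nat_lit 362, nat_lit 10, nat_lit 362] 15 1)) (.leaf (Rule.fwd [nat_lit 450, nat_lit 10, nat_lit 450, nat_lit 10, nat_lit 450] 132 0)))))), (.node (nat_lit 16) (.node (nat_lit 8) (.node (nat_lit 4) (.node (nat_lit 2) (.node (nat_lit 1) (.leaf XRule.defn)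 (.leaf XRule.ax)) (.node (nat_lit 1) (.leaf (XRule.rot (nat_lit 518007278) [494, 10, 494] 92 1)) (.leaf (XRule.rot (nat_lit 564144666) [538, 10, 538] 112 1)))) (.node (nat_lit 2) (.node (nat_lit 1) (.leaf (XRule.rot (nat_lit 102770786) [98, 10, 98] 2 0)) (.leaf (XRule.rot (nat_lit 57992734774) [54, 186, 10, 54] 0 2))) (.node (nat_lit 1) (.leaf (XRule.rot (nat_lit 10) [10] 210 0)) (.leaf (XRule.rot (nat_lit 195045562) [186, 10, 186] 6 0))))) (.node (nat_lit 4) (.node (nat_lit 2) (.node (nat_lit 1) (.leaf (XRule.rot (nat_lit 148908174) [142, 10, 142] 4 0)) (.leaf (XRule.rot (nat_lit 640257320036934) [582, 10, 98, 318, 582] 156 1))) (.node (nat_lit 1) (.leaf (XRule.rot (nat_lit 333457726) [318, 10, 318] 12 0)) (.leaf (XRule.rot (nat_lit 287320338) [274, 10, 274] 10 0)))) (.node (nat_lit 2) (.node (nat_lit 1) (.leaf (XRule.rot (nat_lit 246971431142) [230, 318, 10, 230] 8 2)) (.leaf (XRule.rot (nat_lit 388705442154) [362, 406, 10, 362] 14 2)))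 (.node (nat_lit 1) (.leaf (XRule.rot (nat_lit 639927115380834) [98, 318, 582, 10, 582] 156 3)) (.leaf (XRule.rot (nat_lit 639926607870534) [582, 318, 98, 10, 582] 157 2)))))) (.node (nat_lit 8) (.node (nat_lit 4) (.node (nat_lit 2) (.node (nat_lit 1) (.leaf (XRule.rot (nat_lit 425732502) [406, 10, 406] 16 0)) (.leaf (XRule.rot (nat_lit 494791441787330) [450, 10, 450, 10, 450] 132 0))) (.node (nat_lit 1) (.leaf (XRule.rot (nat_lit 341691082982) [230, 10, 230, 318] 8 0)) (.leaf (XRule.rot (nat_lit 388705397142) [406, 362, 10, 362] 15 1)))) (.node (nat_lit 2) (.node (nat_lit 1) (.leaf (XRule.rot (nat_lit 58177103926) [54, 10, 186, 54] 1 3)) (.leaf (XRule.rot (nat_lit 57992599738) [186, 54, 10, 54] 1 1))) (.node (nat_lit 1) (.leaf (XRule.rot (nat_lit 436318775658) [362, 10, 362, 406] 14 0)) (.leaf (XRule.rot (nat_lit 199772612662) [54, 10, 54, 186] 0 0))))) (.node (nat_lit 4) (.node (nat_lit 2) (.node (nat_lit 1) (.leaf (XRule.rot (nat_lit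 108094199704134) [582, 10, 582, 318, 98] 157 4)) (.leaf (XRule.rot (nat_lit 246971341118) [318, 230, 10, 230] 9 1))) (.node (nat_lit 1) (.leaf (XRule.rot (nat_lit 530624002234) [186, 494, 186, 494] 98 3)) (.leaf (XRule.rot (nat_lit 389120272746) [362, 10, 406, 362] 15 3)))) (.node (nat_lit 1) (.leaf (XRule.rot (nat_lit 247294077158) [230, 10, 318, 230] 9 3)) (.leaf (XRule.rot (nat_lit 200234166766) [494, 186, 494, 186] 99 4))))))⟩
noncomputable def ci54 : CI := ⟨[1], (nat_lit 54), true, (.node (nat_lit 32) (.node (nat_lit 16) (.node (nat_lit 8) (.node (nat_lit 4) (.node (nat_lit 2) (.node (nat_lit 1) (.leaf Rule.defn) (.leaf Rule.copy)) (.node (nat_lit 1) (.leaf (Rule.fwd [nat_lit 54] 210 0)) (.leaf (Rule.fwd [nat_lit 538, nat_lit 54, nat_lit 538] 114 1)))) (.node (nat_lit 2) (.node (nat_lit 1) (.leaf (Rule.fwd [nat_lit 450, nat_lit 54, nat_lit 450] 134 1)) (.leaf (Rule.fwd [nat_lit 10, nat_lit 54, nat_lit 186, nat_lit 10] 0 1))) (.node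 (nat_lit 1) (.leaf (Rule.fwd [nat_lit 10, nat_lit 54, nat_lit 10, nat_lit 186] 1 4)) (.leaf (Rule.fwd [nat_lit 98, nat_lit 230, nat_lit 54, nat_lit 98] 18 2))))) (.node (nat_lit 4) (.node (nat_lit 2) (.node (nat_lit 1) (.leaf (Rule.fwd [nat_lit 98, nat_lit 54, nat_lit 98, nat_lit 230] 18 0)) (.leaf (Rule.fwd [nat_lit 582, nat_lit 54, nat_lit 318, nat_lit 582] 158 1))) (.node (nat_lit 1) (.leaf (Rule.fwd [nat_lit 186, nat_lit 54, nat_lit 186] 22 0)) (.leaf (Rule.fwd [nat_lit 582, nat_lit 54, nat_lit 582, nat_lit 318] 159 4)))) (.node (nat_lit 2) (.node (nat_lit 1) (.leaf (Rule.fwd [nat_lit 142, nat_lit 54, nat_lit 142] 20 0)) (.leaf (Rule.fwd [nat_lit 450, nat_lit 142, nat_lit 450, nat_lit 362, nat_lit 142] 139 4))) (.node (nat_lit 1) (.leaf (Rule.fwd [nat_lit 230, nat_lit 54, nat_lit 230] 24 0)) (.leaf (Rule.fwd [nat_lit 318, nat_lit 582, nat_lit 54, nat_lit 582] 158 3)))))) (.node (nat_lit 8) (.node (nat_lit 4) (.node (nat_lit 2) (.node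 (nat_lit 1) (.leaf (Rule.fwd [nat_lit 186, nat_lit 450, nat_lit 186, nat_lit 450] 140 3)) (.leaf (Rule.fwd [nat_lit 230, nat_lit 538, nat_lit 230, nat_lit 538] 120 3))) (.node (nat_lit 1) (.leaf (Rule.fwd [nat_lit 538, nat_lit 230, nat_lit 538, nat_lit 230] 121 4)) (.leaf (Rule.fwd [nat_lit 274, nat_lit 362, nat_lit 54, nat_lit 274] 26 2)))) (.node (nat_lit 2) (.node (nat_lit 1) (.leaf (Rule.fwd [nat_lit 274, nat_lit 54, nat_lit 274, nat_lit 362] 26 0)) (.leaf (Rule.fwd [nat_lit 450, nat_lit 186, nat_lit 450, nat_lit 186] 141 4))) (.node (nat_lit 1) (.leaf (Rule.fwd [nat_lit 230, nat_lit 98, nat_lit 54, nat_lit 98] 19 1)) (.leaf (Rule.fwd [nat_lit 186, nat_lit 10, nat_lit 54, nat_lit 10] 0 3))))) (.node (nat_lit 4) (.node (nat_lit 2) (.node (nat_lit 1) (.leaf (Rule.fwd [nat_lit 362, nat_lit 54, nat_lit 362] 30 0)) (.leaf (Rule.fwd [nat_lit 318, nat_lit 54, nat_lit 318] 28 0))) (.node (nat_lit 1) (.leaf (Rule.fwd [nat_lit 362, nat_lit 274,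 nat_lit 54, nat_lit 274] 27 1)) (.leaf (Rule.fwd [nat_lit 142, nat_lit 362, nat_lit 450, nat_lit 142, nat_lit 450] 138 3)))) (.node (nat_lit 2) (.node (nat_lit 1) (.leaf (Rule.fwd [nat_lit 98, nat_lit 54, nat_lit 230, nat_lit 98] 19 3)) (.leaf (Rule.fwd [nat_lit 274, nat_lit 54, nat_lit 362, nat_lit 274] 27 3))) (.node (nat_lit 1) (.leaf (Rule.fwd [nat_lit 10, nat_lit 186, nat_lit 54, nat_lit 10] 1 2)) (.leaf (Rule.fwd [nat_lit 582, nat_lit 318, nat_lit 54, nat_lit 582] 159 2))))))) (.node (nat_lit 2) (.node (nat_lit 1) (.leaf (Rule.fwd [nat_lit 406, nat_lit 54, nat_lit 406] 32 0)) (.leaf (Rule.fwd [nat_lit 494, nat_lit 54, nat_lit 494, nat_lit 54, nat_lit 494] 90 0))) (.node (nat_lit 1) (.leaf (Rule.fwd [nat_lit 98, nat_lit 318, nat_lit 362, nat_lit 406, nat_lit 450, nat_lit 582, nat_lit 450, nat_lit 582] 176 4)) (.leaf (Rule.fwd [nat_lit 582, nat_lit 450, nat_lit 582, nat_lit 450, nat_lit 406, nat_lit 362, nat_lit 318, nat_lit 98] 177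 5))))), (.node (nat_lit 32) (.node (nat_lit 16) (.node (nat_lit 8) (.node (nat_lit 4) (.node (nat_lit 2) (.node (nat_lit 1) (.leaf XRule.defn) (.leaf XRule.ax)) (.node (nat_lit 1) (.leaf (XRule.rot (nat_lit 564189722) [538, 54, 538] 114 1)) (.leaf (XRule.rot (nat_lit 625251244614) [582, 54, 318, 582] 158 1)))) (.node (nat_lit 2) (.node (nat_lit 1) (.leaf (XRule.rot (nat_lit 105283557474) [98, 230, 54, 98] 18 2)) (.leaf (XRule.rot (nat_lit 148953230) [142, 54, 142] 20 0))) (.node (nat_lit 1) (.leaf (XRule.rot (nat_lit 195090618) [186, 54, 186] 22 0)) (.leaf (XRule.rot (nat_lit 10932508682) [10, 54, 186, 10] 0 1))))) (.node (nat_lit 4) (.node (nat_lit 2) (.node (nat_lit 1) (.leaf (XRule.rot (nat_lit 54) [54] 210 0)) (.leaf (XRule.rot (nat_lit 471914946) [450, 54, 450] 134 1))) (.node (nat_lit 1) (.leaf (XRule.rot (nat_lit 624974960958) [318, 582, 54, 582] 158 3)) (.leaf (XRule.rot (nat_lit 333502782) [318, 54, 318] 28 0)))) (.node (nat_lit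 2) (.node (nat_lit 1) (.leaf (XRule.rot (nat_lit 247524989466) [538, 230, 538, 230] 121 4)) (.leaf (XRule.rot (nat_lit 294262253842) [274, 362, 54, 274] 26 2))) (.node (nat_lit 1) (.leaf (XRule.rot (nat_lit 10794051770) [186, 10, 54, 10] 0 3)) (.leaf (XRule.rot (nat_lit 543217244232174) [494, 54, 494, 54, 494] 90 0)))))) (.node (nat_lit 8) (.node (nat_lit 4) (.node (nat_lit 2) (.node (nat_lit 1) (.leaf (XRule.rot (nat_lit 241228006) [230, 54, 230] 24 0)) (.leaf (XRule.rot (nat_lit 624974690886) [582, 318, 54, 582] 159 2))) (.node (nat_lit 1) (.leaf (XRule.rot (nat_lit 294262163818) [362, 274, 54, 274] 27 1)) (.leaf (XRule.rot (nat_lit 379640170) [362, 54, 362] 30 0)))) (.node (nat_lit 2) (.node (nat_lit 1) (.leaf (XRule.rot (nat_lit 247063435362) [98, 54, 98, 230] 18 0)) (.leaf (XRule.rot (nat_lit 425777558) [406, 54, 406] 32 0))) (.node (nat_lit 1) (.leaf (XRule.rot (nat_lit 199726520330) [10, 54, 10, 186] 1 4)) (.leaf (XRule.rot (nat_lit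 105283422438) [230, 98, 54, 98] 19 1))))) (.node (nat_lit 4) (.node (nat_lit 2) (.node (nat_lit 1) (.leaf (XRule.rot (nat_lit 10794231818) [10, 186, 54, 10] 1 2)) (.leaf (XRule.rot (nat_lit 200188029378) [450, 186, 450, 186] 141 4))) (.node (nat_lit 1) (.leaf (XRule.rot (nat_lit 494933176068238) [142, 362, 450, 142, 450] 138 3)) (.leaf (XRule.rot (nat_lit 388981905682) [274, 54, 274, 362] 26 0)))) (.node (nat_lit 2) (.node (nat_lit 1) (.leaf (XRule.rot (nat_lit 577914824934) [230, 538, 230, 538] 120 3)) (.leaf (XRule.rot (nat_lit 342060227142) [582, 54, 582, 318] 159 4))) (.node (nat_lit 1) (.leaf (XRule.rot (nat_lit 156519817689538) [450, 142, 450, 362, 142] 139 4)) (.leaf (XRule.rot (nat_lit 294584899858) [274, 54, 362, 274] 27 3))))))) (.node (nat_lit 1) (.leaf (XRule.rot (nat_lit 483379316922) [186, 450, 186, 450] 140 3)) (.leaf (XRule.rot (nat_lit 105467926626) [98, 54, 230, 98] 19 3))))⟩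
noncomputable def ci98 : CI := ⟨[2], (nat_lit 98), true, (.node (nat_lit 32) (.node (nat_lit 16) (.node (nat_lit 8) (.node (nat_lit 4) (.node (nat_lit 2) (.node (nat_lit 1) (.leaf Rule.defn) (.leaf Rule.copy)) (.node (nat_lit 1) (.leaf (Rule.fwd [nat_lit 98] 210 0)) (.leaf (Rule.fwd [nat_lit 494, nat_lit 98, nat_lit 494] 94 1)))) (.node (nat_lit 2) (.node (nat_lit 1) (.leaf (Rule.fwd [nat_lit 54, nat_lit 98, nat_lit 230, nat_lit 54] 18 1)) (.leaf (Rule.fwd [nat_lit 450, nat_lit 98, nat_lit 362, nat_lit 450] 136 1))) (.node (nat_lit 1) (.leaf (Rule.fwd [nat_lit 10, nat_lit 98, nat_lit 10] 2 1)) (.leaf (Rule.fwd [nat_lit 582, nat_lit 98, nat_lit 582] 160 1))))) (.node (nat_lit 4) (.node (nat_lit 2) (.node (nat_lit 1) (.leaf (Rule.fwd [nat_lit 186, nat_lit 318, nat_lit 98, nat_lit 186] 36 2)) (.leaf (Rule.fwd [nat_lit 494, nat_lit 230, nat_lit 494, nat_lit 230] 101 4))) (.node (nat_lit 1) (.leaf (Rule.fwd [nat_lit 142, nat_lit 274, nat_lit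 98, nat_lit 142] 34 2)) (.leaf (Rule.fwd [nat_lit 142, nat_lit 98, nat_lit 142, nat_lit 274] 34 0)))) (.node (nat_lit 2) (.node (nat_lit 1) (.leaf (Rule.fwd [nat_lit 582, nat_lit 274, nat_lit 582, nat_lit 274] 167 4)) (.leaf (Rule.fwd [nat_lit 10, nat_lit 582, nat_lit 10, nat_lit 582, nat_lit 318] 157 5))) (.node (nat_lit 1) (.leaf (Rule.fwd [nat_lit 54, nat_lit 98, nat_lit 54, nat_lit 230] 19 4)) (.leaf (Rule.fwd [nat_lit 450, nat_lit 98, nat_lit 450, nat_lit 362] 137 4)))))) (.node (nat_lit 8) (.node (nat_lit 4) (.node (nat_lit 2) (.node (nat_lit 1) (.leaf (Rule.fwd [nat_lit 318, nat_lit 582, nat_lit 10, nat_lit 582, nat_lit 10] 156 4)) (.leaf (Rule.fwd [nat_lit 274, nat_lit 98, nat_lit 274] 40 0))) (.node (nat_lit 1) (.leaf (Rule.fwd [nat_lit 186, nat_lit 98, nat_lit 186, nat_lit 318] 36 0)) (.leaf (Rule.fwd [nat_lit 362, nat_lit 98, nat_lit 362] 44 0)))) (.node (nat_lit 2) (.node (nat_lit 1) (.leaf (Rule.fwd [nat_lit 450, nat_lit 362,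 nat_lit 98, nat_lit 450] 137 2)) (.leaf (Rule.fwd [nat_lit 230, nat_lit 98, nat_lit 230] 38 0))) (.node (nat_lit 1) (.leaf (Rule.fwd [nat_lit 230, nat_lit 494, nat_lit 230, nat_lit 494] 100 3)) (.leaf (Rule.fwd [nat_lit 274, nat_lit 582, nat_lit 274, nat_lit 582] 166 3))))) (.node (nat_lit 4) (.node (nat_lit 2) (.node (nat_lit 1) (.leaf (Rule.fwd [nat_lit 230, nat_lit 54, nat_lit 98, nat_lit 54] 18 3)) (.leaf (Rule.fwd [nat_lit 274, nat_lit 142, nat_lit 98, nat_lit 142] 35 1))) (.node (nat_lit 1) (.leaf (Rule.fwd [nat_lit 142, nat_lit 98, nat_lit 274, nat_lit 142] 35 3)) (.leaf (Rule.fwd [nat_lit 318, nat_lit 98, nat_lit 318] 42 0)))) (.node (nat_lit 2) (.node (nat_lit 1) (.leaf (Rule.fwd [nat_lit 186, nat_lit 98, nat_lit 318, nat_lit 186] 37 3)) (.leaf (Rule.fwd [nat_lit 54, nat_lit 230, nat_lit 98, nat_lit 54] 19 2))) (.node (nat_lit 1) (.leaf (Rule.fwd [nat_lit 362, nat_lit 450, nat_lit 98, nat_lit 450] 136 3)) (.leaf (Rule.fwd [nat_lit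 318, nat_lit 186, nat_lit 98, nat_lit 186] 37 1))))))) (.node (nat_lit 2) (.node (nat_lit 1) (.leaf (Rule.fwd [nat_lit 406, nat_lit 98, nat_lit 406] 46 0)) (.leaf (Rule.fwd [nat_lit 538, nat_lit 98, nat_lit 538, nat_lit 98, nat_lit 538] 110 0))) (.leaf (Rule.fwd [nat_lit 318, nat_lit 362, nat_lit 406, nat_lit 450, nat_lit 582, nat_lit 450, nat_lit 582, nat_lit 54] 176 5)))), (.node (nat_lit 32) (.node (nat_lit 16) (.node (nat_lit 8) (.node (nat_lit 4) (.node (nat_lit 2) (.node (nat_lit 1) (.leaf XRule.defn) (.leaf XRule.ax)) (.node (nat_lit 1) (.leaf (XRule.rot (nat_lit 518097390) [494, 98, 494] 94 1)) (.leaf (XRule.rot (nat_lit 58223331382) [54, 98, 230, 54] 18 1)))) (.node (nat_lit 2) (.node (nat_lit 1) (.leaf (XRule.rot (nat_lit 11620045101374) [318, 582, 10, 582, 10] 156 4)) (.leaf (XRule.rot (nat_lit 152574380174) [142, 274, 98, 142] 34 2))) (.node (nat_lit 1) (.leaf (XRule.rot (nat_lit 199819065530) [186, 318, 98, 186] 36 2)) (.leaf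 (XRule.rot (nat_lit 483563506114) [450, 98, 362, 450] 136 1))))) (.node (nat_lit 4) (.node (nat_lit 2) (.node (nat_lit 1) (.leaf (XRule.rot (nat_lit 98) [98] 210 0)) (.leaf (XRule.rot (nat_lit 10586122) [10, 98, 10] 2 1))) (.node (nat_lit 1) (.leaf (XRule.rot (nat_lit 610372166) [582, 98, 582] 160 1)) (.leaf (XRule.rot (nat_lit 333547838) [318, 98, 318] 42 0)))) (.node (nat_lit 2) (.node (nat_lit 1) (.leaf (XRule.rot (nat_lit 379685226) [362, 98, 362] 44 0)) (.leaf (XRule.rot (nat_lit 287410450) [274, 98, 274] 40 0))) (.node (nat_lit 1) (.leaf (XRule.rot (nat_lit 241273062) [230, 98, 230] 38 0)) (.leaf (XRule.rot (nat_lit 58084874470) [230, 54, 98, 54] 18 3)))))) (.node (nat_lit 8) (.node (nat_lit 4) (.node (nat_lit 2) (.node (nat_lit 1) (.leaf (XRule.rot (nat_lit 591643046677018) [538, 98, 538, 98, 538] 110 0)) (.leaf (XRule.rot (nat_lit 425822614) [406, 98, 406] 46 0))) (.node (nat_lit 1) (.leaf (XRule.rot (nat_lit 58085054518) [54, 230,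 98, 54] 19 2)) (.leaf (XRule.rot (nat_lit 247017343030) [54, 98, 54, 230] 19 4)))) (.node (nat_lit 2) (.node (nat_lit 1) (.leaf (XRule.rot (nat_lit 199818930494) [318, 186, 98, 186] 37 1)) (.leaf (XRule.rot (nat_lit 483286952386) [450, 362, 98, 450] 137 2))) (.node (nat_lit 1) (.leaf (XRule.rot (nat_lit 152758749326) [142, 98, 274, 142] 35 3)) (.leaf (XRule.rot (nat_lit 294815812166) [582, 274, 582, 274] 167 4))))) (.node (nat_lit 4) (.node (nat_lit 2) (.node (nat_lit 1) (.leaf (XRule.rot (nat_lit 483287042410) [362, 450, 98, 450] 136 3)) (.leaf (XRule.rot (nat_lit 341645035706) [186, 98, 186, 318] 36 0))) (.node (nat_lit 1) (.leaf (XRule.rot (nat_lit 294354258062) [142, 98, 142, 274] 34 0)) (.leaf (XRule.rot (nat_lit 152574245138) [274, 142, 98, 142] 35 1)))) (.node (nat_lit 2) (.node (nat_lit 1) (.leaf (XRule.rot (nat_lit 530670139622) [230, 494, 230, 494] 100 3)) (.leaf (XRule.rot (nat_lit 350269626456074) [10, 582, 10, 582, 318] 157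 5))) (.node (nat_lit 1) (.leaf (XRule.rot (nat_lit 200049526970) [186, 98, 318, 186] 37 3)) (.leaf (XRule.rot (nat_lit 389166500290) [450, 98, 450, 362] 137 4))))))) (.node (nat_lit 2) (.node (nat_lit 1) (.leaf (XRule.rot (nat_lit 625205647634) [274, 582, 274, 582] 166 3)) (.leaf (XRule.rot (nat_lit 64423455129778851785022) [318, 362, 406, 450, 582, 450, 582, 54] 176 5))) (.leaf (XRule.rot (nat_lit 247478852078) [494, 230, 494, 230] 101 4))))⟩
noncomputable def ci142 : CI := ⟨[3], (nat_lit 142), true, (.node (nat_lit 32) (.node (nat_lit 16) (.node (nat_lit 8) (.node (nat_lit 4) (.node (nat_lit 2) (.node (nat_lit 1) (.leaf Rule.defn) (.leaf Rule.copy)) (.node (nat_lit 1) (.leaf (Rule.fwd [nat_lit 142] 210 0)) (.leaf (Rule.fwd [nat_lit 494, nat_lit 142, nat_lit 494] 96 1)))) (.node (nat_lit 2) (.node (nat_lit 1) (.leaf (Rule.fwd [nat_lit 54, nat_lit 142, nat_lit 54] 20 1)) (.leaf (Rule.fwd [nat_lit 450, nat_lit 54, nat_lit 142, nat_lit 362,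 nat_lit 450] 138 1))) (.node (nat_lit 1) (.leaf (Rule.fwd [nat_lit 538, nat_lit 142, nat_lit 538] 116 1)) (.leaf (Rule.fwd [nat_lit 10, nat_lit 142, nat_lit 10] 4 1))))) (.node (nat_lit 4) (.node (nat_lit 2) (.node (nat_lit 1) (.leaf (Rule.fwd [nat_lit 98, nat_lit 142, nat_lit 274, nat_lit 98] 34 1)) (.leaf (Rule.fwd [nat_lit 98, nat_lit 142, nat_lit 98, nat_lit 274] 35 4))) (.node (nat_lit 1) (.leaf (Rule.fwd [nat_lit 538, nat_lit 274, nat_lit 538, nat_lit 274] 123 4)) (.leaf (Rule.fwd [nat_lit 230, nat_lit 362, nat_lit 142, nat_lit 230] 50 2)))) (.node (nat_lit 2) (.node (nat_lit 1) (.leaf (Rule.fwd [nat_lit 54, nat_lit 450, nat_lit 142, nat_lit 450, nat_lit 362] 139 5)) (.leaf (Rule.fwd [nat_lit 450, nat_lit 362, nat_lit 142, nat_lit 54, nat_lit 450] 139 2))) (.node (nat_lit 1) (.leaf (Rule.fwd [nat_lit 230, nat_lit 142, nat_lit 230, nat_lit 362] 50 0)) (.leaf (Rule.fwd [nat_lit 186, nat_lit 142, nat_lit 186] 48 0)))))) (.node (nat_lit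 8) (.node (nat_lit 4) (.node (nat_lit 2) (.node (nat_lit 1) (.leaf (Rule.fwd [nat_lit 230, nat_lit 142, nat_lit 362, nat_lit 230] 51 3)) (.leaf (Rule.fwd [nat_lit 362, nat_lit 450, nat_lit 142, nat_lit 450, nat_lit 54] 138 4))) (.node (nat_lit 1) (.leaf (Rule.fwd [nat_lit 318, nat_lit 406, nat_lit 142, nat_lit 318] 54 2)) (.leaf (Rule.fwd [nat_lit 318, nat_lit 142, nat_lit 318, nat_lit 406] 54 0)))) (.node (nat_lit 2) (.node (nat_lit 1) (.leaf (Rule.fwd [nat_lit 362, nat_lit 142, nat_lit 362] 56 0)) (.leaf (Rule.fwd [nat_lit 274, nat_lit 142, nat_lit 274] 52 0))) (.node (nat_lit 1) (.leaf (Rule.fwd [nat_lit 274, nat_lit 538, nat_lit 274, nat_lit 538] 122 3)) (.leaf (Rule.fwd [nat_lit 274, nat_lit 98, nat_lit 142, nat_lit 98] 34 3))))) (.node (nat_lit 4) (.node (nat_lit 2) (.node (nat_lit 1) (.leaf (Rule.fwd [nat_lit 98, nat_lit 274, nat_lit 142, nat_lit 98] 35 2)) (.leaf (Rule.fwd [nat_lit 406, nat_lit 318, nat_lit 142, nat_lit 318] 55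 1))) (.node (nat_lit 1) (.leaf (Rule.fwd [nat_lit 362, nat_lit 230, nat_lit 142, nat_lit 230] 51 1)) (.leaf (Rule.fwd [nat_lit 406, nat_lit 142, nat_lit 406] 58 0)))) (.node (nat_lit 2) (.node (nat_lit 1) (.leaf (Rule.fwd [nat_lit 318, nat_lit 142, nat_lit 406, nat_lit 318] 55 3)) (.leaf (Rule.fwd [nat_lit 582, nat_lit 142, nat_lit 582, nat_lit 142, nat_lit 582] 154 0))) (.node (nat_lit 1) (.leaf (Rule.fwd [nat_lit 450, nat_lit 274, nat_lit 318, nat_lit 362, nat_lit 406, nat_lit 54, nat_lit 494, nat_lit 142, nat_lit 406, nat_lit 494, nat_lit 450, nat_lit 274, nat_lit 318, nat_lit 362, nat_lit 406] 202 10)) (.leaf (Rule.fwd [nat_lit 186, nat_lit 538, nat_lit 582, nat_lit 186, nat_lit 318, nat_lit 362, nat_lit 538, nat_lit 10, nat_lit 582, nat_lit 186, nat_lit 318, nat_lit 362, nat_lit 406, nat_lit 450, nat_lit 142, nat_lit 186, nat_lit 538, nat_lit 582, nat_lit 186, nat_lit 318, nat_lit 362, nat_lit 538, nat_lit 10, nat_lit 582, nat_lit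 186, nat_lit 318, nat_lit 362, nat_lit 406, nat_lit 450] 184 0))))))) (.leaf (Rule.fwd [nat_lit 450, nat_lit 274, nat_lit 318, nat_lit 362, nat_lit 406, nat_lit 582, nat_lit 10, nat_lit 274, nat_lit 494, nat_lit 450, nat_lit 274, nat_lit 318, nat_lit 362, nat_lit 494, nat_lit 142, nat_lit 450, nat_lit 274, nat_lit 318, nat_lit 362, nat_lit 406, nat_lit 582, nat_lit 10, nat_lit 274, nat_lit 494, nat_lit 450, nat_lit 274, nat_lit 318, nat_lit 362, nat_lit 494] 200 8))), (.node (nat_lit 16) (.node (nat_lit 8) (.node (nat_lit 4) (.node (nat_lit 2) (.node (nat_lit 1) (.leaf XRule.defn) (.leaf XRule.ax)) (.node (nat_lit 1) (.leaf (XRule.rot (nat_lit 518142446) [494, 142, 494] 96 1)) (.leaf (XRule.rot (nat_lit 56768566) [54, 142, 54] 20 1)))) (.node (nat_lit 2) (.node (nat_lit 1) (.leaf (XRule.rot (nat_lit 564279834) [538, 142, 538] 116 1)) (.leaf (XRule.rot (nat_lit 105514154082) [98, 142, 274, 98] 34 1))) (.node (nat_lit 1) (.leaf (XRule.rot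 (nat_lit 10631178) [10, 142, 10] 4 1)) (.leaf (XRule.rot (nat_lit 142) [142] 210 0))))) (.node (nat_lit 4) (.node (nat_lit 2) (.node (nat_lit 1) (.leaf (XRule.rot (nat_lit 195180730) [186, 142, 186] 48 0)) (.leaf (XRule.rot (nat_lit 495169075993026) [450, 54, 142, 362, 450] 138 1))) (.node (nat_lit 1) (.leaf (XRule.rot (nat_lit 287455506) [274, 142, 274] 52 0)) (.leaf (XRule.rot (nat_lit 341599123862) [406, 318, 142, 318] 55 1)))) (.node (nat_lit 2) (.node (nat_lit 1) (.leaf (XRule.rot (nat_lit 425867670) [406, 142, 406] 58 0)) (.leaf (XRule.rot (nat_lit 105375697170) [274, 98, 142, 98] 34 3))) (.node (nat_lit 1) (.leaf (XRule.rot (nat_lit 341599213886) [318, 406, 142, 318] 54 2)) (.leaf (XRule.rot (nat_lit 640068849121862) [582, 142, 582, 142, 582] 154 0)))))) (.node (nat_lit 8) (.node (nat_lit 4) (.node (nat_lit 2) (.node (nat_lit 1) (.leaf (XRule.rot (nat_lit 247109888230) [230, 362, 142, 230] 50 2)) (.leaf (XRule.rot (nat_lit 59856961079658)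 [362, 450, 142, 450, 54] 138 4))) (.node (nat_lit 1) (.leaf (XRule.rot (nat_lit 379730282) [362, 142, 362] 56 0)) (.leaf (XRule.rot (nat_lit 294769674778) [538, 274, 538, 274] 123 4)))) (.node (nat_lit 2) (.node (nat_lit 1) (.leaf (XRule.rot (nat_lit 388935858406) [230, 142, 230, 362] 50 0)) (.leaf (XRule.rot (nat_lit 105375877218) [98, 274, 142, 98] 35 2))) (.node (nat_lit 1) (.leaf (XRule.rot (nat_lit 494838363826626) [450, 362, 142, 54, 450] 139 2)) (.leaf (XRule.rot (nat_lit 247109753194) [362, 230, 142, 230] 51 1))))) (.node (nat_lit 4) (.node (nat_lit 2) (.node (nat_lit 1) (.leaf (XRule.rot (nat_lit 577960962322) [274, 538, 274, 538] 122 3)) (.leaf (XRule.rot (nat_lit 436272773438) [318, 142, 318, 406] 54 0))) (.node (nat_lit 1) (.leaf (XRule.rot (nat_lit 341875767614) [318, 142, 406, 318] 55 3)) (.leaf (XRule.rot (nat_lit 294308165730) [98, 142, 98, 274] 35 4)))) (.node (nat_lit 2) (.node (nat_lit 1) (.leaf (XRule.rot (nat_lit 247340349670)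 [230, 142, 362, 230] 51 3)) (.leaf (XRule.rot (nat_lit 398506542434358) [54, 450, 142, 450, 362] 139 5))) (.leaf (XRule.rot (nat_lit 960365786213794252806393800836898726889304726870218730232089034391268976123222914517442) [450, 274, 318, 362, 406, 582, 10, 274, 494, 450, 274, 318, 362, 494, 142, 450, 274, 318, 362, 406, 582, 10, 274, 494, 450, 274, 318, 362, 494] 200 8))))))⟩
noncomputable def ci186 : CI := ⟨[4], (nat_lit 186), true, (.node (nat_lit 32) (.node (nat_lit 16) (.node (nat_lit 8) (.node (nat_lit 4) (.node (nat_lit 2) (.node (nat_lit 1) (.leaf Rule.defn) (.leaf Rule.copy)) (.node (nat_lit 1) (.leaf (Rule.fwd [nat_lit 186] 210 0)) (.leaf (Rule.fwd [nat_lit 494, nat_lit 10, nat_lit 186, nat_lit 494] 98 1)))) (.node (nat_lit 2) (.node (nat_lit 1) (.leaf (Rule.fwd [nat_lit 54, nat_lit 186, nat_lit 54] 22 1)) (.leaf (Rule.fwd [nat_lit 450, nat_lit 54, nat_lit 186, nat_lit 450] 140 1))) (.node (nat_lit 1) (.leaf (Rule.fwd [nat_lit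 538, nat_lit 186, nat_lit 538] 118 1)) (.leaf (Rule.fwd [nat_lit 10, nat_lit 186, nat_lit 10] 6 1))))) (.node (nat_lit 4) (.node (nat_lit 2) (.node (nat_lit 1) (.leaf (Rule.fwd [nat_lit 494, nat_lit 186, nat_lit 10, nat_lit 494] 99 2)) (.leaf (Rule.fwd [nat_lit 98, nat_lit 186, nat_lit 318, nat_lit 98] 36 1))) (.node (nat_lit 1) (.leaf (Rule.fwd [nat_lit 582, nat_lit 186, nat_lit 230, nat_lit 318, nat_lit 582] 162 1)) (.leaf (Rule.fwd [nat_lit 98, nat_lit 186, nat_lit 98, nat_lit 318] 37 4)))) (.node (nat_lit 2) (.node (nat_lit 1) (.leaf (Rule.fwd [nat_lit 494, nat_lit 186, nat_lit 494, nat_lit 10] 98 4)) (.leaf (Rule.fwd [nat_lit 142, nat_lit 186, nat_lit 142] 48 1))) (.node (nat_lit 1) (.leaf (Rule.fwd [nat_lit 450, nat_lit 186, nat_lit 450, nat_lit 54] 140 4)) (.leaf (Rule.fwd [nat_lit 54, nat_lit 10, nat_lit 54, nat_lit 10] 1 0)))))) (.node (nat_lit 8) (.node (nat_lit 4) (.node (nat_lit 2) (.node (nat_lit 1) (.leaf (Rule.fwd [nat_lit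 450, nat_lit 186, nat_lit 54, nat_lit 450] 141 2)) (.leaf (Rule.fwd [nat_lit 318, nat_lit 98, nat_lit 186, nat_lit 98] 36 3))) (.node (nat_lit 1) (.leaf (Rule.fwd [nat_lit 538, nat_lit 318, nat_lit 538, nat_lit 318] 125 4)) (.leaf (Rule.fwd [nat_lit 10, nat_lit 494, nat_lit 186, nat_lit 494] 99 0)))) (.node (nat_lit 2) (.node (nat_lit 1) (.leaf (Rule.fwd [nat_lit 274, nat_lit 406, nat_lit 186, nat_lit 274] 62 2)) (.leaf (Rule.fwd [nat_lit 582, nat_lit 186, nat_lit 582, nat_lit 318, nat_lit 230] 163 4))) (.node (nat_lit 1) (.leaf (Rule.fwd [nat_lit 230, nat_lit 318, nat_lit 582, nat_lit 186, nat_lit 582] 162 3)) (.leaf (Rule.fwd [nat_lit 230, nat_lit 186, nat_lit 230] 60 0))))) (.node (nat_lit 4) (.node (nat_lit 2) (.node (nat_lit 1) (.leaf (Rule.fwd [nat_lit 582, nat_lit 318, nat_lit 230, nat_lit 186, nat_lit 582] 163 2)) (.leaf (Rule.fwd [nat_lit 10, nat_lit 54, nat_lit 10, nat_lit 54] 0 4))) (.node (nat_lit 1) (.leaf (Rule.fwd [nat_lit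 318, nat_lit 186, nat_lit 318] 64 0)) (.leaf (Rule.fwd [nat_lit 274, nat_lit 186, nat_lit 406, nat_lit 274] 63 3)))) (.node (nat_lit 2) (.node (nat_lit 1) (.leaf (Rule.fwd [nat_lit 274, nat_lit 186, nat_lit 274, nat_lit 406] 62 0)) (.leaf (Rule.fwd [nat_lit 406, nat_lit 274, nat_lit 186, nat_lit 274] 63 1))) (.node (nat_lit 1) (.leaf (Rule.fwd [nat_lit 98, nat_lit 318, nat_lit 186, nat_lit 98] 37 2)) (.leaf (Rule.fwd [nat_lit 54, nat_lit 450, nat_lit 186, nat_lit 450] 141 0))))))) (.node (nat_lit 2) (.node (nat_lit 1) (.leaf (Rule.fwd [nat_lit 362, nat_lit 186, nat_lit 362] 66 0)) (.leaf (Rule.fwd [nat_lit 318, nat_lit 538, nat_lit 318, nat_lit 538] 124 3))) (.node (nat_lit 1) (.leaf (Rule.fwd [nat_lit 406, nat_lit 186, nat_lit 406] 68 0)) (.leaf (Rule.fwd [nat_lit 582, nat_lit 538, nat_lit 186, nat_lit 142, nat_lit 450, nat_lit 406, nat_lit 362, nat_lit 318, nat_lit 186, nat_lit 582, nat_lit 10, nat_lit 538, nat_lit 362, nat_lit 318, nat_lit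 186, nat_lit 582, nat_lit 538, nat_lit 186, nat_lit 142, nat_lit 450, nat_lit 406, nat_lit 362, nat_lit 318, nat_lit 186, nat_lit 582, nat_lit 10, nat_lit 538, nat_lit 362, nat_lit 318] 185 5))))), (.node (nat_lit 32) (.node (nat_lit 16) (.node (nat_lit 8) (.node (nat_lit 4) (.node (nat_lit 2) (.node (nat_lit 1) (.leaf XRule.defn) (.leaf XRule.ax)) (.node (nat_lit 1) (.leaf (XRule.rot (nat_lit 56813622) [54, 186, 54] 22 1)) (.leaf (XRule.rot (nat_lit 564324890) [538, 186, 538] 118 1)))) (.node (nat_lit 2) (.node (nat_lit 1) (.leaf (XRule.rot (nat_lit 483378911682) [450, 54, 186, 450] 140 1)) (.leaf (XRule.rot (nat_lit 10676234) [10, 186, 10] 6 1))) (.node (nat_lit 1) (.leaf (XRule.rot (nat_lit 530623506926) [494, 10, 186, 494] 98 1)) (.leaf (XRule.rot (nat_lit 105560336482) [98, 186, 318, 98] 36 1))))) (.node (nat_lit 4) (.node (nat_lit 2) (.node (nat_lit 1) (.leaf (XRule.rot (nat_lit 186) [186] 210 0)) (.leaf (XRule.rot (nat_lit 149088398)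 [142, 186, 142] 48 1))) (.node (nat_lit 1) (.leaf (XRule.rot (nat_lit 640257458629190) [582, 186, 230, 318, 582] 162 1)) (.leaf (XRule.rot (nat_lit 640116093941990) [230, 318, 582, 186, 582] 162 3)))) (.node (nat_lit 2) (.node (nat_lit 1) (.leaf (XRule.rot (nat_lit 333637950) [318, 186, 318] 64 0)) (.leaf (XRule.rot (nat_lit 57992599562) [10, 54, 10, 54] 0 4))) (.node (nat_lit 1) (.leaf (XRule.rot (nat_lit 294400710930) [274, 406, 186, 274] 62 2)) (.leaf (XRule.rot (nat_lit 105421834558) [318, 98, 186, 98] 36 3)))))) (.node (nat_lit 8) (.node (nat_lit 4) (.node (nat_lit 2) (.node (nat_lit 1) (.leaf (XRule.rot (nat_lit 10794051638) [54, 10, 54, 10] 1 0)) (.leaf (XRule.rot (nat_lit 294400575894) [406, 274, 186, 274] 63 1))) (.node (nat_lit 1) (.leaf (XRule.rot (nat_lit 379775338) [362, 186, 362] 66 0)) (.leaf (XRule.rot (nat_lit 11255605742) [494, 186, 494, 10] 98 4)))) (.node (nat_lit 2) (.node (nat_lit 1) (.leaf (XRule.rot (nat_lit 58454108610)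 [450, 186, 450, 54] 140 4)) (.leaf (XRule.rot (nat_lit 241363174) [230, 186, 230] 60 0))) (.node (nat_lit 1) (.leaf (XRule.rot (nat_lit 342014360090) [538, 318, 538, 318] 125 4)) (.leaf (XRule.rot (nat_lit 105422059618) [98, 318, 186, 98] 37 2))))) (.node (nat_lit 4) (.node (nat_lit 2) (.node (nat_lit 1) (.leaf (XRule.rot (nat_lit 483240634818) [450, 186, 54, 450] 141 2)) (.leaf (XRule.rot (nat_lit 425912726) [406, 186, 406] 68 0))) (.node (nat_lit 1) (.leaf (XRule.rot (nat_lit 483379316790) [54, 450, 186, 450] 141 0)) (.leaf (XRule.rot (nat_lit 530624002058) [10, 494, 186, 494] 99 0)))) (.node (nat_lit 2) (.node (nat_lit 1) (.leaf (XRule.rot (nat_lit 640115724843590) [582, 318, 230, 186, 582] 163 2)) (.leaf (XRule.rot (nat_lit 436226681106) [274, 186, 274, 406] 62 0))) (.node (nat_lit 1) (.leaf (XRule.rot (nat_lit 530439137774) [494, 186, 10, 494] 99 2)) (.leaf (XRule.rot (nat_lit 253229734750790) [582, 186, 582, 318, 230] 163 4)))))))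 (.node (nat_lit 2) (.node (nat_lit 1) (.leaf (XRule.rot (nat_lit 341552851042) [98, 186, 98, 318] 37 4)) (.leaf (XRule.rot (nat_lit 578007099710) [318, 538, 318, 538] 124 3))) (.node (nat_lit 1) (.leaf (XRule.rot (nat_lit 218420055110698979222787741299485567255609627191950850586) [538, 142, 186, 406, 98, 406, 582, 186, 318, 362, 406, 98, 406, 582, 186, 318, 362, 538, 142] 192 18)) (.leaf (XRule.rot (nat_lit 294631172370) [274, 186, 406, 274] 63 3)))))⟩
noncomputable def ci230 : CI := ⟨[5], (nat_lit 230), true, (.node (nat_lit 32) (.node (nat_lit 16) (.node (nat_lit 8) (.node (nat_lit 4) (.node (nat_lit 2) (.node (nat_lit 1) (.leaf Rule.defn) (.leaf Rule.copy)) (.node (nat_lit 1) (.leaf (Rule.fwd [nat_lit 230] 210 0)) (.leaf (Rule.fwd [nat_lit 494, nat_lit 98, nat_lit 230, nat_lit 494] 100 1)))) (.node (nat_lit 2) (.node (nat_lit 1) (.leaf (Rule.fwd [nat_lit 54, nat_lit 230, nat_lit 54] 24 1)) (.leaf (Rule.fwd [nat_lit 538, nat_lit 54, nat_lit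 230, nat_lit 538] 120 1))) (.node (nat_lit 1) (.leaf (Rule.fwd [nat_lit 450, nat_lit 230, nat_lit 450] 142 1)) (.leaf (Rule.fwd [nat_lit 10, nat_lit 230, nat_lit 318, nat_lit 10] 8 1))))) (.node (nat_lit 4) (.node (nat_lit 2) (.node (nat_lit 1) (.leaf (Rule.fwd [nat_lit 98, nat_lit 230, nat_lit 98] 38 1)) (.leaf (Rule.fwd [nat_lit 582, nat_lit 230, nat_lit 582] 164 1))) (.node (nat_lit 1) (.leaf (Rule.fwd [nat_lit 186, nat_lit 230, nat_lit 186] 60 1)) (.leaf (Rule.fwd [nat_lit 494, nat_lit 230, nat_lit 98, nat_lit 494] 101 2)))) (.node (nat_lit 2) (.node (nat_lit 1) (.leaf (Rule.fwd [nat_lit 142, nat_lit 230, nat_lit 362, nat_lit 142] 50 1)) (.leaf (Rule.fwd [nat_lit 142, nat_lit 230, nat_lit 142, nat_lit 362] 51 4))) (.node (nat_lit 1) (.leaf (Rule.fwd [nat_lit 538, nat_lit 230, nat_lit 538, nat_lit 54] 120 4)) (.leaf (Rule.fwd [nat_lit 54, nat_lit 98, nat_lit 54, nat_lit 98] 18 4)))))) (.node (nat_lit 8) (.node (nat_lit 4) (.node (nat_lit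 2) (.node (nat_lit 1) (.leaf (Rule.fwd [nat_lit 538, nat_lit 230, nat_lit 54, nat_lit 538] 121 2)) (.leaf (Rule.fwd [nat_lit 186, nat_lit 582, nat_lit 186, nat_lit 582, nat_lit 318] 163 5))) (.node (nat_lit 1) (.leaf (Rule.fwd [nat_lit 450, nat_lit 318, nat_lit 450, nat_lit 318] 147 4)) (.leaf (Rule.fwd [nat_lit 10, nat_lit 230, nat_lit 10, nat_lit 318] 9 4)))) (.node (nat_lit 2) (.node (nat_lit 1) (.leaf (Rule.fwd [nat_lit 98, nat_lit 54, nat_lit 98, nat_lit 54] 19 0)) (.leaf (Rule.fwd [nat_lit 274, nat_lit 230, nat_lit 274] 70 0))) (.node (nat_lit 1) (.leaf (Rule.fwd [nat_lit 582, nat_lit 362, nat_lit 582, nat_lit 362] 171 4)) (.leaf (Rule.fwd [nat_lit 318, nat_lit 582, nat_lit 186, nat_lit 582, nat_lit 186] 162 4))))) (.node (nat_lit 4) (.node (nat_lit 2) (.node (nat_lit 1) (.leaf (Rule.fwd [nat_lit 494, nat_lit 230, nat_lit 494, nat_lit 98] 100 4)) (.leaf (Rule.fwd [nat_lit 362, nat_lit 230, nat_lit 362] 74 0))) (.node (nat_lit 1) (.leaf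 (Rule.fwd [nat_lit 142, nat_lit 362, nat_lit 230, nat_lit 142] 51 2)) (.leaf (Rule.fwd [nat_lit 318, nat_lit 10, nat_lit 230, nat_lit 10] 8 3)))) (.node (nat_lit 2) (.node (nat_lit 1) (.leaf (Rule.fwd [nat_lit 54, nat_lit 538, nat_lit 230, nat_lit 538] 121 0)) (.leaf (Rule.fwd [nat_lit 450, nat_lit 274, nat_lit 450, nat_lit 362, nat_lit 274] 145 4))) (.node (nat_lit 1) (.leaf (Rule.fwd [nat_lit 362, nat_lit 142, nat_lit 230, nat_lit 142] 50 3)) (.leaf (Rule.fwd [nat_lit 98, nat_lit 494, nat_lit 230, nat_lit 494] 101 0))))))) (.node (nat_lit 4) (.node (nat_lit 2) (.node (nat_lit 1) (.leaf (Rule.fwd [nat_lit 318, nat_lit 230, nat_lit 318] 72 0)) (.leaf (Rule.fwd [nat_lit 362, nat_lit 582, nat_lit 362, nat_lit 582] 170 3))) (.node (nat_lit 1) (.leaf (Rule.fwd [nat_lit 274, nat_lit 362, nat_lit 450, nat_lit 274, nat_lit 450] 144 3)) (.leaf (Rule.fwd [nat_lit 10, nat_lit 318, nat_lit 230, nat_lit 10] 9 2)))) (.node (nat_lit 1) (.leaf (Rule.fwd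 [nat_lit 406, nat_lit 230, nat_lit 406] 76 0)) (.leaf (Rule.fwd [nat_lit 318, nat_lit 450, nat_lit 318, nat_lit 450] 146 3))))), (.node (nat_lit 32) (.node (nat_lit 16) (.node (nat_lit 8) (.node (nat_lit 4) (.node (nat_lit 2) (.node (nat_lit 1) (.leaf XRule.defn) (.leaf XRule.ax)) (.node (nat_lit 1) (.leaf (XRule.rot (nat_lit 530669734382) [494, 98, 230, 494] 100 1)) (.leaf (XRule.rot (nat_lit 577914329626) [538, 54, 230, 538] 120 1)))) (.node (nat_lit 2) (.node (nat_lit 1) (.leaf (XRule.rot (nat_lit 102996066) [98, 230, 98] 38 1)) (.leaf (XRule.rot (nat_lit 152851159182) [142, 230, 362, 142] 50 1))) (.node (nat_lit 1) (.leaf (XRule.rot (nat_lit 56858678) [54, 230, 54] 24 1)) (.leaf (XRule.rot (nat_lit 472095170) [450, 230, 450] 142 1))))) (.node (nat_lit 4) (.node (nat_lit 2) (.node (nat_lit 1) (.leaf (XRule.rot (nat_lit 11071100938) [10, 230, 318, 10] 8 1)) (.leaf (XRule.rot (nat_lit 230) [230] 210 0))) (.node (nat_lit 1) (.leaf (XRule.rot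 (nat_lit 610507334) [582, 230, 582] 164 1)) (.leaf (XRule.rot (nat_lit 333683006) [318, 230, 318] 72 0)))) (.node (nat_lit 2) (.node (nat_lit 1) (.leaf (XRule.rot (nat_lit 287545618) [274, 230, 274] 70 0)) (.leaf (XRule.rot (nat_lit 58546428442) [538, 230, 538, 54] 120 4))) (.node (nat_lit 1) (.leaf (XRule.rot (nat_lit 105283422262) [54, 98, 54, 98] 18 4)) (.leaf (XRule.rot (nat_lit 58084874338) [98, 54, 98, 54] 19 0)))))) (.node (nat_lit 8) (.node (nat_lit 4) (.node (nat_lit 2) (.node (nat_lit 1) (.leaf (XRule.rot (nat_lit 195270842) [186, 230, 186] 60 1)) (.leaf (XRule.rot (nat_lit 379820394) [362, 230, 362] 74 0))) (.node (nat_lit 1) (.leaf (XRule.rot (nat_lit 425957782) [406, 230, 406] 76 0)) (.leaf (XRule.rot (nat_lit 577729960474) [538, 230, 54, 538] 121 2)))) (.node (nat_lit 2) (.node (nat_lit 1) (.leaf (XRule.rot (nat_lit 105744931310) [494, 230, 494, 98] 100 4)) (.leaf (XRule.rot (nat_lit 205134276139326) [318, 582, 186, 582, 186]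 162 4))) (.node (nat_lit 1) (.leaf (XRule.rot (nat_lit 10978601278) [318, 10, 230, 10] 8 3)) (.leaf (XRule.rot (nat_lit 495074909989138) [274, 362, 450, 274, 450] 144 3))))) (.node (nat_lit 4) (.node (nat_lit 2) (.node (nat_lit 1) (.leaf (XRule.rot (nat_lit 152712882318) [142, 362, 230, 142] 51 2)) (.leaf (XRule.rot (nat_lit 530670139490) [98, 494, 230, 494] 101 0))) (.node (nat_lit 1) (.leaf (XRule.rot (nat_lit 577914824758) [54, 538, 230, 538] 121 0)) (.leaf (XRule.rot (nat_lit 10978916362) [10, 318, 230, 10] 9 2)))) (.node (nat_lit 2) (.node (nat_lit 1) (.leaf (XRule.rot (nat_lit 152712657258) [362, 142, 230, 142] 50 3)) (.leaf (XRule.rot (nat_lit 350269811005626) [186, 582, 186, 582, 318] 163 5))) (.node (nat_lit 1) (.leaf (XRule.rot (nat_lit 625297922410) [362, 582, 362, 582] 170 3)) (.leaf (XRule.rot (nat_lit 301655352691138) [450, 274, 450, 362, 274] 145 4))))))) (.node (nat_lit 4) (.node (nat_lit 2) (.node (nat_lit 1) (.leaf (XRule.rot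 (nat_lit 483517729086) [318, 450, 318, 450] 146 3)) (.leaf (XRule.rot (nat_lit 341460621322) [10, 230, 10, 318] 9 4))) (.node (nat_lit 1) (.leaf (XRule.rot (nat_lit 389305182790) [582, 362, 582, 362] 171 4)) (.leaf (XRule.rot (nat_lit 341922085314) [450, 318, 450, 318] 147 4)))) (.node (nat_lit 1) (.leaf (XRule.rot (nat_lit 530531457518) [494, 230, 98, 494] 101 2)) (.leaf (XRule.rot (nat_lit 388843673742) [142, 230, 142, 362] 51 4)))))⟩
noncomputable def ci274 : CI := ⟨[6], (nat_lit 274), true, (.node (nat_lit 32) (.node (nat_lit 16) (.node (nat_lit 8) (.node (nat_lit 4) (.node (nat_lit 2) (.node (nat_lit 1) (.leaf Rule.defn) (.leaf Rule.copy)) (.node (nat_lit 1) (.leaf (Rule.fwd [nat_lit 274] 210 0)) (.leaf (Rule.fwd [nat_lit 494, nat_lit 274, nat_lit 494] 102 1)))) (.node (nat_lit 2) (.node (nat_lit 1) (.leaf (Rule.fwd [nat_lit 54, nat_lit 274, nat_lit 362, nat_lit 54] 26 1)) (.leaf (Rule.fwd [nat_lit 450, nat_lit 230, nat_lit 274, nat_lit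 362, nat_lit 450] 144 1))) (.node (nat_lit 1) (.leaf (Rule.fwd [nat_lit 538, nat_lit 142, nat_lit 274, nat_lit 538] 122 1)) (.leaf (Rule.fwd [nat_lit 10, nat_lit 274, nat_lit 10] 10 1))))) (.node (nat_lit 4) (.node (nat_lit 2) (.node (nat_lit 1) (.leaf (Rule.fwd [nat_lit 98, nat_lit 274, nat_lit 98] 40 1)) (.leaf (Rule.fwd [nat_lit 582, nat_lit 98, nat_lit 274, nat_lit 582] 166 1))) (.node (nat_lit 1) (.leaf (Rule.fwd [nat_lit 186, nat_lit 274, nat_lit 406, nat_lit 186] 62 1)) (.leaf (Rule.fwd [nat_lit 142, nat_lit 274, nat_lit 142] 52 1)))) (.node (nat_lit 2) (.node (nat_lit 1) (.leaf (Rule.fwd [nat_lit 538, nat_lit 274, nat_lit 142, nat_lit 538] 123 2)) (.leaf (Rule.fwd [nat_lit 582, nat_lit 274, nat_lit 98, nat_lit 582] 167 2))) (.node (nat_lit 1) (.leaf (Rule.fwd [nat_lit 54, nat_lit 274, nat_lit 54, nat_lit 362] 27 4)) (.leaf (Rule.fwd [nat_lit 230, nat_lit 450, nat_lit 274, nat_lit 450, nat_lit 362] 145 5)))))) (.node (nat_lit 8)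 (.node (nat_lit 4) (.node (nat_lit 2) (.node (nat_lit 1) (.leaf (Rule.fwd [nat_lit 538, nat_lit 274, nat_lit 538, nat_lit 142] 122 4)) (.leaf (Rule.fwd [nat_lit 98, nat_lit 142, nat_lit 98, nat_lit 142] 34 4))) (.node (nat_lit 1) (.leaf (Rule.fwd [nat_lit 494, nat_lit 362, nat_lit 494, nat_lit 362] 107 4)) (.leaf (Rule.fwd [nat_lit 582, nat_lit 274, nat_lit 582, nat_lit 98] 166 4)))) (.node (nat_lit 2) (.node (nat_lit 1) (.leaf (Rule.fwd [nat_lit 142, nat_lit 98, nat_lit 142, nat_lit 98] 35 0)) (.leaf (Rule.fwd [nat_lit 230, nat_lit 274, nat_lit 230] 70 1))) (.node (nat_lit 1) (.leaf (Rule.fwd [nat_lit 362, nat_lit 54, nat_lit 274, nat_lit 54] 26 3)) (.leaf (Rule.fwd [nat_lit 450, nat_lit 362, nat_lit 274, nat_lit 230, nat_lit 450] 145 2))))) (.node (nat_lit 4) (.node (nat_lit 2) (.node (nat_lit 1) (.leaf (Rule.fwd [nat_lit 186, nat_lit 274, nat_lit 186, nat_lit 406] 63 4)) (.leaf (Rule.fwd [nat_lit 362, nat_lit 494, nat_lit 362, nat_lit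 494] 106 3))) (.node (nat_lit 1) (.leaf (Rule.fwd [nat_lit 362, nat_lit 450, nat_lit 274, nat_lit 450, nat_lit 230] 144 4)) (.leaf (Rule.fwd [nat_lit 98, nat_lit 582, nat_lit 274, nat_lit 582] 167 0)))) (.node (nat_lit 2) (.node (nat_lit 1) (.leaf (Rule.fwd [nat_lit 142, nat_lit 538, nat_lit 274, nat_lit 538] 123 0)) (.leaf (Rule.fwd [nat_lit 54, nat_lit 362, nat_lit 274, nat_lit 54] 27 2))) (.node (nat_lit 1) (.leaf (Rule.fwd [nat_lit 362, nat_lit 274, nat_lit 362] 80 0)) (.leaf (Rule.fwd [nat_lit 318, nat_lit 274, nat_lit 318] 78 0))))))) (.node (nat_lit 4) (.node (nat_lit 2) (.node (nat_lit 1) (.leaf (Rule.fwd [nat_lit 186, nat_lit 406, nat_lit 274, nat_lit 186] 63 2)) (.leaf (Rule.fwd [nat_lit 406, nat_lit 186, nat_lit 274, nat_lit 186] 62 3))) (.node (nat_lit 1) (.leaf (Rule.fwd [nat_lit 406, nat_lit 274, nat_lit 406] 82 0)) (.leaf (Rule.fwd [nat_lit 318, nat_lit 362, nat_lit 406, nat_lit 582, nat_lit 10, nat_lit 274, nat_lit 494,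 nat_lit 450, nat_lit 274, nat_lit 318, nat_lit 362, nat_lit 494, nat_lit 142, nat_lit 450, nat_lit 274, nat_lit 318, nat_lit 362, nat_lit 406, nat_lit 582, nat_lit 10, nat_lit 274, nat_lit 494, nat_lit 450, nat_lit 274, nat_lit 318, nat_lit 362, nat_lit 494, nat_lit 142, nat_lit 450] 200 10)))) (.node (nat_lit 1) (.leaf (Rule.fwd [nat_lit 494, nat_lit 450, nat_lit 274, nat_lit 318, nat_lit 362, nat_lit 494, nat_lit 142, nat_lit 450, nat_lit 274, nat_lit 318, nat_lit 362, nat_lit 406, nat_lit 582, nat_lit 10, nat_lit 274, nat_lit 494, nat_lit 450, nat_lit 274, nat_lit 318, nat_lit 362, nat_lit 494, nat_lit 142, nat_lit 450, nat_lit 274, nat_lit 318, nat_lit 362, nat_lit 406, nat_lit 582, nat_lit 10] 200 1)) (.leaf (Rule.fwd [nat_lit 450, nat_lit 494, nat_lit 362, nat_lit 318, nat_lit 274, nat_lit 450, nat_lit 494, nat_lit 362, nat_lit 318, nat_lit 274, nat_lit 450, nat_lit 494, nat_lit 362, nat_lit 318, nat_lit 274, nat_lit 450, nat_lit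 494, nat_lit 362, nat_lit 318, nat_lit 274, nat_lit 450, nat_lit 494, nat_lit 362, nat_lit 318] 195 3))))), (.node (nat_lit 32) (.node (nat_lit 16) (.node (nat_lit 8) (.node (nat_lit 4) (.node (nat_lit 2) (.node (nat_lit 1) (.leaf XRule.defn) (.leaf XRule.ax)) (.node (nat_lit 1) (.leaf (XRule.rot (nat_lit 577960557082) [538, 142, 274, 538] 122 1)) (.leaf (XRule.rot (nat_lit 103041122) [98, 274, 98] 40 1)))) (.node (nat_lit 2) (.node (nat_lit 1) (.leaf (XRule.rot (nat_lit 518277614) [494, 274, 494] 102 1)) (.leaf (XRule.rot (nat_lit 105837251142) [582, 274, 582, 98] 166 4))) (.node (nat_lit 1) (.leaf (XRule.rot (nat_lit 10766346) [10, 274, 10] 10 1)) (.leaf (XRule.rot (nat_lit 149178510) [142, 274, 142] 52 1))))) (.node (nat_lit 4) (.node (nat_lit 2) (.node (nat_lit 1) (.leaf (XRule.rot (nat_lit 58361923638) [54, 274, 362, 54] 26 1)) (.leaf (XRule.rot (nat_lit 495169214585282) [450, 230, 274, 362, 450] 144 1))) (.node (nat_lit 1) (.leaf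 (XRule.rot (nat_lit 274) [274] 210 0)) (.leaf (XRule.rot (nat_lit 625205152326) [582, 98, 274, 582] 166 1)))) (.node (nat_lit 2) (.node (nat_lit 1) (.leaf (XRule.rot (nat_lit 333728062) [318, 274, 318] 78 0)) (.leaf (XRule.rot (nat_lit 152574244962) [98, 142, 98, 142] 34 4))) (.node (nat_lit 1) (.leaf (XRule.rot (nat_lit 253371145980266) [362, 450, 274, 450, 230] 144 4)) (.leaf (XRule.rot (nat_lit 153035754010) [538, 274, 538, 142] 122 4)))))) (.node (nat_lit 8) (.node (nat_lit 4) (.node (nat_lit 2) (.node (nat_lit 1) (.leaf (XRule.rot (nat_lit 379865450) [362, 274, 362] 80 0)) (.leaf (XRule.rot (nat_lit 241453286) [230, 274, 230] 70 1))) (.node (nat_lit 1) (.leaf (XRule.rot (nat_lit 200141981882) [186, 274, 406, 186] 62 1)) (.leaf (XRule.rot (nat_lit 105375697038) [142, 98, 142, 98] 35 0)))) (.node (nat_lit 2) (.node (nat_lit 1) (.leaf (XRule.rot (nat_lit 426002838) [406, 274, 406] 82 0)) (.leaf (XRule.rot (nat_lit 200003479958) [406,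 186, 274, 186] 62 3))) (.node (nat_lit 1) (.leaf (XRule.rot (nat_lit 495027480799682) [450, 362, 274, 230, 450] 145 2)) (.leaf (XRule.rot (nat_lit 58269423978) [362, 54, 274, 54] 26 3))))) (.node (nat_lit 4) (.node (nat_lit 2) (.node (nat_lit 1) (.leaf (XRule.rot (nat_lit 200003705018) [186, 406, 274, 186] 63 2)) (.leaf (XRule.rot (nat_lit 625205647458) [98, 582, 274, 582] 167 0))) (.node (nat_lit 1) (.leaf (XRule.rot (nat_lit 577822280218) [538, 274, 142, 538] 123 2)) (.leaf (XRule.rot (nat_lit 530808551786) [362, 494, 362, 494] 106 3)))) (.node (nat_lit 2) (.node (nat_lit 1) (.leaf (XRule.rot (nat_lit 58269739062) [54, 362, 274, 54] 27 2)) (.leaf (XRule.rot (nat_lit 388751444022) [54, 274, 54, 362] 27 4))) (.node (nat_lit 1) (.leaf (XRule.rot (nat_lit 625020783174) [582, 274, 98, 582] 167 2)) (.leaf (XRule.rot (nat_lit 549299616965998010263687607192560684212912088583881313460870260451686850) [450, 494, 362, 318, 274, 450, 494, 362, 318,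 274, 450, 494, 362, 318, 274, 450, 494, 362, 318, 274, 450, 494, 362, 318] 195 3))))))) (.node (nat_lit 2) (.node (nat_lit 1) (.leaf (XRule.rot (nat_lit 398506680846566) [230, 450, 274, 450, 362] 145 5)) (.leaf (XRule.rot (nat_lit 577960962190) [142, 538, 274, 538] 123 0))) (.node (nat_lit 1) (.leaf (XRule.rot (nat_lit 436134496442) [186, 274, 186, 406] 63 4)) (.leaf (XRule.rot (nat_lit 389212908014) [494, 362, 494, 362] 107 4)))))⟩
noncomputable def ci318 : CI := ⟨[7], (nat_lit 318), true, (.node (nat_lit 32) (.node (nat_lit 16) (.node (nat_lit 8) (.node (nat_lit 4) (.node (nat_lit 2) (.node (nat_lit 1) (.leaf Rule.defn) (.leaf Rule.copy)) (.node (nat_lit 1) (.leaf (Rule.fwd [nat_lit 318] 210 0)) (.leaf (Rule.fwd [nat_lit 494, nat_lit 318, nat_lit 494] 104 1)))) (.node (nat_lit 2) (.node (nat_lit 1) (.leaf (Rule.fwd [nat_lit 54, nat_lit 318, nat_lit 54] 28 1)) (.leaf (Rule.fwd [nat_lit 450, nat_lit 230, nat_lit 318, nat_lit 450] 146 1)))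 (.node (nat_lit 1) (.leaf (Rule.fwd [nat_lit 538, nat_lit 186, nat_lit 318, nat_lit 538] 124 1)) (.leaf (Rule.fwd [nat_lit 10, nat_lit 318, nat_lit 10] 12 1))))) (.node (nat_lit 4) (.node (nat_lit 2) (.node (nat_lit 1) (.leaf (Rule.fwd [nat_lit 98, nat_lit 318, nat_lit 98] 42 1)) (.leaf (Rule.fwd [nat_lit 582, nat_lit 318, nat_lit 582] 168 1))) (.node (nat_lit 1) (.leaf (Rule.fwd [nat_lit 582, nat_lit 54, nat_lit 582, nat_lit 54] 158 4)) (.leaf (Rule.fwd [nat_lit 186, nat_lit 318, nat_lit 186] 64 1)))) (.node (nat_lit 2) (.node (nat_lit 1) (.leaf (Rule.fwd [nat_lit 494, nat_lit 582, nat_lit 494, nat_lit 582] 174 3)) (.leaf (Rule.fwd [nat_lit 582, nat_lit 494, nat_lit 582, nat_lit 494] 175 4))) (.node (nat_lit 1) (.leaf (Rule.fwd [nat_lit 142, nat_lit 318, nat_lit 406, nat_lit 142] 54 1)) (.leaf (Rule.fwd [nat_lit 98, nat_lit 10, nat_lit 582, nat_lit 10, nat_lit 582] 157 0)))))) (.node (nat_lit 8) (.node (nat_lit 4) (.node (nat_lit 2) (.node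 (nat_lit 1) (.leaf (Rule.fwd [nat_lit 54, nat_lit 582, nat_lit 54, nat_lit 582] 159 0)) (.leaf (Rule.fwd [nat_lit 186, nat_lit 98, nat_lit 186, nat_lit 98] 37 0))) (.node (nat_lit 1) (.leaf (Rule.fwd [nat_lit 538, nat_lit 318, nat_lit 186, nat_lit 538] 125 2)) (.leaf (Rule.fwd [nat_lit 450, nat_lit 318, nat_lit 230, nat_lit 450] 147 2)))) (.node (nat_lit 2) (.node (nat_lit 1) (.leaf (Rule.fwd [nat_lit 142, nat_lit 318, nat_lit 142, nat_lit 406] 55 4)) (.leaf (Rule.fwd [nat_lit 538, nat_lit 318, nat_lit 538, nat_lit 186] 124 4))) (.node (nat_lit 1) (.leaf (Rule.fwd [nat_lit 274, nat_lit 318, nat_lit 274] 78 1)) (.leaf (Rule.fwd [nat_lit 450, nat_lit 318, nat_lit 450, nat_lit 230] 146 4))))) (.node (nat_lit 4) (.node (nat_lit 2) (.node (nat_lit 1) (.leaf (Rule.fwd [nat_lit 582, nat_lit 10, nat_lit 582, nat_lit 10, nat_lit 98] 156 5)) (.leaf (Rule.fwd [nat_lit 230, nat_lit 318, nat_lit 230] 72 1))) (.node (nat_lit 1) (.leaf (Rule.fwd [nat_lit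 230, nat_lit 10, nat_lit 230, nat_lit 10] 9 0)) (.leaf (Rule.fwd [nat_lit 230, nat_lit 186, nat_lit 582, nat_lit 186, nat_lit 582] 163 0)))) (.node (nat_lit 2) (.node (nat_lit 1) (.leaf (Rule.fwd [nat_lit 10, nat_lit 230, nat_lit 10, nat_lit 230] 8 4)) (.leaf (Rule.fwd [nat_lit 582, nat_lit 406, nat_lit 582, nat_lit 406] 173 4))) (.node (nat_lit 1) (.leaf (Rule.fwd [nat_lit 98, nat_lit 186, nat_lit 98, nat_lit 186] 36 4)) (.leaf (Rule.fwd [nat_lit 582, nat_lit 186, nat_lit 582, nat_lit 186, nat_lit 230] 162 5))))))) (.node (nat_lit 4) (.node (nat_lit 2) (.node (nat_lit 1) (.leaf (Rule.fwd [nat_lit 362, nat_lit 318, nat_lit 362] 84 0)) (.leaf (Rule.fwd [nat_lit 186, nat_lit 538, nat_lit 318, nat_lit 538] 125 0))) (.node (nat_lit 1) (.leaf (Rule.fwd [nat_lit 230, nat_lit 450, nat_lit 318, nat_lit 450] 147 0)) (.leaf (Rule.fwd [nat_lit 142, nat_lit 406, nat_lit 318, nat_lit 142] 55 2)))) (.node (nat_lit 2) (.node (nat_lit 1) (.leaf (Rule.fwd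 [nat_lit 406, nat_lit 582, nat_lit 406, nat_lit 582] 172 3)) (.leaf (Rule.fwd [nat_lit 406, nat_lit 142, nat_lit 318, nat_lit 142] 54 3))) (.leaf (Rule.fwd [nat_lit 406, nat_lit 318, nat_lit 406] 86 0))))), (.node (nat_lit 32) (.node (nat_lit 16) (.node (nat_lit 8) (.node (nat_lit 4) (.node (nat_lit 2) (.node (nat_lit 1) (.leaf XRule.defn) (.leaf XRule.ax)) (.node (nat_lit 1) (.leaf (XRule.rot (nat_lit 518322670) [494, 318, 494] 104 1)) (.leaf (XRule.rot (nat_lit 578006739482) [538, 186, 318, 538] 124 1)))) (.node (nat_lit 2) (.node (nat_lit 1) (.leaf (XRule.rot (nat_lit 10811402) [10, 318, 10] 12 1)) (.leaf (XRule.rot (nat_lit 152897386638) [142, 318, 406, 142] 54 1))) (.node (nat_lit 1) (.leaf (XRule.rot (nat_lit 56948790) [54, 318, 54] 28 1)) (.leaf (XRule.rot (nat_lit 195360954) [186, 318, 186] 64 1))))) (.node (nat_lit 4) (.node (nat_lit 2) (.node (nat_lit 1) (.leaf (XRule.rot (nat_lit 483517503938) [450, 230, 318, 450] 146 1)) (.leaf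 (XRule.rot (nat_lit 318) [318] 210 0))) (.node (nat_lit 1) (.leaf (XRule.rot (nat_lit 610597446) [582, 318, 582] 168 1)) (.leaf (XRule.rot (nat_lit 103086178) [98, 318, 98] 42 1)))) (.node (nat_lit 2) (.node (nat_lit 1) (.leaf (XRule.rot (nat_lit 246971340810) [10, 230, 10, 230] 8 4)) (.leaf (XRule.rot (nat_lit 436088404110) [142, 318, 142, 406] 55 4))) (.node (nat_lit 1) (.leaf (XRule.rot (nat_lit 287635730) [274, 318, 274] 78 1)) (.leaf (XRule.rot (nat_lit 379910506) [362, 318, 362] 84 0)))))) (.node (nat_lit 8) (.node (nat_lit 4) (.node (nat_lit 2) (.node (nat_lit 1) (.leaf (XRule.rot (nat_lit 241498342) [230, 318, 230] 72 1)) (.leaf (XRule.rot (nat_lit 199818930274) [98, 186, 98, 186] 36 4))) (.node (nat_lit 1) (.leaf (XRule.rot (nat_lit 200280439322) [538, 318, 538, 186] 124 4)) (.leaf (XRule.rot (nat_lit 426047894) [406, 318, 406] 86 0)))) (.node (nat_lit 2) (.node (nat_lit 1) (.leaf (XRule.rot (nat_lit 247432804802) [450, 318, 450,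 230] 146 4)) (.leaf (XRule.rot (nat_lit 253088000830022) [582, 186, 582, 186, 230] 162 5))) (.node (nat_lit 1) (.leaf (XRule.rot (nat_lit 10978601190) [230, 10, 230, 10] 9 0)) (.leaf (XRule.rot (nat_lit 152805202062) [142, 406, 318, 142] 55 2))))) (.node (nat_lit 4) (.node (nat_lit 2) (.node (nat_lit 1) (.leaf (XRule.rot (nat_lit 483517728998) [230, 450, 318, 450] 147 0)) (.leaf (XRule.rot (nat_lit 58592385606) [582, 54, 582, 54] 158 4))) (.node (nat_lit 1) (.leaf (XRule.rot (nat_lit 152804931990) [406, 142, 318, 142] 54 3)) (.leaf (XRule.rot (nat_lit 578007099578) [186, 538, 318, 538] 125 0)))) (.node (nat_lit 2) (.node (nat_lit 1) (.leaf (XRule.rot (nat_lit 483425319362) [450, 318, 230, 450] 147 2)) (.leaf (XRule.rot (nat_lit 577868462618) [538, 318, 186, 538] 125 2))) (.node (nat_lit 1) (.leaf (XRule.rot (nat_lit 105421834426) [186, 98, 186, 98] 37 0)) (.leaf (XRule.rot (nat_lit 624974960694) [54, 582, 54, 582] 159 0))))))) (.node (nat_lit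 4) (.node (nat_lit 2) (.node (nat_lit 1) (.leaf (XRule.rot (nat_lit 107763487222342) [582, 10, 582, 10, 98] 156 5)) (.leaf (XRule.rot (nat_lit 436549868102) [582, 406, 582, 406] 173 4))) (.node (nat_lit 1) (.leaf (XRule.rot (nat_lit 625436334574) [494, 582, 494, 582] 174 3)) (.leaf (XRule.rot (nat_lit 531039238726) [582, 494, 582, 494] 175 4)))) (.node (nat_lit 2) (.node (nat_lit 1) (.leaf (XRule.rot (nat_lit 625344059798) [406, 582, 406, 582] 172 3)) (.leaf (XRule.rot (nat_lit 640116093806822) [230, 186, 582, 186, 582] 163 0))) (.leaf (XRule.rot (nat_lit 639927115065442) [98, 10, 582, 10, 582] 157 0)))))⟩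
noncomputable def ci362 : CI := ⟨[8], (nat_lit 362), true, (.node (nat_lit 32) (.node (nat_lit 16) (.node (nat_lit 8) (.node (nat_lit 4) (.node (nat_lit 2) (.node (nat_lit 1) (.leaf Rule.defn) (.leaf Rule.copy)) (.node (nat_lit 1) (.leaf (Rule.fwd [nat_lit 362] 210 0)) (.leaf (Rule.fwd [nat_lit 494, nat_lit 274, nat_lit 362, nat_lit 494] 106 1)))) (.node (nat_lit 2) (.node (nat_lit 1) (.leaf (Rule.fwd [nat_lit 54, nat_lit 362, nat_lit 54] 30 1)) (.leaf (Rule.fwd [nat_lit 450, nat_lit 362, nat_lit 450] 148 1))) (.node (nat_lit 1) (.leaf (Rule.fwd [nat_lit 450, nat_lit 538, nat_lit 450, nat_lit 538] 153 4)) (.leaf (Rule.fwd [nat_lit 538, nat_lit 362, nat_lit 538] 126 1))))) (.node (nat_lit 4) (.node (nat_lit 2) (.node (nat_lit 1) (.leaf (Rule.fwd [nat_lit 10, nat_lit 362, nat_lit 406, nat_lit 10] 14 1)) (.leaf (Rule.fwd [nat_lit 98, nat_lit 362, nat_lit 98] 44 1))) (.node (nat_lit 1) (.leaf (Rule.fwd [nat_lit 98, nat_lit 450, nat_lit 98,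 nat_lit 450] 137 0)) (.leaf (Rule.fwd [nat_lit 582, nat_lit 230, nat_lit 362, nat_lit 582] 170 1)))) (.node (nat_lit 2) (.node (nat_lit 1) (.leaf (Rule.fwd [nat_lit 186, nat_lit 362, nat_lit 186] 66 1)) (.leaf (Rule.fwd [nat_lit 142, nat_lit 362, nat_lit 142] 56 1))) (.node (nat_lit 1) (.leaf (Rule.fwd [nat_lit 450, nat_lit 142, nat_lit 450, nat_lit 54, nat_lit 142] 138 5)) (.leaf (Rule.fwd [nat_lit 450, nat_lit 98, nat_lit 450, nat_lit 98] 136 4)))))) (.node (nat_lit 8) (.node (nat_lit 4) (.node (nat_lit 2) (.node (nat_lit 1) (.leaf (Rule.fwd [nat_lit 10, nat_lit 362, nat_lit 10, nat_lit 406] 15 4)) (.leaf (Rule.fwd [nat_lit 274, nat_lit 362, nat_lit 274] 80 1))) (.node (nat_lit 1) (.leaf (Rule.fwd [nat_lit 494, nat_lit 362, nat_lit 274, nat_lit 494] 107 2)) (.leaf (Rule.fwd [nat_lit 582, nat_lit 362, nat_lit 582, nat_lit 230] 170 4)))) (.node (nat_lit 2) (.node (nat_lit 1) (.leaf (Rule.fwd [nat_lit 230, nat_lit 362, nat_lit 230] 74 1))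 (.leaf (Rule.fwd [nat_lit 582, nat_lit 362, nat_lit 230, nat_lit 582] 171 2))) (.node (nat_lit 1) (.leaf (Rule.fwd [nat_lit 494, nat_lit 362, nat_lit 494, nat_lit 274] 106 4)) (.leaf (Rule.fwd [nat_lit 54, nat_lit 274, nat_lit 54, nat_lit 274] 26 4))))) (.node (nat_lit 4) (.node (nat_lit 2) (.node (nat_lit 1) (.leaf (Rule.fwd [nat_lit 142, nat_lit 54, nat_lit 450, nat_lit 142, nat_lit 450] 139 0)) (.leaf (Rule.fwd [nat_lit 142, nat_lit 230, nat_lit 142, nat_lit 230] 50 4))) (.node (nat_lit 1) (.leaf (Rule.fwd [nat_lit 318, nat_lit 362, nat_lit 318] 84 1)) (.leaf (Rule.fwd [nat_lit 450, nat_lit 406, nat_lit 450, nat_lit 406] 151 4)))) (.node (nat_lit 2) (.node (nat_lit 1) (.leaf (Rule.fwd [nat_lit 230, nat_lit 142, nat_lit 230, nat_lit 142] 51 0)) (.leaf (Rule.fwd [nat_lit 450, nat_lit 274, nat_lit 450, nat_lit 230, nat_lit 274] 144 5))) (.node (nat_lit 1) (.leaf (Rule.fwd [nat_lit 274, nat_lit 54, nat_lit 274, nat_lit 54] 27 0)) (.leaf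 (Rule.fwd [nat_lit 406, nat_lit 10, nat_lit 362, nat_lit 10] 14 3))))))) (.node (nat_lit 4) (.node (nat_lit 2) (.node (nat_lit 1) (.leaf (Rule.fwd [nat_lit 10, nat_lit 406, nat_lit 362, nat_lit 10] 15 2)) (.leaf (Rule.fwd [nat_lit 274, nat_lit 494, nat_lit 362, nat_lit 494] 107 0))) (.node (nat_lit 1) (.leaf (Rule.fwd [nat_lit 274, nat_lit 230, nat_lit 450, nat_lit 274, nat_lit 450] 145 0)) (.leaf (Rule.fwd [nat_lit 230, nat_lit 582, nat_lit 362, nat_lit 582] 171 0)))) (.node (nat_lit 2) (.node (nat_lit 1) (.leaf (Rule.fwd [nat_lit 538, nat_lit 450, nat_lit 538, nat_lit 450] 152 3)) (.leaf (Rule.fwd [nat_lit 406, nat_lit 450, nat_lit 406, nat_lit 450] 150 3))) (.node (nat_lit 1) (.leaf (Rule.fwd [nat_lit 406, nat_lit 362, nat_lit 406] 88 0)) (.leaf (Rule.fwd [nat_lit 318, nat_lit 98, nat_lit 54, nat_lit 582, nat_lit 450, nat_lit 582, nat_lit 450, nat_lit 406] 177 8)))))), (.node (nat_lit 32) (.node (nat_lit 16) (.node (nat_lit 8) (.node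 (nat_lit 4) (.node (nat_lit 2) (.node (nat_lit 1) (.leaf XRule.defn) (.leaf XRule.ax)) (.node (nat_lit 1) (.leaf (XRule.rot (nat_lit 564505114) [538, 362, 538] 126 1)) (.leaf (XRule.rot (nat_lit 530808326638) [494, 274, 362, 494] 106 1)))) (.node (nat_lit 2) (.node (nat_lit 1) (.leaf (XRule.rot (nat_lit 56993846) [54, 362, 54] 30 1)) (.leaf (XRule.rot (nat_lit 472230338) [450, 362, 450] 148 1))) (.node (nat_lit 1) (.leaf (XRule.rot (nat_lit 103131234) [98, 362, 98] 44 1)) (.leaf (XRule.rot (nat_lit 149268622) [142, 362, 142] 56 1))))) (.node (nat_lit 4) (.node (nat_lit 2) (.node (nat_lit 1) (.leaf (XRule.rot (nat_lit 362) [362] 210 0)) (.leaf (XRule.rot (nat_lit 333818174) [318, 362, 318] 84 1))) (.node (nat_lit 1) (.leaf (XRule.rot (nat_lit 11163510794) [10, 362, 406, 10] 14 1)) (.leaf (XRule.rot (nat_lit 241543398) [230, 362, 230] 74 1)))) (.node (nat_lit 2) (.node (nat_lit 1) (.leaf (XRule.rot (nat_lit 287680786) [274, 362, 274] 80 1))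 (.leaf (XRule.rot (nat_lit 625297562182) [582, 230, 362, 582] 170 1))) (.node (nat_lit 1) (.leaf (XRule.rot (nat_lit 105698658754) [450, 98, 450, 98] 136 4)) (.leaf (XRule.rot (nat_lit 152712657126) [230, 142, 230, 142] 51 0)))))) (.node (nat_lit 8) (.node (nat_lit 4) (.node (nat_lit 2) (.node (nat_lit 1) (.leaf (XRule.rot (nat_lit 625159285318) [582, 362, 230, 582] 171 2)) (.leaf (XRule.rot (nat_lit 294723627502) [494, 362, 494, 274] 106 4))) (.node (nat_lit 1) (.leaf (XRule.rot (nat_lit 195406010) [186, 362, 186] 66 1)) (.leaf (XRule.rot (nat_lit 435950037002) [10, 362, 10, 406] 15 4)))) (.node (nat_lit 2) (.node (nat_lit 1) (.leaf (XRule.rot (nat_lit 58269423890) [274, 54, 274, 54] 27 0)) (.leaf (XRule.rot (nat_lit 530808551698) [274, 494, 362, 494] 107 0))) (.node (nat_lit 1) (.leaf (XRule.rot (nat_lit 247109752974) [142, 230, 142, 230] 50 4)) (.leaf (XRule.rot (nat_lit 625297922278) [230, 582, 362, 582] 171 0))))) (.node (nat_lit 4)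 (.node (nat_lit 2) (.node (nat_lit 1) (.leaf (XRule.rot (nat_lit 426092950) [406, 362, 406] 88 0)) (.leaf (XRule.rot (nat_lit 247571262022) [582, 362, 582, 230] 170 4))) (.node (nat_lit 1) (.leaf (XRule.rot (nat_lit 483287042146) [98, 450, 98, 450] 137 0)) (.leaf (XRule.rot (nat_lit 11117418506) [10, 406, 362, 10] 15 2)))) (.node (nat_lit 2) (.node (nat_lit 1) (.leaf (XRule.rot (nat_lit 294262163510) [54, 274, 54, 274] 26 4)) (.leaf (XRule.rot (nat_lit 156189105207746) [450, 142, 450, 54, 142] 138 5))) (.node (nat_lit 1) (.leaf (XRule.rot (nat_lit 301513618770370) [450, 274, 450, 230, 274] 144 5)) (.leaf (XRule.rot (nat_lit 11117013398) [406, 10, 362, 10] 14 3))))))) (.node (nat_lit 4) (.node (nat_lit 2) (.node (nat_lit 1) (.leaf (XRule.rot (nat_lit 483610003862) [406, 450, 406, 450] 150 3)) (.leaf (XRule.rot (nat_lit 530716142062) [494, 362, 274, 494] 107 2))) (.node (nat_lit 1) (.leaf (XRule.rot (nat_lit 495074909853970) [274, 230, 450,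 274, 450] 145 0)) (.leaf (XRule.rot (nat_lit 436411455938) [450, 406, 450, 406] 151 4)))) (.node (nat_lit 1) (.leaf (XRule.rot (nat_lit 483748416026) [538, 450, 538, 450] 152 3)) (.leaf (XRule.rot (nat_lit 494933175752846) [142, 54, 450, 142, 450] 139 0)))))⟩
noncomputable def ci406 : CI := ⟨[9], (nat_lit 406), true, (.node (nat_lit 16) (.node (nat_lit 8) (.node (nat_lit 4) (.node (nat_lit 2) (.node (nat_lit 1) (.leaf Rule.defn) (.leaf Rule.copy)) (.node (nat_lit 1) (.leaf (Rule.fwd [nat_lit 406] 210 0)) (.leaf (Rule.fwd [nat_lit 494, nat_lit 406, nat_lit 494] 108 1)))) (.node (nat_lit 2) (.node (nat_lit 1) (.leaf (Rule.fwd [nat_lit 54, nat_lit 406, nat_lit 54] 32 1)) (.leaf (Rule.fwd [nat_lit 450, nat_lit 362, nat_lit 406, nat_lit 450] 150 1))) (.node (nat_lit 1) (.leaf (Rule.fwd [nat_lit 538, nat_lit 406, nat_lit 538] 128 1)) (.leaf (Rule.fwd [nat_lit 10, nat_lit 406, nat_lit 10] 16 1))))) (.node (nat_lit 4) (.node (nat_lit 2) (.node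 (nat_lit 1) (.leaf (Rule.fwd [nat_lit 98, nat_lit 406, nat_lit 98] 46 1)) (.leaf (Rule.fwd [nat_lit 582, nat_lit 318, nat_lit 406, nat_lit 582] 172 1))) (.node (nat_lit 1) (.leaf (Rule.fwd [nat_lit 186, nat_lit 406, nat_lit 186] 68 1)) (.leaf (Rule.fwd [nat_lit 142, nat_lit 406, nat_lit 142] 58 1)))) (.node (nat_lit 2) (.node (nat_lit 1) (.leaf (Rule.fwd [nat_lit 230, nat_lit 406, nat_lit 230] 76 1)) (.leaf (Rule.fwd [nat_lit 274, nat_lit 406, nat_lit 274] 82 1))) (.node (nat_lit 1) (.leaf (Rule.fwd [nat_lit 274, nat_lit 186, nat_lit 274, nat_lit 186] 63 0)) (.leaf (Rule.fwd [nat_lit 186, nat_lit 274, nat_lit 186, nat_lit 274] 62 4)))))) (.node (nat_lit 8) (.node (nat_lit 4) (.node (nat_lit 2) (.node (nat_lit 1) (.leaf (Rule.fwd [nat_lit 582, nat_lit 406, nat_lit 582, nat_lit 318] 172 4)) (.leaf (Rule.fwd [nat_lit 362, nat_lit 406, nat_lit 362] 88 1))) (.node (nat_lit 1) (.leaf (Rule.fwd [nat_lit 450, nat_lit 406, nat_lit 450, nat_lit 362]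 150 4)) (.leaf (Rule.fwd [nat_lit 318, nat_lit 406, nat_lit 318] 86 1)))) (.node (nat_lit 2) (.node (nat_lit 1) (.leaf (Rule.fwd [nat_lit 318, nat_lit 142, nat_lit 318, nat_lit 142] 55 0)) (.leaf (Rule.fwd [nat_lit 362, nat_lit 10, nat_lit 362, nat_lit 10] 15 0))) (.node (nat_lit 1) (.leaf (Rule.fwd [nat_lit 450, nat_lit 406, nat_lit 362, nat_lit 450] 151 2)) (.leaf (Rule.fwd [nat_lit 362, nat_lit 450, nat_lit 406, nat_lit 450] 151 0))))) (.node (nat_lit 2) (.node (nat_lit 1) (.leaf (Rule.fwd [nat_lit 142, nat_lit 318, nat_lit 142, nat_lit 318] 54 4)) (.leaf (Rule.fwd [nat_lit 582, nat_lit 406, nat_lit 318, nat_lit 582] 173 2))) (.node (nat_lit 1) (.leaf (Rule.fwd [nat_lit 10, nat_lit 362, nat_lit 10, nat_lit 362] 14 4)) (.leaf (Rule.fwd [nat_lit 318, nat_lit 582, nat_lit 406, nat_lit 582] 173 0)))))), (.node (nat_lit 16) (.node (nat_lit 8) (.node (nat_lit 4) (.node (nat_lit 2) (.node (nat_lit 1) (.leaf XRule.defn) (.leaf XRule.ax)) (.node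 (nat_lit 1) (.leaf (XRule.rot (nat_lit 564550170) [538, 406, 538] 128 1)) (.leaf (XRule.rot (nat_lit 518412782) [494, 406, 494] 108 1)))) (.node (nat_lit 2) (.node (nat_lit 1) (.leaf (XRule.rot (nat_lit 10901514) [10, 406, 10] 16 1)) (.leaf (XRule.rot (nat_lit 149313678) [142, 406, 142] 58 1))) (.node (nat_lit 1) (.leaf (XRule.rot (nat_lit 195451066) [186, 406, 186] 68 1)) (.leaf (XRule.rot (nat_lit 483609913794) [450, 362, 406, 450] 150 1))))) (.node (nat_lit 4) (.node (nat_lit 2) (.node (nat_lit 1) (.leaf (XRule.rot (nat_lit 406) [406] 210 0)) (.leaf (XRule.rot (nat_lit 625343789638) [582, 318, 406, 582] 172 1))) (.node (nat_lit 1) (.leaf (XRule.rot (nat_lit 57038902) [54, 406, 54] 32 1)) (.leaf (XRule.rot (nat_lit 333863230) [318, 406, 318] 86 1)))) (.node (nat_lit 2) (.node (nat_lit 1) (.leaf (XRule.rot (nat_lit 287725842) [274, 406, 274] 82 1)) (.leaf (XRule.rot (nat_lit 625251605062) [582, 406, 318, 582] 173 2))) (.node (nat_lit 1)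 (.leaf (XRule.rot (nat_lit 103176290) [98, 406, 98] 46 1)) (.leaf (XRule.rot (nat_lit 342060587590) [582, 406, 582, 318] 172 4)))))) (.node (nat_lit 8) (.node (nat_lit 4) (.node (nat_lit 2) (.node (nat_lit 1) (.leaf (XRule.rot (nat_lit 241588454) [230, 406, 230] 76 1)) (.leaf (XRule.rot (nat_lit 380000618) [362, 406, 362] 88 1))) (.node (nat_lit 1) (.leaf (XRule.rot (nat_lit 483610003818) [362, 450, 406, 450] 151 0)) (.leaf (XRule.rot (nat_lit 388705396746) [10, 362, 10, 362] 14 4)))) (.node (nat_lit 2) (.node (nat_lit 1) (.leaf (XRule.rot (nat_lit 625344059710) [318, 582, 406, 582] 173 0)) (.leaf (XRule.rot (nat_lit 341599123598) [142, 318, 142, 318] 54 4))) (.node (nat_lit 1) (.leaf (XRule.rot (nat_lit 389166815682) [450, 406, 450, 362] 150 4)) (.leaf (XRule.rot (nat_lit 483563821506) [450, 406, 362, 450] 151 2))))) (.node (nat_lit 2) (.node (nat_lit 1) (.leaf (XRule.rot (nat_lit 152804931902) [318, 142, 318, 142] 55 0)) (.leaf (XRule.rot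 (nat_lit 294400575674) [186, 274, 186, 274] 62 4))) (.node (nat_lit 1) (.leaf (XRule.rot (nat_lit 200003479826) [274, 186, 274, 186] 63 0)) (.leaf (XRule.rot (nat_lit 11117013354) [362, 10, 362, 10] 15 0))))))⟩
noncomputable def ci450 : CI := ⟨[10], (nat_lit 450), true, (.node (nat_lit 32) (.node (nat_lit 16) (.node (nat_lit 8) (.node (nat_lit 4) (.node (nat_lit 2) (.node (nat_lit 1) (.leaf Rule.defn) (.leaf Rule.copy)) (.node (nat_lit 1) (.leaf (Rule.fwd [nat_lit 450] 210 0)) (.leaf (Rule.fwd [nat_lit 538, nat_lit 450, nat_lit 362, nat_lit 538] 152 0)))) (.node (nat_lit 2) (.node (nat_lit 1) (.leaf (Rule.fwd [nat_lit 10, nat_lit 450, nat_lit 10, nat_lit 450, nat_lit 10] 132 1)) (.leaf (Rule.fwd [nat_lit 98, nat_lit 362, nat_lit 450, nat_lit 98] 136 2))) (.node (nat_lit 1) (.leaf (Rule.fwd [nat_lit 362, nat_lit 538, nat_lit 450, nat_lit 538] 152 2)) (.leaf (Rule.fwd [nat_lit 538, nat_lit 362, nat_lit 450, nat_lit 538] 153 1))))) (.node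 (nat_lit 4) (.node (nat_lit 2) (.node (nat_lit 1) (.leaf (Rule.fwd [nat_lit 186, nat_lit 450, nat_lit 54, nat_lit 186] 140 0)) (.leaf (Rule.fwd [nat_lit 98, nat_lit 450, nat_lit 98, nat_lit 362] 136 0))) (.node (nat_lit 1) (.leaf (Rule.fwd [nat_lit 318, nat_lit 450, nat_lit 230, nat_lit 318] 146 0)) (.leaf (Rule.fwd [nat_lit 142, nat_lit 450, nat_lit 54, nat_lit 142, nat_lit 362] 138 0)))) (.node (nat_lit 2) (.node (nat_lit 1) (.leaf (Rule.fwd [nat_lit 54, nat_lit 186, nat_lit 450, nat_lit 186] 140 2)) (.leaf (Rule.fwd [nat_lit 274, nat_lit 450, nat_lit 362, nat_lit 274, nat_lit 230] 145 3))) (.node (nat_lit 1) (.leaf (Rule.fwd [nat_lit 98, nat_lit 450, nat_lit 362, nat_lit 98] 137 3)) (.leaf (Rule.fwd [nat_lit 142, nat_lit 450, nat_lit 362, nat_lit 142, nat_lit 54] 139 3)))))) (.node (nat_lit 8) (.node (nat_lit 4) (.node (nat_lit 2) (.node (nat_lit 1) (.leaf (Rule.fwd [nat_lit 230, nat_lit 450, nat_lit 230] 142 0)) (.leaf (Rule.fwd [nat_lit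 230, nat_lit 318, nat_lit 450, nat_lit 318] 146 2))) (.node (nat_lit 1) (.leaf (Rule.fwd [nat_lit 362, nat_lit 142, nat_lit 54, nat_lit 450, nat_lit 142] 139 1)) (.leaf (Rule.fwd [nat_lit 186, nat_lit 54, nat_lit 450, nat_lit 186] 141 1)))) (.node (nat_lit 2) (.node (nat_lit 1) (.leaf (Rule.fwd [nat_lit 54, nat_lit 142, nat_lit 362, nat_lit 450, nat_lit 142] 138 2)) (.leaf (Rule.fwd [nat_lit 230, nat_lit 274, nat_lit 362, nat_lit 450, nat_lit 274] 144 2))) (.node (nat_lit 1) (.leaf (Rule.fwd [nat_lit 274, nat_lit 450, nat_lit 230, nat_lit 274, nat_lit 362] 144 0)) (.leaf (Rule.fwd [nat_lit 54, nat_lit 450, nat_lit 54] 134 0))))) (.node (nat_lit 4) (.node (nat_lit 2) (.node (nat_lit 1) (.leaf (Rule.fwd [nat_lit 362, nat_lit 450, nat_lit 362] 148 0)) (.leaf (Rule.fwd [nat_lit 318, nat_lit 450, nat_lit 318, nat_lit 230] 147 3))) (.node (nat_lit 1) (.leaf (Rule.fwd [nat_lit 186, nat_lit 450, nat_lit 186, nat_lit 54] 141 3)) (.leaf (Rule.fwd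 [nat_lit 406, nat_lit 450, nat_lit 362, nat_lit 406] 150 0)))) (.node (nat_lit 2) (.node (nat_lit 1) (.leaf (Rule.fwd [nat_lit 362, nat_lit 98, nat_lit 450, nat_lit 98] 137 1)) (.leaf (Rule.fwd [nat_lit 362, nat_lit 406, nat_lit 450, nat_lit 406] 150 2))) (.node (nat_lit 1) (.leaf (Rule.fwd [nat_lit 362, nat_lit 274, nat_lit 230, nat_lit 450, nat_lit 274] 145 1)) (.leaf (Rule.fwd [nat_lit 538, nat_lit 450, nat_lit 538, nat_lit 362] 153 3))))))) (.node (nat_lit 8) (.node (nat_lit 4) (.node (nat_lit 2) (.node (nat_lit 1) (.leaf (Rule.fwd [nat_lit 318, nat_lit 230, nat_lit 450, nat_lit 318] 147 1)) (.leaf (Rule.fwd [nat_lit 406, nat_lit 362, nat_lit 450, nat_lit 406] 151 1))) (.node (nat_lit 1) (.leaf (Rule.fwd [nat_lit 406, nat_lit 450, nat_lit 406, nat_lit 362] 151 3)) (.leaf (Rule.fwd [nat_lit 582, nat_lit 450, nat_lit 406, nat_lit 362, nat_lit 318, nat_lit 98, nat_lit 54, nat_lit 582] 177 3)))) (.node (nat_lit 2) (.node (nat_lit 1) (.leaf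 (Rule.fwd [nat_lit 582, nat_lit 54, nat_lit 98, nat_lit 318, nat_lit 362, nat_lit 406, nat_lit 450, nat_lit 582] 176 2)) (.leaf (Rule.fwd [nat_lit 582, nat_lit 450, nat_lit 582, nat_lit 54, nat_lit 98, nat_lit 318, nat_lit 362, nat_lit 406] 176 0))) (.node (nat_lit 1) (.leaf (Rule.fwd [nat_lit 406, nat_lit 362, nat_lit 318, nat_lit 98, nat_lit 54, nat_lit 582, nat_lit 450, nat_lit 582] 177 1)) (.leaf (Rule.fwd [nat_lit 274, nat_lit 318, nat_lit 362, nat_lit 406, nat_lit 582, nat_lit 10, nat_lit 274, nat_lit 494, nat_lit 450, nat_lit 274, nat_lit 318, nat_lit 362, nat_lit 494, nat_lit 142, nat_lit 450, nat_lit 274, nat_lit 318, nat_lit 362, nat_lit 406, nat_lit 582, nat_lit 10, nat_lit 274, nat_lit 494, nat_lit 450, nat_lit 274, nat_lit 318, nat_lit 362, nat_lit 494, nat_lit 142] 200 9))))) (.node (nat_lit 4) (.node (nat_lit 2) (.node (nat_lit 1) (.leaf (Rule.fwd [nat_lit 406, nat_lit 362, nat_lit 318, nat_lit 186, nat_lit 582, nat_lit 10,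 nat_lit 538, nat_lit 362, nat_lit 318, nat_lit 186, nat_lit 582, nat_lit 538, nat_lit 186, nat_lit 142, nat_lit 450, nat_lit 406, nat_lit 362, nat_lit 318, nat_lit 186, nat_lit 582, nat_lit 10, nat_lit 538, nat_lit 362, nat_lit 318, nat_lit 186, nat_lit 582, nat_lit 538, nat_lit 186, nat_lit 142] 185 0)) (.leaf (Rule.fwd [nat_lit 274, nat_lit 318, nat_lit 362, nat_lit 494, nat_lit 142, nat_lit 450, nat_lit 274, nat_lit 318, nat_lit 362, nat_lit 406, nat_lit 582, nat_lit 10, nat_lit 274, nat_lit 494, nat_lit 450, nat_lit 274, nat_lit 318, nat_lit 362, nat_lit 494, nat_lit 142, nat_lit 450, nat_lit 274, nat_lit 318, nat_lit 362, nat_lit 406, nat_lit 582, nat_lit 10, nat_lit 274, nat_lit 494] 200 3))) (.node (nat_lit 1) (.leaf (Rule.fwd [nat_lit 142, nat_lit 494, nat_lit 362, nat_lit 318, nat_lit 274, nat_lit 450, nat_lit 494, nat_lit 274, nat_lit 10, nat_lit 582, nat_lit 406, nat_lit 362, nat_lit 318, nat_lit 274, nat_lit 450, nat_lit 142,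 nat_lit 494, nat_lit 362, nat_lit 318, nat_lit 274, nat_lit 450, nat_lit 494, nat_lit 274, nat_lit 10, nat_lit 582, nat_lit 406, nat_lit 362, nat_lit 318, nat_lit 274] 201 10)) (.leaf (Rule.fwd [nat_lit 494, nat_lit 274, nat_lit 10, nat_lit 582, nat_lit 406, nat_lit 362, nat_lit 318, nat_lit 274, nat_lit 450, nat_lit 142, nat_lit 494, nat_lit 362, nat_lit 318, nat_lit 274, nat_lit 450, nat_lit 494, nat_lit 274, nat_lit 10, nat_lit 582, nat_lit 406, nat_lit 362, nat_lit 318, nat_lit 274, nat_lit 450, nat_lit 142, nat_lit 494, nat_lit 362, nat_lit 318, nat_lit 274] 201 4)))) (.node (nat_lit 1) (.leaf (Rule.fwd [nat_lit 142, nat_lit 406, nat_lit 362, nat_lit 318, nat_lit 274, nat_lit 450, nat_lit 494, nat_lit 406, nat_lit 142, nat_lit 494, nat_lit 54, nat_lit 406, nat_lit 362, nat_lit 318, nat_lit 274] 203 12)) (.leaf (Rule.fwd [nat_lit 494, nat_lit 362, nat_lit 318, nat_lit 274, nat_lit 450, nat_lit 494, nat_lit 362, nat_lit 318, nat_lit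 274, nat_lit 450, nat_lit 494, nat_lit 362, nat_lit 318, nat_lit 274, nat_lit 450, nat_lit 494, nat_lit 362, nat_lit 318, nat_lit 274, nat_lit 450, nat_lit 494, nat_lit 362, nat_lit 318, nat_lit 274] 195 2)))))), (.node (nat_lit 32) (.node (nat_lit 16) (.node (nat_lit 8) (.node (nat_lit 4) (.node (nat_lit 2) (.node (nat_lit 1) (.leaf XRule.defn) (.leaf XRule.ax)) (.node (nat_lit 1) (.leaf (XRule.rot (nat_lit 11478311045130) [10, 450, 10, 450, 10] 132 1)) (.leaf (XRule.rot (nat_lit 578145511786) [362, 538, 450, 538] 152 2)))) (.node (nat_lit 2) (.node (nat_lit 1) (.leaf (XRule.rot (nat_lit 578053147162) [538, 450, 362, 538] 152 0)) (.leaf (XRule.rot (nat_lit 105698928738) [98, 362, 450, 98] 136 2))) (.node (nat_lit 1) (.leaf (XRule.rot (nat_lit 200188028982) [54, 186, 450, 186] 140 2)) (.leaf (XRule.rot (nat_lit 57083958) [54, 450, 54] 134 0))))) (.node (nat_lit 4) (.node (nat_lit 2) (.node (nat_lit 1) (.leaf (XRule.rot (nat_lit 450) [450]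 210 0)) (.leaf (XRule.rot (nat_lit 156614214694966) [54, 142, 362, 450, 142] 138 2))) (.node (nat_lit 1) (.leaf (XRule.rot (nat_lit 341691533630) [318, 450, 230, 318] 146 0)) (.leaf (XRule.rot (nat_lit 341922085094) [230, 318, 450, 318] 146 2)))) (.node (nat_lit 2) (.node (nat_lit 1) (.leaf (XRule.rot (nat_lit 388797761634) [98, 450, 98, 362] 136 0)) (.leaf (XRule.rot (nat_lit 241633510) [230, 450, 230] 142 0))) (.node (nat_lit 1) (.leaf (XRule.rot (nat_lit 59526479284366) [142, 450, 362, 142, 54] 139 3)) (.leaf (XRule.rot (nat_lit 301749749696742) [230, 274, 362, 450, 274] 144 2)))))) (.node (nat_lit 8) (.node (nat_lit 4) (.node (nat_lit 2) (.node (nat_lit 1) (.leaf (XRule.rot (nat_lit 199773063354) [186, 450, 54, 186] 140 0)) (.leaf (XRule.rot (nat_lit 687623595448333399808582) [582, 54, 98, 318, 362, 406, 450, 582] 176 2))) (.node (nat_lit 1) (.leaf (XRule.rot (nat_lit 687166691707006837262918) [582, 450, 406, 362, 318, 98, 54, 582]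 177 3)) (.leaf (XRule.rot (nat_lit 380045674) [362, 450, 362] 148 0)))) (.node (nat_lit 2) (.node (nat_lit 1) (.leaf (XRule.rot (nat_lit 58177554618) [186, 450, 186, 54] 141 3)) (.leaf (XRule.rot (nat_lit 389259135514) [538, 450, 538, 362] 153 3))) (.node (nat_lit 1) (.leaf (XRule.rot (nat_lit 436411455850) [362, 406, 450, 406] 150 2)) (.leaf (XRule.rot (nat_lit 253182259693842) [274, 450, 362, 274, 230] 145 3))))) (.node (nat_lit 4) (.node (nat_lit 2) (.node (nat_lit 1) (.leaf (XRule.rot (nat_lit 301749611284842) [362, 274, 230, 450, 274] 145 1)) (.leaf (XRule.rot (nat_lit 436319226262) [406, 450, 362, 406] 150 0))) (.node (nat_lit 1) (.leaf (XRule.rot (nat_lit 156613891733866) [362, 142, 54, 450, 142] 139 1)) (.leaf (XRule.rot (nat_lit 247294527806) [318, 450, 318, 230] 147 3)))) (.node (nat_lit 2) (.node (nat_lit 1) (.leaf (XRule.rot (nat_lit 398317656148242) [274, 450, 230, 274, 362] 144 0)) (.leaf (XRule.rot (nat_lit 105698658666)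 [362, 98, 450, 98] 137 1))) (.node (nat_lit 1) (.leaf (XRule.rot (nat_lit 462212939610992671820129241370028722066049685095255357550372826925462) [406, 274, 10, 406, 362, 318, 274, 450, 406, 274, 10, 406, 362, 318, 274, 450, 494, 274, 10, 494, 362, 318, 274] 205 20)) (.leaf (XRule.rot (nat_lit 398175737677966) [142, 450, 54, 142, 362] 138 0))))))) (.node (nat_lit 8) (.node (nat_lit 4) (.node (nat_lit 2) (.node (nat_lit 1) (.leaf (XRule.rot (nat_lit 200187893946) [186, 54, 450, 186] 141 1)) (.leaf (XRule.rot (nat_lit 687623793267831430556054) [406, 362, 318, 98, 54, 582, 450, 582] 177 1))) (.node (nat_lit 1) (.leaf (XRule.rot (nat_lit 105606744162) [98, 450, 362, 98] 137 3)) (.leaf (XRule.rot (nat_lit 341921995070) [318, 230, 450, 318] 147 1)))) (.node (nat_lit 2) (.node (nat_lit 1) (.leaf (XRule.rot (nat_lit 389120723350) [406, 450, 406, 362] 151 3)) (.leaf (XRule.rot (nat_lit 532895237785292897917317015477323016577316373003002678403253981520956965939752080787950)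 [494, 274, 10, 582, 406, 362, 318, 274, 450, 142, 494, 362, 318, 274, 450, 494, 274, 10, 582, 406, 362, 318, 274, 450, 142, 494, 362, 318, 274] 201 4))) (.node (nat_lit 1) (.leaf (XRule.rot (nat_lit 578145331738) [538, 362, 450, 538] 153 1)) (.leaf (XRule.rot (nat_lit 689088315960205613220760151989866325921298706) [274, 318, 362, 406, 142, 450, 274, 318, 362, 406, 54, 494, 142, 406, 494] 202 5))))) (.node (nat_lit 4) (.node (nat_lit 2) (.node (nat_lit 1) (.leaf (XRule.rot (nat_lit 436411410838) [406, 362, 450, 406] 151 1)) (.leaf (XRule.rot (nat_lit 382333582403293524095027190914450300042893806) [494, 406, 142, 494, 54, 406, 362, 318, 274, 450, 142, 406, 362, 318, 274] 203 6))) (.node (nat_lit 1) (.leaf (XRule.rot (nat_lit 276796839909152936520569834715069468656199607792738009996499636630572132108634941618450) [274, 318, 362, 406, 582, 10, 274, 494, 450, 274, 318, 362, 494, 142, 450, 274, 318, 362, 406, 582, 10, 274, 494, 450, 274, 318,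 362, 494, 142] 200 9)) (.leaf (XRule.rot (nat_lit 479737913739917776063046) [582, 450, 582, 54, 98, 318, 362, 406] 176 0)))) (.leaf (XRule.rot (nat_lit 852976166333436094784285888474619792157647634386010563146944621018675474) [274, 318, 362, 494, 450, 274, 318, 362, 494, 450, 274, 318, 362, 494, 450, 274, 318, 362, 494, 450, 274, 318, 362, 494] 194 1)))))⟩
noncomputable def ci494 : CI := ⟨[11], (nat_lit 494), false, (.node (nat_lit 16) (.node (nat_lit 8) (.node (nat_lit 4) (.node (nat_lit 2) (.node (nat_lit 1) (.leaf Rule.defn) (.leaf Rule.copy)) (.node (nat_lit 1) (.leaf (Rule.fwd [nat_lit 494] 210 0)) (.leaf (Rule.fwd [nat_lit 54, nat_lit 494, nat_lit 54, nat_lit 494, nat_lit 54] 90 1)))) (.node (nat_lit 2) (.node (nat_lit 1) (.leaf (Rule.fwd [nat_lit 186, nat_lit 494, nat_lit 10, nat_lit 186] 98 0)) (.leaf (Rule.fwd [nat_lit 538, nat_lit 494, nat_lit 538, nat_lit 494, nat_lit 538, nat_lit 494, nat_lit 538] 130 0))) (.node (nat_lit 1)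 (.leaf (Rule.fwd [nat_lit 230, nat_lit 494, nat_lit 98, nat_lit 230] 100 0)) (.leaf (Rule.fwd [nat_lit 10, nat_lit 186, nat_lit 494, nat_lit 186] 98 2))))) (.node (nat_lit 4) (.node (nat_lit 2) (.node (nat_lit 1) (.leaf (Rule.fwd [nat_lit 582, nat_lit 318, nat_lit 494, nat_lit 582] 174 1)) (.leaf (Rule.fwd [nat_lit 186, nat_lit 494, nat_lit 186, nat_lit 10] 99 3))) (.node (nat_lit 1) (.leaf (Rule.fwd [nat_lit 362, nat_lit 494, nat_lit 274, nat_lit 362] 106 0)) (.leaf (Rule.fwd [nat_lit 98, nat_lit 494, nat_lit 98] 94 0)))) (.node (nat_lit 2) (.node (nat_lit 1) (.leaf (Rule.fwd [nat_lit 10, nat_lit 494, nat_lit 10] 92 0)) (.leaf (Rule.fwd [nat_lit 142, nat_lit 494, nat_lit 142] 96 0))) (.node (nat_lit 1) (.leaf (Rule.fwd [nat_lit 98, nat_lit 230, nat_lit 494, nat_lit 230] 100 2)) (.leaf (Rule.fwd [nat_lit 582, nat_lit 494, nat_lit 582, nat_lit 318] 174 4)))))) (.node (nat_lit 8) (.node (nat_lit 4) (.node (nat_lit 2) (.node (nat_lit 1) (.leaf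 (Rule.fwd [nat_lit 274, nat_lit 362, nat_lit 494, nat_lit 362] 106 2)) (.leaf (Rule.fwd [nat_lit 362, nat_lit 274, nat_lit 494, nat_lit 362] 107 1))) (.node (nat_lit 1) (.leaf (Rule.fwd [nat_lit 582, nat_lit 494, nat_lit 318, nat_lit 582] 175 2)) (.leaf (Rule.fwd [nat_lit 318, nat_lit 582, nat_lit 494, nat_lit 582] 175 0)))) (.node (nat_lit 2) (.node (nat_lit 1) (.leaf (Rule.fwd [nat_lit 318, nat_lit 494, nat_lit 318] 104 0)) (.leaf (Rule.fwd [nat_lit 274, nat_lit 494, nat_lit 274] 102 0))) (.node (nat_lit 1) (.leaf (Rule.fwd [nat_lit 230, nat_lit 98, nat_lit 494, nat_lit 230] 101 1)) (.leaf (Rule.fwd [nat_lit 186, nat_lit 10, nat_lit 494, nat_lit 186] 99 1))))) (.node (nat_lit 4) (.node (nat_lit 2) (.node (nat_lit 1) (.leaf (Rule.fwd [nat_lit 362, nat_lit 494, nat_lit 362, nat_lit 274] 107 3)) (.leaf (Rule.fwd [nat_lit 406, nat_lit 494, nat_lit 406] 108 0))) (.node (nat_lit 1) (.leaf (Rule.fwd [nat_lit 230, nat_lit 494, nat_lit 230, nat_lit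 98] 101 3)) (.leaf (Rule.fwd [nat_lit 450, nat_lit 274, nat_lit 318, nat_lit 362, nat_lit 494, nat_lit 450, nat_lit 274, nat_lit 318, nat_lit 362, nat_lit 494, nat_lit 450, nat_lit 274, nat_lit 318, nat_lit 362, nat_lit 494, nat_lit 450, nat_lit 274, nat_lit 318, nat_lit 362, nat_lit 494, nat_lit 450, nat_lit 274, nat_lit 318, nat_lit 362] 194 0)))) (.leaf (Rule.fwd [nat_lit 362, nat_lit 318, nat_lit 274, nat_lit 450, nat_lit 494, nat_lit 362, nat_lit 318, nat_lit 274, nat_lit 450, nat_lit 494, nat_lit 362, nat_lit 318, nat_lit 274, nat_lit 450, nat_lit 494, nat_lit 362, nat_lit 318, nat_lit 274, nat_lit 450, nat_lit 494, nat_lit 362, nat_lit 318, nat_lit 274, nat_lit 450] 195 1))))), (.node (nat_lit 32) (.node (nat_lit 16) (.node (nat_lit 8) (.node (nat_lit 4) (.node (nat_lit 2) (.node (nat_lit 1) (.leaf XRule.defn) (.leaf XRule.defn)) (.node (nat_lit 1) (.leaf (XRule.rot (nat_lit 59904113489974) [54, 494, 54, 494, 54] 90 1)) (.leaf (XRule.rot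 (nat_lit 620828556100712774170) [538, 494, 538, 494, 538, 494, 538] 130 0)))) (.node (nat_lit 2) (.node (nat_lit 1) (.leaf (XRule.rot (nat_lit 103266402) [98, 494, 98] 94 0)) (.leaf (XRule.rot (nat_lit 105468377318) [230, 494, 230, 98] 101 3))) (.node (nat_lit 1) (.leaf (XRule.rot (nat_lit 494) [494] 210 0)) (.leaf (XRule.rot (nat_lit 625436064326) [582, 318, 494, 582] 174 1))))) (.node (nat_lit 4) (.node (nat_lit 2) (.node (nat_lit 1) (.leaf (XRule.rot (nat_lit 199726971066) [186, 494, 10, 186] 98 0)) (.leaf (XRule.rot (nat_lit 10991626) [10, 494, 10] 92 0))) (.node (nat_lit 1) (.leaf (XRule.rot (nat_lit 149403790) [142, 494, 142] 96 0)) (.leaf (XRule.rot (nat_lit 200234166282) [10, 186, 494, 186] 98 2)))) (.node (nat_lit 2) (.node (nat_lit 1) (.leaf (XRule.rot (nat_lit 247063886054) [230, 494, 98, 230] 100 0)) (.leaf (XRule.rot (nat_lit 625436334398) [318, 582, 494, 582] 175 0))) (.node (nat_lit 1) (.leaf (XRule.rot (nat_lit 333953342)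 [318, 494, 318] 104 0)) (.leaf (XRule.rot (nat_lit 200233986234) [186, 10, 494, 186] 99 1)))))) (.node (nat_lit 8) (.node (nat_lit 4) (.node (nat_lit 2) (.node (nat_lit 1) (.leaf (XRule.rot (nat_lit 287815954) [274, 494, 274] 102 0)) (.leaf (XRule.rot (nat_lit 389212907794) [274, 362, 494, 362] 106 2))) (.node (nat_lit 1) (.leaf (XRule.rot (nat_lit 389212817770) [362, 274, 494, 362] 107 1)) (.leaf (XRule.rot (nat_lit 426228118) [406, 494, 406] 108 0)))) (.node (nat_lit 2) (.node (nat_lit 1) (.leaf (XRule.rot (nat_lit 247478851682) [98, 230, 494, 230] 100 2)) (.leaf (XRule.rot (nat_lit 388982356330) [362, 494, 274, 362] 106 0))) (.node (nat_lit 1) (.leaf (XRule.rot (nat_lit 342060677702) [582, 494, 582, 318] 174 4)) (.leaf (XRule.rot (nat_lit 10932959418) [186, 494, 186, 10] 99 3))))) (.node (nat_lit 4) (.node (nat_lit 2) (.node (nat_lit 1) (.leaf (XRule.rot (nat_lit 625251695174) [582, 494, 318, 582] 175 2)) (.leaf (XRule.rot (nat_lit 294585350506)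 [362, 494, 362, 274] 107 3))) (.node (nat_lit 1) (.leaf (XRule.rot (nat_lit 247478716646) [230, 98, 494, 230] 101 1)) (.leaf (XRule.rot (nat_lit 703849937186909974711929718866316296146686339544890095302352875776265453414314412542094) [142, 450, 274, 318, 362, 406, 582, 10, 274, 494, 450, 274, 318, 362, 494, 142, 450, 274, 318, 362, 406, 582, 10, 274, 494, 450, 274, 318, 362] 200 7)))) (.node (nat_lit 2) (.node (nat_lit 1) (.leaf (XRule.rot (nat_lit 627581831347739492187816126409362560226834838) [406, 142, 494, 54, 406, 362, 318, 274, 450, 142, 406, 362, 318, 274, 450] 203 5)) (.leaf (XRule.rot (nat_lit 776908676953550093056010795159480671241117022686116904619479101681760618) [362, 318, 274, 450, 494, 362, 318, 274, 450, 494, 362, 318, 274, 450, 494, 362, 318, 274, 450, 494, 362, 318, 274, 450] 195 1))) (.node (nat_lit 1) (.leaf (XRule.rot (nat_lit 532311326836881599093741297014977933653969575166966018011962651519193995636873330182594) [450,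 274, 318, 362, 494, 142, 450, 274, 318, 362, 406, 582, 10, 274, 494, 450, 274, 318, 362, 494, 142, 450, 274, 318, 362, 406, 582, 10, 274] 200 2)) (.leaf (XRule.rot (nat_lit 874721407007227782009380237968510581247459363093973529366443762098835987879394363320594) [274, 10, 582, 406, 362, 318, 274, 450, 142, 494, 362, 318, 274, 450, 494, 274, 10, 582, 406, 362, 318, 274, 450, 142, 494, 362, 318, 274, 450] 201 3))))))) (.leaf (XRule.rot (nat_lit 625144324916702244959784431008920350654132554719051350397828484569516482) [450, 274, 318, 362, 494, 450, 274, 318, 362, 494, 450, 274, 318, 362, 494, 450, 274, 318, 362, 494, 450, 274, 318, 362] 194 0)))⟩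
noncomputable def ci538 : CI := ⟨[12], (nat_lit 538), true, (.node (nat_lit 16) (.node (nat_lit 8) (.node (nat_lit 4) (.node (nat_lit 2) (.node (nat_lit 1) (.leaf Rule.defn) (.leaf Rule.copy)) (.node (nat_lit 1) (.leaf (Rule.fwd [nat_lit 538] 210 0)) (.leaf (Rule.fwd [nat_lit 98, nat_lit 538, nat_lit 98, nat_lit 538, nat_lit 98] 110 1)))) (.node (nat_lit 2) (.node (nat_lit 1) (.leaf (Rule.fwd [nat_lit 274, nat_lit 538, nat_lit 142, nat_lit 274] 122 0)) (.leaf (Rule.fwd [nat_lit 450, nat_lit 538, nat_lit 450, nat_lit 362] 152 4))) (.node (nat_lit 1) (.leaf (Rule.fwd [nat_lit 230, nat_lit 538, nat_lit 54, nat_lit 230] 120 0)) (.leaf (Rule.fwd [nat_lit 54, nat_lit 230, nat_lit 538, nat_lit 230] 120 2))))) (.node (nat_lit 4) (.node (nat_lit 2) (.node (nat_lit 1) (.leaf (Rule.fwd [nat_lit 318, nat_lit 538, nat_lit 186, nat_lit 318] 124 0)) (.leaf (Rule.fwd [nat_lit 142, nat_lit 274, nat_lit 538, nat_lit 274] 122 2))) (.node (nat_lit 1) (.leaf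 (Rule.fwd [nat_lit 10, nat_lit 538, nat_lit 10] 112 0)) (.leaf (Rule.fwd [nat_lit 186, nat_lit 538, nat_lit 186] 118 0)))) (.node (nat_lit 2) (.node (nat_lit 1) (.leaf (Rule.fwd [nat_lit 494, nat_lit 538, nat_lit 494, nat_lit 538, nat_lit 494, nat_lit 538, nat_lit 494] 130 1)) (.leaf (Rule.fwd [nat_lit 450, nat_lit 538, nat_lit 362, nat_lit 450] 153 2))) (.node (nat_lit 1) (.leaf (Rule.fwd [nat_lit 230, nat_lit 538, nat_lit 230, nat_lit 54] 121 3)) (.leaf (Rule.fwd [nat_lit 186, nat_lit 318, nat_lit 538, nat_lit 318] 124 2)))))) (.node (nat_lit 8) (.node (nat_lit 4) (.node (nat_lit 2) (.node (nat_lit 1) (.leaf (Rule.fwd [nat_lit 450, nat_lit 362, nat_lit 538, nat_lit 450] 152 1)) (.leaf (Rule.fwd [nat_lit 274, nat_lit 142, nat_lit 538, nat_lit 274] 123 1))) (.node (nat_lit 1) (.leaf (Rule.fwd [nat_lit 274, nat_lit 538, nat_lit 274, nat_lit 142] 123 3)) (.leaf (Rule.fwd [nat_lit 54, nat_lit 538, nat_lit 54] 114 0)))) (.node (nat_lit 2) (.node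 (nat_lit 1) (.leaf (Rule.fwd [nat_lit 362, nat_lit 538, nat_lit 362] 126 0)) (.leaf (Rule.fwd [nat_lit 142, nat_lit 538, nat_lit 142] 116 0))) (.node (nat_lit 1) (.leaf (Rule.fwd [nat_lit 318, nat_lit 538, nat_lit 318, nat_lit 186] 125 3)) (.leaf (Rule.fwd [nat_lit 318, nat_lit 186, nat_lit 538, nat_lit 318] 125 1))))) (.node (nat_lit 4) (.node (nat_lit 2) (.node (nat_lit 1) (.leaf (Rule.fwd [nat_lit 230, nat_lit 54, nat_lit 538, nat_lit 230] 121 1)) (.leaf (Rule.fwd [nat_lit 362, nat_lit 450, nat_lit 538, nat_lit 450] 153 0))) (.node (nat_lit 1) (.leaf (Rule.fwd [nat_lit 406, nat_lit 538, nat_lit 406] 128 0)) (.leaf (Rule.fwd [nat_lit 582, nat_lit 186, nat_lit 318, nat_lit 362, nat_lit 538, nat_lit 582, nat_lit 186, nat_lit 318, nat_lit 362, nat_lit 538, nat_lit 582, nat_lit 186, nat_lit 318, nat_lit 362, nat_lit 538, nat_lit 582, nat_lit 186, nat_lit 318, nat_lit 362, nat_lit 538, nat_lit 582, nat_lit 186, nat_lit 318, nat_lit 362] 178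 0)))) (.node (nat_lit 2) (.node (nat_lit 1) (.leaf (Rule.fwd [nat_lit 362, nat_lit 318, nat_lit 186, nat_lit 582, nat_lit 538, nat_lit 362, nat_lit 318, nat_lit 186, nat_lit 582, nat_lit 538, nat_lit 362, nat_lit 318, nat_lit 186, nat_lit 582, nat_lit 538, nat_lit 362, nat_lit 318, nat_lit 186, nat_lit 582, nat_lit 538, nat_lit 362, nat_lit 318, nat_lit 186, nat_lit 582] 179 1)) (.leaf (Rule.fwd [nat_lit 582, nat_lit 186, nat_lit 318, nat_lit 362, nat_lit 538, nat_lit 10, nat_lit 582, nat_lit 186, nat_lit 318, nat_lit 362, nat_lit 406, nat_lit 450, nat_lit 142, nat_lit 186, nat_lit 538, nat_lit 582, nat_lit 186, nat_lit 318, nat_lit 362, nat_lit 538, nat_lit 10, nat_lit 582, nat_lit 186, nat_lit 318, nat_lit 362, nat_lit 406, nat_lit 450, nat_lit 142, nat_lit 186] 184 2))) (.node (nat_lit 1) (.leaf (Rule.fwd [nat_lit 362, nat_lit 318, nat_lit 186, nat_lit 582, nat_lit 538, nat_lit 186, nat_lit 142, nat_lit 450, nat_lit 406, nat_lit 362,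 nat_lit 318, nat_lit 186, nat_lit 582, nat_lit 10, nat_lit 538, nat_lit 362, nat_lit 318, nat_lit 186, nat_lit 582, nat_lit 538, nat_lit 186, nat_lit 142, nat_lit 450, nat_lit 406, nat_lit 362, nat_lit 318, nat_lit 186, nat_lit 582, nat_lit 10] 185 8)) (.leaf (Rule.fwd [nat_lit 186, nat_lit 142, nat_lit 450, nat_lit 406, nat_lit 362, nat_lit 318, nat_lit 186, nat_lit 582, nat_lit 10, nat_lit 538, nat_lit 362, nat_lit 318, nat_lit 186, nat_lit 582, nat_lit 538, nat_lit 186, nat_lit 142, nat_lit 450, nat_lit 406, nat_lit 362, nat_lit 318, nat_lit 186, nat_lit 582, nat_lit 10, nat_lit 538, nat_lit 362, nat_lit 318, nat_lit 186, nat_lit 582] 185 3))))))), (.node (nat_lit 16) (.node (nat_lit 8) (.node (nat_lit 4) (.node (nat_lit 2) (.node (nat_lit 1) (.leaf XRule.defn) (.leaf XRule.ax)) (.node (nat_lit 1) (.leaf (XRule.rot (nat_lit 570149501162599508462) [494, 538, 494, 538, 494, 538, 494] 130 1)) (.leaf (XRule.rot (nat_lit 483748325826) [450,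 362, 538, 450] 152 1)))) (.node (nat_lit 2) (.node (nat_lit 1) (.leaf (XRule.rot (nat_lit 11036682) [10, 538, 10] 112 0)) (.leaf (XRule.rot (nat_lit 108329915934818) [98, 538, 98, 538, 98] 110 1))) (.node (nat_lit 1) (.leaf (XRule.rot (nat_lit 538) [538] 210 0)) (.leaf (XRule.rot (nat_lit 149448846) [142, 538, 142] 116 0))))) (.node (nat_lit 4) (.node (nat_lit 2) (.node (nat_lit 1) (.leaf (XRule.rot (nat_lit 341645486398) [318, 538, 186, 318] 124 0)) (.leaf (XRule.rot (nat_lit 342014359738) [186, 318, 538, 318] 124 2))) (.node (nat_lit 1) (.leaf (XRule.rot (nat_lit 247524988982) [54, 230, 538, 230] 120 2)) (.leaf (XRule.rot (nat_lit 294769674382) [142, 274, 538, 274] 122 2)))) (.node (nat_lit 2) (.node (nat_lit 1) (.leaf (XRule.rot (nat_lit 57174070) [54, 538, 54] 114 0)) (.leaf (XRule.rot (nat_lit 426273174) [406, 538, 406] 128 0))) (.node (nat_lit 1) (.leaf (XRule.rot (nat_lit 195586234) [186, 538, 186] 118 0)) (.leaf (XRule.rot (nat_lit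 380135786) [362, 538, 362] 126 0)))))) (.node (nat_lit 8) (.node (nat_lit 4) (.node (nat_lit 2) (.node (nat_lit 1) (.leaf (XRule.rot (nat_lit 58223782118) [230, 538, 230, 54] 121 3)) (.leaf (XRule.rot (nat_lit 247017793766) [230, 538, 54, 230] 120 0))) (.node (nat_lit 1) (.leaf (XRule.rot (nat_lit 483563956674) [450, 538, 362, 450] 153 2)) (.leaf (XRule.rot (nat_lit 483748415850) [362, 450, 538, 450] 153 0)))) (.node (nat_lit 2) (.node (nat_lit 1) (.leaf (XRule.rot (nat_lit 294354708754) [274, 538, 142, 274] 122 0)) (.leaf (XRule.rot (nat_lit 152759200018) [274, 538, 274, 142] 123 3))) (.node (nat_lit 1) (.leaf (XRule.rot (nat_lit 389166950850) [450, 538, 450, 362] 152 4)) (.leaf (XRule.rot (nat_lit 294769539346) [274, 142, 538, 274] 123 1))))) (.node (nat_lit 4) (.node (nat_lit 2) (.node (nat_lit 1) (.leaf (XRule.rot (nat_lit 1004518026691038619799288882335719677837220929703246472098188368181262698) [362, 318, 186, 582, 538, 362, 318,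 186, 582, 538, 362, 318, 186, 582, 538, 362, 318, 186, 582, 538, 362, 318, 186, 582] 179 1)) (.leaf (XRule.rot (nat_lit 342014224702) [318, 186, 538, 318] 125 1))) (.node (nat_lit 1) (.leaf (XRule.rot (nat_lit 247524808934) [230, 54, 538, 230] 121 1)) (.leaf (XRule.rot (nat_lit 313643906753998930057058183588742556907857928985916575615077612448326) [582, 186, 318, 362, 538, 142, 186, 538, 582, 186, 318, 362, 538, 142, 186, 538, 582, 186, 318, 362, 538, 142, 186] 182 2)))) (.node (nat_lit 2) (.node (nat_lit 1) (.leaf (XRule.rot (nat_lit 200049977662) [318, 538, 318, 186] 125 3)) (.leaf (XRule.rot (nat_lit 361606641930013444381009414404478557855645063615216706807633504723040464979079244999238) [582, 186, 318, 362, 538, 10, 582, 186, 318, 362, 406, 450, 142, 186, 538, 582, 186, 318, 362, 538, 10, 582, 186, 318, 362, 406, 450, 142, 186] 184 2))) (.node (nat_lit 1) (.leaf (XRule.rot (nat_lit 1130986752673175884514212628836442425330139319557665114157086014329617528788651442583738)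 [186, 142, 450, 406, 362, 318, 186, 582, 10, 538, 362, 318, 186, 582, 538, 186, 142, 450, 406, 362, 318, 186, 582, 10, 538, 362, 318, 186, 582] 185 3)) (.leaf (XRule.rot (nat_lit 625144180324486070654800267545510842391775306630320801111063045085522502) [582, 186, 318, 362, 538, 582, 186, 318, 362, 538, 582, 186, 318, 362, 538, 582, 186, 318, 362, 538, 582, 186, 318, 362] 178 0)))))))⟩
noncomputable def ci582 : CI := ⟨[13], (nat_lit 582), true, (.node (nat_lit 32) (.node (nat_lit 16) (.node (nat_lit 8) (.node (nat_lit 4) (.node (nat_lit 2) (.node (nat_lit 1) (.leaf Rule.defn) (.leaf Rule.copy)) (.node (nat_lit 1) (.leaf (Rule.fwd [nat_lit 582] 210 0)) (.leaf (Rule.fwd [nat_lit 318, nat_lit 494, nat_lit 582, nat_lit 494] 174 2)))) (.node (nat_lit 2) (.node (nat_lit 1) (.leaf (Rule.fwd [nat_lit 54, nat_lit 318, nat_lit 582, nat_lit 54] 158 2)) (.leaf (Rule.fwd [nat_lit 142, nat_lit 582, nat_lit 142, nat_lit 582, nat_lit 142] 154 1))) (.node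 (nat_lit 1) (.leaf (Rule.fwd [nat_lit 10, nat_lit 582, nat_lit 318, nat_lit 98, nat_lit 10] 157 3)) (.leaf (Rule.fwd [nat_lit 494, nat_lit 582, nat_lit 494, nat_lit 318] 175 3))))) (.node (nat_lit 4) (.node (nat_lit 2) (.node (nat_lit 1) (.leaf (Rule.fwd [nat_lit 10, nat_lit 582, nat_lit 10, nat_lit 98, nat_lit 318] 156 0)) (.leaf (Rule.fwd [nat_lit 54, nat_lit 582, nat_lit 54, nat_lit 318] 158 0))) (.node (nat_lit 1) (.leaf (Rule.fwd [nat_lit 10, nat_lit 98, nat_lit 318, nat_lit 582, nat_lit 10] 156 2)) (.leaf (Rule.fwd [nat_lit 186, nat_lit 230, nat_lit 318, nat_lit 582, nat_lit 186] 162 2)))) (.node (nat_lit 2) (.node (nat_lit 1) (.leaf (Rule.fwd [nat_lit 362, nat_lit 582, nat_lit 230, nat_lit 362] 170 0)) (.leaf (Rule.fwd [nat_lit 318, nat_lit 230, nat_lit 186, nat_lit 582, nat_lit 186] 163 1))) (.node (nat_lit 1) (.leaf (Rule.fwd [nat_lit 186, nat_lit 582, nat_lit 318, nat_lit 230, nat_lit 186] 163 3)) (.leaf (Rule.fwd [nat_lit 318,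 nat_lit 98, nat_lit 10, nat_lit 582, nat_lit 10] 157 1)))))) (.node (nat_lit 8) (.node (nat_lit 4) (.node (nat_lit 2) (.node (nat_lit 1) (.leaf (Rule.fwd [nat_lit 494, nat_lit 582, nat_lit 318, nat_lit 494] 174 0)) (.leaf (Rule.fwd [nat_lit 54, nat_lit 582, nat_lit 318, nat_lit 54] 159 3))) (.node (nat_lit 1) (.leaf (Rule.fwd [nat_lit 230, nat_lit 362, nat_lit 582, nat_lit 362] 170 2)) (.leaf (Rule.fwd [nat_lit 274, nat_lit 582, nat_lit 98, nat_lit 274] 166 0)))) (.node (nat_lit 2) (.node (nat_lit 1) (.leaf (Rule.fwd [nat_lit 230, nat_lit 582, nat_lit 230] 164 0)) (.leaf (Rule.fwd [nat_lit 186, nat_lit 582, nat_lit 186, nat_lit 230, nat_lit 318] 162 0))) (.node (nat_lit 1) (.leaf (Rule.fwd [nat_lit 274, nat_lit 582, nat_lit 274, nat_lit 98] 167 3)) (.leaf (Rule.fwd [nat_lit 406, nat_lit 582, nat_lit 318, nat_lit 406] 172 0))))) (.node (nat_lit 4) (.node (nat_lit 2) (.node (nat_lit 1) (.leaf (Rule.fwd [nat_lit 362, nat_lit 230, nat_lit 582,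 nat_lit 362] 171 1)) (.leaf (Rule.fwd [nat_lit 318, nat_lit 406, nat_lit 582, nat_lit 406] 172 2))) (.node (nat_lit 1) (.leaf (Rule.fwd [nat_lit 98, nat_lit 274, nat_lit 582, nat_lit 274] 166 2)) (.leaf (Rule.fwd [nat_lit 98, nat_lit 582, nat_lit 98] 160 0)))) (.node (nat_lit 2) (.node (nat_lit 1) (.leaf (Rule.fwd [nat_lit 318, nat_lit 54, nat_lit 582, nat_lit 54] 159 1)) (.leaf (Rule.fwd [nat_lit 362, nat_lit 582, nat_lit 362, nat_lit 230] 171 3))) (.node (nat_lit 1) (.leaf (Rule.fwd [nat_lit 494, nat_lit 318, nat_lit 582, nat_lit 494] 175 1)) (.leaf (Rule.fwd [nat_lit 318, nat_lit 582, nat_lit 318] 168 0))))))) (.node (nat_lit 8) (.node (nat_lit 4) (.node (nat_lit 2) (.node (nat_lit 1) (.leaf (Rule.fwd [nat_lit 274, nat_lit 98, nat_lit 582, nat_lit 274] 167 1)) (.leaf (Rule.fwd [nat_lit 406, nat_lit 318, nat_lit 582, nat_lit 406] 173 1))) (.node (nat_lit 1) (.leaf (Rule.fwd [nat_lit 406, nat_lit 582, nat_lit 406, nat_lit 318] 173 3))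 (.leaf (Rule.fwd [nat_lit 450, nat_lit 582, nat_lit 54, nat_lit 98, nat_lit 318, nat_lit 362, nat_lit 406, nat_lit 450] 176 1)))) (.node (nat_lit 2) (.node (nat_lit 1) (.leaf (Rule.fwd [nat_lit 450, nat_lit 406, nat_lit 362, nat_lit 318, nat_lit 98, nat_lit 54, nat_lit 582, nat_lit 450] 177 2)) (.leaf (Rule.fwd [nat_lit 450, nat_lit 582, nat_lit 450, nat_lit 406, nat_lit 362, nat_lit 318, nat_lit 98, nat_lit 54] 177 4))) (.node (nat_lit 1) (.leaf (Rule.fwd [nat_lit 54, nat_lit 98, nat_lit 318, nat_lit 362, nat_lit 406, nat_lit 450, nat_lit 582, nat_lit 450] 176 3)) (.leaf (Rule.fwd [nat_lit 186, nat_lit 318, nat_lit 362, nat_lit 406, nat_lit 450, nat_lit 142, nat_lit 186, nat_lit 538, nat_lit 582, nat_lit 186, nat_lit 318, nat_lit 362, nat_lit 538, nat_lit 10, nat_lit 582, nat_lit 186, nat_lit 318, nat_lit 362, nat_lit 406, nat_lit 450, nat_lit 142, nat_lit 186, nat_lit 538, nat_lit 582, nat_lit 186, nat_lit 318, nat_lit 362, nat_lit 538,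 nat_lit 10] 184 9))))) (.node (nat_lit 4) (.node (nat_lit 2) (.node (nat_lit 1) (.leaf (Rule.fwd [nat_lit 186, nat_lit 318, nat_lit 362, nat_lit 538, nat_lit 10, nat_lit 582, nat_lit 186, nat_lit 318, nat_lit 362, nat_lit 406, nat_lit 450, nat_lit 142, nat_lit 186, nat_lit 538, nat_lit 582, nat_lit 186, nat_lit 318, nat_lit 362, nat_lit 538, nat_lit 10, nat_lit 582, nat_lit 186, nat_lit 318, nat_lit 362, nat_lit 406, nat_lit 450, nat_lit 142, nat_lit 186, nat_lit 538] 184 3)) (.leaf (Rule.fwd [nat_lit 10, nat_lit 538, nat_lit 362, nat_lit 318, nat_lit 186, nat_lit 582, nat_lit 538, nat_lit 186, nat_lit 142, nat_lit 450, nat_lit 406, nat_lit 362, nat_lit 318, nat_lit 186, nat_lit 582, nat_lit 10, nat_lit 538, nat_lit 362, nat_lit 318, nat_lit 186, nat_lit 582, nat_lit 538, nat_lit 186, nat_lit 142, nat_lit 450, nat_lit 406, nat_lit 362, nat_lit 318, nat_lit 186] 185 10))) (.node (nat_lit 1) (.leaf (Rule.fwd [nat_lit 538, nat_lit 186, nat_lit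 142, nat_lit 450, nat_lit 406, nat_lit 362, nat_lit 318, nat_lit 186, nat_lit 582, nat_lit 10, nat_lit 538, nat_lit 362, nat_lit 318, nat_lit 186, nat_lit 582, nat_lit 538, nat_lit 186, nat_lit 142, nat_lit 450, nat_lit 406, nat_lit 362, nat_lit 318, nat_lit 186, nat_lit 582, nat_lit 10, nat_lit 538, nat_lit 362, nat_lit 318, nat_lit 186] 185 4)) (.leaf (Rule.fwd [nat_lit 186, nat_lit 318, nat_lit 362, nat_lit 538, nat_lit 582, nat_lit 186, nat_lit 318, nat_lit 362, nat_lit 538, nat_lit 582, nat_lit 186, nat_lit 318, nat_lit 362, nat_lit 538, nat_lit 582, nat_lit 186, nat_lit 318, nat_lit 362, nat_lit 538, nat_lit 582, nat_lit 186, nat_lit 318, nat_lit 362, nat_lit 538] 178 1)))) (.leaf (Rule.fwd [nat_lit 538, nat_lit 362, nat_lit 318, nat_lit 186, nat_lit 582, nat_lit 538, nat_lit 362, nat_lit 318, nat_lit 186, nat_lit 582, nat_lit 538, nat_lit 362, nat_lit 318, nat_lit 186, nat_lit 582, nat_lit 538, nat_lit 362, nat_lit 318, nat_lit 186,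 nat_lit 582, nat_lit 538, nat_lit 362, nat_lit 318, nat_lit 186] 179 2))))), (.node (nat_lit 32) (.node (nat_lit 16) (.node (nat_lit 8) (.node (nat_lit 4) (.node (nat_lit 2) (.node (nat_lit 1) (.leaf XRule.defn) (.leaf XRule.ax)) (.node (nat_lit 1) (.leaf (XRule.rot (nat_lit 531039238462) [318, 494, 582, 494] 174 2)) (.leaf (XRule.rot (nat_lit 436273224086) [406, 582, 318, 406] 172 0)))) (.node (nat_lit 2) (.node (nat_lit 1) (.leaf (XRule.rot (nat_lit 11620367566858) [10, 98, 318, 582, 10] 156 2)) (.leaf (XRule.rot (nat_lit 58592655414) [54, 318, 582, 54] 158 2))) (.node (nat_lit 1) (.leaf (XRule.rot (nat_lit 156755718379662) [142, 582, 142, 582, 142] 154 1)) (.leaf (XRule.rot (nat_lit 582) [582] 210 0))))) (.node (nat_lit 4) (.node (nat_lit 2) (.node (nat_lit 1) (.leaf (XRule.rot (nat_lit 349749935413258) [10, 582, 10, 98, 318] 156 0)) (.leaf (XRule.rot (nat_lit 530762504686) [494, 582, 318, 494] 174 0))) (.node (nat_lit 1) (.leaf (XRule.rot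 (nat_lit 531937736740265099626550) [54, 98, 318, 362, 406, 450, 582, 450] 176 3)) (.leaf (XRule.rot (nat_lit 341507119158) [54, 582, 54, 318] 158 0)))) (.node (nat_lit 2) (.node (nat_lit 1) (.leaf (XRule.rot (nat_lit 205134414190778) [186, 230, 318, 582, 186] 162 2)) (.leaf (XRule.rot (nat_lit 103356514) [98, 582, 98] 160 0))) (.node (nat_lit 1) (.leaf (XRule.rot (nat_lit 334043454) [318, 582, 318] 168 0)) (.leaf (XRule.rot (nat_lit 531734723379221724993986) [450, 582, 54, 98, 318, 362, 406, 450] 176 1)))))) (.node (nat_lit 8) (.node (nat_lit 4) (.node (nat_lit 2) (.node (nat_lit 1) (.leaf (XRule.rot (nat_lit 436549867838) [318, 406, 582, 406] 172 2)) (.leaf (XRule.rot (nat_lit 531937290545205210405314) [450, 406, 362, 318, 98, 54, 582, 450] 177 2))) (.node (nat_lit 1) (.leaf (XRule.rot (nat_lit 294815811682) [98, 274, 582, 274] 166 2)) (.leaf (XRule.rot (nat_lit 389305182438) [230, 362, 582, 362] 170 2)))) (.node (nat_lit 2) (.node (nat_lit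 1) (.leaf (XRule.rot (nat_lit 294308616466) [274, 582, 98, 274] 166 0)) (.leaf (XRule.rot (nat_lit 241768678) [230, 582, 230] 164 0))) (.node (nat_lit 1) (.leaf (XRule.rot (nat_lit 341968493038) [494, 582, 494, 318] 175 3)) (.leaf (XRule.rot (nat_lit 247340800362) [362, 582, 362, 230] 171 3))))) (.node (nat_lit 4) (.node (nat_lit 2) (.node (nat_lit 1) (.leaf (XRule.rot (nat_lit 341876218262) [406, 582, 406, 318] 173 3)) (.leaf (XRule.rot (nat_lit 11100677019658) [10, 582, 318, 98, 10] 157 3))) (.node (nat_lit 1) (.leaf (XRule.rot (nat_lit 63865292260821678234050) [450, 582, 450, 406, 362, 318, 98, 54] 177 4)) (.leaf (XRule.rot (nat_lit 388936309098) [362, 582, 230, 362] 170 0)))) (.node (nat_lit 2) (.node (nat_lit 1) (.leaf (XRule.rot (nat_lit 58316101686) [54, 582, 318, 54] 159 3)) (.leaf (XRule.rot (nat_lit 389305047402) [362, 230, 582, 362] 171 1))) (.node (nat_lit 1) (.leaf (XRule.rot (nat_lit 204756457429178) [186, 582, 318, 230, 186]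 163 3)) (.leaf (XRule.rot (nat_lit 436549777814) [406, 318, 582, 406] 173 1))))))) (.node (nat_lit 8) (.node (nat_lit 4) (.node (nat_lit 2) (.node (nat_lit 1) (.leaf (XRule.rot (nat_lit 58592385342) [318, 54, 582, 54] 159 1)) (.leaf (XRule.rot (nat_lit 105514604818) [274, 582, 274, 98] 167 3))) (.node (nat_lit 1) (.leaf (XRule.rot (nat_lit 349891853883578) [186, 582, 186, 230, 318] 162 0)) (.leaf (XRule.rot (nat_lit 361940375348802804823858242718127784200744170823590695455940466253040434401378964793882) [538, 186, 142, 450, 406, 362, 318, 186, 582, 10, 538, 362, 318, 186, 582, 538, 186, 142, 450, 406, 362, 318, 186, 582, 10, 538, 362, 318, 186] 185 4)))) (.node (nat_lit 2) (.node (nat_lit 1) (.leaf (XRule.rot (nat_lit 531039058414) [494, 318, 582, 494] 175 1)) (.leaf (XRule.rot (nat_lit 205134275778878) [318, 230, 186, 582, 186] 163 1))) (.node (nat_lit 1) (.leaf (XRule.rot (nat_lit 11620044605758) [318, 98, 10, 582, 10] 157 1)) (.leaf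 (XRule.rot (nat_lit 294815631634) [274, 98, 582, 274] 167 1))))) (.node (nat_lit 4) (.node (nat_lit 2) (.node (nat_lit 1) (.leaf (XRule.rot (nat_lit 1045508995503702018908948835377307545365270782792487797498716906033986599644483304093882) [186, 318, 362, 538, 10, 582, 186, 318, 362, 406, 450, 142, 186, 538, 582, 186, 318, 362, 538, 10, 582, 186, 318, 362, 406, 450, 142, 186, 538] 184 3)) (.leaf (XRule.rot (nat_lit 259679483811319266093002233334303389013608986) [538, 98, 538, 98, 538, 362, 318, 186, 582, 406, 98, 406, 362, 318, 186] 191 5))) (.node (nat_lit 1) (.leaf (XRule.rot (nat_lit 20448020189164268745141140753072929446754920807401462396217459119893589902371601053882) [186, 318, 362, 406, 450, 142, 186, 538, 582, 186, 318, 362, 538, 10, 582, 186, 318, 362, 406, 450, 142, 186, 538, 582, 186, 318, 362, 538, 10] 184 9)) (.leaf (XRule.rot (nat_lit 361940375110758274288660295983550507907764215126475380608390082506495906659546914383882) [10,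 538, 362, 318, 186, 582, 538, 186, 142, 450, 406, 362, 318, 186, 582, 10, 538, 362, 318, 186, 582, 538, 186, 142, 450, 406, 362, 318, 186] 185 10)))) (.leaf (XRule.rot (nat_lit 14491065906519822064815869974942224650401978) [186, 318, 362, 406, 98, 538, 10, 406, 538, 582, 186, 318, 362, 406, 10] 186 11)))))⟩
noncomputable def outer : Tr CI := (.node (nat_lit 4) (.node (nat_lit 8) (.node (nat_lit 64) (.node (nat_lit 2) (.leaf ci0) (.leaf ci274)) (.node (nat_lit 32) (.leaf ci450) (.leaf ci98))) (.node (nat_lit 16) (.node (nat_lit 32) (.leaf ci10) (.leaf ci362)) (.node (nat_lit 32) (.leaf ci538) (.leaf ci186)))) (.node (nat_lit 8) (.node (nat_lit 16) (.node (nat_lit 32) (.leaf ci582) (.leaf ci230)) (.node (nat_lit 32) (.leaf ci406) (.leaf ci54))) (.node (nat_lit 16) (.node (nat_lit 32) (.leaf ci142) (.leaf ci494)) (.leaf ci318))))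
def cols : List ℕ := [nat_lit 10, nat_lit 54, nat_lit 98, nat_lit 142, nat_lit 186, nat_lit 230, nat_lit 274, nat_lit 318, nat_lit 362, nat_lit 406, nat_lit 450, nat_lit 494, nat_lit 538, nat_lit 582]
def invL : List ℕ := [0, 1, 2, 3, 4, 5, 6, 7, 8, 9, 10, 11, 12, 13]
def rels : List (List ℕ) := [[0, 1, 0, 1, 4], [0, 2, 0, 2], [0, 3, 0, 3], [0, 4, 0, 4], [0, 5, 0, 5, 7], [0, 6, 0, 6], [0, 7, 0, 7], [0, 8, 0, 8, 9], [0, 9, 0, 9], [1, 2, 1, 2, 5], [1, 3, 1, 3], [1, 4, 1, 4], [1, 5, 1, 5], [1, 6, 1, 6, 8], [1, 7, 1, 7], [1, 8, 1, 8], [1, 9, 1, 9], [2, 3, 2, 3, 6], [2, 4, 2, 4, 7], [2, 5, 2, 5], [2, 6, 2, 6], [2, 7, 2, 7], [2, 8, 2, 8], [2, 9, 2, 9], [3, 4, 3, 4], [3, 5, 3, 5, 8], [3, 6, 3, 6], [3, 7, 3, 7, 9], [3, 8, 3, 8], [3, 9, 3, 9], [4, 5, 4, 5], [4, 6, 4, 6, 9], [4, 7, 4, 7], [4, 8, 4, 8], [4, 9, 4, 9], [5, 6, 5, 6], [5, 7, 5, 7], [5, 8, 5, 8], [5, 9, 5, 9], [6, 7, 6, 7], [6, 8, 6, 8], [6, 9, 6, 9], [7, 8, 7, 8], [7, 9, 7, 9], [8, 9,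 8, 9], [1, 11, 1, 11, 1, 11], [11, 0, 11, 0], [11, 2, 11, 2], [11, 3, 11, 3], [11, 4, 11, 0, 4], [11, 5, 11, 2, 5], [11, 6, 11, 6], [11, 7, 11, 7], [11, 8, 11, 6, 8], [11, 9, 11, 9], [2, 12, 2, 12, 2, 12], [12, 0, 12, 0], [12, 1, 12, 1], [12, 3, 12, 3], [12, 4, 12, 4], [12, 5, 12, 1, 5], [12, 6, 12, 3, 6], [12, 7, 12, 4, 7], [12, 8, 12, 8], [12, 9, 12, 9], [11, 12, 11, 12, 11, 12, 11, 12], [0, 10, 0, 10, 0, 10], [10, 1, 10, 1], [10, 2, 10, 2, 8], [10, 3, 10, 1, 3, 8], [10, 4, 10, 1, 4], [10, 5, 10, 5], [10, 6, 10, 5, 6, 8], [10, 7, 10, 5, 7], [10, 8, 10, 8], [10, 9, 10, 8, 9], [10, 12, 10, 8, 12], [3, 13, 3, 13, 3, 13], [13, 0, 13, 0, 2, 7], [13, 1, 13, 1, 7], [13, 2, 13, 2], [13, 4, 13, 4, 5, 7], [13, 5, 13, 5], [13, 6, 13, 2, 6], [13, 7, 13, 7], [13, 8, 13, 5, 8], [13, 9, 13, 7, 9], [13, 11, 13, 7, 11], [10, 13, 10, 13, 1, 2, 7, 8, 9], [12, 13, 4, 7, 8, 12, 13, 4, 7, 8, 12, 13, 4, 7, 8, 12, 13, 4, 7, 8, 12, 13, 4, 7, 8], [2, 9, 13, 4,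 7, 8, 12, 13, 4, 7, 8, 9, 0, 2, 9, 13, 4, 7, 8, 12, 13, 4, 7, 8, 9, 0], [3, 4, 12, 13, 4, 7, 8, 12, 3, 4, 12, 13, 4, 7, 8, 12, 3, 4, 12, 13, 4, 7, 8, 12], [3, 4, 12, 13, 4, 7, 8, 12, 0, 13, 4, 7, 8, 9, 10, 3, 4, 12, 13, 4, 7, 8, 12, 0, 13, 4, 7, 8, 9, 10], [2, 12, 0, 9, 12, 13, 4, 7, 8, 9, 0, 13, 4, 7, 8, 9], [3, 4, 12, 13, 4, 7, 8, 9, 3, 4, 9, 13, 4, 7, 8, 9, 3, 4, 9, 13, 4, 7, 8, 12], [2, 12, 2, 12, 13, 4, 7, 8, 9, 2, 9, 13, 4, 7, 8, 12], [3, 4, 9, 2, 9, 13, 4, 7, 8, 9, 2, 9, 13, 4, 7, 8, 12, 3, 4, 12], [11, 10, 6, 7, 8, 11, 10, 6, 7, 8, 11, 10, 6, 7, 8, 11, 10, 6, 7, 8, 11, 10, 6, 7, 8], [1, 9, 10, 6, 7, 8, 11, 10, 6, 7, 8, 9, 3, 1, 9, 10, 6, 7, 8, 11, 10, 6, 7, 8, 9, 3], [0, 6, 11, 10, 6, 7, 8, 11, 0, 6, 11, 10, 6, 7, 8, 11, 0, 6, 11, 10, 6, 7, 8, 11], [0, 6, 11, 10, 6, 7, 8, 11, 3, 10, 6, 7, 8, 9, 13, 0, 6, 11, 10, 6, 7, 8, 11, 3, 10, 6, 7, 8, 9, 13], [1, 11, 3, 9, 11, 10, 6, 7, 8, 9, 3, 10, 6, 7, 8, 9], [0, 6, 11, 10, 6, 7, 8, 9,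 0, 6, 9, 10, 6, 7, 8, 9, 0, 6, 9, 10, 6, 7, 8, 11], [1, 11, 1, 11, 10, 6, 7, 8, 9, 1, 9, 10, 6, 7, 8, 11], [0, 6, 9, 1, 9, 10, 6, 7, 8, 9, 1, 9, 10, 6, 7, 8, 11, 0, 6, 11]]
def subs : List (List ℕ) := [[0], [1], [2], [3], [4], [5], [6], [7], [8], [9], [10], [12], [13]]
noncomputable def row (n : ℕ) : ℕ := rowOf (fun h => rows.get h) (nat_lit 5) (nat_lit 31) (nat_lit 626) (nat_lit 0x3ffffffffffffffffffffffffffffffffffffffffffffffffffffffffffffffffffffffffffffffffffffffffffffffffffffffffffffffffffffffffffffffffffffffffffffffffffffffffffff) n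
noncomputable def xleaf (h : ℕ) : ℕ := recs.get h
noncomputable def mF : ℕ → ℕ := mainRow row (rowChk row xleaf outer (nat_lit 19) (nat_lit 524287) (nat_lit 63) (nat_lit 25) (nat_lit 33554431) (nat_lit 17592186044415) (nat_lit 524288) (nat_lit 29155) (nat_lit 606208) (nat_lit 10) (nat_lit 1023) (nat_lit 29) (nat_lit 536870911) (nat_lit 8) (nat_lit 255) cols)
noncomputable def xF : ℕ → ℕ → ℕ := xLeaf row xleaf outer (nat_lit 524287) (nat_lit 25) (nat_lit 17592186044415) (nat_lit 524288) (nat_lit 29155) (nat_lit 10) (nat_lit 1023) (nat_lit 29) (nat_lit 536870911) (nat_lit 536869888) (nat_lit 8) (nat_lit 255) (nat_lit 20) (nat_lit 1048575) (nat_lit 7) (nat_lit 127) (nat_lit 582) (nat_lit 29854720) (nat_lit 128)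
noncomputable def cert : Cert := ⟨row, xleaf, outer, cols, nat_lit 19, nat_lit 524287, nat_lit 63, nat_lit 25, nat_lit 33554431, nat_lit 17592186044415, nat_lit 524288, nat_lit 29155, nat_lit 606208, nat_lit 10, nat_lit 1023, nat_lit 29, nat_lit 536870911, nat_lit 536869888, nat_lit 8, nat_lit 255, nat_lit 20, nat_lit 1048575, nat_lit 7, nat_lit 127, nat_lit 582, nat_lit 29854720, nat_lit 128, nat_lit 44, nat_lit 303104, nat_lit 2368⟩
theorem tabok : tabOK (fun i => invL.getD i i) rels subs outer cols (nat_lit 10) (nat_lit 582) = true := by decide +kernel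

end CL.TC.HeldG11
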