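import Cfsg.Agent.Spor.TCSound

/-! coset enumeration certificate generated by tools/tc -/

set_option maxRecDepth 100000
set_option autoImplicit false
set_option linter.all false

namespace CL.TC.M24A

noncomputable def rows0 : Tr ℕ := (.node (nat_lit 1) (.leaf (nat_lit 0xf0c43ca10fe43fec0f33fc877d823f1887e620f7f311fcc3ff90dfb034cfc62bfc867c61df9872bfcc37f315fe42fec0b33fc80fc60bf1867e618f7d208f0c27f909fb024cf9815fc847c615f9852bfcc27cb0afe41fec0733fc837c629f1847e610f7f314fcc1ff905fb014cfd817fc80fc60df9832bf4c13da04fe40fec0333f189ff205f1827e608aff303fcc4ff901fb004cfe60bf985fc605f98100)) (.leaf (nat_lit 0xe2c639618fe457ec1533cd8bf4c2ffc8a7d82867ab16ed45bf913fb04ccff219f606fc631f98c3dfb01ff906f8c5ff31757fc817d807f18b7e62cf7bb12f084bf911fb044cfc61ffc877c625f9892b)))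
noncomputable def recs0 : Tr ℕ := (.leaf (nat_lit 0x127a24ac41e882b085614f411e822b018a031006180c20182030005f80be))
noncomputable def rows : Tr ℕ := rows0
noncomputable def recs : Tr ℕ := recs0
noncomputable def ci0 : CI := ⟨[], (nat_lit 0), false, (.node (nat_lit 1) (.leaf Rule.defn) (.leaf Rule.copy)), (.leaf (XRule.rot (nat_lit 0) [] 14 0))⟩
noncomputable def ci7 : CI := ⟨[0], (nat_lit 25), false, (.node (nat_lit 2) (.node (nat_lit 1) (.leaf Rule.defn) (.leaf Rule.copy)) (.node (nat_lit 1) (.leaf (Rule.fwd [nat_lit 25] 14 0)) (.leaf (Rule.fwd [nat_lit 7] 0 0)))), (.node (nat_lit 1) (.leaf XRule.defn) (.leaf XRule.defn))⟩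
noncomputable def ci25 : CI := ⟨[1], (nat_lit 7), false, (.node (nat_lit 2) (.node (nat_lit 1) (.leaf Rule.defn) (.leaf Rule.copy)) (.leaf (Rule.fwd [nat_lit 7] 14 0))), (.node (nat_lit 1) (.leaf XRule.defn) (.leaf XRule.defn))⟩
noncomputable def ci43 : CI := ⟨[2], (nat_lit 61), false, (.node (nat_lit 4) (.node (nat_lit 2) (.node (nat_lit 1) (.leaf Rule.defn) (.leaf Rule.copy)) (.node (nat_lit 1) (.leaf (Rule.fwd [nat_lit 61] 14 0)) (.leaf (Rule.fwd [nat_lit 43, nat_lit 43] 2 0)))) (.node (nat_lit 1) (.leaf (Rule.fwd [nat_lit 7, nat_lit 61, nat_lit 7, nat_lit 43, nat_lit 7, nat_lit 61, nat_lit 7, nat_lit 61, nat_lit 7, nat_lit 43, nat_lit 7, nat_lit 61, nat_lit 7, nat_lit 61, nat_lit 7, nat_lit 43, nat_lit 7, nat_lit 61, nat_lit 7, nat_lit 61, nat_lit 7, nat_lit 43, nat_lit 7, nat_lit 43, nat_lit 7, nat_lit 61, nat_lit 7, nat_lit 43, nat_lit 7, nat_lit 43, nat_lit 7, nat_lit 61, nat_lit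 7, nat_lit 43, nat_lit 7] 12 15)) (.leaf (Rule.fwd [nat_lit 7, nat_lit 61, nat_lit 7, nat_lit 43, nat_lit 7, nat_lit 43, nat_lit 7, nat_lit 61, nat_lit 7, nat_lit 43, nat_lit 7, nat_lit 43, nat_lit 7, nat_lit 61, nat_lit 7, nat_lit 43, nat_lit 7, nat_lit 61, nat_lit 7, nat_lit 61, nat_lit 7, nat_lit 43, nat_lit 7, nat_lit 61, nat_lit 7, nat_lit 61, nat_lit 7, nat_lit 43, nat_lit 7, nat_lit 61, nat_lit 7, nat_lit 61, nat_lit 7, nat_lit 43, nat_lit 7] 12 3)))), (.node (nat_lit 4) (.node (nat_lit 2) (.node (nat_lit 1) (.leaf XRule.defn) (.leaf XRule.defn)) (.node (nat_lit 1) (.leaf (XRule.rot (nat_lit 32884281202073) [25, 43, 25, 63, 7, 61, 7] 14 0)) (.leaf (XRule.rot (nat_lit 141906495373213147525963417) [25, 61, 25, 43, 25, 61, 67, 43, 7, 61, 7, 43, 7] 14 0)))) (.leaf (XRule.rot (nat_lit 144626578467354859262072217) [25, 43, 25, 43, 25, 61, 69, 43, 7, 61, 7, 61, 7] 14 0)))⟩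
noncomputable def ci61 : CI := ⟨[3], (nat_lit 43), false, (.node (nat_lit 2) (.node (nat_lit 1) (.leaf Rule.defn) (.leaf Rule.copy)) (.node (nat_lit 1) (.leaf (Rule.fwd [nat_lit 43] 14 0)) (.leaf (Rule.fwd [nat_lit 61, nat_lit 61] 3 0)))), (.node (nat_lit 2) (.node (nat_lit 1) (.leaf XRule.defn) (.leaf XRule.defn)) (.leaf (XRule.rot (nat_lit 8827295682176091578009) [25, 61, 25, 43, 65, 61, 7, 43, 7, 61, 7] 14 0)))⟩
noncomputable def ci62 : CI := ⟨[0, 3, 0, 2, 1, 2, 1], (nat_lit 63), true, (.node (nat_lit 1) (.leaf Rule.defn) (.leaf Rule.copy)), (.node (nat_lit 1) (.leaf XRule.defn) (.leaf XRule.ax))⟩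
noncomputable def ci63 : CI := ⟨[0, 3, 0, 3, 1, 2, 1], (nat_lit 62), false, (.node (nat_lit 1) (.leaf Rule.defn) (.leaf Rule.copy)), (.node (nat_lit 1) (.leaf XRule.defn) (.leaf XRule.defn))⟩
noncomputable def ci64 : CI := ⟨[3, 0, 2, 0, 3, 0, 3, 1, 3, 1, 2], (nat_lit 65), true, (.node (nat_lit 1) (.leaf Rule.defn) (.leaf Rule.copy)), (.node (nat_lit 1) (.leaf XRule.defn) (.leaf XRule.ax))⟩
noncomputable def ci65 : CI := ⟨[3, 0, 2, 0, 2, 1, 2, 1, 3, 1, 2], (nat_lit 64), false, (.node (nat_lit 1) (.leaf Rule.defn) (.leaf Rule.copy)), (.node (nat_lit 1) (.leaf XRule.defn) (.leaf XRule.defn))⟩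
noncomputable def ci66 : CI := ⟨[2, 0, 3, 0, 2, 0, 2, 1, 3, 1, 2, 1, 3], (nat_lit 67), true, (.node (nat_lit 1) (.leaf Rule.defn) (.leaf Rule.copy)), (.node (nat_lit 1) (.leaf XRule.defn) (.leaf XRule.ax))⟩
noncomputable def ci67 : CI := ⟨[2, 0, 3, 0, 2, 0, 3, 1, 3, 1, 2, 1, 3], (nat_lit 66), false, (.node (nat_lit 1) (.leaf Rule.defn) (.leaf Rule.copy)), (.node (nat_lit 1) (.leaf XRule.defn) (.leaf XRule.defn))⟩
noncomputable def ci68 : CI := ⟨[2, 0, 3, 0, 3, 0, 2, 1, 2, 1, 2, 1, 3], (nat_lit 69), true, (.node (nat_lit 1) (.leaf Rule.defn) (.leaf Rule.copy)), (.node (nat_lit 1) (.leaf XRule.defn) (.leaf XRule.ax))⟩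
noncomputable def ci69 : CI := ⟨[2, 0, 3, 0, 3, 0, 3, 1, 2, 1, 2, 1, 3], (nat_lit 68), false, (.node (nat_lit 1) (.leaf Rule.defn) (.leaf Rule.copy)), (.node (nat_lit 1) (.leaf XRule.defn) (.leaf XRule.defn))⟩
noncomputable def outer : Tr CI := (.node (nat_lit 2) (.node (nat_lit 1) (.node (nat_lit 4) (.node (nat_lit 64) (.leaf ci0) (.leaf ci64)) (.leaf ci68)) (.node (nat_lit 4) (.node (nat_lit 8) (.leaf ci65) (.leaf ci25)) (.node (nat_lit 8) (.leaf ci69) (.leaf ci61)))) (.node (nat_lit 4) (.node (nat_lit 1) (.leaf ci66) (.node (nat_lit 8) (.leaf ci67) (.leaf ci43))) (.node (nat_lit 1) (.leaf ci62) (.node (nat_lit 8) (.leaf ci7) (.leaf ci63)))))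
def cols : List ℕ := [nat_lit 7, nat_lit 25, nat_lit 43, nat_lit 61]
def invL : List ℕ := [1, 0, 3, 2]
def rels : List (List ℕ) := [[0, 0], [2, 2, 2], [0, 2, 0, 2, 0, 2, 0, 2, 0, 2, 0, 2, 0, 2, 0, 2, 0, 2, 0, 2, 0, 2, 0, 2, 0, 2, 0, 2, 0, 2, 0, 2, 0, 2, 0, 2, 0, 2, 0, 2, 0, 2, 0, 2, 0, 2], [1, 3, 0, 2, 1, 3, 0, 2, 1, 3, 0, 2, 1, 3, 0, 2, 1, 3, 0, 2, 1, 3, 0, 2, 1, 3, 0, 2, 1, 3, 0, 2, 1, 3, 0, 2, 1, 3, 0, 2, 1, 3, 0, 2, 1, 3, 0, 2], [1, 3, 1, 3, 0, 2, 0, 2, 1, 3, 1, 3, 0, 2, 0, 2, 1, 3, 1, 3, 0, 2, 0, 2, 1, 3, 1, 3, 0, 2, 0, 2, 1, 3, 1, 3, 0, 2, 0, 2], [0, 2, 0, 2, 0, 3, 0, 2, 0, 3, 0, 2, 0, 3, 0, 2, 0, 2, 0, 3, 0, 2, 0, 3, 0, 2, 0, 3, 0, 2, 0, 2, 0, 3, 0, 2, 0, 3, 0, 2, 0, 3, 0, 2, 0, 2, 0, 3, 0, 2, 0, 3, 0, 2, 0, 3], [0, 2, 0, 2, 0, 3, 0, 2, 0, 2, 0, 3, 0, 2, 0, 2, 0, 3, 0, 2, 0, 3, 0, 3, 0, 2, 0, 3, 0, 3, 0, 2, 0, 3, 0, 3]]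
def subs : List (List ℕ) := [[0, 3, 0, 2, 1, 2, 1], [3, 0, 2, 0, 3, 0, 3, 1, 3, 1, 2], [2, 0, 3, 0, 2, 0, 2, 1, 3, 1, 2, 1, 3], [2, 0, 3, 0, 3, 0, 2, 1, 2, 1, 2, 1, 3]]
noncomputable def row (n : ℕ) : ℕ := rowOf (fun h => rows.get h) (nat_lit 4) (nat_lit 15) (nat_lit 79) (nat_lit 0x7fffffffffffffffffff) n
noncomputable def xleaf (h : ℕ) : ℕ := recs.get h
noncomputable def mF : ℕ → ℕ := mainRow row (rowChk row xleaf outer (nat_lit 8) (nat_lit 255) (nat_lit 7) (nat_lit 11) (nat_lit 2047) (nat_lit 262143) (nat_lit 128) (nat_lit 24) (nat_lit 256) (nat_lit 7) (nat_lit 127) (nat_lit 15) (nat_lit 32767) (nat_lit 8) (nat_lit 255) cols)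
noncomputable def xF : ℕ → ℕ → ℕ := xLeaf row xleaf outer (nat_lit 255) (nat_lit 11) (nat_lit 262143) (nat_lit 128) (nat_lit 24) (nat_lit 7) (nat_lit 127) (nat_lit 15) (nat_lit 32767) (nat_lit 32640) (nat_lit 8) (nat_lit 255) (nat_lit 10) (nat_lit 1023) (nat_lit 3) (nat_lit 7) (nat_lit 61) (nat_lit 3072) (nat_lit 128)
noncomputable def cert : Cert := ⟨row, xleaf, outer, cols, nat_lit 8, nat_lit 255, nat_lit 7, nat_lit 11, nat_lit 2047, nat_lit 262143, nat_lit 128, nat_lit 24, nat_lit 256, nat_lit 7, nat_lit 127, nat_lit 15, nat_lit 32767, nat_lit 32640, nat_lit 8, nat_lit 255, nat_lit 10, nat_lit 1023, nat_lit 3, nat_lit 7, nat_lit 61, nat_lit 3072, nat_lit 128, nat_lit 18, nat_lit 128, nat_lit 1⟩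
theorem tabok : tabOK (fun i => invL.getD i i) rels subs outer cols (nat_lit 7) (nat_lit 61) = true := by decide +kernel
theorem m0 : rng mF (nat_lit 1) (nat_lit 24) = 0 := by decide +kernel
noncomputable def s0 : List ℕ := [nat_lit 0x401004010000000101000000003a00000000000000040c00000000005a0000000000000004140000000000000006b00000000000000041c0000000000000006c000000000000000000000000000000000000000000000000000000000000000000000000000000000000000000000000000000000000000000000000000000000000000000000000000000000000000000000000000000000000000000000000000000000000000000000000000000000000000000000000000000000000000000000000000000000000000000000000000000000000]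
theorem x0 : xs xF s0 (nat_lit 1) = 0 := by decide +kernel
theorem mz0 : AllZ mF 1 (nat_lit 25) := (AllZ.step (AllZ.nil mF 1) (nat_lit 24) (nat_lit 25) rfl m0)
theorem xz0 : XZ xF (nat_lit 1) := (XZ.step (XZ.nil xF) s0 (nat_lit 1) (nat_lit 1) (by decide +kernel) x0)
/-- the certificate (24 points) is valid -/
theorem valid : cert.Valid (fun i => invL.getD i i) rels subs 4 :=
  ⟨by decide +kernel, tabok, by decide +kernel, mz0, xz0⟩
theorem cert_N : cert.N = 24 := rfl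

end CL.TC.M24A
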