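import Cfsg.Agent.Spor.TCSound
import Cfsg.Agent.Spor.TCONAD0
import Cfsg.Agent.Spor.TCONAD1
import Cfsg.Agent.Spor.TCONAD2

/-! coset enumeration certificate generated by tools/tc -/

set_option maxRecDepth 100000
set_option autoImplicit false
set_option linter.all false

namespace CL.TC.ONA

noncomputable def rows : Tr ℕ := (.node (nat_lit 4096) (.node (nat_lit 2048) (.node (nat_lit 1024) (.node (nat_lit 512) (.node (nat_lit 256) (.node (nat_lit 128) (.node (nat_lit 64) (.node (nat_lit 32) (.node (nat_lit 16) rows0 rows1) (.node (nat_lit 16) rows2 rows3)) (.node (nat_lit 32) (.node (nat_lit 16) rows4 rows5) (.node (nat_lit 16) rows6 rows7))) (.node (nat_lit 64) (.node (nat_lit 32) (.node (nat_lit 16) rows8 rows9) (.node (nat_lit 16) rows10 rows11)) (.node (nat_lit 32) (.node (nat_lit 16) rows12 rows13) (.node (nat_lit 16) rows14 rows15)))) (.node (nat_lit 128) (.node (nat_lit 64) (.node (nat_lit 32) (.node (nat_lit 16) rows16 rows17) (.node (nat_lit 16) rows18 rows19))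 (.node (nat_lit 32) (.node (nat_lit 16) rows20 rows21) (.node (nat_lit 16) rows22 rows23))) (.node (nat_lit 64) (.node (nat_lit 32) (.node (nat_lit 16) rows24 rows25) (.node (nat_lit 16) rows26 rows27)) (.node (nat_lit 32) (.node (nat_lit 16) rows28 rows29) (.node (nat_lit 16) rows30 rows31))))) (.node (nat_lit 256) (.node (nat_lit 128) (.node (nat_lit 64) (.node (nat_lit 32) (.node (nat_lit 16) rows32 rows33) (.node (nat_lit 16) rows34 rows35)) (.node (nat_lit 32) (.node (nat_lit 16) rows36 rows37) (.node (nat_lit 16) rows38 rows39))) (.node (nat_lit 64) (.node (nat_lit 32) (.node (nat_lit 16) rows40 rows41) (.node (nat_lit 16) rows42 rows43)) (.node (nat_lit 32) (.node (nat_lit 16) rows44 rows45) (.node (nat_lit 16) rows46 rows47)))) (.node (nat_lit 128) (.node (nat_lit 64) (.node (nat_lit 32) (.node (nat_lit 16) rows48 rows49) (.node (nat_lit 16) rows50 rows51)) (.node (nat_lit 32) (.node (nat_lit 16) rows52 rows53) (.node (nat_lit 16) rows54 rows55))) (.node (nat_lit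 64) (.node (nat_lit 32) (.node (nat_lit 16) rows56 rows57) (.node (nat_lit 16) rows58 rows59)) (.node (nat_lit 32) (.node (nat_lit 16) rows60 rows61) (.node (nat_lit 16) rows62 rows63)))))) (.node (nat_lit 512) (.node (nat_lit 256) (.node (nat_lit 128) (.node (nat_lit 64) (.node (nat_lit 32) (.node (nat_lit 16) rows64 rows65) (.node (nat_lit 16) rows66 rows67)) (.node (nat_lit 32) (.node (nat_lit 16) rows68 rows69) (.node (nat_lit 16) rows70 rows71))) (.node (nat_lit 64) (.node (nat_lit 32) (.node (nat_lit 16) rows72 rows73) (.node (nat_lit 16) rows74 rows75)) (.node (nat_lit 32) (.node (nat_lit 16) rows76 rows77) (.node (nat_lit 16) rows78 rows79)))) (.node (nat_lit 128) (.node (nat_lit 64) (.node (nat_lit 32) (.node (nat_lit 16) rows80 rows81) (.node (nat_lit 16) rows82 rows83)) (.node (nat_lit 32) (.node (nat_lit 16) rows84 rows85) (.node (nat_lit 16) rows86 rows87))) (.node (nat_lit 64) (.node (nat_lit 32) (.node (nat_lit 16) rows88 rows89) (.node (nat_lit 16)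 rows90 rows91)) (.node (nat_lit 32) (.node (nat_lit 16) rows92 rows93) (.node (nat_lit 16) rows94 rows95))))) (.node (nat_lit 256) (.node (nat_lit 128) (.node (nat_lit 64) (.node (nat_lit 32) (.node (nat_lit 16) rows96 rows97) (.node (nat_lit 16) rows98 rows99)) (.node (nat_lit 32) (.node (nat_lit 16) rows100 rows101) (.node (nat_lit 16) rows102 rows103))) (.node (nat_lit 64) (.node (nat_lit 32) (.node (nat_lit 16) rows104 rows105) (.node (nat_lit 16) rows106 rows107)) (.node (nat_lit 32) (.node (nat_lit 16) rows108 rows109) (.node (nat_lit 16) rows110 rows111)))) (.node (nat_lit 128) (.node (nat_lit 64) (.node (nat_lit 32) (.node (nat_lit 16) rows112 rows113) (.node (nat_lit 16) rows114 rows115)) (.node (nat_lit 32) (.node (nat_lit 16) rows116 rows117) (.node (nat_lit 16) rows118 rows119))) (.node (nat_lit 64) (.node (nat_lit 32) (.node (nat_lit 16) rows120 rows121) (.node (nat_lit 16) rows122 rows123)) (.node (nat_lit 32) (.node (nat_lit 16) rows124 rows125) (.node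 (nat_lit 16) rows126 rows127))))))) (.node (nat_lit 1024) (.node (nat_lit 512) (.node (nat_lit 256) (.node (nat_lit 128) (.node (nat_lit 64) (.node (nat_lit 32) (.node (nat_lit 16) rows128 rows129) (.node (nat_lit 16) rows130 rows131)) (.node (nat_lit 32) (.node (nat_lit 16) rows132 rows133) (.node (nat_lit 16) rows134 rows135))) (.node (nat_lit 64) (.node (nat_lit 32) (.node (nat_lit 16) rows136 rows137) (.node (nat_lit 16) rows138 rows139)) (.node (nat_lit 32) (.node (nat_lit 16) rows140 rows141) (.node (nat_lit 16) rows142 rows143)))) (.node (nat_lit 128) (.node (nat_lit 64) (.node (nat_lit 32) (.node (nat_lit 16) rows144 rows145) (.node (nat_lit 16) rows146 rows147)) (.node (nat_lit 32) (.node (nat_lit 16) rows148 rows149) (.node (nat_lit 16) rows150 rows151))) (.node (nat_lit 64) (.node (nat_lit 32) (.node (nat_lit 16) rows152 rows153) (.node (nat_lit 16) rows154 rows155)) (.node (nat_lit 32) (.node (nat_lit 16) rows156 rows157) (.node (nat_lit 16) rows158 rows159)))))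 (.node (nat_lit 256) (.node (nat_lit 128) (.node (nat_lit 64) (.node (nat_lit 32) (.node (nat_lit 16) rows160 rows161) (.node (nat_lit 16) rows162 rows163)) (.node (nat_lit 32) (.node (nat_lit 16) rows164 rows165) (.node (nat_lit 16) rows166 rows167))) (.node (nat_lit 64) (.node (nat_lit 32) (.node (nat_lit 16) rows168 rows169) (.node (nat_lit 16) rows170 rows171)) (.node (nat_lit 32) (.node (nat_lit 16) rows172 rows173) (.node (nat_lit 16) rows174 rows175)))) (.node (nat_lit 128) (.node (nat_lit 64) (.node (nat_lit 32) (.node (nat_lit 16) rows176 rows177) (.node (nat_lit 16) rows178 rows179)) (.node (nat_lit 32) (.node (nat_lit 16) rows180 rows181) (.node (nat_lit 16) rows182 rows183))) (.node (nat_lit 64) (.node (nat_lit 32) (.node (nat_lit 16) rows184 rows185) (.node (nat_lit 16) rows186 rows187)) (.node (nat_lit 32) (.node (nat_lit 16) rows188 rows189) (.node (nat_lit 16) rows190 rows191)))))) (.node (nat_lit 512) (.node (nat_lit 256) (.node (nat_lit 128) (.node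 (nat_lit 64) (.node (nat_lit 32) (.node (nat_lit 16) rows192 rows193) (.node (nat_lit 16) rows194 rows195)) (.node (nat_lit 32) (.node (nat_lit 16) rows196 rows197) (.node (nat_lit 16) rows198 rows199))) (.node (nat_lit 64) (.node (nat_lit 32) (.node (nat_lit 16) rows200 rows201) (.node (nat_lit 16) rows202 rows203)) (.node (nat_lit 32) (.node (nat_lit 16) rows204 rows205) (.node (nat_lit 16) rows206 rows207)))) (.node (nat_lit 128) (.node (nat_lit 64) (.node (nat_lit 32) (.node (nat_lit 16) rows208 rows209) (.node (nat_lit 16) rows210 rows211)) (.node (nat_lit 32) (.node (nat_lit 16) rows212 rows213) (.node (nat_lit 16) rows214 rows215))) (.node (nat_lit 64) (.node (nat_lit 32) (.node (nat_lit 16) rows216 rows217) (.node (nat_lit 16) rows218 rows219)) (.node (nat_lit 32) (.node (nat_lit 16) rows220 rows221) (.node (nat_lit 16) rows222 rows223))))) (.node (nat_lit 256) (.node (nat_lit 128) (.node (nat_lit 64) (.node (nat_lit 32) (.node (nat_lit 16) rows224 rows225)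 (.node (nat_lit 16) rows226 rows227)) (.node (nat_lit 32) (.node (nat_lit 16) rows228 rows229) (.node (nat_lit 16) rows230 rows231))) (.node (nat_lit 64) (.node (nat_lit 32) (.node (nat_lit 16) rows232 rows233) (.node (nat_lit 16) rows234 rows235)) (.node (nat_lit 32) (.node (nat_lit 16) rows236 rows237) (.node (nat_lit 16) rows238 rows239)))) (.node (nat_lit 128) (.node (nat_lit 64) (.node (nat_lit 32) (.node (nat_lit 16) rows240 rows241) (.node (nat_lit 16) rows242 rows243)) (.node (nat_lit 32) (.node (nat_lit 16) rows244 rows245) (.node (nat_lit 16) rows246 rows247))) (.node (nat_lit 64) (.node (nat_lit 32) (.node (nat_lit 16) rows248 rows249) (.node (nat_lit 16) rows250 rows251)) (.node (nat_lit 32) (.node (nat_lit 16) rows252 rows253) (.node (nat_lit 16) rows254 rows255)))))))) (.node (nat_lit 2048) (.node (nat_lit 1024) (.node (nat_lit 512) (.node (nat_lit 256) (.node (nat_lit 128) (.node (nat_lit 64) (.node (nat_lit 32) (.node (nat_lit 16) rows256 rows257) (.node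 (nat_lit 16) rows258 rows259)) (.node (nat_lit 32) (.node (nat_lit 16) rows260 rows261) (.node (nat_lit 16) rows262 rows263))) (.node (nat_lit 64) (.node (nat_lit 32) (.node (nat_lit 16) rows264 rows265) (.node (nat_lit 16) rows266 rows267)) (.node (nat_lit 32) (.node (nat_lit 16) rows268 rows269) (.node (nat_lit 16) rows270 rows271)))) (.node (nat_lit 128) (.node (nat_lit 64) (.node (nat_lit 32) (.node (nat_lit 16) rows272 rows273) (.node (nat_lit 16) rows274 rows275)) (.node (nat_lit 32) (.node (nat_lit 16) rows276 rows277) (.node (nat_lit 16) rows278 rows279))) (.node (nat_lit 64) (.node (nat_lit 32) (.node (nat_lit 16) rows280 rows281) (.node (nat_lit 16) rows282 rows283)) (.node (nat_lit 32) (.node (nat_lit 16) rows284 rows285) (.node (nat_lit 16) rows286 rows287))))) (.node (nat_lit 256) (.node (nat_lit 128) (.node (nat_lit 64) (.node (nat_lit 32) (.node (nat_lit 16) rows288 rows289) (.node (nat_lit 16) rows290 rows291)) (.node (nat_lit 32) (.node (nat_lit 16)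 rows292 rows293) (.node (nat_lit 16) rows294 rows295))) (.node (nat_lit 64) (.node (nat_lit 32) (.node (nat_lit 16) rows296 rows297) (.node (nat_lit 16) rows298 rows299)) (.node (nat_lit 32) (.node (nat_lit 16) rows300 rows301) (.node (nat_lit 16) rows302 rows303)))) (.node (nat_lit 128) (.node (nat_lit 64) (.node (nat_lit 32) (.node (nat_lit 16) rows304 rows305) (.node (nat_lit 16) rows306 rows307)) (.node (nat_lit 32) (.node (nat_lit 16) rows308 rows309) (.node (nat_lit 16) rows310 rows311))) (.node (nat_lit 64) (.node (nat_lit 32) (.node (nat_lit 16) rows312 rows313) (.node (nat_lit 16) rows314 rows315)) (.node (nat_lit 32) (.node (nat_lit 16) rows316 rows317) (.node (nat_lit 16) rows318 rows319)))))) (.node (nat_lit 512) (.node (nat_lit 256) (.node (nat_lit 128) (.node (nat_lit 64) (.node (nat_lit 32) (.node (nat_lit 16) rows320 rows321) (.node (nat_lit 16) rows322 rows323)) (.node (nat_lit 32) (.node (nat_lit 16) rows324 rows325) (.node (nat_lit 16) rows326 rows327)))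 (.node (nat_lit 64) (.node (nat_lit 32) (.node (nat_lit 16) rows328 rows329) (.node (nat_lit 16) rows330 rows331)) (.node (nat_lit 32) (.node (nat_lit 16) rows332 rows333) (.node (nat_lit 16) rows334 rows335)))) (.node (nat_lit 128) (.node (nat_lit 64) (.node (nat_lit 32) (.node (nat_lit 16) rows336 rows337) (.node (nat_lit 16) rows338 rows339)) (.node (nat_lit 32) (.node (nat_lit 16) rows340 rows341) (.node (nat_lit 16) rows342 rows343))) (.node (nat_lit 64) (.node (nat_lit 32) (.node (nat_lit 16) rows344 rows345) (.node (nat_lit 16) rows346 rows347)) (.node (nat_lit 32) (.node (nat_lit 16) rows348 rows349) (.node (nat_lit 16) rows350 rows351))))) (.node (nat_lit 256) (.node (nat_lit 128) (.node (nat_lit 64) (.node (nat_lit 32) (.node (nat_lit 16) rows352 rows353) (.node (nat_lit 16) rows354 rows355)) (.node (nat_lit 32) (.node (nat_lit 16) rows356 rows357) (.node (nat_lit 16) rows358 rows359))) (.node (nat_lit 64) (.node (nat_lit 32) (.node (nat_lit 16) rows360 rows361)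 (.node (nat_lit 16) rows362 rows363)) (.node (nat_lit 32) (.node (nat_lit 16) rows364 rows365) (.node (nat_lit 16) rows366 rows367)))) (.node (nat_lit 128) (.node (nat_lit 64) (.node (nat_lit 32) (.node (nat_lit 16) rows368 rows369) (.node (nat_lit 16) rows370 rows371)) (.node (nat_lit 32) (.node (nat_lit 16) rows372 rows373) (.node (nat_lit 16) rows374 rows375))) (.node (nat_lit 64) (.node (nat_lit 32) (.node (nat_lit 16) rows376 rows377) (.node (nat_lit 16) rows378 rows379)) (.node (nat_lit 32) (.node (nat_lit 16) rows380 rows381) (.node (nat_lit 16) rows382 rows383))))))) (.node (nat_lit 1024) (.node (nat_lit 512) (.node (nat_lit 256) (.node (nat_lit 128) (.node (nat_lit 64) (.node (nat_lit 32) (.node (nat_lit 16) rows384 rows385) (.node (nat_lit 16) rows386 rows387)) (.node (nat_lit 32) (.node (nat_lit 16) rows388 rows389) (.node (nat_lit 16) rows390 rows391))) (.node (nat_lit 64) (.node (nat_lit 32) (.node (nat_lit 16) rows392 rows393) (.node (nat_lit 16) rows394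 rows395)) (.node (nat_lit 32) (.node (nat_lit 16) rows396 rows397) (.node (nat_lit 16) rows398 rows399)))) (.node (nat_lit 128) (.node (nat_lit 64) (.node (nat_lit 32) (.node (nat_lit 16) rows400 rows401) (.node (nat_lit 16) rows402 rows403)) (.node (nat_lit 32) (.node (nat_lit 16) rows404 rows405) (.node (nat_lit 16) rows406 rows407))) (.node (nat_lit 64) (.node (nat_lit 32) (.node (nat_lit 16) rows408 rows409) (.node (nat_lit 16) rows410 rows411)) (.node (nat_lit 32) (.node (nat_lit 16) rows412 rows413) (.node (nat_lit 16) rows414 rows415))))) (.node (nat_lit 256) (.node (nat_lit 128) (.node (nat_lit 64) (.node (nat_lit 32) (.node (nat_lit 16) rows416 rows417) (.node (nat_lit 16) rows418 rows419)) (.node (nat_lit 32) (.node (nat_lit 16) rows420 rows421) (.node (nat_lit 16) rows422 rows423))) (.node (nat_lit 64) (.node (nat_lit 32) (.node (nat_lit 16) rows424 rows425) (.node (nat_lit 16) rows426 rows427)) (.node (nat_lit 32) (.node (nat_lit 16) rows428 rows429) (.node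 (nat_lit 16) rows430 rows431)))) (.node (nat_lit 128) (.node (nat_lit 64) (.node (nat_lit 32) (.node (nat_lit 16) rows432 rows433) (.node (nat_lit 16) rows434 rows435)) (.node (nat_lit 32) (.node (nat_lit 16) rows436 rows437) (.node (nat_lit 16) rows438 rows439))) (.node (nat_lit 64) (.node (nat_lit 32) (.node (nat_lit 16) rows440 rows441) (.node (nat_lit 16) rows442 rows443)) (.node (nat_lit 32) (.node (nat_lit 16) rows444 rows445) (.node (nat_lit 16) rows446 rows447)))))) (.node (nat_lit 256) (.node (nat_lit 128) (.node (nat_lit 64) (.node (nat_lit 32) (.node (nat_lit 16) rows448 rows449) (.node (nat_lit 16) rows450 rows451)) (.node (nat_lit 32) (.node (nat_lit 16) rows452 rows453) (.node (nat_lit 16) rows454 rows455))) (.node (nat_lit 64) (.node (nat_lit 32) (.node (nat_lit 16) rows456 rows457) (.node (nat_lit 16) rows458 rows459)) (.node (nat_lit 32) (.node (nat_lit 16) rows460 rows461) (.node (nat_lit 16) rows462 rows463)))) (.node (nat_lit 128) (.node (nat_lit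 64) (.node (nat_lit 32) (.node (nat_lit 16) rows464 rows465) (.node (nat_lit 16) rows466 rows467)) (.node (nat_lit 32) (.node (nat_lit 16) rows468 rows469) (.node (nat_lit 16) rows470 rows471))) (.node (nat_lit 64) (.node (nat_lit 32) (.node (nat_lit 16) rows472 rows473) (.node (nat_lit 16) rows474 rows475)) (.node (nat_lit 32) (.node (nat_lit 16) rows476 rows477) (.node (nat_lit 16) rows478 rows479))))))))
noncomputable def recs : Tr ℕ := (.node (nat_lit 2048) (.node (nat_lit 1024) (.node (nat_lit 512) (.node (nat_lit 256) (.node (nat_lit 128) (.node (nat_lit 64) (.node (nat_lit 32) (.node (nat_lit 16) recs0 recs1) (.node (nat_lit 16) recs2 recs3)) (.node (nat_lit 32) (.node (nat_lit 16) recs4 recs5) (.node (nat_lit 16) recs6 recs7))) (.node (nat_lit 64) (.node (nat_lit 32) (.node (nat_lit 16) recs8 recs9) (.node (nat_lit 16) recs10 recs11)) (.node (nat_lit 32) (.node (nat_lit 16) recs12 recs13) (.node (nat_lit 16) recs14 recs15)))) (.node (nat_lit 128) (.node (nat_lit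 64) (.node (nat_lit 32) (.node (nat_lit 16) recs16 recs17) (.node (nat_lit 16) recs18 recs19)) (.node (nat_lit 32) (.node (nat_lit 16) recs20 recs21) (.node (nat_lit 16) recs22 recs23))) (.node (nat_lit 64) (.node (nat_lit 32) (.node (nat_lit 16) recs24 recs25) (.node (nat_lit 16) recs26 recs27)) (.node (nat_lit 32) (.node (nat_lit 16) recs28 recs29) (.node (nat_lit 16) recs30 recs31))))) (.node (nat_lit 256) (.node (nat_lit 128) (.node (nat_lit 64) (.node (nat_lit 32) (.node (nat_lit 16) recs32 recs33) (.node (nat_lit 16) recs34 recs35)) (.node (nat_lit 32) (.node (nat_lit 16) recs36 recs37) (.node (nat_lit 16) recs38 recs39))) (.node (nat_lit 64) (.node (nat_lit 32) (.node (nat_lit 16) recs40 recs41) (.node (nat_lit 16) recs42 recs43)) (.node (nat_lit 32) (.node (nat_lit 16) recs44 recs45) (.node (nat_lit 16) recs46 recs47)))) (.node (nat_lit 128) (.node (nat_lit 64) (.node (nat_lit 32) (.node (nat_lit 16) recs48 recs49) (.node (nat_lit 16) recs50 recs51)) (.node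 (nat_lit 32) (.node (nat_lit 16) recs52 recs53) (.node (nat_lit 16) recs54 recs55))) (.node (nat_lit 64) (.node (nat_lit 32) (.node (nat_lit 16) recs56 recs57) (.node (nat_lit 16) recs58 recs59)) (.node (nat_lit 32) (.node (nat_lit 16) recs60 recs61) (.node (nat_lit 16) recs62 recs63)))))) (.node (nat_lit 512) (.node (nat_lit 256) (.node (nat_lit 128) (.node (nat_lit 64) (.node (nat_lit 32) (.node (nat_lit 16) recs64 recs65) (.node (nat_lit 16) recs66 recs67)) (.node (nat_lit 32) (.node (nat_lit 16) recs68 recs69) (.node (nat_lit 16) recs70 recs71))) (.node (nat_lit 64) (.node (nat_lit 32) (.node (nat_lit 16) recs72 recs73) (.node (nat_lit 16) recs74 recs75)) (.node (nat_lit 32) (.node (nat_lit 16) recs76 recs77) (.node (nat_lit 16) recs78 recs79)))) (.node (nat_lit 128) (.node (nat_lit 64) (.node (nat_lit 32) (.node (nat_lit 16) recs80 recs81) (.node (nat_lit 16) recs82 recs83)) (.node (nat_lit 32) (.node (nat_lit 16) recs84 recs85) (.node (nat_lit 16) recs86 recs87)))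 (.node (nat_lit 64) (.node (nat_lit 32) (.node (nat_lit 16) recs88 recs89) (.node (nat_lit 16) recs90 recs91)) (.node (nat_lit 32) (.node (nat_lit 16) recs92 recs93) (.node (nat_lit 16) recs94 recs95))))) (.node (nat_lit 256) (.node (nat_lit 128) (.node (nat_lit 64) (.node (nat_lit 32) (.node (nat_lit 16) recs96 recs97) (.node (nat_lit 16) recs98 recs99)) (.node (nat_lit 32) (.node (nat_lit 16) recs100 recs101) (.node (nat_lit 16) recs102 recs103))) (.node (nat_lit 64) (.node (nat_lit 32) (.node (nat_lit 16) recs104 recs105) (.node (nat_lit 16) recs106 recs107)) (.node (nat_lit 32) (.node (nat_lit 16) recs108 recs109) (.node (nat_lit 16) recs110 recs111)))) (.node (nat_lit 128) (.node (nat_lit 64) (.node (nat_lit 32) (.node (nat_lit 16) recs112 recs113) (.node (nat_lit 16) recs114 recs115)) (.node (nat_lit 32) (.node (nat_lit 16) recs116 recs117) (.node (nat_lit 16) recs118 recs119))) (.node (nat_lit 64) (.node (nat_lit 32) (.node (nat_lit 16) recs120 recs121) (.node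 (nat_lit 16) recs122 recs123)) (.node (nat_lit 32) (.node (nat_lit 16) recs124 recs125) (.node (nat_lit 16) recs126 recs127))))))) (.node (nat_lit 256) (.node (nat_lit 128) (.node (nat_lit 64) (.node (nat_lit 32) (.node (nat_lit 16) recs128 recs129) (.node (nat_lit 16) recs130 recs131)) (.node (nat_lit 32) (.node (nat_lit 16) recs132 recs133) (.node (nat_lit 16) recs134 recs135))) (.node (nat_lit 64) (.node (nat_lit 32) (.node (nat_lit 16) recs136 recs137) (.node (nat_lit 16) recs138 recs139)) (.node (nat_lit 32) (.node (nat_lit 16) recs140 recs141) (.node (nat_lit 16) recs142 recs143)))) (.node (nat_lit 32) (.node (nat_lit 16) recs144 recs145) (.node (nat_lit 16) recs146 recs147))))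
noncomputable def ci0 : CI := ⟨[], (nat_lit 0), false, (.node (nat_lit 1) (.leaf Rule.defn) (.leaf Rule.copy)), (.node (nat_lit 128) (.node (nat_lit 64) (.node (nat_lit 32) (.node (nat_lit 16) (.node (nat_lit 8) (.node (nat_lit 4) (.node (nat_lit 2) (.node (nat_lit 1) (.leaf (XRule.rot (nat_lit 0) [] 44 0)) (.leaf (XRule.rot (nat_lit 553732233174327263982088757) [53, 185, 53, 185, 229, 185, 9, 185, 9, 229] 36 1))) (.node (nat_lit 1) (.leaf (XRule.rot (nat_lit 30819076925) [317, 229, 317, 229] 26 1)) (.leaf (XRule.rot (nat_lit 447347166878154612838615605) [53, 229, 53, 229, 185, 229, 9, 229, 9, 185] 34 1)))) (.node (nat_lit 2) (.node (nat_lit 1) (.leaf (XRule.rot (nat_lit 24913474365) [317, 185, 317, 185] 22 1)) (.leaf (XRule.rot (nat_lit 65952613293232157216412560057) [185, 53, 185, 141, 53, 141, 185, 53, 185, 141, 53] 41 0))) (.node (nat_lit 1) (.leaf (XRule.rot (nat_lit 4661) [53, 9] 44 0)) (.leaf (XRule.rot (nat_lit 72333) [141, 141] 44 0))))) (.node (nat_lit 4)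 (.node (nat_lit 2) (.node (nat_lit 1) (.leaf (XRule.rot (nat_lit 94905) [185, 185] 44 0)) (.leaf (XRule.rot (nat_lit 162621) [317, 317] 44 0))) (.node (nat_lit 1) (.leaf (XRule.rot (nat_lit 49761) [97, 97] 44 0)) (.leaf (XRule.rot (nat_lit 117477) [229, 229] 44 0)))) (.node (nat_lit 2) (.node (nat_lit 1) (.leaf (XRule.rot (nat_lit 27145) [9, 53] 44 0)) (.leaf (XRule.rot (nat_lit 140049) [273, 273] 44 0))) (.node (nat_lit 1) (.leaf (XRule.rot (nat_lit 3422586594968205) [141, 97, 141, 97, 141, 97] 0 1)) (.leaf (XRule.rot (nat_lit 229041542871010305559780203017) [9, 141, 185, 9, 185, 141, 9, 141, 185, 9, 185] 40 0)))))) (.node (nat_lit 8) (.node (nat_lit 4) (.node (nat_lit 2) (.node (nat_lit 1) (.leaf (XRule.rot (nat_lit 174678359237076956782348495545) [185, 53, 185, 141, 53, 185, 53, 185, 141, 53, 141] 41 5)) (.leaf (XRule.rot (nat_lit 4967681203968609) [97, 141, 97, 141, 97, 141] 0 0))) (.node (nat_lit 1) (.leaf (XRule.rot (nat_lit 174572179928138986660145926841) [185,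 9, 185, 141, 9, 141, 185, 9, 185, 9, 141] 40 2)) (.leaf (XRule.rot (nat_lit 338511363368661120666492609033) [9, 273, 229, 9, 229, 9, 273, 229, 9, 229, 273] 42 6)))) (.node (nat_lit 2) (.node (nat_lit 1) (.leaf (XRule.rot (nat_lit 11172248988056337) [273, 317, 273, 317, 273, 317] 28 0)) (.leaf (XRule.rot (nat_lit 11695192997320731146250996497) [273, 229, 9, 229, 273, 9, 273, 229, 9, 229, 9] 42 1))) (.node (nat_lit 1) (.leaf (XRule.rot (nat_lit 448384468147882641461613285) [229, 9, 229, 9, 185, 53, 229, 53, 229, 185] 34 6)) (.leaf (XRule.rot (nat_lit 66271977494532943472185600741) [229, 53, 229, 273, 53, 273, 229, 53, 229, 273, 53] 43 0))))) (.node (nat_lit 4) (.node (nat_lit 2) (.node (nat_lit 1) (.leaf (XRule.rot (nat_lit 42572610145) [97, 317, 97, 317] 8 0)) (.leaf (XRule.rot (nat_lit 11483251158847052481443492493) [141, 185, 9, 185, 9, 141, 185, 9, 185, 141, 9] 40 7))) (.node (nat_lit 1) (.leaf (XRule.rot (nat_lit 174571973764158241910154334905) [185, 9, 185, 9,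 141, 185, 9, 185, 141, 9, 141] 40 8)) (.leaf (XRule.rot (nat_lit 229359868556717497314658578953) [9, 185, 141, 9, 141, 185, 9, 185, 9, 141, 185] 40 3)))) (.node (nat_lit 2) (.node (nat_lit 1) (.leaf (XRule.rot (nat_lit 24901939985) [273, 185, 273, 185] 20 1)) (.leaf (XRule.rot (nat_lit 11588807116988364477138563725) [141, 185, 9, 185, 141, 9, 141, 185, 9, 185, 9] 40 1))) (.node (nat_lit 1) (.leaf (XRule.rot (nat_lit 553732642174767046910636553) [9, 185, 53, 229, 53, 229, 185, 229, 9, 229] 34 9)) (.leaf (XRule.rot (nat_lit 174996892302658563763903732233) [9, 141, 185, 9, 185, 9, 141, 185, 9, 185, 141] 40 6))))))) (.node (nat_lit 16) (.node (nat_lit 8) (.node (nat_lit 4) (.node (nat_lit 2) (.node (nat_lit 1) (.leaf (XRule.rot (nat_lit 18996337425) [273, 141, 273, 141] 14 1)) (.leaf (XRule.rot (nat_lit 283511113601182040145345782281) [9, 273, 229, 9, 229, 273, 9, 273, 229, 9, 229] 42 0))) (.node (nat_lit 1) (.leaf (XRule.rot (nat_lit 30761405025) [97, 229, 97, 229] 4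 0)) (.leaf (XRule.rot (nat_lit 7127595617) [97, 317, 53, 53] 30 0)))) (.node (nat_lit 2) (.node (nat_lit 1) (.leaf (XRule.rot (nat_lit 283617706452396092607118559797) [53, 229, 273, 53, 273, 229, 53, 229, 273, 53, 229] 43 10)) (.leaf (XRule.rot (nat_lit 42584144525) [141, 317, 141, 317] 16 0))) (.node (nat_lit 1) (.leaf (XRule.rot (nat_lit 13079200485) [229, 97, 229, 97] 4 1)) (.leaf (XRule.rot (nat_lit 129019861814459588247055077) [229, 53, 229, 185, 229, 9, 229, 9, 185, 53] 34 2))))) (.node (nat_lit 4) (.node (nat_lit 2) (.node (nat_lit 1) (.leaf (XRule.rot (nat_lit 11589428846056808162417447609) [185, 9, 141, 185, 9, 185, 141, 9, 141, 185, 9] 40 10)) (.leaf (XRule.rot (nat_lit 11589428846843261336034810553) [185, 141, 9, 141, 185, 9, 185, 9, 141, 185, 9] 40 4))) (.node (nat_lit 1) (.leaf (XRule.rot (nat_lit 1210368829) [317, 97, 9, 9] 31 2)) (.leaf (XRule.rot (nat_lit 18984803045) [229, 141, 229, 141] 12 1)))) (.node (nat_lit 2) (.node (nat_lit 1) (.leaf (XRule.rot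 (nat_lit 13090734865) [273, 97, 273, 97] 6 1)) (.leaf (XRule.rot (nat_lit 11696437672938083044523512549) [229, 9, 273, 229, 9, 229, 273, 9, 273, 229, 9] 42 10))) (.node (nat_lit 1) (.leaf (XRule.rot (nat_lit 338511571152787918096392636981) [53, 229, 53, 229, 273, 53, 273, 229, 53, 229, 273] 43 1)) (.leaf (XRule.rot (nat_lit 337980682708034103794971448037) [229, 9, 229, 9, 273, 229, 9, 229, 273, 9, 273] 42 8)))))) (.node (nat_lit 8) (.node (nat_lit 4) (.node (nat_lit 2) (.node (nat_lit 1) (.leaf (XRule.rot (nat_lit 553940423920561572008020665) [185, 229, 9, 229, 9, 185, 53, 229, 53, 229] 34 5)) (.leaf (XRule.rot (nat_lit 284148387107482418317330074121) [9, 229, 273, 9, 273, 229, 9, 229, 9, 273, 229] 42 3))) (.node (nat_lit 1) (.leaf (XRule.rot (nat_lit 22636418039131865504551609) [185, 9, 229, 53, 185, 53, 185, 229, 185, 9] 36 8)) (.leaf (XRule.rot (nat_lit 65952613293229067044853740173) [141, 185, 53, 185, 141, 53, 185, 53, 185, 141, 53] 41 6)))) (.node (nat_lit 2)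 (.node (nat_lit 1) (.leaf (XRule.rot (nat_lit 66058376224636157880031320761) [185, 141, 53, 141, 185, 53, 185, 141, 53, 185, 53] 41 9)) (.leaf (XRule.rot (nat_lit 229147720965633694913401287221) [53, 185, 141, 53, 141, 185, 53, 185, 141, 53, 185] 41 10))) (.node (nat_lit 1) (.leaf (XRule.rot (nat_lit 42572474933) [53, 53, 97, 317] 30 2)) (.leaf (XRule.rot (nat_lit 337980472898731707100480934629) [229, 9, 229, 273, 9, 273, 229, 9, 229, 9, 273] 42 2))))) (.node (nat_lit 4) (.node (nat_lit 2) (.node (nat_lit 1) (.leaf (XRule.rot (nat_lit 229360075938180266787553505845) [53, 185, 141, 53, 185, 53, 185, 141, 53, 141, 185] 41 4)) (.leaf (XRule.rot (nat_lit 13067666105) [185, 97, 185, 97] 2 1))) (.node (nat_lit 1) (.leaf (XRule.rot (nat_lit 13102223881) [9, 9, 317, 97] 31 0)) (.leaf (XRule.rot (nat_lit 24855802465) [97, 185, 97, 185] 2 0)))) (.node (nat_lit 2) (.node (nat_lit 1) (.leaf (XRule.rot (nat_lit 66271977494525218022659312401) [273, 229, 53, 229, 273, 53, 229, 53,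 229, 273, 53] 43 6)) (.leaf (XRule.rot (nat_lit 1233549833) [9, 317, 97, 9] 31 3))) (.node (nat_lit 1) (.leaf (XRule.rot (nat_lit 42595678905) [185, 317, 185, 317] 22 0)) (.leaf (XRule.rot (nat_lit 229359868154053472422568751625) [9, 185, 9, 141, 185, 9, 185, 141, 9, 141, 185] 40 9)))))))) (.node (nat_lit 32) (.node (nat_lit 16) (.node (nat_lit 8) (.node (nat_lit 4) (.node (nat_lit 2) (.node (nat_lit 1) (.leaf (XRule.rot (nat_lit 13102269245) [317, 97, 317, 97] 8 1)) (.leaf (XRule.rot (nat_lit 19007871805) [317, 141, 317, 141] 16 1))) (.node (nat_lit 1) (.leaf (XRule.rot (nat_lit 129228050975441916207133413) [229, 185, 229, 9, 229, 9, 185, 53, 229, 53] 34 4)) (.leaf (XRule.rot (nat_lit 338087068180952809613911419621) [229, 53, 229, 273, 53, 229, 53, 229, 273, 53, 273] 43 5)))) (.node (nat_lit 2) (.node (nat_lit 1) (.leaf (XRule.rot (nat_lit 447554545967652689490047717) [229, 185, 9, 185, 9, 229, 53, 185, 53, 185] 36 5)) (.leaf (XRule.rot (nat_lit 284148595301393006408176618037)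 [53, 229, 273, 53, 229, 53, 229, 273, 53, 273, 229] 43 4))) (.node (nat_lit 1) (.leaf (XRule.rot (nat_lit 554562155356093233674588857) [185, 9, 185, 9, 229, 53, 185, 53, 185, 229] 36 6)) (.leaf (XRule.rot (nat_lit 30772939405) [141, 229, 141, 229] 12 0))))) (.node (nat_lit 4) (.node (nat_lit 2) (.node (nat_lit 1) (.leaf (XRule.rot (nat_lit 66165799807323187785294553829) [229, 273, 53, 229, 53, 229, 273, 53, 273, 229, 53] 43 3)) (.leaf (XRule.rot (nat_lit 11696437672137724072368153317) [229, 273, 9, 273, 229, 9, 229, 9, 273, 229, 9] 42 4))) (.node (nat_lit 1) (.leaf (XRule.rot (nat_lit 36678541965) [141, 273, 141, 273] 14 0)) (.leaf (XRule.rot (nat_lit 22843797128645066346468069) [229, 9, 185, 53, 229, 53, 229, 185, 229, 9] 34 8)))) (.node (nat_lit 2) (.node (nat_lit 1) (.leaf (XRule.rot (nat_lit 554563776297851495299533321) [9, 229, 9, 185, 53, 229, 53, 229, 185, 229] 34 7)) (.leaf (XRule.rot (nat_lit 338511571148832487938933006901) [53, 273, 229, 53, 229, 273, 53,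 229, 53, 229, 273] 43 7))) (.node (nat_lit 1) (.leaf (XRule.rot (nat_lit 7196688949) [53, 97, 317, 53] 30 3)) (.leaf (XRule.rot (nat_lit 22634388903476206929996517) [229, 53, 185, 53, 185, 229, 185, 9, 185, 9] 36 0)))))) (.node (nat_lit 8) (.node (nat_lit 4) (.node (nat_lit 2) (.node (nat_lit 1) (.leaf (XRule.rot (nat_lit 22842173819810917033208505) [185, 53, 229, 53, 229, 185, 229, 9, 229, 9] 34 0)) (.leaf (XRule.rot (nat_lit 66164762915039990688026862309) [229, 273, 53, 273, 229, 53, 229, 273, 53, 229, 53] 43 9))) (.node (nat_lit 1) (.leaf (XRule.rot (nat_lit 36667007585) [97, 273, 97, 273] 6 0)) (.leaf (XRule.rot (nat_lit 174997100085203187302480026165) [53, 141, 185, 53, 185, 141, 53, 185, 53, 185, 141] 41 7)))) (.node (nat_lit 2) (.node (nat_lit 1) (.leaf (XRule.rot (nat_lit 129227645147069300456319673) [185, 53, 185, 229, 185, 9, 185, 9, 229, 53] 36 2)) (.leaf (XRule.rot (nat_lit 4973728540990137) [185, 141, 185, 141, 185, 141] 10 1))) (.node (nat_lit 1) (.leaf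 (XRule.rot (nat_lit 447554951001840664368738869) [53, 185, 229, 185, 9, 185, 9, 229, 53, 185] 36 3)) (.leaf (XRule.rot (nat_lit 448385682467092664238305801) [9, 185, 9, 229, 53, 185, 53, 185, 229, 185] 36 7))))) (.node (nat_lit 4) (.node (nat_lit 2) (.node (nat_lit 1) (.leaf (XRule.rot (nat_lit 42549383777) [97, 9, 9, 317] 31 1)) (.leaf (XRule.rot (nat_lit 66058790980441912903223024313) [185, 141, 53, 185, 53, 185, 141, 53, 141, 185, 53] 41 3))) (.node (nat_lit 1) (.leaf (XRule.rot (nat_lit 42607213285) [229, 317, 229, 317] 26 0)) (.leaf (XRule.rot (nat_lit 11802615360147838725393861393) [273, 229, 9, 229, 9, 273, 229, 9, 229, 273, 9] 42 7)))) (.node (nat_lit 2) (.node (nat_lit 1) (.leaf (XRule.rot (nat_lit 9627154379055933) [317, 273, 317, 273, 317, 273] 28 1)) (.leaf (XRule.rot (nat_lit 229041542871011841601134924429) [141, 9, 141, 185, 9, 185, 9, 141, 185, 9, 185] 40 5))) (.node (nat_lit 1) (.leaf (XRule.rot (nat_lit 554558135152161535159438585467836897019559293536703205)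 [229, 9, 141, 185, 229, 9, 141, 185, 229, 9, 141, 185, 229, 9, 141, 185, 229, 9, 141, 185] 38 2)) (.leaf (XRule.rot (nat_lit 229147928343929026467477088909) [141, 53, 185, 53, 185, 141, 53, 141, 185, 53, 185] 41 2))))))) (.node (nat_lit 16) (.node (nat_lit 8) (.node (nat_lit 4) (.node (nat_lit 2) (.node (nat_lit 1) (.leaf (XRule.rot (nat_lit 553940017301106528398723637) [53, 229, 185, 229, 9, 229, 9, 185, 53, 229] 34 3)) (.leaf (XRule.rot (nat_lit 284148387517266212060874000905) [9, 229, 9, 273, 229, 9, 229, 273, 9, 273, 229] 42 9))) (.node (nat_lit 1) (.leaf (XRule.rot (nat_lit 174997100086785355140595806773) [53, 185, 53, 185, 141, 53, 141, 185, 53, 185, 141] 41 1)) (.leaf (XRule.rot (nat_lit 229147927533859093352197417613) [141, 53, 141, 185, 53, 185, 141, 53, 185, 53, 185] 41 8)))) (.node (nat_lit 2) (.node (nat_lit 1) (.leaf (XRule.rot (nat_lit 6518823149990541) [141, 185, 141, 185, 141, 185] 10 0)) (.leaf (XRule.rot (nat_lit 129020267642826162566449849) [185,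 229, 185, 9, 185, 9, 229, 53, 185, 53] 36 4))) (.node (nat_lit 1) (.leaf (XRule.rot (nat_lit 686515697252813886912540835552516874893966441940589065) [9, 141, 185, 229, 9, 141, 185, 229, 9, 141, 185, 229, 9, 141, 185, 229, 9, 141, 185, 229] 38 3)) (.leaf (XRule.rot (nat_lit 283617497048920520433711999761) [273, 53, 273, 229, 53, 229, 273, 53, 229, 53, 229] 43 8))))) (.node (nat_lit 4) (.node (nat_lit 2) (.node (nat_lit 1) (.leaf (XRule.rot (nat_lit 159463638081676512226875839072690429908527564998406885) [229, 185, 141, 53, 229, 185, 141, 53, 229, 185, 141, 53, 229, 185, 141, 53, 229, 185, 141, 53] 39 3)) (.leaf (XRule.rot (nat_lit 554563781049017441609697977) [185, 229, 185, 229, 185, 97, 317, 229, 185, 229] 32 5))) (.node (nat_lit 1) (.leaf (XRule.rot (nat_lit 236030714673237866519579321) [185, 229, 185, 229, 185, 229, 185, 229, 317, 97] 33 0)) (.leaf (XRule.rot (nat_lit 9621107042034405) [229, 273, 229, 273, 229, 273] 24 0)))) (.node (nat_lit 2) (.node (nat_lit 1)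 (.leaf (XRule.rot (nat_lit 8076012433034001) [273, 229, 273, 229, 273, 229] 24 1)) (.leaf (XRule.rot (nat_lit 13033040701) [317, 53, 53, 97] 30 1))) (.node (nat_lit 1) (.leaf (XRule.rot (nat_lit 447346765011395474066098697) [9, 229, 53, 185, 53, 185, 229, 185, 9, 185] 36 9)) (.leaf (XRule.rot (nat_lit 36690076345) [185, 273, 185, 273] 20 0)))))) (.node (nat_lit 8) (.node (nat_lit 4) (.node (nat_lit 2) (.node (nat_lit 1) (.leaf (XRule.rot (nat_lit 283511113601180476944228291345) [273, 9, 273, 229, 9, 229, 9, 273, 229, 9, 229] 42 5)) (.leaf (XRule.rot (nat_lit 28279249150480104711206375156065038139575426839048845) [141, 185, 229, 9, 141, 185, 229, 9, 141, 185, 229, 9, 141, 185, 229, 9, 141, 185, 229, 9] 38 0))) (.node (nat_lit 1) (.leaf (XRule.rot (nat_lit 283617499074100761053042600721) [273, 53, 229, 53, 229, 273, 53, 273, 229, 53, 229] 43 2)) (.leaf (XRule.rot (nat_lit 685744028313223095852125673938463854450390208095787705) [185, 141, 53, 229, 185, 141, 53, 229, 185,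 141, 53, 229, 185, 141, 53, 229, 185, 141, 53, 229] 39 2)))) (.node (nat_lit 2) (.node (nat_lit 1) (.leaf (XRule.rot (nat_lit 423119031926264767168037166251113381372939803453409845) [53, 229, 185, 141, 53, 229, 185, 141, 53, 229, 185, 141, 53, 229, 185, 141, 53, 229, 185, 141] 39 0)) (.leaf (XRule.rot (nat_lit 554562563568552913895017145) [185, 229, 185, 229, 185, 229, 317, 97, 185, 229] 33 8))) (.node (nat_lit 1) (.leaf (XRule.rot (nat_lit 554563778675770228727990969) [185, 229, 185, 97, 317, 229, 185, 229, 185, 229] 32 7)) (.leaf (XRule.rot (nat_lit 555073084157231761508098292376456372702963140257933965) [141, 53, 229, 185, 141, 53, 229, 185, 141, 53, 229, 185, 141, 53, 229, 185, 141, 53, 229, 185] 39 1))))) (.node (nat_lit 4) (.node (nat_lit 2) (.node (nat_lit 1) (.leaf (XRule.rot (nat_lit 448385685637638908369269477) [229, 185, 97, 317, 229, 185, 229, 185, 229, 185] 32 8)) (.leaf (XRule.rot (nat_lit 422090137717267205338355736725292304547620686825638585) [185,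 229, 9, 141, 185, 229, 9, 141, 185, 229, 9, 141, 185, 229, 9, 141, 185, 229, 9, 141] 38 1))) (.node (nat_lit 1) (.leaf (XRule.rot (nat_lit 448386900744847152265917157) [229, 185, 229, 185, 229, 185, 97, 317, 229, 185] 32 4)) (.leaf (XRule.rot (nat_lit 448385685637629837432943333) [229, 185, 229, 317, 97, 185, 229, 185, 229, 185] 33 5)))) (.node (nat_lit 2) (.node (nat_lit 1) (.leaf (XRule.rot (nat_lit 448385683264382624551236325) [229, 185, 229, 185, 229, 317, 97, 185, 229, 185] 33 7)) (.leaf (XRule.rot (nat_lit 554563778671125909329005241) [185, 229, 185, 229, 317, 97, 185, 229, 185, 229] 33 6))) (.node (nat_lit 1) (.leaf (XRule.rot (nat_lit 448385685642274156831929061) [229, 185, 229, 185, 97, 317, 229, 185, 229, 185] 32 6)) (.leaf (XRule.rot (nat_lit 555185913566391103811603129) [185, 229, 185, 229, 185, 229, 185, 97, 317, 229] 32 3))))))))) (.node (nat_lit 2) (.node (nat_lit 1) (.leaf (XRule.rot (nat_lit 447763550747008962349331173) [229, 185, 229, 185, 229, 185,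 229, 317, 97, 185] 33 9)) (.leaf (XRule.rot (nat_lit 554563778675761175508337337) [185, 97, 317, 229, 185, 229, 185, 229, 185, 229] 32 9))) (.leaf (XRule.rot (nat_lit 448385685637638890652596965) [229, 317, 97, 185, 229, 185, 229, 185, 229, 185] 33 3))))⟩
noncomputable def ci9 : CI := ⟨[0], (nat_lit 53), false, (.node (nat_lit 16) (.node (nat_lit 8) (.node (nat_lit 4) (.node (nat_lit 2) (.node (nat_lit 1) (.leaf Rule.defn) (.leaf Rule.copy)) (.node (nat_lit 1) (.leaf (Rule.fwd [nat_lit 53] 44 0)) (.leaf (Rule.fwd [nat_lit 317, nat_lit 97, nat_lit 9] 31 3)))) (.node (nat_lit 2) (.node (nat_lit 1) (.leaf (Rule.fwd [nat_lit 9, nat_lit 317, nat_lit 97] 31 0)) (.leaf (Rule.fwd [nat_lit 229, nat_lit 9, nat_lit 185, nat_lit 53, nat_lit 229, nat_lit 53, nat_lit 229, nat_lit 185, nat_lit 229] 34 7))) (.node (nat_lit 1) (.leaf (Rule.fwd [nat_lit 185, nat_lit 9, nat_lit 229, nat_lit 53, nat_lit 185, nat_lit 53, nat_lit 185, nat_lit 229, nat_lit 185] 36 7)) (.leaf (Rule.fwd [nat_lit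 141, nat_lit 185, nat_lit 9, nat_lit 185, nat_lit 9, nat_lit 141, nat_lit 185, nat_lit 9, nat_lit 185, nat_lit 141] 40 6))))) (.node (nat_lit 4) (.node (nat_lit 2) (.node (nat_lit 1) (.leaf (Rule.fwd [nat_lit 229, nat_lit 9, nat_lit 273, nat_lit 229, nat_lit 9, nat_lit 229, nat_lit 273, nat_lit 9, nat_lit 273, nat_lit 229] 42 9)) (.leaf (Rule.fwd [nat_lit 185, nat_lit 141, nat_lit 9, nat_lit 141, nat_lit 185, nat_lit 9, nat_lit 185, nat_lit 9, nat_lit 141, nat_lit 185] 40 3))) (.node (nat_lit 1) (.leaf (Rule.fwd [nat_lit 185, nat_lit 9, nat_lit 141, nat_lit 185, nat_lit 9, nat_lit 185, nat_lit 141, nat_lit 9, nat_lit 141, nat_lit 185] 40 9)) (.leaf (Rule.fwd [nat_lit 273, nat_lit 229, nat_lit 9, nat_lit 229, nat_lit 9, nat_lit 273, nat_lit 229, nat_lit 9, nat_lit 229, nat_lit 273] 42 6)))) (.node (nat_lit 2) (.node (nat_lit 1) (.leaf (Rule.fwd [nat_lit 229, nat_lit 53, nat_lit 185, nat_lit 53, nat_lit 185, nat_lit 229, nat_lit 185, nat_lit 9, nat_lit 185] 36 9)) (.leaf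 (Rule.fwd [nat_lit 229, nat_lit 273, nat_lit 9, nat_lit 273, nat_lit 229, nat_lit 9, nat_lit 229, nat_lit 9, nat_lit 273, nat_lit 229] 42 3))) (.node (nat_lit 1) (.leaf (Rule.fwd [nat_lit 141, nat_lit 185, nat_lit 229, nat_lit 9, nat_lit 141, nat_lit 185, nat_lit 229, nat_lit 9, nat_lit 141, nat_lit 185, nat_lit 229, nat_lit 9, nat_lit 141, nat_lit 185, nat_lit 229, nat_lit 9, nat_lit 141, nat_lit 185, nat_lit 229] 38 3)) (.leaf (Rule.fwd [nat_lit 273, nat_lit 229, nat_lit 9, nat_lit 229, nat_lit 273, nat_lit 9, nat_lit 273, nat_lit 229, nat_lit 9, nat_lit 229] 42 0)))))) (.node (nat_lit 1) (.leaf (Rule.fwd [nat_lit 185, nat_lit 53, nat_lit 229, nat_lit 53, nat_lit 229, nat_lit 185, nat_lit 229, nat_lit 9, nat_lit 229] 34 9)) (.leaf (Rule.fwd [nat_lit 141, nat_lit 185, nat_lit 9, nat_lit 185, nat_lit 141, nat_lit 9, nat_lit 141, nat_lit 185, nat_lit 9, nat_lit 185] 40 0)))), (.node (nat_lit 16) (.node (nat_lit 8) (.node (nat_lit 4) (.node (nat_lit 2) (.node (nat_lit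 1) (.leaf XRule.defn) (.leaf XRule.defn)) (.node (nat_lit 1) (.leaf (XRule.rot (nat_lit 2409277) [317, 97, 9] 31 3)) (.leaf (XRule.rot (nat_lit 25590281) [9, 317, 97] 31 0)))) (.node (nat_lit 2) (.node (nat_lit 1) (.leaf (XRule.rot (nat_lit 447968492488385688325329593) [185, 9, 141, 185, 9, 185, 141, 9, 141, 185] 40 9)) (.leaf (XRule.rot (nat_lit 447968493274838861942692537) [185, 141, 9, 141, 185, 9, 185, 9, 141, 185] 40 3))) (.node (nat_lit 1) (.leaf (XRule.rot (nat_lit 53) [53] 44 0)) (.leaf (XRule.rot (nat_lit 553732643752308672158878481) [273, 229, 9, 229, 273, 9, 273, 229, 9, 229] 42 0))))) (.node (nat_lit 4) (.node (nat_lit 2) (.node (nat_lit 1) (.leaf (XRule.rot (nat_lit 1083132375581741201756901) [229, 9, 185, 53, 229, 53, 229, 185, 229] 34 7)) (.leaf (XRule.rot (nat_lit 447346763419942003046445709) [141, 185, 9, 185, 141, 9, 141, 185, 9, 185] 40 0))) (.node (nat_lit 1) (.leaf (XRule.rot (nat_lit 1081509066747591888497337) [185, 53, 229, 53, 229, 185, 229,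 9, 229] 34 9)) (.leaf (XRule.rot (nat_lit 875753286068540359840441) [185, 9, 229, 53, 185, 53, 185, 229, 185] 36 7)))) (.node (nat_lit 2) (.node (nat_lit 1) (.leaf (XRule.rot (nat_lit 554977318569301598276035301) [229, 273, 9, 273, 229, 9, 229, 9, 273, 229] 42 3)) (.leaf (XRule.rot (nat_lit 554977319369660570431394533) [229, 9, 273, 229, 9, 229, 273, 9, 273, 229] 42 9))) (.node (nat_lit 1) (.leaf (XRule.rot (nat_lit 341790805278630007351374477) [141, 185, 9, 185, 9, 141, 185, 9, 185, 141] 40 6)) (.leaf (XRule.rot (nat_lit 661155006579416251301743377) [273, 229, 9, 229, 9, 273, 229, 9, 229, 273] 42 6)))))) (.node (nat_lit 1) (.leaf (XRule.rot (nat_lit 873724150412881785285349) [229, 53, 185, 53, 185, 229, 185, 9, 185] 36 9)) (.leaf (XRule.rot (nat_lit 1340850971196902122876056319438509521277278206915213) [141, 185, 229, 9, 141, 185, 229, 9, 141, 185, 229, 9, 141, 185, 229, 9, 141, 185, 229] 38 3))))⟩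
noncomputable def ci53 : CI := ⟨[1], (nat_lit 9), false, (.node (nat_lit 16) (.node (nat_lit 8) (.node (nat_lit 4) (.node (nat_lit 2) (.node (nat_lit 1) (.leaf Rule.defn) (.leaf Rule.copy)) (.node (nat_lit 1) (.leaf (Rule.fwd [nat_lit 9] 44 0)) (.leaf (Rule.fwd [nat_lit 141, nat_lit 185, nat_lit 53, nat_lit 185, nat_lit 141, nat_lit 53, nat_lit 185, nat_lit 53, nat_lit 185, nat_lit 141] 41 7)))) (.node (nat_lit 2) (.node (nat_lit 1) (.leaf (Rule.fwd [nat_lit 53, nat_lit 97, nat_lit 317] 30 2)) (.leaf (Rule.fwd [nat_lit 97, nat_lit 317, nat_lit 53] 30 3))) (.node (nat_lit 1) (.leaf (Rule.fwd [nat_lit 185, nat_lit 229, nat_lit 185, nat_lit 9, nat_lit 185, nat_lit 9, nat_lit 229, nat_lit 53, nat_lit 185] 36 3)) (.leaf (Rule.fwd [nat_lit 229, nat_lit 273, nat_lit 53, nat_lit 273, nat_lit 229, nat_lit 53, nat_lit 229, nat_lit 273, nat_lit 53, nat_lit 229] 43 10))))) (.node (nat_lit 4) (.node (nat_lit 2) (.node (nat_lit 1) (.leaf (Rule.fwd [nat_lit 229, nat_lit 185, nat_lit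 229, nat_lit 9, nat_lit 229, nat_lit 9, nat_lit 185, nat_lit 53, nat_lit 229] 34 3)) (.leaf (Rule.fwd [nat_lit 273, nat_lit 229, nat_lit 53, nat_lit 229, nat_lit 273, nat_lit 53, nat_lit 229, nat_lit 53, nat_lit 229, nat_lit 273] 43 7))) (.node (nat_lit 1) (.leaf (Rule.fwd [nat_lit 229, nat_lit 273, nat_lit 53, nat_lit 229, nat_lit 53, nat_lit 229, nat_lit 273, nat_lit 53, nat_lit 273, nat_lit 229] 43 4)) (.leaf (Rule.fwd [nat_lit 185, nat_lit 141, nat_lit 53, nat_lit 185, nat_lit 53, nat_lit 185, nat_lit 141, nat_lit 53, nat_lit 141, nat_lit 185] 41 4)))) (.node (nat_lit 2) (.node (nat_lit 1) (.leaf (Rule.fwd [nat_lit 229, nat_lit 53, nat_lit 229, nat_lit 185, nat_lit 229, nat_lit 9, nat_lit 229, nat_lit 9, nat_lit 185] 34 1)) (.leaf (Rule.fwd [nat_lit 229, nat_lit 53, nat_lit 229, nat_lit 273, nat_lit 53, nat_lit 273, nat_lit 229, nat_lit 53, nat_lit 229, nat_lit 273] 43 1))) (.node (nat_lit 1) (.leaf (Rule.fwd [nat_lit 185, nat_lit 141, nat_lit 53, nat_lit 141,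 nat_lit 185, nat_lit 53, nat_lit 185, nat_lit 141, nat_lit 53, nat_lit 185] 41 10)) (.leaf (Rule.fwd [nat_lit 185, nat_lit 53, nat_lit 185, nat_lit 141, nat_lit 53, nat_lit 141, nat_lit 185, nat_lit 53, nat_lit 185, nat_lit 141] 41 1)))))) (.node (nat_lit 1) (.leaf (Rule.fwd [nat_lit 185, nat_lit 53, nat_lit 185, nat_lit 229, nat_lit 185, nat_lit 9, nat_lit 185, nat_lit 9, nat_lit 229] 36 1)) (.leaf (Rule.fwd [nat_lit 229, nat_lit 185, nat_lit 141, nat_lit 53, nat_lit 229, nat_lit 185, nat_lit 141, nat_lit 53, nat_lit 229, nat_lit 185, nat_lit 141, nat_lit 53, nat_lit 229, nat_lit 185, nat_lit 141, nat_lit 53, nat_lit 229, nat_lit 185, nat_lit 141] 39 0)))), (.node (nat_lit 16) (.node (nat_lit 8) (.node (nat_lit 4) (.node (nat_lit 2) (.node (nat_lit 1) (.leaf XRule.defn) (.leaf XRule.defn)) (.node (nat_lit 1) (.leaf (XRule.rot (nat_lit 14056033) [97, 317, 53] 30 3)) (.leaf (XRule.rot (nat_lit 83149365) [53, 97, 317] 30 2)))) (.node (nat_lit 2) (.node (nat_lit 1) (.leaf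 (XRule.rot (nat_lit 553940832914836118373278437) [229, 273, 53, 273, 229, 53, 229, 273, 53, 229] 43 10)) (.leaf (XRule.rot (nat_lit 9) [9] 44 0))) (.node (nat_lit 1) (.leaf (XRule.rot (nat_lit 447968898316758333569440441) [185, 141, 53, 185, 53, 185, 141, 53, 141, 185] 41 4)) (.leaf (XRule.rot (nat_lit 554977725198033215640969957) [229, 273, 53, 229, 53, 229, 273, 53, 273, 229] 43 4))))) (.node (nat_lit 4) (.node (nat_lit 2) (.node (nat_lit 1) (.leaf (XRule.rot (nat_lit 1081914096291223688278757) [229, 185, 229, 9, 229, 9, 185, 53, 229] 34 3)) (.leaf (XRule.rot (nat_lit 874130763675470047595193) [185, 229, 185, 9, 185, 9, 229, 53, 185] 36 3))) (.node (nat_lit 1) (.leaf (XRule.rot (nat_lit 341791211103912475200156301) [141, 185, 53, 185, 141, 53, 185, 53, 185, 141] 41 7)) (.leaf (XRule.rot (nat_lit 341791211107002646758976185) [185, 53, 185, 141, 53, 141, 185, 53, 185, 141] 41 1)))) (.node (nat_lit 2) (.node (nat_lit 1) (.leaf (XRule.rot (nat_lit 1081508267918607937465017)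 [185, 53, 185, 229, 185, 9, 185, 9, 229] 36 1)) (.leaf (XRule.rot (nat_lit 661155412400063453005728529) [273, 229, 53, 229, 273, 53, 229, 53, 229, 273] 43 7))) (.node (nat_lit 1) (.leaf (XRule.rot (nat_lit 661155412407788902532016869) [229, 53, 229, 273, 53, 273, 229, 53, 229, 273] 43 1)) (.leaf (XRule.rot (nat_lit 447554142511003310377736889) [185, 141, 53, 141, 185, 53, 185, 141, 53, 185] 41 10)))))) (.node (nat_lit 1) (.leaf (XRule.rot (nat_lit 873724935308895728200421) [229, 53, 229, 185, 229, 9, 229, 9, 185] 34 1)) (.leaf (XRule.rot (nat_lit 826404359230985873375072590334205822994023053619941) [229, 185, 141, 53, 229, 185, 141, 53, 229, 185, 141, 53, 229, 185, 141, 53, 229, 185, 141] 39 0))))⟩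
noncomputable def ci97 : CI := ⟨[2], (nat_lit 97), true, (.node (nat_lit 8) (.node (nat_lit 4) (.node (nat_lit 2) (.node (nat_lit 1) (.leaf Rule.defn) (.leaf Rule.copy)) (.node (nat_lit 1) (.leaf (Rule.fwd [nat_lit 97] 44 0)) (.leaf (Rule.fwd [nat_lit 185, nat_lit 97, nat_lit 185] 2 0)))) (.node (nat_lit 2) (.node (nat_lit 1) (.leaf (Rule.fwd [nat_lit 229, nat_lit 97, nat_lit 229] 4 0)) (.leaf (Rule.fwd [nat_lit 273, nat_lit 97, nat_lit 273] 6 0))) (.node (nat_lit 1) (.leaf (Rule.fwd [nat_lit 317, nat_lit 97, nat_lit 317] 8 0)) (.leaf (Rule.fwd [nat_lit 141, nat_lit 97, nat_lit 141, nat_lit 97, nat_lit 141] 0 0))))) (.node (nat_lit 2) (.node (nat_lit 1) (.leaf (Rule.fwd [nat_lit 317, nat_lit 53, nat_lit 53] 30 0)) (.leaf (Rule.fwd [nat_lit 9, nat_lit 9, nat_lit 317] 31 1))) (.node (nat_lit 1) (.leaf (Rule.fwd [nat_lit 317, nat_lit 229, nat_lit 185, nat_lit 229, nat_lit 185, nat_lit 229, nat_lit 185, nat_lit 229, nat_lit 185] 32 0)) (.leaf (Rule.fwd [nat_lit 185, nat_lit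 229, nat_lit 185, nat_lit 229, nat_lit 185, nat_lit 229, nat_lit 185, nat_lit 229, nat_lit 317] 33 1))))), (.node (nat_lit 8) (.node (nat_lit 4) (.node (nat_lit 2) (.node (nat_lit 1) (.leaf XRule.defn) (.leaf XRule.ax)) (.node (nat_lit 1) (.leaf (XRule.rot (nat_lit 48546489) [185, 97, 185] 2 0)) (.leaf (XRule.rot (nat_lit 60080869) [229, 97, 229] 4 0)))) (.node (nat_lit 2) (.node (nat_lit 1) (.leaf (XRule.rot (nat_lit 71615249) [273, 97, 273] 6 0)) (.leaf (XRule.rot (nat_lit 83149629) [317, 97, 317] 8 0))) (.node (nat_lit 1) (.leaf (XRule.rot (nat_lit 97) [97] 44 0)) (.leaf (XRule.rot (nat_lit 9702502351501) [141, 97, 141, 97, 141] 0 0))))) (.node (nat_lit 1) (.leaf (XRule.rot (nat_lit 13921085) [317, 53, 53] 30 0)) (.leaf (XRule.rot (nat_lit 83104265) [9, 9, 317] 31 1))))⟩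
noncomputable def ci141 : CI := ⟨[3], (nat_lit 141), true, (.node (nat_lit 8) (.node (nat_lit 4) (.node (nat_lit 2) (.node (nat_lit 1) (.leaf Rule.defn) (.leaf Rule.copy)) (.node (nat_lit 1) (.leaf (Rule.fwd [nat_lit 141] 44 0)) (.leaf (Rule.fwd [nat_lit 229, nat_lit 141, nat_lit 229] 12 0)))) (.node (nat_lit 2) (.node (nat_lit 1) (.leaf (Rule.fwd [nat_lit 273, nat_lit 141, nat_lit 273] 14 0)) (.leaf (Rule.fwd [nat_lit 317, nat_lit 141, nat_lit 317] 16 0))) (.node (nat_lit 1) (.leaf (Rule.fwd [nat_lit 185, nat_lit 53, nat_lit 185, nat_lit 141, nat_lit 53, nat_lit 185, nat_lit 53, nat_lit 185, nat_lit 141, nat_lit 53] 41 6)) (.leaf (Rule.fwd [nat_lit 185, nat_lit 141, nat_lit 185, nat_lit 141, nat_lit 185] 10 0))))) (.node (nat_lit 4) (.node (nat_lit 2) (.node (nat_lit 1) (.leaf (Rule.fwd [nat_lit 185, nat_lit 9, nat_lit 185, nat_lit 141, nat_lit 9, nat_lit 141, nat_lit 185, nat_lit 9, nat_lit 185, nat_lit 9] 40 1)) (.leaf (Rule.fwd [nat_lit 53, nat_lit 141, nat_lit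 185, nat_lit 53, nat_lit 185, nat_lit 141, nat_lit 53, nat_lit 185, nat_lit 53, nat_lit 185] 41 8))) (.node (nat_lit 1) (.leaf (Rule.fwd [nat_lit 97, nat_lit 141, nat_lit 97, nat_lit 141, nat_lit 97] 0 1)) (.leaf (Rule.fwd [nat_lit 185, nat_lit 9, nat_lit 185, nat_lit 9, nat_lit 141, nat_lit 185, nat_lit 9, nat_lit 185, nat_lit 141, nat_lit 9] 40 7)))) (.node (nat_lit 2) (.node (nat_lit 1) (.leaf (Rule.fwd [nat_lit 9, nat_lit 141, nat_lit 185, nat_lit 9, nat_lit 185, nat_lit 9, nat_lit 141, nat_lit 185, nat_lit 9, nat_lit 185] 40 5)) (.leaf (Rule.fwd [nat_lit 53, nat_lit 229, nat_lit 185, nat_lit 141, nat_lit 53, nat_lit 229, nat_lit 185, nat_lit 141, nat_lit 53, nat_lit 229, nat_lit 185, nat_lit 141, nat_lit 53, nat_lit 229, nat_lit 185, nat_lit 141, nat_lit 53, nat_lit 229, nat_lit 185] 39 1))) (.node (nat_lit 1) (.leaf (Rule.fwd [nat_lit 185, nat_lit 229, nat_lit 9, nat_lit 141, nat_lit 185, nat_lit 229, nat_lit 9, nat_lit 141, nat_lit 185, nat_lit 229, nat_lit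 9, nat_lit 141, nat_lit 185, nat_lit 229, nat_lit 9, nat_lit 141, nat_lit 185, nat_lit 229, nat_lit 9] 38 0)) (.leaf (Rule.fwd [nat_lit 53, nat_lit 185, nat_lit 53, nat_lit 185, nat_lit 141, nat_lit 53, nat_lit 141, nat_lit 185, nat_lit 53, nat_lit 185] 41 2)))))), (.node (nat_lit 8) (.node (nat_lit 4) (.node (nat_lit 2) (.node (nat_lit 1) (.leaf XRule.defn) (.leaf XRule.ax)) (.node (nat_lit 1) (.leaf (XRule.rot (nat_lit 6684739443297) [97, 141, 97, 141, 97] 0 1)) (.leaf (XRule.rot (nat_lit 22428224919623149377819321) [185, 9, 185, 9, 141, 185, 9, 185, 141, 9] 40 7)))) (.node (nat_lit 2) (.node (nat_lit 1) (.leaf (XRule.rot (nat_lit 60103397) [229, 141, 229] 12 0)) (.leaf (XRule.rot (nat_lit 71637777) [273, 141, 273] 14 0))) (.node (nat_lit 1) (.leaf (XRule.rot (nat_lit 141) [141] 44 0)) (.leaf (XRule.rot (nat_lit 83172157) [317, 141, 317] 16 0))))) (.node (nat_lit 4) (.node (nat_lit 2) (.node (nat_lit 1) (.leaf (XRule.rot (nat_lit 447346763419945003127216649) [9,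 141, 185, 9, 185, 9, 141, 185, 9, 185] 40 5)) (.leaf (XRule.rot (nat_lit 12732076464825) [185, 141, 185, 141, 185] 10 0))) (.node (nat_lit 1) (.leaf (XRule.rot (nat_lit 128813697838338021571979961) [185, 53, 185, 141, 53, 185, 53, 185, 141, 53] 41 6)) (.leaf (XRule.rot (nat_lit 447554545964568541703510581) [53, 141, 185, 53, 185, 141, 53, 185, 53, 185] 41 8)))) (.node (nat_lit 2) (.node (nat_lit 1) (.leaf (XRule.rot (nat_lit 22634388900367899369411257) [185, 9, 185, 141, 9, 141, 185, 9, 185, 9] 40 1)) (.leaf (XRule.rot (nat_lit 447554547546736379819291189) [53, 185, 53, 185, 141, 53, 141, 185, 53, 185] 41 2))) (.node (nat_lit 1) (.leaf (XRule.rot (nat_lit 55232908497031454514074951476689527616358255545017) [185, 229, 9, 141, 185, 229, 9, 141, 185, 229, 9, 141, 185, 229, 9, 141, 185, 229, 9] 38 0)) (.leaf (XRule.rot (nat_lit 1084127117494593284195504477297766352935474883316277) [53, 229, 185, 141, 53, 229, 185, 141, 53, 229, 185, 141, 53, 229, 185, 141, 53, 229, 185]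 39 1))))))⟩
noncomputable def ci185 : CI := ⟨[4], (nat_lit 185), true, (.node (nat_lit 16) (.node (nat_lit 8) (.node (nat_lit 4) (.node (nat_lit 2) (.node (nat_lit 1) (.leaf Rule.defn) (.leaf Rule.copy)) (.node (nat_lit 1) (.leaf (Rule.fwd [nat_lit 185] 44 0)) (.leaf (Rule.fwd [nat_lit 229, nat_lit 9, nat_lit 229, nat_lit 9, nat_lit 185, nat_lit 53, nat_lit 229, nat_lit 53, nat_lit 229] 34 5)))) (.node (nat_lit 2) (.node (nat_lit 1) (.leaf (Rule.fwd [nat_lit 273, nat_lit 185, nat_lit 273] 20 0)) (.leaf (Rule.fwd [nat_lit 53, nat_lit 229, nat_lit 53, nat_lit 229, nat_lit 185, nat_lit 229, nat_lit 9, nat_lit 229, nat_lit 9] 34 0))) (.node (nat_lit 1) (.leaf (Rule.fwd [nat_lit 141, nat_lit 185, nat_lit 141, nat_lit 185, nat_lit 141] 10 1)) (.leaf (Rule.fwd [nat_lit 9, nat_lit 185, nat_lit 141, nat_lit 9, nat_lit 141, nat_lit 185, nat_lit 9, nat_lit 185, nat_lit 9, nat_lit 141] 40 2))))) (.node (nat_lit 4) (.node (nat_lit 2) (.node (nat_lit 1) (.leaf (Rule.fwd [nat_lit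 53, nat_lit 185, nat_lit 141, nat_lit 53, nat_lit 141, nat_lit 185, nat_lit 53, nat_lit 185, nat_lit 141, nat_lit 53] 41 0)) (.leaf (Rule.fwd [nat_lit 317, nat_lit 185, nat_lit 317] 22 0))) (.node (nat_lit 1) (.leaf (Rule.fwd [nat_lit 9, nat_lit 229, nat_lit 53, nat_lit 185, nat_lit 53, nat_lit 185, nat_lit 229, nat_lit 185, nat_lit 9] 36 8)) (.leaf (Rule.fwd [nat_lit 53, nat_lit 185, nat_lit 229, nat_lit 185, nat_lit 9, nat_lit 185, nat_lit 9, nat_lit 229, nat_lit 53] 36 2)))) (.node (nat_lit 2) (.node (nat_lit 1) (.leaf (Rule.fwd [nat_lit 229, nat_lit 185, nat_lit 9, nat_lit 185, nat_lit 9, nat_lit 229, nat_lit 53, nat_lit 185, nat_lit 53] 36 4)) (.leaf (Rule.fwd [nat_lit 97, nat_lit 185, nat_lit 97] 2 1))) (.node (nat_lit 1) (.leaf (Rule.fwd [nat_lit 9, nat_lit 141, nat_lit 185, nat_lit 9, nat_lit 185, nat_lit 141, nat_lit 9, nat_lit 141, nat_lit 185, nat_lit 9] 40 10)) (.leaf (Rule.fwd [nat_lit 229, nat_lit 185, nat_lit 229, nat_lit 185, nat_lit 229, nat_lit 185,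 nat_lit 97, nat_lit 317, nat_lit 229] 32 3)))))) (.node (nat_lit 8) (.node (nat_lit 4) (.node (nat_lit 2) (.node (nat_lit 1) (.leaf (Rule.fwd [nat_lit 141, nat_lit 53, nat_lit 141, nat_lit 185, nat_lit 53, nat_lit 185, nat_lit 141, nat_lit 53, nat_lit 185, nat_lit 53] 41 9)) (.leaf (Rule.fwd [nat_lit 97, nat_lit 317, nat_lit 229, nat_lit 185, nat_lit 229, nat_lit 185, nat_lit 229, nat_lit 185, nat_lit 229] 32 9))) (.node (nat_lit 1) (.leaf (Rule.fwd [nat_lit 141, nat_lit 53, nat_lit 185, nat_lit 53, nat_lit 185, nat_lit 141, nat_lit 53, nat_lit 141, nat_lit 185, nat_lit 53] 41 3)) (.leaf (Rule.fwd [nat_lit 9, nat_lit 185, nat_lit 9, nat_lit 229, nat_lit 53, nat_lit 185, nat_lit 53, nat_lit 185, nat_lit 229] 36 6)))) (.node (nat_lit 2) (.node (nat_lit 1) (.leaf (Rule.fwd [nat_lit 141, nat_lit 53, nat_lit 229, nat_lit 185, nat_lit 141, nat_lit 53, nat_lit 229, nat_lit 185, nat_lit 141, nat_lit 53, nat_lit 229, nat_lit 185, nat_lit 141, nat_lit 53, nat_lit 229, nat_lit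 185, nat_lit 141, nat_lit 53, nat_lit 229] 39 2)) (.leaf (Rule.fwd [nat_lit 9, nat_lit 185, nat_lit 9, nat_lit 141, nat_lit 185, nat_lit 9, nat_lit 185, nat_lit 141, nat_lit 9, nat_lit 141] 40 8))) (.node (nat_lit 1) (.leaf (Rule.fwd [nat_lit 141, nat_lit 9, nat_lit 141, nat_lit 185, nat_lit 9, nat_lit 185, nat_lit 9, nat_lit 141, nat_lit 185, nat_lit 9] 40 4)) (.leaf (Rule.fwd [nat_lit 229, nat_lit 185, nat_lit 229, nat_lit 185, nat_lit 97, nat_lit 317, nat_lit 229, nat_lit 185, nat_lit 229] 32 5))))) (.node (nat_lit 4) (.node (nat_lit 2) (.node (nat_lit 1) (.leaf (Rule.fwd [nat_lit 53, nat_lit 185, nat_lit 141, nat_lit 53, nat_lit 185, nat_lit 53, nat_lit 185, nat_lit 141, nat_lit 53, nat_lit 141] 41 5)) (.leaf (Rule.fwd [nat_lit 229, nat_lit 317, nat_lit 97, nat_lit 185, nat_lit 229, nat_lit 185, nat_lit 229, nat_lit 185, nat_lit 229] 33 4))) (.node (nat_lit 1) (.leaf (Rule.fwd [nat_lit 229, nat_lit 185, nat_lit 229, nat_lit 185, nat_lit 229, nat_lit 185, nat_lit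 229, nat_lit 317, nat_lit 97] 33 0)) (.leaf (Rule.fwd [nat_lit 229, nat_lit 185, nat_lit 97, nat_lit 317, nat_lit 229, nat_lit 185, nat_lit 229, nat_lit 185, nat_lit 229] 32 7)))) (.node (nat_lit 2) (.node (nat_lit 1) (.leaf (Rule.fwd [nat_lit 229, nat_lit 9, nat_lit 141, nat_lit 185, nat_lit 229, nat_lit 9, nat_lit 141, nat_lit 185, nat_lit 229, nat_lit 9, nat_lit 141, nat_lit 185, nat_lit 229, nat_lit 9, nat_lit 141, nat_lit 185, nat_lit 229, nat_lit 9, nat_lit 141] 38 1)) (.leaf (Rule.fwd [nat_lit 229, nat_lit 185, nat_lit 229, nat_lit 317, nat_lit 97, nat_lit 185, nat_lit 229, nat_lit 185, nat_lit 229] 33 6))) (.leaf (Rule.fwd [nat_lit 229, nat_lit 185, nat_lit 229, nat_lit 185, nat_lit 229, nat_lit 317, nat_lit 97, nat_lit 185, nat_lit 229] 33 8)))))), (.node (nat_lit 16) (.node (nat_lit 8) (.node (nat_lit 4) (.node (nat_lit 2) (.node (nat_lit 1) (.leaf XRule.defn) (.leaf XRule.ax)) (.node (nat_lit 1) (.leaf (XRule.rot (nat_lit 185) [185] 44 0)) (.leaf (XRule.rot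 (nat_lit 25522785) [97, 185, 97] 2 1)))) (.node (nat_lit 2) (.node (nat_lit 1) (.leaf (XRule.rot (nat_lit 9714313556621) [141, 185, 141, 185, 141] 10 1)) (.leaf (XRule.rot (nat_lit 1081914890469846820328165) [229, 9, 229, 9, 185, 53, 229, 53, 229] 34 5))) (.node (nat_lit 1) (.leaf (XRule.rot (nat_lit 340960886258121566230770185) [9, 185, 9, 141, 185, 9, 185, 141, 9, 141] 40 8)) (.leaf (XRule.rot (nat_lit 71660305) [273, 185, 273] 20 0))))) (.node (nat_lit 4) (.node (nat_lit 2) (.node (nat_lit 1) (.leaf (XRule.rot (nat_lit 83194685) [317, 185, 317] 22 0)) (.leaf (XRule.rot (nat_lit 22635603216490744796942989) [141, 9, 141, 185, 9, 185, 9, 141, 185, 9] 40 4))) (.node (nat_lit 1) (.leaf (XRule.rot (nat_lit 341168670384915931215524405) [53, 185, 141, 53, 185, 53, 185, 141, 53, 141] 41 5)) (.leaf (XRule.rot (nat_lit 128813697838344057063305781) [53, 185, 141, 53, 141, 185, 53, 185, 141, 53] 41 0)))) (.node (nat_lit 2) (.node (nat_lit 1) (.leaf (XRule.rot (nat_lit 340961288922146458320597513)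 [9, 185, 141, 9, 141, 185, 9, 185, 9, 141] 40 2)) (.leaf (XRule.rot (nat_lit 1084347487434357624632037) [229, 185, 229, 185, 229, 185, 97, 317, 229] 32 3))) (.node (nat_lit 1) (.leaf (XRule.rot (nat_lit 22635603214954703442221577) [9, 141, 185, 9, 185, 141, 9, 141, 185, 9] 40 10)) (.leaf (XRule.rot (nat_lit 44211753982679424813577) [9, 229, 53, 185, 53, 185, 229, 185, 9] 36 8)))))) (.node (nat_lit 8) (.node (nat_lit 4) (.node (nat_lit 2) (.node (nat_lit 1) (.leaf (XRule.rot (nat_lit 251992710239894848762597) [229, 185, 9, 185, 9, 229, 53, 185, 53] 36 4)) (.leaf (XRule.rot (nat_lit 252397744427869727453749) [53, 185, 229, 185, 9, 185, 9, 229, 53] 36 2))) (.node (nat_lit 1) (.leaf (XRule.rot (nat_lit 44613620741818197330485) [53, 229, 53, 229, 185, 229, 9, 229, 9] 34 0)) (.leaf (XRule.rot (nat_lit 129020266063742495859436173) [141, 53, 141, 185, 53, 185, 141, 53, 185, 53] 41 9)))) (.node (nat_lit 2) (.node (nat_lit 1) (.leaf (XRule.rot (nat_lit 1083129209679869597020681)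 [9, 185, 9, 229, 53, 185, 53, 185, 229] 36 6)) (.leaf (XRule.rot (nat_lit 1083132384861362190643941) [229, 185, 229, 185, 97, 317, 229, 185, 229] 32 5))) (.node (nat_lit 1) (.leaf (XRule.rot (nat_lit 129021076133675611139107469) [141, 53, 185, 53, 185, 141, 53, 141, 185, 53] 41 3)) (.leaf (XRule.rot (nat_lit 1339343805299263859086182956911062215723418375187085) [141, 53, 229, 185, 141, 53, 229, 185, 141, 53, 229, 185, 141, 53, 229, 185, 141, 53, 229] 39 2))))) (.node (nat_lit 4) (.node (nat_lit 2) (.node (nat_lit 1) (.leaf (XRule.rot (nat_lit 1083132380226096045914721) [97, 317, 229, 185, 229, 185, 229, 185, 229] 32 9)) (.leaf (XRule.rot (nat_lit 1083132380217042791658213) [229, 185, 229, 317, 97, 185, 229, 185, 229] 33 6))) (.node (nat_lit 1) (.leaf (XRule.rot (nat_lit 460997489596167708046053) [229, 185, 229, 185, 229, 185, 229, 317, 97] 33 0)) (.leaf (XRule.rot (nat_lit 824394800229037510426476048291586532319571653956325) [229, 9, 141, 185, 229, 9, 141, 185, 229,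 9, 141, 185, 229, 9, 141, 185, 229, 9, 141] 38 1)))) (.node (nat_lit 2) (.node (nat_lit 1) (.leaf (XRule.rot (nat_lit 1083132380226096011311845) [229, 317, 97, 185, 229, 185, 229, 185, 229] 33 4)) (.leaf (XRule.rot (nat_lit 1083132380226113727984357) [229, 185, 97, 317, 229, 185, 229, 185, 229] 32 7))) (.leaf (XRule.rot (nat_lit 1083130006969829909951205) [229, 185, 229, 185, 229, 317, 97, 185, 229] 33 8))))))⟩
noncomputable def ci229 : CI := ⟨[5], (nat_lit 229), true, (.node (nat_lit 16) (.node (nat_lit 8) (.node (nat_lit 4) (.node (nat_lit 2) (.node (nat_lit 1) (.leaf Rule.defn) (.leaf Rule.copy)) (.node (nat_lit 1) (.leaf (Rule.fwd [nat_lit 229] 44 0)) (.leaf (Rule.fwd [nat_lit 53, nat_lit 185, nat_lit 53, nat_lit 185, nat_lit 229, nat_lit 185, nat_lit 9, nat_lit 185, nat_lit 9] 36 0)))) (.node (nat_lit 2) (.node (nat_lit 1) (.leaf (Rule.fwd [nat_lit 141, nat_lit 229, nat_lit 141] 12 1)) (.leaf (Rule.fwd [nat_lit 9, nat_lit 273, nat_lit 229, nat_lit 9, nat_lit 229,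 nat_lit 273, nat_lit 9, nat_lit 273, nat_lit 229, nat_lit 9] 42 10))) (.node (nat_lit 1) (.leaf (Rule.fwd [nat_lit 273, nat_lit 53, nat_lit 229, nat_lit 53, nat_lit 229, nat_lit 273, nat_lit 53, nat_lit 273, nat_lit 229, nat_lit 53] 43 3)) (.leaf (Rule.fwd [nat_lit 317, nat_lit 229, nat_lit 317] 26 0))))) (.node (nat_lit 4) (.node (nat_lit 2) (.node (nat_lit 1) (.leaf (Rule.fwd [nat_lit 9, nat_lit 185, nat_lit 53, nat_lit 229, nat_lit 53, nat_lit 229, nat_lit 185, nat_lit 229, nat_lit 9] 34 8)) (.leaf (Rule.fwd [nat_lit 185, nat_lit 229, nat_lit 9, nat_lit 229, nat_lit 9, nat_lit 185, nat_lit 53, nat_lit 229, nat_lit 53] 34 4))) (.node (nat_lit 1) (.leaf (Rule.fwd [nat_lit 273, nat_lit 53, nat_lit 273, nat_lit 229, nat_lit 53, nat_lit 229, nat_lit 273, nat_lit 53, nat_lit 229, nat_lit 53] 43 9)) (.leaf (Rule.fwd [nat_lit 273, nat_lit 229, nat_lit 273, nat_lit 229, nat_lit 273] 24 0)))) (.node (nat_lit 2) (.node (nat_lit 1) (.leaf (Rule.fwd [nat_lit 185, nat_lit 229,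 nat_lit 185, nat_lit 229, nat_lit 185, nat_lit 97, nat_lit 317, nat_lit 229, nat_lit 185] 32 4)) (.leaf (Rule.fwd [nat_lit 9, nat_lit 229, nat_lit 9, nat_lit 185, nat_lit 53, nat_lit 229, nat_lit 53, nat_lit 229, nat_lit 185] 34 6))) (.node (nat_lit 1) (.leaf (Rule.fwd [nat_lit 97, nat_lit 229, nat_lit 97] 4 1)) (.leaf (Rule.fwd [nat_lit 9, nat_lit 229, nat_lit 273, nat_lit 9, nat_lit 273, nat_lit 229, nat_lit 9, nat_lit 229, nat_lit 9, nat_lit 273] 42 2)))))) (.node (nat_lit 8) (.node (nat_lit 4) (.node (nat_lit 2) (.node (nat_lit 1) (.leaf (Rule.fwd [nat_lit 53, nat_lit 229, nat_lit 273, nat_lit 53, nat_lit 273, nat_lit 229, nat_lit 53, nat_lit 229, nat_lit 273, nat_lit 53] 43 0)) (.leaf (Rule.fwd [nat_lit 53, nat_lit 229, nat_lit 185, nat_lit 229, nat_lit 9, nat_lit 229, nat_lit 9, nat_lit 185, nat_lit 53] 34 2))) (.node (nat_lit 1) (.leaf (Rule.fwd [nat_lit 185, nat_lit 141, nat_lit 53, nat_lit 229, nat_lit 185, nat_lit 141, nat_lit 53, nat_lit 229, nat_lit 185,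 nat_lit 141, nat_lit 53, nat_lit 229, nat_lit 185, nat_lit 141, nat_lit 53, nat_lit 229, nat_lit 185, nat_lit 141, nat_lit 53] 39 3)) (.leaf (Rule.fwd [nat_lit 273, nat_lit 9, nat_lit 273, nat_lit 229, nat_lit 9, nat_lit 229, nat_lit 9, nat_lit 273, nat_lit 229, nat_lit 9] 42 4)))) (.node (nat_lit 2) (.node (nat_lit 1) (.leaf (Rule.fwd [nat_lit 53, nat_lit 229, nat_lit 273, nat_lit 53, nat_lit 229, nat_lit 53, nat_lit 229, nat_lit 273, nat_lit 53, nat_lit 273] 43 5)) (.leaf (Rule.fwd [nat_lit 9, nat_lit 229, nat_lit 9, nat_lit 273, nat_lit 229, nat_lit 9, nat_lit 229, nat_lit 273, nat_lit 9, nat_lit 273] 42 8))) (.node (nat_lit 1) (.leaf (Rule.fwd [nat_lit 185, nat_lit 9, nat_lit 185, nat_lit 9, nat_lit 229, nat_lit 53, nat_lit 185, nat_lit 53, nat_lit 185] 36 5)) (.leaf (Rule.fwd [nat_lit 185, nat_lit 97, nat_lit 317, nat_lit 229, nat_lit 185, nat_lit 229, nat_lit 185, nat_lit 229, nat_lit 185] 32 8))))) (.node (nat_lit 4) (.node (nat_lit 2) (.node (nat_lit 1) (.leaf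 (Rule.fwd [nat_lit 185, nat_lit 229, nat_lit 185, nat_lit 229, nat_lit 185, nat_lit 229, nat_lit 185, nat_lit 97, nat_lit 317] 32 2)) (.leaf (Rule.fwd [nat_lit 185, nat_lit 229, nat_lit 185, nat_lit 97, nat_lit 317, nat_lit 229, nat_lit 185, nat_lit 229, nat_lit 185] 32 6))) (.node (nat_lit 1) (.leaf (Rule.fwd [nat_lit 185, nat_lit 229, nat_lit 185, nat_lit 229, nat_lit 185, nat_lit 229, nat_lit 317, nat_lit 97, nat_lit 185] 33 9)) (.leaf (Rule.fwd [nat_lit 9, nat_lit 141, nat_lit 185, nat_lit 229, nat_lit 9, nat_lit 141, nat_lit 185, nat_lit 229, nat_lit 9, nat_lit 141, nat_lit 185, nat_lit 229, nat_lit 9, nat_lit 141, nat_lit 185, nat_lit 229, nat_lit 9, nat_lit 141, nat_lit 185] 38 2)))) (.node (nat_lit 2) (.node (nat_lit 1) (.leaf (Rule.fwd [nat_lit 185, nat_lit 229, nat_lit 317, nat_lit 97, nat_lit 185, nat_lit 229, nat_lit 185, nat_lit 229, nat_lit 185] 33 5)) (.leaf (Rule.fwd [nat_lit 317, nat_lit 97, nat_lit 185, nat_lit 229, nat_lit 185, nat_lit 229, nat_lit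 185, nat_lit 229, nat_lit 185] 33 3))) (.node (nat_lit 1) (.leaf (Rule.fwd [nat_lit 185, nat_lit 229, nat_lit 185, nat_lit 229, nat_lit 185, nat_lit 229, nat_lit 185, nat_lit 229, nat_lit 185, nat_lit 229, nat_lit 185, nat_lit 229, nat_lit 185, nat_lit 229, nat_lit 185] 18 1)) (.leaf (Rule.fwd [nat_lit 185, nat_lit 229, nat_lit 185, nat_lit 229, nat_lit 317, nat_lit 97, nat_lit 185, nat_lit 229, nat_lit 185] 33 7))))))), (.node (nat_lit 16) (.node (nat_lit 8) (.node (nat_lit 4) (.node (nat_lit 2) (.node (nat_lit 1) (.leaf XRule.defn) (.leaf XRule.ax)) (.node (nat_lit 1) (.leaf (XRule.rot (nat_lit 229) [229] 44 0)) (.leaf (XRule.rot (nat_lit 25545313) [97, 229, 97] 4 1)))) (.node (nat_lit 2) (.node (nat_lit 1) (.leaf (XRule.rot (nat_lit 874129972593071659160249) [185, 9, 185, 9, 229, 53, 185, 53, 185] 36 5)) (.leaf (XRule.rot (nat_lit 83217213) [317, 229, 317] 26 0))) (.node (nat_lit 1) (.leaf (XRule.rot (nat_lit 875753292261013492908729) [185, 97, 317, 229, 185, 229,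 185, 229, 185] 32 8)) (.leaf (XRule.rot (nat_lit 660326305040923456277170741) [53, 229, 273, 53, 229, 53, 229, 273, 53, 273] 43 5))))) (.node (nat_lit 4) (.node (nat_lit 2) (.node (nat_lit 1) (.leaf (XRule.rot (nat_lit 22844604828393992328844049) [273, 9, 273, 229, 9, 229, 9, 273, 229, 9] 42 4)) (.leaf (XRule.rot (nat_lit 37079693) [141, 229, 141] 12 1))) (.node (nat_lit 1) (.leaf (XRule.rot (nat_lit 129437456044009655219112501) [53, 229, 273, 53, 273, 229, 53, 229, 273, 53] 43 0)) (.leaf (XRule.rot (nat_lit 44616791266884895207945) [9, 185, 53, 229, 53, 229, 185, 229, 9] 34 8)))) (.node (nat_lit 2) (.node (nat_lit 1) (.leaf (XRule.rot (nat_lit 875755665517279594269369) [185, 229, 185, 229, 185, 97, 317, 229, 185] 32 4)) (.leaf (XRule.rot (nat_lit 18791224691473) [273, 229, 273, 229, 273] 24 0))) (.node (nat_lit 1) (.leaf (XRule.rot (nat_lit 875750914351333284104713) [9, 229, 9, 185, 53, 229, 53, 229, 185] 34 6)) (.leaf (XRule.rot (nat_lit 251991917606366383295029)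 [53, 229, 185, 229, 9, 229, 9, 185, 53] 34 2)))))) (.node (nat_lit 8) (.node (nat_lit 4) (.node (nat_lit 2) (.node (nat_lit 1) (.leaf (XRule.rot (nat_lit 44207790827101966660149) [53, 185, 53, 185, 229, 185, 9, 185, 9] 36 0)) (.leaf (XRule.rot (nat_lit 660118520914129108974553609) [9, 229, 9, 273, 229, 9, 229, 273, 9, 273] 42 8))) (.node (nat_lit 1) (.leaf (XRule.rot (nat_lit 660118111130335365430626825) [9, 229, 273, 9, 273, 229, 9, 229, 9, 273] 42 2)) (.leaf (XRule.rot (nat_lit 22844604829957193446334985) [9, 273, 229, 9, 229, 273, 9, 273, 229, 9] 42 10)))) (.node (nat_lit 2) (.node (nat_lit 1) (.leaf (XRule.rot (nat_lit 129228052568437481812552465) [273, 53, 273, 229, 53, 229, 273, 53, 229, 53] 43 9)) (.leaf (XRule.rot (nat_lit 15776168802780741158166139538087940049593) [185, 229, 185, 229, 185, 229, 185, 229, 185, 229, 185, 229, 185, 229, 185] 18 1))) (.node (nat_lit 1) (.leaf (XRule.rot (nat_lit 875753292270066712562361) [185, 229, 185, 97, 317, 229, 185, 229,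 185] 32 6)) (.leaf (XRule.rot (nat_lit 252398537061409992592057) [185, 229, 9, 229, 9, 185, 53, 229, 53] 34 4))))) (.node (nat_lit 4) (.node (nat_lit 2) (.node (nat_lit 1) (.leaf (XRule.rot (nat_lit 1083121357719065498358278487241868939491326745188873) [9, 141, 185, 229, 9, 141, 185, 229, 9, 141, 185, 229, 9, 141, 185, 229, 9, 141, 185] 38 2)) (.leaf (XRule.rot (nat_lit 129230077748678101143153425) [273, 53, 229, 53, 229, 273, 53, 273, 229, 53] 43 3))) (.node (nat_lit 1) (.leaf (XRule.rot (nat_lit 311452418128274437943116873188848495915092900387513) [185, 141, 53, 229, 185, 141, 53, 229, 185, 141, 53, 229, 185, 141, 53, 229, 185, 141, 53] 39 3)) (.leaf (XRule.rot (nat_lit 874538185052751879588537) [185, 229, 185, 229, 185, 229, 317, 97, 185] 33 9)))) (.node (nat_lit 2) (.node (nat_lit 1) (.leaf (XRule.rot (nat_lit 875753292261013458305853) [317, 97, 185, 229, 185, 229, 185, 229, 185] 33 3)) (.leaf (XRule.rot (nat_lit 875753292260995776236217) [185, 229, 317, 97, 185,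 229, 185, 229, 185] 33 5))) (.node (nat_lit 1) (.leaf (XRule.rot (nat_lit 1497888182890941796174521) [185, 229, 185, 229, 185, 229, 185, 97, 317] 32 2)) (.leaf (XRule.rot (nat_lit 875753287625747313576633) [185, 229, 185, 229, 317, 97, 185, 229, 185] 33 7)))))))⟩
noncomputable def ci273 : CI := ⟨[6], (nat_lit 273), true, (.node (nat_lit 8) (.node (nat_lit 4) (.node (nat_lit 2) (.node (nat_lit 1) (.leaf Rule.defn) (.leaf Rule.copy)) (.node (nat_lit 1) (.leaf (Rule.fwd [nat_lit 273] 44 0)) (.leaf (Rule.fwd [nat_lit 229, nat_lit 273, nat_lit 229, nat_lit 273, nat_lit 229] 24 1)))) (.node (nat_lit 2) (.node (nat_lit 1) (.leaf (Rule.fwd [nat_lit 9, nat_lit 273, nat_lit 229, nat_lit 9, nat_lit 229, nat_lit 9, nat_lit 273, nat_lit 229, nat_lit 9, nat_lit 229] 42 5)) (.leaf (Rule.fwd [nat_lit 317, nat_lit 273, nat_lit 317, nat_lit 273, nat_lit 317] 28 0))) (.node (nat_lit 1) (.leaf (Rule.fwd [nat_lit 229, nat_lit 53, nat_lit 229, nat_lit 273, nat_lit 53, nat_lit 229, nat_lit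 53, nat_lit 229, nat_lit 273, nat_lit 53] 43 6)) (.leaf (Rule.fwd [nat_lit 141, nat_lit 273, nat_lit 141] 14 1))))) (.node (nat_lit 4) (.node (nat_lit 2) (.node (nat_lit 1) (.leaf (Rule.fwd [nat_lit 185, nat_lit 273, nat_lit 185] 20 1)) (.leaf (Rule.fwd [nat_lit 97, nat_lit 273, nat_lit 97] 6 1))) (.node (nat_lit 1) (.leaf (Rule.fwd [nat_lit 53, nat_lit 273, nat_lit 229, nat_lit 53, nat_lit 229, nat_lit 273, nat_lit 53, nat_lit 229, nat_lit 53, nat_lit 229] 43 8)) (.leaf (Rule.fwd [nat_lit 229, nat_lit 9, nat_lit 229, nat_lit 9, nat_lit 273, nat_lit 229, nat_lit 9, nat_lit 229, nat_lit 273, nat_lit 9] 42 7)))) (.node (nat_lit 1) (.leaf (Rule.fwd [nat_lit 229, nat_lit 9, nat_lit 229, nat_lit 273, nat_lit 9, nat_lit 273, nat_lit 229, nat_lit 9, nat_lit 229, nat_lit 9] 42 1)) (.leaf (Rule.fwd [nat_lit 53, nat_lit 229, nat_lit 53, nat_lit 229, nat_lit 273, nat_lit 53, nat_lit 273, nat_lit 229, nat_lit 53, nat_lit 229] 43 2))))), (.node (nat_lit 8) (.node (nat_lit 4) (.node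 (nat_lit 2) (.node (nat_lit 1) (.leaf XRule.defn) (.leaf XRule.ax)) (.node (nat_lit 1) (.leaf (XRule.rot (nat_lit 21820798804797) [317, 273, 317, 273, 317] 28 0)) (.leaf (XRule.rot (nat_lit 23051983125288747510534885) [229, 9, 229, 9, 273, 229, 9, 229, 273, 9] 42 7)))) (.node (nat_lit 2) (.node (nat_lit 1) (.leaf (XRule.rot (nat_lit 273) [273] 44 0)) (.leaf (XRule.rot (nat_lit 25567841) [97, 273, 97] 6 1))) (.node (nat_lit 1) (.leaf (XRule.rot (nat_lit 37102221) [141, 273, 141] 14 1)) (.leaf (XRule.rot (nat_lit 48636601) [185, 273, 185] 20 1))))) (.node (nat_lit 4) (.node (nat_lit 2) (.node (nat_lit 1) (.leaf (XRule.rot (nat_lit 15773461783269) [229, 273, 229, 273, 229] 24 1)) (.leaf (XRule.rot (nat_lit 553732643752305619031695881) [9, 273, 229, 9, 229, 9, 273, 229, 9, 229] 42 5))) (.node (nat_lit 1) (.leaf (XRule.rot (nat_lit 129437456043994566450506469) [229, 53, 229, 273, 53, 229, 53, 229, 273, 53] 43 6)) (.leaf (XRule.rot (nat_lit 553940423923672891472093749) [53,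 273, 229, 53, 229, 273, 53, 229, 53, 229] 43 8)))) (.node (nat_lit 1) (.leaf (XRule.rot (nat_lit 22842173822892053020021477) [229, 9, 229, 273, 9, 273, 229, 9, 229, 9] 42 1)) (.leaf (XRule.rot (nat_lit 553940427879103048931723829) [53, 229, 53, 229, 273, 53, 273, 229, 53, 229] 43 2)))))⟩
noncomputable def ci317 : CI := ⟨[7], (nat_lit 317), true, (.node (nat_lit 8) (.node (nat_lit 4) (.node (nat_lit 2) (.node (nat_lit 1) (.leaf Rule.defn) (.leaf Rule.copy)) (.node (nat_lit 1) (.leaf (Rule.fwd [nat_lit 317] 44 0)) (.leaf (Rule.fwd [nat_lit 53, nat_lit 53, nat_lit 97] 30 1)))) (.node (nat_lit 2) (.node (nat_lit 1) (.leaf (Rule.fwd [nat_lit 97, nat_lit 317, nat_lit 97] 8 1)) (.leaf (Rule.fwd [nat_lit 141, nat_lit 317, nat_lit 141] 16 1))) (.node (nat_lit 1) (.leaf (Rule.fwd [nat_lit 229, nat_lit 317, nat_lit 229] 26 1)) (.leaf (Rule.fwd [nat_lit 185, nat_lit 317, nat_lit 185] 22 1))))) (.node (nat_lit 2) (.node (nat_lit 1) (.leaf (Rule.fwd [nat_lit 273, nat_lit 317, nat_lit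 273, nat_lit 317, nat_lit 273] 28 1)) (.leaf (Rule.fwd [nat_lit 97, nat_lit 9, nat_lit 9] 31 2))) (.node (nat_lit 1) (.leaf (Rule.fwd [nat_lit 229, nat_lit 185, nat_lit 229, nat_lit 185, nat_lit 229, nat_lit 185, nat_lit 229, nat_lit 185, nat_lit 97] 32 1)) (.leaf (Rule.fwd [nat_lit 97, nat_lit 185, nat_lit 229, nat_lit 185, nat_lit 229, nat_lit 185, nat_lit 229, nat_lit 185, nat_lit 229] 33 2))))), (.node (nat_lit 8) (.node (nat_lit 4) (.node (nat_lit 2) (.node (nat_lit 1) (.leaf XRule.defn) (.leaf XRule.ax)) (.node (nat_lit 1) (.leaf (XRule.rot (nat_lit 25455157) [53, 53, 97] 30 1)) (.leaf (XRule.rot (nat_lit 37124749) [141, 317, 141] 16 1)))) (.node (nat_lit 2) (.node (nat_lit 1) (.leaf (XRule.rot (nat_lit 48659129) [185, 317, 185] 22 1)) (.leaf (XRule.rot (nat_lit 60193509) [229, 317, 229] 26 1))) (.node (nat_lit 1) (.leaf (XRule.rot (nat_lit 25590369) [97, 317, 97] 8 1)) (.leaf (XRule.rot (nat_lit 317) [317] 44 0))))) (.node (nat_lit 2) (.node (nat_lit 1) (.leaf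 (XRule.rot (nat_lit 18803035896593) [273, 317, 273, 317, 273] 28 1)) (.leaf (XRule.rot (nat_lit 2364001) [97, 9, 9] 31 2))) (.node (nat_lit 1) (.leaf (XRule.rot (nat_lit 1083132380226096045847137) [97, 185, 229, 185, 229, 185, 229, 185, 229] 33 2)) (.leaf (XRule.rot (nat_lit 459780004487302877639397) [229, 185, 229, 185, 229, 185, 229, 185, 97] 32 1)))))⟩
noncomputable def outer : Tr CI := (.node (nat_lit 4) (.node (nat_lit 8) (.node (nat_lit 1) (.leaf ci0) (.node (nat_lit 16) (.leaf ci97) (.leaf ci273))) (.node (nat_lit 16) (.leaf ci9) (.leaf ci185))) (.node (nat_lit 8) (.node (nat_lit 16) (.leaf ci229) (.leaf ci53)) (.node (nat_lit 16) (.leaf ci141) (.leaf ci317))))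
def cols : List ℕ := [nat_lit 9, nat_lit 53, nat_lit 97, nat_lit 141, nat_lit 185, nat_lit 229, nat_lit 273, nat_lit 317]
def invL : List ℕ := [1, 0, 2, 3, 4, 5, 6, 7]
def rels : List (List ℕ) := [[2, 3, 2, 3, 2, 3], [2, 4, 2, 4], [2, 5, 2, 5], [2, 6, 2, 6], [2, 7, 2, 7], [3, 4, 3, 4, 3, 4], [3, 5, 3, 5], [3, 6, 3, 6], [3, 7, 3, 7], [4, 5, 4, 5, 4, 5, 4, 5, 4, 5, 4, 5, 4, 5, 4, 5], [4, 6, 4, 6], [4, 7, 4, 7], [5, 6, 5, 6, 5, 6], [5, 7, 5, 7], [6, 7, 6, 7, 6, 7], [2, 7, 1, 1], [2, 7, 5, 4, 5, 4, 5, 4, 5, 4], [4, 1, 5, 1, 5, 4, 5, 0, 5, 0], [5, 1, 4, 1, 4, 5, 4, 0, 4, 0], [3, 4, 5, 0, 3, 4, 5, 0, 3, 4, 5, 0, 3, 4, 5, 0, 3, 4, 5, 0], [0, 3, 4, 0, 4, 3, 0, 3, 4, 0, 4], [0, 6, 5, 0, 5, 6, 0, 6, 5, 0, 5]]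
def subs : List (List ℕ) := [[2], [3], [4], [5], [6], [7]]
noncomputable def row (n : ℕ) : ℕ := rowOf (fun h => rows.get h) (nat_lit 4) (nat_lit 15) (nat_lit 361) (nat_lit 0x1ffffffffffffffffffffffffffffffffffffffffffffffffffffffffffffffffffffffffffffffffffffffffff) n
noncomputable def xleaf (h : ℕ) : ℕ := recs.get h
noncomputable def mF : ℕ → ℕ := mainRow row (rowChk row xleaf outer (nat_lit 19) (nat_lit 524287) (nat_lit 63) (nat_lit 25) (nat_lit 33554431) (nat_lit 17592186044415) (nat_lit 524288) (nat_lit 122760) (nat_lit 602368) (nat_lit 9) (nat_lit 511) (nat_lit 28) (nat_lit 268435455) (nat_lit 8) (nat_lit 255) cols)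
noncomputable def xF : ℕ → ℕ → ℕ := xLeaf row xleaf outer (nat_lit 524287) (nat_lit 25) (nat_lit 17592186044415) (nat_lit 524288) (nat_lit 122760) (nat_lit 9) (nat_lit 511) (nat_lit 28) (nat_lit 268435455) (nat_lit 268434944) (nat_lit 8) (nat_lit 255) (nat_lit 20) (nat_lit 1048575) (nat_lit 8) (nat_lit 255) (nat_lit 317) (nat_lit 62853120) (nat_lit 128)
noncomputable def cert : Cert := ⟨row, xleaf, outer, cols, nat_lit 19, nat_lit 524287, nat_lit 63, nat_lit 25, nat_lit 33554431, nat_lit 17592186044415, nat_lit 524288, nat_lit 122760, nat_lit 602368, nat_lit 9, nat_lit 511, nat_lit 28, nat_lit 268435455, nat_lit 268434944, nat_lit 8, nat_lit 255, nat_lit 20, nat_lit 1048575, nat_lit 8, nat_lit 255, nat_lit 317, nat_lit 62853120, nat_lit 128, nat_lit 44, nat_lit 301184, nat_lit 2353⟩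
theorem tabok : tabOK (fun i => invL.getD i i) rels subs outer cols (nat_lit 9) (nat_lit 317) = true := by decide +kernel

end CL.TC.ONA
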