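import Cfsg.Agent.Spor.TCSound

/-! coset enumeration certificate generated by tools/tc -/

set_option maxRecDepth 100000
set_option autoImplicit false
set_option linter.all false

namespace CL.TC.ONTU

noncomputable def rows0 : Tr ℕ := (.node (nat_lit 8) (.node (nat_lit 4) (.node (nat_lit 2) (.node (nat_lit 1) (.leaf (nat_lit 0xfc3147f0817f0c4ff862663f8625fc3127a184bf840a1ff0c47f8622fe102fc1848e7f0813f0c43f8620fc30fc6fc30f7e1877d0c23fc2040ff861cfc30dff0813e0c2273f8407f861af430b78185e37e1867f8407e8613f030a31fe1017e1863f0c2ff86168df8615fe1017e1853f0c26c7f0c25f8611fe1017d200ce7f0807f0c21f860ffc30746fc306ff0807f0c19f860b63f860afc304fc181bf84021ff0c11f8607fe100fe1818e7e1817f0c09f8603fc30100)) (.leaf (nat_lit 0xfc3237e1917c0c53fc20d0ff8644fc321ff0837d0c5273f8419f8642f031f7618fe37e1907f8419e063bec31e31fe105fe1903f0c7ff863e8df863dfe105fe18f3f0c76c7f0c75fc20af031b7618dd8ff0827f0c73e062fec31846fc31c7f0823f0c6ff863663f8635fc31a79302bf84101ff0c67f8632fe1047b4028e7f081ff0c63f8630fc317c6fc3177e18b7c9813fc2070ff862cfc315ff081fd9c1273f840df862afa5077b303e37e18a7f840df480bf650631)))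 (.node (nat_lit 1) (.leaf (nat_lit 0xfc3337e1997b9833fc2150ff8664fc331ff0857ca03273f8429f8662ee32f75197e37e1987f8429dc65bea32e31fe109fe1983f0cbff865e8df865dfe109fe1973f0cb6c7f0cb5fc212f641379289d8ff0847f0cb3eca1ff261046fe1087e1963f0caff86568df8655fc32a7818abf84201ff0ca7f8652fe1087a18a8e7f083ff0ca3e064dec32746fc3287f083fc0c95d864b63fc20efc327fe193bf0c9b1bf0c99fc20efc325fe19298fe1927f841bf8648fc323b1)) (.leaf (nat_lit 0xfc340ff0873f0d01f867f63d8671ea33477307bf84381fb8cdfdc667fe10e794078e7f086fc0cd7f867efc33ec6fc33e7e19efb983bfc21b0ff867afc33cff086fc9c3a73f8435d0669ec33b7419de37159e3f8433d8667e833431fe10c7e19e3f0ceff86768df8675fc33a77306bf84301ff0ce7f8672fe10c793868e7f085ff0ce3dc66dea33746fc3387f085fb8cd5d466b63fc216fc337fe19bbf0cdb1bf0cd9fc216fc335fe19a98fe19a7f842bf8668fc333b1)))) (.node (nat_lit 2) (.node (nat_lit 1) (.leaf (nat_lit 0xfe112731a2fb0d1bd068e8de065ffe111fe1a4bf0d22c7f0d21d4687ee612ff088c3fe1a3fb8d0dfc223f28129cfe111761a33f0d1df868d8dd4677ec330f73093f84441fb8ceddc65dfe111793890e7f0887d0cb5cc678ea334c6fc3467c197bb0cb3fc2210ff868bea32fff0887c0cb273f8441f868aec343741a1e37e1a27f8441d8683e834231fe10ffe1a23f0d0ff86868df8685fe10ffe1a13f0d06c7f0d05fc21eec33ff41a018ff0877e0cd5dc67dea33f46))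 (.leaf (nat_lit 0xfc34eff08b3f0d39f869b63e4c4fec723f630bbf84581fe94a3f4c48fe1167840b8e7f08afc1495f869afc34cc6fc34c7e1a5fb185bfc22b0ff8696fc34aff08afc1c5a73f8455ec849f252b77315e3792163f8453e4847ee52431f032cff08a398cd3c467863f066ae8340f6196bf84501fa8cd7cc682fe114781968e7f089f9910bd8693e834a46e23457f089fe0cf5d067c63fc226e2344fe1a53f0d271b98d11fc226e833e7619e98fc197bf844bd8691e834931))) (.node (nat_lit 1) (.leaf (nat_lit 0xfe11a751a9fa8d53cc6aa8de123efe119fe1abbf0d5ac7f0d59c46a3ec61aff08cc3fe1aaf98d45fc233f081a9cfe119731aa3f0d55f86a98dd9056f2a1ef630d3f84641fe9caff5241fe1197838d0e7f08c7a9075d8e49e892c46fc3547638ffa9873fc2310ff86a7f081f7f08c7b9c7273f8461f86a6ea351731a8e37e1a97f8461d469fe635031fe117fe1a93f0d47f86a28df86a1fe117fe1a83f0d3ec7f0d3dfc22eea34df31a718ff08b7b9497d4699e634d46)) (.leaf (nat_lit 0xfc35f7e1af7a9885fc2400ff86bcfc35dff0903b9c8473f0d75f86b9ec620ff08f43fe1ae3f0d6ffc23df07209cfe11e7e1adba94a9d4c528df86b5fe11e751ac798d64c7f8477f86b4ee8297d515237e1acff8477f86b2fc358b1e031cff08e3910b1d0a4963d904be634ef530ebf84701fc2895d469efe11c7740e8e7f08df82d43ac6afd235846d8b537f08dfe0d2dcc69863fc236d8352fe1ac3f0d5f1b70d49fc236e634c751a598f748fff846bd46ade635731)))))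 (.node (nat_lit 4) (.node (nat_lit 2) (.node (nat_lit 1) (.leaf (nat_lit 0xfe1277e1b23a8d8bcc6c68dfc24dfc363fe1b1bf0d8b1b98d6fc46beea6287f09303f11ae778d79fc24cee8281cfe12477213388d87bc6c48dfc247e84287e1b13f0d871b910a9fc246dc353701a918ff0917910a7c86a5ec350c6e8c297f091370d49b06a663f86c2ec72775311bf84881ff0d83e0c4dfe122774118e7f090f90cabc06a1dc352c6e0360741ad7a988bfc2430fc86bfea359ff090fb9c8a73f8485d0856e435ff01b0237f0903a90aff86c0fc35fc6)) (.leaf (nat_lit 0xde36c6b7b37a18cbfc2630fc46d7e8365ff098fb1cca73f84c5d8876e236bef1b6237f0983a10eff86d8fc36bc6fc36b7e1b57a18c5fc2600ff86d4fc369ff0983b1cc473f0da5f86d1e8630ff09743fe1b43f0d9ffc25dec7309cfe12e7e1b3ba14e9d0c728df86cdfe12e741b2790d94c7f84b7f86ccec8397d51d237e1b2ff84b7f86cafc364b1e83646f1b0fa98abfc2530fd46c7da3627f094fba0aa73d0d77cc6b8ea628ff093c3ed1af798d75fc24fee7289c))) (.node (nat_lit 1) (.leaf (nat_lit 0xd0b706a1b6f518ebfc2730fa86dfce36e7f09cf61cea7380da7c86d0e8638ff09bc3eb1b5783da5fc26fec7389cfe1377e1b83a0dbbc86de8dfc26dfc36ffe1b7bf0dbb1b88d9fb1ed6e86387f09b03ef1b4768da9fc26cec8381cfe1347421b390db7c06dc8dfc267ec4387e1b73f0db71b58ce9fc266da4446f2a298ff0997690e7bca85e6644c6ded397f09938a915bd88863f86dae473774319bf84c81ff0db3d0c6dfe132764198e7f098f78cebdd289e2b42c6))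 (.leaf (nat_lit 0xe28426f1b9789905fc2810fcde83e23737f0a0799d0473f8501c9c8edc36b701b5236e2247f8501f06e2e237231fe13ff06a3770da9b06d68dedc92fe13ff11b9398dc4c7f84fdd1891e0369721b423727237f84fdd06e7e437431fe13ef4624b90da1c06d28dd1c8efe13efe1ba3f0dcec7f0dcdfc27cd43706c1b7d8ff09efa9509a86dad836cc6fc372ff09eb70dbfb06e063fc279ec541ee1b6760db51bf0dc9f86e3e863dff09e43fe1b8bf0dc3fc279ec73d9c)))) (.node (nat_lit 2) (.node (nat_lit 1) (.leaf (nat_lit 0xfe14cf362bb9a175cd4b88dc9caafe14cfe1bcbf0de2c7f0de1fc298d8463e82b218ff0a5f50d41b0ac1d066146fc377ff0a5b53191b9cc763fc295ea54fea5b0b735831bf0dddf86ede664bff0a543fe1bb3f0dd7fc295ea74b9cea94a7f0a4338d9da46cc63d9293fe147ed1b3358d9cc7a0dc3ac6e7e86487f0a3c3f11b8f48dd1fc28fec8481ccc3756e3a4f81919fc28b0f9c6e9e064a7f0a2f91d1873f850ff86eace366e91b2e37f0a1bf0dd3b46cbd6366c6)) (.leaf (nat_lit 0xce3587f0ab369169acab663ad2affe155ed6adb7bd68c748dd7946f1e66567f0aac3e55bb718de5fc2abea8561ccc37a683abf89951fc2a70f986f3d66587f0a9f99d5073f8547f86f4da559eb32d637f0a8bf0de7b50b5dea59c6e0850691bbf8193dfc29d0fc9e9fe03787f0a7791d3c73f8539ac6aada55e6f32fa36c22b7f8539f06ece037731fe14dee82a78a17dbd4bc8dc58aefe14df01bbb90dd8c7f8535bc6ade255c7132ea37072a7f8535c86f1e037931)))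 (.node (nat_lit 1) (.leaf (nat_lit 0xfe16771235f38df7946fc8dfc2ccd446c7e1bf3f0df71bf8595f86fae256af1334e3641b77f8595988e3c8570b1fe164fe1be79a1a7f54d58da9cdefe164e67387441c6c739189fc2c2d237b6b1bd58e8230ff8583c46f5de37b31d637c6a3b1799973fc2b70fb46f7d86637f0adfa9d7273f856dc88bfda37beb1be237f0ad381181f86f8fc37bc6fe1597e1bdb9157bc8cbb8dc9cc5fe159671baf28ddac7f8563f86f5e885dfd52f6375731bf85638c6edca375b1)) (.leaf (nat_lit 0xfe17d611bef315fd98cfd8dfc2f9c647e6843f7429fd1bf85edac8f7ce37fe51c0237f0bd7491f194700ce37fc6cc879621bff319e1fc2ef0fa1ef1c4f807f0bbf41de073f0e01fc2eeda479e82bd18fe1bfff85d9a98f4dee79b1d8874681bf7619cdfc2e50fb9ee7d437f7f0b9771dcc73f0dfdfc2e4e0474ea2ba98fe1bf7f85c5b18eae4e74b1ce46e7f0b6b38df5a46f9639c8dbfe16cee1be760df4c728df990edde2668ff0b3c3e71bef319bdfc2cfe67689c))))))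
noncomputable def recs0 : Tr ℕ := (.leaf (nat_lit 0x0))
noncomputable def rows : Tr ℕ := rows0
noncomputable def recs : Tr ℕ := recs0
noncomputable def ci0 : CI := ⟨[], (nat_lit 0), false, (.node (nat_lit 1) (.leaf Rule.defn) (.leaf Rule.copy)), (.leaf (XRule.rot (nat_lit 0) [] 14 0))⟩
noncomputable def ci7 : CI := ⟨[0], (nat_lit 28), false, (.node (nat_lit 8) (.node (nat_lit 4) (.node (nat_lit 2) (.node (nat_lit 1) (.leaf Rule.defn) (.leaf Rule.copy)) (.node (nat_lit 1) (.leaf (Rule.fwd [nat_lit 28] 14 0)) (.leaf (Rule.fwd [nat_lit 7, nat_lit 7, nat_lit 7] 0 0)))) (.node (nat_lit 2) (.node (nat_lit 1) (.leaf (Rule.fwd [nat_lit 7, nat_lit 49, nat_lit 28, nat_lit 28, nat_lit 49] 2 0)) (.leaf (Rule.fwd [nat_lit 7, nat_lit 70, nat_lit 28, nat_lit 28, nat_lit 70] 4 0))) (.node (nat_lit 1) (.leaf (Rule.fwd [nat_lit 49, nat_lit 28, nat_lit 28, nat_lit 49, nat_lit 7] 2 1)) (.leaf (Rule.fwd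 [nat_lit 70, nat_lit 28, nat_lit 28, nat_lit 70, nat_lit 7] 4 1))))) (.node (nat_lit 4) (.node (nat_lit 2) (.node (nat_lit 1) (.leaf (Rule.fwd [nat_lit 70, nat_lit 49, nat_lit 70, nat_lit 7, nat_lit 70, nat_lit 7, nat_lit 49, nat_lit 7, nat_lit 70] 10 4)) (.leaf (Rule.fwd [nat_lit 49, nat_lit 7, nat_lit 49, nat_lit 70, nat_lit 49, nat_lit 7, nat_lit 49, nat_lit 7, nat_lit 70] 8 0))) (.node (nat_lit 1) (.leaf (Rule.fwd [nat_lit 49, nat_lit 70, nat_lit 7, nat_lit 70, nat_lit 49, nat_lit 28, nat_lit 70, nat_lit 49, nat_lit 7, nat_lit 49, nat_lit 70] 12 3)) (.leaf (Rule.fwd [nat_lit 49, nat_lit 70, nat_lit 7, nat_lit 49, nat_lit 70, nat_lit 7, nat_lit 70, nat_lit 49, nat_lit 28, nat_lit 70, nat_lit 49] 12 0)))) (.node (nat_lit 2) (.node (nat_lit 1) (.leaf (Rule.fwd [nat_lit 70, nat_lit 7, nat_lit 49, nat_lit 7, nat_lit 70, nat_lit 7, nat_lit 70, nat_lit 49, nat_lit 70] 10 8)) (.leaf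 (Rule.fwd [nat_lit 49, nat_lit 70, nat_lit 49, nat_lit 7, nat_lit 49, nat_lit 7, nat_lit 70, nat_lit 7, nat_lit 49] 8 2))) (.node (nat_lit 1) (.leaf (Rule.fwd [nat_lit 49, nat_lit 7, nat_lit 70, nat_lit 7, nat_lit 49, nat_lit 7, nat_lit 49, nat_lit 70, nat_lit 49] 8 6)) (.leaf (Rule.fwd [nat_lit 70, nat_lit 7, nat_lit 49, nat_lit 7, nat_lit 49, nat_lit 70, nat_lit 49, nat_lit 7, nat_lit 49] 8 8)))))), (.node (nat_lit 1) (.leaf XRule.defn) (.leaf XRule.defn))⟩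
noncomputable def ci28 : CI := ⟨[1], (nat_lit 7), false, (.node (nat_lit 8) (.node (nat_lit 4) (.node (nat_lit 2) (.node (nat_lit 1) (.leaf Rule.defn) (.leaf Rule.copy)) (.node (nat_lit 1) (.leaf (Rule.fwd [nat_lit 7] 14 0)) (.leaf (Rule.fwd [nat_lit 28, nat_lit 49, nat_lit 7, nat_lit 7, nat_lit 49] 2 3)))) (.node (nat_lit 2) (.node (nat_lit 1) (.leaf (Rule.fwd [nat_lit 28, nat_lit 70, nat_lit 7, nat_lit 7, nat_lit 70] 4 3)) (.leaf (Rule.fwd [nat_lit 28, nat_lit 28, nat_lit 28] 1 0))) (.node (nat_lit 1) (.leaf (Rule.fwd [nat_lit 70, nat_lit 49, nat_lit 70, nat_lit 28, nat_lit 70, nat_lit 28, nat_lit 49, nat_lit 28, nat_lit 70] 11 9)) (.leaf (Rule.fwd [nat_lit 49, nat_lit 28, nat_lit 49, nat_lit 70, nat_lit 49, nat_lit 28, nat_lit 49, nat_lit 28, nat_lit 70] 9 9))))) (.node (nat_lit 4) (.node (nat_lit 2) (.node (nat_lit 1) (.leaf (Rule.fwd [nat_lit 70, nat_lit 49, nat_lit 28,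 nat_lit 70, nat_lit 49, nat_lit 28, nat_lit 49, nat_lit 70, nat_lit 7, nat_lit 49, nat_lit 70] 13 7)) (.leaf (Rule.fwd [nat_lit 70, nat_lit 49, nat_lit 7, nat_lit 49, nat_lit 70, nat_lit 7, nat_lit 49, nat_lit 70, nat_lit 7, nat_lit 70, nat_lit 49] 12 9))) (.node (nat_lit 1) (.leaf (Rule.fwd [nat_lit 70, nat_lit 28, nat_lit 49, nat_lit 28, nat_lit 70, nat_lit 28, nat_lit 70, nat_lit 49, nat_lit 70] 11 5)) (.leaf (Rule.fwd [nat_lit 49, nat_lit 70, nat_lit 49, nat_lit 28, nat_lit 49, nat_lit 28, nat_lit 70, nat_lit 28, nat_lit 49] 9 7)))) (.node (nat_lit 1) (.leaf (Rule.fwd [nat_lit 49, nat_lit 28, nat_lit 70, nat_lit 28, nat_lit 49, nat_lit 28, nat_lit 49, nat_lit 70, nat_lit 49] 9 3)) (.leaf (Rule.fwd [nat_lit 70, nat_lit 28, nat_lit 49, nat_lit 28, nat_lit 49, nat_lit 70, nat_lit 49, nat_lit 28, nat_lit 49] 9 1))))), (.node (nat_lit 1) (.leaf XRule.defn) (.leaf XRule.defn))⟩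
noncomputable def ci49 : CI := ⟨[2], (nat_lit 49), false, (.node (nat_lit 8) (.node (nat_lit 4) (.node (nat_lit 2) (.node (nat_lit 1) (.leaf Rule.defn) (.leaf Rule.copy)) (.node (nat_lit 1) (.leaf (Rule.fwd [nat_lit 49] 14 0)) (.leaf (Rule.fwd [nat_lit 70, nat_lit 49, nat_lit 70, nat_lit 49, nat_lit 70, nat_lit 7, nat_lit 7, nat_lit 49, nat_lit 70] 6 4)))) (.node (nat_lit 2) (.node (nat_lit 1) (.leaf (Rule.fwd [nat_lit 7, nat_lit 49, nat_lit 7, nat_lit 70, nat_lit 7, nat_lit 49, nat_lit 7, nat_lit 49, nat_lit 70] 8 5)) (.leaf (Rule.fwd [nat_lit 7, nat_lit 49, nat_lit 70, nat_lit 49, nat_lit 7, nat_lit 49, nat_lit 7, nat_lit 70, nat_lit 7] 8 1))) (.node (nat_lit 1) (.leaf (Rule.fwd [nat_lit 7, nat_lit 7, nat_lit 49, nat_lit 28, nat_lit 28] 2 5)) (.leaf (Rule.fwd [nat_lit 7, nat_lit 70, nat_lit 7, nat_lit 49, nat_lit 7, nat_lit 49, nat_lit 70, nat_lit 49, nat_lit 7] 8 7))))) (.node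 (nat_lit 4) (.node (nat_lit 2) (.node (nat_lit 1) (.leaf (Rule.fwd [nat_lit 70, nat_lit 49, nat_lit 7, nat_lit 49, nat_lit 7, nat_lit 70, nat_lit 7, nat_lit 49, nat_lit 7] 8 3)) (.leaf (Rule.fwd [nat_lit 70, nat_lit 49, nat_lit 28, nat_lit 49, nat_lit 28, nat_lit 70, nat_lit 28, nat_lit 49, nat_lit 28] 9 6))) (.node (nat_lit 1) (.leaf (Rule.fwd [nat_lit 7, nat_lit 49, nat_lit 70, nat_lit 7, nat_lit 49, nat_lit 70, nat_lit 7, nat_lit 70, nat_lit 49, nat_lit 28, nat_lit 70] 12 11)) (.leaf (Rule.fwd [nat_lit 28, nat_lit 70, nat_lit 49, nat_lit 7, nat_lit 49, nat_lit 70, nat_lit 7, nat_lit 49, nat_lit 70, nat_lit 7, nat_lit 70] 12 8)))) (.node (nat_lit 2) (.node (nat_lit 1) (.leaf (Rule.fwd [nat_lit 70, nat_lit 49, nat_lit 70, nat_lit 49, nat_lit 28, nat_lit 28, nat_lit 70, nat_lit 49, nat_lit 70] 7 7)) (.leaf (Rule.fwd [nat_lit 70, nat_lit 49, nat_lit 70, nat_lit 49, nat_lit 70,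 nat_lit 49, nat_lit 28, nat_lit 28, nat_lit 70] 7 9))) (.node (nat_lit 1) (.leaf (Rule.fwd [nat_lit 28, nat_lit 28, nat_lit 49, nat_lit 7, nat_lit 7] 2 2)) (.leaf (Rule.fwd [nat_lit 70, nat_lit 49, nat_lit 70, nat_lit 7, nat_lit 7, nat_lit 49, nat_lit 70, nat_lit 49, nat_lit 70] 6 6)))))), (.node (nat_lit 1) (.leaf XRule.defn) (.leaf XRule.defn))⟩
noncomputable def ci70 : CI := ⟨[3], (nat_lit 70), false, (.node (nat_lit 8) (.node (nat_lit 4) (.node (nat_lit 2) (.node (nat_lit 1) (.leaf Rule.defn) (.leaf Rule.copy)) (.node (nat_lit 1) (.leaf (Rule.fwd [nat_lit 70] 14 0)) (.leaf (Rule.fwd [nat_lit 49, nat_lit 70, nat_lit 49, nat_lit 70, nat_lit 49, nat_lit 70, nat_lit 7, nat_lit 7, nat_lit 49] 6 3)))) (.node (nat_lit 2) (.node (nat_lit 1) (.leaf (Rule.fwd [nat_lit 49, nat_lit 70, nat_lit 7, nat_lit 70, nat_lit 7, nat_lit 49, nat_lit 7, nat_lit 70, nat_lit 7] 10 5)) (.leaf (Rule.fwd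 [nat_lit 49, nat_lit 70, nat_lit 28, nat_lit 70, nat_lit 28, nat_lit 49, nat_lit 28, nat_lit 70, nat_lit 28] 11 8))) (.node (nat_lit 1) (.leaf (Rule.fwd [nat_lit 7, nat_lit 70, nat_lit 49, nat_lit 70, nat_lit 7, nat_lit 70, nat_lit 7, nat_lit 49, nat_lit 7] 10 3)) (.leaf (Rule.fwd [nat_lit 7, nat_lit 7, nat_lit 70, nat_lit 28, nat_lit 28] 4 5))))) (.node (nat_lit 4) (.node (nat_lit 2) (.node (nat_lit 1) (.leaf (Rule.fwd [nat_lit 7, nat_lit 70, nat_lit 7, nat_lit 49, nat_lit 7, nat_lit 70, nat_lit 7, nat_lit 70, nat_lit 49] 10 7)) (.leaf (Rule.fwd [nat_lit 7, nat_lit 49, nat_lit 7, nat_lit 70, nat_lit 7, nat_lit 70, nat_lit 49, nat_lit 70, nat_lit 7] 10 9))) (.node (nat_lit 1) (.leaf (Rule.fwd [nat_lit 28, nat_lit 28, nat_lit 70, nat_lit 7, nat_lit 7] 4 2)) (.leaf (Rule.fwd [nat_lit 49, nat_lit 7, nat_lit 49, nat_lit 7, nat_lit 70, nat_lit 7, nat_lit 49, nat_lit 7, nat_lit 49]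 8 4)))) (.node (nat_lit 2) (.node (nat_lit 1) (.leaf (Rule.fwd [nat_lit 7, nat_lit 7, nat_lit 49, nat_lit 70, nat_lit 49, nat_lit 70, nat_lit 49, nat_lit 70, nat_lit 49] 6 9)) (.leaf (Rule.fwd [nat_lit 7, nat_lit 49, nat_lit 70, nat_lit 7, nat_lit 70, nat_lit 49, nat_lit 28, nat_lit 70, nat_lit 49, nat_lit 7, nat_lit 49] 12 2))) (.leaf (Rule.fwd [nat_lit 7, nat_lit 49, nat_lit 7, nat_lit 49, nat_lit 70, nat_lit 49, nat_lit 7, nat_lit 49, nat_lit 7] 8 9))))), (.node (nat_lit 1) (.leaf XRule.defn) (.leaf XRule.defn))⟩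
noncomputable def outer : Tr CI := (.node (nat_lit 1) (.node (nat_lit 2) (.node (nat_lit 4) (.leaf ci0) (.leaf ci28)) (.leaf ci70)) (.node (nat_lit 2) (.leaf ci49) (.leaf ci7)))
def cols : List ℕ := [nat_lit 7, nat_lit 28, nat_lit 49, nat_lit 70]
def invL : List ℕ := [1, 0, 2, 3]
def rels : List (List ℕ) := [[0, 0, 0, 0], [0, 0, 2, 1, 1, 2], [0, 0, 3, 1, 1, 3], [0, 0, 2, 3, 2, 3, 2, 3, 2, 3], [0, 2, 0, 2, 3, 2, 0, 2, 0, 3], [0, 2, 0, 3, 0, 3, 2, 3, 0, 3], [0, 2, 3, 0, 2, 3, 0, 3, 2, 1, 3, 2]]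
def subs : List (List ℕ) := []
noncomputable def row (n : ℕ) : ℕ := rowOf (fun h => rows.get h) (nat_lit 4) (nat_lit 15) (nat_lit 91) (nat_lit 0x7ffffffffffffffffffffff) n
noncomputable def xleaf (h : ℕ) : ℕ := recs.get h
noncomputable def mF : ℕ → ℕ := mainRow row (rowChk row xleaf outer (nat_lit 9) (nat_lit 511) (nat_lit 31) (nat_lit 14) (nat_lit 16383) (nat_lit 2097151) (nat_lit 128) (nat_lit 256) (nat_lit 256) (nat_lit 7) (nat_lit 127) (nat_lit 16) (nat_lit 65535) (nat_lit 8) (nat_lit 255) cols)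
noncomputable def xF : ℕ → ℕ → ℕ := xLeaf row xleaf outer (nat_lit 511) (nat_lit 14) (nat_lit 2097151) (nat_lit 128) (nat_lit 256) (nat_lit 7) (nat_lit 127) (nat_lit 16) (nat_lit 65535) (nat_lit 65408) (nat_lit 8) (nat_lit 255) (nat_lit 10) (nat_lit 1023) (nat_lit 2) (nat_lit 3) (nat_lit 70) (nat_lit 32768) (nat_lit 128)
noncomputable def cert : Cert := ⟨row, xleaf, outer, cols, nat_lit 9, nat_lit 511, nat_lit 31, nat_lit 14, nat_lit 16383, nat_lit 2097151, nat_lit 128, nat_lit 256, nat_lit 256, nat_lit 7, nat_lit 127, nat_lit 16, nat_lit 65535, nat_lit 65408, nat_lit 8, nat_lit 255, nat_lit 10, nat_lit 1023, nat_lit 2, nat_lit 3, nat_lit 70, nat_lit 32768, nat_lit 128, nat_lit 21, nat_lit 128, nat_lit 1⟩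
theorem tabok : tabOK (fun i => invL.getD i i) rels subs outer cols (nat_lit 7) (nat_lit 70) = true := by decide +kernel
theorem m0 : rng mF (nat_lit 1) (nat_lit 256) = 0 := by decide +kernel
noncomputable def s0 : List ℕ := [nat_lit 0x0]
theorem x0 : xs xF s0 (nat_lit 1) = 0 := by decide +kernel
theorem mz0 : AllZ mF 1 (nat_lit 257) := (AllZ.step (AllZ.nil mF 1) (nat_lit 256) (nat_lit 257) rfl m0)
theorem xz0 : XZ xF (nat_lit 1) := (XZ.step (XZ.nil xF) s0 (nat_lit 1) (nat_lit 1) (by decide +kernel) x0)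
/-- the certificate (256 points) is valid -/
theorem valid : cert.Valid (fun i => invL.getD i i) rels subs 4 :=
  ⟨by decide +kernel, tabok, by decide +kernel, mz0, xz0⟩
theorem cert_N : cert.N = 256 := rfl

end CL.TC.ONTU
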