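import Cfsg.Agent.Spor.TCSound

/-! coset enumeration certificate generated by tools/tc -/

set_option maxRecDepth 100000
set_option autoImplicit false
set_option linter.all false

namespace CL.TC.ThD

noncomputable def rows0 : Tr ℕ := (.node (nat_lit 4) (.node (nat_lit 2) (.node (nat_lit 1) (.leaf (nat_lit 0xfcc7bf31dfe41f520b33fc837e639f60462414f7f31bfe41bf31ab28255fc631fc82fe63321892bfe413f318f8c5edb117bf98bfe62dfc826962067f903fcc57ec05c2c3defe629fc81fe62761872bfe40bf312f8c3fec057bf988ff205f9885e408aff30ffcc3bf902c880ccff203f986fc615f1843dfcc33f901fcc2eeb0757f9857e613fc80e360c67f308fcc1ff306fe4043fe60bf9827e607f98100)) (.leaf (nat_lit 0xf4cbff330fe449fa1933f6097f223f997c7430aff910fccbbec11d0c5defe65bfc887c643f28b2bf8caff90ffccb2221557fc877e657f19557428f7f32ad0c97f90ed084ccfa651f994ff21af99019fb037f90cfcca2331f57fc85fe64ff6066983cf7f326fe42ff325f6c755fc647fc857e6490d8e2bfe427f323f8c8ab31b7bf9917e643fc84e763467e31ffe423f320928355ff20ff98ffc63d71063d)))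 (.node (nat_lit 1) (.leaf (nat_lit 0xfcd03f920c0cd3052957ee907e67ffc8fbd65067e33dfe47bf33e6889d5ff23bf99efa663ea133df4cf1eb39fe471ea2433f60e7f237f99e42446aff91afccefec1bcd089efe675fc8cfe6737d982bf7467f338fe461f42f33f19b7f22ff99bb365caff916fccdbe335f2cb5efe66ba60d7f22df69099f4ccff334fe455e32c33f60aff229f999c1656aff913fcccbec14caca9efe663fc89fda3bf192ab)) (.leaf (nat_lit 0xfe4c3c34ebcd12f43a7bf9a77f25f99a3e6a70afd34d76d23f92e608dccfd85dfc96fe69ac91b2bf74b3f34cfe4addb333399a2ff255f9a5a9464aff929f0d27e34abad01efe694fa167f253f29a19fcd27f928fcd232b3f57e9a37e68ffc93af67c67ec27fe49bf34662cf55ff24bf9a2fd84dee18bdfcd13f924c38c3db3957ee927e687fc91bc87867e341fe48bf34250ced5ff243f9a0fb85be99abd)))) (.node (nat_lit 1) (.leaf (nat_lit 0xfcd6bf942cb933db5157eea17e6b3fca0a48a667f93ff35032355c9125efba7df9ac7f27ab9a31976d5ff93cc8d4325435791a9b96a3fc9da548467f939fcd5fec3af5111eff271e69d7c6ad8da73dfcd59e43efe4e3e54733f9aaff26f9f1ffb690afdd37fcd53f9365f134ce7877fc9afe6a69d20abfe4d3c352bf103cb4a7bf9a97f267f9a8e3698afd34ffcd43f93248d2ccfd865fc98fe69e99a2ab))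 (.leaf (nat_lit 0x71173f95b42d78fb5f57fcacf9ab4822ea08c0f5d458fe55914603cd755ff2a9e6aa9f6be7e2f3d6ed83f95347d610e5957fca8fe6c1f6297a8b4f7f950f0d7ddc57f2d6defe6bffca7a2ea881ae2b72d7bf94d44d71035456f2267f294e9ad3a6a4aff948fcd7bec49f5155eff28fe1aee589de5ab3dfcd77f94642d650d585796a5fe6b9fca2a369e67f943f3513e35b7715defe6b6ea25ff287f2a819))))
noncomputable def recs0 : Tr ℕ := (.leaf (nat_lit 0x1083a587b4009601043a287b2008a00c839d873b014c00c805880420f681e99ed93d410f641cec3d887370e7c1ea401f00360e7a1e9c01e80270e5c1cb80520027014a00dc3d487a47b4ef4d83d387320f4c1cb83d287270f481c903960793005800643900720011a006404800230e561e4401580150e381c700450015011c006038f878b003e0034389071200d601c00068005011e00903c9878a7b22f48c3c887200f201dc15c7ab1c0f1c1c643c6876b7b16f4603c587150f141c5038d877100360024387070e00ce0024036800c0e221da000880040e0e1c1c031006400080004037000a0e1e1d9400780030e0c1c1803080630006002403600130e341dcc00d000b0e201c40035000b00de004c3b987140ee21d9deb8bd120ee01c403b7876456dcac383b6876356d8ac343b5870b0ed41c303b407627ad0f4243b3870a0eca1d85eb2bd070ec81c183b187040ec41c0c3b087))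
noncomputable def rows : Tr ℕ := rows0
noncomputable def recs : Tr ℕ := recs0
noncomputable def ci0 : CI := ⟨[], (nat_lit 0), false, (.node (nat_lit 1) (.leaf Rule.defn) (.leaf Rule.copy)), (.node (nat_lit 4) (.node (nat_lit 2) (.node (nat_lit 1) (.leaf (XRule.rot (nat_lit 0) [] 8 0)) (.leaf (XRule.rot (nat_lit 528721441695618457) [25, 43, 25, 43, 25, 43, 25, 43, 7] 3 0))) (.node (nat_lit 1) (.leaf (XRule.rot (nat_lit 903) [7, 7] 8 0)) (.leaf (XRule.rot (nat_lit 1825758134378321287) [7, 43, 25, 43, 25, 43, 25, 43, 25] 2 0)))) (.node (nat_lit 2) (.node (nat_lit 1) (.leaf (XRule.rot (nat_lit 3102528628737856921) [25, 43, 25, 43, 25, 43, 25, 7, 43] 2 2)) (.leaf (XRule.rot (nat_lit 5547) [43, 43] 8 0))) (.leaf (XRule.rot (nat_lit 7869) [61, 61] 8 0))))⟩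
noncomputable def ci7 : CI := ⟨[0], (nat_lit 7), false, (.node (nat_lit 4) (.node (nat_lit 2) (.node (nat_lit 1) (.leaf Rule.defn) (.leaf Rule.copy)) (.node (nat_lit 1) (.leaf (Rule.fwd [nat_lit 7] 8 0)) (.leaf (Rule.fwd [nat_lit 61, nat_lit 7, nat_lit 61] 0 0)))) (.node (nat_lit 1) (.leaf (Rule.fwd [nat_lit 43, nat_lit 25, nat_lit 43, nat_lit 25, nat_lit 43, nat_lit 25, nat_lit 43, nat_lit 25] 2 0)) (.leaf (Rule.fwd [nat_lit 25, nat_lit 43, nat_lit 25, nat_lit 43, nat_lit 25, nat_lit 43, nat_lit 25, nat_lit 43] 3 1)))), (.node (nat_lit 2) (.node (nat_lit 1) (.leaf XRule.defn) (.leaf XRule.defn)) (.node (nat_lit 1) (.leaf (XRule.rot (nat_lit 1000381) [61, 7, 61] 0 0)) (.leaf (XRule.rot (nat_lit 7) [7] 8 0))))⟩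
noncomputable def ci25 : CI := ⟨[1], (nat_lit 25), false, (.node (nat_lit 4) (.node (nat_lit 2) (.node (nat_lit 1) (.leaf Rule.defn) (.leaf Rule.copy)) (.node (nat_lit 1) (.leaf (Rule.fwd [nat_lit 25] 8 0)) (.leaf (Rule.fwd [nat_lit 61, nat_lit 25, nat_lit 61] 4 0)))) (.node (nat_lit 2) (.node (nat_lit 1) (.leaf (Rule.fwd [nat_lit 43, nat_lit 25, nat_lit 43, nat_lit 7, nat_lit 25, nat_lit 43, nat_lit 25, nat_lit 43] 3 5)) (.leaf (Rule.fwd [nat_lit 43, nat_lit 25, nat_lit 43, nat_lit 25, nat_lit 7, nat_lit 43, nat_lit 25, nat_lit 43] 2 4))) (.leaf (Rule.fwd [nat_lit 43, nat_lit 25, nat_lit 43, nat_lit 25, nat_lit 43, nat_lit 25, nat_lit 7, nat_lit 43] 2 2)))), (.node (nat_lit 1) (.leaf XRule.defn) (.leaf XRule.defn))⟩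
noncomputable def ci43 : CI := ⟨[2], (nat_lit 43), false, (.node (nat_lit 4) (.node (nat_lit 2) (.node (nat_lit 1) (.leaf Rule.defn) (.leaf Rule.copy)) (.node (nat_lit 1) (.leaf (Rule.fwd [nat_lit 43] 8 0)) (.leaf (Rule.fwd [nat_lit 25, nat_lit 43, nat_lit 25, nat_lit 43, nat_lit 25, nat_lit 7, nat_lit 43, nat_lit 25] 2 3)))) (.leaf (Rule.fwd [nat_lit 61, nat_lit 43, nat_lit 61, nat_lit 43, nat_lit 61] 6 0))), (.node (nat_lit 1) (.leaf XRule.defn) (.leaf XRule.defn))⟩
noncomputable def ci61 : CI := ⟨[3], (nat_lit 61), false, (.node (nat_lit 4) (.node (nat_lit 2) (.node (nat_lit 1) (.leaf Rule.defn) (.leaf Rule.copy)) (.node (nat_lit 1) (.leaf (Rule.fwd [nat_lit 61] 8 0)) (.leaf (Rule.fwd [nat_lit 43, nat_lit 61, nat_lit 43, nat_lit 61, nat_lit 43] 6 1)))) (.leaf (Rule.fwd [nat_lit 25, nat_lit 61, nat_lit 25] 4 1))), (.node (nat_lit 2) (.node (nat_lit 1) (.leaf XRule.defn) (.leaf XRule.defn)) (.leaf (XRule.rot (nat_lit 122503) [7, 61, 7] 0 1)))⟩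
noncomputable def outer : Tr CI := (.node (nat_lit 2) (.node (nat_lit 1) (.leaf ci0) (.node (nat_lit 4) (.leaf ci25) (.leaf ci61))) (.node (nat_lit 4) (.leaf ci43) (.leaf ci7)))
def cols : List ℕ := [nat_lit 7, nat_lit 25, nat_lit 43, nat_lit 61]
def invL : List ℕ := [0, 1, 2, 3]
def rels : List (List ℕ) := [[0, 3, 0, 3], [0, 2, 1, 2, 1, 2, 1, 2, 1], [1, 3, 1, 3], [2, 3, 2, 3, 2, 3]]
def subs : List (List ℕ) := []
noncomputable def row (n : ℕ) : ℕ := rowOf (fun h => rows.get h) (nat_lit 4) (nat_lit 15) (nat_lit 79) (nat_lit 0x7fffffffffffffffffff) n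
noncomputable def xleaf (h : ℕ) : ℕ := recs.get h
noncomputable def mF : ℕ → ℕ := mainRow row (rowChk row xleaf outer (nat_lit 8) (nat_lit 255) (nat_lit 7) (nat_lit 11) (nat_lit 2047) (nat_lit 262143) (nat_lit 128) (nat_lit 96) (nat_lit 256) (nat_lit 7) (nat_lit 127) (nat_lit 15) (nat_lit 32767) (nat_lit 8) (nat_lit 255) cols)
noncomputable def xF : ℕ → ℕ → ℕ := xLeaf row xleaf outer (nat_lit 255) (nat_lit 11) (nat_lit 262143) (nat_lit 128) (nat_lit 96) (nat_lit 7) (nat_lit 127) (nat_lit 15) (nat_lit 32767) (nat_lit 32640) (nat_lit 8) (nat_lit 255) (nat_lit 10) (nat_lit 1023) (nat_lit 4) (nat_lit 15) (nat_lit 61) (nat_lit 12288) (nat_lit 128)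
noncomputable def cert : Cert := ⟨row, xleaf, outer, cols, nat_lit 8, nat_lit 255, nat_lit 7, nat_lit 11, nat_lit 2047, nat_lit 262143, nat_lit 128, nat_lit 96, nat_lit 256, nat_lit 7, nat_lit 127, nat_lit 15, nat_lit 32767, nat_lit 32640, nat_lit 8, nat_lit 255, nat_lit 10, nat_lit 1023, nat_lit 4, nat_lit 15, nat_lit 61, nat_lit 12288, nat_lit 128, nat_lit 18, nat_lit 128, nat_lit 1⟩
theorem tabok : tabOK (fun i => invL.getD i i) rels subs outer cols (nat_lit 7) (nat_lit 61) = true := by decide +kernel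
theorem m0 : rng mF (nat_lit 1) (nat_lit 96) = 0 := by decide +kernel
noncomputable def s0 : List ℕ := [nat_lit 0x42501000320000043d0300032000000000000000000004850d000320011d00000000000000000000245134991d0c92844c2300000000000000000000490934b52508d1741400000000000000000250004c1170d5014cd050c9344042300134420364e50b08d1b41c00000000000000000250004f11b0d5034fd070c94040c2300140438365151108d19000000000000000000002450d521190c94a434230014a4803653d2308c0000155001140c800000000000058400548320015d47c00000000000000000250005995d0d5155a51f0c96a454230016a558365bd5508d5b00000000000000000000245535c95b0c97454c2300174588365e56108d5f00000000000000000000245595f15f0c97e56423000000000000000000005909360d6508c00000000018d001860c800624000000000000000000009161d92624326518708c006518e0d9996342300000000000000000000640936759108c00001a30018a0c800684000000000000000000009162da8684326a98b08c006a9a40d9af68c2300000000000000000000698936cda708c00000000000000000000000000000000000000000000000000000000000000000000000000000000000000000000]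
theorem x0 : xs xF s0 (nat_lit 1) = 0 := by decide +kernel
theorem mz0 : AllZ mF 1 (nat_lit 97) := (AllZ.step (AllZ.nil mF 1) (nat_lit 96) (nat_lit 97) rfl m0)
theorem xz0 : XZ xF (nat_lit 1) := (XZ.step (XZ.nil xF) s0 (nat_lit 1) (nat_lit 1) (by decide +kernel) x0)
/-- the certificate (96 points) is valid -/
theorem valid : cert.Valid (fun i => invL.getD i i) rels subs 4 :=
  ⟨by decide +kernel, tabok, by decide +kernel, mz0, xz0⟩
theorem cert_N : cert.N = 96 := rfl

end CL.TC.ThD
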