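/-
Values of derived relators in extensions of a group of permutations of the Golay points by a binary module: identities among
relators, change of lifts (Fox calculus), linear algebra over `ZMod 2` on packed functionals.  Generator: tools/tz.
-/
import Cfsg.Agent.Spor.TZ
import Cfsg.Agent.Spor.M24Perm

set_option autoImplicit false
set_option exponentiation.threshold 600

namespace CL.TZV

open CL.TC CL.TZ Cfsg
open CL.PG hiding frc frc_eq Rep Good tb
open CL.Spor (Rep pf pmul pone packTab getTab gIdx gPt)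

/-- binary words -/
abbrev Vec := GolayPt → ZMod 2

/-- the sum of the coordinates in the mask `m` -/
def dot (m : ℕ) (v : Vec) : ZMod 2 := ∑ i ∈ Finset.range 24, if m.testBit i then v (gPt i) else 0

/-- A group over `M24` whose kernel is a section of the binary words: `Val n v` says that `v` represents `n`; the words that occur
are cut out by the masks `C`, the words representing `1` by the masks `M`. -/
structure Sys (E : Type*) [Group E] (C M : List ℕ) where
  σ : E →* M24
  Val : E → Vec → Prop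
  mul : ∀ {a b v w}, Val a v → Val b w → Val (a * b) (v + w)
  inv : ∀ {a v}, Val a v → Val a⁻¹ v
  conj : ∀ (g : E) {a v}, Val a v → Val (g * a * g⁻¹) fun p => v ((σ g)⁻¹ • p)
  one : Val 1 0
  ker : ∀ a, σ a = 1 ↔ ∃ v, Val a v
  ex : ∀ v, (∃ a, Val a v) ↔ ∀ m ∈ C, dot m v = 0
  zero : ∀ {a v}, Val a v → (a = 1 ↔ ∀ m ∈ M, dot m v = 0)

/-- additive functions on bit masks -/
def Lin (e : ℕ → ZMod 2) : Prop := ∀ a b, e (Nat.xor a b) = e a + e b

theorem Lin.zero {e : ℕ → ZMod 2} (h : Lin e) : e 0 = 0 := (h 0 0).trans (CharTwo.add_self_eq_zero _)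

/-- the mask of a lane -/
def msk : ℕ := nat_lit 0xffffffffffffffffffffffffffffffffffffffffffffffffffffffffffffffffffffffffffffffffffffffffffffffffffffffffffffffffffffffffffffffffffff

theorem msk_eq : msk = 2 ^ 528 - 1 := by decide +kernel

/-- a word of functionals has 24 lanes of 528 bits -/
noncomputable def lane (y i : ℕ) : ℕ := Nat.land (Nat.shiftRight y (Nat.mul 528 i)) msk

theorem lane_eq (y i : ℕ) : lane y i = getTab 528 (2 ^ 528 - 1) y i := msk_eq ▸ rfl

theorem lane_lt (y i : ℕ) : lane y i < 2 ^ 528 := lane_eq y i ▸ Spor.getTab_lt _ _ _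

theorem lane_pack {f : ℕ → ℕ} (h : ∀ i < 24, f i < 2 ^ 528) (p : GolayPt) : lane (packTab 528 f 24) (gIdx p) = f (gIdx p) :=
  (lane_eq _ _).trans (Spor.getTab_packTab h (Spor.gIdx_lt p))

/-- the word obtained by evaluating the lanes -/
noncomputable def vec (e : ℕ → ZMod 2) (y : ℕ) : Vec := fun p => e (lane y (gIdx p))

variable {e : ℕ → ZMod 2}

theorem vec_xor (h : Lin e) (y z : ℕ) : vec e (Nat.xor y z) = vec e y + vec e z := funext fun p => by
  refine Eq.trans (congrArg e (Nat.eq_of_testBit_eq fun j => ?_)) (h _ _)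
  show _ = (lane y _ ^^^ lane z _).testBit j
  simp only [lane_eq, Nat.testBit_xor, Spor.testBit_getTab, show Nat.xor y z = y ^^^ z from rfl, Bool.and_xor_distrib_left]

theorem vec_zero (h : Lin e) : vec e 0 = 0 := (vec_xor h 0 0).trans (CharTwo.add_self_eq_zero _)

/-- permutation of the lanes -/
noncomputable def prm (Q y : ℕ) : ℕ := frc Q fun Q => frc y fun y => packTab 528 (fun i => lane y (pf Q i)) 24

theorem vec_prm {Q : ℕ} {h : M24} (r : Rep Q h) (y : ℕ) : vec e (prm Q y) = fun p => vec e y (h • p) := funext fun p =>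
  congrArg e ((lane_pack (fun _ _ => lane_lt _ _) p).trans (by rw [r.apply]))

/-- the word with the functional `l` at the points of the mask `m` -/
noncomputable def sc (l m : ℕ) : ℕ := packTab 528 (fun i => cond (PG.tb m i) l 0) 24

/-- the word of a mask -/
def wd (m : ℕ) : Vec := fun p => if m.testBit (gIdx p) then 1 else 0

theorem vec_sc (h : Lin e) {l : ℕ} (hl : l < 2 ^ 528) (m : ℕ) : vec e (sc l m) = e l • wd m := funext fun p => by
  rw [vec, sc, lane_pack (fun i _ => by cases PG.tb m i; exacts [Nat.two_pow_pos _, hl]), PG.tb_eq, Pi.smul_apply, wd]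
  cases m.testBit (gIdx p) <;> simp [h.zero]

/-- evaluation at 22 words -/
def evV (v : ℕ → Vec) (f : ℕ) : ZMod 2 := ∑ i ∈ Finset.range 528, if f.testBit i then v (i / 24) (gPt (i % 24)) else 0

theorem lin_evV (v : ℕ → Vec) : Lin (evV v) := fun a b => by
  rw [evV, evV, evV, ← Finset.sum_add_distrib]
  refine Finset.sum_congr rfl fun i _ => ?_
  rw [show Nat.xor a b = a ^^^ b from rfl, Nat.testBit_xor]
  cases a.testBit i <;> cases b.testBit i <;> simp [CharTwo.add_self_eq_zero]

theorem evV_bit (v : ℕ → Vec) {j : ℕ} (hj : j < 528) : evV v (bit j) = v (j / 24) (gPt (j % 24)) := by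
  simp [evV, testBit_bit, Finset.sum_ite_eq, hj]

theorem bit_lt {j : ℕ} (hj : j < 528) : bit j < 2 ^ 528 :=
  (Nat.one_shiftLeft j).trans_lt (Nat.pow_lt_pow_right one_lt_two hj)

/-- the unknown word number `i` -/
noncomputable def yb (i : ℕ) : ℕ := packTab 528 (fun p => bit (Nat.add (Nat.mul 24 i) p)) 24

theorem vec_yb (v : ℕ → Vec) {i : ℕ} (hi : i < 22) : vec (evV v) (yb i) = v i := funext fun p => by
  have := Spor.gIdx_lt p
  rw [vec, yb, lane_pack fun q hq => bit_lt (by show 24 * i + q < _; omega), evV_bit v (by show 24 * i + _ < _; omega)]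
  show v ((24 * i + _) / 24) (gPt ((24 * i + _) % 24)) = _
  rw [Nat.mul_add_div (by norm_num), Nat.mul_add_mod, Nat.div_eq_of_lt this, Nat.mod_eq_of_lt this, Spor.gPt_gIdx, add_zero]

/-! ### Linear algebra -/

/-- the sum of the lanes in the mask `m` -/
noncomputable def dotN (y m n : ℕ) : ℕ :=
  Nat.rec (motive := fun _ => ℕ) 0 (fun i ih => cond (PG.tb m i) (Nat.xor ih (lane y i)) ih) n

theorem e_dotN (h : Lin e) (y m : ℕ) : e (dotN y m 24) = dot m (vec e y) := by
  have : ∀ n ≤ 24, e (dotN y m n) = ∑ i ∈ Finset.range n, if m.testBit i then vec e y (gPt i) else 0 := fun n hn => by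
    induction n with
    | zero => exact h.zero
    | succ n ih =>
      rw [Finset.sum_range_succ, ← ih (by omega), vec, Spor.gIdx_gPt hn, ← PG.tb_eq]
      show e (cond _ _ _) = _
      cases PG.tb m n
      exacts [(add_zero _).symm, h _ _]
  exact this 24 le_rfl

/-- the functionals `dot m (vec y)` in front of `a` -/
noncomputable def dots (ys ms a : List ℕ) : List ℕ :=
  List.rec (motive := fun _ => List ℕ) a (fun y _ ih => frc y fun y => app (mapL (fun m => dotN y m 24) ms) ih) ys

theorem dots_iff (h : Lin e) (ys ms a : List ℕ) :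
    (∀ f ∈ dots ys ms a, e f = 0) ↔ (∀ y ∈ ys, ∀ m ∈ ms, dot m (vec e y) = 0) ∧ ∀ f ∈ a, e f = 0 := by
  induction ys with
  | nil => exact ⟨fun h => ⟨fun _ h => (nomatch h), h⟩, fun h => h.2⟩
  | cons y ys ih =>
    show (∀ f ∈ app (mapL (fun m => dotN y m 24) ms) (dots ys ms a), _) ↔ _
    simp only [app_eq, mapL_eq, List.forall_mem_append, List.forall_mem_map, List.forall_mem_cons, ih, e_dotN h, and_assoc]

/-- reduction by an echelon basis (last entry first) -/
noncomputable def red (B : List ℕ) (f : ℕ) : ℕ :=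
  List.rec (motive := fun _ => ℕ) f (fun b _ ih => frc ih fun g =>
    Bool.rec (motive := fun _ => ℕ) g (Nat.xor g b) (Nat.ble (Nat.xor g b) g)) (cond (Nat.beq f 0) [] B)

theorem e_red (h : Lin e) {B : List ℕ} (hB : ∀ b ∈ B, e b = 0) (f : ℕ) : e (red B f) = e f := by
  unfold red
  cases Nat.beq f 0
  swap; · rfl
  induction B with
  | nil => rfl
  | cons b B ih =>
    refine Eq.trans ?_ (ih fun c hc => hB c (List.mem_cons_of_mem _ hc))
    have : ∀ g, e (Bool.rec (motive := fun _ => ℕ) g (Nat.xor g b) (Nat.ble (Nat.xor g b) g)) = e g := fun g => by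
      cases Nat.ble (Nat.xor g b) g
      exacts [rfl, (h _ _).trans (by rw [hB b List.mem_cons_self, add_zero])]
    exact this _

/-- a functional with a check sum in the low 64 bits (the kernel hashes numbers by these bits) -/
noncomputable def scr (f : ℕ) : ℕ :=
  frc f fun f => frc (Nat.xor f (Nat.xor (Nat.shiftRight f 256) (Nat.shiftRight f 512))) fun a =>
    frc (Nat.xor a (Nat.shiftRight a 128)) fun b =>
      Nat.add (Nat.mul 18446744073709551616 f) (Nat.mod (Nat.xor b (Nat.shiftRight b 64)) 18446744073709551616)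

theorem scr_shift (f : ℕ) : scr f >>> 64 = f := by
  rw [Nat.shiftRight_eq_div_pow]
  exact (Nat.mul_add_div (by norm_num) _ _).trans (congrArg (f + ·) (Nat.div_eq_of_lt (Nat.mod_lt _ (by norm_num))))

/-- the functionals `Tg` are combinations of `F` and `B` -/
noncomputable def impl (F Tg : List ℕ) : List ℕ → Bool :=
  List.rec (motive := fun _ => List ℕ → Bool) (fun B => allL (fun t => Nat.beq (red B t) 0) Tg)
    (fun f _ ih B => frc (red B f) fun g => cond (Nat.beq g 0) (ih B) (ih (g :: B))) F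

theorem impl_spec (h : Lin e) {F Tg B : List ℕ} (c : impl F Tg B = true) (hB : ∀ b ∈ B, e b = 0)
    (hF : ∀ f ∈ F, e f = 0) : ∀ t ∈ Tg, e t = 0 := by
  induction F generalizing B with
  | nil => exact fun t ht => by rw [← e_red h hB, Nat.eq_of_beq_eq_true (allL_spec c t ht), h.zero]
  | cons f F ih =>
    have c' : cond (Nat.beq (red B f) 0) (impl F Tg B) (impl F Tg (red B f :: B)) = true := c
    have hF' : ∀ g ∈ F, e g = 0 := fun g hg => hF g (List.mem_cons_of_mem _ hg)
    cases hb : Nat.beq (red B f) 0 <;> rw [hb] at c'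
    · exact ih c' (List.forall_mem_cons.2 ⟨(e_red h hB f).trans (hF f List.mem_cons_self), hB⟩) hF'
    · exact ih c' hB hF'

/-- the functionals `Tg` are combinations of `F` -/
noncomputable def implies (F Tg : List ℕ) : Bool := impl (mapL scr F) (mapL scr Tg) []

theorem implies_spec (h : Lin e) {F Tg : List ℕ} (c : implies F Tg = true) (hF : ∀ f ∈ F, e f = 0) : ∀ t ∈ Tg, e t = 0 := by
  have := impl_spec (e := fun x => e (x >>> 64)) (fun a b => (congrArg e Nat.shiftRight_xor_distrib).trans (h _ _)) c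
    (fun _ h => nomatch h)
  simp only [mapL_eq, List.forall_mem_map, scr_shift] at this
  exact this hF

/-! ### Values of derived relators -/

variable {E : Type*} [Group E] {C M : List ℕ} (S : Sys E C M) {gs : List E} {T W P : ℕ → ℕ}

/-- `T d` is the inverse of the permutation of the digit `d` -/
def Sys.Tab (gs : List E) (T : ℕ → ℕ) : Prop := ∀ d, Rep (T d) (S.σ (letG (1 :: gs) d))⁻¹

/-- the inverse of the permutation of the low `k` digits, in front of `a` -/
noncomputable def go (T : ℕ → ℕ) (k : ℕ) : ℕ → ℕ → ℕ :=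
  Nat.rec (motive := fun _ => ℕ → ℕ → ℕ) (fun _ a => a) (fun _ ih u a => cond (Nat.beq u 0) a
    (frc (Nat.div u 256) fun v => frc (T (Nat.mod u 256)) fun t => frc (pmul t a) (ih v))) k

variable {S}

theorem rep_go (hT : S.Tab gs T) (k u : ℕ) {a : ℕ} {h : M24} (r : Rep a h) :
    Rep (go T k u a) ((S.σ (V gs (u % 256 ^ k)))⁻¹ * h) := by
  induction k generalizing u a h with
  | zero => show Rep a _; simpa [Nat.mod_one, V_zero] using r
  | succ k ih =>
    show Rep (cond (Nat.beq u 0) a (go T k (u / 256) (pmul (T (u % 256)) a))) _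
    cases hu : Nat.beq u 0
    · have := ih (u / 256) ((hT (u % 256)).mul r)
      rwa [V_eq gs (u % 256 ^ (k + 1)), pow_succ', Nat.mod_mul_right_mod, Nat.mod_mul_right_div_self, map_mul, mul_inv_rev,
        mul_assoc]
    · rw [Nat.eq_of_beq_eq_true hu]; simpa [V_zero] using r

theorem rep_goW (hT : S.Tab gs T) (u : ℕ) {a : ℕ} {h : M24} (r : Rep a h) :
    Rep (go T (len u) u a) ((S.σ (V gs u))⁻¹ * h) := by
  simpa only [Nat.mod_eq_of_lt (lt_len u)] using rep_go hT (len u) u r

/-- the value after one operation -/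
noncomputable def stepY (T W Y : ℕ → ℕ) (k o c y : ℕ) : ℕ :=
  frc (Nat.mod (Nat.mod o 65536) k) fun j => frc (Nat.mod (Nat.div o 65536) 2048) fun r =>
    cond (Nat.beq j 0) (frc (hi c r) fun u => prm (go T (len u) u pone) y)
      (frc (hi (sgn (Nat.div o 274877906944) (W j)) r) fun u =>
        Nat.xor (prm (frc (go T (Nat.mod (Nat.div o 134217728) 2048) c pone) (go T (len u) u)) (Y j)) y)

/-- the values of the first `n` words -/
def Sys.KV (S : Sys E C M) (gs : List E) (e : ℕ → ZMod 2) (W Y : ℕ → ℕ) (n : ℕ) : Prop :=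
  0 < n ∧ ∀ k < n, S.Val (V gs (W k)) (vec e (Y k))

theorem val_sgn {u : ℕ} {v : Vec} (h : S.Val (V gs u) v) (s : ℕ) : S.Val (V gs (sgn s u)) v := by
  cases s with
  | zero => exact h
  | succ s =>
    have := V_invK gs (len u) u 0
    rw [Nat.mod_eq_of_lt (lt_len u), V_zero, mul_one] at this
    exact (show V gs (sgn (s + 1) u) = _ from this) ▸ S.inv h

theorem val_ins (he : Lin e) (hT : S.Tab gs T) {u c y z : ℕ} (hu : S.Val (V gs u) (vec e z)) (hc : S.Val (V gs c) (vec e y))
    (p r : ℕ) : S.Val (V gs (cat (lo c p) (rot u r (hi c p))))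
      (vec e (Nat.xor (prm (go T (len (hi u r)) (hi u r) (go T p c pone)) z) y)) := by
  have := S.mul (S.conj (V gs (lo c p) * V gs (hi u r)) hu) hc
  rw [V_cat, V_rot, vec_xor he, vec_prm (rep_goW hT _ (rep_go hT _ c Spor.rep_one)), mul_one, ← mul_inv_rev, ← map_mul]
  rw [← V_lo_hi gs c p, ← V_lo_hi gs u r] at this
  convert this using 1
  exacts [by group, rfl]

theorem val_rot (hT : S.Tab gs T) {c y : ℕ} (hc : S.Val (V gs c) (vec e y)) (r : ℕ) :
    S.Val (V gs (rot c r 0)) (vec e (prm (go T (len (hi c r)) (hi c r) pone) y)) := by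
  have := S.conj (V gs (hi c r)) hc
  rw [← V_lo_hi gs c r] at this
  rw [V_rot, vec_prm (rep_goW hT _ Spor.rep_one), V_zero, mul_one, mul_one]
  convert this using 1
  group

theorem val_step (he : Lin e) (hT : S.Tab gs T) {Y : ℕ → ℕ} {n : ℕ} (h : S.KV gs e W Y n) (o : ℕ) {c y : ℕ}
    (hc : S.Val (V gs c) (vec e y)) : S.Val (V gs (step W n o c)) (vec e (stepY T W Y n o c y)) := by
  simp only [step, stepY, show ∀ (n : ℕ) (f : ℕ → ℕ), frc n f = f n from fun n f => (frc_eq n f).trans rfl]
  cases Nat.beq _ 0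
  exacts [val_ins he hT (val_sgn (h.2 _ (Nat.mod_lt (Nat.mod o 65536) h.1)) _) hc _ _, val_rot hT hc _]

/-- a program with values -/
noncomputable def runY (T W Y : ℕ → ℕ) (k : ℕ) (κ : ℕ → ℕ → Bool) (f : ℕ) : ℕ → ℕ → ℕ → Bool :=
  Nat.rec (motive := fun _ => ℕ → ℕ → ℕ → Bool) (fun _ => κ) (fun _ ih q c y => frc (Nat.div q 1099511627776) fun q' =>
    frc (Nat.mod q 1099511627776) fun o => frc (step W k o c) fun c' => frc (stepY T W Y k o c y) (ih q' c')) f

theorem val_run (he : Lin e) (hT : S.Tab gs T) {Y : ℕ → ℕ} {n : ℕ} (h : S.KV gs e W Y n) {κ : ℕ → ℕ → Bool} (f q : ℕ)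
    {c y : ℕ} (hc : S.Val (V gs c) (vec e y)) (r : runY T W Y n κ f q c y = true) :
    ∃ c y, S.Val (V gs c) (vec e y) ∧ κ c y = true := by
  induction f generalizing q c y with
  | zero => exact ⟨c, y, hc, r⟩
  | succ f ih => exact ih _ (val_step he hT h _ hc) r

/-- entry `j` of a list of length `k` in reverse order -/
noncomputable def rv (L : List ℕ) (k j : ℕ) : ℕ := nth 0 L (Nat.sub k (Nat.succ j))

/-- the values of the words `k, …, k + n - 1` are put in front of the list `L` -/
noncomputable def allY (T W P : ℕ → ℕ) (κ : List ℕ → Bool) (n : ℕ) : ℕ → List ℕ → Bool :=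
  Nat.rec (motive := fun _ => ℕ → List ℕ → Bool) (fun _ => κ) (fun _ ih k L => frc (P k) fun q =>
    runY T W (rv L k) k (fun c y => cond (Nat.beq c (W k)) (frc (Nat.succ k) fun k' => ih k' (y :: L)) false)
      (Nat.succ (Nat.div (Nat.log2 q) 40)) (Nat.div q 2) 0 0) n

theorem val_all (he : Lin e) (hT : S.Tab gs T) {κ : List ℕ → Bool} (n : ℕ) {k : ℕ} {L : List ℕ}
    (h : S.KV gs e W (rv L k) k) (r : allY T W P κ n k L = true) :
    ∃ L, S.KV gs e W (rv L (k + n)) (k + n) ∧ κ L = true := by
  induction n generalizing k L with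
  | zero => exact ⟨L, h, r⟩
  | succ n ih =>
    obtain ⟨c, y, hc, r'⟩ := val_run he hT h (Nat.succ (Nat.div (Nat.log2 (P k)) 40)) (Nat.div (P k) 2) (c := 0) (y := 0)
      (by rw [V_zero, vec_zero he]; exact S.one) r
    cases hb : Nat.beq c (W k) <;> rw [hb] at r'
    · exact Bool.noConfusion r'
    rw [add_comm n, ← add_assoc]
    refine ih (L := y :: L) ⟨k.succ_pos, fun j hj => ?_⟩ r'
    rcases Nat.lt_succ_iff_lt_or_eq.1 hj with hj | rfl
    · have := h.2 j hj
      rwa [rv, show Nat.sub (k + 1) (Nat.succ j) = Nat.sub k (Nat.succ j) + 1 by show k + 1 - (j + 1) = k - (j + 1) + 1; omega]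
    · rw [rv, show Nat.sub (j + 1) (Nat.succ j) = 0 from Nat.sub_self _, ← Nat.eq_of_beq_eq_true hb]; exact hc

/-- the unknown values of `n` relators in reverse order -/
noncomputable def base (n : ℕ) : List ℕ := Nat.rec (motive := fun _ => List ℕ) [0] (fun i ih => yb i :: ih) n

theorem rv_base {n j : ℕ} (h : j ≤ n) : rv (base n) (n + 1) j = Nat.casesOn j 0 yb := by
  induction n with
  | zero => rw [Nat.le_zero.1 h]; rfl
  | succ n ih =>
    rcases Nat.lt_succ_iff_lt_or_eq.1 (Nat.lt_succ_of_le h) with hj | rfl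
    · rw [← ih (by omega), rv, show Nat.sub (n + 1 + 1) (Nat.succ j) = Nat.sub (n + 1) (Nat.succ j) + 1 by
        show n + 1 + 1 - (j + 1) = n + 1 - (j + 1) + 1; omega]; rfl
    · rw [rv, show Nat.sub (n + 1 + 1) (Nat.succ (n + 1)) = 0 from Nat.sub_self _]; rfl

/-- identities among the relators `R`: the last words of a derivation of `n` words are empty and have the values `I` -/
noncomputable def idsB (T W P : ℕ → ℕ) (R : List (List ℕ)) (n : ℕ) (I : List ℕ) : Bool :=
  Nat.beq (W 0) 0 && allR (fun k => isW W (k + 2) (nth [] R k) (k + 1)) 0 R.length && Nat.ble I.length n &&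
    allY T W P (fun L => allR (fun i => Nat.beq (W (R.length + n - i)) 0 && Nat.beq (nth 0 L i) (nth 0 I i)) 0 I.length)
      n (R.length + 1) (base R.length)

theorem val_ids (he : Lin e) (hT : S.Tab gs T) {R : List (List ℕ)} {n : ℕ} {I : List ℕ} (c : idsB T W P R n I = true)
    (h : ∀ i < R.length, S.Val (wordG gs (nth [] R i)) (vec e (yb i))) : ∀ y ∈ I, S.Val 1 (vec e y) := by
  simp only [idsB, Bool.and_eq_true, Nat.beq_eq, Nat.ble_eq] at c
  obtain ⟨⟨⟨c1, c2⟩, c3⟩, c4⟩ := c
  obtain ⟨L, hL, r⟩ := val_all (S := S) he hT n ⟨Nat.succ_pos _, fun k hk => by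
    rw [rv_base (by omega)]
    cases k with
    | zero => rw [c1, V_zero]; exact (vec_zero he).symm ▸ S.one
    | succ k => rw [(isW_spec (allR_zero c2 k (by omega))).2]; exact h k (by omega)⟩ c4
  intro y hy
  obtain ⟨i, hi, rfl⟩ := List.getElem_of_mem hy
  have r' := allR_zero r i hi
  have := hL.2 (R.length + n - i) (by omega)
  rw [Bool.and_eq_true, Nat.beq_eq, Nat.beq_eq, nth_eq 0 I, List.getD_eq_getElem _ _ hi] at r'
  rwa [r'.1, V_zero, rv, show Nat.sub (R.length + 1 + n) (Nat.succ (R.length + n - i)) = i by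
    show R.length + 1 + n - (R.length + n - i + 1) = i; omega, r'.2] at this

/-! ### Change of lifts -/

/-- the change of a word if the generators are changed by `L` -/
noncomputable def fox (T : ℕ → ℕ) (L : List ℕ) (w : List ℕ) : ℕ :=
  List.rec (motive := fun _ => ℕ) 0 (fun c _ ih => frc (nth 0 L (Nat.div c 2)) fun l =>
    cond (Nat.beq (Nat.mod c 2) 0) (Nat.xor l (prm (T (Nat.add c 2)) ih)) (prm (T (Nat.add c 2)) (Nat.xor l ih))) w

theorem val_fox (he : Lin e) (hT : S.Tab gs T) {gs' : List E} {L : List ℕ}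
    (h : ∀ i, S.Val (gs'.getD i 1 * (gs.getD i 1)⁻¹) (vec e (nth 0 L i))) (w : List ℕ) :
    S.Val (wordG gs' w * (wordG gs w)⁻¹) (vec e (fox T L w)) := by
  induction w with
  | nil => rw [wordG_nil, wordG_nil, inv_one, mul_one]; exact (vec_zero he).symm ▸ S.one
  | cons c w ih =>
    have r : Rep (T (Nat.add c 2)) (S.σ (letG gs c))⁻¹ := by
      have := hT (c + 2)
      rwa [letG, Nat.add_mod_right, Nat.add_div_right _ two_pos, List.getD_cons_succ] at this
    show S.Val _ (vec e (cond (Nat.beq (c % 2) 0) (Nat.xor (nth 0 L (c / 2)) (prm _ (fox T L w)))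
      (prm _ (Nat.xor (nth 0 L (c / 2)) (fox T L w)))))
    rw [wordG_cons, wordG_cons]
    cases hc : Nat.beq (c % 2) 0
    · rw [cond_false, vec_prm r, vec_xor he]
      convert S.conj (letG gs c) (S.mul (S.inv (h (c / 2))) ih) using 1
      rw [letG, letG, if_neg (Nat.ne_of_beq_eq_false hc), if_neg (Nat.ne_of_beq_eq_false hc)]
      group
    · rw [cond_true, vec_xor he, vec_prm r]
      convert S.mul (h (c / 2)) (S.conj (letG gs c) ih) using 1
      rw [letG, letG, if_pos (Nat.eq_of_beq_eq_true hc), if_pos (Nat.eq_of_beq_eq_true hc)]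
      group

/-- the values of the relators `R` for the changed generators plus `U` -/
noncomputable def res (T : ℕ → ℕ) (L : List ℕ) (R : List (List ℕ)) (U : ℕ → ℕ) : List ℕ :=
  mapL (fun i => Nat.xor (fox T L (nth [] R i)) (U i)) (List.range R.length)

theorem Sys.val_of {a : E} {v w : Vec} (h : S.Val a v) (hC : ∀ m ∈ C, dot m w = 0) (hM : ∀ m ∈ M, dot m (v + w) = 0) :
    S.Val a w := by
  obtain ⟨b, hb⟩ := (S.ex w).2 hC
  rwa [mul_inv_eq_one.1 ((S.zero (S.mul h (S.inv hb))).2 hM)]

/-- Normal form of the lifts: with the identities `I`, the change `L` of the generators gives the relators the values `U`. -/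
theorem lifts (hT : S.Tab gs T) {R : List (List ℕ)} (hR : R.length ≤ 22) (hr : ∀ r ∈ R, S.σ (wordG gs r) = 1) {n : ℕ}
    {I : List ℕ} (c : idsB T W P R n I = true) {L : List ℕ} (hL : L.length = gs.length) {U : ℕ → ℕ}
    (d : implies (dots (base R.length) C (dots I M [])) (dots L C (dots (mapL U (List.range R.length)) C
      (dots (res T L R fun i => Nat.xor (yb i) (U i)) M []))) = true) :
    ∃ e, Lin e ∧ ∃ gs' : List E, gs'.map S.σ = gs.map S.σ ∧
      ∀ i < R.length, S.Val (wordG gs' (nth [] R i)) (vec e (U i)) := by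
  have : ∀ i, ∃ v, i < R.length → S.Val (wordG gs (nth [] R i)) v := fun i => by
    by_cases hi : i < R.length
    · obtain ⟨v, hv⟩ := (S.ker _).1 (hr _ (List.getElem_mem hi))
      exact ⟨v, fun _ => by rwa [nth_eq, List.getD_eq_getElem _ _ hi]⟩
    · exact ⟨0, fun h => absurd h hi⟩
  choose v hv using this
  have he := lin_evV v
  have h1 : ∀ i < R.length, S.Val (wordG gs (nth [] R i)) (vec (evV v) (yb i)) := fun i hi =>
    (vec_yb v (hi.trans_le hR)).symm ▸ hv i hi
  have hb : ∀ k ≤ R.length, ∀ y ∈ base k, ∀ m ∈ C, dot m (vec (evV v) y) = 0 := fun k hk => by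
    induction k with
    | zero => exact List.forall_mem_singleton.2 ((S.ex _).1 ⟨1, (vec_zero he).symm ▸ S.one⟩)
    | succ k ih => exact List.forall_mem_cons.2 ⟨(S.ex _).1 ⟨_, h1 k hk⟩, ih (by omega)⟩
  have h2 := implies_spec he d ((dots_iff he _ _ _).2 ⟨hb _ le_rfl, (dots_iff he _ _ _).2
    ⟨fun y hy => (S.zero (val_ids he hT c h1 y hy)).1 rfl, fun _ h => nomatch h⟩⟩)
  simp only [dots_iff he, res, mapL_eq, List.forall_mem_map, List.mem_range] at h2
  obtain ⟨h3, h4, h5, -⟩ := h2
  have : ∀ i, ∃ a, S.Val a (vec (evV v) (nth 0 L i)) ∧ (L.length ≤ i → a = 1) := fun i => by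
    by_cases hi : i < L.length
    · obtain ⟨a, ha⟩ := (S.ex _).2 (h3 _ (List.getElem_mem hi))
      exact ⟨a, by rwa [nth_eq, List.getD_eq_getElem _ _ hi], fun h => absurd hi h.not_gt⟩
    · exact ⟨1, by rw [nth_eq, List.getD_eq_default _ _ (not_lt.1 hi), vec_zero he]; exact S.one, fun _ => rfl⟩
  choose a ha ha' using this
  refine ⟨_, he, gs.mapIdx fun i g => a i * g, List.ext_getElem (by simp) fun i _ _ => ?_, fun i hi => ?_⟩
  · simp [(S.ker _).2 ⟨_, ha i⟩]
  · have := S.mul (val_fox (gs' := gs.mapIdx fun i g => a i * g) he hT (L := L) (fun j => by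
      by_cases hj : j < gs.length
      · simpa [List.getD_eq_getElem?_getD, hj] using ha j
      · have := ha j
        rw [ha' j (by omega)] at this
        simpa [List.getD_eq_getElem?_getD, not_lt.1 hj] using this) (nth [] R i)) (h1 i hi)
    rw [inv_mul_cancel_right] at this
    refine Sys.val_of this (h4 i hi) fun m hm => ?_
    rw [add_assoc, ← vec_xor he, ← vec_xor he]; exact h5 i hi m hm

/-- If the relators have the values `u` and the equations for a change of the generators are contradictory, no change kills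
the relators. -/
theorem not_lifts (hT : S.Tab gs T) {R : List (List ℕ)} (hg : gs.length ≤ 4) {u : ℕ → ℕ}
    (hu : ∀ i < R.length, S.Val (wordG gs (nth [] R i)) (wd (u i)))
    (d : implies (dots (res T [yb 0, yb 1, yb 2, yb 3] R fun i => sc (bit 96) (u i)) M []) [bit 96] = true)
    {gs' : List E} (h : gs'.map S.σ = gs.map S.σ) (hr : ∀ r ∈ R, wordG gs' r = 1) : False := by
  have hl : gs'.length = gs.length := by simpa using congrArg List.length h
  have : ∀ i, ∃ v, (i < 4 → S.Val (gs'.getD i 1 * (gs.getD i 1)⁻¹) v) ∧ (i = 4 → v = 1) := fun i => by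
    by_cases hi : i < 4
    · obtain ⟨v, hv⟩ := (S.ker (gs'.getD i 1 * (gs.getD i 1)⁻¹)).1 (by
        rw [map_mul, map_inv, mul_inv_eq_one, ← List.getD_map (f := S.σ), ← List.getD_map (f := S.σ), h])
      exact ⟨v, fun _ => hv, fun h => by omega⟩
    · exact ⟨1, fun h => absurd h hi, fun _ => rfl⟩
  choose v hv hv' using this
  have he := lin_evV v
  have e1 : evV v (bit 96) = 1 := by rw [evV_bit v (by norm_num), hv' _ rfl]; rfl
  refine one_ne_zero (e1.symm.trans (implies_spec he d ((dots_iff he _ _ _).2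
    ⟨fun y hy => ?_, fun _ h => nomatch h⟩) _ List.mem_cons_self))
  obtain ⟨i, hi, rfl⟩ := of_mem_mapL hy
  rw [List.mem_range] at hi
  have := S.mul (val_fox (gs' := gs') he hT (L := [yb 0, yb 1, yb 2, yb 3]) (fun j => by
    by_cases hj : j < 4
    · have := hv j hj
      rw [← vec_yb v (show j < 22 by omega)] at this
      interval_cases j <;> exact this
    · rw [List.getD_eq_default _ _ (by omega), List.getD_eq_default _ _ (by omega), nth_eq,
        List.getD_eq_default _ _ (by simpa using hj), vec_zero he, inv_one, mul_one]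
      exact S.one) (nth [] R i)) (hu i hi)
  rw [inv_mul_cancel_right] at this
  rw [vec_xor he, vec_sc he (bit_lt (by norm_num)), e1, one_smul]
  exact (S.zero this).1 (hr _ (by rw [nth_eq, List.getD_eq_getElem _ _ hi]; exact List.getElem_mem hi))

end CL.TZV
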