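/-
Certificate of the double coset enumeration for the Thompson group.
Generated by tools/dce.
-/
import Cfsg.Agent.Spor.ThS
import Cfsg.Agent.Spor.ThLam

set_option autoImplicit false
set_option maxRecDepth 200000
set_option Elab.async false
set_option linter.unusedVariables false

namespace CL.ThD
open CL.PG CL.DCE

noncomputable def rels : List (List ℕ) :=
  [[0, 0, 7, 3],
  [1, 3, 0, 2],
  [1, 7, 0, 6],
  [1, 11, 0, 10],
  [8, 10, 1, 8, 0, 8, 10, 1, 8, 0],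
  [1, 5, 7, 3, 4, 0, 5, 2, 6, 4, 11],
  [9, 1, 8, 5, 7, 3, 4, 9, 0, 8, 5, 2, 6, 4, 7, 11, 9, 1, 8, 5, 7, 3, 4, 11, 1],
  [1, 14, 0, 14],
  [11, 13, 13, 1, 12, 12, 10, 13, 13, 0, 12, 12],
  [2, 6, 13, 1, 13, 1, 13, 1],
  [2, 6, 13, 1, 12, 0, 13, 1, 12, 0, 13, 1, 12, 0, 13, 1, 12, 0],
  [8, 13, 13, 0, 12, 12, 8, 13, 13, 0, 12, 12, 8, 13, 13, 0, 12, 12, 8, 13, 13, 0, 11, 9, 7, 8, 10, 12, 12, 12, 11, 9, 7, 8, 10, 13, 9, 7, 8, 7, 3]]
noncomputable def AT : Tr :=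
  .n (.n (.n (.n (.l ⟨(nat_lit 0), (nat_lit 0), (nat_lit 0), (nat_lit 0)⟩)
 (.l ⟨(nat_lit 0x400003), (nat_lit 1039), (nat_lit 156679), (nat_lit 0x50040701409)⟩))
 (.n (.l ⟨(nat_lit 0x200002), (nat_lit 5), (nat_lit 0), (nat_lit 5)⟩)
 (.l ⟨(nat_lit 0x400004), (nat_lit 0x501c97), (nat_lit 0), (nat_lit 0x5004990080602407)⟩)))
 (.n (.n (.l ⟨(nat_lit 0x400003), (nat_lit 7), (nat_lit 0), (nat_lit 0)⟩)
 (.l ⟨(nat_lit 0x400003), (nat_lit 0x727c10), (nat_lit 0x99020030080601007), (nat_lit 0x5004070140902491)⟩))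
 (.n (.l ⟨(nat_lit 0x200002), (nat_lit 159), (nat_lit 0), (nat_lit 145)⟩)
 (.l ⟨(nat_lit 0x200002), (nat_lit 0x500d0801a00b), (nat_lit 0), (nat_lit 0x145127c52)⟩))))
 (.n (.n (.n (.l ⟨(nat_lit 0x200001), (nat_lit 0), (nat_lit 0), (nat_lit 0)⟩)
 (.l ⟨(nat_lit 0x400004), (nat_lit 15), (nat_lit 0), (nat_lit 0xa0180800806)⟩))
 (.n (.l ⟨(nat_lit 0x200002), (nat_lit 9), (nat_lit 0), (nat_lit 9)⟩)
 (.l ⟨(nat_lit 0x200005), (nat_lit 0x14c482443a), (nat_lit 0x1c9f0400500407), (nat_lit 16389)⟩)))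
 (.n (.n (.l ⟨(nat_lit 0x200002), (nat_lit 1), (nat_lit 0), (nat_lit 1)⟩)
 (.l ⟨(nat_lit 0x200005), (nat_lit 0x10140f), (nat_lit 7), (nat_lit 0x5004990080602407)⟩))
 (.l ⟨(nat_lit 0x400004), (nat_lit 1), (nat_lit 0), (nat_lit 1)⟩)))
noncomputable def AC : Cf :=
  ⟨true, [5, 1], [], 138, 152, 14,
  [(false, [], []),
  (false, [], [[5, 1], []]),
  (true, [], [[]]),
  (true, [6, 8], [[6], [6, 8, 5, 1], [6]]),
  (true, [7], [[6, 3, 5, 1, 2, 9, 5, 1], [6, 3, 0, 4, 2, 5, 9, 7, 5, 1], [6, 3, 5, 1, 2, 7]])],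
  AT, CL.ThS.chk⟩
noncomputable def AR0 : List (List ℕ) :=
  [[0],
  [],
  [],
  [(nat_lit 1), (nat_lit 0x8b000007), 0, (nat_lit 5)],
  [(nat_lit 1), (nat_lit 0x8d000007), 0, (nat_lit 5)],
  [(nat_lit 1), (nat_lit 0x8f000007), 0, (nat_lit 5)],
  [(nat_lit 1), (nat_lit 0x22c94000007), 0, (nat_lit 5)],
  [(nat_lit 1), (nat_lit 0x8b00000b), (nat_lit 13), (nat_lit 9)],
  [(nat_lit 3), (nat_lit 7), 0, (nat_lit 5), (nat_lit 17), (nat_lit 21), (nat_lit 0x8b000009)],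
  [(nat_lit 1), (nat_lit 0x8f000023), (nat_lit 9)],
  [(nat_lit 4), (nat_lit 0x22c95000009), (nat_lit 39), (nat_lit 11), (nat_lit 21), (nat_lit 25), (nat_lit 0x8b000009)],
  [(nat_lit 3), (nat_lit 0x8d00000b), (nat_lit 0x8b000007), 0, (nat_lit 5)],
  [(nat_lit 160769), (nat_lit 0x9700002d), (nat_lit 0x8f000009)],
  [(nat_lit 3), (nat_lit 0x22c8d00002b), (nat_lit 0x22c95000009), (nat_lit 29), (nat_lit 39), (nat_lit 43)],
  [(nat_lit 0x727c100140101c9929401), (nat_lit 0x22c94000037), (nat_lit 49), (nat_lit 39), (nat_lit 0x22c97000035)]]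
noncomputable def Apr : List (ℕ × ℕ × List ℕ × List ℕ) :=
  [(1, 2, [0], [1]), (2, 2, [4], [5]), (3, 2, [8], [9]), (5, 5, [3, 0, 4, 2, 9], [3, 5, 1, 2])]
noncomputable def Aex : List (List ℕ) :=
  [[139, 142, 145], [141, 146, 143], [148, 139, 146]]
noncomputable def BT : Tr :=
  .n (.n (.l ⟨(nat_lit 0), (nat_lit 0), (nat_lit 0), (nat_lit 0)⟩)
 (.l ⟨(nat_lit 0x200002), (nat_lit 14), (nat_lit 0), (nat_lit 13)⟩))
 (.n (.l ⟨(nat_lit 0x200001), (nat_lit 0), (nat_lit 0), (nat_lit 0)⟩)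
 (.l ⟨(nat_lit 0x200002), (nat_lit 175), (nat_lit 0), (nat_lit 175)⟩))
noncomputable def BC : Cf :=
  ⟨true, [5, 1], [], 166, 196, 30,
  [(false, [], []),
  (false, [], [[5, 1], []]),
  (true, [], [[]])],
  BT, CL.ThS.chk⟩
noncomputable def BR0 : List (List ℕ) :=
  [[0],
  [],
  [(nat_lit 1), (nat_lit 0xae000007), 0, (nat_lit 5)],
  [(nat_lit 1), (nat_lit 0xaf000007), 0, (nat_lit 5)]]
noncomputable def Bpr : List (ℕ × ℕ × List ℕ × List ℕ) :=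
  [(1, 2, [0], [1]), (2, 2, [4], [5]), (3, 2, [8], [9]), (7, 2, [12], [12]), (8, 9, [10, 10, 9, 11, 11], [10, 10, 8, 11, 11])]
noncomputable def Bex : List (List ℕ) :=
  [[174, 167, 173], [167, 172, 177], [179, 172, 170], [181, 178, 177], [178, 169, 182], [175, 185, 176], [187, 173], [180, 172], [182, 179], [186, 190]]
noncomputable def T0 : Tr :=
  .n (.n (.n (.n (.n (.n (.n (.n (.l ⟨(nat_lit 0x600006), (nat_lit 0x306c94), (nat_lit 0), (nat_lit 0)⟩)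
 (.l ⟨(nat_lit 0xc0000d), (nat_lit 0x1d0681f07011), (nat_lit 0x1062c1b3d0050055e5f588), (nat_lit 0)⟩))
 (.n (.l ⟨(nat_lit 0x140000d), (nat_lit 0x16c43108ff), (nat_lit 0x61c182514359580020030140101007), (nat_lit 0)⟩)
 (.l ⟨(nat_lit 0x800015), (nat_lit 0x1e0701106415), (nat_lit 0x41d8001c050054d59993), (nat_lit 0)⟩)))
 (.n (.n (.l ⟨(nat_lit 0xc0000d), (nat_lit 0x545c0f06d), (nat_lit 0x6c2d45c22401), (nat_lit 0)⟩)
 (.l ⟨(nat_lit 0xc0000d), (nat_lit 0x1d0681201415), (nat_lit 0x110834285554565), (nat_lit 0)⟩))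
 (.l ⟨(nat_lit 0xc0000d), (nat_lit 0x1e0641207007), (nat_lit 0x3a2550704c05005615cd9c), (nat_lit 0)⟩)))
 (.n (.n (.n (.l ⟨(nat_lit 0xc0000d), (nat_lit 0x750521509), (nat_lit 0x511c801151585bc0201808), (nat_lit 0)⟩)
 (.l ⟨(nat_lit 0xe0000d), (nat_lit 0x1f070100641e), (nat_lit 0x45421491154154559), (nat_lit 0)⟩))
 (.l ⟨(nat_lit 0xc0000b), (nat_lit 0x481d07010), (nat_lit 0x5e1e509405455717c), (nat_lit 0)⟩))
 (.n (.n (.l ⟨(nat_lit 0xe0000b), (nat_lit 0x1102761033), (nat_lit 0x1446c20c7e), (nat_lit 0)⟩)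
 (.l ⟨(nat_lit 0xc0000d), (nat_lit 0x68220681106416), (nat_lit 0x614303f078050054558d80), (nat_lit 0)⟩))
 (.l ⟨(nat_lit 0xe0000d), (nat_lit 0x80050740b), (nat_lit 0x600d4500794354158), (nat_lit 0)⟩))))
 (.n (.n (.n (.n (.l ⟨(nat_lit 0xc0000b), (nat_lit 0xe91e0740b), (nat_lit 0x1a4fa1e4bc), (nat_lit 0)⟩)
 (.l ⟨(nat_lit 0xc0000d), (nat_lit 0xd0141d07007), (nat_lit 0x555741203405005455f165), (nat_lit 0)⟩))
 (.l ⟨(nat_lit 0x1400009), (nat_lit 0x601b03c03), (nat_lit 0x3566d0e0795959592), (nat_lit 0)⟩))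
 (.n (.n (.l ⟨(nat_lit 0xc0000d), (nat_lit 0x121511a433), (nat_lit 0x181445e19401), (nat_lit 0)⟩)
 (.l ⟨(nat_lit 0xc0000d), (nat_lit 0x40130700707007), (nat_lit 0x281c8572f405005996140800c050040401d605816b), (nat_lit 0)⟩))
 (.l ⟨(nat_lit 0xc0000d), (nat_lit 0x1306c0706416), (nat_lit 0x191885f1755e6016f), (nat_lit 0)⟩)))
 (.n (.n (.n (.l ⟨(nat_lit 0xc0000d), (nat_lit 0x1ec1e57835), (nat_lit 0x1b16e13c88), (nat_lit 0)⟩)
 (.l ⟨(nat_lit 0x100000d), (nat_lit 0x701006c1407012), (nat_lit 0xf3111020657e5e559), (nat_lit 0)⟩))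
 (.l ⟨(nat_lit 0x140000d), (nat_lit 25623), (nat_lit 0x3c165933894355d4f), (nat_lit 0)⟩))
 (.n (.n (.l ⟨(nat_lit 0x120000d), (nat_lit 0x49763e075), (nat_lit 0x1959a6486b), (nat_lit 0)⟩)
 (.l ⟨(nat_lit 0xc00013), (nat_lit 0x7c130680f07010), (nat_lit 0x1d4684d00405005656799a), (nat_lit 0)⟩))
 (.l ⟨(nat_lit 0xe0000d), (nat_lit 0x220641f07011), (nat_lit 0x2102c50525665f00800c050040401d435ed71), (nat_lit 0)⟩)))))
 (.n (.n (.n (.n (.n (.l ⟨(nat_lit 0xc0000b), (nat_lit 0x101cf4), (nat_lit 0x1746f54840), (nat_lit 0)⟩)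
 (.l ⟨(nat_lit 0xc0000d), (nat_lit 0x701606815), (nat_lit 0x4f5dcd611405005506496f), (nat_lit 0)⟩))
 (.n (.l ⟨(nat_lit 0x400004), (nat_lit 0x13068120701f01410), (nat_lit 0), (nat_lit 0)⟩)
 (.l ⟨(nat_lit 0xc00015), (nat_lit 0x1d0641001415), (nat_lit 0x32007c3ec050056b63d75), (nat_lit 0)⟩)))
 (.n (.n (.l ⟨(nat_lit 0xc0000d), (nat_lit 0x54500d8f7), (nat_lit 0xc16755c7b), (nat_lit 0)⟩)
 (.l ⟨(nat_lit 0xc0000d), (nat_lit 0xf0141f07017), (nat_lit 0x1107a1d53c0140167185), (nat_lit 0)⟩))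
 (.l ⟨(nat_lit 0xc0000d), (nat_lit 0x1e070100641d), (nat_lit 0x621cc613c405005585d987), (nat_lit 0)⟩)))
 (.n (.n (.n (.l ⟨(nat_lit 0xc0000d), (nat_lit 0x1b05c15526), (nat_lit 0x88571787d), (nat_lit 0)⟩)
 (.l ⟨(nat_lit 0xc0000d), (nat_lit 0x2c220140707007), (nat_lit 0x654b4fd164050054555575), (nat_lit 0)⟩))
 (.l ⟨(nat_lit 0xc0000b), (nat_lit 0x6c1d06c0f07007), (nat_lit 0x10c5b1c0af6754f0200301401010075594a), (nat_lit 0)⟩))
 (.n (.n (.l ⟨(nat_lit 0x100000d), (nat_lit 0x199801e024), (nat_lit 0x3cc4440819), (nat_lit 0)⟩)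
 (.l ⟨(nat_lit 0xc0000f), (nat_lit 0x6c100641207007), (nat_lit 0x2318c285b805005525918e), (nat_lit 0)⟩))
 (.l ⟨(nat_lit 0xa0000d), (nat_lit 0x88070141e), (nat_lit 0x2a4143b078050054762987), (nat_lit 0)⟩))))
 (.n (.n (.n (.n (.l ⟨(nat_lit 0xc0000d), (nat_lit 0x115524bc07), (nat_lit 0x2c8638818), (nat_lit 0)⟩)
 (.l ⟨(nat_lit 0xc0000d), (nat_lit 0x1c0841a03c03), (nat_lit 0xbd138535457a5d40800c050040401d5256d92), (nat_lit 0)⟩))
 (.l ⟨(nat_lit 0x140000b), (nat_lit 0x190740c07007), (nat_lit 0x4819e03d4f57175), (nat_lit 0)⟩))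
 (.n (.n (.l ⟨(nat_lit 0xc0000d), (nat_lit 0x13d8c4c02a), (nat_lit 0x1b46749c79), (nat_lit 0)⟩)
 (.l ⟨(nat_lit 0xc0000d), (nat_lit 0x70170141007011), (nat_lit 0x198192015562192), (nat_lit 0)⟩))
 (.l ⟨(nat_lit 0xc0000d), (nat_lit 0x706c0f06420), (nat_lit 0x910565030050054760185), (nat_lit 0)⟩)))
 (.n (.n (.n (.l ⟨(nat_lit 0xc0000d), (nat_lit 0x17cd417033), (nat_lit 0x1012f5e876), (nat_lit 0)⟩)
 (.l ⟨(nat_lit 0xc0000d), (nat_lit 0x141d0141307014), (nat_lit 0x204a82004405005475d171), (nat_lit 0)⟩))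
 (.l ⟨(nat_lit 0xc0000d), (nat_lit 0x1f0141307014), (nat_lit 0x20228d5440050054b67570), (nat_lit 0)⟩))
 (.n (.n (.l ⟨(nat_lit 0x1400009), (nat_lit 0x1d6566007), (nat_lit 0x1b5291b81b), (nat_lit 0)⟩)
 (.l ⟨(nat_lit 0x1200013), (nat_lit 0x1d068140681f), (nat_lit 0x5215560060050055164d6c), (nat_lit 0)⟩))
 (.l ⟨(nat_lit 0xc0000d), (nat_lit 0x641306c1f07007), (nat_lit 0x915d9b1616165d79), (nat_lit 0)⟩))))))
 (.n (.n (.n (.n (.n (.n (.l ⟨(nat_lit 0xc00007), (nat_lit 0x728807), (nat_lit 0x1ec530fc32), (nat_lit 0)⟩)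
 (.l ⟨(nat_lit 0xc0000d), (nat_lit 0x140682007012), (nat_lit 0x142d519151435b597), (nat_lit 0)⟩))
 (.n (.l ⟨(nat_lit 0x140000d), (nat_lit 0x188675f483), (nat_lit 0x1113d600a5415359c020030140101007), (nat_lit 0)⟩)
 (.l ⟨(nat_lit 0xc00015), (nat_lit 0x44200702107010), (nat_lit 0x17c353cc030140159971), (nat_lit 0)⟩)))
 (.n (.n (.l ⟨(nat_lit 0xc0000d), (nat_lit 0x6121c3641801), (nat_lit 0x19c3a2043b), (nat_lit 0)⟩)
 (.l ⟨(nat_lit 0xc0000d), (nat_lit 0x1806c1f0681f), (nat_lit 0x12840461105455dd99), (nat_lit 0)⟩))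
 (.l ⟨(nat_lit 0xc0000d), (nat_lit 0x1b0881001415), (nat_lit 0x6e2c46e081635c191), (nat_lit 0)⟩)))
 (.n (.n (.n (.l ⟨(nat_lit 0xc0000d), (nat_lit 0x16d0547c50), (nat_lit 0x179361486d), (nat_lit 0)⟩)
 (.l ⟨(nat_lit 0x60000d), (nat_lit 0x14220141007007), (nat_lit 0x6109c835a0050054557d9a), (nat_lit 0)⟩))
 (.l ⟨(nat_lit 0xc0000b), (nat_lit 0x701e0681207011), (nat_lit 0x6c6e5d41955967), (nat_lit 0)⟩))
 (.n (.n (.l ⟨(nat_lit 0xe0000d), (nat_lit 0x60c7252815), (nat_lit 0x607d5604e54d8e020030140101007), (nat_lit 0)⟩)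
 (.l ⟨(nat_lit 0xc0000f), (nat_lit 0x1a0541c0480b), (nat_lit 0x5c19460054050054766150), (nat_lit 0)⟩))
 (.l ⟨(nat_lit 0xc0000d), (nat_lit 0x4c1b04c1a06c07), (nat_lit 0x6e0f06b180050055b64158), (nat_lit 0)⟩))))
 (.n (.n (.n (.n (.l ⟨(nat_lit 0xc0000b), (nat_lit 0x1755243818), (nat_lit 0xc2508463401), (nat_lit 0)⟩)
 (.l ⟨(nat_lit 0xc0000d), (nat_lit 0x160141007007), (nat_lit 0x458f0a53c0054363176), (nat_lit 0)⟩))
 (.l ⟨(nat_lit 0xc0000b), (nat_lit 0x1f0700707013), (nat_lit 0x786341010d4759591), (nat_lit 0)⟩))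
 (.n (.n (.l ⟨(nat_lit 0xc0000d), (nat_lit 0x45c65042), (nat_lit 0x65250f015), (nat_lit 0)⟩)
 (.l ⟨(nat_lit 0xc0000d), (nat_lit 0x5c1c0801901c03), (nat_lit 0x4d5284d0c8050054760173), (nat_lit 0)⟩))
 (.l ⟨(nat_lit 0xc0000d), (nat_lit 0x17070160141e), (nat_lit 0x6347087430050054959589), (nat_lit 0)⟩)))
 (.n (.n (.n (.l ⟨(nat_lit 0xc0000d), (nat_lit 0x493606478), (nat_lit 0x1247041cd4), (nat_lit 0)⟩)
 (.l ⟨(nat_lit 0xc0000d), (nat_lit 0x68150141e01416), (nat_lit 0x3a2089f07d4f59597), (nat_lit 0)⟩))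
 (.l ⟨(nat_lit 0xc0000d), (nat_lit 0x1e06c2101416), (nat_lit 0x5904948405005415a55a), (nat_lit 0)⟩))
 (.n (.n (.l ⟨(nat_lit 0x120000d), (nat_lit 0x148774d45d), (nat_lit 0x18c6820c3f), (nat_lit 0)⟩)
 (.l ⟨(nat_lit 0xc00013), (nat_lit 0x701d0140f07012), (nat_lit 0x541908807405005495815d), (nat_lit 0)⟩))
 (.l ⟨(nat_lit 0xc0000d), (nat_lit 0xf06c1107012), (nat_lit 0x6b180e211d5867960), (nat_lit 0)⟩)))))
 (.n (.n (.n (.n (.n (.l ⟨(nat_lit 0xc0000b), (nat_lit 0x18c271ac71), (nat_lit 0xf44fc40), (nat_lit 0)⟩)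
 (.l ⟨(nat_lit 0xc0000d), (nat_lit 0x106c070141f), (nat_lit 0x1a45e62c336698c), (nat_lit 0)⟩))
 (.n (.l ⟨(nat_lit 0x1400007), (nat_lit 0x70140141407010), (nat_lit 0x4e6382f4040152591), (nat_lit 0)⟩)
 (.l ⟨(nat_lit 0xa00015), (nat_lit 0x681f0641207011), (nat_lit 0x571dd2312c050054b57992), (nat_lit 0)⟩)))
 (.n (.n (.l ⟨(nat_lit 0xc0000d), (nat_lit 0x11c6110c3b), (nat_lit 0x158f759876), (nat_lit 0)⟩)
 (.l ⟨(nat_lit 0x120000d), (nat_lit 0x700f0702207010), (nat_lit 0x6b3048716d4753d8d), (nat_lit 0)⟩))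
 (.l ⟨(nat_lit 0xc0000d), (nat_lit 0x701406c140141f), (nat_lit 0x165cc164595265d5f), (nat_lit 0)⟩)))
 (.n (.n (.n (.l ⟨(nat_lit 0xc0000d), (nat_lit 0x1b41717d94), (nat_lit 0x651c02c6e), (nat_lit 0)⟩)
 (.l ⟨(nat_lit 0xc0000d), (nat_lit 0x301f06c1007007), (nat_lit 0x1c3d021184050054c5619c), (nat_lit 0)⟩))
 (.l ⟨(nat_lit 0xc0000d), (nat_lit 0x7c160140707007), (nat_lit 0x50460225ac05005505617a), (nat_lit 0)⟩))
 (.n (.n (.l ⟨(nat_lit 0x120000d), (nat_lit 0x115354ec78), (nat_lit 0x1bc5d3ec3c), (nat_lit 0)⟩)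
 (.l ⟨(nat_lit 0xc0000f), (nat_lit 0x70702007012), (nat_lit 0x1642017442004050054157580), (nat_lit 0)⟩))
 (.l ⟨(nat_lit 0xc0000d), (nat_lit 0x6c1407012), (nat_lit 0x1511700505005005546017a), (nat_lit 0)⟩))))
 (.n (.n (.n (.n (.l ⟨(nat_lit 0xc0000d), (nat_lit 0x1b83c1ac60), (nat_lit 0x1213320847), (nat_lit 0)⟩)
 (.l ⟨(nat_lit 0xc0000d), (nat_lit 0x141e0701d07011), (nat_lit 0x518d3d1715066174), (nat_lit 0)⟩))
 (.l ⟨(nat_lit 0x140000b), (nat_lit 0x741a0840b), (nat_lit 0x4d89064865417c), (nat_lit 0)⟩))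
 (.n (.n (.l ⟨(nat_lit 0xc0000d), (nat_lit 0x194bb0c486), (nat_lit 0x178ff14414), (nat_lit 0)⟩)
 (.l ⟨(nat_lit 0x120000d), (nat_lit 0x140641f07017), (nat_lit 0x606157904d555b187), (nat_lit 0)⟩))
 (.l ⟨(nat_lit 0xc0000d), (nat_lit 0x50200641f07011), (nat_lit 0x5f0718f040050054d5e953), (nat_lit 0)⟩)))
 (.n (.n (.n (.l ⟨(nat_lit 0xc0000d), (nat_lit 0x89760a058), (nat_lit 0x331716417803), (nat_lit 0)⟩)
 (.l ⟨(nat_lit 0xc0000d), (nat_lit 0x7c1b0741905c03), (nat_lit 0x112d9117c050055867195), (nat_lit 0)⟩))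
 (.l ⟨(nat_lit 0xc0000d), (nat_lit 0x44160680707011), (nat_lit 0x333b16a1f54c65576), (nat_lit 0)⟩))
 (.n (.n (.l ⟨(nat_lit 0x140000d), (nat_lit 0x5cf447410), (nat_lit 0x1bc7542557), (nat_lit 0)⟩)
 (.l ⟨(nat_lit 0x1200013), (nat_lit 0x701707010), (nat_lit 0x641ad5c0454c67981), (nat_lit 0)⟩))
 (.l ⟨(nat_lit 0xc0000d), (nat_lit 0x6c1e07013), (nat_lit 0x11221351f16d66147), (nat_lit 0)⟩)))))))
 (.n (.n (.n (.n (.n (.n (.n (.l ⟨(nat_lit 0xa00003), (nat_lit 0x11d4011007), (nat_lit 0x15261d47020030080601007), (nat_lit 0)⟩)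
 (.l ⟨(nat_lit 0x60000d), (nat_lit 0x682206816), (nat_lit 0x4b4d5311dc050055850d78), (nat_lit 0)⟩))
 (.n (.l ⟨(nat_lit 0x140000d), (nat_lit 0x593e4cc2a), (nat_lit 0x6e0e5076255b6515600806028030080601007), (nat_lit 0)⟩)
 (.l ⟨(nat_lit 0x600015), (nat_lit 0x1e0681107013), (nat_lit 0x395e47c2f4050054562960), (nat_lit 0)⟩)))
 (.n (.n (.l ⟨(nat_lit 0xc0000d), (nat_lit 0x150114801), (nat_lit 0x114756582367577020030140101007), (nat_lit 0)⟩)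
 (.l ⟨(nat_lit 0xc0000d), (nat_lit 0x100641707011), (nat_lit 0x14590775b8050057667977), (nat_lit 0)⟩))
 (.l ⟨(nat_lit 0xc0000d), (nat_lit 0x1f0680f06415), (nat_lit 0x680241b41c05005556358b), (nat_lit 0)⟩)))
 (.n (.n (.n (.l ⟨(nat_lit 0xc0000d), (nat_lit 0x1951e0c03a), (nat_lit 0x342019567), (nat_lit 0)⟩)
 (.l ⟨(nat_lit 0xc0000d), (nat_lit 0x64200141007011), (nat_lit 0x4d19d7412d436199d), (nat_lit 0)⟩))
 (.l ⟨(nat_lit 0x140000b), (nat_lit 0x481d07007), (nat_lit 0x3a1f8242054f5a155), (nat_lit 0)⟩))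
 (.n (.n (.l ⟨(nat_lit 0xe0000d), (nat_lit 0x308a4e41d), (nat_lit 0x1a4a350032), (nat_lit 0)⟩)
 (.l ⟨(nat_lit 0xc0000d), (nat_lit 0x641d06c1607007), (nat_lit 0x358a1f42966968), (nat_lit 0)⟩))
 (.l ⟨(nat_lit 0xc0000d), (nat_lit 0x5c1b0740b), (nat_lit 0x7c5d03c585f55e), (nat_lit 0)⟩))))
 (.n (.n (.n (.n (.l ⟨(nat_lit 0xc0000b), (nat_lit 0x1b40d43c77), (nat_lit 0xa4681744c), (nat_lit 0)⟩)
 (.l ⟨(nat_lit 0xc0000d), (nat_lit 0x70200681d), (nat_lit 0x34205311dc05005496194a), (nat_lit 0)⟩))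
 (.l ⟨(nat_lit 0xc00009), (nat_lit 0x60070642207007), (nat_lit 0x430cc5d4a5495b16a), (nat_lit 0)⟩))
 (.n (.n (.l ⟨(nat_lit 0xc0000d), (nat_lit 0x1387164479), (nat_lit 0x154822e050), (nat_lit 0)⟩)
 (.l ⟨(nat_lit 0xc0000d), (nat_lit 0x1506c1201415), (nat_lit 0x151790c0a5645d575), (nat_lit 0)⟩))
 (.l ⟨(nat_lit 0x60000d), (nat_lit 0x701006c20), (nat_lit 0x3f45a1ed515d558), (nat_lit 0)⟩)))
 (.n (.n (.n (.l ⟨(nat_lit 0xc0000d), (nat_lit 0xecfc16c30), (nat_lit 0x1641524407), (nat_lit 0)⟩)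
 (.l ⟨(nat_lit 0xc0000d), (nat_lit 0x70702001415), (nat_lit 0x566447a0814956983), (nat_lit 0)⟩))
 (.l ⟨(nat_lit 0xc0000d), (nat_lit 0x160681406c1f), (nat_lit 0x3f0a054014015a958), (nat_lit 0)⟩))
 (.n (.n (.l ⟨(nat_lit 0x120000d), (nat_lit 0x615e63c7d), (nat_lit 0x100551f018), (nat_lit 0)⟩)
 (.l ⟨(nat_lit 0xc00013), (nat_lit 0x6c1707016), (nat_lit 0x4c4fc5928405005535f993), (nat_lit 0)⟩))
 (.l ⟨(nat_lit 0xc0000d), (nat_lit 0x1b0881a05c03), (nat_lit 0x5c5d85b10c05005435e570), (nat_lit 0)⟩)))))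
 (.n (.n (.n (.n (.n (.l ⟨(nat_lit 0xc0000b), (nat_lit 0x4843816), (nat_lit 0x30b441c17), (nat_lit 0)⟩)
 (.l ⟨(nat_lit 0xc0000d), (nat_lit 0x1b0401e07007), (nat_lit 0x552285c03d575ec0800c050040401d455bd8d), (nat_lit 0)⟩))
 (.n (.l ⟨(nat_lit 0xc00007), (nat_lit 0x1806c1407012), (nat_lit 0x14684501d516455d), (nat_lit 0)⟩)
 (.l ⟨(nat_lit 0xa00015), (nat_lit 0x641206c1d), (nat_lit 0x34182400c050055a5994a), (nat_lit 0)⟩)))
 (.n (.n (.l ⟨(nat_lit 0xc0000d), (nat_lit 0x188364e485), (nat_lit 0xbcfe13c32), (nat_lit 0)⟩)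
 (.l ⟨(nat_lit 0xc0000d), (nat_lit 0x130681707012), (nat_lit 0x312456b18d4d67195), (nat_lit 0)⟩))
 (.l ⟨(nat_lit 0xc0000d), (nat_lit 0x160681f), (nat_lit 0x3a13c6d4f5475ed51), (nat_lit 0)⟩)))
 (.n (.n (.n (.l ⟨(nat_lit 0xc0000d), (nat_lit 0x13d561cc29), (nat_lit 0x4d9e0850c), (nat_lit 0)⟩)
 (.l ⟨(nat_lit 0xc0000d), (nat_lit 0x30220640f07007), (nat_lit 0x1ac241d12900405005475fd53), (nat_lit 0)⟩))
 (.l ⟨(nat_lit 0xc0000d), (nat_lit 0xe07014), (nat_lit 0xa98a14c23014015058f), (nat_lit 0)⟩))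
 (.n (.n (.l ⟨(nat_lit 0x120000d), (nat_lit 0x14d351401a), (nat_lit 0xc90e1804d), (nat_lit 0)⟩)
 (.l ⟨(nat_lit 0xc0000f), (nat_lit 0x1b0581e07010), (nat_lit 0x418fb05c05005415d973), (nat_lit 0)⟩))
 (.l ⟨(nat_lit 0x120000d), (nat_lit 0x801c03812), (nat_lit 0x4f2012d1b14351d72), (nat_lit 0)⟩))))
 (.n (.n (.n (.n (.l ⟨(nat_lit 0xc0000d), (nat_lit 0x515754807), (nat_lit 0x8d960a06b), (nat_lit 0)⟩)
 (.l ⟨(nat_lit 0xc0000d), (nat_lit 0x141f0681207011), (nat_lit 0x19c7b0e81a6017e), (nat_lit 0)⟩))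
 (.l ⟨(nat_lit 0xe0000b), (nat_lit 0x200681107007), (nat_lit 0x696448120d495e57b), (nat_lit 0)⟩))
 (.n (.n (.l ⟨(nat_lit 0xc0000d), (nat_lit 0x50605cc58), (nat_lit 0xbd3f21897), (nat_lit 0)⟩)
 (.l ⟨(nat_lit 0xc0000d), (nat_lit 0x64150701f07007), (nat_lit 0x482d472060050054561194), (nat_lit 0)⟩))
 (.l ⟨(nat_lit 0xe0000d), (nat_lit 0x30141307007), (nat_lit 0x5e4788218949), (nat_lit 0)⟩)))
 (.n (.n (.n (.l ⟨(nat_lit 0xc0000d), (nat_lit 0x1804535470), (nat_lit 0x146716c35), (nat_lit 0)⟩)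
 (.l ⟨(nat_lit 0xc0000d), (nat_lit 0x14200681407010), (nat_lit 0x455492f01c050054c5e588), (nat_lit 0)⟩))
 (.l ⟨(nat_lit 0xc0000d), (nat_lit 0x6c1206416), (nat_lit 0x88fc1400f51552), (nat_lit 0)⟩))
 (.n (.n (.l ⟨(nat_lit 0x140000b), (nat_lit 0x110154cc88), (nat_lit 0xfc7117089), (nat_lit 0)⟩)
 (.l ⟨(nat_lit 0x1400013), (nat_lit 0x1f06c130141f), (nat_lit 0x5312463121495b188), (nat_lit 0)⟩))
 (.l ⟨(nat_lit 0xc0000d), (nat_lit 0x840504c0505c03), (nat_lit 0x15c1a4fc78014016397901d5354994), (nat_lit 0)⟩))))))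
 (.n (.n (.n (.n (.n (.n (.l ⟨(nat_lit 0xc00009), (nat_lit 0x161d1323c401), (nat_lit 0x1983941c43), (nat_lit 0)⟩)
 (.l ⟨(nat_lit 0x60000d), (nat_lit 0x140706c16), (nat_lit 0x1861799400c05005435316a), (nat_lit 0)⟩))
 (.n (.l ⟨(nat_lit 0x1400013), (nat_lit 0x15c6b1a55e), (nat_lit 0xc1920c67), (nat_lit 0)⟩)
 (.l ⟨(nat_lit 0xc00015), (nat_lit 0x301507012), (nat_lit 0x660792a18405005506218a), (nat_lit 0)⟩)))
 (.n (.n (.l ⟨(nat_lit 0xc0000d), (nat_lit 0x12d8065011), (nat_lit 0x524c87116d6c56807), (nat_lit 0)⟩)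
 (.l ⟨(nat_lit 0xc0000d), (nat_lit 0x84130701207007), (nat_lit 0x80812e0615c97d), (nat_lit 0)⟩))
 (.l ⟨(nat_lit 0xa0000d), (nat_lit 0x210701407011), (nat_lit 0x4219c230d005005435f56e), (nat_lit 0)⟩)))
 (.n (.n (.n (.l ⟨(nat_lit 0xc0000d), (nat_lit 0x1b40966c7c), (nat_lit 0x1206b38816), (nat_lit 0)⟩)
 (.l ⟨(nat_lit 0xc0000d), (nat_lit 0x1d0141107014), (nat_lit 0x2965c2818405005435c579), (nat_lit 0)⟩))
 (.l ⟨(nat_lit 0xc0000b), (nat_lit 0x1b01c1b05003), (nat_lit 0x31991600d475818e), (nat_lit 0)⟩))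
 (.n (.n (.l ⟨(nat_lit 0xe0000d), (nat_lit 0x1c474831b401), (nat_lit 0x5e1591515a5719e020030140101007), (nat_lit 0)⟩)
 (.l ⟨(nat_lit 0xc0000f), (nat_lit 0x2c1307010), (nat_lit 0x430257b0e4050055162d93), (nat_lit 0)⟩))
 (.l ⟨(nat_lit 0xc0000d), (nat_lit 0x681e07010), (nat_lit 0x491bd960594f63999), (nat_lit 0)⟩))))
 (.n (.n (.n (.n (.l ⟨(nat_lit 0xc0000d), (nat_lit 1039), (nat_lit 0x1865993), (nat_lit 0)⟩)
 (.l ⟨(nat_lit 0xc0000d), (nat_lit 0x1f0681107013), (nat_lit 0x5428c630ec050056562191), (nat_lit 0)⟩))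
 (.l ⟨(nat_lit 0xe0000b), (nat_lit 0x504c1b04c03), (nat_lit 0x2f4bc5f1d9476214a), (nat_lit 0)⟩))
 (.n (.n (.l ⟨(nat_lit 0xc0000d), (nat_lit 0x40664f01c), (nat_lit 0x220866083f), (nat_lit 0)⟩)
 (.l ⟨(nat_lit 0xc0000d), (nat_lit 0x64220140f07010), (nat_lit 0x5519ceb10005005495817e), (nat_lit 0)⟩))
 (.l ⟨(nat_lit 0x140000d), (nat_lit 0x106c220641f), (nat_lit 0x5c0547449d4763190), (nat_lit 0)⟩)))
 (.n (.n (.n (.l ⟨(nat_lit 0xc0000d), (nat_lit 0xf0561fd86), (nat_lit 0x1fd2561443), (nat_lit 0)⟩)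
 (.l ⟨(nat_lit 0xc0000d), (nat_lit 0x190502107007), (nat_lit 0x65250f0155d99a), (nat_lit 0)⟩))
 (.l ⟨(nat_lit 0x120000d), (nat_lit 0x2006c2207007), (nat_lit 0x110d51b0515e172), (nat_lit 0)⟩))
 (.n (.n (.l ⟨(nat_lit 0x1200013), (nat_lit 0x919049407), (nat_lit 0x14d811e0e2), (nat_lit 0)⟩)
 (.l ⟨(nat_lit 0xc00013), (nat_lit 0x801b05c1904c03), (nat_lit 0x223e45e01c050054556549), (nat_lit 0)⟩))
 (.l ⟨(nat_lit 0xc0000d), (nat_lit 0x106c0707013), (nat_lit 0x1bd5e09cf40140153d95), (nat_lit 0)⟩)))))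
 (.n (.n (.n (.n (.n (.l ⟨(nat_lit 0xc0000b), (nat_lit 0x1157c00d55), (nat_lit 0x58105c7a), (nat_lit 0)⟩)
 (.l ⟨(nat_lit 0xc0000d), (nat_lit 0x1e0701606815), (nat_lit 0x540e46f3c8050054b6417a), (nat_lit 0)⟩))
 (.n (.l ⟨(nat_lit 0xc00007), (nat_lit 0x210641206c1007007), (nat_lit 0x1d663840764d87), (nat_lit 0)⟩)
 (.l ⟨(nat_lit 0x1200015), (nat_lit 0x441f0140f07007), (nat_lit 0x55148500a405005526116b), (nat_lit 0)⟩)))
 (.n (.n (.l ⟨(nat_lit 0xc0000d), (nat_lit 0x1903708577), (nat_lit 0x1006f5d417), (nat_lit 0)⟩)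
 (.l ⟨(nat_lit 0xc0000d), (nat_lit 0xc130680f07007), (nat_lit 0x20433204050054559994), (nat_lit 0)⟩))
 (.l ⟨(nat_lit 0xc0000d), (nat_lit 0x1806c0f06815), (nat_lit 0xc17c7e434050054767949), (nat_lit 0)⟩)))
 (.n (.n (.n (.l ⟨(nat_lit 0xc0000d), (nat_lit 0x44eb194fd), (nat_lit 0x150fc0d963), (nat_lit 0)⟩)
 (.l ⟨(nat_lit 0xc0000d), (nat_lit 0x210141f07010), (nat_lit 0xf16c1a3f005005435a988), (nat_lit 0)⟩))
 (.l ⟨(nat_lit 0xc0000d), (nat_lit 14353), (nat_lit 0x1152101c1250550), (nat_lit 0)⟩))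
 (.n (.n (.l ⟨(nat_lit 0x120000d), (nat_lit 0x140f16c19), (nat_lit 0x508267423), (nat_lit 0)⟩)
 (.l ⟨(nat_lit 0x1200011), (nat_lit 0x301416), (nat_lit 0x5954756007), (nat_lit 0)⟩))
 (.l ⟨(nat_lit 0xc0000d), (nat_lit 0x6c1d0682206815), (nat_lit 0x181381f8d3565476140800c050040401d4557d99), (nat_lit 0)⟩))))
 (.n (.n (.n (.n (.l ⟨(nat_lit 0xc0000d), (nat_lit 0x1d072bc16), (nat_lit 0x846e6588a), (nat_lit 0)⟩)
 (.l ⟨(nat_lit 0xc0000d), (nat_lit 0x1c0881a0580b), (nat_lit 0x393f05e074050054167167), (nat_lit 0)⟩))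
 (.l ⟨(nat_lit 0xc0000b), (nat_lit 0x301207014), (nat_lit 0x502444702d5a60198), (nat_lit 0)⟩))
 (.n (.n (.l ⟨(nat_lit 0xe0000e), (nat_lit 14), (nat_lit 0), (nat_lit 0)⟩)
 (.l ⟨(nat_lit 0xc0000d), (nat_lit 0x501f0700707007), (nat_lit 0x515019b0bd4759581), (nat_lit 0)⟩))
 (.l ⟨(nat_lit 0x140000d), (nat_lit 0x3c1b07407), (nat_lit 0x61c182514153d68), (nat_lit 0)⟩)))
 (.n (.n (.n (.l ⟨(nat_lit 0xc0000d), (nat_lit 0x1544149459), (nat_lit 0x4a45e1940c), (nat_lit 0)⟩)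
 (.l ⟨(nat_lit 0x60000d), (nat_lit 0x6c200641f07010), (nat_lit 0x3568841b9475dd85), (nat_lit 0)⟩))
 (.l ⟨(nat_lit 0xc0000d), (nat_lit 0x2006c1401416), (nat_lit 0x145ac5d0d95b5e590), (nat_lit 0)⟩))
 (.n (.n (.l ⟨(nat_lit 0x140000d), (nat_lit 0x112033), (nat_lit 0x305f1b079), (nat_lit 0)⟩)
 (.l ⟨(nat_lit 0x1200013), (nat_lit 0x3c1b0800508407), (nat_lit 0x231c85a57c050054a59575), (nat_lit 0)⟩))
 (.l ⟨(nat_lit 0xc0000d), (nat_lit 0x70701d07007), (nat_lit 0x423b102150050054758d4f), (nat_lit 0)⟩)))))))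
noncomputable def T1 : Tr :=
  .n (.n (.n (.n (.n (.n (.n (.n (.l ⟨(nat_lit 0x200002), (nat_lit 329), (nat_lit 0), (nat_lit 0)⟩)
 (.l ⟨(nat_lit 0xc0000d), (nat_lit 0x681d01416), (nat_lit 0x6f420b10e9475f593), (nat_lit 0)⟩))
 (.n (.l ⟨(nat_lit 0x140000d), (nat_lit 0x1361245c), (nat_lit 0x846b4a86c), (nat_lit 0)⟩)
 (.l ⟨(nat_lit 0x600015), (nat_lit 0x88110141e), (nat_lit 0x74b55f01c050054d5f94c), (nat_lit 0)⟩)))
 (.n (.n (.l ⟨(nat_lit 0xc0000d), (nat_lit 0x150474f813), (nat_lit 0x1384446c41), (nat_lit 0)⟩)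
 (.l ⟨(nat_lit 0xc0000d), (nat_lit 0x1806c0707017), (nat_lit 0x88219820fd5463557), (nat_lit 0)⟩))
 (.l ⟨(nat_lit 0xe0000d), (nat_lit 0x6c1d06815), (nat_lit 0x2a2c45306d5560d66), (nat_lit 0)⟩)))
 (.n (.n (.n (.l ⟨(nat_lit 0xc0000d), (nat_lit 0x6b090744a401), (nat_lit 0x752d1d8eb), (nat_lit 0)⟩)
 (.l ⟨(nat_lit 0x120000d), (nat_lit 0x84200701207007), (nat_lit 0x1bc5d3ec3c6359a), (nat_lit 0)⟩))
 (.l ⟨(nat_lit 0xe0000b), (nat_lit 0x642001415), (nat_lit 0x1121f57b0e95d63d92), (nat_lit 0)⟩))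
 (.n (.n (.l ⟨(nat_lit 0xe0000b), (nat_lit 0x5cf447410), (nat_lit 0xbd2f17c76), (nat_lit 0)⟩)
 (.l ⟨(nat_lit 0xc0000d), (nat_lit 0x842006c1207007), (nat_lit 0x3258c7e4c4050054c56576), (nat_lit 0)⟩))
 (.l ⟨(nat_lit 0xc0000d), (nat_lit 0x150701d07010), (nat_lit 0x52430655455f5bd90), (nat_lit 0)⟩))))
 (.n (.n (.n (.n (.l ⟨(nat_lit 0xc0000b), (nat_lit 0x1b53d3584d), (nat_lit 0x18d90158bd), (nat_lit 0)⟩)
 (.l ⟨(nat_lit 0xc0000d), (nat_lit 0x160141406820), (nat_lit 0x6310907089805c80800c050040401d4d6099d), (nat_lit 0)⟩))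
 (.l ⟨(nat_lit 0x800008), (nat_lit 0x141e06c2206c1807014), (nat_lit 0), (nat_lit 0)⟩))
 (.n (.n (.l ⟨(nat_lit 0xc0000d), (nat_lit 0xe8974f815), (nat_lit 0x1818b20419), (nat_lit 0)⟩)
 (.l ⟨(nat_lit 0xc0000d), (nat_lit 0x70110701f07011), (nat_lit 0x15b140bb054050054a64d87), (nat_lit 0)⟩))
 (.l ⟨(nat_lit 0xc0000d), (nat_lit 0x22070180701e), (nat_lit 0x4f4c52102d435a951), (nat_lit 0)⟩)))
 (.n (.n (.n (.l ⟨(nat_lit 0xc0000d), (nat_lit 0x585f45d10), (nat_lit 0x2dd0d2080e), (nat_lit 0)⟩)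
 (.l ⟨(nat_lit 0xc0000d), (nat_lit 0x1e0640f07010), (nat_lit 0x3a16d640d16858158), (nat_lit 0)⟩))
 (.l ⟨(nat_lit 0xa0000d), (nat_lit 0x110141507010), (nat_lit 0x1210e058050054d61999), (nat_lit 0)⟩))
 (.n (.n (.l ⟨(nat_lit 0x120000d), (nat_lit 0x717e19429), (nat_lit 0x345a0f06a), (nat_lit 0)⟩)
 (.l ⟨(nat_lit 0xc00013), (nat_lit 0x701406c1707011), (nat_lit 0x5404c6f644050054363d72), (nat_lit 0)⟩))
 (.l ⟨(nat_lit 0x120000d), (nat_lit 0x14200641f07014), (nat_lit 0x142099d08d7461d86), (nat_lit 0)⟩)))))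
 (.n (.n (.n (.n (.n (.l ⟨(nat_lit 0xc0000b), (nat_lit 0x2354807), (nat_lit 0x1798330c3c), (nat_lit 0)⟩)
 (.l ⟨(nat_lit 0xc0000d), (nat_lit 0x1f0140707011), (nat_lit 0x11c6e5f0170140156187), (nat_lit 0)⟩))
 (.n (.l ⟨(nat_lit 0x200002), (nat_lit 0x1705c1c044050741c0800d), (nat_lit 0), (nat_lit 0)⟩)
 (.l ⟨(nat_lit 0xc00015), (nat_lit 0x70200681d), (nat_lit 0x12095148050054557d94), (nat_lit 0)⟩)))
 (.n (.n (.l ⟨(nat_lit 0xc0000d), (nat_lit 0xd22050), (nat_lit 0x1981920155), (nat_lit 0)⟩)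
 (.l ⟨(nat_lit 0xc0000d), (nat_lit 0x1d0681306815), (nat_lit 0x4e4d8311b0050054756195), (nat_lit 0)⟩))
 (.l ⟨(nat_lit 0xc0000d), (nat_lit 0x2c220140f07007), (nat_lit 0x595f88565d5a64596), (nat_lit 0)⟩)))
 (.n (.n (.n (.l ⟨(nat_lit 0xc0000d), (nat_lit 0x55005a407), (nat_lit 0x9d7f10915), (nat_lit 0)⟩)
 (.l ⟨(nat_lit 0x120000d), (nat_lit 0x681d0682107011), (nat_lit 0xe80d644336017c), (nat_lit 0)⟩))
 (.l ⟨(nat_lit 0xe0000b), (nat_lit 0x1806c1807016), (nat_lit 0x3266c6719d416698d), (nat_lit 0)⟩))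
 (.n (.n (.l ⟨(nat_lit 0xe0000d), (nat_lit 0x1706518015), (nat_lit 0x1d9004960), (nat_lit 0)⟩)
 (.l ⟨(nat_lit 0xa0000f), (nat_lit 0x6c1107012), (nat_lit 0x5cd0705409014015bd98), (nat_lit 0)⟩))
 (.l ⟨(nat_lit 0xe0000d), (nat_lit 0x1d0702207007), (nat_lit 0x1a089604505c199), (nat_lit 0)⟩))))
 (.n (.n (.n (.n (.l ⟨(nat_lit 0xc0000d), (nat_lit 0x8c2967454), (nat_lit 0x15906228016017b020030140101007), (nat_lit 0)⟩)
 (.l ⟨(nat_lit 0xc0000d), (nat_lit 0xf06c120641d), (nat_lit 0x5901d3a189585c193), (nat_lit 0)⟩))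
 (.l ⟨(nat_lit 0xc0000b), (nat_lit 0x1d0681307007), (nat_lit 0x416355d1854d55194), (nat_lit 0)⟩))
 (.n (.n (.l ⟨(nat_lit 0xc0000d), (nat_lit 0x18d901f4fb), (nat_lit 0x4044b25014), (nat_lit 0)⟩)
 (.l ⟨(nat_lit 0xc0000d), (nat_lit 0x120642201415), (nat_lit 0x6c0859b1394b5818f), (nat_lit 0)⟩))
 (.l ⟨(nat_lit 0xe0000d), (nat_lit 0x301507012), (nat_lit 0x172f4235054b), (nat_lit 0)⟩)))
 (.n (.n (.n (.l ⟨(nat_lit 0xc0000d), (nat_lit 0x61d1020035), (nat_lit 0x7d3713923), (nat_lit 0)⟩)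
 (.l ⟨(nat_lit 0x140000d), (nat_lit 0x1d0140707010), (nat_lit 0x130571f112535685440800c050040401d4c67981), (nat_lit 0)⟩))
 (.l ⟨(nat_lit 0xc0000d), (nat_lit 0x1307012), (nat_lit 0xbcfa19c0d5ed9d), (nat_lit 0)⟩))
 (.n (.n (.l ⟨(nat_lit 0x1200013), (nat_lit 0x1384b0cd22), (nat_lit 0x3947d5f1794c5fd6c0080602407014080280c0300c02407014080280b01c05020050040802c0b), (nat_lit 0)⟩)
 (.l ⟨(nat_lit 0xc00013), (nat_lit 0xf06c1d0641e), (nat_lit 0x1664c18150050054d60170), (nat_lit 0)⟩))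
 (.l ⟨(nat_lit 0x120000d), (nat_lit 0x1d06c100141e), (nat_lit 0x425918e081455c99e0215962d97), (nat_lit 0)⟩))))))
 (.n (.n (.n (.n (.n (.n (.l ⟨(nat_lit 0x800008), (nat_lit 0x1cc563cc21), (nat_lit 0), (nat_lit 0)⟩)
 (.l ⟨(nat_lit 0xc0000d), (nat_lit 0x1f0641d06815), (nat_lit 0x5741c0d1e8050054564983), (nat_lit 0)⟩))
 (.n (.l ⟨(nat_lit 0x140000d), (nat_lit 0x13c7943c60), (nat_lit 0x105946105d), (nat_lit 0)⟩)
 (.l ⟨(nat_lit 0xc00015), (nat_lit 0x220682207010), (nat_lit 0x3c85405005005456355f), (nat_lit 0)⟩)))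
 (.n (.n (.l ⟨(nat_lit 0xc0000d), (nat_lit 0x1555e64012), (nat_lit 0x1404334cfb), (nat_lit 0)⟩)
 (.l ⟨(nat_lit 0x60000d), (nat_lit 0x842006c0707007), (nat_lit 0x6625036060050054c5fd59), (nat_lit 0)⟩))
 (.l ⟨(nat_lit 0xa0000d), (nat_lit 0x2006c1e), (nat_lit 0x3430691fc050054a5e194), (nat_lit 0)⟩)))
 (.n (.n (.n (.l ⟨(nat_lit 0xc0000d), (nat_lit 0x15c1f1fd3a), (nat_lit 0x1756609c81), (nat_lit 0)⟩)
 (.l ⟨(nat_lit 0xc0000d), (nat_lit 0x1e0701207007), (nat_lit 0xe0e51100c050054763965), (nat_lit 0)⟩))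
 (.l ⟨(nat_lit 0xc0000b), (nat_lit 0x6c160141107010), (nat_lit 0x34f44506d456658e), (nat_lit 0)⟩))
 (.n (.n (.l ⟨(nat_lit 0xe0000d), (nat_lit 0x1bc035b594), (nat_lit 0x180732c415), (nat_lit 0)⟩)
 (.l ⟨(nat_lit 0xc0000d), (nat_lit 0x140f06c140701e), (nat_lit 0x1b44b580816519d), (nat_lit 0)⟩))
 (.l ⟨(nat_lit 0xc0000d), (nat_lit 0x106c0706416), (nat_lit 0xc25f885035455e56c), (nat_lit 0)⟩))))
 (.n (.n (.n (.n (.l ⟨(nat_lit 0xc0000b), (nat_lit 0xe50f0fc71), (nat_lit 0x1792006c3f), (nat_lit 0)⟩)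
 (.l ⟨(nat_lit 0xc0000d), (nat_lit 0x6c1e0142207007), (nat_lit 0x4d4845f0c1546195f), (nat_lit 0)⟩))
 (.l ⟨(nat_lit 0xa0000b), (nat_lit 0x740e07011), (nat_lit 0x6c491781554b5c54b), (nat_lit 0)⟩))
 (.n (.n (.l ⟨(nat_lit 0xc0000d), (nat_lit 0x1990115815), (nat_lit 0x586409c19), (nat_lit 0)⟩)
 (.l ⟨(nat_lit 0xc0000d), (nat_lit 0x58170640f07007), (nat_lit 0x2a56c5c044050055155587), (nat_lit 0)⟩))
 (.l ⟨(nat_lit 0xc0000d), (nat_lit 0x120680f07010), (nat_lit 0x503f43c0f1415c158), (nat_lit 0)⟩)))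
 (.n (.n (.n (.l ⟨(nat_lit 0xc0000d), (nat_lit 0xc4635b0f4), (nat_lit 0x69301e0f2), (nat_lit 0)⟩)
 (.l ⟨(nat_lit 0x120000d), (nat_lit 0x1d0681107012), (nat_lit 0x301ed391ed4166d8b), (nat_lit 0)⟩))
 (.l ⟨(nat_lit 0x120000d), (nat_lit 0x150682207011), (nat_lit 0x414e8733514c56178), (nat_lit 0)⟩))
 (.n (.n (.l ⟨(nat_lit 0x120000d), (nat_lit 0x1b180190ec), (nat_lit 0x140942084c57d6a020030140101007), (nat_lit 0)⟩)
 (.l ⟨(nat_lit 0xc00013), (nat_lit 0x502001415), (nat_lit 0x3a1a160210050054364165), (nat_lit 0)⟩))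
 (.l ⟨(nat_lit 0xa0000d), (nat_lit 0x64220680f07007), (nat_lit 0x2a590a301c050054a5e99e), (nat_lit 0)⟩)))))
 (.n (.n (.n (.n (.n (.l ⟨(nat_lit 0xc0000b), (nat_lit 0xe8614fc9f), (nat_lit 0x63084f33dc03), (nat_lit 0)⟩)
 (.l ⟨(nat_lit 0xa0000d), (nat_lit 0x200641f01421), (nat_lit 0x11164785a8050054956994), (nat_lit 0)⟩))
 (.n (.l ⟨(nat_lit 0x1400007), (nat_lit 0x140706c16), (nat_lit 0x6c2cc875d5475799b), (nat_lit 0)⟩)
 (.l ⟨(nat_lit 0xc00015), (nat_lit 0x84110682007007), (nat_lit 0x4f1e50f180050054566d5d), (nat_lit 0)⟩)))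
 (.n (.n (.l ⟨(nat_lit 0xc0000d), (nat_lit 0x1319222039), (nat_lit 0x1699e1455e), (nat_lit 0)⟩)
 (.l ⟨(nat_lit 0xc0000d), (nat_lit 0x150682007011), (nat_lit 0x1681fd82148050054165165), (nat_lit 0)⟩))
 (.l ⟨(nat_lit 0xa0000d), (nat_lit 0x1206c1701415), (nat_lit 0x50438580dc05005456217e), (nat_lit 0)⟩)))
 (.n (.n (.n (.l ⟨(nat_lit 0xc0000d), (nat_lit 0xdcb318c4f), (nat_lit 0x1755522063), (nat_lit 0)⟩)
 (.l ⟨(nat_lit 0xc0000d), (nat_lit 0x68150641606815), (nat_lit 0xc4f06805005535b94a), (nat_lit 0)⟩))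
 (.l ⟨(nat_lit 0xc0000d), (nat_lit 33795), (nat_lit 0x564188a0054c), (nat_lit 0)⟩))
 (.n (.n (.l ⟨(nat_lit 0x120000d), (nat_lit 0x199300405e), (nat_lit 0x1096463820), (nat_lit 0)⟩)
 (.l ⟨(nat_lit 0xc0000f), (nat_lit 0x150701e01415), (nat_lit 0x1551d6243300405005415459e), (nat_lit 0)⟩))
 (.l ⟨(nat_lit 0xc0000d), (nat_lit 0x1706c1e07014), (nat_lit 0x451d59608d9d5dc0800c050040401d4367575), (nat_lit 0)⟩))))
 (.n (.n (.n (.n (.l ⟨(nat_lit 0xc0000d), (nat_lit 0x851c1404e), (nat_lit 0x1745b5d043), (nat_lit 0)⟩)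
 (.l ⟨(nat_lit 0xe0000d), (nat_lit 0x681506c0707007), (nat_lit 0x180723e43b5f56e), (nat_lit 0)⟩))
 (.l ⟨(nat_lit 0x140000b), (nat_lit 0x1106c1706416), (nat_lit 0x16c5a879035455e57b), (nat_lit 0)⟩))
 (.n (.n (.l ⟨(nat_lit 0xc0000d), (nat_lit 0x1146118c95), (nat_lit 0x245c1d823), (nat_lit 0)⟩)
 (.l ⟨(nat_lit 0x120000d), (nat_lit 0x641d0681307007), (nat_lit 0x1b878214b45359c5dc0800c050040401d4b5d99a), (nat_lit 0)⟩))
 (.l ⟨(nat_lit 0xc0000d), (nat_lit 0x681e0141f07010), (nat_lit 0x87174590694c5657c), (nat_lit 0)⟩)))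
 (.n (.n (.n (.l ⟨(nat_lit 0xc0000d), (nat_lit 0x1b45f67016), (nat_lit 0x6645b62411), (nat_lit 0)⟩)
 (.l ⟨(nat_lit 0xc0000d), (nat_lit 0x1106c1107010), (nat_lit 0x1307d5d08054169), (nat_lit 0)⟩))
 (.l ⟨(nat_lit 0xc0000d), (nat_lit 0x1406c2207012), (nat_lit 0x1d4e8820c95a5754d), (nat_lit 0)⟩))
 (.n (.n (.l ⟨(nat_lit 0x140000b), (nat_lit 0xd56188bc), (nat_lit 0x55091b833), (nat_lit 0)⟩)
 (.l ⟨(nat_lit 0xc00013), (nat_lit 0x88160641007007), (nat_lit 0xb228630cc050054c5e96d), (nat_lit 0)⟩))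
 (.l ⟨(nat_lit 0xa0000d), (nat_lit 0x150701306c16), (nat_lit 0x2a4c87904405005475f972), (nat_lit 0)⟩)))))))
 (.n (.n (.n (.n (.n (.n (.n (.l ⟨(nat_lit 0x600007), (nat_lit 0x53d007), (nat_lit 0x5159a59408), (nat_lit 0)⟩)
 (.l ⟨(nat_lit 0xc0000d), (nat_lit 0x22014120641d), (nat_lit 0x5b0a99504c050054f57d82), (nat_lit 0)⟩))
 (.n (.l ⟨(nat_lit 0x140000d), (nat_lit 0x1a8822c911), (nat_lit 0x4a8671d4456059a020030140101007), (nat_lit 0)⟩)
 (.l ⟨(nat_lit 0xc00015), (nat_lit 0x701306c1007007), (nat_lit 0x1f5f53b00c050054363d73), (nat_lit 0)⟩)))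
 (.n (.n (.l ⟨(nat_lit 0xc0000d), (nat_lit 0xc47619085), (nat_lit 0x1b57a15105), (nat_lit 0)⟩)
 (.l ⟨(nat_lit 0x140000d), (nat_lit 0x780504c0505c03), (nat_lit 0x2904c7b449515b984), (nat_lit 0)⟩))
 (.l ⟨(nat_lit 0xc0000d), (nat_lit 0x120681e), (nat_lit 0x4f5f818060050054163d84), (nat_lit 0)⟩)))
 (.n (.n (.n (.l ⟨(nat_lit 0xc0000d), (nat_lit 0xe58e1742a), (nat_lit 0x8c7115879), (nat_lit 0)⟩)
 (.l ⟨(nat_lit 0xc0000d), (nat_lit 0x1d06c1607011), (nat_lit 0x6b549221cd4362957), (nat_lit 0)⟩))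
 (.l ⟨(nat_lit 0xc0000b), (nat_lit 0x140141f07017), (nat_lit 0x2d743f8545a570), (nat_lit 0)⟩))
 (.n (.n (.l ⟨(nat_lit 0xe0000d), (nat_lit 0xd1805801), (nat_lit 0x172f423), (nat_lit 0)⟩)
 (.l ⟨(nat_lit 0xc0000d), (nat_lit 0x70160641707007), (nat_lit 0x1022596130050055863593), (nat_lit 0)⟩))
 (.l ⟨(nat_lit 0xc0000d), (nat_lit 0x70120141707007), (nat_lit 0x19d2a1ec4d5f547), (nat_lit 0)⟩))))
 (.n (.n (.n (.n (.l ⟨(nat_lit 0xc0000b), (nat_lit 0x55c2f1900b), (nat_lit 0x10d0747c67), (nat_lit 0)⟩)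
 (.l ⟨(nat_lit 0xc0000d), (nat_lit 0x220641507010), (nat_lit 0xb03d8704005005495b59b), (nat_lit 0)⟩))
 (.l ⟨(nat_lit 0xc00009), (nat_lit 0x190481d), (nat_lit 0x6148021465765f154), (nat_lit 0)⟩))
 (.n (.n (.l ⟨(nat_lit 0xc0000d), (nat_lit 0x5707418c19), (nat_lit 0x7c7e668b8), (nat_lit 0)⟩)
 (.l ⟨(nat_lit 0xc0000d), (nat_lit 0x640f06c0701416), (nat_lit 0x4e1bd2014405005455797e), (nat_lit 0)⟩))
 (.l ⟨(nat_lit 0xa0000d), (nat_lit 0x3c2007011), (nat_lit 0x6d0350f1dc050055054993), (nat_lit 0)⟩)))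
 (.n (.n (.n (.l ⟨(nat_lit 0xc0000d), (nat_lit 0x1816704c11), (nat_lit 0x246913086), (nat_lit 0)⟩)
 (.l ⟨(nat_lit 0xc0000d), (nat_lit 0x706c1207014), (nat_lit 0x1761878461415f599), (nat_lit 0)⟩))
 (.l ⟨(nat_lit 0x140000d), (nat_lit 0x1c02c07), (nat_lit 0x272f1881b5436116b), (nat_lit 0)⟩))
 (.n (.n (.l ⟨(nat_lit 0x120000d), (nat_lit 0x5450b0501e), (nat_lit 0x19d1f22828), (nat_lit 0)⟩)
 (.l ⟨(nat_lit 0xc00013), (nat_lit 0x70702007007), (nat_lit 0x5a120e25e8050054b61187), (nat_lit 0)⟩))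
 (.l ⟨(nat_lit 0xc0000d), (nat_lit 0x3c1b0481207010), (nat_lit 0x1398e43c3a0140152589), (nat_lit 0)⟩)))))
 (.n (.n (.n (.n (.n (.l ⟨(nat_lit 0xc0000b), (nat_lit 0xc0f402c6e), (nat_lit 0x9c844d830), (nat_lit 0)⟩)
 (.l ⟨(nat_lit 0xc0000d), (nat_lit 0x702106415), (nat_lit 0x541b5111054b64551), (nat_lit 0)⟩))
 (.n (.l ⟨(nat_lit 0x600007), (nat_lit 0x1d0141e07017), (nat_lit 0x1c4a5830d5435f184), (nat_lit 0)⟩)
 (.l ⟨(nat_lit 0xc00015), (nat_lit 0x3c0e06c1807007), (nat_lit 0x3a59c790e405005546156c), (nat_lit 0)⟩)))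
 (.n (.n (.l ⟨(nat_lit 0xc0000d), (nat_lit 0x701243015), (nat_lit 0x12d7c1cd65), (nat_lit 0)⟩)
 (.l ⟨(nat_lit 0x140000d), (nat_lit 0x1806c1306816), (nat_lit 0x130355801f66589), (nat_lit 0)⟩))
 (.l ⟨(nat_lit 0xc0000d), (nat_lit 0x1706c130141f), (nat_lit 0x13c7a190d2014015b54d), (nat_lit 0)⟩)))
 (.n (.n (.n (.l ⟨(nat_lit 0xc0000d), (nat_lit 0x60fb1c083), (nat_lit 0x751e1701c), (nat_lit 0)⟩)
 (.l ⟨(nat_lit 0xc0000d), (nat_lit 0x701306c2007007), (nat_lit 0x14cc68454050054a67972), (nat_lit 0)⟩))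
 (.l ⟨(nat_lit 0xc0000c), (nat_lit 0x706815014220640f0140f), (nat_lit 0), (nat_lit 0)⟩))
 (.n (.n (.l ⟨(nat_lit 0x120000b), (nat_lit 0xf95b043), (nat_lit 0x5cfc1bc03), (nat_lit 0)⟩)
 (.l ⟨(nat_lit 0xc0000f), (nat_lit 0x681206c1f01415), (nat_lit 0x1b15d230a8050054360196), (nat_lit 0)⟩))
 (.l ⟨(nat_lit 0xc0000d), (nat_lit 0x1b0441e07012), (nat_lit 0x1228600d8050055465576), (nat_lit 0)⟩))))
 (.n (.n (.n (.n (.l ⟨(nat_lit 0xc0000d), (nat_lit 0x4d7b61c17), (nat_lit 0xecf95585b), (nat_lit 0)⟩)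
 (.l ⟨(nat_lit 0xc0000d), (nat_lit 0x68150641f07012), (nat_lit 0x3546084254050059251d8e), (nat_lit 0)⟩))
 (.l ⟨(nat_lit 0xc0000b), (nat_lit 0x741b0501a04803), (nat_lit 0x3d211090754191), (nat_lit 0)⟩))
 (.n (.n (.l ⟨(nat_lit 0xc0000d), (nat_lit 0x1893813828), (nat_lit 0x138c26202a), (nat_lit 0)⟩)
 (.l ⟨(nat_lit 0xc0000d), (nat_lit 0x180142007017), (nat_lit 0x68644841cd6564554), (nat_lit 0)⟩))
 (.l ⟨(nat_lit 0xc0000d), (nat_lit 0x441e0641107007), (nat_lit 0xe4b47d27c05005495819e), (nat_lit 0)⟩)))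
 (.n (.n (.n (.l ⟨(nat_lit 0xc0000d), (nat_lit 0x1603341d77), (nat_lit 0x1841058f), (nat_lit 0)⟩)
 (.l ⟨(nat_lit 0xc0000d), (nat_lit 0x220682206c1f), (nat_lit 0x1617d145510140159575), (nat_lit 0)⟩))
 (.l ⟨(nat_lit 0xc0000d), (nat_lit 0x1307014), (nat_lit 0x5e488792d405005595cd51), (nat_lit 0)⟩))
 (.n (.n (.l ⟨(nat_lit 0x140000b), (nat_lit 0xd41456807), (nat_lit 0x1d1f0a40e), (nat_lit 0)⟩)
 (.l ⟨(nat_lit 0xc00013), (nat_lit 0x1f0681007007), (nat_lit 0x95e442214050054a61d65), (nat_lit 0)⟩))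
 (.l ⟨(nat_lit 0xc0000d), (nat_lit 0xf0681807010), (nat_lit 0x1a4a4341b0050054164156), (nat_lit 0)⟩))))))
 (.n (.n (.n (.n (.n (.n (.l ⟨(nat_lit 0xc00007), (nat_lit 0x1698759033), (nat_lit 0xe4610bc22), (nat_lit 0)⟩)
 (.l ⟨(nat_lit 0xc0000d), (nat_lit 0x141307016), (nat_lit 0x445cd6e1417857d9d), (nat_lit 0)⟩))
 (.n (.l ⟨(nat_lit 0x140000d), (nat_lit 0x1a0821ad0e), (nat_lit 0xdd271c506), (nat_lit 0)⟩)
 (.l ⟨(nat_lit 0xc00015), (nat_lit 0x220141107010), (nat_lit 0x105655701c050054a5e98d), (nat_lit 0)⟩)))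
 (.n (.n (.l ⟨(nat_lit 0xc0000d), (nat_lit 0x550713017), (nat_lit 0x113ac653f405005515797f00806028030080601007), (nat_lit 0)⟩)
 (.l ⟨(nat_lit 0xc0000d), (nat_lit 0x120681307011), (nat_lit 0x14b72049400c05005476655e), (nat_lit 0)⟩))
 (.l ⟨(nat_lit 0xc0000d), (nat_lit 0x1306c070681e), (nat_lit 0x4e1849f65c050055167960), (nat_lit 0)⟩)))
 (.n (.n (.n (.l ⟨(nat_lit 0xc0000d), (nat_lit 0x19469480b1), (nat_lit 0x174f730814), (nat_lit 0)⟩)
 (.l ⟨(nat_lit 0xa0000d), (nat_lit 0x1e0641107007), (nat_lit 0x797e4e05a014015298f), (nat_lit 0)⟩))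
 (.l ⟨(nat_lit 0xc0000b), (nat_lit 0x1b0501f07007), (nat_lit 0xfcfc470615fd5e), (nat_lit 0)⟩))
 (.n (.n (.l ⟨(nat_lit 0xe0000d), (nat_lit 0x6c5748c2a), (nat_lit 0x1791e208625b15c020030140101007), (nat_lit 0)⟩)
 (.l ⟨(nat_lit 0xc0000f), (nat_lit 0x88150681407007), (nat_lit 0x621a0a317c050055361987), (nat_lit 0)⟩))
 (.l ⟨(nat_lit 0x140000d), (nat_lit 0x481707010), (nat_lit 0x444f580295054b), (nat_lit 0)⟩))))
 (.n (.n (.n (.n (.l ⟨(nat_lit 0xc0000b), (nat_lit 0x194765dc4f), (nat_lit 0x10d251605c), (nat_lit 0)⟩)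
 (.l ⟨(nat_lit 0xc0000d), (nat_lit 0x180682107014), (nat_lit 0x61304830cc010140158d49), (nat_lit 0)⟩))
 (.l ⟨(nat_lit 0xc0000b), (nat_lit 0x1e07007), (nat_lit 0x551dd86121515e56e), (nat_lit 0)⟩))
 (.n (.n (.l ⟨(nat_lit 0x80000d), (nat_lit 0x1a4b75b084), (nat_lit 0x179881c87e), (nat_lit 0)⟩)
 (.l ⟨(nat_lit 0x120000d), (nat_lit 0x100641406816), (nat_lit 0x3947d5f1795257179), (nat_lit 0)⟩))
 (.l ⟨(nat_lit 0xc0000d), (nat_lit 0x641d0701707016), (nat_lit 0x55005a4070140155d9d), (nat_lit 0)⟩)))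
 (.n (.n (.n (.l ⟨(nat_lit 0xc0000d), (nat_lit 0x64071e0fa), (nat_lit 0xa46c414515696b528020180c), (nat_lit 0)⟩)
 (.l ⟨(nat_lit 0xc0000d), (nat_lit 0x841d06c1007007), (nat_lit 0x3a0c865664050055653d66), (nat_lit 0)⟩))
 (.l ⟨(nat_lit 0xe0000d), (nat_lit 0xe06c1407007), (nat_lit 0x4941c894c14557955), (nat_lit 0)⟩))
 (.n (.n (.l ⟨(nat_lit 0x120000f), (nat_lit 0x1248312c14), (nat_lit 0xf15c1b810), (nat_lit 0)⟩)
 (.l ⟨(nat_lit 0xc00013), (nat_lit 0x681e06816), (nat_lit 0x1807e1a0bf014016195a), (nat_lit 0)⟩))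
 (.l ⟨(nat_lit 0xe0000d), (nat_lit 0x6c1e06c130681d), (nat_lit 0x15160e9350054b5b977), (nat_lit 0)⟩)))))
 (.n (.n (.n (.n (.n (.l ⟨(nat_lit 0xc0000b), (nat_lit 0x24fc0bc1c), (nat_lit 0x1bc034c81f), (nat_lit 0)⟩)
 (.l ⟨(nat_lit 0xc0000d), (nat_lit 0x120641707007), (nat_lit 0x13e1046e05d505d586), (nat_lit 0)⟩))
 (.n (.l ⟨(nat_lit 0x600007), (nat_lit 0x41b0741903c03), (nat_lit 0x67034560ed5157551), (nat_lit 0)⟩)
 (.l ⟨(nat_lit 0xc00015), (nat_lit 0x1e06c2207013), (nat_lit 0x571685b418050055364588), (nat_lit 0)⟩)))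
 (.n (.n (.l ⟨(nat_lit 0xc0000d), (nat_lit 0x1b90d1f450), (nat_lit 0x8c501b4f4), (nat_lit 0)⟩)
 (.l ⟨(nat_lit 0xc0000d), (nat_lit 0x701d0681607013), (nat_lit 0x6616441404050055056199), (nat_lit 0)⟩))
 (.l ⟨(nat_lit 0x60000d), (nat_lit 0x1b074190740c), (nat_lit 0x192024680318866160), (nat_lit 0)⟩)))
 (.n (.n (.n (.l ⟨(nat_lit 0xc0000d), (nat_lit 0x155972246b), (nat_lit 0x59083cc74), (nat_lit 0)⟩)
 (.l ⟨(nat_lit 0xc0000d), (nat_lit 0x2206c2207007), (nat_lit 0x400d17e0c005005495b592), (nat_lit 0)⟩))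
 (.l ⟨(nat_lit 0x140000d), (nat_lit 0x130141507007), (nat_lit 0x13624192194b6114901d6754994), (nat_lit 0)⟩))
 (.n (.n (.l ⟨(nat_lit 0x120000d), (nat_lit 0xbc6003c63), (nat_lit 0x665781143d4d66d57020030140101007), (nat_lit 0)⟩)
 (.l ⟨(nat_lit 0xc0000f), (nat_lit 0x1306c130141e), (nat_lit 0x5a469781100500592), (nat_lit 0)⟩))
 (.l ⟨(nat_lit 0xa0000d), (nat_lit 0x106c2207011), (nat_lit 0x18150f7150050055659990), (nat_lit 0)⟩))))
 (.n (.n (.n (.n (.l ⟨(nat_lit 0xc0000d), (nat_lit 0xfd6c3f054), (nat_lit 0x131a18622401), (nat_lit 0)⟩)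
 (.l ⟨(nat_lit 0xc0000d), (nat_lit 0x1406c0707007), (nat_lit 0x243ec42090050054f5954b), (nat_lit 0)⟩))
 (.l ⟨(nat_lit 0xc0000b), (nat_lit 0x1c1f07011), (nat_lit 0x3366030385575e570), (nat_lit 0)⟩))
 (.n (.n (.l ⟨(nat_lit 0xc0000d), (nat_lit 0x612110a45803), (nat_lit 0x6201d8c), (nat_lit 0)⟩)
 (.l ⟨(nat_lit 0xc0000d), (nat_lit 0x1006c0f06815), (nat_lit 0x18170091f8050055960564), (nat_lit 0)⟩))
 (.l ⟨(nat_lit 0xc0000d), (nat_lit 0x80190740b), (nat_lit 0x6217108115455357f), (nat_lit 0)⟩)))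
 (.n (.n (.n (.l ⟨(nat_lit 0xc0000d), (nat_lit 0x1a90d1d066), (nat_lit 0x1ac6038847), (nat_lit 0)⟩)
 (.l ⟨(nat_lit 0xa0000d), (nat_lit 0x1c0881a07810), (nat_lit 0x42080742cc05005475ed45), (nat_lit 0)⟩))
 (.l ⟨(nat_lit 0xc0000d), (nat_lit 0x1006415), (nat_lit 0x4d049320d5635a19a0080602407014080280c0300c02407014080280b01c05020050040802c0b60184), (nat_lit 0)⟩))
 (.n (.n (.l ⟨(nat_lit 0x140000d), (nat_lit 0x111280bd55), (nat_lit 0x228c156409), (nat_lit 0)⟩)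
 (.l ⟨(nat_lit 0x1200013), (nat_lit 0x1106c1307011), (nat_lit 0x246412501c050055164d9c), (nat_lit 0)⟩))
 (.l ⟨(nat_lit 0xc0000d), (nat_lit 0x58120641307012), (nat_lit 0x891980c1354363178), (nat_lit 0)⟩)))))))
noncomputable def T2 : Tr :=
  .n (.n (.n (.n (.n (.n (.n (.n (.l ⟨(nat_lit 0x400003), (nat_lit 1039), (nat_lit 0x5456565407), (nat_lit 0)⟩)
 (.l ⟨(nat_lit 0x100000d), (nat_lit 0x682201416), (nat_lit 0x215003f5fd4366178), (nat_lit 0)⟩))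
 (.n (.l ⟨(nat_lit 0x140000d), (nat_lit 0x485707551), (nat_lit 0x746c30530), (nat_lit 0)⟩)
 (.l ⟨(nat_lit 0xc00015), (nat_lit 0x6c160641506816), (nat_lit 0x692113a05005005475e970), (nat_lit 0)⟩)))
 (.n (.n (.l ⟨(nat_lit 0xc0000d), (nat_lit 0xe9075a013), (nat_lit 0x68105231a801), (nat_lit 0)⟩)
 (.l ⟨(nat_lit 0x100000d), (nat_lit 0xf0642007010), (nat_lit 0xd1f4702d14563d69), (nat_lit 0)⟩))
 (.l ⟨(nat_lit 0xc0000d), (nat_lit 0x1b0800507807), (nat_lit 0x1e65d0721805005575697b), (nat_lit 0)⟩)))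
 (.n (.n (.n (.l ⟨(nat_lit 0xc0000d), (nat_lit 0x2296642432), (nat_lit 0x108525004b), (nat_lit 0)⟩)
 (.l ⟨(nat_lit 0xc0000d), (nat_lit 0x210642007007), (nat_lit 0x5755c341314c64d79), (nat_lit 0)⟩))
 (.l ⟨(nat_lit 0xc0000b), (nat_lit 0x6c210641e), (nat_lit 0x105681a8bc00d4b6759d), (nat_lit 0)⟩))
 (.n (.n (.l ⟨(nat_lit 0xe0000b), (nat_lit 0x104c0d), (nat_lit 0x247e17c5b), (nat_lit 0)⟩)
 (.l ⟨(nat_lit 0xc0000d), (nat_lit 0x6c220681206416), (nat_lit 0x5a59061054050054558186), (nat_lit 0)⟩))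
 (.l ⟨(nat_lit 0xc0000d), (nat_lit 0x68110680f07007), (nat_lit 0x434713b1b005005525956d), (nat_lit 0)⟩))))
 (.n (.n (.n (.n (.l ⟨(nat_lit 0xc0000b), (nat_lit 0x4963c8a35005), (nat_lit 0x115370c059), (nat_lit 0)⟩)
 (.l ⟨(nat_lit 0xa0000d), (nat_lit 0x64140141f), (nat_lit 0x421e11118c050055557994), (nat_lit 0)⟩))
 (.l ⟨(nat_lit 0xe00009), (nat_lit 7), (nat_lit 324615), (nat_lit 0)⟩))
 (.n (.n (.l ⟨(nat_lit 0xc0000d), (nat_lit 0x1488a58d0d), (nat_lit 0x17d76174fb), (nat_lit 0)⟩)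
 (.l ⟨(nat_lit 0xc0000d), (nat_lit 0x2206c1207017), (nat_lit 0x15817104ec0140151d80), (nat_lit 0)⟩))
 (.l ⟨(nat_lit 0xc0000d), (nat_lit 0x3c1b04c03), (nat_lit 0x50b3558050054b6196c), (nat_lit 0)⟩)))
 (.n (.n (.n (.l ⟨(nat_lit 0xc0000d), (nat_lit 0x1055162c65), (nat_lit 0x1411c03839), (nat_lit 0)⟩)
 (.l ⟨(nat_lit 0x140000d), (nat_lit 0x706c2107007), (nat_lit 0x5e4fc85305435b186), (nat_lit 0)⟩))
 (.l ⟨(nat_lit 0xc0000d), (nat_lit 0x141106c2201415), (nat_lit 0x190e9231b0050054b6758e), (nat_lit 0)⟩))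
 (.n (.n (.l ⟨(nat_lit 0x120000d), (nat_lit 0x10c4e5f06e), (nat_lit 0x189264f030), (nat_lit 0)⟩)
 (.l ⟨(nat_lit 0xa00013), (nat_lit 0x70160141d), (nat_lit 0xf95b0430140154570), (nat_lit 0)⟩))
 (.l ⟨(nat_lit 0xc0000d), (nat_lit 0x140641e06c0707007), (nat_lit 0x1d17d0518d4167971), (nat_lit 0)⟩)))))
 (.n (.n (.n (.n (.n (.l ⟨(nat_lit 0xc0000b), (nat_lit 0x1444f3880b), (nat_lit 0x288811d814), (nat_lit 0)⟩)
 (.l ⟨(nat_lit 0xc0000d), (nat_lit 0x3c1b0801a04403), (nat_lit 0x5d1ac5e441515f195), (nat_lit 0)⟩))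
 (.n (.l ⟨(nat_lit 0x400003), (nat_lit 0x2204803), (nat_lit 0x114b655405005436497f), (nat_lit 0)⟩)
 (.l ⟨(nat_lit 0xa00015), (nat_lit 0x70180682207010), (nat_lit 0x1d4541f30c050055766d6f), (nat_lit 0)⟩)))
 (.n (.n (.l ⟨(nat_lit 0xc0000d), (nat_lit 0x79743cc4b), (nat_lit 0x194153f00e), (nat_lit 0)⟩)
 (.l ⟨(nat_lit 0xc0000d), (nat_lit 0x6c1f0640707011), (nat_lit 0x13d1d5a8540140152566), (nat_lit 0)⟩))
 (.l ⟨(nat_lit 0xc0000d), (nat_lit 0x6c1d07014), (nat_lit 0xe14c24208050054a64d79), (nat_lit 0)⟩)))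
 (.n (.n (.n (.l ⟨(nat_lit 0xc0000d), (nat_lit 0x170c216864), (nat_lit 0x110425b823), (nat_lit 0)⟩)
 (.l ⟨(nat_lit 0xc0000d), (nat_lit 0x140706c1f07011), (nat_lit 0xd1f9843ac050058c58580), (nat_lit 0)⟩))
 (.l ⟨(nat_lit 0x140000b), (nat_lit 0x1b0542007010), (nat_lit 0x11b9351a14d6659d), (nat_lit 0)⟩))
 (.n (.n (.l ⟨(nat_lit 0x1000010), (nat_lit 0x11d8f56088), (nat_lit 0), (nat_lit 0)⟩)
 (.l ⟨(nat_lit 0xc0000f), (nat_lit 0x100641007011), (nat_lit 0x671fc5d17c05005455e160), (nat_lit 0)⟩))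
 (.l ⟨(nat_lit 0x120000d), (nat_lit 0x301f07010), (nat_lit 0x65669921ad4d63587), (nat_lit 0)⟩))))
 (.n (.n (.n (.n (.l ⟨(nat_lit 0xc0000d), (nat_lit 0xdd7f4d824), (nat_lit 0x1687042c22), (nat_lit 0)⟩)
 (.l ⟨(nat_lit 0xc0000d), (nat_lit 0x1306c0f06816), (nat_lit 0x610711c11405005586018d), (nat_lit 0)⟩))
 (.l ⟨(nat_lit 0xc0000b), (nat_lit 0x1d0680701416), (nat_lit 0x1a4f10451a50572), (nat_lit 0)⟩))
 (.n (.n (.l ⟨(nat_lit 0xc0000d), (nat_lit 0xd11e12c81), (nat_lit 0xec845dd68), (nat_lit 0)⟩)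
 (.l ⟨(nat_lit 0xc0000d), (nat_lit 0x70180681407013), (nat_lit 0x1319c37164050055859595), (nat_lit 0)⟩))
 (.l ⟨(nat_lit 0xc0000d), (nat_lit 0x441b04c1a03c03), (nat_lit 0x1b18c1cd670054b56969), (nat_lit 0)⟩)))
 (.n (.n (.n (.l ⟨(nat_lit 0xc0000d), (nat_lit 0x10d2713592), (nat_lit 0x1b01b4448a), (nat_lit 0)⟩)
 (.l ⟨(nat_lit 0xc0000d), (nat_lit 0x1f0640707010), (nat_lit 0x45311ad2b00c050054161988), (nat_lit 0)⟩))
 (.l ⟨(nat_lit 0xc0000d), (nat_lit 0x2c1e0640707007), (nat_lit 0x640156e1e94b58177), (nat_lit 0)⟩))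
 (.n (.n (.l ⟨(nat_lit 0x1400007), (nat_lit 0x1494a1393f), (nat_lit 0x19d0803a), (nat_lit 0)⟩)
 (.l ⟨(nat_lit 0x600013), (nat_lit 0x1f0141407011), (nat_lit 0x6e30c6247c050054c56584), (nat_lit 0)⟩))
 (.l ⟨(nat_lit 0xc0000d), (nat_lit 0x881507014), (nat_lit 0x50150d51c1455fd75), (nat_lit 0)⟩))))))
 (.n (.n (.n (.n (.n (.n (.l ⟨(nat_lit 0xa0000b), (nat_lit 0x7c88218ec), (nat_lit 0x168c41a455), (nat_lit 0)⟩)
 (.l ⟨(nat_lit 0xc0000d), (nat_lit 0x781c0741901c03), (nat_lit 0x601486222405005555b98e), (nat_lit 0)⟩))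
 (.n (.l ⟨(nat_lit 0x140000d), (nat_lit 0x2085f4e019), (nat_lit 0xcc551d04d), (nat_lit 0)⟩)
 (.l ⟨(nat_lit 0xe00015), (nat_lit 0x220682207014), (nat_lit 0xc2d10201c050055e5f551), (nat_lit 0)⟩)))
 (.n (.n (.l ⟨(nat_lit 0xc0000d), (nat_lit 0x1487749c5f), (nat_lit 0x104862116a), (nat_lit 0)⟩)
 (.l ⟨(nat_lit 0x120000d), (nat_lit 0x641d0140707011), (nat_lit 0x624993c0c1415b591), (nat_lit 0)⟩))
 (.l ⟨(nat_lit 0xc0000d), (nat_lit 0x1b0801c03812), (nat_lit 0x414cc722f0050055466980), (nat_lit 0)⟩)))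
 (.n (.n (.n (.l ⟨(nat_lit 0xc0000d), (nat_lit 0x191394d856), (nat_lit 0x14968174e2), (nat_lit 0)⟩)
 (.l ⟨(nat_lit 0xc0000d), (nat_lit 0xf0641307012), (nat_lit 0x143f41d4e94164d6e), (nat_lit 0)⟩))
 (.l ⟨(nat_lit 0xc0000b), (nat_lit 0x6c1406c2007007), (nat_lit 0x586585f2bd4964d8e), (nat_lit 0)⟩))
 (.n (.n (.l ⟨(nat_lit 0xe0000d), (nat_lit 0x45945f435), (nat_lit 0x846b3d01c), (nat_lit 0)⟩)
 (.l ⟨(nat_lit 0x140000f), (nat_lit 14353), (nat_lit 0xccec4b42050550), (nat_lit 0)⟩))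
 (.l ⟨(nat_lit 0xc0000d), (nat_lit 0x1006c1d07017), (nat_lit 0x1b56b5684751552), (nat_lit 0)⟩))))
 (.n (.n (.n (.n (.l ⟨(nat_lit 0xc0000b), (nat_lit 0x19c784a821), (nat_lit 0x1915805411), (nat_lit 0)⟩)
 (.l ⟨(nat_lit 0xc0000d), (nat_lit 0x64140680707007), (nat_lit 0x6f1096d0618f5e173), (nat_lit 0)⟩))
 (.l ⟨(nat_lit 0x140000b), (nat_lit 0xc0701007011), (nat_lit 0x14110601b9475698f), (nat_lit 0)⟩))
 (.n (.n (.l ⟨(nat_lit 0xc0000d), (nat_lit 0x5661bcfa), (nat_lit 0xccd51c8276358b020030140101007), (nat_lit 0)⟩)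
 (.l ⟨(nat_lit 0xc0000d), (nat_lit 0x1e0701406816), (nat_lit 0x218a12080b515516340800c050040401d566659c), (nat_lit 0)⟩))
 (.l ⟨(nat_lit 0xc0000d), (nat_lit 0x106c1206415), (nat_lit 0x55670550c95756988), (nat_lit 0)⟩)))
 (.n (.n (.n (.l ⟨(nat_lit 0xc0000d), (nat_lit 0x1ac4d62c2a), (nat_lit 0xa41913871), (nat_lit 0)⟩)
 (.l ⟨(nat_lit 0xc0000d), (nat_lit 0x180681307011), (nat_lit 0x431a4541c4050054b59976), (nat_lit 0)⟩))
 (.l ⟨(nat_lit 0xe0000d), (nat_lit 0x2106c0707011), (nat_lit 0x2342c500a55663d7c), (nat_lit 0)⟩))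
 (.n (.n (.l ⟨(nat_lit 0x120000d), (nat_lit 0x751a13401), (nat_lit 0x180772ec62), (nat_lit 0)⟩)
 (.l ⟨(nat_lit 0x1200013), (nat_lit 0x40210140707011), (nat_lit 0x3c3b15706d955700800c050040401d4d5ad59), (nat_lit 0)⟩))
 (.l ⟨(nat_lit 0xc0000d), (nat_lit 0x1d0701106415), (nat_lit 0x15114834fc05005415618b), (nat_lit 0)⟩)))))
 (.n (.n (.n (.n (.n (.l ⟨(nat_lit 0xc0000b), (nat_lit 0x1518508100), (nat_lit 0x10c5b1c0af6754f020030140101007), (nat_lit 0)⟩)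
 (.l ⟨(nat_lit 0x120000d), (nat_lit 0x64160701f07012), (nat_lit 0x3568832140150d4f5f40800c050040401d546794a), (nat_lit 0)⟩))
 (.n (.l ⟨(nat_lit 0xc00007), (nat_lit 0x16064070141f), (nat_lit 0x806590d0f0050054362150), (nat_lit 0)⟩)
 (.l ⟨(nat_lit 0xc00015), (nat_lit 0x68160641606815), (nat_lit 0x3b214035b405005495457f), (nat_lit 0)⟩)))
 (.n (.n (.l ⟨(nat_lit 0xc0000d), (nat_lit 0xa18019836), (nat_lit 0x1053e089455616e020030140101007), (nat_lit 0)⟩)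
 (.l ⟨(nat_lit 0xa0000d), (nat_lit 0x1706c2107011), (nat_lit 0x5a0e8554cc050054366988), (nat_lit 0)⟩))
 (.l ⟨(nat_lit 0xc0000d), (nat_lit 0x210701007013), (nat_lit 0x655e9661b1435d58b), (nat_lit 0)⟩)))
 (.n (.n (.n (.l ⟨(nat_lit 0xc0000d), (nat_lit 0xd0814c477), (nat_lit 0x144265813), (nat_lit 0)⟩)
 (.l ⟨(nat_lit 0xc0000d), (nat_lit 0xf0701f06415), (nat_lit 0x82134450694763d5b), (nat_lit 0)⟩))
 (.l ⟨(nat_lit 0xc0000d), (nat_lit 0x1d0681507013), (nat_lit 0x745786b0654a5e194), (nat_lit 0)⟩))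
 (.n (.n (.l ⟨(nat_lit 0x120000d), (nat_lit 0x44f404091), (nat_lit 0x17878078c3), (nat_lit 0)⟩)
 (.l ⟨(nat_lit 0xa0000f), (nat_lit 0x640f06c1807013), (nat_lit 0xec611346c004050054c56577), (nat_lit 0)⟩))
 (.l ⟨(nat_lit 0xc0000d), (nat_lit 0x504c1c04c03), (nat_lit 0x1f4dc4e48d4566d6b01d4151d7e), (nat_lit 0)⟩))))
 (.n (.n (.n (.n (.l ⟨(nat_lit 0x80000d), (nat_lit 0x1481018c67), (nat_lit 0x1b0975f44d), (nat_lit 0)⟩)
 (.l ⟨(nat_lit 0xc0000d), (nat_lit 0x1706c2006821), (nat_lit 0x480395a19805005495c97a), (nat_lit 0)⟩))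
 (.l ⟨(nat_lit 0xc0000b), (nat_lit 0x70070641f07007), (nat_lit 0x2f07d290455667954), (nat_lit 0)⟩))
 (.n (.n (.l ⟨(nat_lit 0xc0000d), (nat_lit 0x14c7a46430), (nat_lit 0x1a90f1fc94), (nat_lit 0)⟩)
 (.l ⟨(nat_lit 0xc0000d), (nat_lit 0xf0701106815), (nat_lit 0x818b00d9c0055665155), (nat_lit 0)⟩))
 (.l ⟨(nat_lit 0xc0000d), (nat_lit 0x142207007), (nat_lit 0x6c6e6381a0140163991), (nat_lit 0)⟩)))
 (.n (.n (.n (.l ⟨(nat_lit 0xc0000d), (nat_lit 0x1a99e21810), (nat_lit 0x100633dc21), (nat_lit 0)⟩)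
 (.l ⟨(nat_lit 0xc0000d), (nat_lit 0x16014170641e), (nat_lit 0xb71dc8202405005455b55a), (nat_lit 0)⟩))
 (.l ⟨(nat_lit 0xe0000d), (nat_lit 0x1b05c2107007), (nat_lit 0x240d17c12d5454994), (nat_lit 0)⟩))
 (.n (.n (.l ⟨(nat_lit 0x140000d), (nat_lit 0x11c4e3882a), (nat_lit 0x13d5d15848), (nat_lit 0)⟩)
 (.l ⟨(nat_lit 0xc00013), (nat_lit 0x210701e07014), (nat_lit 0x272105b00c050055a60198), (nat_lit 0)⟩))
 (.l ⟨(nat_lit 0x120000d), (nat_lit 0x1006c1f07010), (nat_lit 0x31ec376694b67570), (nat_lit 0)⟩)))))))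
 (.n (.n (.n (.n (.n (.n (.n (.l ⟨(nat_lit 0x800008), (nat_lit 324844), (nat_lit 0), (nat_lit 0)⟩)
 (.l ⟨(nat_lit 0xc0000d), (nat_lit 0x5c1e0680707011), (nat_lit 0x5a0e918109726157c), (nat_lit 0)⟩))
 (.n (.l ⟨(nat_lit 0x140000d), (nat_lit 0xec8500d6d), (nat_lit 0x15c484b401), (nat_lit 0)⟩)
 (.l ⟨(nat_lit 0xc00015), (nat_lit 0x70070641e), (nat_lit 0x354f5960cc050055859595), (nat_lit 0)⟩)))
 (.n (.n (.l ⟨(nat_lit 0xc0000d), (nat_lit 0xa0722dd20), (nat_lit 0x1092412c78), (nat_lit 0)⟩)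
 (.l ⟨(nat_lit 0xc0000d), (nat_lit 0x70160141d01416), (nat_lit 0x12522436045435ad5f), (nat_lit 0)⟩))
 (.l ⟨(nat_lit 0xc0000d), (nat_lit 0x140700707010), (nat_lit 0x1619027065435c194), (nat_lit 0)⟩)))
 (.n (.n (.n (.l ⟨(nat_lit 0xc0000d), (nat_lit 0x305312c35), (nat_lit 0xd4715f8d3), (nat_lit 0)⟩)
 (.l ⟨(nat_lit 0xc0000d), (nat_lit 0x20070100681e), (nat_lit 0x1455d5201c05005505fd5d), (nat_lit 0)⟩))
 (.l ⟨(nat_lit 0xc0000b), (nat_lit 0x3c1e0641607007), (nat_lit 0x171e8816415065166), (nat_lit 0)⟩))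
 (.n (.n (.l ⟨(nat_lit 0xe0000d), (nat_lit 0xd204a430), (nat_lit 0x1ac5061094), (nat_lit 0)⟩)
 (.l ⟨(nat_lit 0xc0000d), (nat_lit 0x1e068120701d), (nat_lit 0x3b035221796740800c050040401d5966568), (nat_lit 0)⟩))
 (.l ⟨(nat_lit 0xc0000d), (nat_lit 0x6c1d0700f07010), (nat_lit 0x326148407d4c5d17e), (nat_lit 0)⟩))))
 (.n (.n (.n (.n (.l ⟨(nat_lit 0xc0000b), (nat_lit 0x1010b07884), (nat_lit 0x68b11d06b), (nat_lit 0)⟩)
 (.l ⟨(nat_lit 0x140000d), (nat_lit 0x706c1007014), (nat_lit 0x33154741355252579), (nat_lit 0)⟩))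
 (.l ⟨(nat_lit 0x1400009), (nat_lit 0x1c1e07011), (nat_lit 0x4a8671d4455054f), (nat_lit 0)⟩))
 (.n (.n (.l ⟨(nat_lit 0xc0000d), (nat_lit 0x1812d3d1fc05), (nat_lit 0x3dc4b18830), (nat_lit 0)⟩)
 (.l ⟨(nat_lit 0xc0000d), (nat_lit 0x64150700707011), (nat_lit 0x1f3d0844140153567), (nat_lit 0)⟩))
 (.l ⟨(nat_lit 0xc0000d), (nat_lit 0x141f0701d), (nat_lit 0x3b0fc660755765581), (nat_lit 0)⟩)))
 (.n (.n (.n (.l ⟨(nat_lit 0xc0000d), (nat_lit 0x418b06cf4), (nat_lit 0x1c7004401), (nat_lit 0)⟩)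
 (.l ⟨(nat_lit 0xc0000d), (nat_lit 0x641306c0f07007), (nat_lit 0x188076315563d80), (nat_lit 0)⟩))
 (.l ⟨(nat_lit 0xc0000d), (nat_lit 0x1806c2007013), (nat_lit 0x1695b0d88a014050054764965), (nat_lit 0)⟩))
 (.n (.n (.l ⟨(nat_lit 0x120000d), (nat_lit 0x144451f592), (nat_lit 0x112fc8715d475c586020030140101007), (nat_lit 0)⟩)
 (.l ⟨(nat_lit 0xc00013), (nat_lit 0x106c0f01420), (nat_lit 0x304a439040050055159575), (nat_lit 0)⟩))
 (.l ⟨(nat_lit 0x140000d), (nat_lit 0x6c1d0702106415), (nat_lit 0xfc305682764551), (nat_lit 0)⟩)))))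
 (.n (.n (.n (.n (.n (.l ⟨(nat_lit 0xc0000b), (nat_lit 0x845c25c68), (nat_lit 0x256e1681b), (nat_lit 0)⟩)
 (.l ⟨(nat_lit 0xc0000d), (nat_lit 0x1f0641007014), (nat_lit 0x1715f0bc6c569635ec0800c050040401d4362587), (nat_lit 0)⟩))
 (.n (.l ⟨(nat_lit 0x400007), (nat_lit 0x1d06c1d07010), (nat_lit 0x154f71ac05005515799c), (nat_lit 0)⟩)
 (.l ⟨(nat_lit 0xc00015), (nat_lit 0x1c03811), (nat_lit 0x415687c14405005515e556), (nat_lit 0)⟩)))
 (.n (.n (.l ⟨(nat_lit 0xc0000d), (nat_lit 0x174523e867), (nat_lit 0x374bc1c4596b63d6900806028030080601007), (nat_lit 0)⟩)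
 (.l ⟨(nat_lit 0xc0000d), (nat_lit 0x6c1e0681406815), (nat_lit 0x13d100d113c050055159570), (nat_lit 0)⟩))
 (.l ⟨(nat_lit 0xc0000d), (nat_lit 0x20068150641e), (nat_lit 0x6c281a841014015b99a), (nat_lit 0)⟩)))
 (.n (.n (.n (.l ⟨(nat_lit 0xc0000d), (nat_lit 0x6c762e00b), (nat_lit 0x145e4a905), (nat_lit 0)⟩)
 (.l ⟨(nat_lit 0xc0000d), (nat_lit 0x6c220701e07011), (nat_lit 0x302d9961c5415dd8f), (nat_lit 0)⟩))
 (.l ⟨(nat_lit 0x80000d), (nat_lit 0x1b03016), (nat_lit 0x4b4b87d48c050055f6519e), (nat_lit 0)⟩))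
 (.n (.n (.l ⟨(nat_lit 0x120000b), (nat_lit 0x596205d0e403), (nat_lit 0x198565f070), (nat_lit 0)⟩)
 (.l ⟨(nat_lit 0xc0000f), (nat_lit 0x681006c1707007), (nat_lit 0x6902c893e4050054b64957), (nat_lit 0)⟩))
 (.l ⟨(nat_lit 0xc0000d), (nat_lit 0x801a07c10), (nat_lit 0x634545242805005515b55a), (nat_lit 0)⟩))))
 (.n (.n (.n (.n (.l ⟨(nat_lit 0xc0000d), (nat_lit 0x1985910501), (nat_lit 0x61391d423), (nat_lit 0)⟩)
 (.l ⟨(nat_lit 0xc0000d), (nat_lit 0x160141607007), (nat_lit 0x1b2f51004d4167165), (nat_lit 0)⟩))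
 (.l ⟨(nat_lit 0xc0000b), (nat_lit 0x6c1806c1f07012), (nat_lit 0x1456614c0f0054b6394a), (nat_lit 0)⟩))
 (.n (.n (.l ⟨(nat_lit 0xc0000d), (nat_lit 0x1b87903011), (nat_lit 0x14d61ec87), (nat_lit 0)⟩)
 (.l ⟨(nat_lit 0x120000d), (nat_lit 0x110641307016), (nat_lit 0x1120c7f07d5366d93), (nat_lit 0)⟩))
 (.l ⟨(nat_lit 0xa0000d), (nat_lit 0x41b04c1c03c03), (nat_lit 0x546187604c050055656987), (nat_lit 0)⟩)))
 (.n (.n (.n (.l ⟨(nat_lit 0xc0000d), (nat_lit 0x1486f0e905), (nat_lit 0x19a1b012), (nat_lit 0)⟩)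
 (.l ⟨(nat_lit 0xc0000d), (nat_lit 0x100642207011), (nat_lit 0x1d4b4763ad455cd97), (nat_lit 0)⟩))
 (.l ⟨(nat_lit 0xc0000d), (nat_lit 0x1306c2207013), (nat_lit 0xdd2f071165857a), (nat_lit 0)⟩))
 (.n (.n (.l ⟨(nat_lit 0x140000b), (nat_lit 0x44534b01a), (nat_lit 0x1cb665454), (nat_lit 0)⟩)
 (.l ⟨(nat_lit 0x1400013), (nat_lit 0x84050580b), (nat_lit 0x13c1499e0354566952), (nat_lit 0)⟩))
 (.l ⟨(nat_lit 0xc0000d), (nat_lit 0x64200701107011), (nat_lit 0x4c4981d2194b5c58b), (nat_lit 0)⟩))))))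
 (.n (.n (.n (.n (.n (.n (.l ⟨(nat_lit 0xc00009), (nat_lit 0x195381f051), (nat_lit 0xc58d5a803), (nat_lit 0)⟩)
 (.l ⟨(nat_lit 0xc0000d), (nat_lit 0x641f06c16), (nat_lit 0x5f4773f0410140161d70), (nat_lit 0)⟩))
 (.n (.l ⟨(nat_lit 0x140000d), (nat_lit 0x1516417089), (nat_lit 0x18c5322505), (nat_lit 0)⟩)
 (.l ⟨(nat_lit 0xa00015), (nat_lit 0x2204403), (nat_lit 0xc96914c090140166584), (nat_lit 0)⟩)))
 (.n (.n (.l ⟨(nat_lit 0xc0000d), (nat_lit 0xa95a44824), (nat_lit 0x3d2b1e884), (nat_lit 0)⟩)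
 (.l ⟨(nat_lit 0x80000d), (nat_lit 0x160141f0141f), (nat_lit 0x411e18d4b1415e99a), (nat_lit 0)⟩))
 (.l ⟨(nat_lit 0xc0000d), (nat_lit 0x70640f07011), (nat_lit 0x151784f0394166986), (nat_lit 0)⟩)))
 (.n (.n (.n (.l ⟨(nat_lit 0xc0000d), (nat_lit 0x19d2d3e068), (nat_lit 0x90641a06d), (nat_lit 0)⟩)
 (.l ⟨(nat_lit 0xc0000d), (nat_lit 0x1d0701e07012), (nat_lit 0xa4b256810014015d580), (nat_lit 0)⟩))
 (.l ⟨(nat_lit 0xc0000b), (nat_lit 0x2c1d07012), (nat_lit 0x366828479455ed5b), (nat_lit 0)⟩))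
 (.n (.n (.l ⟨(nat_lit 0xe0000d), (nat_lit 0xc56021d33), (nat_lit 0x6646848841), (nat_lit 0)⟩)
 (.l ⟨(nat_lit 0xc0000f), (nat_lit 0x160681d01415), (nat_lit 0xb301c540140155998), (nat_lit 0)⟩))
 (.l ⟨(nat_lit 0xa0000d), (nat_lit 0x701807011), (nat_lit 0x79900c847004050055255d5a), (nat_lit 0)⟩))))
 (.n (.n (.n (.n (.l ⟨(nat_lit 0xc0000b), (nat_lit 0x1582f61093), (nat_lit 0x13c455a40d), (nat_lit 0)⟩)
 (.l ⟨(nat_lit 0xc0000d), (nat_lit 0x48200700707007), (nat_lit 0x4599e1a14d64588), (nat_lit 0)⟩))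
 (.l ⟨(nat_lit 0xc0000b), (nat_lit 0x1d0681707013), (nat_lit 0x133546c4e96d65d79), (nat_lit 0)⟩))
 (.n (.n (.l ⟨(nat_lit 0xc0000d), (nat_lit 0x178fd16c7c), (nat_lit 0x5331656e), (nat_lit 0)⟩)
 (.l ⟨(nat_lit 0xc0000d), (nat_lit 0x1406c1407014), (nat_lit 0x555799004805005655c18c), (nat_lit 0)⟩))
 (.l ⟨(nat_lit 0xc0000d), (nat_lit 0x78130141307007), (nat_lit 0xcc5049d3a0140151591), (nat_lit 0)⟩)))
 (.n (.n (.n (.l ⟨(nat_lit 0xc0000d), (nat_lit 0x1085b0896b), (nat_lit 0x5c45447168015056967007), (nat_lit 0)⟩)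
 (.l ⟨(nat_lit 0xc0000d), (nat_lit 0x70070702207010), (nat_lit 0x171171d9570140164571), (nat_lit 0)⟩))
 (.l ⟨(nat_lit 0x120000d), (nat_lit 0x801c05c0504c03), (nat_lit 0x1e2511b13d496516c), (nat_lit 0)⟩))
 (.n (.n (.l ⟨(nat_lit 0x120000f), (nat_lit 0x453e80d1d401), (nat_lit 0xf0ec55c1b), (nat_lit 0)⟩)
 (.l ⟨(nat_lit 0xc00013), (nat_lit 0xf06c1207010), (nat_lit 0x3f10c151f005005456197e), (nat_lit 0)⟩))
 (.l ⟨(nat_lit 0xc0000d), (nat_lit 0x106c1707012), (nat_lit 0x1d12d6a3d0050054d66d89), (nat_lit 0)⟩)))))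
 (.n (.n (.n (.n (.n (.l ⟨(nat_lit 0xc0000b), (nat_lit 0x2f47562418), (nat_lit 0xc208544a001), (nat_lit 0)⟩)
 (.l ⟨(nat_lit 0xc0000d), (nat_lit 0x801b0441a04403), (nat_lit 0x512c58f09c050054b54993), (nat_lit 0)⟩))
 (.n (.l ⟨(nat_lit 0xc00007), (nat_lit 0x140f06c1207007), (nat_lit 0x17e1981e040050054d62d94), (nat_lit 0)⟩)
 (.l ⟨(nat_lit 0xc00015), (nat_lit 0x16014140141e), (nat_lit 0x4d849170050054c58580), (nat_lit 0)⟩)))
 (.n (.n (.l ⟨(nat_lit 0xc0000d), (nat_lit 0xc83c16d1a), (nat_lit 0x6c6307359c01), (nat_lit 0)⟩)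
 (.l ⟨(nat_lit 0xc0000d), (nat_lit 0x120701207013), (nat_lit 0x6d1a121191536756d), (nat_lit 0)⟩))
 (.l ⟨(nat_lit 0xc0000d), (nat_lit 0x142006c16), (nat_lit 0x6d63c6504805005436019e), (nat_lit 0)⟩)))
 (.n (.n (.n (.l ⟨(nat_lit 0xc0000d), (nat_lit 0x195573fc7f), (nat_lit 0x1bc69208b3), (nat_lit 0)⟩)
 (.l ⟨(nat_lit 0xc0000d), (nat_lit 0x130681707007), (nat_lit 0x1b1245d08c05005515159e), (nat_lit 0)⟩))
 (.l ⟨(nat_lit 0x60000d), (nat_lit 23570), (nat_lit 0x1e1882117c050054c61180), (nat_lit 0)⟩))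
 (.n (.n (.l ⟨(nat_lit 0x120000d), (nat_lit 0x17c6c48917), (nat_lit 0xd49f1855f), (nat_lit 0)⟩)
 (.l ⟨(nat_lit 0xc00011), (nat_lit 0x1b0581e07007), (nat_lit 0x44b24c424014016454f), (nat_lit 0)⟩))
 (.l ⟨(nat_lit 0xc0000d), (nat_lit 0x70070641e), (nat_lit 0x68404220594758191), (nat_lit 0)⟩))))
 (.n (.n (.n (.n (.l ⟨(nat_lit 0xc0000d), (nat_lit 0x15c1a4fc78), (nat_lit 0x188433e836), (nat_lit 0)⟩)
 (.l ⟨(nat_lit 0xc0000d), (nat_lit 0x70642207007), (nat_lit 0x16d7e1b00f014016254b), (nat_lit 0)⟩))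
 (.l ⟨(nat_lit 0xc0000b), (nat_lit 0x1706c1306815), (nat_lit 0x1880143c2053171), (nat_lit 0)⟩))
 (.n (.n (.l ⟨(nat_lit 0xc0000d), (nat_lit 0x18d0921017), (nat_lit 0x421145d08c050056c58197020030140101007), (nat_lit 0)⟩)
 (.l ⟨(nat_lit 0xc0000d), (nat_lit 0xf06c1206416), (nat_lit 0x4b14174104050054956549), (nat_lit 0)⟩))
 (.l ⟨(nat_lit 0x140000d), (nat_lit 0x1e0641d06815), (nat_lit 0x321bc5a05d4161557), (nat_lit 0)⟩)))
 (.n (.n (.n (.l ⟨(nat_lit 0xc0000d), (nat_lit 0x1798e66c5a), (nat_lit 0x1906b64c6d), (nat_lit 0)⟩)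
 (.l ⟨(nat_lit 0xc0000d), (nat_lit 0x2006c1701420), (nat_lit 0x610a46b3ac050054155d47), (nat_lit 0)⟩))
 (.l ⟨(nat_lit 0xc0000d), (nat_lit 0x641506415), (nat_lit 0x5a0513916d4757960), (nat_lit 0)⟩))
 (.n (.n (.l ⟨(nat_lit 0x140000d), (nat_lit 0x4bc1c56803), (nat_lit 0x194bf4bc2a), (nat_lit 0)⟩)
 (.l ⟨(nat_lit 0xc00013), (nat_lit 0x382006c2107007), (nat_lit 0x84f94707b014015a977), (nat_lit 0)⟩))
 (.l ⟨(nat_lit 0xc0000d), (nat_lit 0x1a06c0f07007), (nat_lit 0xf4a15d14c050054a59592), (nat_lit 0)⟩)))))))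
noncomputable def T3 : Tr :=
  .n (.n (.n (.n (.n (.n (.n (.n (.l ⟨(nat_lit 0xe00005), (nat_lit 3), (nat_lit 0), (nat_lit 0)⟩)
 (.l ⟨(nat_lit 0xc0000d), (nat_lit 0x1006c1307012), (nat_lit 0x1f4dc4e48d4b6256d), (nat_lit 0)⟩))
 (.n (.l ⟨(nat_lit 0x140000d), (nat_lit 0x19058013), (nat_lit 0x3c165933899961007), (nat_lit 0)⟩)
 (.l ⟨(nat_lit 0x1400014), (nat_lit 0x741c05c1c0801a04005), (nat_lit 0), (nat_lit 0)⟩)))
 (.n (.n (.l ⟨(nat_lit 0xc0000d), (nat_lit 0x170dc54), (nat_lit 0x1147265c24), (nat_lit 0)⟩)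
 (.l ⟨(nat_lit 0xa0000d), (nat_lit 0x841d0681307011), (nat_lit 0x16d8d144880140158199), (nat_lit 0)⟩))
 (.l ⟨(nat_lit 0xa0000d), (nat_lit 0x15014110141e), (nat_lit 0x161e43a048050054563d7e), (nat_lit 0)⟩)))
 (.n (.n (.n (.l ⟨(nat_lit 0xc0000d), (nat_lit 0x5b85318c35), (nat_lit 0xc07842035), (nat_lit 0)⟩)
 (.l ⟨(nat_lit 0xe0000d), (nat_lit 0x706c1807012), (nat_lit 0x181f558139536380800c050040401d4165d6b), (nat_lit 0)⟩))
 (.l ⟨(nat_lit 0x140000b), (nat_lit 0x1806c2107013), (nat_lit 0x411444f0655562172), (nat_lit 0)⟩))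
 (.n (.n (.l ⟨(nat_lit 0xe00009), (nat_lit 0x100c15), (nat_lit 0x5055254007), (nat_lit 0)⟩)
 (.l ⟨(nat_lit 0x80000d), (nat_lit 0x68200681f07012), (nat_lit 0x5c3fc7703d435f552), (nat_lit 0)⟩))
 (.l ⟨(nat_lit 0x140000d), (nat_lit 0x641507013), (nat_lit 0x581ed0b02d4960564), (nat_lit 0)⟩))))
 (.n (.n (.n (.n (.l ⟨(nat_lit 0xc0000b), (nat_lit 0x18d6e09d3e), (nat_lit 0x133058f3), (nat_lit 0)⟩)
 (.l ⟨(nat_lit 0xc0000d), (nat_lit 0x801b04c1a03c03), (nat_lit 0xd47f2ec83014015496c), (nat_lit 0)⟩))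
 (.l ⟨(nat_lit 0xc00007), (nat_lit 0x7010064100641e), (nat_lit 0xf3d16401d4559950), (nat_lit 0)⟩))
 (.n (.n (.l ⟨(nat_lit 0xc0000d), (nat_lit 0xd4294a424), (nat_lit 0x1810830436), (nat_lit 0)⟩)
 (.l ⟨(nat_lit 0x140000d), (nat_lit 0x3c1d0642107010), (nat_lit 0x1761bc150714b6394c), (nat_lit 0)⟩))
 (.l ⟨(nat_lit 0xc0000d), (nat_lit 0x1d0141d0141d), (nat_lit 0x6666c36311495f972), (nat_lit 0)⟩)))
 (.n (.n (.n (.l ⟨(nat_lit 0xc0000d), (nat_lit 0x491b14117), (nat_lit 0xec5d14047), (nat_lit 0)⟩)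
 (.l ⟨(nat_lit 0x120000d), (nat_lit 0x170641f07014), (nat_lit 0x1b424074f35f152), (nat_lit 0)⟩))
 (.l ⟨(nat_lit 0x140000d), (nat_lit 25620), (nat_lit 0x5110464125585618b), (nat_lit 0)⟩))
 (.n (.n (.l ⟨(nat_lit 0x120000d), (nat_lit 0x1d28c15), (nat_lit 0x74c118d5c), (nat_lit 0)⟩)
 (.l ⟨(nat_lit 0xc00013), (nat_lit 0x160141407011), (nat_lit 0x641096505c05005496395c), (nat_lit 0)⟩))
 (.l ⟨(nat_lit 0xc0000d), (nat_lit 0x701d07012), (nat_lit 0x6b5713f18c050056f56989), (nat_lit 0)⟩)))))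
 (.n (.n (.n (.n (.n (.l ⟨(nat_lit 0xc00009), (nat_lit 0xf16b16c85), (nat_lit 0x8d0f5b0075056966807), (nat_lit 0)⟩)
 (.l ⟨(nat_lit 0xc0000d), (nat_lit 0x170640706c1f), (nat_lit 0x3f01470135636355a), (nat_lit 0)⟩))
 (.n (.l ⟨(nat_lit 0x1400015), (nat_lit 0xc2154807), (nat_lit 0x50571d828), (nat_lit 0)⟩)
 (.l ⟨(nat_lit 0xc00015), (nat_lit 0x80190880707007), (nat_lit 0x8217d38064050055863d6e), (nat_lit 0)⟩)))
 (.n (.n (.l ⟨(nat_lit 0xc0000d), (nat_lit 0x168831b937), (nat_lit 0x108af4e441), (nat_lit 0)⟩)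
 (.l ⟨(nat_lit 0xc0000d), (nat_lit 0x1d0702106415), (nat_lit 0x590c8824fd4557d4a), (nat_lit 0)⟩))
 (.l ⟨(nat_lit 0xc0000d), (nat_lit 0x140681407013), (nat_lit 0x641ad931b54d6196d), (nat_lit 0)⟩)))
 (.n (.n (.n (.l ⟨(nat_lit 0xc0000d), (nat_lit 0x81970fc75), (nat_lit 0x364748114c03), (nat_lit 0)⟩)
 (.l ⟨(nat_lit 0x120000d), (nat_lit 0x170701807007), (nat_lit 0x940dd7301d495f592), (nat_lit 0)⟩))
 (.l ⟨(nat_lit 0xc0000b), (nat_lit 0x681506c1d), (nat_lit 0x5e4801b0fd5566165), (nat_lit 0)⟩))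
 (.n (.n (.l ⟨(nat_lit 0xe0000d), (nat_lit 0xc1652cc1f), (nat_lit 0xd08a5f036), (nat_lit 0)⟩)
 (.l ⟨(nat_lit 0xc0000f), (nat_lit 0xf0702207013), (nat_lit 0x1f1a04d08805005545cd79), (nat_lit 0)⟩))
 (.l ⟨(nat_lit 0x140000d), (nat_lit 0x1d0681206416), (nat_lit 0x4856c67059475ad75), (nat_lit 0)⟩))))
 (.n (.n (.n (.n (.l ⟨(nat_lit 0xc0000d), (nat_lit 0x1d294dc07), (nat_lit 0x2343d6c01d4560567020030140101007), (nat_lit 0)⟩)
 (.l ⟨(nat_lit 0xc0000d), (nat_lit 0x160682207011), (nat_lit 0x163400540c405005415456c), (nat_lit 0)⟩))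
 (.l ⟨(nat_lit 0xc0000b), (nat_lit 0x150681106816), (nat_lit 0x5620827441496719c), (nat_lit 0)⟩))
 (.n (.n (.l ⟨(nat_lit 0xc0000d), (nat_lit 0xa5970a061), (nat_lit 0x3d5117c44), (nat_lit 0)⟩)
 (.l ⟨(nat_lit 0xc0000d), (nat_lit 0x481506c0f07007), (nat_lit 0x154484c05c050054c59949), (nat_lit 0)⟩))
 (.l ⟨(nat_lit 0xc0000d), (nat_lit 0x881607007), (nat_lit 0x164604140f5ed68), (nat_lit 0)⟩)))
 (.n (.n (.n (.l ⟨(nat_lit 0xc0000d), (nat_lit 0x12c505d041), (nat_lit 0x911c0793c), (nat_lit 0)⟩)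
 (.l ⟨(nat_lit 0x140000d), (nat_lit 0x1806c2201415), (nat_lit 0xd8555ac2f53555), (nat_lit 0)⟩))
 (.l ⟨(nat_lit 0xc0000d), (nat_lit 0x701d0680706416), (nat_lit 0x575e56c1114752d8b01d516557f), (nat_lit 0)⟩))
 (.n (.n (.l ⟨(nat_lit 0x1200013), (nat_lit 0x8c721695f), (nat_lit 0x62024593f94a59563020030140101007), (nat_lit 0)⟩)
 (.l ⟨(nat_lit 0xc00013), (nat_lit 0x1c0741a04403), (nat_lit 0x10e21930070050056b62181), (nat_lit 0)⟩))
 (.l ⟨(nat_lit 0xa0000d), (nat_lit 0x1d0681e07007), (nat_lit 0x1f1886f15405005436297a), (nat_lit 0)⟩))))))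
 (.n (.n (.n (.n (.n (.n (.l ⟨(nat_lit 0xa0000b), (nat_lit 0x3fd9c1480f), (nat_lit 0x174c163c27), (nat_lit 0)⟩)
 (.l ⟨(nat_lit 0xc0000d), (nat_lit 0x1b0741207007), (nat_lit 0x104f34b47f569586200800c050040401d5165990), (nat_lit 0)⟩))
 (.n (.l ⟨(nat_lit 0x140000d), (nat_lit 0x5c7b3ac86), (nat_lit 0x1692a4006e), (nat_lit 0)⟩)
 (.l ⟨(nat_lit 0xa00015), (nat_lit 0x64170641707007), (nat_lit 0x2815d640cc05005586599a), (nat_lit 0)⟩)))
 (.n (.n (.l ⟨(nat_lit 0xc0000d), (nat_lit 0x1508242419), (nat_lit 0x1bd3121549), (nat_lit 0)⟩)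
 (.l ⟨(nat_lit 0xc0000d), (nat_lit 0x100642107010), (nat_lit 0x455f86b4dd6c67599), (nat_lit 0)⟩))
 (.l ⟨(nat_lit 0xc0000d), (nat_lit 0x130701206415), (nat_lit 0x4f1a06e048050054764547), (nat_lit 0)⟩)))
 (.n (.n (.n (.l ⟨(nat_lit 0xc0000d), (nat_lit 0x16d6858c37), (nat_lit 0x201295ec09), (nat_lit 0)⟩)
 (.l ⟨(nat_lit 0x120000d), (nat_lit 0x14220681f07017), (nat_lit 0x50250821315f5a80800c050040401d4d5cd87), (nat_lit 0)⟩))
 (.l ⟨(nat_lit 0xc0000b), (nat_lit 0x1d06c1d), (nat_lit 0x68841656959d63), (nat_lit 0)⟩))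
 (.n (.n (.l ⟨(nat_lit 0xe0000d), (nat_lit 0x743554803), (nat_lit 0x4344158c24), (nat_lit 0)⟩)
 (.l ⟨(nat_lit 0x120000d), (nat_lit 0x88220640707007), (nat_lit 0x1194af1dd4154574), (nat_lit 0)⟩))
 (.l ⟨(nat_lit 0xc0000d), (nat_lit 0x1f06c2206815), (nat_lit 0x481ace20595263d8d), (nat_lit 0)⟩))))
 (.n (.n (.n (.n (.l ⟨(nat_lit 0xc0000b), (nat_lit 0x18c4d14493), (nat_lit 0x40c41e45d), (nat_lit 0)⟩)
 (.l ⟨(nat_lit 0xc0000d), (nat_lit 0x68160641d), (nat_lit 0x6b5a429578050054363597), (nat_lit 0)⟩))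
 (.l ⟨(nat_lit 0xa0000a), (nat_lit 0x1d014150801b0481c0401c), (nat_lit 0), (nat_lit 0)⟩))
 (.n (.n (.l ⟨(nat_lit 0xc0000d), (nat_lit 0x1a91c0d011), (nat_lit 0x191078750a14c60d9e00806028030080601007), (nat_lit 0)⟩)
 (.l ⟨(nat_lit 0xe0000d), (nat_lit 0x1706c0701416), (nat_lit 0x3902d641c54758d5a), (nat_lit 0)⟩))
 (.l ⟨(nat_lit 0xe0000d), (nat_lit 0xc06c1607007), (nat_lit 0x154dd841e14d62d93), (nat_lit 0)⟩)))
 (.n (.n (.n (.l ⟨(nat_lit 0xc0000d), (nat_lit 0x5d081f908), (nat_lit 0x1908912c72), (nat_lit 0)⟩)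
 (.l ⟨(nat_lit 0xc0000d), (nat_lit 0x1c1b0481c04c03), (nat_lit 0x65478300e805005576354c), (nat_lit 0)⟩))
 (.l ⟨(nat_lit 0xa0000d), (nat_lit 0x1806c1d), (nat_lit 0x5802212c050054d62d59), (nat_lit 0)⟩))
 (.n (.n (.l ⟨(nat_lit 0x120000d), (nat_lit 0xfd7f1f999), (nat_lit 0x1885c2e11e), (nat_lit 0)⟩)
 (.l ⟨(nat_lit 0xc00013), (nat_lit 0x301f0680707007), (nat_lit 0x58218470dc050054c5a18b), (nat_lit 0)⟩))
 (.l ⟨(nat_lit 0xc0000d), (nat_lit 0x2206c1201415), (nat_lit 0x5948566421014015319e), (nat_lit 0)⟩)))))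
 (.n (.n (.n (.n (.n (.l ⟨(nat_lit 0xc0000b), (nat_lit 0x1006f6646f), (nat_lit 0x194b513c1c), (nat_lit 0)⟩)
 (.l ⟨(nat_lit 0xa0000d), (nat_lit 0x106c2206c1f), (nat_lit 0x212f1370c0050054d66189), (nat_lit 0)⟩))
 (.n (.l ⟨(nat_lit 0x600007), (nat_lit 0x130681e07013), (nat_lit 0x841063c1164545), (nat_lit 0)⟩)
 (.l ⟨(nat_lit 0xc00015), (nat_lit 0x1d0701f0681e), (nat_lit 0x5d20d5921c050054564d98), (nat_lit 0)⟩)))
 (.n (.n (.l ⟨(nat_lit 0xc0000d), (nat_lit 0x1982015021), (nat_lit 0x1740c62827), (nat_lit 0)⟩)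
 (.l ⟨(nat_lit 0x120000d), (nat_lit 0x150141f07011), (nat_lit 0x44bf21c5751d716180800c050040401d4157571), (nat_lit 0)⟩))
 (.l ⟨(nat_lit 0xa0000d), (nat_lit 0x180641307012), (nat_lit 0x15cb422061014016457a), (nat_lit 0)⟩)))
 (.n (.n (.n (.l ⟨(nat_lit 0xc0000d), (nat_lit 0x90fb10824), (nat_lit 0x34775f44d), (nat_lit 0)⟩)
 (.l ⟨(nat_lit 0xe0000d), (nat_lit 0x22014070701e), (nat_lit 0x4d41d3e0d5955400800c050040401d515b984), (nat_lit 0)⟩))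
 (.l ⟨(nat_lit 0xc0000d), (nat_lit 17411), (nat_lit 0x862848202d5e66578), (nat_lit 0)⟩))
 (.n (.n (.l ⟨(nat_lit 0x120000d), (nat_lit 0x517728407), (nat_lit 0x1bd1618489), (nat_lit 0)⟩)
 (.l ⟨(nat_lit 0xc0000f), (nat_lit 0x140141607011), (nat_lit 0x421512607c05005585e94c), (nat_lit 0)⟩))
 (.l ⟨(nat_lit 0xc0000d), (nat_lit 0x400e07011), (nat_lit 0x17200af10c050055a51589), (nat_lit 0)⟩))))
 (.n (.n (.n (.n (.l ⟨(nat_lit 0xc0000d), (nat_lit 0x1ac3b60850), (nat_lit 0x1b1514f016), (nat_lit 0)⟩)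
 (.l ⟨(nat_lit 0xc0000d), (nat_lit 0x641706c2107007), (nat_lit 0x641f53a21c05005585518c), (nat_lit 0)⟩))
 (.l ⟨(nat_lit 0xa0000b), (nat_lit 0x1d06c1007011), (nat_lit 0x430656b01d415ad75), (nat_lit 0)⟩))
 (.n (.n (.l ⟨(nat_lit 0xc0000d), (nat_lit 0x718b4906b), (nat_lit 0x1443616598), (nat_lit 0)⟩)
 (.l ⟨(nat_lit 0xc0000d), (nat_lit 0x70170701207007), (nat_lit 0x1b0b517089005415c160), (nat_lit 0)⟩))
 (.l ⟨(nat_lit 0xc0000d), (nat_lit 0x4c1b0740c), (nat_lit 0x51c1655615959572), (nat_lit 0)⟩)))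
 (.n (.n (.n (.l ⟨(nat_lit 0xc0000d), (nat_lit 0x24415940c), (nat_lit 0x491562868), (nat_lit 0)⟩)
 (.l ⟨(nat_lit 0xc0000d), (nat_lit 0xf0681107010), (nat_lit 0x56628300c405005475a175), (nat_lit 0)⟩))
 (.l ⟨(nat_lit 0xc0000d), (nat_lit 0x1b03c1f07012), (nat_lit 0x1d2141243005005515ad77), (nat_lit 0)⟩))
 (.n (.n (.l ⟨(nat_lit 0x140000b), (nat_lit 0x564271a04b), (nat_lit 0x2d182201d), (nat_lit 0)⟩)
 (.l ⟨(nat_lit 0xc00013), (nat_lit 0x14210641f07011), (nat_lit 0x402d44e06805005515dd86), (nat_lit 0)⟩))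
 (.l ⟨(nat_lit 0xc0000d), (nat_lit 0x881107013), (nat_lit 0x460445e4400140162d4a), (nat_lit 0)⟩)))))))
 (.n (.n (.n (.n (.n (.n (.n (.l ⟨(nat_lit 0x600005), (nat_lit 0x3f0a054), (nat_lit 0xd363d00f), (nat_lit 0)⟩)
 (.l ⟨(nat_lit 0xc0000d), (nat_lit 0x141706c2207010), (nat_lit 0x1344f148b156967), (nat_lit 0)⟩))
 (.n (.l ⟨(nat_lit 0x140000d), (nat_lit 0x1c191d868), (nat_lit 0x1584f18c78), (nat_lit 0)⟩)
 (.l ⟨(nat_lit 0xc00015), (nat_lit 0x64140141f), (nat_lit 0x709c5400405005555b159), (nat_lit 0)⟩)))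
 (.n (.n (.l ⟨(nat_lit 0xc0000d), (nat_lit 0xc85e54886), (nat_lit 0x845060501), (nat_lit 0)⟩)
 (.l ⟨(nat_lit 0xc0000d), (nat_lit 0x70070641707007), (nat_lit 0x1d2886f038050054354594), (nat_lit 0)⟩))
 (.l ⟨(nat_lit 0xc0000d), (nat_lit 0x106c1407007), (nat_lit 0x555e11a0c5415dd6e), (nat_lit 0)⟩)))
 (.n (.n (.n (.l ⟨(nat_lit 0xc0000d), (nat_lit 0x513d08c1d), (nat_lit 0x1684247c2f), (nat_lit 0)⟩)
 (.l ⟨(nat_lit 0xc0000d), (nat_lit 0x140141d0641d), (nat_lit 0x471d0823c8050054d67183), (nat_lit 0)⟩))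
 (.l ⟨(nat_lit 0xc0000b), (nat_lit 0x641306c1201415), (nat_lit 0x1a4a10c06c0154b67161), (nat_lit 0)⟩))
 (.n (.n (.l ⟨(nat_lit 0xe0000d), (nat_lit 0xe63817), (nat_lit 0x1845547c3a), (nat_lit 0)⟩)
 (.l ⟨(nat_lit 0xc0000d), (nat_lit 0x15064150141e), (nat_lit 0x153cc7115c05005516616e), (nat_lit 0)⟩))
 (.l ⟨(nat_lit 0x140000d), (nat_lit 0x50541a04803), (nat_lit 0x19101188bf51d9c), (nat_lit 0)⟩))))
 (.n (.n (.n (.n (.l ⟨(nat_lit 0xc0000b), (nat_lit 0x5d0709cbc), (nat_lit 0x6c7561875), (nat_lit 0)⟩)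
 (.l ⟨(nat_lit 0xc0000d), (nat_lit 0x6c0f06c1f07011), (nat_lit 0x636407d3ec050056057577), (nat_lit 0)⟩))
 (.l ⟨(nat_lit 0xe00009), (nat_lit 0x681507012), (nat_lit 0x3650212ed5959154), (nat_lit 0)⟩))
 (.n (.n (.l ⟨(nat_lit 0xc0000d), (nat_lit 0x1b86409c3a), (nat_lit 0x1452030879), (nat_lit 0)⟩)
 (.l ⟨(nat_lit 0x120000d), (nat_lit 0x18070100641d), (nat_lit 0x302bc4d1c95d64576), (nat_lit 0)⟩))
 (.l ⟨(nat_lit 0x140000d), (nat_lit 0x1d0701d01416), (nat_lit 0xd06243009569865580800c050040401d595d593), (nat_lit 0)⟩)))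
 (.n (.n (.n (.l ⟨(nat_lit 0xc0000d), (nat_lit 0x198b40784d), (nat_lit 0x159550a423), (nat_lit 0)⟩)
 (.l ⟨(nat_lit 0xc0000d), (nat_lit 0x200701106815), (nat_lit 0x124d8191e0050055f6497f), (nat_lit 0)⟩))
 (.l ⟨(nat_lit 0x120000d), (nat_lit 26654), (nat_lit 0x1281007907d4d5618f), (nat_lit 0)⟩))
 (.n (.n (.l ⟨(nat_lit 0x120000d), (nat_lit 0x1c7d4d862), (nat_lit 0x451115c79), (nat_lit 0)⟩)
 (.l ⟨(nat_lit 0xc00013), (nat_lit 0x70701306c1e), (nat_lit 0xf72ec3a0140166d5d), (nat_lit 0)⟩))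
 (.l ⟨(nat_lit 0xc0000d), (nat_lit 0x1c1e07011), (nat_lit 0x373fc720dd435294f), (nat_lit 0)⟩)))))
 (.n (.n (.n (.n (.n (.l ⟨(nat_lit 0xc0000b), (nat_lit 0x34834b4af), (nat_lit 0x21d7911024), (nat_lit 0)⟩)
 (.l ⟨(nat_lit 0xc0000d), (nat_lit 0x68070701d), (nat_lit 0x10221579068050055366973), (nat_lit 0)⟩))
 (.n (.l ⟨(nat_lit 0x600005), (nat_lit 0x1a0840504c03), (nat_lit 0xa45a430585c967), (nat_lit 0)⟩)
 (.l ⟨(nat_lit 0xa00015), (nat_lit 0x440f06815), (nat_lit 0x1740410014050055252577), (nat_lit 0)⟩)))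
 (.n (.n (.l ⟨(nat_lit 0xc0000d), (nat_lit 0xd98912c09), (nat_lit 0xe8816200e), (nat_lit 0)⟩)
 (.l ⟨(nat_lit 0xa0000d), (nat_lit 0x200680f01420), (nat_lit 0x342885f024050056354561), (nat_lit 0)⟩))
 (.l ⟨(nat_lit 0xc0000d), (nat_lit 0x1f06420), (nat_lit 0x12d13c4e048050055559569), (nat_lit 0)⟩)))
 (.n (.n (.n (.l ⟨(nat_lit 0xc0000d), (nat_lit 0x1811534c11), (nat_lit 0x291b908), (nat_lit 0)⟩)
 (.l ⟨(nat_lit 0xc0000d), (nat_lit 0x220681506c1d), (nat_lit 0x593dc6a1d005005416619d), (nat_lit 0)⟩))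
 (.l ⟨(nat_lit 0x60000b), (nat_lit 0x14110141e), (nat_lit 0x293f11e084050054753d8d), (nat_lit 0)⟩))
 (.n (.n (.l ⟨(nat_lit 0x1200007), (nat_lit 0x1887b16059), (nat_lit 0x558b1c879), (nat_lit 0)⟩)
 (.l ⟨(nat_lit 0xc0000f), (nat_lit 0x640f06c1407012), (nat_lit 0x1b3c85f064050054956575), (nat_lit 0)⟩))
 (.l ⟨(nat_lit 0xc0000d), (nat_lit 0x1706c140701e), (nat_lit 0x8d960a06b5b98260c020180a00c020180401d5161d71), (nat_lit 0)⟩))))
 (.n (.n (.n (.n (.l ⟨(nat_lit 0xc0000d), (nat_lit 0x2c0f61c10), (nat_lit 0x1747115983), (nat_lit 0)⟩)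
 (.l ⟨(nat_lit 0xa0000d), (nat_lit 0x1406c1706415), (nat_lit 0x1201dc190c405005476496b), (nat_lit 0)⟩))
 (.l ⟨(nat_lit 0xc0000b), (nat_lit 0x2c1d0680707011), (nat_lit 0x581819020d6662d8e), (nat_lit 0)⟩))
 (.n (.n (.l ⟨(nat_lit 0xc0000d), (nat_lit 0xa4f91e416), (nat_lit 0xd16b34c5d), (nat_lit 0)⟩)
 (.l ⟨(nat_lit 0xa0000d), (nat_lit 0x180141107013), (nat_lit 0x122466068050054359594), (nat_lit 0)⟩))
 (.l ⟨(nat_lit 0x140000d), (nat_lit 0x380106c1f07007), (nat_lit 0x2064078629475557e), (nat_lit 0)⟩)))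
 (.n (.n (.n (.l ⟨(nat_lit 0xc0000d), (nat_lit 0x1bc7914021), (nat_lit 0x1687666809), (nat_lit 0)⟩)
 (.l ⟨(nat_lit 0xc0000d), (nat_lit 0x150682006420), (nat_lit 0x135ed8705c050055854975), (nat_lit 0)⟩))
 (.l ⟨(nat_lit 0xc0000d), (nat_lit 0x64220681f07010), (nat_lit 0x1514d8e0d805005795f160), (nat_lit 0)⟩))
 (.n (.n (.l ⟨(nat_lit 0x140000b), (nat_lit 35893), (nat_lit 0x134f22286b), (nat_lit 0)⟩)
 (.l ⟨(nat_lit 0xc00013), (nat_lit 0x70160141e), (nat_lit 0x18821d8206c050055759985), (nat_lit 0)⟩))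
 (.l ⟨(nat_lit 0xc0000d), (nat_lit 0x210702007011), (nat_lit 0x3465c701454b59972), (nat_lit 0)⟩))))))
 (.n (.n (.n (.n (.n (.n (.l ⟨(nat_lit 0xc00007), (nat_lit 0x135fc7e14001), (nat_lit 0x1b4eb1644d), (nat_lit 0)⟩)
 (.l ⟨(nat_lit 0xc0000d), (nat_lit 0x200141707014), (nat_lit 0x5157c0c0a805005516298f), (nat_lit 0)⟩))
 (.n (.l ⟨(nat_lit 0x140000d), (nat_lit 0x5a21cc31a001), (nat_lit 0x354613b027), (nat_lit 0)⟩)
 (.l ⟨(nat_lit 0xc00015), (nat_lit 0x1e0141306c21), (nat_lit 0x6219d7d20c050055161554), (nat_lit 0)⟩)))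
 (.n (.n (.l ⟨(nat_lit 0xc0000d), (nat_lit 0x1a11158c6c), (nat_lit 0x27211360c15b65d7900806028030080601007), (nat_lit 0)⟩)
 (.l ⟨(nat_lit 0xc0000d), (nat_lit 0x140641607011), (nat_lit 0x621801a3d0050055763972), (nat_lit 0)⟩))
 (.l ⟨(nat_lit 0xa0000d), (nat_lit 0x6c1307016), (nat_lit 0x1998911067014015f15f), (nat_lit 0)⟩)))
 (.n (.n (.n (.l ⟨(nat_lit 0xc0000d), (nat_lit 0x16c185ec0f), (nat_lit 0x1b80945876), (nat_lit 0)⟩)
 (.l ⟨(nat_lit 0xc0000d), (nat_lit 0x160681107007), (nat_lit 0x5215d1d1e54f6496a), (nat_lit 0)⟩))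
 (.l ⟨(nat_lit 0xc0000b), (nat_lit 0x200681807013), (nat_lit 0x4cc163cd4163563), (nat_lit 0)⟩))
 (.n (.n (.l ⟨(nat_lit 0xe0000d), (nat_lit 0x8c630a16e), (nat_lit 0x15c6b2f520), (nat_lit 0)⟩)
 (.l ⟨(nat_lit 0xc0000f), (nat_lit 0x1806820), (nat_lit 0x711d20c6d004050054f64d6e), (nat_lit 0)⟩))
 (.l ⟨(nat_lit 0xa0000d), (nat_lit 0x881507010), (nat_lit 0x3003c8100c050055261981), (nat_lit 0)⟩))))
 (.n (.n (.n (.n (.l ⟨(nat_lit 0xc0000b), (nat_lit 0x7a52566), (nat_lit 0x515985303c01), (nat_lit 0)⟩)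
 (.l ⟨(nat_lit 0xc0000d), (nat_lit 0x701706c1d), (nat_lit 0x690cd7a635505956b), (nat_lit 0)⟩))
 (.l ⟨(nat_lit 0x140000b), (nat_lit 33795), (nat_lit 0x134f22286b50550), (nat_lit 0)⟩))
 (.n (.n (.l ⟨(nat_lit 0xc0000d), (nat_lit 0x78f443460), (nat_lit 0x1701f19908), (nat_lit 0)⟩)
 (.l ⟨(nat_lit 0xc0000d), (nat_lit 0x1406c1406c1f), (nat_lit 0x1f5286904005005495797d), (nat_lit 0)⟩))
 (.l ⟨(nat_lit 0xc0000d), (nat_lit 0x681106415), (nat_lit 0x202191220d5958d98), (nat_lit 0)⟩)))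
 (.n (.n (.n (.l ⟨(nat_lit 0xc0000d), (nat_lit 0xc4e14d06), (nat_lit 0x1a46448115), (nat_lit 0)⟩)
 (.l ⟨(nat_lit 0xc0000d), (nat_lit 0x160141f07011), (nat_lit 0x6a06c68224050054a62d7f), (nat_lit 0)⟩))
 (.l ⟨(nat_lit 0xc0000d), (nat_lit 0x1307007), (nat_lit 0x6345819c345cd65), (nat_lit 0)⟩))
 (.n (.n (.l ⟨(nat_lit 0x120000d), (nat_lit 0x7c725d83b), (nat_lit 0x161845b81b), (nat_lit 0)⟩)
 (.l ⟨(nat_lit 0x1000013), (nat_lit 0x1b0481d), (nat_lit 0x9303c050056c62550), (nat_lit 0)⟩))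
 (.l ⟨(nat_lit 0xc0000d), (nat_lit 0x2106c180641d), (nat_lit 0x16e14c630d405005595c95f01d4964581), (nat_lit 0)⟩)))))
 (.n (.n (.n (.n (.n (.l ⟨(nat_lit 0xc0000b), (nat_lit 0x194530302a), (nat_lit 0x361307e0a401), (nat_lit 0)⟩)
 (.l ⟨(nat_lit 0xc0000d), (nat_lit 0x1b0541a04803), (nat_lit 0x16c07474360140160975), (nat_lit 0)⟩))
 (.n (.l ⟨(nat_lit 0xc00007), (nat_lit 0x70100682007010), (nat_lit 0x591a82103c05005415a59e), (nat_lit 0)⟩)
 (.l ⟨(nat_lit 0x1200015), (nat_lit 0x210140f07013), (nat_lit 0x6a1fcf216401014015bd7b), (nat_lit 0)⟩)))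
 (.n (.n (.l ⟨(nat_lit 0x60000d), (nat_lit 0xd1364fc7e), (nat_lit 0x1110c5cc58), (nat_lit 0)⟩)
 (.l ⟨(nat_lit 0xa0000d), (nat_lit 0x220701806816), (nat_lit 0xb22579474050054160980), (nat_lit 0)⟩))
 (.l ⟨(nat_lit 0xc0000d), (nat_lit 0xd06c1107010), (nat_lit 0x646e20c2a6396c), (nat_lit 0)⟩)))
 (.n (.n (.n (.l ⟨(nat_lit 0xc0000d), (nat_lit 0x4691c1d014), (nat_lit 0x1a8d63e81d), (nat_lit 0)⟩)
 (.l ⟨(nat_lit 0xc0000d), (nat_lit 0x1106c1307017), (nat_lit 0x104eb084016397f), (nat_lit 0)⟩))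
 (.l ⟨(nat_lit 0xc0000d), (nat_lit 0x1506816), (nat_lit 0x220ec73309505b152), (nat_lit 0)⟩))
 (.n (.n (.l ⟨(nat_lit 0x120000d), (nat_lit 0x1700c1d022), (nat_lit 0x486e1ed5a), (nat_lit 0)⟩)
 (.l ⟨(nat_lit 0xa0000f), (nat_lit 0x70130681207013), (nat_lit 0x325d0745ec05005496518c), (nat_lit 0)⟩))
 (.l ⟨(nat_lit 0xc0000d), (nat_lit 0x106c100141e), (nat_lit 0x10d95130640140151569), (nat_lit 0)⟩))))
 (.n (.n (.n (.n (.l ⟨(nat_lit 0xc0000d), (nat_lit 0x544520d3f), (nat_lit 0xe81b18d6e), (nat_lit 0)⟩)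
 (.l ⟨(nat_lit 0xc0000d), (nat_lit 0x2206c1f07007), (nat_lit 0xb41f4050e5455a588), (nat_lit 0)⟩))
 (.l ⟨(nat_lit 0xc0000b), (nat_lit 0x200701d), (nat_lit 0x713d0dd7e0056967950), (nat_lit 0)⟩))
 (.n (.n (.l ⟨(nat_lit 0xc0000d), (nat_lit 0x3d2857453), (nat_lit 0x5c271c812014015159b5e407), (nat_lit 0)⟩)
 (.l ⟨(nat_lit 0xc0000d), (nat_lit 0x100641606815), (nat_lit 0x1b8b31800952d6a), (nat_lit 0)⟩))
 (.l ⟨(nat_lit 0xc0000d), (nat_lit 0x681d06c2207007), (nat_lit 0x6121c36418010140150d595d8020180a00c020180401d5d55186), (nat_lit 0)⟩)))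
 (.n (.n (.n (.l ⟨(nat_lit 0xc0000d), (nat_lit 0xd51821095), (nat_lit 0x685722900), (nat_lit 0)⟩)
 (.l ⟨(nat_lit 0xe0000d), (nat_lit 0x702106c0f07010), (nat_lit 0x1b52f16d345e99d), (nat_lit 0)⟩))
 (.l ⟨(nat_lit 0xc0000d), (nat_lit 0x1b0440707007), (nat_lit 0x130209651414959153), (nat_lit 0)⟩))
 (.n (.n (.l ⟨(nat_lit 0x140000d), (nat_lit 0x904815003), (nat_lit 0x120554b012), (nat_lit 0)⟩)
 (.l ⟨(nat_lit 0xc00013), (nat_lit 0x681207012), (nat_lit 0x18846880138050056d52980), (nat_lit 0)⟩))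
 (.l ⟨(nat_lit 0xc0000d), (nat_lit 0x106c130141f), (nat_lit 0x416146c064050054564d6f), (nat_lit 0)⟩)))))))
noncomputable def T4 : Tr :=
  .n (.n (.n (.n (.n (.n (.n (.n (.l ⟨(nat_lit 0x400005), (nat_lit 0x10140b), (nat_lit 0x114b6554050058c540020180c), (nat_lit 0)⟩)
 (.l ⟨(nat_lit 0xc0000d), (nat_lit 0x5c2101416), (nat_lit 0x211b03406c050054562177), (nat_lit 0)⟩))
 (.n (.l ⟨(nat_lit 0x140000d), (nat_lit 0x1848456052), (nat_lit 0x1915a1c0a1), (nat_lit 0)⟩)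
 (.l ⟨(nat_lit 0xe00015), (nat_lit 0x68200141107007), (nat_lit 0x48b30d805005455dd68), (nat_lit 0)⟩)))
 (.n (.n (.l ⟨(nat_lit 0xc0000d), (nat_lit 0x58c316805), (nat_lit 0x1685d4b0355316b65007), (nat_lit 0)⟩)
 (.l ⟨(nat_lit 0x120000d), (nat_lit 0x220681106416), (nat_lit 0x6b2096608d4a5c58d), (nat_lit 0)⟩))
 (.l ⟨(nat_lit 0xc0000d), (nat_lit 0x2c200141607007), (nat_lit 0x290644e1c54754192), (nat_lit 0)⟩)))
 (.n (.n (.n (.l ⟨(nat_lit 0xc0000d), (nat_lit 0xed221f424), (nat_lit 0x1206c0a0b657d576380201808), (nat_lit 0)⟩)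
 (.l ⟨(nat_lit 0xe0000d), (nat_lit 0x140641107014), (nat_lit 0x1b15a0442a5e95d), (nat_lit 0)⟩))
 (.l ⟨(nat_lit 0xc0000b), (nat_lit 0x701001415), (nat_lit 0x4d3b05c5e5c967), (nat_lit 0)⟩))
 (.n (.n (.l ⟨(nat_lit 0xe0000b), (nat_lit 0x3b1844d1b001), (nat_lit 0x15d1208537), (nat_lit 0)⟩)
 (.l ⟨(nat_lit 0x120000d), (nat_lit 0x341f0681007007), (nat_lit 0x5d408311996a5f972), (nat_lit 0)⟩))
 (.l ⟨(nat_lit 0xc0000d), (nat_lit 0x5c1b0780c), (nat_lit 0x6a1d0714594163979), (nat_lit 0)⟩))))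
 (.n (.n (.n (.n (.l ⟨(nat_lit 0xc0000b), (nat_lit 0xa92e56810), (nat_lit 0x1547761848), (nat_lit 0)⟩)
 (.l ⟨(nat_lit 0xc0000d), (nat_lit 0x681206c1d), (nat_lit 0x6b04d21444050054364998), (nat_lit 0)⟩))
 (.l ⟨(nat_lit 0xc00009), (nat_lit 0x141006c2207007), (nat_lit 0x64598280a1475a190), (nat_lit 0)⟩))
 (.n (.n (.l ⟨(nat_lit 0xc0000d), (nat_lit 0x1850c0fc1e), (nat_lit 0x134675d04b), (nat_lit 0)⟩)
 (.l ⟨(nat_lit 0xc0000d), (nat_lit 0x170641606815), (nat_lit 0x2f60050600050054f66d73), (nat_lit 0)⟩))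
 (.l ⟨(nat_lit 0xc0000d), (nat_lit 0x140642207007), (nat_lit 0x700bc760d15c6656e), (nat_lit 0)⟩)))
 (.n (.n (.n (.l ⟨(nat_lit 0xc0000d), (nat_lit 0x1c5e41821), (nat_lit 0x415221882351d5867007), (nat_lit 0)⟩)
 (.l ⟨(nat_lit 0xc0000d), (nat_lit 0x100701d07007), (nat_lit 0x3713882035435d964), (nat_lit 0)⟩))
 (.l ⟨(nat_lit 0xa0000d), (nat_lit 0x160140f07013), (nat_lit 0x713e05401014015bd83), (nat_lit 0)⟩))
 (.n (.n (.l ⟨(nat_lit 0x120000d), (nat_lit 0x6c501a464), (nat_lit 0x789446c4f), (nat_lit 0)⟩)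
 (.l ⟨(nat_lit 0xa00013), (nat_lit 0x170701406816), (nat_lit 0x596205d0e4030140163159), (nat_lit 0)⟩))
 (.l ⟨(nat_lit 0x140000d), (nat_lit 0x1e0642207013), (nat_lit 0x4c4ac6e0c15267584), (nat_lit 0)⟩)))))
 (.n (.n (.n (.n (.n (.l ⟨(nat_lit 0xc0000b), (nat_lit 0x4825c52), (nat_lit 0x1206c0a0b6), (nat_lit 0)⟩)
 (.l ⟨(nat_lit 0x120000d), (nat_lit 0x6c1406815), (nat_lit 0x224b07a1ed505e977), (nat_lit 0)⟩))
 (.n (.l ⟨(nat_lit 0x600003), (nat_lit 0x1c1b07407), (nat_lit 0x3143c411fd72), (nat_lit 0)⟩)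
 (.l ⟨(nat_lit 0xc00015), (nat_lit 0x1406c1707007), (nat_lit 0x1757d3901c050055257179), (nat_lit 0)⟩)))
 (.n (.n (.l ⟨(nat_lit 0xc0000d), (nat_lit 0x1097746432), (nat_lit 0x12582101835c984020030140101007), (nat_lit 0)⟩)
 (.l ⟨(nat_lit 0xc0000d), (nat_lit 0x1406c100641d), (nat_lit 0x5c5000b210050057661d71), (nat_lit 0)⟩))
 (.l ⟨(nat_lit 0xc0000d), (nat_lit 0xf06820), (nat_lit 0x4e1e1761894366578), (nat_lit 0)⟩)))
 (.n (.n (.n (.l ⟨(nat_lit 0xc0000d), (nat_lit 0x54fd4d007), (nat_lit 0x6f21d221e401), (nat_lit 0)⟩)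
 (.l ⟨(nat_lit 0xc0000d), (nat_lit 0x781c0840501c03), (nat_lit 0x16c169580c405005415c597), (nat_lit 0)⟩))
 (.l ⟨(nat_lit 0xc0000b), (nat_lit 0x1306c200641f), (nat_lit 0x631f1403b14d63d7b), (nat_lit 0)⟩))
 (.n (.n (.l ⟨(nat_lit 0x100000d), (nat_lit 0xa0fd0dc16), (nat_lit 0x693e47c07), (nat_lit 0)⟩)
 (.l ⟨(nat_lit 0xc0000f), (nat_lit 0x44200702107007), (nat_lit 0x590246f5a8050054764d50), (nat_lit 0)⟩))
 (.l ⟨(nat_lit 0xa0000d), (nat_lit 0x701f07010), (nat_lit 0x818f0451c0140163d81), (nat_lit 0)⟩))))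
 (.n (.n (.n (.n (.l ⟨(nat_lit 0xc0000d), (nat_lit 0x5d593e410), (nat_lit 0x194219b16c01), (nat_lit 0)⟩)
 (.l ⟨(nat_lit 0xc0000d), (nat_lit 0x160640f07013), (nat_lit 0xd91d2045300d435d982), (nat_lit 0)⟩))
 (.l ⟨(nat_lit 0xa0000b), (nat_lit 20500), (nat_lit 0xa5115680b59182), (nat_lit 0)⟩))
 (.n (.n (.l ⟨(nat_lit 0xc0000d), (nat_lit 0x500353cc1d), (nat_lit 0x10d7f0552a), (nat_lit 0)⟩)
 (.l ⟨(nat_lit 0xc0000d), (nat_lit 0x1e0642107014), (nat_lit 0x1b18d8d3c803014016159d), (nat_lit 0)⟩))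
 (.l ⟨(nat_lit 0xc0000d), (nat_lit 0x701306c21), (nat_lit 0x1b5ec874014964595), (nat_lit 0)⟩)))
 (.n (.n (.n (.l ⟨(nat_lit 0xc0000d), (nat_lit 0x812a08011), (nat_lit 0x2bc711804d), (nat_lit 0)⟩)
 (.l ⟨(nat_lit 0xc0000d), (nat_lit 0x160641001415), (nat_lit 0x23654300054c5fd59), (nat_lit 0)⟩))
 (.l ⟨(nat_lit 0xc0000d), (nat_lit 0x1f06c100681d), (nat_lit 0xd4f95b8070140166d57), (nat_lit 0)⟩))
 (.n (.n (.l ⟨(nat_lit 0x1400014), (nat_lit 0x17d0f4a81b), (nat_lit 0), (nat_lit 0)⟩)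
 (.l ⟨(nat_lit 0xc00013), (nat_lit 0x200141e07011), (nat_lit 0x1b1e56a3fc050056f65d81), (nat_lit 0)⟩))
 (.l ⟨(nat_lit 0xc0000d), (nat_lit 0x150642007017), (nat_lit 0xa15624c050056661579), (nat_lit 0)⟩))))))
 (.n (.n (.n (.n (.n (.n (.l ⟨(nat_lit 0xc00007), (nat_lit 7404), (nat_lit 0x8d0f5b007), (nat_lit 0)⟩)
 (.l ⟨(nat_lit 0xc0000d), (nat_lit 0x41b04c1a03c03), (nat_lit 0x310655201c050054c6516e), (nat_lit 0)⟩))
 (.n (.l ⟨(nat_lit 0x140000d), (nat_lit 0x1c601845f), (nat_lit 0x6205525d4960d45020030140101007), (nat_lit 0)⟩)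
 (.l ⟨(nat_lit 0xc00015), (nat_lit 0x6c0f06c1d0641e), (nat_lit 0x42041932cc050054367556), (nat_lit 0)⟩)))
 (.n (.n (.l ⟨(nat_lit 0xc0000d), (nat_lit 0x15817104ec), (nat_lit 0x1356d0ec4c), (nat_lit 0)⟩)
 (.l ⟨(nat_lit 0x120000d), (nat_lit 0xf06c0707011), (nat_lit 0x1e07081345475698f), (nat_lit 0)⟩))
 (.l ⟨(nat_lit 0xc0000d), (nat_lit 0x7c1307014), (nat_lit 0xc47a1386000d4c6658c), (nat_lit 0)⟩)))
 (.n (.n (.n (.l ⟨(nat_lit 0xc0000d), (nat_lit 0x6b3899218c01), (nat_lit 0x1b56b56847), (nat_lit 0)⟩)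
 (.l ⟨(nat_lit 0xc0000d), (nat_lit 0x1c0741207007), (nat_lit 0x5701d641c005005415b584), (nat_lit 0)⟩))
 (.l ⟨(nat_lit 0xc0000b), (nat_lit 0x6c110141f), (nat_lit 0x530a55e00d4f62d9c), (nat_lit 0)⟩))
 (.n (.n (.l ⟨(nat_lit 0xe0000d), (nat_lit 0xd99416418), (nat_lit 0x607d5604e), (nat_lit 0)⟩)
 (.l ⟨(nat_lit 0xc0000f), (nat_lit 0x1b02c1d), (nat_lit 0x67048bb110050054163580), (nat_lit 0)⟩))
 (.l ⟨(nat_lit 0xc0000d), (nat_lit 0x1306c1d07010), (nat_lit 0x394a974169475358b), (nat_lit 0)⟩))))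
 (.n (.n (.n (.n (.l ⟨(nat_lit 0xc0000b), (nat_lit 0x1410e16037), (nat_lit 0x1cd511cc1f), (nat_lit 0)⟩)
 (.l ⟨(nat_lit 0x120000d), (nat_lit 0x7c1b04c0c07007), (nat_lit 0x64081333d14b5697a), (nat_lit 0)⟩))
 (.l ⟨(nat_lit 0xc0000b), (nat_lit 0x602006c1007007), (nat_lit 0x23174640714353175), (nat_lit 0)⟩))
 (.n (.n (.l ⟨(nat_lit 0xc0000d), (nat_lit 0x1117e1219a), (nat_lit 0x1053e0894b61d63020030140101007), (nat_lit 0)⟩)
 (.l ⟨(nat_lit 0xc0000d), (nat_lit 0xf06c1d0641e), (nat_lit 0x15d0a08a0e54c6759b), (nat_lit 0)⟩))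
 (.l ⟨(nat_lit 0x60000d), (nat_lit 0x701d0140f07010), (nat_lit 0x494f46e4a54a64563), (nat_lit 0)⟩)))
 (.n (.n (.n (.l ⟨(nat_lit 0xc0000d), (nat_lit 0x647262009), (nat_lit 0x1206844805), (nat_lit 0)⟩)
 (.l ⟨(nat_lit 0x140000d), (nat_lit 0x70100141f07010), (nat_lit 0x4d1a97619d5f5956b), (nat_lit 0)⟩))
 (.l ⟨(nat_lit 0x140000d), (nat_lit 0x907c03), (nat_lit 0x41420820d94965d7a), (nat_lit 0)⟩))
 (.n (.n (.l ⟨(nat_lit 0x120000d), (nat_lit 0xc885228d1), (nat_lit 0x1c0571bc9359971020030140101007), (nat_lit 0)⟩)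
 (.l ⟨(nat_lit 0xc00013), (nat_lit 0x150682207014), (nat_lit 0x6d4656e034050054a59980), (nat_lit 0)⟩))
 (.l ⟨(nat_lit 0xc0000d), (nat_lit 0x88110701207011), (nat_lit 0x6f385940ed4560994), (nat_lit 0)⟩)))))
 (.n (.n (.n (.n (.n (.l ⟨(nat_lit 0xc0000b), (nat_lit 0x4724c15), (nat_lit 0xf16a4a807), (nat_lit 0)⟩)
 (.l ⟨(nat_lit 0xc0000d), (nat_lit 0x1f06c1307017), (nat_lit 0x574c45d414050054c61d8b), (nat_lit 0)⟩))
 (.n (.l ⟨(nat_lit 0xc00007), (nat_lit 0x200140707010), (nat_lit 0x4958c5e049606698d), (nat_lit 0)⟩)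
 (.l ⟨(nat_lit 0xc00015), (nat_lit 0x150141107010), (nat_lit 0x341116c4f0140157581), (nat_lit 0)⟩)))
 (.n (.n (.l ⟨(nat_lit 0xc0000d), (nat_lit 0x188b642803), (nat_lit 0x6441e1d428), (nat_lit 0)⟩)
 (.l ⟨(nat_lit 0xc0000d), (nat_lit 0x1e06c2201415), (nat_lit 0x38391747a5a953), (nat_lit 0)⟩))
 (.l ⟨(nat_lit 0x120000d), (nat_lit 0x1406c21), (nat_lit 0x48c5e5594964989), (nat_lit 0)⟩)))
 (.n (.n (.n (.l ⟨(nat_lit 0xc0000d), (nat_lit 0xc9175a041), (nat_lit 0x1b84e20d3c), (nat_lit 0)⟩)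
 (.l ⟨(nat_lit 0xc0000d), (nat_lit 0x1106c0f06816), (nat_lit 0x511ac6d0a9456358a), (nat_lit 0)⟩))
 (.l ⟨(nat_lit 0x140000d), (nat_lit 0x1b03c1f), (nat_lit 0x3b0181b5476215b), (nat_lit 0)⟩))
 (.n (.n (.l ⟨(nat_lit 0x120000d), (nat_lit 0x599306054), (nat_lit 0x1053a1ccd4), (nat_lit 0)⟩)
 (.l ⟨(nat_lit 0xc0000f), (nat_lit 0x1806c1307010), (nat_lit 0x105d4554fc050054f5e16c), (nat_lit 0)⟩))
 (.l ⟨(nat_lit 0x140000d), (nat_lit 0x481507011), (nat_lit 0x481552c04950), (nat_lit 0)⟩))))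
 (.n (.n (.n (.n (.l ⟨(nat_lit 0xc0000d), (nat_lit 0x164391d863), (nat_lit 0x4d6e63807014015296d5d408), (nat_lit 0)⟩)
 (.l ⟨(nat_lit 0xc0000d), (nat_lit 0x1206c1606815), (nat_lit 0x405e25064005495e965), (nat_lit 0)⟩))
 (.l ⟨(nat_lit 0x140000b), (nat_lit 0x2204403), (nat_lit 0x295483605d4b5c54b), (nat_lit 0)⟩))
 (.n (.n (.l ⟨(nat_lit 0xc0000d), (nat_lit 0x905f14c66), (nat_lit 0x698e20c0955d7e020030140101007), (nat_lit 0)⟩)
 (.l ⟨(nat_lit 0x60000d), (nat_lit 0x641e0141e01416), (nat_lit 0xb1b86f1315c64960), (nat_lit 0)⟩))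
 (.l ⟨(nat_lit 0xc0000d), (nat_lit 0x16068140641e), (nat_lit 0x302198b3e9455fd5c), (nat_lit 0)⟩)))
 (.n (.n (.n (.l ⟨(nat_lit 0xc0000d), (nat_lit 0xd9d10110), (nat_lit 0x846b2d552), (nat_lit 0)⟩)
 (.l ⟨(nat_lit 0x140000d), (nat_lit 0x1006c1d01416), (nat_lit 0x6b4bc834154566574), (nat_lit 0)⟩))
 (.l ⟨(nat_lit 0xc0000d), (nat_lit 0x1506821), (nat_lit 0x8d960a06b64d6d), (nat_lit 0)⟩))
 (.n (.n (.l ⟨(nat_lit 0x140000d), (nat_lit 0xdcc161c17), (nat_lit 0x1607b42c0b), (nat_lit 0)⟩)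
 (.l ⟨(nat_lit 0xc00013), (nat_lit 0x110141707011), (nat_lit 0x332f05810805005525c17f), (nat_lit 0)⟩))
 (.l ⟨(nat_lit 0xc0000d), (nat_lit 0x41b0481908807), (nat_lit 0x1309c9f16405005416315d), (nat_lit 0)⟩)))))))
 (.n (.n (.n (.n (.n (.n (.n (.l ⟨(nat_lit 0x800007), (nat_lit 0x1687d2503f), (nat_lit 0x919062407), (nat_lit 0)⟩)
 (.l ⟨(nat_lit 0xe0000d), (nat_lit 0x19080190740b), (nat_lit 0xf400641b55663577), (nat_lit 0)⟩))
 (.n (.l ⟨(nat_lit 0x140000d), (nat_lit 0x1544330c84), (nat_lit 0x1787e57916), (nat_lit 0)⟩)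
 (.l ⟨(nat_lit 0xc00015), (nat_lit 0x1806c1007007), (nat_lit 0x3b6445345405005435f964), (nat_lit 0)⟩)))
 (.n (.n (.l ⟨(nat_lit 0xc0000d), (nat_lit 0x812d01c54), (nat_lit 0x853d5e073), (nat_lit 0)⟩)
 (.l ⟨(nat_lit 0xc0000d), (nat_lit 0x200681007014), (nat_lit 0x241b10905c050054961d7d), (nat_lit 0)⟩))
 (.l ⟨(nat_lit 0xc0000d), (nat_lit 0x1b02c1307010), (nat_lit 0x412d10c05405005436618f), (nat_lit 0)⟩)))
 (.n (.n (.n (.l ⟨(nat_lit 0xc0000d), (nat_lit 0xc9972080d), (nat_lit 0x1085928486), (nat_lit 0)⟩)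
 (.l ⟨(nat_lit 0xc0000d), (nat_lit 0x1a0301207007), (nat_lit 0x5d0318a09d616214d), (nat_lit 0)⟩))
 (.l ⟨(nat_lit 0xc0000b), (nat_lit 0x200641306815), (nat_lit 0x555900b0255067555), (nat_lit 0)⟩))
 (.n (.n (.l ⟨(nat_lit 0xe0000d), (nat_lit 0x66c4d3ac20), (nat_lit 0xdd392fc07), (nat_lit 0)⟩)
 (.l ⟨(nat_lit 0xc0000d), (nat_lit 0x2006c0f0701d), (nat_lit 0x5e3f45b1f0050056e59592), (nat_lit 0)⟩))
 (.l ⟨(nat_lit 0x120000d), (nat_lit 0x170701f07011), (nat_lit 0x1557c730d54c62d47), (nat_lit 0)⟩))))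
 (.n (.n (.n (.n (.l ⟨(nat_lit 0xc0000b), (nat_lit 0x178f809c09), (nat_lit 0x591a4a117403), (nat_lit 0)⟩)
 (.l ⟨(nat_lit 0xc0000d), (nat_lit 0x220641507012), (nat_lit 0x1457f1301a5cd6b), (nat_lit 0)⟩))
 (.l ⟨(nat_lit 0xc00009), (nat_lit 0x68210642207010), (nat_lit 0x660e50710d515159b), (nat_lit 0)⟩))
 (.n (.n (.l ⟨(nat_lit 0xc0000d), (nat_lit 0x1598a0c031), (nat_lit 0x16c665f0535497e020030140101007), (nat_lit 0)⟩)
 (.l ⟨(nat_lit 0xc0000d), (nat_lit 0x180681201415), (nat_lit 0x115181e08100405005416514d), (nat_lit 0)⟩))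
 (.l ⟨(nat_lit 0xc0000d), (nat_lit 0x1b0740c07007), (nat_lit 0x1b4e4653f0050054163d75), (nat_lit 0)⟩)))
 (.n (.n (.n (.l ⟨(nat_lit 0xc0000d), (nat_lit 0x1885820465), (nat_lit 0xfc051c04d), (nat_lit 0)⟩)
 (.l ⟨(nat_lit 0xc0000d), (nat_lit 0x150680707011), (nat_lit 0x15140b116d456098b), (nat_lit 0)⟩))
 (.l ⟨(nat_lit 0x120000d), (nat_lit 0x100681f), (nat_lit 0x4664e46400d526155700806031455b58d), (nat_lit 0)⟩))
 (.n (.n (.l ⟨(nat_lit 0x120000d), (nat_lit 0x144ec131d001), (nat_lit 0x10d3b18839), (nat_lit 0)⟩)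
 (.l ⟨(nat_lit 0xc00013), (nat_lit 0x41b04c1b07c07), (nat_lit 0x271404101405005495997e), (nat_lit 0)⟩))
 (.l ⟨(nat_lit 0xa0000d), (nat_lit 0x681d0681007011), (nat_lit 0x141986963805005456418e), (nat_lit 0)⟩)))))
 (.n (.n (.n (.n (.n (.l ⟨(nat_lit 0xc0000b), (nat_lit 0x61510a111), (nat_lit 0x3cd2917848), (nat_lit 0)⟩)
 (.l ⟨(nat_lit 0xc0000d), (nat_lit 0x6c1806c1107010), (nat_lit 0x201088543d4b6399c), (nat_lit 0)⟩))
 (.n (.l ⟨(nat_lit 0x600007), (nat_lit 0x1d0641507014), (nat_lit 0x553e090030140159192), (nat_lit 0)⟩)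
 (.l ⟨(nat_lit 0xc00015), (nat_lit 0x70641407010), (nat_lit 0x1a0fe1f4e1004050055063d57), (nat_lit 0)⟩)))
 (.n (.n (.l ⟨(nat_lit 0xc0000d), (nat_lit 0x1b12a0640d), (nat_lit 0x211e1931b1415e17300806028030080601007), (nat_lit 0)⟩)
 (.l ⟨(nat_lit 0xc0000d), (nat_lit 0x702206c0707011), (nat_lit 0x2f3f84f0c9456496a), (nat_lit 0)⟩))
 (.l ⟨(nat_lit 0xe0000d), (nat_lit 0x70681f), (nat_lit 0x135074f83552d5a), (nat_lit 0)⟩)))
 (.n (.n (.n (.l ⟨(nat_lit 0xc0000d), (nat_lit 0x4484474ec), (nat_lit 0x14d073c448), (nat_lit 0)⟩)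
 (.l ⟨(nat_lit 0xc0000d), (nat_lit 0x701406c1206415), (nat_lit 0x531e9190c0050054a62181), (nat_lit 0)⟩))
 (.l ⟨(nat_lit 0x80000d), (nat_lit 0x1207011), (nat_lit 0x545f3c80c0140164d5a), (nat_lit 0)⟩))
 (.n (.n (.l ⟨(nat_lit 0x120000d), (nat_lit 0x6e4a04421003), (nat_lit 0x14d2a4183c), (nat_lit 0)⟩)
 (.l ⟨(nat_lit 0xa0000f), (nat_lit 0x6c1706c150641d), (nat_lit 0x333e12f1b005005635e59c), (nat_lit 0)⟩))
 (.l ⟨(nat_lit 0xc0000d), (nat_lit 0x210681306c1207007), (nat_lit 0x4d6619401c050055659d94), (nat_lit 0)⟩))))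
 (.n (.n (.n (.n (.l ⟨(nat_lit 0xc0000d), (nat_lit 0x11c6e5f017), (nat_lit 0x140c41ac60), (nat_lit 0)⟩)
 (.l ⟨(nat_lit 0x140000d), (nat_lit 0x801b0401901c03), (nat_lit 0x46e4d4686758802003014010100750d55), (nat_lit 0)⟩))
 (.l ⟨(nat_lit 0x120000b), (nat_lit 0x441d0681f07007), (nat_lit 0x4f025681854363d6c), (nat_lit 0)⟩))
 (.n (.n (.l ⟨(nat_lit 0xc0000d), (nat_lit 0x805b08833), (nat_lit 0x15d9d41c7f), (nat_lit 0)⟩)
 (.l ⟨(nat_lit 0xc0000d), (nat_lit 0x68220142207007), (nat_lit 0xe11b97507005005515f96d), (nat_lit 0)⟩))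
 (.l ⟨(nat_lit 0xc0000d), (nat_lit 0x881d07007), (nat_lit 0x6e190270e8050054a5cd87), (nat_lit 0)⟩)))
 (.n (.n (.n (.l ⟨(nat_lit 0xc0000d), (nat_lit 0x1200e56866), (nat_lit 0x184d62099b), (nat_lit 0)⟩)
 (.l ⟨(nat_lit 0x140000d), (nat_lit 0x160642207013), (nat_lit 0x1e418331414560d80), (nat_lit 0)⟩))
 (.l ⟨(nat_lit 0xa0000d), (nat_lit 0x681806c1307007), (nat_lit 0x28285160cc05005475ad49), (nat_lit 0)⟩))
 (.n (.n (.l ⟨(nat_lit 0x140000b), (nat_lit 0xdd3e66024), (nat_lit 0xd06243009), (nat_lit 0)⟩)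
 (.l ⟨(nat_lit 0xc00013), (nat_lit 0xe06c1007013), (nat_lit 0x3817150050054c5a192), (nat_lit 0)⟩))
 (.l ⟨(nat_lit 0xe0000d), (nat_lit 0x30210700707011), (nat_lit 0x190bc874a5416058e), (nat_lit 0)⟩))))))
 (.n (.n (.n (.n (.n (.n (.l ⟨(nat_lit 0xc00009), (nat_lit 0x1783119c29), (nat_lit 0x1bd0216573), (nat_lit 0)⟩)
 (.l ⟨(nat_lit 0xe0000d), (nat_lit 0x141507017), (nat_lit 0x611551f0e97a65c0800c050040401d5767576), (nat_lit 0)⟩))
 (.n (.l ⟨(nat_lit 0x140000f), (nat_lit 0xf0e244007), (nat_lit 0x1bd660c469), (nat_lit 0)⟩)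
 (.l ⟨(nat_lit 0xa00015), (nat_lit 0x701006c1e0681e), (nat_lit 0x230d4f401c050054566966), (nat_lit 0)⟩)))
 (.n (.n (.l ⟨(nat_lit 0xc0000d), (nat_lit 0x3c5944109), (nat_lit 0x1983941c4357575020030140101007), (nat_lit 0)⟩)
 (.l ⟨(nat_lit 0xc0000d), (nat_lit 0x1f070130701d), (nat_lit 0x5b10d09034050055d5f554), (nat_lit 0)⟩))
 (.l ⟨(nat_lit 0xc0000d), (nat_lit 0x220641d), (nat_lit 0x19c6a171056155e), (nat_lit 0)⟩)))
 (.n (.n (.n (.l ⟨(nat_lit 0xc0000d), (nat_lit 0x30413f016), (nat_lit 0x88fc1400f), (nat_lit 0)⟩)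
 (.l ⟨(nat_lit 0xc0000d), (nat_lit 0x160701f07011), (nat_lit 0x106417801c050054c64d77), (nat_lit 0)⟩))
 (.l ⟨(nat_lit 0xc0000b), (nat_lit 0x540501c03), (nat_lit 0x1903a14c3450d4a), (nat_lit 0)⟩))
 (.n (.n (.l ⟨(nat_lit 0xe0000d), (nat_lit 0x386d4d8fa), (nat_lit 0x881d1cc31), (nat_lit 0)⟩)
 (.l ⟨(nat_lit 0x120000f), (nat_lit 0x6c1306c070641e), (nat_lit 0x1920430421515456e), (nat_lit 0)⟩))
 (.l ⟨(nat_lit 0x140000d), (nat_lit 0x6c160141f01415), (nat_lit 0x6b1cd8b1d1455658a), (nat_lit 0)⟩))))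
 (.n (.n (.n (.n (.l ⟨(nat_lit 0xc0000b), (nat_lit 0x1487525069), (nat_lit 0x860bc5b), (nat_lit 0)⟩)
 (.l ⟨(nat_lit 0x120000d), (nat_lit 0x16068100701e), (nat_lit 0x164186345853594), (nat_lit 0)⟩))
 (.l ⟨(nat_lit 0xc0000b), (nat_lit 11275), (nat_lit 0x2d01a55d68), (nat_lit 0)⟩))
 (.n (.n (.l ⟨(nat_lit 0x60000d), (nat_lit 0x18d9c5e405), (nat_lit 0x1746517520), (nat_lit 0)⟩)
 (.l ⟨(nat_lit 0xc0000d), (nat_lit 0x1d0681001415), (nat_lit 0x1c1e9391a0050054352d98), (nat_lit 0)⟩))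
 (.l ⟨(nat_lit 0xc0000d), (nat_lit 0x1e0141d0641d), (nat_lit 0x6248470178050054a64d83), (nat_lit 0)⟩)))
 (.n (.n (.n (.l ⟨(nat_lit 0xc0000d), (nat_lit 0x1ad752041a), (nat_lit 0x79745b41d), (nat_lit 0)⟩)
 (.l ⟨(nat_lit 0xc0000d), (nat_lit 0x160142107007), (nat_lit 0x21641781f8050054f5997b), (nat_lit 0)⟩))
 (.l ⟨(nat_lit 0xc0000d), (nat_lit 0x44200680707007), (nat_lit 0x6001f1c419014015ad90), (nat_lit 0)⟩))
 (.n (.n (.l ⟨(nat_lit 0x1200011), (nat_lit 0x1704767049), (nat_lit 0x1cec4206d), (nat_lit 0)⟩)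
 (.l ⟨(nat_lit 0xc00013), (nat_lit 0x840501c03), (nat_lit 0x481405a0c8050054f5fd52), (nat_lit 0)⟩))
 (.l ⟨(nat_lit 0xc0000d), (nat_lit 0x106c1007014), (nat_lit 0x18b1ecb707c050054f67974), (nat_lit 0)⟩)))))
 (.n (.n (.n (.n (.n (.l ⟨(nat_lit 0xc0000b), (nat_lit 0x190951a858), (nat_lit 0x2cb21c526), (nat_lit 0)⟩)
 (.l ⟨(nat_lit 0xc0000d), (nat_lit 0x14210641607007), (nat_lit 0xec1e50001c050054762145), (nat_lit 0)⟩))
 (.n (.l ⟨(nat_lit 0xc00007), (nat_lit 0x64200681307010), (nat_lit 0xf4f91e138050055863d5b), (nat_lit 0)⟩)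
 (.l ⟨(nat_lit 0xc00015), (nat_lit 0x141306c2207011), (nat_lit 0x6e2f57b168050054954577), (nat_lit 0)⟩)))
 (.n (.n (.l ⟨(nat_lit 0xc0000d), (nat_lit 0x907a30c23), (nat_lit 0x1a4335e98d), (nat_lit 0)⟩)
 (.l ⟨(nat_lit 0xe0000d), (nat_lit 0x120641d0141d), (nat_lit 0x141516e085475b188), (nat_lit 0)⟩))
 (.l ⟨(nat_lit 0xc0000d), (nat_lit 0x441b03c03), (nat_lit 0x1018856245555f191), (nat_lit 0)⟩)))
 (.n (.n (.n (.l ⟨(nat_lit 0xc0000d), (nat_lit 0xd45c5f860), (nat_lit 0xe52a5d05a), (nat_lit 0)⟩)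
 (.l ⟨(nat_lit 0xc0000d), (nat_lit 0x1e0141f07014), (nat_lit 0x35ec413d0050054a64d86), (nat_lit 0)⟩))
 (.l ⟨(nat_lit 0xc0000d), (nat_lit 0x1b0600f0701d), (nat_lit 0x15486455780140155d86), (nat_lit 0)⟩))
 (.n (.n (.l ⟨(nat_lit 0x120000d), (nat_lit 0xd0f90bc05), (nat_lit 0x13c804b46c), (nat_lit 0)⟩)
 (.l ⟨(nat_lit 0x1200011), (nat_lit 0x1b0481d), (nat_lit 0x16551d5801d495d19d01d50), (nat_lit 0)⟩))
 (.l ⟨(nat_lit 0xc0000d), (nat_lit 0x20070100701e), (nat_lit 0x48310894694c5e988), (nat_lit 0)⟩))))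
 (.n (.n (.n (.n (.l ⟨(nat_lit 0x60000d), (nat_lit 0x1b99a64c55), (nat_lit 0x1cfa41c07), (nat_lit 0)⟩)
 (.l ⟨(nat_lit 0xc0000d), (nat_lit 0x68150141f01415), (nat_lit 0x15c1712b088050054163967), (nat_lit 0)⟩))
 (.l ⟨(nat_lit 0xc0000b), (nat_lit 0x64120701e), (nat_lit 0x3468f71c55e5dd47), (nat_lit 0)⟩))
 (.n (.n (.l ⟨(nat_lit 0xc0000d), (nat_lit 0x40b51e51b), (nat_lit 0x3c0d973), (nat_lit 0)⟩)
 (.l ⟨(nat_lit 0xc0000d), (nat_lit 0x640f06c1201415), (nat_lit 0x331647d16c05005415ed67), (nat_lit 0)⟩))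
 (.l ⟨(nat_lit 0xc0000d), (nat_lit 0x6c1106c1307010), (nat_lit 0x1888942c6e004050054961d49), (nat_lit 0)⟩)))
 (.n (.n (.n (.l ⟨(nat_lit 0xc0000d), (nat_lit 0xd168941dc01), (nat_lit 0x11c1a49c15), (nat_lit 0)⟩)
 (.l ⟨(nat_lit 0xc0000d), (nat_lit 0x70180640707007), (nat_lit 0x5b0617b03c050054364d5d), (nat_lit 0)⟩))
 (.l ⟨(nat_lit 0xc0000d), (nat_lit 0x1806c16), (nat_lit 0xc51d611585e97a), (nat_lit 0)⟩))
 (.n (.n (.l ⟨(nat_lit 0x140000d), (nat_lit 0xe41446003), (nat_lit 0x1a8524d007), (nat_lit 0)⟩)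
 (.l ⟨(nat_lit 0xc00013), (nat_lit 0x1d068220141d), (nat_lit 0x11510c6f050050055754992), (nat_lit 0)⟩))
 (.l ⟨(nat_lit 0xc0000d), (nat_lit 0x601d0140f07007), (nat_lit 0x491c1073515359192), (nat_lit 0)⟩)))))))
noncomputable def T5 : Tr :=
  .n (.n (.n (.n (.n (.n (.n (.n (.l ⟨(nat_lit 0x200002), (nat_lit 1), (nat_lit 0), (nat_lit 0)⟩)
 (.l ⟨(nat_lit 0xc0000d), (nat_lit 0x442106c16), (nat_lit 0x5d16d7410d5254198), (nat_lit 0)⟩))
 (.n (.l ⟨(nat_lit 0x140000d), (nat_lit 0xfcf912014), (nat_lit 0x6534054f7), (nat_lit 0)⟩)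
 (.l ⟨(nat_lit 0x400015), (nat_lit 0x1c0841b05c03), (nat_lit 0xbb1f90113c05005435618b), (nat_lit 0)⟩)))
 (.n (.n (.l ⟨(nat_lit 0xc0000d), (nat_lit 0x158511c43a), (nat_lit 0x1a45e62c33), (nat_lit 0)⟩)
 (.l ⟨(nat_lit 0xc0000d), (nat_lit 0x1d0141d07010), (nat_lit 0x4f57479659415c992), (nat_lit 0)⟩))
 (.l ⟨(nat_lit 0xc0000d), (nat_lit 0x4c1b0881a04803), (nat_lit 0xd31c0fe14d6760564), (nat_lit 0)⟩)))
 (.n (.n (.n (.l ⟨(nat_lit 0xc0000d), (nat_lit 0x606603459), (nat_lit 0x1792166050), (nat_lit 0)⟩)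
 (.l ⟨(nat_lit 0xc0000d), (nat_lit 0x110141f07011), (nat_lit 0x6c4dd520595d64150), (nat_lit 0)⟩))
 (.l ⟨(nat_lit 0x120000b), (nat_lit 0x21068150141e), (nat_lit 0x665781143d4365176), (nat_lit 0)⟩))
 (.n (.n (.l ⟨(nat_lit 0xe00009), (nat_lit 0x100cc44), (nat_lit 0x1593c5d841), (nat_lit 0)⟩)
 (.l ⟨(nat_lit 0xc0000d), (nat_lit 0x70070641f07011), (nat_lit 0x275588028405005415dd76), (nat_lit 0)⟩))
 (.l ⟨(nat_lit 0xc0000d), (nat_lit 0x1d06c1306815), (nat_lit 0x5341cf11214157966), (nat_lit 0)⟩))))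
 (.n (.n (.n (.n (.l ⟨(nat_lit 0xc0000b), (nat_lit 0x1a8432d486), (nat_lit 0xfcfc47061), (nat_lit 0)⟩)
 (.l ⟨(nat_lit 0xc0000d), (nat_lit 0x141e0701707007), (nat_lit 0x5b048313fc050055151552), (nat_lit 0)⟩))
 (.l ⟨(nat_lit 0x600007), (nat_lit 0x1e0681d06415), (nat_lit 0xa45a43058515865e8020180901c050200a0300c0300901c050200a02c0701408014010200b02d4354551), (nat_lit 0)⟩))
 (.n (.n (.l ⟨(nat_lit 0xc0000d), (nat_lit 0x3f0775e048), (nat_lit 0x131570784d), (nat_lit 0)⟩)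
 (.l ⟨(nat_lit 0xc0000d), (nat_lit 0x70120680f07007), (nat_lit 0xb4160720414d5d565), (nat_lit 0)⟩))
 (.l ⟨(nat_lit 0xc0000d), (nat_lit 0x141607013), (nat_lit 0x235b45d4194d6098e), (nat_lit 0)⟩)))
 (.n (.n (.n (.l ⟨(nat_lit 0xc0000d), (nat_lit 0x14cfe13430), (nat_lit 0x1b9225ec20), (nat_lit 0)⟩)
 (.l ⟨(nat_lit 0x80000d), (nat_lit 0x6c150142007010), (nat_lit 0x8964d240a0050055156591), (nat_lit 0)⟩))
 (.l ⟨(nat_lit 0x140000d), (nat_lit 14355), (nat_lit 0x305f1b0795054c), (nat_lit 0)⟩))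
 (.n (.n (.l ⟨(nat_lit 0x120000d), (nat_lit 0xa87b16d59), (nat_lit 0x1840fc05), (nat_lit 0)⟩)
 (.l ⟨(nat_lit 0xa00013), (nat_lit 0x68220641306815), (nat_lit 0x2961c7618805005476116e), (nat_lit 0)⟩))
 (.l ⟨(nat_lit 0xc0000d), (nat_lit 0x4c0e07011), (nat_lit 0x281ac950f1645f40800c050040401d5a5a566), (nat_lit 0)⟩)))))
 (.n (.n (.n (.n (.n (.l ⟨(nat_lit 0xc00009), (nat_lit 0x8c531b810), (nat_lit 0x194452f), (nat_lit 0)⟩)
 (.l ⟨(nat_lit 0x140000d), (nat_lit 0x210701107011), (nat_lit 0x4c15c7c4494c64191), (nat_lit 0)⟩))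
 (.n (.l ⟨(nat_lit 0x1400015), (nat_lit 0x9c7d42053), (nat_lit 0xd8560596c), (nat_lit 0)⟩)
 (.l ⟨(nat_lit 0xc00015), (nat_lit 0x20064170641e), (nat_lit 0x2c1c63817014015dd52), (nat_lit 0)⟩)))
 (.n (.n (.l ⟨(nat_lit 0xc0000d), (nat_lit 0x19178160b2), (nat_lit 0xa4bb18d6a), (nat_lit 0)⟩)
 (.l ⟨(nat_lit 0x120000d), (nat_lit 0x160702107014), (nat_lit 0x611e18100d5663580), (nat_lit 0)⟩))
 (.l ⟨(nat_lit 0xa0000d), (nat_lit 0x1d0641507010), (nat_lit 0x4073d005005476114a), (nat_lit 0)⟩)))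
 (.n (.n (.n (.l ⟨(nat_lit 0xc0000d), (nat_lit 0x6c6e6381a), (nat_lit 0xc216599), (nat_lit 0)⟩)
 (.l ⟨(nat_lit 0xc0000d), (nat_lit 0x7c1b04c1a04803), (nat_lit 0x3b0a1851b805005415517d), (nat_lit 0)⟩))
 (.l ⟨(nat_lit 0xc0000b), (nat_lit 0x4c2107007), (nat_lit 0x477650420054c59957), (nat_lit 0)⟩))
 (.n (.n (.l ⟨(nat_lit 0xe0000d), (nat_lit 0xd0581e125), (nat_lit 0x11c8806422), (nat_lit 0)⟩)
 (.l ⟨(nat_lit 0xc0000f), (nat_lit 0x200702206821), (nat_lit 0x69594807f00c05005475e154), (nat_lit 0)⟩))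
 (.l ⟨(nat_lit 0xa0000d), (nat_lit 0x801c04c1b05c03), (nat_lit 0x641c5984bc05005505b986), (nat_lit 0)⟩))))
 (.n (.n (.n (.n (.l ⟨(nat_lit 0xc0000d), (nat_lit 0x313c1a), (nat_lit 0x1152108911), (nat_lit 0)⟩)
 (.l ⟨(nat_lit 0xa0000d), (nat_lit 0x2006c0706820), (nat_lit 0x600613f080050055f5c193), (nat_lit 0)⟩))
 (.l ⟨(nat_lit 0xc0000b), (nat_lit 0x801905c03), (nat_lit 0x30b441c175a570), (nat_lit 0)⟩))
 (.n (.n (.l ⟨(nat_lit 0xc0000d), (nat_lit 0x486a35865), (nat_lit 0x304c64015), (nat_lit 0)⟩)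
 (.l ⟨(nat_lit 0xc0000d), (nat_lit 0x64220701107007), (nat_lit 0x37674fc01c050054a5b573), (nat_lit 0)⟩))
 (.l ⟨(nat_lit 0x100000d), (nat_lit 0x681507007), (nat_lit 0x616081f025565e564), (nat_lit 0)⟩)))
 (.n (.n (.n (.l ⟨(nat_lit 0xc0000d), (nat_lit 0x31080e97d), (nat_lit 0x184951c859), (nat_lit 0)⟩)
 (.l ⟨(nat_lit 0xc0000d), (nat_lit 0x160141307011), (nat_lit 0x13865568395998d), (nat_lit 0)⟩))
 (.l ⟨(nat_lit 0xc0000d), (nat_lit 0x1c0681307012), (nat_lit 0x4521cf30a54d5f977), (nat_lit 0)⟩))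
 (.n (.n (.l ⟨(nat_lit 0x1200013), (nat_lit 0x564745413c01), (nat_lit 0x24fb1d8620054a61994020030140101007), (nat_lit 0)⟩)
 (.l ⟨(nat_lit 0xc00013), (nat_lit 0x200702107007), (nat_lit 0x185798f1f405005435d54f), (nat_lit 0)⟩))
 (.l ⟨(nat_lit 0xa0000d), (nat_lit 0x1b0601b0580b), (nat_lit 0xf155021e005005585998c), (nat_lit 0)⟩))))))
 (.n (.n (.n (.n (.n (.n (.l ⟨(nat_lit 0xa00009), (nat_lit 84019), (nat_lit 0x741c50012), (nat_lit 0)⟩)
 (.l ⟨(nat_lit 0xc0000d), (nat_lit 0x64200681107010), (nat_lit 0x6e025161d94b64d70), (nat_lit 0)⟩))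
 (.n (.l ⟨(nat_lit 0x140000d), (nat_lit 0x35653105e), (nat_lit 0x1a59a0cd75), (nat_lit 0)⟩)
 (.l ⟨(nat_lit 0xc00015), (nat_lit 0x1f0642207011), (nat_lit 0x1c6104b0f005005596456a), (nat_lit 0)⟩)))
 (.n (.n (.l ⟨(nat_lit 0xc0000d), (nat_lit 0x1102263433), (nat_lit 0x1447c5a823), (nat_lit 0)⟩)
 (.l ⟨(nat_lit 0xc0000d), (nat_lit 0x1706c100641d), (nat_lit 0x414785b03401014015054f), (nat_lit 0)⟩))
 (.l ⟨(nat_lit 0xc0000d), (nat_lit 0x1006c1e), (nat_lit 0x451c99709172), (nat_lit 0)⟩)))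
 (.n (.n (.n (.l ⟨(nat_lit 0xc0000d), (nat_lit 0x450824445), (nat_lit 0x1bc546500e), (nat_lit 0)⟩)
 (.l ⟨(nat_lit 0xc0000d), (nat_lit 0x1d0681107011), (nat_lit 0x18b1955a06c050054163d58), (nat_lit 0)⟩))
 (.l ⟨(nat_lit 0xc0000b), (nat_lit 0x140682207011), (nat_lit 0x24620830d1595517c), (nat_lit 0)⟩))
 (.n (.n (.l ⟨(nat_lit 0xe0000d), (nat_lit 0x64c119054), (nat_lit 0x2e06a4543c), (nat_lit 0)⟩)
 (.l ⟨(nat_lit 0x120000d), (nat_lit 0x681d0682007007), (nat_lit 0xed6d4685c56d875d80800c050040401d4953192), (nat_lit 0)⟩))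
 (.l ⟨(nat_lit 0xc0000d), (nat_lit 0x7c1b0401901c03), (nat_lit 0xdd301a863014015359b62c0800c050040401d4158d7d), (nat_lit 0)⟩))))
 (.n (.n (.n (.n (.l ⟨(nat_lit 0xc0000b), (nat_lit 0x1498617c87), (nat_lit 0xd1a3dc71), (nat_lit 0)⟩)
 (.l ⟨(nat_lit 0xc0000d), (nat_lit 0x34170640f07007), (nat_lit 0x5ac1d6084563d64), (nat_lit 0)⟩))
 (.l ⟨(nat_lit 0xa0000b), (nat_lit 12), (nat_lit 0xf206405005505e577), (nat_lit 0)⟩))
 (.n (.n (.l ⟨(nat_lit 0xc0000d), (nat_lit 0x1a85048885), (nat_lit 0x5f87c07415), (nat_lit 0)⟩)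
 (.l ⟨(nat_lit 0xc0000d), (nat_lit 0x301f0681807007), (nat_lit 0x2759582161455dd97), (nat_lit 0)⟩))
 (.l ⟨(nat_lit 0xc0000d), (nat_lit 0xf0680707007), (nat_lit 0x362204d34c050055e5f564), (nat_lit 0)⟩)))
 (.n (.n (.n (.l ⟨(nat_lit 0xc0000d), (nat_lit 0x1713f18034), (nat_lit 0x4cb41ac1a), (nat_lit 0)⟩)
 (.l ⟨(nat_lit 0xc0000d), (nat_lit 0x170141f07007), (nat_lit 0x4e2202a08405005475c978), (nat_lit 0)⟩))
 (.l ⟨(nat_lit 0xc0000d), (nat_lit 0x381d06c1307007), (nat_lit 0x7361c8800d4b64992), (nat_lit 0)⟩))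
 (.n (.n (.l ⟨(nat_lit 0x120000d), (nat_lit 0x5a5e07c67401), (nat_lit 0x48c5e5594d63960020030140101007), (nat_lit 0)⟩)
 (.l ⟨(nat_lit 0xc00013), (nat_lit 0x70180681307007), (nat_lit 0x2a15d3331005005526695a), (nat_lit 0)⟩))
 (.l ⟨(nat_lit 0xc0000d), (nat_lit 0x64200141701415), (nat_lit 0x2f224730c005005475d96b), (nat_lit 0)⟩)))))
 (.n (.n (.n (.n (.n (.l ⟨(nat_lit 0xc0000b), (nat_lit 0x2c4858003), (nat_lit 0x1b55a61066), (nat_lit 0)⟩)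
 (.l ⟨(nat_lit 0xa0000d), (nat_lit 0x88140140707011), (nat_lit 0xd1771c03c00c05005496456e), (nat_lit 0)⟩))
 (.n (.l ⟨(nat_lit 0xc00007), (nat_lit 0x601d06c1207007), (nat_lit 0x4e07050134050054a5796e), (nat_lit 0)⟩)
 (.l ⟨(nat_lit 0xa00015), (nat_lit 0x706c100701e), (nat_lit 0x3f19c4f254050054b66966), (nat_lit 0)⟩)))
 (.n (.n (.l ⟨(nat_lit 0xc0000d), (nat_lit 0x16d591a83a), (nat_lit 0x115571cc2a), (nat_lit 0)⟩)
 (.l ⟨(nat_lit 0xc0000d), (nat_lit 0x141406c1207012), (nat_lit 0x135ed02040050054767557), (nat_lit 0)⟩))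
 (.l ⟨(nat_lit 0xc0000d), (nat_lit 0x1006c1f), (nat_lit 0x1b46749c795c17f), (nat_lit 0)⟩)))
 (.n (.n (.n (.l ⟨(nat_lit 0xc0000d), (nat_lit 0x1b4410d883), (nat_lit 0x1344f148b1), (nat_lit 0)⟩)
 (.l ⟨(nat_lit 0xc0000d), (nat_lit 0x1f06c1706416), (nat_lit 0x91707608d545e559), (nat_lit 0)⟩))
 (.l ⟨(nat_lit 0xc0000d), (nat_lit 0x1106c16), (nat_lit 0x6652504c05005496317f), (nat_lit 0)⟩))
 (.n (.n (.l ⟨(nat_lit 0x120000d), (nat_lit 0xe5851a034), (nat_lit 0x154291fc71), (nat_lit 0)⟩)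
 (.l ⟨(nat_lit 0xc0000f), (nat_lit 0x301e06c0f07007), (nat_lit 0x2f4001407805005656756a), (nat_lit 0)⟩))
 (.l ⟨(nat_lit 0xa0000d), (nat_lit 0x100640707014), (nat_lit 0x699d15c19004050055f5f981), (nat_lit 0)⟩))))
 (.n (.n (.n (.n (.l ⟨(nat_lit 0xc0000d), (nat_lit 0xc8673cd1f), (nat_lit 0x8c6862870), (nat_lit 0)⟩)
 (.l ⟨(nat_lit 0xc0000d), (nat_lit 0x1406c1307011), (nat_lit 0x212f04c040050054964590), (nat_lit 0)⟩))
 (.l ⟨(nat_lit 0x140000b), (nat_lit 0x190881407007), (nat_lit 0x74d35605e6099d), (nat_lit 0)⟩))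
 (.n (.n (.l ⟨(nat_lit 0xc0000d), (nat_lit 0x659017d38), (nat_lit 0x7604510595064d7c021435d19c020030140101007), (nat_lit 0)⟩)
 (.l ⟨(nat_lit 0xc0000d), (nat_lit 0x88150140707011), (nat_lit 0x55208b81416356963), (nat_lit 0)⟩))
 (.l ⟨(nat_lit 0x80000d), (nat_lit 0x130682207010), (nat_lit 0x5e620721f9475c18c), (nat_lit 0)⟩)))
 (.n (.n (.n (.l ⟨(nat_lit 0xc0000d), (nat_lit 0xa0b22287d), (nat_lit 0xc5048505), (nat_lit 0)⟩)
 (.l ⟨(nat_lit 0x140000d), (nat_lit 0x160142007013), (nat_lit 0x10e2158714d4557147), (nat_lit 0)⟩))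
 (.l ⟨(nat_lit 0x120000d), (nat_lit 0x160681507013), (nat_lit 0x101381d4f45d97f6740800c050040401d5562165), (nat_lit 0)⟩))
 (.n (.n (.l ⟨(nat_lit 0x140000b), (nat_lit 0x88af14c44), (nat_lit 0x170483f017), (nat_lit 0)⟩)
 (.l ⟨(nat_lit 0xc00013), (nat_lit 0x141707010), (nat_lit 0x4cb317805005416717a), (nat_lit 0)⟩))
 (.l ⟨(nat_lit 0xc0000d), (nat_lit 0x641f0681406816), (nat_lit 0x6e4017a1954c6214b), (nat_lit 0)⟩)))))))
 (.n (.n (.n (.n (.n (.n (.n (.l ⟨(nat_lit 0x600007), (nat_lit 0xeb24c0f), (nat_lit 0x555935dc07), (nat_lit 0)⟩)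
 (.l ⟨(nat_lit 0xc0000d), (nat_lit 0x140682007013), (nat_lit 0x442884f068050054352988), (nat_lit 0)⟩))
 (.n (.l ⟨(nat_lit 0x140000d), (nat_lit 0x25071955c), (nat_lit 0x8d88180f2), (nat_lit 0)⟩)
 (.l ⟨(nat_lit 0xa00015), (nat_lit 0x800507412), (nat_lit 0x1a0c4f4090050054f6798d), (nat_lit 0)⟩)))
 (.n (.n (.l ⟨(nat_lit 0xc0000d), (nat_lit 0x194534f45a), (nat_lit 0x3112d20030), (nat_lit 0)⟩)
 (.l ⟨(nat_lit 0x80000d), (nat_lit 0x6c160140707007), (nat_lit 0x574f41643c050056761d45), (nat_lit 0)⟩))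
 (.l ⟨(nat_lit 0xa0000d), (nat_lit 0x1b0541307011), (nat_lit 0x534884f47c050054152d68), (nat_lit 0)⟩)))
 (.n (.n (.n (.l ⟨(nat_lit 0xc0000d), (nat_lit 0x16c120c4ff), (nat_lit 0x245766c58), (nat_lit 0)⟩)
 (.l ⟨(nat_lit 0xc0000d), (nat_lit 0x1f0642207007), (nat_lit 0x593f44754405005566499b), (nat_lit 0)⟩))
 (.l ⟨(nat_lit 0x140000b), (nat_lit 0x10068160140707007), (nat_lit 0xb46088075455d98d), (nat_lit 0)⟩))
 (.n (.n (.l ⟨(nat_lit 0xe0000d), (nat_lit 0x1c3666c07), (nat_lit 0x6e0698d11d4c6358a020030140101007), (nat_lit 0)⟩)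
 (.l ⟨(nat_lit 0xc0000d), (nat_lit 0x74180701107007), (nat_lit 0xf16510424050054f66598), (nat_lit 0)⟩))
 (.l ⟨(nat_lit 0xc0000d), (nat_lit 0x681e0680707007), (nat_lit 0x69082199b0055d62195), (nat_lit 0)⟩))))
 (.n (.n (.n (.n (.l ⟨(nat_lit 0xc0000b), (nat_lit 0x1985961029), (nat_lit 0xa51162c82), (nat_lit 0)⟩)
 (.l ⟨(nat_lit 0xc0000d), (nat_lit 0x70640707007), (nat_lit 0x40171164654b59d50), (nat_lit 0)⟩))
 (.l ⟨(nat_lit 0xc00009), (nat_lit 0x68100641d), (nat_lit 0x1120dc68101696798b), (nat_lit 0)⟩))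
 (.n (.n (.l ⟨(nat_lit 0xc0000d), (nat_lit 0x4c546087d), (nat_lit 0x1312607486), (nat_lit 0)⟩)
 (.l ⟨(nat_lit 0xc0000d), (nat_lit 0x1e0702201416), (nat_lit 0x374148a0a0050054562153), (nat_lit 0)⟩))
 (.l ⟨(nat_lit 0xc0000d), (nat_lit 0x141e01415), (nat_lit 0xf4ac7a2114566174), (nat_lit 0)⟩)))
 (.n (.n (.n (.l ⟨(nat_lit 0xc0000d), (nat_lit 0x7593164bf), (nat_lit 0x160404dc0e), (nat_lit 0)⟩)
 (.l ⟨(nat_lit 0xc0000d), (nat_lit 0x1c02c2007007), (nat_lit 0x3265c8203405005415f187), (nat_lit 0)⟩))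
 (.l ⟨(nat_lit 0xa0000d), (nat_lit 0x441b07812), (nat_lit 0x294d92504805005415fd6c), (nat_lit 0)⟩))
 (.n (.n (.l ⟨(nat_lit 0x120000d), (nat_lit 0x745f5a480), (nat_lit 0x1ad0e20921), (nat_lit 0)⟩)
 (.l ⟨(nat_lit 0xc00013), (nat_lit 0x130680707013), (nat_lit 0x150c41bc1c004050054161d7b), (nat_lit 0)⟩))
 (.l ⟨(nat_lit 0xc0000d), (nat_lit 0x1b0741a0780c), (nat_lit 0x6104163d475698d), (nat_lit 0)⟩)))))
 (.n (.n (.n (.n (.n (.l ⟨(nat_lit 0xc0000b), (nat_lit 0xf19049407), (nat_lit 0x3505d2b), (nat_lit 0)⟩)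
 (.l ⟨(nat_lit 0xc0000d), (nat_lit 0x2106c0707012), (nat_lit 0x9219100654956192), (nat_lit 0)⟩))
 (.n (.l ⟨(nat_lit 0x600006), (nat_lit 0xc150881b), (nat_lit 0), (nat_lit 0)⟩)
 (.l ⟨(nat_lit 0xc00015), (nat_lit 0x220702201416), (nat_lit 0x6c1e46d494050054b5c182), (nat_lit 0)⟩)))
 (.n (.n (.l ⟨(nat_lit 0xc0000d), (nat_lit 0x691022411), (nat_lit 0x500814a061455e57c020030140101007), (nat_lit 0)⟩)
 (.l ⟨(nat_lit 0xc0000d), (nat_lit 0x841b0740504c03), (nat_lit 0x68445631b005005565c559), (nat_lit 0)⟩))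
 (.l ⟨(nat_lit 0xc0000d), (nat_lit 0x1306c20), (nat_lit 0x91498c09d5156d90), (nat_lit 0)⟩)))
 (.n (.n (.n (.l ⟨(nat_lit 0xc0000d), (nat_lit 0x4f5f83b), (nat_lit 0x4d049320d5635a19a0080602407014080280c0300c02407014080280b01c05020050040802c0b), (nat_lit 0)⟩)
 (.l ⟨(nat_lit 0xc0000d), (nat_lit 0x210141307007), (nat_lit 0x131948a3b14161566), (nat_lit 0)⟩))
 (.l ⟨(nat_lit 0xc0000b), (nat_lit 0x13070200681e), (nat_lit 0x4d1a46f4d1595a177), (nat_lit 0)⟩))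
 (.n (.n (.l ⟨(nat_lit 0x120000b), (nat_lit 0x3e06a44416), (nat_lit 0xa96c20403), (nat_lit 0)⟩)
 (.l ⟨(nat_lit 0xc0000f), (nat_lit 0x1d0681707013), (nat_lit 0x5258003548050055154556), (nat_lit 0)⟩))
 (.l ⟨(nat_lit 0xa0000d), (nat_lit 0x642107010), (nat_lit 0x502c41d218050056b56967), (nat_lit 0)⟩))))
 (.n (.n (.n (.n (.l ⟨(nat_lit 0xc0000d), (nat_lit 0x8d524ec12), (nat_lit 0x9cf945c4c), (nat_lit 0)⟩)
 (.l ⟨(nat_lit 0xc0000d), (nat_lit 0x41b01c1c0740b), (nat_lit 0x1c684ed2252d5c650020180a00c020180401d4154588), (nat_lit 0)⟩))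
 (.l ⟨(nat_lit 0xc0000b), (nat_lit 0x701806c0f07011), (nat_lit 0x12a2ec5210d535e175), (nat_lit 0)⟩))
 (.n (.n (.l ⟨(nat_lit 0xc0000d), (nat_lit 0x593a17042), (nat_lit 0xd5294e47f), (nat_lit 0)⟩)
 (.l ⟨(nat_lit 0xe0000d), (nat_lit 0xf06c0701420), (nat_lit 0x2f45552059515957d), (nat_lit 0)⟩))
 (.l ⟨(nat_lit 0xc0000d), (nat_lit 0x6c1107014), (nat_lit 0x493f0852ec010140162570), (nat_lit 0)⟩)))
 (.n (.n (.n (.l ⟨(nat_lit 0xc0000d), (nat_lit 0x124873e565), (nat_lit 0x1512b20022), (nat_lit 0)⟩)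
 (.l ⟨(nat_lit 0xc0000d), (nat_lit 0x14210642107007), (nat_lit 0x685d07b181575e55b), (nat_lit 0)⟩))
 (.l ⟨(nat_lit 0xc0000d), (nat_lit 0x2c220681107007), (nat_lit 0x5e3e05457005005435b579), (nat_lit 0)⟩))
 (.n (.n (.l ⟨(nat_lit 0x140000b), (nat_lit 0x1cf74d807), (nat_lit 0xc6722886), (nat_lit 0)⟩)
 (.l ⟨(nat_lit 0xc00013), (nat_lit 0x210141407010), (nat_lit 0x692bceb15c05005435a589), (nat_lit 0)⟩))
 (.l ⟨(nat_lit 0xc0000d), (nat_lit 0x800b0640f07007), (nat_lit 0x145f43117403014015c558), (nat_lit 0)⟩))))))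
 (.n (.n (.n (.n (.n (.n (.l ⟨(nat_lit 0xc00007), (nat_lit 0x18c7254412), (nat_lit 0xf0675541c), (nat_lit 0)⟩)
 (.l ⟨(nat_lit 0xc0000d), (nat_lit 0x1f06c120681d), (nat_lit 0x5e4d07713d4366d79), (nat_lit 0)⟩))
 (.n (.l ⟨(nat_lit 0x140000d), (nat_lit 0x1b8bd5ec5a), (nat_lit 0xd96b1744b), (nat_lit 0)⟩)
 (.l ⟨(nat_lit 0xc00015), (nat_lit 0x1b07817), (nat_lit 0x4411c0a0050054a64d6a), (nat_lit 0)⟩)))
 (.n (.n (.l ⟨(nat_lit 0xc0000d), (nat_lit 0x155810f007), (nat_lit 0x16d8805811), (nat_lit 0)⟩)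
 (.l ⟨(nat_lit 0xc0000d), (nat_lit 0x701d0701e07011), (nat_lit 0x5a4e95914d535e98f), (nat_lit 0)⟩))
 (.l ⟨(nat_lit 0xc0000d), (nat_lit 0x120681d), (nat_lit 0x6e3e1590594a6499d), (nat_lit 0)⟩)))
 (.n (.n (.n (.l ⟨(nat_lit 0xc0000d), (nat_lit 0x5331a115), (nat_lit 0x180bb4dc56), (nat_lit 0)⟩)
 (.l ⟨(nat_lit 0xc0000d), (nat_lit 0x200681107007), (nat_lit 0x42610135ad4a5b186), (nat_lit 0)⟩))
 (.l ⟨(nat_lit 0xc0000b), (nat_lit 0x60110680707007), (nat_lit 0x4d4dc033b15364177), (nat_lit 0)⟩))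
 (.n (.n (.l ⟨(nat_lit 0xe0000d), (nat_lit 0x4ec6c2140f), (nat_lit 0x24531d07d), (nat_lit 0)⟩)
 (.l ⟨(nat_lit 0x140000f), (nat_lit 0x130681e07007), (nat_lit 0x6f598311a5576498e), (nat_lit 0)⟩))
 (.l ⟨(nat_lit 0xc0000d), (nat_lit 0x6c1807010), (nat_lit 0x5b4151f14005005645c577), (nat_lit 0)⟩))))
 (.n (.n (.n (.n (.l ⟨(nat_lit 0xc0000b), (nat_lit 0x1719214177), (nat_lit 0x28c474f822), (nat_lit 0)⟩)
 (.l ⟨(nat_lit 0xc0000d), (nat_lit 0x70070681f), (nat_lit 0x16d20654140140154598), (nat_lit 0)⟩))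
 (.l ⟨(nat_lit 0xa0000b), (nat_lit 0x100680707017), (nat_lit 0x10f0cc7312d4c5916e), (nat_lit 0)⟩))
 (.n (.n (.l ⟨(nat_lit 0xc0000d), (nat_lit 0x180401f862), (nat_lit 0x19d3064c3f), (nat_lit 0)⟩)
 (.l ⟨(nat_lit 0xc0000d), (nat_lit 0x220141107014), (nat_lit 0x191078750a15c66592), (nat_lit 0)⟩))
 (.l ⟨(nat_lit 0xc0000d), (nat_lit 0x6c1e0141e), (nat_lit 0x1621211ad475bd47), (nat_lit 0)⟩)))
 (.n (.n (.n (.l ⟨(nat_lit 0xc0000d), (nat_lit 0xd8b1f448), (nat_lit 0x7d8705188), (nat_lit 0)⟩)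
 (.l ⟨(nat_lit 0xc0000d), (nat_lit 0x110680707011), (nat_lit 0x20c5512005005546398c), (nat_lit 0)⟩))
 (.l ⟨(nat_lit 0x140000d), (nat_lit 0x2006c2206815), (nat_lit 0x50224720dd635a19a), (nat_lit 0)⟩))
 (.n (.n (.l ⟨(nat_lit 0x120000d), (nat_lit 0x1807e1a0bf), (nat_lit 0x3b5b51a1715b61d76020030140101007), (nat_lit 0)⟩)
 (.l ⟨(nat_lit 0xe00013), (nat_lit 0x6c1d0701401416), (nat_lit 0x502092a220050054564d74), (nat_lit 0)⟩))
 (.l ⟨(nat_lit 0xc0000d), (nat_lit 0x1c1f07011), (nat_lit 0x61271c99a01401525585640800c050040401d4559159), (nat_lit 0)⟩)))))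
 (.n (.n (.n (.n (.n (.l ⟨(nat_lit 0xc0000b), (nat_lit 0x2c895e51d), (nat_lit 0x65953d04d), (nat_lit 0)⟩)
 (.l ⟨(nat_lit 0xc0000d), (nat_lit 0x640706c1e), (nat_lit 0x6b0bd8c3c4050054765d47), (nat_lit 0)⟩))
 (.n (.l ⟨(nat_lit 0xc00007), (nat_lit 0x741c05c1c05003), (nat_lit 0xa46c414515d577), (nat_lit 0)⟩)
 (.l ⟨(nat_lit 0xc00015), (nat_lit 0x701406c21), (nat_lit 0x154d44e120050054166582), (nat_lit 0)⟩)))
 (.n (.n (.l ⟨(nat_lit 0xc0000d), (nat_lit 0x110271f905), (nat_lit 0x1b44b58081), (nat_lit 0)⟩)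
 (.l ⟨(nat_lit 0xc0000d), (nat_lit 0x1e068150141e), (nat_lit 0x624c0521d54b63573), (nat_lit 0)⟩))
 (.l ⟨(nat_lit 0xc0000d), (nat_lit 0x541f06c1207007), (nat_lit 0x295587128d526418d), (nat_lit 0)⟩)))
 (.n (.n (.n (.l ⟨(nat_lit 0xc0000d), (nat_lit 0x612dc635e403), (nat_lit 0xc84f16030), (nat_lit 0)⟩)
 (.l ⟨(nat_lit 0xc0000d), (nat_lit 0x140706c2207010), (nat_lit 0x42430864c1505b973), (nat_lit 0)⟩))
 (.l ⟨(nat_lit 0xe0000d), (nat_lit 0x1f06c1106816), (nat_lit 0x6b141842515861188), (nat_lit 0)⟩))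
 (.n (.n (.l ⟨(nat_lit 0x120000d), (nat_lit 0x6c795a8ff), (nat_lit 0x1446c4043c), (nat_lit 0)⟩)
 (.l ⟨(nat_lit 0xc0000f), (nat_lit 0x641306c1007013), (nat_lit 0x1117587068050055065190), (nat_lit 0)⟩))
 (.l ⟨(nat_lit 0xc0000d), (nat_lit 0x141507012), (nat_lit 0x12559483031515c960), (nat_lit 0)⟩))))
 (.n (.n (.n (.n (.l ⟨(nat_lit 0xc0000d), (nat_lit 0x17d791d910), (nat_lit 0x14c1c47467), (nat_lit 0)⟩)
 (.l ⟨(nat_lit 0xc0000d), (nat_lit 0x1f0700707007), (nat_lit 0x153485c2ec050054359994), (nat_lit 0)⟩))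
 (.l ⟨(nat_lit 0xc0000b), (nat_lit 0x70701407007), (nat_lit 0x353f0e218d435497e), (nat_lit 0)⟩))
 (.n (.n (.l ⟨(nat_lit 0xc0000d), (nat_lit 0x1708216056), (nat_lit 0x880f4a087), (nat_lit 0)⟩)
 (.l ⟨(nat_lit 0xc0000d), (nat_lit 0x12014120641d), (nat_lit 0x6e1e40c04405005585817d), (nat_lit 0)⟩))
 (.l ⟨(nat_lit 0xc0000d), (nat_lit 0x1406c1607007), (nat_lit 0x4f13c8009d495f17a), (nat_lit 0)⟩)))
 (.n (.n (.n (.l ⟨(nat_lit 0xc0000d), (nat_lit 0x19c520c801), (nat_lit 0xb2e05b0c001), (nat_lit 0)⟩)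
 (.l ⟨(nat_lit 0xc0000d), (nat_lit 0x110642201415), (nat_lit 0x2a0d963150050054767997), (nat_lit 0)⟩))
 (.l ⟨(nat_lit 0xc0000d), (nat_lit 0x2106c070641e), (nat_lit 0x6719c311794957d82), (nat_lit 0)⟩))
 (.n (.n (.l ⟨(nat_lit 0x140000d), (nat_lit 0x6b198735f401), (nat_lit 0x165731b16a), (nat_lit 0)⟩)
 (.l ⟨(nat_lit 0xa00013), (nat_lit 0x700f06c2107013), (nat_lit 0x6f5f00c408050054567198), (nat_lit 0)⟩))
 (.l ⟨(nat_lit 0x60000d), (nat_lit 0x6c0f06c1e), (nat_lit 0x1291d165141415e998), (nat_lit 0)⟩)))))))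
noncomputable def T6 : Tr :=
  .n (.n (.n (.n (.n (.n (.n (.n (.l ⟨(nat_lit 0x400004), (nat_lit 279777), (nat_lit 0), (nat_lit 0)⟩)
 (.l ⟨(nat_lit 0xc0000d), (nat_lit 0x1c0841b05003), (nat_lit 0x1271ed8c059495d587), (nat_lit 0)⟩))
 (.n (.l ⟨(nat_lit 0x140000d), (nat_lit 0x12d120d8ec), (nat_lit 0xec0606d), (nat_lit 0)⟩)
 (.l ⟨(nat_lit 0xc00015), (nat_lit 0x681d06415), (nat_lit 0xa81867011014016199d), (nat_lit 0)⟩)))
 (.n (.n (.l ⟨(nat_lit 0xc0000d), (nat_lit 0x164c207007), (nat_lit 0x1506046461), (nat_lit 0)⟩)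
 (.l ⟨(nat_lit 0xc0000d), (nat_lit 0x160142007010), (nat_lit 0x525684b198050054b5d19e), (nat_lit 0)⟩))
 (.l ⟨(nat_lit 0xc0000d), (nat_lit 0x2106415), (nat_lit 0x65054fc0394761553), (nat_lit 0)⟩)))
 (.n (.n (.n (.l ⟨(nat_lit 0xc0000d), (nat_lit 0x5c802bc43), (nat_lit 0x13d314840b), (nat_lit 0)⟩)
 (.l ⟨(nat_lit 0xc0000d), (nat_lit 0x6c160702007014), (nat_lit 0x6e66464494050054967154), (nat_lit 0)⟩))
 (.l ⟨(nat_lit 0xe0000b), (nat_lit 0x150682007012), (nat_lit 0x554b0560ed5e67986), (nat_lit 0)⟩))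
 (.n (.n (.l ⟨(nat_lit 0xe0000b), (nat_lit 0x14c174d807), (nat_lit 0x816b14056), (nat_lit 0)⟩)
 (.l ⟨(nat_lit 0xc0000d), (nat_lit 0x681706c2006c16), (nat_lit 0x6e1a0c31c805005495e185), (nat_lit 0)⟩))
 (.l ⟨(nat_lit 0xe0000d), (nat_lit 0x150681807007), (nat_lit 0x5d0e49f165506097a), (nat_lit 0)⟩))))
 (.n (.n (.n (.n (.l ⟨(nat_lit 0xc0000b), (nat_lit 0xe1410c), (nat_lit 0x4c7c4745e), (nat_lit 0)⟩)
 (.l ⟨(nat_lit 0xc0000d), (nat_lit 0x70110642207007), (nat_lit 0x4213d921bc05005635bd77), (nat_lit 0)⟩))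
 (.l ⟨(nat_lit 0xa00009), (nat_lit 11), (nat_lit 0x1642441a50543), (nat_lit 0)⟩))
 (.n (.n (.l ⟨(nat_lit 0xc0000d), (nat_lit 0x1511e5a463), (nat_lit 0x1897913818), (nat_lit 0)⟩)
 (.l ⟨(nat_lit 0x120000d), (nat_lit 0x641e0681107007), (nat_lit 0x21158514b1506680800c050040401d435d580), (nat_lit 0)⟩))
 (.l ⟨(nat_lit 0xc0000d), (nat_lit 0x700707007), (nat_lit 0x1982015021014015d15d), (nat_lit 0)⟩)))
 (.n (.n (.n (.l ⟨(nat_lit 0xc0000d), (nat_lit 0x1404c1a41f), (nat_lit 0x19c4400d8b), (nat_lit 0)⟩)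
 (.l ⟨(nat_lit 0xc0000d), (nat_lit 0x681e0680f07012), (nat_lit 0x15b1a0200e94b61186), (nat_lit 0)⟩))
 (.l ⟨(nat_lit 0xc0000d), (nat_lit 0x1106c2207007), (nat_lit 0x481b0282d95f55d8e008060215a58177), (nat_lit 0)⟩))
 (.n (.n (.l ⟨(nat_lit 0x120000d), (nat_lit 0x685760c69), (nat_lit 0x453e14007), (nat_lit 0)⟩)
 (.l ⟨(nat_lit 0xc00013), (nat_lit 0x74170141207007), (nat_lit 0x70154b4074050056b64165), (nat_lit 0)⟩))
 (.l ⟨(nat_lit 0xc0000d), (nat_lit 0x1706c1d0141d), (nat_lit 0x5a214614594361d4b), (nat_lit 0)⟩)))))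
 (.n (.n (.n (.n (.n (.l ⟨(nat_lit 0xc0000b), (nat_lit 0xcbf13c1a), (nat_lit 0xd9a0a11e), (nat_lit 0)⟩)
 (.l ⟨(nat_lit 0x140000d), (nat_lit 0x401f06c1607007), (nat_lit 0x3566c623cd505f589), (nat_lit 0)⟩))
 (.n (.l ⟨(nat_lit 0x400003), (nat_lit 7), (nat_lit 0), (nat_lit 0)⟩)
 (.l ⟨(nat_lit 0xc00015), (nat_lit 0x1006c2006815), (nat_lit 0x3f3e448050050054157966), (nat_lit 0)⟩)))
 (.n (.n (.l ⟨(nat_lit 0xc0000d), (nat_lit 0x544b58089), (nat_lit 0x16d7a10476), (nat_lit 0)⟩)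
 (.l ⟨(nat_lit 0xc0000d), (nat_lit 0x200681806c20), (nat_lit 0x551a58a1714d65d88), (nat_lit 0)⟩))
 (.l ⟨(nat_lit 0xc0000d), (nat_lit 0x141d06c2107007), (nat_lit 0x5c5e4421fc050054d67180), (nat_lit 0)⟩)))
 (.n (.n (.n (.l ⟨(nat_lit 0xc0000d), (nat_lit 0x18c084f9), (nat_lit 0xb1e5341ec05), (nat_lit 0)⟩)
 (.l ⟨(nat_lit 0xc0000d), (nat_lit 0x581e0701d07007), (nat_lit 0x413cd2d1fd525f155), (nat_lit 0)⟩))
 (.l ⟨(nat_lit 0xc0000b), (nat_lit 0x1b07c1a07c10), (nat_lit 0x6d569841994754971), (nat_lit 0)⟩))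
 (.n (.n (.l ⟨(nat_lit 0xe0000f), (nat_lit 0x790f11094), (nat_lit 0x1b4d8212ed495699a020030140101007), (nat_lit 0)⟩)
 (.l ⟨(nat_lit 0xc0000f), (nat_lit 0xf0141506415), (nat_lit 0x1c4416405005455795c), (nat_lit 0)⟩))
 (.l ⟨(nat_lit 0xc0000d), (nat_lit 0x1d06c1706416), (nat_lit 0x670710805c050054b6394a), (nat_lit 0)⟩))))
 (.n (.n (.n (.n (.l ⟨(nat_lit 0xc0000d), (nat_lit 0x491a2cc54), (nat_lit 0x718734454), (nat_lit 0)⟩)
 (.l ⟨(nat_lit 0xc0000d), (nat_lit 0x1206c1607011), (nat_lit 0x2427494050055961960), (nat_lit 0)⟩))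
 (.l ⟨(nat_lit 0xc0000b), (nat_lit 0x801c0740b), (nat_lit 0x544862c0b60192), (nat_lit 0)⟩))
 (.n (.n (.l ⟨(nat_lit 0xc0000d), (nat_lit 0x243a1992a), (nat_lit 0xe85b59034), (nat_lit 0)⟩)
 (.l ⟨(nat_lit 0xc0000d), (nat_lit 0x14200141007011), (nat_lit 0x120195b07866565), (nat_lit 0)⟩))
 (.l ⟨(nat_lit 0x140000d), (nat_lit 0x840f01415), (nat_lit 0x1716b1213850550), (nat_lit 0)⟩)))
 (.n (.n (.n (.l ⟨(nat_lit 0xc0000d), (nat_lit 0x1d0b618432), (nat_lit 0x54881ac9f), (nat_lit 0)⟩)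
 (.l ⟨(nat_lit 0xc0000d), (nat_lit 0x141e06c1707013), (nat_lit 0x3b0c55201c050054b6296d), (nat_lit 0)⟩))
 (.l ⟨(nat_lit 0xc0000d), (nat_lit 0x2006c1207007), (nat_lit 0x12207d5d04405005475358d), (nat_lit 0)⟩))
 (.n (.n (.l ⟨(nat_lit 0x1400005), (nat_lit 0x2ec7e4044f), (nat_lit 0x785e3d022), (nat_lit 0)⟩)
 (.l ⟨(nat_lit 0xc00013), (nat_lit 0x160641007007), (nat_lit 0x3c1219b080050054365158), (nat_lit 0)⟩))
 (.l ⟨(nat_lit 0xc0000d), (nat_lit 0x3c1e0680707007), (nat_lit 0x56190271d54962d65), (nat_lit 0)⟩))))))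
 (.n (.n (.n (.n (.n (.n (.l ⟨(nat_lit 0x60000b), (nat_lit 0x1a84e4e447), (nat_lit 0xc8834c81f), (nat_lit 0)⟩)
 (.l ⟨(nat_lit 0xc0000d), (nat_lit 0x601d06c1007007), (nat_lit 0x170dc54014015cd75), (nat_lit 0)⟩))
 (.n (.l ⟨(nat_lit 0x140000d), (nat_lit 0x7ceb1c832), (nat_lit 0x1b4684283a), (nat_lit 0)⟩)
 (.l ⟨(nat_lit 0xa00015), (nat_lit 0x641d07012), (nat_lit 0xaf01c05005515c990), (nat_lit 0)⟩)))
 (.n (.n (.l ⟨(nat_lit 0xc0000d), (nat_lit 0x155560480d), (nat_lit 0x1916047060), (nat_lit 0)⟩)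
 (.l ⟨(nat_lit 0xc0000d), (nat_lit 0x220641307012), (nat_lit 0xa5012288850d95), (nat_lit 0)⟩))
 (.l ⟨(nat_lit 0xa0000d), (nat_lit 0x210701e), (nat_lit 0x321f81f024050054d67958), (nat_lit 0)⟩)))
 (.n (.n (.n (.l ⟨(nat_lit 0xc0000d), (nat_lit 0x1401d55423), (nat_lit 0x54224d458), (nat_lit 0)⟩)
 (.l ⟨(nat_lit 0xc0000d), (nat_lit 0x141e0700707013), (nat_lit 0x191c93105d4d5b976), (nat_lit 0)⟩))
 (.l ⟨(nat_lit 0xc0000b), (nat_lit 0x150141e), (nat_lit 0x491ec1f12d4f58172), (nat_lit 0)⟩))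
 (.n (.n (.l ⟨(nat_lit 0xe0000d), (nat_lit 0x445d61c1a), (nat_lit 0x70795d073), (nat_lit 0)⟩)
 (.l ⟨(nat_lit 0x40000f), (nat_lit 0), (nat_lit 0x301401), (nat_lit 0)⟩))
 (.l ⟨(nat_lit 0xc0000d), (nat_lit 0x14100641d), (nat_lit 0x4d52483050050055a63549), (nat_lit 0)⟩))))
 (.n (.n (.n (.n (.l ⟨(nat_lit 0xc0000b), (nat_lit 0x666441719805), (nat_lit 0xc51e14c3c), (nat_lit 0)⟩)
 (.l ⟨(nat_lit 0xc0000d), (nat_lit 0x130681706415), (nat_lit 0x231a4883e80500586), (nat_lit 0)⟩))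
 (.l ⟨(nat_lit 0xc0000b), (nat_lit 0x48120141407007), (nat_lit 0x44f810d1b54182), (nat_lit 0)⟩))
 (.n (.n (.l ⟨(nat_lit 0xc0000d), (nat_lit 0x59560e865), (nat_lit 0x1a19121073), (nat_lit 0)⟩)
 (.l ⟨(nat_lit 0xc0000d), (nat_lit 0x70140701207007), (nat_lit 0x493cc850f14167970), (nat_lit 0)⟩))
 (.l ⟨(nat_lit 0xc0000d), (nat_lit 0x141307011), (nat_lit 0x1203c754a14d5458a), (nat_lit 0)⟩)))
 (.n (.n (.n (.l ⟨(nat_lit 0xc0000d), (nat_lit 0x3b15c6c1d801), (nat_lit 0xc0b665871), (nat_lit 0)⟩)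
 (.l ⟨(nat_lit 0xc0000d), (nat_lit 0x14170641407010), (nat_lit 0x3b1745011d615f96b), (nat_lit 0)⟩))
 (.l ⟨(nat_lit 0x140000d), (nat_lit 0x1504c03), (nat_lit 0x1c664203dd4c), (nat_lit 0)⟩))
 (.n (.n (.l ⟨(nat_lit 0x120000d), (nat_lit 0x110544bc2a), (nat_lit 0xc94013813), (nat_lit 0)⟩)
 (.l ⟨(nat_lit 0xc00013), (nat_lit 0x200141d), (nat_lit 0x12111f1a0050054a64d73), (nat_lit 0)⟩))
 (.l ⟨(nat_lit 0xc0000d), (nat_lit 0x401e07011), (nat_lit 0x6014d180ed4f), (nat_lit 0)⟩)))))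
 (.n (.n (.n (.n (.n (.l ⟨(nat_lit 0xc0000b), (nat_lit 0x63c6a2ec53), (nat_lit 0xc53605c8a), (nat_lit 0)⟩)
 (.l ⟨(nat_lit 0xa0000d), (nat_lit 0x681806c1807012), (nat_lit 0x52155802ec05005455fd5f), (nat_lit 0)⟩))
 (.n (.l ⟨(nat_lit 0xc00007), (nat_lit 0x100641206415), (nat_lit 0x5913481080050055067966), (nat_lit 0)⟩)
 (.l ⟨(nat_lit 0xc00015), (nat_lit 0x141e0681f07012), (nat_lit 0x17891358130140153559), (nat_lit 0)⟩)))
 (.n (.n (.l ⟨(nat_lit 0xc0000d), (nat_lit 0x1905f1940e), (nat_lit 0xe4595e11a), (nat_lit 0)⟩)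
 (.l ⟨(nat_lit 0xe0000d), (nat_lit 0x64150681207007), (nat_lit 0x6121d303cd455c97b), (nat_lit 0)⟩))
 (.l ⟨(nat_lit 0xc0000d), (nat_lit 0x6c0f06c0f06820), (nat_lit 0x434999a1e405005525a982), (nat_lit 0)⟩)))
 (.n (.n (.n (.l ⟨(nat_lit 0xc0000d), (nat_lit 0x5917224d3), (nat_lit 0x1656d02c69), (nat_lit 0)⟩)
 (.l ⟨(nat_lit 0xc0000d), (nat_lit 0x706c1307016), (nat_lit 0x22080551e8050054d62d90), (nat_lit 0)⟩))
 (.l ⟨(nat_lit 0x60000d), (nat_lit 0x160681206416), (nat_lit 0x1ca201c050054c5e17f), (nat_lit 0)⟩))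
 (.n (.n (.l ⟨(nat_lit 0x120000d), (nat_lit 0x151766785c), (nat_lit 0x35688321401), (nat_lit 0)⟩)
 (.l ⟨(nat_lit 0xc0000f), (nat_lit 0x5c210680f07007), (nat_lit 0x306084d2cc050054958d98), (nat_lit 0)⟩))
 (.l ⟨(nat_lit 0xc0000d), (nat_lit 0x1b0841a04403), (nat_lit 0x5b62016045595d58d), (nat_lit 0)⟩))))
 (.n (.n (.n (.n (.l ⟨(nat_lit 0xc0000d), (nat_lit 0x609f1983c), (nat_lit 0x1b04465c33), (nat_lit 0)⟩)
 (.l ⟨(nat_lit 0xc0000d), (nat_lit 0x6c210682207014), (nat_lit 0x2156d6583c0140166d6f), (nat_lit 0)⟩))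
 (.l ⟨(nat_lit 0xa0000b), (nat_lit 0x741c03811), (nat_lit 0x5d3058f09d455f993), (nat_lit 0)⟩))
 (.n (.n (.l ⟨(nat_lit 0x60000d), (nat_lit 0x13c4b10c80), (nat_lit 0x2c6e1bc4c), (nat_lit 0)⟩)
 (.l ⟨(nat_lit 0xc0000d), (nat_lit 0x160141d01416), (nat_lit 0x134348714005005475d973), (nat_lit 0)⟩))
 (.l ⟨(nat_lit 0xc0000d), (nat_lit 0x682106415), (nat_lit 0x741caf05805005495597e), (nat_lit 0)⟩)))
 (.n (.n (.n (.l ⟨(nat_lit 0xc0000d), (nat_lit 0x2dc7720809), (nat_lit 0x509514020), (nat_lit 0)⟩)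
 (.l ⟨(nat_lit 0x60000d), (nat_lit 0x641e0140f07012), (nat_lit 0x5d1945d481515ad72), (nat_lit 0)⟩))
 (.l ⟨(nat_lit 0xc0000d), (nat_lit 0x880503c03), (nat_lit 0x45484224454360564), (nat_lit 0)⟩))
 (.n (.n (.l ⟨(nat_lit 0x140000d), (nat_lit 0x415955c07), (nat_lit 0x6a0e9973894562977020030140101007), (nat_lit 0)⟩)
 (.l ⟨(nat_lit 0xc00013), (nat_lit 0x706c1d), (nat_lit 0x1b9281108400c05005525d161), (nat_lit 0)⟩))
 (.l ⟨(nat_lit 0xc0000d), (nat_lit 0x160141607011), (nat_lit 0x1861c31605475a190), (nat_lit 0)⟩)))))))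
 (.n (.n (.n (.n (.n (.n (.n (.l ⟨(nat_lit 0x600007), (nat_lit 0xeb11059), (nat_lit 0x291690c161456197a0080602407014080280c0300c02407014080280b01c05020050040802c0b), (nat_lit 0)⟩)
 (.l ⟨(nat_lit 0x80000d), (nat_lit 0x160681e07011), (nat_lit 0x1445866c05005455698c), (nat_lit 0)⟩))
 (.n (.l ⟨(nat_lit 0x140000d), (nat_lit 0xa81867011), (nat_lit 0x38571c155), (nat_lit 0)⟩)
 (.l ⟨(nat_lit 0xa00015), (nat_lit 0x70180641307007), (nat_lit 0x96402a434050056e5e15e), (nat_lit 0)⟩)))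
 (.n (.n (.l ⟨(nat_lit 0xc0000d), (nat_lit 0x48b220495), (nat_lit 0x15d570d04c), (nat_lit 0)⟩)
 (.l ⟨(nat_lit 0xc0000d), (nat_lit 0x210681407013), (nat_lit 0x1400d4f3074050055059159), (nat_lit 0)⟩))
 (.l ⟨(nat_lit 0xe0000d), (nat_lit 0xf0682207010), (nat_lit 0x140124cc165757d), (nat_lit 0)⟩)))
 (.n (.n (.n (.l ⟨(nat_lit 0xc0000d), (nat_lit 0x1217515c12), (nat_lit 0x624187243c01), (nat_lit 0)⟩)
 (.l ⟨(nat_lit 0xc0000d), (nat_lit 0x2106c1207012), (nat_lit 0x5c5a0815ed4d5ed78), (nat_lit 0)⟩))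
 (.l ⟨(nat_lit 0xe0000b), (nat_lit 0x1e0681207011), (nat_lit 0x205ac50159515c960), (nat_lit 0)⟩))
 (.n (.n (.l ⟨(nat_lit 0xe0000d), (nat_lit 0x590805d10801), (nat_lit 0x553761078), (nat_lit 0)⟩)
 (.l ⟨(nat_lit 0xc0000d), (nat_lit 0x2006c070681f), (nat_lit 0x19575164800140159988), (nat_lit 0)⟩))
 (.l ⟨(nat_lit 0xc0000d), (nat_lit 0x210641107007), (nat_lit 0x3c1e98019c050055a60d52), (nat_lit 0)⟩))))
 (.n (.n (.n (.n (.l ⟨(nat_lit 0xc0000b), (nat_lit 0x70931781f), (nat_lit 0x5c7530459), (nat_lit 0)⟩)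
 (.l ⟨(nat_lit 0xc0000d), (nat_lit 0x13070180641e), (nat_lit 0x1e120753ed525d584), (nat_lit 0)⟩))
 (.l ⟨(nat_lit 0xc00009), (nat_lit 0x1d0140f07011), (nat_lit 0x1913d20155525e163), (nat_lit 0)⟩))
 (.n (.n (.l ⟨(nat_lit 0xc0000d), (nat_lit 0x348730874), (nat_lit 0x5c3a170d5), (nat_lit 0)⟩)
 (.l ⟨(nat_lit 0xc0000d), (nat_lit 0x1e06c2207013), (nat_lit 0x5a20c6e4dc050055360564), (nat_lit 0)⟩))
 (.l ⟨(nat_lit 0xc0000d), (nat_lit 0x1b0341d07011), (nat_lit 0x1bc841493b014015d992), (nat_lit 0)⟩)))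
 (.n (.n (.n (.l ⟨(nat_lit 0xc0000d), (nat_lit 0x188b516014), (nat_lit 0x3443cd31bd5162591020030140101007), (nat_lit 0)⟩)
 (.l ⟨(nat_lit 0xc0000d), (nat_lit 0x1d0682206c1f), (nat_lit 0x672c929219506315d), (nat_lit 0)⟩))
 (.l ⟨(nat_lit 0xc0000d), (nat_lit 0x160681506c1d), (nat_lit 0x1320d88049435fd97), (nat_lit 0)⟩))
 (.n (.n (.l ⟨(nat_lit 0x120000d), (nat_lit 0xd84416839), (nat_lit 0x546d09c27), (nat_lit 0)⟩)
 (.l ⟨(nat_lit 0xc00013), (nat_lit 0x1406c1d07007), (nat_lit 0x701145504805005586215b), (nat_lit 0)⟩))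
 (.l ⟨(nat_lit 0x140000d), (nat_lit 0x120680f07012), (nat_lit 0x7d07d5f1254165d70), (nat_lit 0)⟩)))))
 (.n (.n (.n (.n (.n (.l ⟨(nat_lit 0xc0000b), (nat_lit 0x1087844463), (nat_lit 0x17cc21545c), (nat_lit 0)⟩)
 (.l ⟨(nat_lit 0xc0000d), (nat_lit 0x40210140707007), (nat_lit 0x3a3dd6008005005435997c), (nat_lit 0)⟩))
 (.n (.l ⟨(nat_lit 0xc00007), (nat_lit 0x681206c1f07013), (nat_lit 0x234456d01d6859564), (nat_lit 0)⟩)
 (.l ⟨(nat_lit 0xc00015), (nat_lit 0x1106c1407011), (nat_lit 0x123f5991d8050054c6494d), (nat_lit 0)⟩)))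
 (.n (.n (.l ⟨(nat_lit 0xc0000d), (nat_lit 0x1445820c7e), (nat_lit 0x1841a4a80c), (nat_lit 0)⟩)
 (.l ⟨(nat_lit 0xc0000d), (nat_lit 0x14200640707007), (nat_lit 0x562057a01d4c5c583), (nat_lit 0)⟩))
 (.l ⟨(nat_lit 0xa0000d), (nat_lit 0x110141f), (nat_lit 0x31904cc5d0140151d74), (nat_lit 0)⟩)))
 (.n (.n (.n (.l ⟨(nat_lit 0xc0000d), (nat_lit 0x1805813c69), (nat_lit 0x355a1742153d6065c08), (nat_lit 0)⟩)
 (.l ⟨(nat_lit 0xc0000d), (nat_lit 0x70130701e07011), (nat_lit 0x1691c0706f01401505926300800c050040401d4963949), (nat_lit 0)⟩))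
 (.l ⟨(nat_lit 0xc0000d), (nat_lit 7), (nat_lit 0x619664d45), (nat_lit 0)⟩))
 (.n (.n (.l ⟨(nat_lit 0x120000b), (nat_lit 0x1212c10c1d), (nat_lit 0x2c7207559), (nat_lit 0)⟩)
 (.l ⟨(nat_lit 0xa0000f), (nat_lit 0x6c220141006415), (nat_lit 0x447864c1a004050054164d95), (nat_lit 0)⟩))
 (.l ⟨(nat_lit 0xa0000d), (nat_lit 0x210641707014), (nat_lit 0x621bcb83f0050054166180), (nat_lit 0)⟩))))
 (.n (.n (.n (.n (.l ⟨(nat_lit 0xc0000d), (nat_lit 0x4d7b40810), (nat_lit 0x1156908443), (nat_lit 0)⟩)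
 (.l ⟨(nat_lit 0xc0000d), (nat_lit 0x1e06c1207010), (nat_lit 0x171c8fe0d805005515b979), (nat_lit 0)⟩))
 (.l ⟨(nat_lit 0x140000b), (nat_lit 27681), (nat_lit 0x6205525d4a5fd7f02003014010100751d4b), (nat_lit 0)⟩))
 (.n (.n (.l ⟨(nat_lit 0xc0000d), (nat_lit 0xa88017453), (nat_lit 0x1688518516), (nat_lit 0)⟩)
 (.l ⟨(nat_lit 0xc0000d), (nat_lit 0x54200141707007), (nat_lit 0x576707306d545919d), (nat_lit 0)⟩))
 (.l ⟨(nat_lit 0xc0000d), (nat_lit 0x381d01415), (nat_lit 0x6a071210ed4164d5f), (nat_lit 0)⟩)))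
 (.n (.n (.n (.l ⟨(nat_lit 0xc0000d), (nat_lit 0xa8f438478), (nat_lit 0x70ff5d02f), (nat_lit 0)⟩)
 (.l ⟨(nat_lit 0xc0000d), (nat_lit 0x641706c2201415), (nat_lit 0x354a5391fd5959572), (nat_lit 0)⟩))
 (.l ⟨(nat_lit 0xc0000d), (nat_lit 0x6c1d06821), (nat_lit 0x6e1ec830c0050054d62170), (nat_lit 0)⟩))
 (.n (.n (.l ⟨(nat_lit 0x140000b), (nat_lit 0x5d593e410), (nat_lit 0x11d7e1f45f), (nat_lit 0)⟩)
 (.l ⟨(nat_lit 0xc00013), (nat_lit 0x6c2007013), (nat_lit 0x681f56c00c050055063d5e), (nat_lit 0)⟩))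
 (.l ⟨(nat_lit 0xc0000d), (nat_lit 0x681d0681207012), (nat_lit 0x601c97b014050055366985), (nat_lit 0)⟩))))))
 (.n (.n (.n (.n (.n (.n (.l ⟨(nat_lit 0xc00009), (nat_lit 0x511619b), (nat_lit 0x191660a028), (nat_lit 0)⟩)
 (.l ⟨(nat_lit 0x140000d), (nat_lit 0x160641e07010), (nat_lit 0x1a47e1b16d53d8a), (nat_lit 0)⟩))
 (.n (.l ⟨(nat_lit 0x140000d), (nat_lit 0x170a14445a), (nat_lit 0x170151d127), (nat_lit 0)⟩)
 (.l ⟨(nat_lit 0xc00015), (nat_lit 0x200681206415), (nat_lit 0x2461d96040050054d5d954), (nat_lit 0)⟩)))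
 (.n (.n (.l ⟨(nat_lit 0xc0000d), (nat_lit 0xe53657807), (nat_lit 0x1b8f856416), (nat_lit 0)⟩)
 (.l ⟨(nat_lit 0xa0000d), (nat_lit 0x5c210140707011), (nat_lit 0x1f1697a198050055a5a552), (nat_lit 0)⟩))
 (.l ⟨(nat_lit 0xc0000d), (nat_lit 0xf0682207013), (nat_lit 0x58101370394562579), (nat_lit 0)⟩)))
 (.n (.n (.n (.l ⟨(nat_lit 0xc0000d), (nat_lit 0xc58e1e4f8), (nat_lit 0x5d4886004b), (nat_lit 0)⟩)
 (.l ⟨(nat_lit 0xc0000d), (nat_lit 0x1406c2207011), (nat_lit 0x1d30448655b988554020180a00c020180401d5255d76), (nat_lit 0)⟩))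
 (.l ⟨(nat_lit 0xc0000b), (nat_lit 0x68160681d), (nat_lit 0x6e0f1831e5456754a), (nat_lit 0)⟩))
 (.n (.n (.l ⟨(nat_lit 0xe0000d), (nat_lit 0x1886828c5f), (nat_lit 0x1a88122016), (nat_lit 0)⟩)
 (.l ⟨(nat_lit 0xa0000f), (nat_lit 0x1f0141f06c16), (nat_lit 0x505a42a14c05005545994d), (nat_lit 0)⟩))
 (.l ⟨(nat_lit 0xc0000d), (nat_lit 0x401e0701207011), (nat_lit 0x1bc69208b35fd61), (nat_lit 0)⟩))))
 (.n (.n (.n (.n (.l ⟨(nat_lit 0xc0000b), (nat_lit 0x5c2716431), (nat_lit 0x1a4f10451a), (nat_lit 0)⟩)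
 (.l ⟨(nat_lit 0xc0000d), (nat_lit 0x682006420), (nat_lit 0x6e41c1f004050054f6416d), (nat_lit 0)⟩))
 (.l ⟨(nat_lit 0x80000b), (nat_lit 14348), (nat_lit 0x40502c050055059190), (nat_lit 0)⟩))
 (.n (.n (.l ⟨(nat_lit 0xc0000d), (nat_lit 0x11c74208f2), (nat_lit 0x74c1121956e6215500806028030080601007), (nat_lit 0)⟩)
 (.l ⟨(nat_lit 0xc0000d), (nat_lit 0x1406c1107014), (nat_lit 0x424904b1e1785340800c050040401d4d58d85), (nat_lit 0)⟩))
 (.l ⟨(nat_lit 0xc0000d), (nat_lit 0x241307007), (nat_lit 0x178c21d9935e58c), (nat_lit 0)⟩)))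
 (.n (.n (.n (.l ⟨(nat_lit 0xc0000d), (nat_lit 0x16c31500f1), (nat_lit 0x1898f18834), (nat_lit 0)⟩)
 (.l ⟨(nat_lit 0xc0000d), (nat_lit 0x1806c1f06c16), (nat_lit 0x3213c580c15156155), (nat_lit 0)⟩))
 (.l ⟨(nat_lit 0xc0000d), (nat_lit 0x160141107014), (nat_lit 0x4c1e5640154963d80), (nat_lit 0)⟩))
 (.n (.n (.l ⟨(nat_lit 0x120000f), (nat_lit 0x13c562f506), (nat_lit 0x1386256874), (nat_lit 0)⟩)
 (.l ⟨(nat_lit 0xc00013), (nat_lit 0x1e0642107014), (nat_lit 0xf0f18c16c0500577), (nat_lit 0)⟩))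
 (.l ⟨(nat_lit 0xc0000d), (nat_lit 0x642207011), (nat_lit 0x19d601f0f960d59), (nat_lit 0)⟩)))))
 (.n (.n (.n (.n (.n (.l ⟨(nat_lit 0xc0000b), (nat_lit 0xa53649412), (nat_lit 0x705a10427), (nat_lit 0)⟩)
 (.l ⟨(nat_lit 0x140000d), (nat_lit 0x14140641e), (nat_lit 0x7d92040690054167550), (nat_lit 0)⟩))
 (.n (.l ⟨(nat_lit 0xc00007), (nat_lit 0x140641406816), (nat_lit 0x615d80c090050054c5b183), (nat_lit 0)⟩)
 (.l ⟨(nat_lit 0xc00015), (nat_lit 0x702107007), (nat_lit 0x1d2184d560050054352d8c), (nat_lit 0)⟩)))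
 (.n (.n (.l ⟨(nat_lit 0xc0000d), (nat_lit 0xe4683b040), (nat_lit 0x15c1f5a809), (nat_lit 0)⟩)
 (.l ⟨(nat_lit 0xc0000d), (nat_lit 0x641d0701107007), (nat_lit 0x14d104fc12014016298f), (nat_lit 0)⟩))
 (.l ⟨(nat_lit 0xc0000d), (nat_lit 0x140682207010), (nat_lit 0x47069270555256989), (nat_lit 0)⟩)))
 (.n (.n (.n (.l ⟨(nat_lit 0xc0000d), (nat_lit 0x907b57c6d), (nat_lit 0x1112b21c83), (nat_lit 0)⟩)
 (.l ⟨(nat_lit 0xc0000d), (nat_lit 0x701d0700707007), (nat_lit 0x6448c6002c050054363164), (nat_lit 0)⟩))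
 (.l ⟨(nat_lit 0xa0000d), (nat_lit 0x70100641407007), (nat_lit 0x511818a468050054a5618e), (nat_lit 0)⟩))
 (.n (.n (.l ⟨(nat_lit 0x120000d), (nat_lit 0xb321452), (nat_lit 0x313f5201bc03), (nat_lit 0)⟩)
 (.l ⟨(nat_lit 0x1000010), (nat_lit 0x1904c1c058190741c05019), (nat_lit 0), (nat_lit 0)⟩))
 (.l ⟨(nat_lit 0xc0000d), (nat_lit 0x1f06c1801415), (nat_lit 0x1f1f99a2e14364966), (nat_lit 0)⟩))))
 (.n (.n (.n (.n (.l ⟨(nat_lit 0xc0000d), (nat_lit 0x1d9e12c4e), (nat_lit 0x22188754b401), (nat_lit 0)⟩)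
 (.l ⟨(nat_lit 0xc0000d), (nat_lit 0x120640f07012), (nat_lit 0x5a478721c005005505956e), (nat_lit 0)⟩))
 (.l ⟨(nat_lit 0xc0000b), (nat_lit 0x741b0481905c03), (nat_lit 0x414f83463d515f98f02141), (nat_lit 0)⟩))
 (.n (.n (.l ⟨(nat_lit 0xc0000d), (nat_lit 0x1b86320c47), (nat_lit 0x1a929200750055962d5f0080602407014080280c0300c02407014080280b01c05020050040802c0b), (nat_lit 0)⟩)
 (.l ⟨(nat_lit 0xc0000d), (nat_lit 0x88140681407007), (nat_lit 0xe59d1a84b5999b), (nat_lit 0)⟩))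
 (.l ⟨(nat_lit 0xc0000d), (nat_lit 0x1f0681e07007), (nat_lit 0x1a85048885014016216f), (nat_lit 0)⟩)))
 (.n (.n (.n (.l ⟨(nat_lit 0xc0000d), (nat_lit 0x164f71a874), (nat_lit 0x758d1dcd4), (nat_lit 0)⟩)
 (.l ⟨(nat_lit 0xc0000d), (nat_lit 0x441e0681307010), (nat_lit 0x144b8850ed4c5f195), (nat_lit 0)⟩))
 (.l ⟨(nat_lit 0xc0000d), (nat_lit 0x140681407012), (nat_lit 0x240d05010d6464163), (nat_lit 0)⟩))
 (.n (.n (.l ⟨(nat_lit 0x140000d), (nat_lit 0x9c6d1d417), (nat_lit 0x5243c131d401), (nat_lit 0)⟩)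
 (.l ⟨(nat_lit 0xc00013), (nat_lit 0x701e07017), (nat_lit 0x1a52b1f174014016214a), (nat_lit 0)⟩))
 (.l ⟨(nat_lit 0xc0000d), (nat_lit 0x2006c110701e), (nat_lit 0x6e460872f4050054f64591), (nat_lit 0)⟩)))))))
noncomputable def T7 : Tr :=
  .n (.n (.n (.n (.n (.n (.n (.n (.l ⟨(nat_lit 0x600003), (nat_lit 3084), (nat_lit 0), (nat_lit 0)⟩)
 (.l ⟨(nat_lit 0x80000d), (nat_lit 0x881501415), (nat_lit 0x4906e1601b0140150d89), (nat_lit 0)⟩))
 (.n (.l ⟨(nat_lit 0x140000d), (nat_lit 0xf115014), (nat_lit 0x713b0e525), (nat_lit 0)⟩)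
 (.l ⟨(nat_lit 0xc00013), (nat_lit 0x160682201416), (nat_lit 0x203e01501c050054f5b999), (nat_lit 0)⟩)))
 (.n (.n (.l ⟨(nat_lit 0xc0000d), (nat_lit 0x6cb81e4fe), (nat_lit 0x496103a), (nat_lit 0)⟩)
 (.l ⟨(nat_lit 0xc0000d), (nat_lit 0x641206c0707007), (nat_lit 0x3a6387a4bc050054366594), (nat_lit 0)⟩))
 (.l ⟨(nat_lit 0xc0000d), (nat_lit 0x1f01415), (nat_lit 0x322451b040050054c63976), (nat_lit 0)⟩)))
 (.n (.n (.n (.l ⟨(nat_lit 0xc0000d), (nat_lit 0x1a8c105921), (nat_lit 0x1145a4b415), (nat_lit 0)⟩)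
 (.l ⟨(nat_lit 0xc0000d), (nat_lit 0x641d0681607007), (nat_lit 0x12283b2894764186), (nat_lit 0)⟩))
 (.l ⟨(nat_lit 0xc0000b), (nat_lit 0x200702207010), (nat_lit 0xf34a45e121565456e), (nat_lit 0)⟩))
 (.n (.n (.l ⟨(nat_lit 0xe00005), (nat_lit 0x304715999), (nat_lit 0x14c6559b00806028030080601007), (nat_lit 0)⟩)
 (.l ⟨(nat_lit 0xc0000d), (nat_lit 0x210701e06c1d), (nat_lit 0x348814005005535b18d), (nat_lit 0)⟩))
 (.l ⟨(nat_lit 0xc0000d), (nat_lit 0x1e0141f06415), (nat_lit 0x16c31500f10140162987), (nat_lit 0)⟩))))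
 (.n (.n (.n (.n (.l ⟨(nat_lit 0xc0000b), (nat_lit 0x130766485b), (nat_lit 0x1a85743457), (nat_lit 0)⟩)
 (.l ⟨(nat_lit 0xc0000d), (nat_lit 0x1d0142007012), (nat_lit 0x421ec623ad4754196), (nat_lit 0)⟩))
 (.n (.l ⟨(nat_lit 0x600007), (nat_lit 0x1e0701206415), (nat_lit 0x1f2e083245495699b), (nat_lit 0)⟩)
 (.l ⟨(nat_lit 0x1200015), (nat_lit 0x1e0141d07012), (nat_lit 0x651556b568050055754187), (nat_lit 0)⟩)))
 (.n (.n (.l ⟨(nat_lit 0xc0000d), (nat_lit 0x1b0d663434), (nat_lit 0xcb6140bb), (nat_lit 0)⟩)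
 (.l ⟨(nat_lit 0xc0000d), (nat_lit 0x84170700707007), (nat_lit 0x1713f18034014015a97c), (nat_lit 0)⟩))
 (.l ⟨(nat_lit 0xc0000d), (nat_lit 0x1e0681801415), (nat_lit 0x198140e9390140157d7a6780800c050040401d4165d57), (nat_lit 0)⟩)))
 (.n (.n (.n (.l ⟨(nat_lit 0xc0000d), (nat_lit 0x184b157033), (nat_lit 0x1657e21597), (nat_lit 0)⟩)
 (.l ⟨(nat_lit 0x60000d), (nat_lit 0x2106c1707010), (nat_lit 0xc2081e149646415b), (nat_lit 0)⟩))
 (.l ⟨(nat_lit 0x140000d), (nat_lit 12308), (nat_lit 0x1a83a65ce259155), (nat_lit 0)⟩))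
 (.n (.n (.l ⟨(nat_lit 0x120000d), (nat_lit 0x27c4e4a84e), (nat_lit 0x1840d48856), (nat_lit 0)⟩)
 (.l ⟨(nat_lit 0x1200012), (nat_lit 0x30801a078190581c0740501c03), (nat_lit 0), (nat_lit 0)⟩))
 (.l ⟨(nat_lit 0xa0000d), (nat_lit 0x70160640707007), (nat_lit 0x434c80b014050054f6659b), (nat_lit 0)⟩)))))
 (.n (.n (.n (.n (.n (.l ⟨(nat_lit 0xc00009), (nat_lit 0x120401d884), (nat_lit 0x644f48055), (nat_lit 0)⟩)
 (.l ⟨(nat_lit 0x120000d), (nat_lit 0x180680f07012), (nat_lit 0x5d13d9a0354558d94), (nat_lit 0)⟩))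
 (.n (.l ⟨(nat_lit 0x1400013), (nat_lit 0x6a1fcf216401), (nat_lit 0x6788109c35), (nat_lit 0)⟩)
 (.l ⟨(nat_lit 0xc00015), (nat_lit 0x1406c1407010), (nat_lit 0x2919c481b8050056866d95), (nat_lit 0)⟩)))
 (.n (.n (.l ⟨(nat_lit 0xc0000d), (nat_lit 0x1148300461), (nat_lit 0x68884a014), (nat_lit 0)⟩)
 (.l ⟨(nat_lit 0xc0000d), (nat_lit 0x701406c1107011), (nat_lit 0x4465594c45ad71), (nat_lit 0)⟩))
 (.l ⟨(nat_lit 0xc0000d), (nat_lit 0xe06c1507007), (nat_lit 0x1709c7204805005495d99d), (nat_lit 0)⟩)))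
 (.n (.n (.n (.l ⟨(nat_lit 0xc0000d), (nat_lit 0x794a0ec84), (nat_lit 0x74723dc50), (nat_lit 0)⟩)
 (.l ⟨(nat_lit 0x100000d), (nat_lit 0x16014100141f), (nat_lit 0x4d1c4f0545054f), (nat_lit 0)⟩))
 (.l ⟨(nat_lit 0xc0000b), (nat_lit 0x160141f0141f), (nat_lit 0x694017e0e55164d7a), (nat_lit 0)⟩))
 (.n (.n (.l ⟨(nat_lit 0xe0000d), (nat_lit 0x144831d581), (nat_lit 0x1b52f16d34), (nat_lit 0)⟩)
 (.l ⟨(nat_lit 0xa0000f), (nat_lit 0x601807007), (nat_lit 0x4409d840cc05005545d584), (nat_lit 0)⟩))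
 (.l ⟨(nat_lit 0xc0000d), (nat_lit 0x6c1d0681207012), (nat_lit 0x376748262c05005605f585), (nat_lit 0)⟩))))
 (.n (.n (.n (.n (.l ⟨(nat_lit 0xc0000d), (nat_lit 0x2354807), (nat_lit 0x617959807), (nat_lit 0)⟩)
 (.l ⟨(nat_lit 0xc0000d), (nat_lit 0x70110140707007), (nat_lit 0x1b1f1930514c6659c), (nat_lit 0)⟩))
 (.l ⟨(nat_lit 0x80000b), (nat_lit 0x80190740b), (nat_lit 0x148330140160d86), (nat_lit 0)⟩))
 (.n (.n (.l ⟨(nat_lit 0xc0000d), (nat_lit 0x17915160a1), (nat_lit 0x2052715023), (nat_lit 0)⟩)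
 (.l ⟨(nat_lit 0xc0000d), (nat_lit 0x1706c120701e), (nat_lit 0x115160074050055362594), (nat_lit 0)⟩))
 (.l ⟨(nat_lit 0xc0000d), (nat_lit 0x110701207011), (nat_lit 0x543f03658d435f57d), (nat_lit 0)⟩)))
 (.n (.n (.n (.l ⟨(nat_lit 0xc0000d), (nat_lit 0x104b16744f), (nat_lit 0x1204b1b862), (nat_lit 0)⟩)
 (.l ⟨(nat_lit 0xc0000d), (nat_lit 0x70642107007), (nat_lit 0x1a6445d0cc050054b57d65), (nat_lit 0)⟩))
 (.l ⟨(nat_lit 0xc0000d), (nat_lit 0x1d07010), (nat_lit 0x560644d3dc050055a61999), (nat_lit 0)⟩))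
 (.n (.n (.l ⟨(nat_lit 0x1200013), (nat_lit 0x911059), (nat_lit 0x141675940080602407014080280c0300c02407014080280b01c05020050040802c0b), (nat_lit 0)⟩)
 (.l ⟨(nat_lit 0xc00013), (nat_lit 0x581e0642207007), (nat_lit 0x2817c01014015e18f), (nat_lit 0)⟩))
 (.l ⟨(nat_lit 0xc0000d), (nat_lit 0x68150680707007), (nat_lit 0x51480c21e5416154b), (nat_lit 0)⟩))))))
 (.n (.n (.n (.n (.n (.n (.l ⟨(nat_lit 0xa00007), (nat_lit 0x17c853c487), (nat_lit 0x290f13204801), (nat_lit 0)⟩)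
 (.l ⟨(nat_lit 0xc0000d), (nat_lit 0x110641207011), (nat_lit 0x276586201d416516b), (nat_lit 0)⟩))
 (.n (.l ⟨(nat_lit 0x140000d), (nat_lit 0x410c64476), (nat_lit 0x4c15c7c4494d5a151020030140101007), (nat_lit 0)⟩)
 (.l ⟨(nat_lit 0xc00015), (nat_lit 0x64140641e), (nat_lit 0x5325c7d0a4050054154592), (nat_lit 0)⟩)))
 (.n (.n (.l ⟨(nat_lit 0xc0000d), (nat_lit 0x108074d45d), (nat_lit 0xf10255c5c), (nat_lit 0)⟩)
 (.l ⟨(nat_lit 0xc0000d), (nat_lit 0x130701e07012), (nat_lit 0x6447cd417005005596197f), (nat_lit 0)⟩))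
 (.l ⟨(nat_lit 0xc0000d), (nat_lit 0x70701f07013), (nat_lit 0x30594883e9495b964), (nat_lit 0)⟩)))
 (.n (.n (.n (.l ⟨(nat_lit 0xc0000d), (nat_lit 0x1495a12c66), (nat_lit 0x189120c138), (nat_lit 0)⟩)
 (.l ⟨(nat_lit 0xc0000d), (nat_lit 0x210682207007), (nat_lit 0x89074bc070140158d93), (nat_lit 0)⟩))
 (.l ⟨(nat_lit 0xc0000b), (nat_lit 0x210702106416), (nat_lit 0x5e545090a9565355f), (nat_lit 0)⟩))
 (.n (.n (.l ⟨(nat_lit 0xe0000d), (nat_lit 0xd95e44040), (nat_lit 0x90345f04b), (nat_lit 0)⟩)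
 (.l ⟨(nat_lit 0xc0000d), (nat_lit 0x840f0701207007), (nat_lit 0x4161870498050054c5e160), (nat_lit 0)⟩))
 (.l ⟨(nat_lit 0xc0000d), (nat_lit 0x801c05c1904c03), (nat_lit 0x170e85c355435dd63), (nat_lit 0)⟩))))
 (.n (.n (.n (.n (.l ⟨(nat_lit 0xc0000b), (nat_lit 0xdc125a05d), (nat_lit 0x179514242a), (nat_lit 0)⟩)
 (.l ⟨(nat_lit 0xc0000d), (nat_lit 0x160701d06815), (nat_lit 0xb1b0370455a6514b), (nat_lit 0)⟩))
 (.l ⟨(nat_lit 0xc00009), (nat_lit 0x17064140681f), (nat_lit 0x6a1f9751754163d4c), (nat_lit 0)⟩))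
 (.n (.n (.l ⟨(nat_lit 0xc0000d), (nat_lit 0x564a8b216003), (nat_lit 0x674711f14801), (nat_lit 0)⟩)
 (.l ⟨(nat_lit 0x120000d), (nat_lit 0x140641f01415), (nat_lit 0x1895686108d455e80800c050040401d5c62d5a), (nat_lit 0)⟩))
 (.l ⟨(nat_lit 0x140000d), (nat_lit 0x70130681007007), (nat_lit 0x1d1b0c14c14959569), (nat_lit 0)⟩)))
 (.n (.n (.n (.l ⟨(nat_lit 0xc0000d), (nat_lit 0x10d9513064), (nat_lit 0x440c46105401), (nat_lit 0)⟩)
 (.l ⟨(nat_lit 0xc0000d), (nat_lit 0x2106c2007007), (nat_lit 0x13d3147c1460d54), (nat_lit 0)⟩))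
 (.l ⟨(nat_lit 0xc0000d), (nat_lit 0x2201c03), (nat_lit 0x1112d920c9515954d), (nat_lit 0)⟩))
 (.n (.n (.l ⟨(nat_lit 0x120000d), (nat_lit 0x5e3b02215401), (nat_lit 0xd5a20c850054353d7d020030140101007), (nat_lit 0)⟩)
 (.l ⟨(nat_lit 0xa00013), (nat_lit 0x1f0700707007), (nat_lit 0x5d544540cc050054961563), (nat_lit 0)⟩))
 (.l ⟨(nat_lit 0xc0000d), (nat_lit 0x106c0f0641e), (nat_lit 0x2719906031636617a), (nat_lit 0)⟩)))))
 (.n (.n (.n (.n (.n (.l ⟨(nat_lit 0xc0000b), (nat_lit 0x84bc4dc30), (nat_lit 0x1053e0d18f5457e63c08), (nat_lit 0)⟩)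
 (.l ⟨(nat_lit 0xa0000d), (nat_lit 0x642107017), (nat_lit 0x530d04b188050054a67587), (nat_lit 0)⟩))
 (.n (.l ⟨(nat_lit 0xc00007), (nat_lit 0x6c1306c0f0701e), (nat_lit 0x8d86090016516b), (nat_lit 0)⟩)
 (.l ⟨(nat_lit 0xc00015), (nat_lit 0x6c1e06c1807010), (nat_lit 0x391093f05c050056e6354c), (nat_lit 0)⟩)))
 (.n (.n (.l ⟨(nat_lit 0xc0000d), (nat_lit 0xcc7619957), (nat_lit 0x4b89f1f009), (nat_lit 0)⟩)
 (.l ⟨(nat_lit 0xc0000d), (nat_lit 0x220681307011), (nat_lit 0x6f4ed5608005005515ed75), (nat_lit 0)⟩))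
 (.l ⟨(nat_lit 0xc0000d), (nat_lit 0x1b0401b0601a04803), (nat_lit 0x374c06a18c050055a67565), (nat_lit 0)⟩)))
 (.n (.n (.n (.l ⟨(nat_lit 0xc0000d), (nat_lit 0x54d2170bb), (nat_lit 0x1995512412), (nat_lit 0)⟩)
 (.l ⟨(nat_lit 0xc0000d), (nat_lit 0x1806c2207010), (nat_lit 0x5c07c664214d58d7a), (nat_lit 0)⟩))
 (.l ⟨(nat_lit 0xc0000d), (nat_lit 33799), (nat_lit 0x124558a1a1525d584), (nat_lit 0)⟩))
 (.n (.n (.l ⟨(nat_lit 0x120000d), (nat_lit 0x100b51381a), (nat_lit 0x1a9235605b), (nat_lit 0)⟩)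
 (.l ⟨(nat_lit 0xc0000f), (nat_lit 0x106c1807016), (nat_lit 0x814182901c05005435316a), (nat_lit 0)⟩))
 (.l ⟨(nat_lit 0xc0000d), (nat_lit 0x706c1606815), (nat_lit 0x88683e0270140162172), (nat_lit 0)⟩))))
 (.n (.n (.n (.n (.l ⟨(nat_lit 0xc0000d), (nat_lit 0x1424417), (nat_lit 0x174fe47012), (nat_lit 0)⟩)
 (.l ⟨(nat_lit 0xc0000d), (nat_lit 0x541a0800501c03), (nat_lit 0x6210822005605a18f), (nat_lit 0)⟩))
 (.l ⟨(nat_lit 0xc0000b), (nat_lit 0x841706415), (nat_lit 0xa2204760514c5e59d), (nat_lit 0)⟩))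
 (.n (.n (.l ⟨(nat_lit 0xc0000d), (nat_lit 0x34575e870), (nat_lit 0x1a0211986a), (nat_lit 0)⟩)
 (.l ⟨(nat_lit 0xc0000d), (nat_lit 0x6c1e0700707007), (nat_lit 0x7d921c005005455656f), (nat_lit 0)⟩))
 (.l ⟨(nat_lit 0x140000d), (nat_lit 0x602007007), (nat_lit 0x6541c275a94164d4d), (nat_lit 0)⟩)))
 (.n (.n (.n (.l ⟨(nat_lit 0xc0000d), (nat_lit 0x1915e0cc75), (nat_lit 0xc46b2d814), (nat_lit 0)⟩)
 (.l ⟨(nat_lit 0xc0000d), (nat_lit 0x14160701d07013), (nat_lit 0x3a1a8745ac05005505e14a), (nat_lit 0)⟩))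
 (.l ⟨(nat_lit 0xc0000d), (nat_lit 0x210701e0141007007), (nat_lit 0x4220d3160405005495ed52), (nat_lit 0)⟩))
 (.n (.n (.l ⟨(nat_lit 0x140000b), (nat_lit 0x751507cc3), (nat_lit 0x5c5a4fc7f), (nat_lit 0)⟩)
 (.l ⟨(nat_lit 0xc00013), (nat_lit 0x16068150141e), (nat_lit 0x138ec14c3301c05005515b952), (nat_lit 0)⟩))
 (.l ⟨(nat_lit 0xc0000d), (nat_lit 0x842006c1407007), (nat_lit 0x1a09409c8664d56), (nat_lit 0)⟩)))))))
 (.n (.n (.n (.n (.n (.n (.n (.l ⟨(nat_lit 0x600006), (nat_lit 187618), (nat_lit 0), (nat_lit 0)⟩)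
 (.l ⟨(nat_lit 0xe0000d), (nat_lit 0x6c1406c21), (nat_lit 0x88544294a53d98), (nat_lit 0)⟩))
 (.n (.l ⟨(nat_lit 0x140000d), (nat_lit 0x1a8eb14151), (nat_lit 0x1398e0bd010054a5959d020030140101007), (nat_lit 0)⟩)
 (.l ⟨(nat_lit 0xc00015), (nat_lit 0x1d0142207013), (nat_lit 0x271b47505c050055166575), (nat_lit 0)⟩)))
 (.n (.n (.l ⟨(nat_lit 0xc0000d), (nat_lit 0x10d1c4ec6c), (nat_lit 0xd4881f437), (nat_lit 0)⟩)
 (.l ⟨(nat_lit 0xc0000d), (nat_lit 0xf06c1d0681e), (nat_lit 0x3535886150050054a5956a), (nat_lit 0)⟩))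
 (.l ⟨(nat_lit 0xc0000d), (nat_lit 0x22014100641d), (nat_lit 0x4543cbc078050054a65180), (nat_lit 0)⟩)))
 (.n (.n (.n (.l ⟨(nat_lit 0xc0000d), (nat_lit 0x1746e34c0d), (nat_lit 0x511c801151645bd9b0080602407014080280c0300c02407014080280b01c05020050040802c0b), (nat_lit 0)⟩)
 (.l ⟨(nat_lit 0xc0000d), (nat_lit 0x780505c0504c03), (nat_lit 0x1084517423014015b16065c0800c050040401d4353173), (nat_lit 0)⟩))
 (.l ⟨(nat_lit 0xc0000b), (nat_lit 0x200701e01415), (nat_lit 0x10145c700c54164d60), (nat_lit 0)⟩))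
 (.n (.n (.l ⟨(nat_lit 0xe0000b), (nat_lit 0x141690a853), (nat_lit 0x1552c1583b), (nat_lit 0)⟩)
 (.l ⟨(nat_lit 0xc0000d), (nat_lit 0x741907c1901c03), (nat_lit 0x6921d26210050054159967), (nat_lit 0)⟩))
 (.l ⟨(nat_lit 0xc0000d), (nat_lit 0x1f06c1807016), (nat_lit 0x5c2886c200050054a5b584), (nat_lit 0)⟩))))
 (.n (.n (.n (.n (.l ⟨(nat_lit 0xc0000b), (nat_lit 0x49d601c80f), (nat_lit 0xbd651d836), (nat_lit 0)⟩)
 (.l ⟨(nat_lit 0xc0000d), (nat_lit 0x6c1e0681307007), (nat_lit 0xd4e07106805005475f171), (nat_lit 0)⟩))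
 (.l ⟨(nat_lit 0xc00009), (nat_lit 0x68210701d), (nat_lit 0x3758d9b02d455e152), (nat_lit 0)⟩))
 (.n (.n (.l ⟨(nat_lit 0xc0000d), (nat_lit 0x295d164), (nat_lit 0x718d3f02a), (nat_lit 0)⟩)
 (.l ⟨(nat_lit 0xc0000d), (nat_lit 0x1306c070141f), (nat_lit 0x51884b350050055e5c977), (nat_lit 0)⟩))
 (.l ⟨(nat_lit 0x120000d), (nat_lit 0x706c1307013), (nat_lit 0x38132189161d85), (nat_lit 0)⟩)))
 (.n (.n (.n (.l ⟨(nat_lit 0xc0000d), (nat_lit 0x1507c5ec4f), (nat_lit 0x487415934), (nat_lit 0)⟩)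
 (.l ⟨(nat_lit 0xc0000d), (nat_lit 0x200641e06c1d), (nat_lit 0x64140e108d506557f), (nat_lit 0)⟩))
 (.l ⟨(nat_lit 0xc0000d), (nat_lit 0x1e0681806c20), (nat_lit 0x6a49414549535f973), (nat_lit 0)⟩))
 (.n (.n (.l ⟨(nat_lit 0x120000d), (nat_lit 0x48447c68), (nat_lit 0x711528882), (nat_lit 0)⟩)
 (.l ⟨(nat_lit 0x1200013), (nat_lit 0x1d0141e), (nat_lit 0x4f4a40f1fd4164d95), (nat_lit 0)⟩))
 (.l ⟨(nat_lit 0xc0000d), (nat_lit 0x6c1806c1107014), (nat_lit 0x556043c01c05005765980800c050040401d476396b), (nat_lit 0)⟩)))))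
 (.n (.n (.n (.n (.n (.l ⟨(nat_lit 0xc0000b), (nat_lit 0xb0cc39), (nat_lit 0xdd845d407), (nat_lit 0)⟩)
 (.l ⟨(nat_lit 0xc0000d), (nat_lit 0x30210680707011), (nat_lit 0xd1dd7d1354760191), (nat_lit 0)⟩))
 (.n (.l ⟨(nat_lit 0x400005), (nat_lit 11), (nat_lit 0x114b6554050058c540020180c50543), (nat_lit 0)⟩)
 (.l ⟨(nat_lit 0xc00015), (nat_lit 0x70641407007), (nat_lit 0x35653105e014015f981), (nat_lit 0)⟩)))
 (.n (.n (.l ⟨(nat_lit 0xc0000d), (nat_lit 0x5a08713832), (nat_lit 0x1b13b64c15), (nat_lit 0)⟩)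
 (.l ⟨(nat_lit 0xc0000d), (nat_lit 0x150141307012), (nat_lit 0x1b0d663434014015294f), (nat_lit 0)⟩))
 (.l ⟨(nat_lit 0xc0000d), (nat_lit 0xf06420), (nat_lit 0x12b1f4fe05005005505f561), (nat_lit 0)⟩)))
 (.n (.n (.n (.l ⟨(nat_lit 0xc0000d), (nat_lit 0x13c535ad06), (nat_lit 0x134124c835), (nat_lit 0)⟩)
 (.l ⟨(nat_lit 0xc0000d), (nat_lit 0x2006c1407007), (nat_lit 0x63478740394d6715e), (nat_lit 0)⟩))
 (.l ⟨(nat_lit 0xc0000b), (nat_lit 0x3c1e07011), (nat_lit 0x66464820414764194), (nat_lit 0)⟩))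
 (.n (.n (.l ⟨(nat_lit 0x1200007), (nat_lit 0x150d34b834), (nat_lit 0x16764171020030140101007), (nat_lit 0)⟩)
 (.l ⟨(nat_lit 0xc0000f), (nat_lit 0x6c1f0141607007), (nat_lit 0x194fc4c05c050054d56583), (nat_lit 0)⟩))
 (.l ⟨(nat_lit 0x120000d), (nat_lit 0x16014140701e), (nat_lit 0x2a1ad3e4959157c0800c050040401d4157579), (nat_lit 0)⟩))))
 (.n (.n (.n (.n (.l ⟨(nat_lit 0xc0000d), (nat_lit 0x1044f1), (nat_lit 0xdd7741807), (nat_lit 0)⟩)
 (.l ⟨(nat_lit 0xc0000d), (nat_lit 0x504c1b03c03), (nat_lit 0x455a42110d476599c), (nat_lit 0)⟩))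
 (.l ⟨(nat_lit 0x140000b), (nat_lit 0x1706c1d06c1e), (nat_lit 0xd6b1741058558), (nat_lit 0)⟩))
 (.n (.n (.l ⟨(nat_lit 0xc0000d), (nat_lit 0x110d316c87), (nat_lit 0x15c375f445), (nat_lit 0)⟩)
 (.l ⟨(nat_lit 0xc0000d), (nat_lit 0x64120682007007), (nat_lit 0x240808500c050054163573), (nat_lit 0)⟩))
 (.l ⟨(nat_lit 0xc0000d), (nat_lit 0x110702107011), (nat_lit 0x652d44f0717555c0800c050040401d525e557), (nat_lit 0)⟩)))
 (.n (.n (.n (.l ⟨(nat_lit 0xc0000d), (nat_lit 0x1b91821cbd), (nat_lit 0x14850bc1d), (nat_lit 0)⟩)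
 (.l ⟨(nat_lit 0xc0000d), (nat_lit 0x701f06c1401416), (nat_lit 0x17544800c1416755e), (nat_lit 0)⟩))
 (.l ⟨(nat_lit 0xc0000d), (nat_lit 0x64220701d), (nat_lit 0x325f888615455e566), (nat_lit 0)⟩))
 (.n (.n (.l ⟨(nat_lit 0x1400009), (nat_lit 0xc0b45b06e), (nat_lit 0x19c176282f), (nat_lit 0)⟩)
 (.l ⟨(nat_lit 0x1200013), (nat_lit 0x14210141107012), (nat_lit 0x131b507048010140156966), (nat_lit 0)⟩))
 (.l ⟨(nat_lit 0xc0000d), (nat_lit 0x180680f06415), (nat_lit 0x545c0f06d014015e55b), (nat_lit 0)⟩))))))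
 (.n (.n (.n (.n (.n (.n (.l ⟨(nat_lit 0xc00007), (nat_lit 0xfc7564460), (nat_lit 0x1a4f72104e), (nat_lit 0)⟩)
 (.l ⟨(nat_lit 0xc0000d), (nat_lit 0x70180701e07007), (nat_lit 0x620d939214050054f59564), (nat_lit 0)⟩))
 (.n (.l ⟨(nat_lit 0x140000d), (nat_lit 0x178302c44d), (nat_lit 0x341890c0255a61956020030140101007), (nat_lit 0)⟩)
 (.l ⟨(nat_lit 0xc00015), (nat_lit 0x841d01415), (nat_lit 0x5510cc3210050054d54d7e), (nat_lit 0)⟩)))
 (.n (.n (.l ⟨(nat_lit 0xc0000d), (nat_lit 0x451215c12), (nat_lit 0x54854a889), (nat_lit 0)⟩)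
 (.l ⟨(nat_lit 0xc0000d), (nat_lit 0x70100141f01415), (nat_lit 0x6c06d112294a59593), (nat_lit 0)⟩))
 (.l ⟨(nat_lit 0xc0000d), (nat_lit 0x881904c03), (nat_lit 0x6a43474198050054363d80), (nat_lit 0)⟩)))
 (.n (.n (.n (.l ⟨(nat_lit 0xc0000d), (nat_lit 0x385309082), (nat_lit 0x5a184515d401), (nat_lit 0)⟩)
 (.l ⟨(nat_lit 0xc0000d), (nat_lit 0x6c220642107007), (nat_lit 0x495e8281c9455f956), (nat_lit 0)⟩))
 (.l ⟨(nat_lit 0xc0000b), (nat_lit 0x70070702207011), (nat_lit 0xd91038810055563971), (nat_lit 0)⟩))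
 (.n (.n (.l ⟨(nat_lit 0xe0000d), (nat_lit 0x5546f1bc15), (nat_lit 0x1a08960450), (nat_lit 0)⟩)
 (.l ⟨(nat_lit 0xc0000f), (nat_lit 0x68160702207007), (nat_lit 0x211c06e13805005685fd68), (nat_lit 0)⟩))
 (.l ⟨(nat_lit 0xc0000d), (nat_lit 0x7c1b04c1a03c03), (nat_lit 0x1f64c5c3d15263d7c), (nat_lit 0)⟩))))
 (.n (.n (.n (.n (.l ⟨(nat_lit 0xc0000b), (nat_lit 0x14c3412c62), (nat_lit 0xd10b04c70), (nat_lit 0)⟩)
 (.l ⟨(nat_lit 0xa0000d), (nat_lit 0x5c1306c1d), (nat_lit 0x7ca114c070140158d4c), (nat_lit 0)⟩))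
 (.l ⟨(nat_lit 0xa0000b), (nat_lit 0x741c0480b), (nat_lit 0x1d13905051515e16d), (nat_lit 0)⟩))
 (.n (.n (.l ⟨(nat_lit 0xc0000d), (nat_lit 0x324e86a0d401), (nat_lit 0x862848202d455458d020030140101007), (nat_lit 0)⟩)
 (.l ⟨(nat_lit 0xc0000d), (nat_lit 0x21068120701d), (nat_lit 0x4447455114050057f), (nat_lit 0)⟩))
 (.l ⟨(nat_lit 0xc0000d), (nat_lit 0x641f0641607007), (nat_lit 0x19a15c71070050054961971), (nat_lit 0)⟩)))
 (.n (.n (.n (.l ⟨(nat_lit 0xc0000d), (nat_lit 0x2006c2842a), (nat_lit 0x915d9b161475e59700806028030080601007), (nat_lit 0)⟩)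
 (.l ⟨(nat_lit 0xc0000d), (nat_lit 0x1e0142107016), (nat_lit 0x640a82f5b1595616d), (nat_lit 0)⟩))
 (.l ⟨(nat_lit 0xc0000d), (nat_lit 0x1007007), (nat_lit 0x199354ec555cd80), (nat_lit 0)⟩))
 (.n (.n (.l ⟨(nat_lit 0x120000d), (nat_lit 0x787e1440d), (nat_lit 0x90b51dc0d), (nat_lit 0)⟩)
 (.l ⟨(nat_lit 0xc00013), (nat_lit 0x1f06c100641e), (nat_lit 0xd8d02c030140155d9c), (nat_lit 0)⟩))
 (.l ⟨(nat_lit 0xc0000d), (nat_lit 0x140680f07011), (nat_lit 0x1f04b65c03014015d15c), (nat_lit 0)⟩)))))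
 (.n (.n (.n (.n (.n (.l ⟨(nat_lit 0xc0000b), (nat_lit 0x31904cc5d), (nat_lit 0xd1081dc67), (nat_lit 0)⟩)
 (.l ⟨(nat_lit 0x120000d), (nat_lit 0x70170641207007), (nat_lit 0x850d097139575994b), (nat_lit 0)⟩))
 (.n (.l ⟨(nat_lit 0xc00007), (nat_lit 0x781107007), (nat_lit 0x6e6699315405005535a165), (nat_lit 0)⟩)
 (.l ⟨(nat_lit 0xc00015), (nat_lit 0x681e0681207013), (nat_lit 0x661e0a1678050055361d6f), (nat_lit 0)⟩)))
 (.n (.n (.l ⟨(nat_lit 0xc0000d), (nat_lit 0x1207057086), (nat_lit 0x78b51f051), (nat_lit 0)⟩)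
 (.l ⟨(nat_lit 0xc0000d), (nat_lit 0x210641207011), (nat_lit 0xbd8c3f01d58550), (nat_lit 0)⟩))
 (.l ⟨(nat_lit 0xc0000d), (nat_lit 0x1a06c0706c1d), (nat_lit 0x319d150140140161149), (nat_lit 0)⟩)))
 (.n (.n (.n (.l ⟨(nat_lit 0xc0000d), (nat_lit 0x2156d6583c), (nat_lit 0x1914016d22), (nat_lit 0)⟩)
 (.l ⟨(nat_lit 0xc0000d), (nat_lit 0x100681807007), (nat_lit 0x208a3439475bd53), (nat_lit 0)⟩))
 (.l ⟨(nat_lit 0xc0000d), (nat_lit 11275), (nat_lit 0xfb5b40c55d68), (nat_lit 0)⟩))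
 (.n (.n (.l ⟨(nat_lit 0x120000d), (nat_lit 0x4d46d0a84d), (nat_lit 0x1402220877), (nat_lit 0)⟩)
 (.l ⟨(nat_lit 0xc0000f), (nat_lit 0x1406c1f07017), (nat_lit 0x6a590035f401014016357a), (nat_lit 0)⟩))
 (.l ⟨(nat_lit 0xc0000d), (nat_lit 0x1d06c1407011), (nat_lit 0x6b3102043d655fd67), (nat_lit 0)⟩))))
 (.n (.n (.n (.n (.l ⟨(nat_lit 0xc0000d), (nat_lit 0x1bc841493b), (nat_lit 0x501b40420), (nat_lit 0)⟩)
 (.l ⟨(nat_lit 0xc0000d), (nat_lit 0x100700707007), (nat_lit 0x4322450038050054a56180), (nat_lit 0)⟩))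
 (.l ⟨(nat_lit 0xc0000b), (nat_lit 0x210681e), (nat_lit 0x2d50215c1e51d93), (nat_lit 0)⟩))
 (.n (.n (.l ⟨(nat_lit 0xc0000d), (nat_lit 0x4c716180c), (nat_lit 0x38814e827), (nat_lit 0)⟩)
 (.l ⟨(nat_lit 0xa0000d), (nat_lit 0x7c1a0881507007), (nat_lit 0x10101d6614405005506015f), (nat_lit 0)⟩))
 (.l ⟨(nat_lit 0xc0000d), (nat_lit 0x402107007), (nat_lit 0xb7434820395854d6e), (nat_lit 0)⟩)))
 (.n (.n (.n (.l ⟨(nat_lit 0xc0000d), (nat_lit 0x16c535f873), (nat_lit 0x8d950c001), (nat_lit 0)⟩)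
 (.l ⟨(nat_lit 0xc0000d), (nat_lit 0x140681f07011), (nat_lit 0x16a09d6302d416317e), (nat_lit 0)⟩))
 (.l ⟨(nat_lit 0xc0000d), (nat_lit 0x150140f07011), (nat_lit 0x281f53a16805005435719a), (nat_lit 0)⟩))
 (.n (.n (.l ⟨(nat_lit 0x140000d), (nat_lit 0x12c6a64827), (nat_lit 0x415720845), (nat_lit 0)⟩)
 (.l ⟨(nat_lit 0xc00013), (nat_lit 0x701d0681001415), (nat_lit 0x1301364049014015c16d), (nat_lit 0)⟩))
 (.l ⟨(nat_lit 0xc0000d), (nat_lit 0x382006c0707007), (nat_lit 0x334808007405005476798b), (nat_lit 0)⟩)))))))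
noncomputable def T8 : Tr :=
  .n (.n (.n (.n (.n (.n (.n (.n (.l ⟨(nat_lit 0x400004), (nat_lit 0x1253b06001), (nat_lit 0), (nat_lit 0)⟩)
 (.l ⟨(nat_lit 0xc0000d), (nat_lit 0x301f0640f07007), (nat_lit 0x131861f4330140162975), (nat_lit 0)⟩))
 (.n (.l ⟨(nat_lit 0x140000d), (nat_lit 0xfd5a4a40f), (nat_lit 0x141913b019), (nat_lit 0)⟩)
 (.l ⟨(nat_lit 0xc00015), (nat_lit 0x220681307017), (nat_lit 0x1a4305f004050054757966), (nat_lit 0)⟩)))
 (.n (.n (.l ⟨(nat_lit 0xc0000d), (nat_lit 0x15819134f7), (nat_lit 0x114873cc29), (nat_lit 0)⟩)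
 (.l ⟨(nat_lit 0xc0000d), (nat_lit 0x1f0702007010), (nat_lit 0x1252a3045f0140164164), (nat_lit 0)⟩))
 (.l ⟨(nat_lit 0xc0000d), (nat_lit 0x14210702107011), (nat_lit 0x6c6300d2094759188), (nat_lit 0)⟩)))
 (.n (.n (.n (.l ⟨(nat_lit 0xc0000d), (nat_lit 0x5131140b5), (nat_lit 0x17c6225062), (nat_lit 0)⟩)
 (.l ⟨(nat_lit 0xc0000d), (nat_lit 0x150701f07013), (nat_lit 0x5727c4004405005516298f), (nat_lit 0)⟩))
 (.l ⟨(nat_lit 0xc0000b), (nat_lit 0x1f0641407007), (nat_lit 0x4342d981d9415b18e), (nat_lit 0)⟩))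
 (.n (.n (.l ⟨(nat_lit 0xe0000b), (nat_lit 0xc9741d17b), (nat_lit 0x1a59120483), (nat_lit 0)⟩)
 (.l ⟨(nat_lit 0xc0000d), (nat_lit 0xf06c110641f), (nat_lit 0x2f4208809d5852d92), (nat_lit 0)⟩))
 (.l ⟨(nat_lit 0xc0000d), (nat_lit 0x141306c16), (nat_lit 0x1052107809d586299e), (nat_lit 0)⟩))))
 (.n (.n (.n (.n (.l ⟨(nat_lit 0xc0000b), (nat_lit 0xa96428c07), (nat_lit 0x18c8241c3a), (nat_lit 0)⟩)
 (.l ⟨(nat_lit 0xc0000d), (nat_lit 0x681206c1e), (nat_lit 0x273e517131526519d), (nat_lit 0)⟩))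
 (.l ⟨(nat_lit 0xc00009), (nat_lit 0x141206c16), (nat_lit 0x1c63c591454b6617a), (nat_lit 0)⟩))
 (.n (.n (.l ⟨(nat_lit 0xc0000d), (nat_lit 0x744e2d10d), (nat_lit 0x44320423), (nat_lit 0)⟩)
 (.l ⟨(nat_lit 0xe0000d), (nat_lit 0x800f0680707007), (nat_lit 0x571acbd4814554593), (nat_lit 0)⟩))
 (.l ⟨(nat_lit 0xc0000d), (nat_lit 0x840504c03), (nat_lit 0x6e4897b0818853564), (nat_lit 0)⟩)))
 (.n (.n (.n (.l ⟨(nat_lit 0xc0000d), (nat_lit 0x1619016417), (nat_lit 0x19d652e06b51d8051c07), (nat_lit 0)⟩)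
 (.l ⟨(nat_lit 0xc0000d), (nat_lit 0x110701d07007), (nat_lit 0x55130884c005005415dd65), (nat_lit 0)⟩))
 (.l ⟨(nat_lit 0xc0000d), (nat_lit 0x150141107011), (nat_lit 0x5016552141436797d), (nat_lit 0)⟩))
 (.n (.n (.l ⟨(nat_lit 0x120000d), (nat_lit 0x1887f1fd5c), (nat_lit 0x1797a1e40f), (nat_lit 0)⟩)
 (.l ⟨(nat_lit 0xc00013), (nat_lit 0x1806c070681e), (nat_lit 0x322148a344050055563d9c), (nat_lit 0)⟩))
 (.l ⟨(nat_lit 0xc0000d), (nat_lit 0x106c1506816), (nat_lit 0x341ec1b00c05005575698a), (nat_lit 0)⟩)))))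
 (.n (.n (.n (.n (.n (.l ⟨(nat_lit 0xc0000b), (nat_lit 0x1b4f816), (nat_lit 0x4d3b05c5e), (nat_lit 0)⟩)
 (.l ⟨(nat_lit 0xc0000d), (nat_lit 0x641306815), (nat_lit 0x56144710e8050055d65158), (nat_lit 0)⟩))
 (.n (.l ⟨(nat_lit 0x400004), (nat_lit 0x1c1207c1b06019), (nat_lit 0), (nat_lit 0)⟩)
 (.l ⟨(nat_lit 0xc00015), (nat_lit 0x6c1806c0f07010), (nat_lit 0x170a14445a014016097a), (nat_lit 0)⟩)))
 (.n (.n (.l ⟨(nat_lit 0xc0000d), (nat_lit 0x1c01349042), (nat_lit 0x154b80bc03), (nat_lit 0)⟩)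
 (.l ⟨(nat_lit 0xc0000d), (nat_lit 0x1406c1407012), (nat_lit 0x11a47074050050055464599), (nat_lit 0)⟩))
 (.l ⟨(nat_lit 0xa0000d), (nat_lit 0x88140682007007), (nat_lit 0x850bd370c8050056859580), (nat_lit 0)⟩)))
 (.n (.n (.n (.l ⟨(nat_lit 0xc0000d), (nat_lit 0x703414c1b), (nat_lit 0x7c850544b), (nat_lit 0)⟩)
 (.l ⟨(nat_lit 0x120000d), (nat_lit 0x110701407007), (nat_lit 0x1a98a1dc5655d70), (nat_lit 0)⟩))
 (.l ⟨(nat_lit 0x140000b), (nat_lit 0x2006c120701e), (nat_lit 0x6e0e5076254f67193), (nat_lit 0)⟩))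
 (.n (.n (.l ⟨(nat_lit 0x100000d), (nat_lit 0x44b24c424), (nat_lit 0x85400fd7f), (nat_lit 0)⟩)
 (.l ⟨(nat_lit 0xc0000f), (nat_lit 0x70180682007010), (nat_lit 0x7914012074050055e63d98), (nat_lit 0)⟩))
 (.l ⟨(nat_lit 0xc0000d), (nat_lit 0x1b0241307007), (nat_lit 0x911417e11d5a61179), (nat_lit 0)⟩))))
 (.n (.n (.n (.n (.l ⟨(nat_lit 0xc0000d), (nat_lit 0x1152b54824), (nat_lit 0x88231bd7e), (nat_lit 0)⟩)
 (.l ⟨(nat_lit 0xc0000d), (nat_lit 0x1a0881a03c03), (nat_lit 0x1cc4598076797d), (nat_lit 0)⟩))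
 (.l ⟨(nat_lit 0xc0000b), (nat_lit 0x150141f07011), (nat_lit 0xd525564126315a), (nat_lit 0)⟩))
 (.n (.n (.l ⟨(nat_lit 0x80000d), (nat_lit 0x16d9a0a157), (nat_lit 0x104786352c), (nat_lit 0)⟩)
 (.l ⟨(nat_lit 0xc0000d), (nat_lit 0x1d0681806c20), (nat_lit 0x11a5b07d0e4050054d5e593), (nat_lit 0)⟩))
 (.l ⟨(nat_lit 0xc0000d), (nat_lit 0x70070640f07011), (nat_lit 0x6e4347d140050056164d66), (nat_lit 0)⟩)))
 (.n (.n (.n (.l ⟨(nat_lit 0xc0000d), (nat_lit 0x7c951d036), (nat_lit 0x2d07d01439), (nat_lit 0)⟩)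
 (.l ⟨(nat_lit 0x140000d), (nat_lit 0x6c1d06c1306816), (nat_lit 0x6314c894155162d52), (nat_lit 0)⟩))
 (.l ⟨(nat_lit 0x140000d), (nat_lit 0x170701207017), (nat_lit 0x111190690058359964), (nat_lit 0)⟩))
 (.n (.n (.l ⟨(nat_lit 0x1400009), (nat_lit 0xf964810), (nat_lit 0x45911486e), (nat_lit 0)⟩)
 (.l ⟨(nat_lit 0x600013), (nat_lit 0x3c1d06c1007007), (nat_lit 0x621ec58164050055f5f17f), (nat_lit 0)⟩))
 (.l ⟨(nat_lit 0xc0000d), (nat_lit 0x5c1707014), (nat_lit 0x1342d291b5595f571), (nat_lit 0)⟩))))))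
 (.n (.n (.n (.n (.n (.n (.l ⟨(nat_lit 0xc00007), (nat_lit 0x6185e65003), (nat_lit 0x3d5a5cc07), (nat_lit 0)⟩)
 (.l ⟨(nat_lit 0xc0000d), (nat_lit 0x481d06416), (nat_lit 0x853d5e0735f57f), (nat_lit 0)⟩))
 (.n (.l ⟨(nat_lit 0x140000d), (nat_lit 0xa0b84e466), (nat_lit 0x1716b1213851d95020030140101007), (nat_lit 0)⟩)
 (.l ⟨(nat_lit 0xc00015), (nat_lit 0x501d06c1307007), (nat_lit 0x8c1b17075014016158f), (nat_lit 0)⟩)))
 (.n (.n (.l ⟨(nat_lit 0xc0000d), (nat_lit 0x1ac054cc82), (nat_lit 0x1d4754ac1b), (nat_lit 0)⟩)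
 (.l ⟨(nat_lit 0xc0000d), (nat_lit 0x64210641307007), (nat_lit 0x451846325405005456455e), (nat_lit 0)⟩))
 (.l ⟨(nat_lit 0xc0000d), (nat_lit 0x2206c1e), (nat_lit 0x15089351614d66982), (nat_lit 0)⟩)))
 (.n (.n (.n (.l ⟨(nat_lit 0xc0000d), (nat_lit 0x51061619c), (nat_lit 0x45a60086), (nat_lit 0)⟩)
 (.l ⟨(nat_lit 0xa0000d), (nat_lit 0x180141107007), (nat_lit 0x1825b8880d405005415a58e), (nat_lit 0)⟩))
 (.l ⟨(nat_lit 0xc0000b), (nat_lit 0x1b0781908807), (nat_lit 0x941e86c02d6358593), (nat_lit 0)⟩))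
 (.n (.n (.l ⟨(nat_lit 0xe0000d), (nat_lit 0x158641a805), (nat_lit 0x1686b46823), (nat_lit 0)⟩)
 (.l ⟨(nat_lit 0xa0000f), (nat_lit 0x2c170141707011), (nat_lit 0x173d11d040050054b5a95f), (nat_lit 0)⟩))
 (.l ⟨(nat_lit 0xc0000d), (nat_lit 0x6c1e0702007007), (nat_lit 0x2cc6b3ec45014016297b), (nat_lit 0)⟩))))
 (.n (.n (.n (.n (.l ⟨(nat_lit 0xc0000b), (nat_lit 0x1998911067), (nat_lit 0x1247b07c4b), (nat_lit 0)⟩)
 (.l ⟨(nat_lit 0xc0000d), (nat_lit 0x140706c1d), (nat_lit 0xc18c1d09754180), (nat_lit 0)⟩))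
 (.l ⟨(nat_lit 0xc0000b), (nat_lit 0x801904c03), (nat_lit 0x13e1405602d5964952), (nat_lit 0)⟩))
 (.n (.n (.l ⟨(nat_lit 0xc0000d), (nat_lit 0xdc5d0a80c), (nat_lit 0x492e058070050054960975020030140101007), (nat_lit 0)⟩)
 (.l ⟨(nat_lit 0xc0000d), (nat_lit 0x210681201415), (nat_lit 0x624b42f03c050054364982), (nat_lit 0)⟩))
 (.l ⟨(nat_lit 0xc0000d), (nat_lit 0x150142007010), (nat_lit 0x190a314d16014015c161), (nat_lit 0)⟩)))
 (.n (.n (.n (.l ⟨(nat_lit 0xc0000d), (nat_lit 0x164fd11d51), (nat_lit 0x8c6956028), (nat_lit 0)⟩)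
 (.l ⟨(nat_lit 0xc0000d), (nat_lit 0x6c210681307007), (nat_lit 0x16420f31d16b6699e), (nat_lit 0)⟩))
 (.l ⟨(nat_lit 0xa0000d), (nat_lit 0x1407c03), (nat_lit 0x14430e4050054352992), (nat_lit 0)⟩))
 (.n (.n (.l ⟨(nat_lit 0x120000d), (nat_lit 0x11cf719044), (nat_lit 0xe8426585d), (nat_lit 0)⟩)
 (.l ⟨(nat_lit 0xc00013), (nat_lit 0x110641307016), (nat_lit 0x1d17d6920005005575c182), (nat_lit 0)⟩))
 (.l ⟨(nat_lit 0xc0000d), (nat_lit 0x6c2101416), (nat_lit 0xccd51c82765d6e), (nat_lit 0)⟩)))))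
 (.n (.n (.n (.n (.n (.l ⟨(nat_lit 0xc0000b), (nat_lit 0x9d3b49458), (nat_lit 0x14c2027c1d), (nat_lit 0)⟩)
 (.l ⟨(nat_lit 0xc0000d), (nat_lit 0x681f0140707007), (nat_lit 0x1110d1d05005005435918e), (nat_lit 0)⟩))
 (.n (.l ⟨(nat_lit 0xa00007), (nat_lit 0x1306c1806c20), (nat_lit 0x198474247800405005545e574), (nat_lit 0)⟩)
 (.l ⟨(nat_lit 0xc00015), (nat_lit 0x701d0681207010), (nat_lit 0x483548115c050055065572), (nat_lit 0)⟩)))
 (.n (.n (.l ⟨(nat_lit 0xc0000d), (nat_lit 0xd4d621854), (nat_lit 0x64311f98c), (nat_lit 0)⟩)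
 (.l ⟨(nat_lit 0xc0000d), (nat_lit 0x130701f07012), (nat_lit 0x1934e03f02c05005456354b), (nat_lit 0)⟩))
 (.l ⟨(nat_lit 0xc0000d), (nat_lit 0x1b04c1a03c03), (nat_lit 0x1247d8a1b805005505e564), (nat_lit 0)⟩)))
 (.n (.n (.n (.l ⟨(nat_lit 0xc0000d), (nat_lit 0x16884568b8), (nat_lit 0xfd7341c646018b020030140101007), (nat_lit 0)⟩)
 (.l ⟨(nat_lit 0xc0000d), (nat_lit 0x881904c1c05003), (nat_lit 0xe51058c630140150d8b), (nat_lit 0)⟩))
 (.l ⟨(nat_lit 0xa0000d), (nat_lit 21516), (nat_lit 0x131f85b06005005515dd4a), (nat_lit 0)⟩))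
 (.n (.n (.l ⟨(nat_lit 0x120000d), (nat_lit 0x1a91119035), (nat_lit 0x381321891), (nat_lit 0)⟩)
 (.l ⟨(nat_lit 0xc0000f), (nat_lit 0x110681107014), (nat_lit 0x4e06862070050054b5a14c), (nat_lit 0)⟩))
 (.l ⟨(nat_lit 0x120000d), (nat_lit 0x100640707007), (nat_lit 0x49179830e94356565), (nat_lit 0)⟩))))
 (.n (.n (.n (.n (.l ⟨(nat_lit 0xc0000d), (nat_lit 0x2c3919c28), (nat_lit 0xc47d204f7), (nat_lit 0)⟩)
 (.l ⟨(nat_lit 0xc0000d), (nat_lit 0x80180641307007), (nat_lit 0x3a28c4f06805005435fd5c), (nat_lit 0)⟩))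
 (.l ⟨(nat_lit 0xc0000b), (nat_lit 0xe04c03), (nat_lit 0x1bc034c81f54d52), (nat_lit 0)⟩))
 (.n (.n (.l ⟨(nat_lit 0xc0000d), (nat_lit 0x3f16915409), (nat_lit 0x165885a403), (nat_lit 0)⟩)
 (.l ⟨(nat_lit 0xc0000d), (nat_lit 0x2006c110141e), (nat_lit 0x1a221280514152d93), (nat_lit 0)⟩))
 (.l ⟨(nat_lit 0xc0000d), (nat_lit 0x706c1607007), (nat_lit 0x1901c783e8050054f5b952), (nat_lit 0)⟩)))
 (.n (.n (.n (.l ⟨(nat_lit 0xc0000d), (nat_lit 0xd1961e8c3), (nat_lit 0x745062c18), (nat_lit 0)⟩)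
 (.l ⟨(nat_lit 0xc0000d), (nat_lit 0x70180641306815), (nat_lit 0x8607056045475a18d), (nat_lit 0)⟩))
 (.l ⟨(nat_lit 0x140000d), (nat_lit 0x1e0681207011), (nat_lit 0x5e2546c151515c960), (nat_lit 0)⟩))
 (.n (.n (.l ⟨(nat_lit 0x140000d), (nat_lit 0x1728c24), (nat_lit 0x1716b12138), (nat_lit 0)⟩)
 (.l ⟨(nat_lit 0xc00013), (nat_lit 0x141f0642207013), (nat_lit 0x1b14069190050054c6215b), (nat_lit 0)⟩))
 (.l ⟨(nat_lit 0x120000d), (nat_lit 0x640f06c16), (nat_lit 0x6f458612254960d7a), (nat_lit 0)⟩)))))))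
 (.n (.n (.n (.n (.n (.n (.n (.l ⟨(nat_lit 0xa0000a), (nat_lit 370951), (nat_lit 0), (nat_lit 0)⟩)
 (.l ⟨(nat_lit 0xc0000d), (nat_lit 0x1a0840504c03), (nat_lit 0x4f078fd3d1456319d), (nat_lit 0)⟩))
 (.n (.l ⟨(nat_lit 0x140000d), (nat_lit 0x11047028), (nat_lit 0x47c4457416), (nat_lit 0)⟩)
 (.l ⟨(nat_lit 0x800015), (nat_lit 0x701e0140707007), (nat_lit 0x1828d7a01c050054a6316f), (nat_lit 0)⟩)))
 (.n (.n (.l ⟨(nat_lit 0xc0000d), (nat_lit 0xc00c4d407), (nat_lit 0x224086c13401), (nat_lit 0)⟩)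
 (.l ⟨(nat_lit 0x120000d), (nat_lit 0x5c1e0681107007), (nat_lit 0x140942084c5358f5bc0800c050040401d5a58175), (nat_lit 0)⟩))
 (.l ⟨(nat_lit 0xc0000d), (nat_lit 0x1206c1e), (nat_lit 0x60484a1060050054361559), (nat_lit 0)⟩)))
 (.n (.n (.n (.l ⟨(nat_lit 0xc0000d), (nat_lit 0x1797f18c5e), (nat_lit 0x1a85c5b91d), (nat_lit 0)⟩)
 (.l ⟨(nat_lit 0xc0000d), (nat_lit 0x140142007011), (nat_lit 0x3366c4e41c050055f67586), (nat_lit 0)⟩))
 (.l ⟨(nat_lit 0xe0000b), (nat_lit 0x6c1706c120141d), (nat_lit 0x221a4583e14c57165), (nat_lit 0)⟩))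
 (.n (.n (.l ⟨(nat_lit 0xe0000d), (nat_lit 0xb301c54), (nat_lit 0x180351401e), (nat_lit 0)⟩)
 (.l ⟨(nat_lit 0xc0000d), (nat_lit 0x1406c140141f), (nat_lit 0x3045a43c05005515ad9d), (nat_lit 0)⟩))
 (.l ⟨(nat_lit 0x120000d), (nat_lit 0x581307011), (nat_lit 0xcc81664575c967), (nat_lit 0)⟩))))
 (.n (.n (.n (.n (.l ⟨(nat_lit 0xc0000b), (nat_lit 0x16c8710c94), (nat_lit 0x1889522021), (nat_lit 0)⟩)
 (.l ⟨(nat_lit 0xc0000d), (nat_lit 0x140701201415), (nat_lit 0x658c1fd75004050054766d58), (nat_lit 0)⟩))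
 (.l ⟨(nat_lit 0xc00009), (nat_lit 0x14160641207011), (nat_lit 0x6e2144d0614960599), (nat_lit 0)⟩))
 (.n (.n (.l ⟨(nat_lit 0xc0000d), (nat_lit 0x1701f3b06f), (nat_lit 0x190455702f), (nat_lit 0)⟩)
 (.l ⟨(nat_lit 0xc0000d), (nat_lit 0x14160701207011), (nat_lit 0x373e4635ac05005475d976), (nat_lit 0)⟩))
 (.l ⟨(nat_lit 0x120000d), (nat_lit 0x160682207013), (nat_lit 0xb35076101946740800c050040401d515d984), (nat_lit 0)⟩)))
 (.n (.n (.n (.l ⟨(nat_lit 0xc0000d), (nat_lit 0x114c46b4ac03), (nat_lit 0x160b51f175), (nat_lit 0)⟩)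
 (.l ⟨(nat_lit 0xc0000d), (nat_lit 0x120701e06415), (nat_lit 0x6a4ec132d405005596054a), (nat_lit 0)⟩))
 (.l ⟨(nat_lit 0xa0000d), (nat_lit 0x160681606815), (nat_lit 0x642546a160050054c60186), (nat_lit 0)⟩))
 (.n (.n (.l ⟨(nat_lit 0x120000d), (nat_lit 0xfc751a81a), (nat_lit 0xd13518829), (nat_lit 0)⟩)
 (.l ⟨(nat_lit 0xa00013), (nat_lit 0x1e06c0f07007), (nat_lit 0x5b3ac4b1c005005436395f), (nat_lit 0)⟩))
 (.l ⟨(nat_lit 0xc0000d), (nat_lit 0x6c220141d), (nat_lit 0x546318c5f00c050054c6658c), (nat_lit 0)⟩)))))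
 (.n (.n (.n (.n (.n (.l ⟨(nat_lit 0xc0000b), (nat_lit 0x1e6403211c01), (nat_lit 0x1409111c0b), (nat_lit 0)⟩)
 (.l ⟨(nat_lit 0xc0000d), (nat_lit 0x1e0681106c16), (nat_lit 0x100dc54014015f95d), (nat_lit 0)⟩))
 (.n (.l ⟨(nat_lit 0x1400007), (nat_lit 0x70110701f07011), (nat_lit 0x674200e96053582), (nat_lit 0)⟩)
 (.l ⟨(nat_lit 0xc00015), (nat_lit 0x150680707013), (nat_lit 0xd1d64087014015695a), (nat_lit 0)⟩)))
 (.n (.n (.l ⟨(nat_lit 0xc0000d), (nat_lit 0x150a318c3b), (nat_lit 0x25811910e), (nat_lit 0)⟩)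
 (.l ⟨(nat_lit 0x140000d), (nat_lit 0x781904c1c05003), (nat_lit 0x5c5ac484e1476540800c050040401d4762d77), (nat_lit 0)⟩))
 (.l ⟨(nat_lit 0xc0000d), (nat_lit 0x20064130681d), (nat_lit 0x16c665f0535497e0200301401010076115d), (nat_lit 0)⟩)))
 (.n (.n (.n (.l ⟨(nat_lit 0xc0000d), (nat_lit 0xbc3f18427), (nat_lit 0x1b18c03482), (nat_lit 0)⟩)
 (.l ⟨(nat_lit 0x140000d), (nat_lit 0x180680f07011), (nat_lit 0x53664232014358d6d), (nat_lit 0)⟩))
 (.l ⟨(nat_lit 0xc0000d), (nat_lit 23), (nat_lit 0x7a2847d0d150), (nat_lit 0)⟩))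
 (.n (.n (.l ⟨(nat_lit 0x120000d), (nat_lit 0x14508040b4), (nat_lit 0xa04541c83), (nat_lit 0)⟩)
 (.l ⟨(nat_lit 0xc0000f), (nat_lit 0x6c1f0641107007), (nat_lit 0x350515a01c05005615f16c), (nat_lit 0)⟩))
 (.l ⟨(nat_lit 0xc0000d), (nat_lit 0x5c1c03812), (nat_lit 0x533f84d0c0050054c5956b), (nat_lit 0)⟩))))
 (.n (.n (.n (.n (.l ⟨(nat_lit 0xc0000d), (nat_lit 0xe8f758020), (nat_lit 0x16cb11140e), (nat_lit 0)⟩)
 (.l ⟨(nat_lit 0xc0000d), (nat_lit 0x1306c1107012), (nat_lit 0x535fc545ec050055e5dd65), (nat_lit 0)⟩))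
 (.l ⟨(nat_lit 0xc0000b), (nat_lit 0x681507012), (nat_lit 0x5e60cc30f15959154), (nat_lit 0)⟩))
 (.n (.n (.l ⟨(nat_lit 0xc0000d), (nat_lit 0x1b0784606a), (nat_lit 0x80422150f), (nat_lit 0)⟩)
 (.l ⟨(nat_lit 0xc0000d), (nat_lit 0x701d0681307010), (nat_lit 0x1e35566075536018b), (nat_lit 0)⟩))
 (.l ⟨(nat_lit 0x120000d), (nat_lit 0x100702207013), (nat_lit 0x5f4899b09d556018b), (nat_lit 0)⟩)))
 (.n (.n (.n (.l ⟨(nat_lit 0xc0000d), (nat_lit 0x62c7b2dc1f), (nat_lit 0x660503a4e4050055f5e99e020030140101007), (nat_lit 0)⟩)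
 (.l ⟨(nat_lit 0xc0000d), (nat_lit 0x6c160141f07011), (nat_lit 0x16c0c3f4050054f63963), (nat_lit 0)⟩))
 (.l ⟨(nat_lit 0xc0000d), (nat_lit 0x210681807007), (nat_lit 0x5504d841dd565e97d), (nat_lit 0)⟩))
 (.n (.n (.l ⟨(nat_lit 0x140000b), (nat_lit 0x1103f5d526), (nat_lit 0x41870bc05), (nat_lit 0)⟩)
 (.l ⟨(nat_lit 0xc00013), (nat_lit 0x681706c2207011), (nat_lit 0x71a15b18805005575c182), (nat_lit 0)⟩))
 (.l ⟨(nat_lit 0xc0000d), (nat_lit 0x130680f06420), (nat_lit 0x4b60194044050055567561), (nat_lit 0)⟩))))))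
 (.n (.n (.n (.n (.n (.n (.l ⟨(nat_lit 0xc00009), (nat_lit 0xe57b0a415), (nat_lit 0x616e17184), (nat_lit 0)⟩)
 (.l ⟨(nat_lit 0xc0000d), (nat_lit 0x88120700707007), (nat_lit 0x62448304e16961566), (nat_lit 0)⟩))
 (.n (.l ⟨(nat_lit 0x140000f), (nat_lit 0x12d351401a), (nat_lit 0x57640c2), (nat_lit 0)⟩)
 (.l ⟨(nat_lit 0xc00015), (nat_lit 0x2207012), (nat_lit 0x6718c79044050055259d71), (nat_lit 0)⟩)))
 (.n (.n (.l ⟨(nat_lit 0xc0000d), (nat_lit 0x3f99315014), (nat_lit 0x745f41463), (nat_lit 0)⟩)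
 (.l ⟨(nat_lit 0xc0000d), (nat_lit 0x1806c1106415), (nat_lit 0x4d1a56e4fc050054164988), (nat_lit 0)⟩))
 (.l ⟨(nat_lit 0xc0000d), (nat_lit 0x150141007007), (nat_lit 0x1561e47510005005415518d), (nat_lit 0)⟩)))
 (.n (.n (.n (.l ⟨(nat_lit 0x60000d), (nat_lit 0x9d851945d), (nat_lit 0x1507519516), (nat_lit 0)⟩)
 (.l ⟨(nat_lit 0xc0000d), (nat_lit 0x1006c1107007), (nat_lit 0x5d4310e1ac050055158187), (nat_lit 0)⟩))
 (.l ⟨(nat_lit 0xe0000b), (nat_lit 0x200701e07012), (nat_lit 0x7e5446e06d436297e), (nat_lit 0)⟩))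
 (.n (.n (.l ⟨(nat_lit 0xe0000d), (nat_lit 0xc1782446e), (nat_lit 0xbc571e477), (nat_lit 0)⟩)
 (.l ⟨(nat_lit 0xc0000f), (nat_lit 0x1d0701d0641e), (nat_lit 0x140d854004050055357990), (nat_lit 0)⟩))
 (.l ⟨(nat_lit 0xc0000d), (nat_lit 0x1d06c1607013), (nat_lit 0x590c0831ed5861d6f), (nat_lit 0)⟩))))
 (.n (.n (.n (.n (.l ⟨(nat_lit 0xc0000b), (nat_lit 0x516313466), (nat_lit 0xc66458035154d61c020180c), (nat_lit 0)⟩)
 (.l ⟨(nat_lit 0xc0000d), (nat_lit 0x100681f07007), (nat_lit 0x4405154d660184), (nat_lit 0)⟩))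
 (.l ⟨(nat_lit 0xa0000b), (nat_lit 0x141d07012), (nat_lit 0x3fd9c1480f0140163d7c), (nat_lit 0)⟩))
 (.n (.n (.l ⟨(nat_lit 0xc0000d), (nat_lit 0x151971d928), (nat_lit 0x1311b16817), (nat_lit 0)⟩)
 (.l ⟨(nat_lit 0xc0000d), (nat_lit 0x541f0142107007), (nat_lit 0x5a4985a05805005575dd87), (nat_lit 0)⟩))
 (.l ⟨(nat_lit 0xc0000d), (nat_lit 0x1b0741901c03), (nat_lit 0x485d457048050054d63559), (nat_lit 0)⟩)))
 (.n (.n (.n (.l ⟨(nat_lit 0xc0000d), (nat_lit 0x161061541f), (nat_lit 0x793d1605b), (nat_lit 0)⟩)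
 (.l ⟨(nat_lit 0xc0000d), (nat_lit 0x505c1b0780c), (nat_lit 0x3b3e55616d4d61186), (nat_lit 0)⟩))
 (.l ⟨(nat_lit 0xa0000d), (nat_lit 0x1107010), (nat_lit 0x4848c6e638050054f6114a), (nat_lit 0)⟩))
 (.n (.n (.l ⟨(nat_lit 0x1200013), (nat_lit 186403), (nat_lit 0x599845e407), (nat_lit 0)⟩)
 (.l ⟨(nat_lit 0xc00013), (nat_lit 0x1306c1706415), (nat_lit 0xf20d4002c050054d63d84), (nat_lit 0)⟩))
 (.l ⟨(nat_lit 0xc0000d), (nat_lit 0x681007014), (nat_lit 0x4d4559b01c05005586655e), (nat_lit 0)⟩)))))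
 (.n (.n (.n (.n (.n (.l ⟨(nat_lit 0xc0000b), (nat_lit 0x15d5f074fc), (nat_lit 0xc13219d0e), (nat_lit 0)⟩)
 (.l ⟨(nat_lit 0xc0000d), (nat_lit 0x1f06c1707016), (nat_lit 0xe85e3496055d4c), (nat_lit 0)⟩))
 (.n (.l ⟨(nat_lit 0x1200007), (nat_lit 0x88140140707011), (nat_lit 0x1562c721e54d6115d), (nat_lit 0)⟩)
 (.l ⟨(nat_lit 0xc00015), (nat_lit 0x68160681807010), (nat_lit 0x5d9b090050055966d7d), (nat_lit 0)⟩)))
 (.n (.n (.l ⟨(nat_lit 0xc0000d), (nat_lit 0x5948566421), (nat_lit 0x15d1260453), (nat_lit 0)⟩)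
 (.l ⟨(nat_lit 0xc0000d), (nat_lit 0x501406c1207007), (nat_lit 0x421494012d535b17d), (nat_lit 0)⟩))
 (.l ⟨(nat_lit 0x60000d), (nat_lit 0x601b03c03), (nat_lit 0x560d08767405005436257b), (nat_lit 0)⟩)))
 (.n (.n (.n (.l ⟨(nat_lit 0xc0000d), (nat_lit 0x4881f57411), (nat_lit 0x36149231c001), (nat_lit 0)⟩)
 (.l ⟨(nat_lit 0xc0000d), (nat_lit 0x602206c1007011), (nat_lit 0x3b0352214759992), (nat_lit 0)⟩))
 (.l ⟨(nat_lit 0x120000d), (nat_lit 0x681e0141607007), (nat_lit 0x1905602c435254c), (nat_lit 0)⟩))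
 (.n (.n (.l ⟨(nat_lit 0x120000d), (nat_lit 0x66c781441a), (nat_lit 0x4652bc77), (nat_lit 0)⟩)
 (.l ⟨(nat_lit 0x1200011), (nat_lit 0x5c210681107007), (nat_lit 0xc90e1804d5617a5480800c050040401d4d5517a), (nat_lit 0)⟩))
 (.l ⟨(nat_lit 0xc0000d), (nat_lit 0x68150641f07007), (nat_lit 0x3418d2e0c4015b00800c050040401d436216b), (nat_lit 0)⟩))))
 (.n (.n (.n (.n (.l ⟨(nat_lit 0xc0000d), (nat_lit 0x1f64870), (nat_lit 0x18c594d429), (nat_lit 0)⟩)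
 (.l ⟨(nat_lit 0x120000d), (nat_lit 0x48120640f07007), (nat_lit 0x6c0c1330c94c59983), (nat_lit 0)⟩))
 (.l ⟨(nat_lit 0xc0000b), (nat_lit 0x6c0f06415), (nat_lit 0x5d43d40169475b984), (nat_lit 0)⟩))
 (.n (.n (.l ⟨(nat_lit 0x60000d), (nat_lit 0x1381c1404d), (nat_lit 0x10cd418867), (nat_lit 0)⟩)
 (.l ⟨(nat_lit 0x140000d), (nat_lit 0x6c200142207007), (nat_lit 0x4d0a1100314c63d6f), (nat_lit 0)⟩))
 (.l ⟨(nat_lit 0xc0000d), (nat_lit 0x14160641f07013), (nat_lit 0x5707d6a0254b5fd5f), (nat_lit 0)⟩)))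
 (.n (.n (.n (.l ⟨(nat_lit 0xc0000d), (nat_lit 0x747b1f4e2), (nat_lit 0xc9852101f), (nat_lit 0)⟩)
 (.l ⟨(nat_lit 0xc0000d), (nat_lit 0xf0681107013), (nat_lit 0x6c05c0d10d565497c), (nat_lit 0)⟩))
 (.l ⟨(nat_lit 0xc0000d), (nat_lit 0x20014120701d), (nat_lit 0xb42082310c050055f54576), (nat_lit 0)⟩))
 (.n (.n (.l ⟨(nat_lit 0x140000d), (nat_lit 0x104c0d), (nat_lit 0xa1861dc7a), (nat_lit 0)⟩)
 (.l ⟨(nat_lit 0xc00013), (nat_lit 0x641706c1001415), (nat_lit 0x74a3054050055465d9c), (nat_lit 0)⟩))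
 (.l ⟨(nat_lit 0xc0000d), (nat_lit 0x120682001415), (nat_lit 0x5f3505c0cc050054961576), (nat_lit 0)⟩)))))))
noncomputable def T9 : Tr :=
  .n (.n (.n (.n (.n (.n (.n (.n (.l ⟨(nat_lit 0x200002), (nat_lit 9), (nat_lit 0), (nat_lit 0)⟩)
 (.l ⟨(nat_lit 0xc0000d), (nat_lit 0xf06c1001415), (nat_lit 0x64140203454d56583), (nat_lit 0)⟩))
 (.n (.l ⟨(nat_lit 0x140000d), (nat_lit 0x18cf814888), (nat_lit 0x1b5291b81b6095b020030140101007), (nat_lit 0)⟩)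
 (.l ⟨(nat_lit 0x600015), (nat_lit 17415), (nat_lit 0x525284e4fc05005495d573), (nat_lit 0)⟩)))
 (.n (.n (.l ⟨(nat_lit 0xc0000d), (nat_lit 0x4411c27), (nat_lit 0x1b84f4441e), (nat_lit 0)⟩)
 (.l ⟨(nat_lit 0xc0000d), (nat_lit 0x58130681707010), (nat_lit 0x90765dc1a0140152d7c), (nat_lit 0)⟩))
 (.l ⟨(nat_lit 0x140000d), (nat_lit 0x1206415), (nat_lit 0x1b83941d8956d94558020180a00c020180401d5f5bd90), (nat_lit 0)⟩)))
 (.n (.n (.n (.l ⟨(nat_lit 0xc0000d), (nat_lit 0x7d4a1a410), (nat_lit 0x13d3147c14), (nat_lit 0)⟩)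
 (.l ⟨(nat_lit 0xc0000d), (nat_lit 0x150142007017), (nat_lit 0x1880a13a0d5456717d), (nat_lit 0)⟩))
 (.l ⟨(nat_lit 0xc0000b), (nat_lit 0x1d0141e0141e), (nat_lit 0x27211360c1435e975), (nat_lit 0)⟩))
 (.n (.n (.l ⟨(nat_lit 0xe00009), (nat_lit 0x790a1b580), (nat_lit 0xfc635f4a2), (nat_lit 0)⟩)
 (.l ⟨(nat_lit 0xc0000d), (nat_lit 0x14220141007011), (nat_lit 0x4b5f07359541), (nat_lit 0)⟩))
 (.l ⟨(nat_lit 0xe0000d), (nat_lit 0x441f0641007011), (nat_lit 0x6a204880594a6514d), (nat_lit 0)⟩))))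
 (.n (.n (.n (.n (.l ⟨(nat_lit 0xc0000b), (nat_lit 0x135671546d), (nat_lit 0x8c5d1901c), (nat_lit 0)⟩)
 (.l ⟨(nat_lit 0xc0000d), (nat_lit 0x1e0681d01416), (nat_lit 0x1e4d451170050057060d93), (nat_lit 0)⟩))
 (.l ⟨(nat_lit 0x800008), (nat_lit 0x1b054170701006c1801414), (nat_lit 0), (nat_lit 0)⟩))
 (.n (.n (.l ⟨(nat_lit 0xc0000d), (nat_lit 0x907a3f405), (nat_lit 0x56c680803a), (nat_lit 0)⟩)
 (.l ⟨(nat_lit 0x60000d), (nat_lit 0x220641107011), (nat_lit 0x5a61d640cc050054161951), (nat_lit 0)⟩))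
 (.l ⟨(nat_lit 0xc0000d), (nat_lit 0x381307007), (nat_lit 0x61254721654165160), (nat_lit 0)⟩)))
 (.n (.n (.n (.l ⟨(nat_lit 0xc0000d), (nat_lit 0x88683e027), (nat_lit 0x671ac0515801), (nat_lit 0)⟩)
 (.l ⟨(nat_lit 0x120000d), (nat_lit 0x50801707007), (nat_lit 0x31400701215a5dd65), (nat_lit 0)⟩))
 (.l ⟨(nat_lit 0xc0000d), (nat_lit 19475), (nat_lit 0x312d34c070140161563), (nat_lit 0)⟩))
 (.n (.n (.l ⟨(nat_lit 0x120000d), (nat_lit 0x438864c01c), (nat_lit 0x3568832140159d81020030140101007), (nat_lit 0)⟩)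
 (.l ⟨(nat_lit 0xc00013), (nat_lit 0x801a0440f07007), (nat_lit 0x14d351401a014015317f), (nat_lit 0)⟩))
 (.l ⟨(nat_lit 0xc0000d), (nat_lit 0x44200140707007), (nat_lit 0x1246c5045c05005435d57e), (nat_lit 0)⟩)))))
 (.n (.n (.n (.n (.n (.l ⟨(nat_lit 0xc0000b), (nat_lit 0x453e900), (nat_lit 0x61c7b1e44e), (nat_lit 0)⟩)
 (.l ⟨(nat_lit 0xc0000d), (nat_lit 0x142001415), (nat_lit 0xc104fc05805005495657f), (nat_lit 0)⟩))
 (.n (.l ⟨(nat_lit 0x1400015), (nat_lit 0x30ec52), (nat_lit 0x545f8ec20943679810080602407014080280c0300c02407014080280b01c05020050040802c0b), (nat_lit 0)⟩)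
 (.l ⟨(nat_lit 0xc00015), (nat_lit 0x150640f07007), (nat_lit 0x593e4cc2a0140157578), (nat_lit 0)⟩)))
 (.n (.n (.l ⟨(nat_lit 0xc0000d), (nat_lit 0x54f31c457), (nat_lit 0x1008262842), (nat_lit 0)⟩)
 (.l ⟨(nat_lit 0xc0000d), (nat_lit 0x641f0702207007), (nat_lit 0x198b40784d014015d151), (nat_lit 0)⟩))
 (.l ⟨(nat_lit 0x140000d), (nat_lit 0x1f0681507013), (nat_lit 0x145780b07d575f964), (nat_lit 0)⟩)))
 (.n (.n (.n (.l ⟨(nat_lit 0xc0000d), (nat_lit 0x1ad5c4fc63), (nat_lit 0x1ac6d42c70), (nat_lit 0)⟩)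
 (.l ⟨(nat_lit 0xc0000d), (nat_lit 0x220681707014), (nat_lit 0x581884d078050054354582), (nat_lit 0)⟩))
 (.l ⟨(nat_lit 0xc0000b), (nat_lit 0x150701807007), (nat_lit 0x675b08a0914c6697d), (nat_lit 0)⟩))
 (.n (.n (.l ⟨(nat_lit 0xe0000d), (nat_lit 0x1b1981207a), (nat_lit 0x135074f83565550020030140101007), (nat_lit 0)⟩)
 (.l ⟨(nat_lit 0xc0000f), (nat_lit 0x160681e06815), (nat_lit 0x182558a0c405005436014c), (nat_lit 0)⟩))
 (.l ⟨(nat_lit 0xc0000d), (nat_lit 0x2c2007010), (nat_lit 0x19469480b1014015f56c), (nat_lit 0)⟩))))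
 (.n (.n (.n (.n (.l ⟨(nat_lit 0xc0000d), (nat_lit 0x1490e0a001), (nat_lit 0x180534603b), (nat_lit 0)⟩)
 (.l ⟨(nat_lit 0x120000d), (nat_lit 0x1d06c1701415), (nat_lit 0x1644318d45), (nat_lit 0)⟩))
 (.l ⟨(nat_lit 0xc0000b), (nat_lit 0x68220681107010), (nat_lit 0x581b92d21d4a6217f), (nat_lit 0)⟩))
 (.n (.n (.l ⟨(nat_lit 0xc0000d), (nat_lit 0xc53d1f86d), (nat_lit 0x1a85062cb5014015a15f5f007), (nat_lit 0)⟩)
 (.l ⟨(nat_lit 0xc0000d), (nat_lit 0x3c1b0740503c03), (nat_lit 0x5b1841611c05005525499a), (nat_lit 0)⟩))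
 (.l ⟨(nat_lit 0x140000d), (nat_lit 0x22070070641f), (nat_lit 0x485e45a0f16e5ed81), (nat_lit 0)⟩)))
 (.n (.n (.n (.l ⟨(nat_lit 0xc0000d), (nat_lit 0x1c04730c0b), (nat_lit 0x1087b188eb), (nat_lit 0)⟩)
 (.l ⟨(nat_lit 0xc0000d), (nat_lit 0x70120701f07011), (nat_lit 0xc3888730d495b549), (nat_lit 0)⟩))
 (.l ⟨(nat_lit 0xa0000d), (nat_lit 0x1107012), (nat_lit 0x5c648505dc050054a55d7b), (nat_lit 0)⟩))
 (.n (.n (.l ⟨(nat_lit 0x1200013), (nat_lit 0x1383463c86), (nat_lit 0xf0ec55c1b6555c020030140101007), (nat_lit 0)⟩)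
 (.l ⟨(nat_lit 0xc00013), (nat_lit 0x706c1f07014), (nat_lit 0x1349488214050055266196), (nat_lit 0)⟩))
 (.l ⟨(nat_lit 0xc0000d), (nat_lit 0x160141707016), (nat_lit 0x1dcbb1a80b5658d), (nat_lit 0)⟩))))))
 (.n (.n (.n (.n (.n (.n (.l ⟨(nat_lit 0x60000b), (nat_lit 0x3b08564434), (nat_lit 0x657513427), (nat_lit 0)⟩)
 (.l ⟨(nat_lit 0xc0000d), (nat_lit 0x580f0140707011), (nat_lit 0x3a2d0840257b56d8f), (nat_lit 0)⟩))
 (.n (.l ⟨(nat_lit 0x140000d), (nat_lit 0x1215621094), (nat_lit 0x1215b19c16), (nat_lit 0)⟩)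
 (.l ⟨(nat_lit 0xa00015), (nat_lit 0x702006820), (nat_lit 0x727c10014016516b), (nat_lit 0)⟩)))
 (.n (.n (.l ⟨(nat_lit 0xc0000d), (nat_lit 0x1bd5e09cf4), (nat_lit 0x1a09409c86), (nat_lit 0)⟩)
 (.l ⟨(nat_lit 0xc0000d), (nat_lit 0x2006c0707013), (nat_lit 0x6a4a882438050055258d85), (nat_lit 0)⟩))
 (.l ⟨(nat_lit 0xa0000d), (nat_lit 0x841a0481c02c07), (nat_lit 0x5e3e02702405005475b98d), (nat_lit 0)⟩)))
 (.n (.n (.n (.l ⟨(nat_lit 0xc0000d), (nat_lit 0xe9930545d), (nat_lit 0x4d4804ac05), (nat_lit 0)⟩)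
 (.l ⟨(nat_lit 0xe0000d), (nat_lit 0x150701207007), (nat_lit 0x22074730c5476118f), (nat_lit 0)⟩))
 (.l ⟨(nat_lit 0xc0000b), (nat_lit 0x1306c1407014), (nat_lit 0x1b0a20897b51d94), (nat_lit 0)⟩))
 (.n (.n (.l ⟨(nat_lit 0xe0000d), (nat_lit 0x50613ec77), (nat_lit 0x576251a11c01), (nat_lit 0)⟩)
 (.l ⟨(nat_lit 0xc0000d), (nat_lit 0x68160701f07011), (nat_lit 0x1b1d8b802c05005415a980), (nat_lit 0)⟩))
 (.l ⟨(nat_lit 0xa0000d), (nat_lit 0x6c1106416), (nat_lit 0x4c174583e4050057f58566), (nat_lit 0)⟩))))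
 (.n (.n (.n (.n (.l ⟨(nat_lit 0xc0000b), (nat_lit 0x5d674e485), (nat_lit 0x1a5005f839), (nat_lit 0)⟩)
 (.l ⟨(nat_lit 0xa0000d), (nat_lit 0x641d06c21), (nat_lit 0x141a44e18005005506098a), (nat_lit 0)⟩))
 (.l ⟨(nat_lit 0xc0000b), (nat_lit 0x130681e07013), (nat_lit 0x4a84c10c3061574), (nat_lit 0)⟩))
 (.n (.n (.l ⟨(nat_lit 0xc0000d), (nat_lit 0x188914fc7d), (nat_lit 0xc8905d66), (nat_lit 0)⟩)
 (.l ⟨(nat_lit 0xa0000d), (nat_lit 0xf0680707014), (nat_lit 0x1258f228d4014050054a67195), (nat_lit 0)⟩))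
 (.l ⟨(nat_lit 0xc0000d), (nat_lit 0x80170140f07007), (nat_lit 0x371a13705d5265d79), (nat_lit 0)⟩)))
 (.n (.n (.n (.l ⟨(nat_lit 0xc0000d), (nat_lit 0x5907161c2f), (nat_lit 0x15d7b20cc1), (nat_lit 0)⟩)
 (.l ⟨(nat_lit 0xc0000d), (nat_lit 0x190341f07007), (nat_lit 0x414f82252d8758c0800c050040401d4162193), (nat_lit 0)⟩))
 (.l ⟨(nat_lit 0xc0000d), (nat_lit 0x2204803), (nat_lit 0x1cfb604070140163563), (nat_lit 0)⟩))
 (.n (.n (.l ⟨(nat_lit 0x120000d), (nat_lit 0x80f805407), (nat_lit 0x5910c63), (nat_lit 0)⟩)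
 (.l ⟨(nat_lit 0x1200013), (nat_lit 0x13070220701e), (nat_lit 0x6010cfa1cd505c80800c050040401d5365152), (nat_lit 0)⟩))
 (.l ⟨(nat_lit 0xc0000d), (nat_lit 0x241f0681107007), (nat_lit 0x573546d439525e999), (nat_lit 0)⟩)))))
 (.n (.n (.n (.n (.n (.l ⟨(nat_lit 0xc0000b), (nat_lit 0xa9321e411), (nat_lit 0x272112720001), (nat_lit 0)⟩)
 (.l ⟨(nat_lit 0x140000d), (nat_lit 0x140701107007), (nat_lit 0x4165184175436398b), (nat_lit 0)⟩))
 (.n (.l ⟨(nat_lit 0xc00007), (nat_lit 0x160702007014), (nat_lit 0x355ed10090050054a58d6f), (nat_lit 0)⟩)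
 (.l ⟨(nat_lit 0xc00015), (nat_lit 0x14210642107007), (nat_lit 0x173d11d04005005535cd91), (nat_lit 0)⟩)))
 (.n (.n (.l ⟨(nat_lit 0xc0000d), (nat_lit 0x16c654c417), (nat_lit 0x1849c72668050054956159020030140101007), (nat_lit 0)⟩)
 (.l ⟨(nat_lit 0xc0000d), (nat_lit 0xf0681107011), (nat_lit 0x513303c64014050054166193), (nat_lit 0)⟩))
 (.l ⟨(nat_lit 0x120000d), (nat_lit 0x1b0481d07012), (nat_lit 0x325004e04d4a5b587), (nat_lit 0)⟩)))
 (.n (.n (.n (.l ⟨(nat_lit 0xc0000d), (nat_lit 0x141371a4b1), (nat_lit 0x15d9109cf3), (nat_lit 0)⟩)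
 (.l ⟨(nat_lit 0xc0000d), (nat_lit 0x68150142001415), (nat_lit 0x173f12204005005525d998), (nat_lit 0)⟩))
 (.l ⟨(nat_lit 0xc0000d), (nat_lit 32771), (nat_lit 0x1c634fc0a94a67982), (nat_lit 0)⟩))
 (.n (.n (.l ⟨(nat_lit 0x120000d), (nat_lit 0xc08213037), (nat_lit 0xc1a15844), (nat_lit 0)⟩)
 (.l ⟨(nat_lit 0xc0000f), (nat_lit 0x1806c0f07013), (nat_lit 0x103ed4909005005516796d), (nat_lit 0)⟩))
 (.l ⟨(nat_lit 0xc0000d), (nat_lit 0x701407017), (nat_lit 0x51228161b8050054359152), (nat_lit 0)⟩))))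
 (.n (.n (.n (.n (.l ⟨(nat_lit 0xc0000d), (nat_lit 0xe86f12c05), (nat_lit 0xfc7163853), (nat_lit 0)⟩)
 (.l ⟨(nat_lit 0xa0000d), (nat_lit 0x200702201415), (nat_lit 0x1275807203c050054765997), (nat_lit 0)⟩))
 (.l ⟨(nat_lit 0xc0000b), (nat_lit 0x641e0642207013), (nat_lit 0x6d1ac6a4294b5498e), (nat_lit 0)⟩))
 (.n (.n (.l ⟨(nat_lit 0xc0000d), (nat_lit 0x1ad515e044), (nat_lit 0x632186d3e8050054b5e953020030140101007), (nat_lit 0)⟩)
 (.l ⟨(nat_lit 0xa0000d), (nat_lit 0x882206c1007011), (nat_lit 0x1159a1e41201405005516514b), (nat_lit 0)⟩))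
 (.l ⟨(nat_lit 0xc0000d), (nat_lit 0x3c1f07007), (nat_lit 0x3114129141606397f), (nat_lit 0)⟩)))
 (.n (.n (.n (.l ⟨(nat_lit 0x60000d), (nat_lit 0x4f0181a44d), (nat_lit 0xfd1687b), (nat_lit 0)⟩)
 (.l ⟨(nat_lit 0x120000d), (nat_lit 0x220640f0141e), (nat_lit 0x24fb1d8620054956d92), (nat_lit 0)⟩))
 (.l ⟨(nat_lit 0xc0000d), (nat_lit 0x2006c1607011), (nat_lit 0x5b2c4450395663d82), (nat_lit 0)⟩))
 (.n (.n (.l ⟨(nat_lit 0x140000b), (nat_lit 0x199050bd37), (nat_lit 0x1b87b0397f), (nat_lit 0)⟩)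
 (.l ⟨(nat_lit 0xc00013), (nat_lit 0x1006c1107007), (nat_lit 0x5b1bd994b8050054961554), (nat_lit 0)⟩))
 (.l ⟨(nat_lit 0xc0000d), (nat_lit 0x210641f07012), (nat_lit 0x7e13d870554164d4d), (nat_lit 0)⟩)))))))
 (.n (.n (.n (.n (.n (.n (.n (.l ⟨(nat_lit 0x600007), (nat_lit 0x11724c23), (nat_lit 0x841063c11), (nat_lit 0)⟩)
 (.l ⟨(nat_lit 0x60000d), (nat_lit 0x681506815), (nat_lit 0x5fc706201e014015296a), (nat_lit 0)⟩))
 (.n (.l ⟨(nat_lit 0x140000d), (nat_lit 0x195275481d), (nat_lit 0x1a47e1b16d), (nat_lit 0)⟩)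
 (.l ⟨(nat_lit 0x1400015), (nat_lit 0xc0701007011), (nat_lit 0x1881549751d8e6640800c050040401d475698f), (nat_lit 0)⟩)))
 (.n (.n (.l ⟨(nat_lit 0xc0000d), (nat_lit 0x84bc13010), (nat_lit 0x178542201e), (nat_lit 0)⟩)
 (.l ⟨(nat_lit 0xc0000d), (nat_lit 0x68200141007011), (nat_lit 0x6264473388050055a63575), (nat_lit 0)⟩))
 (.l ⟨(nat_lit 0x120000d), (nat_lit 0x681207013), (nat_lit 0x3a109961754a59574), (nat_lit 0)⟩)))
 (.n (.n (.n (.l ⟨(nat_lit 0xc0000d), (nat_lit 0xd361c803), (nat_lit 0xdd2f07116), (nat_lit 0)⟩)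
 (.l ⟨(nat_lit 0x120000d), (nat_lit 0x1306c1001415), (nat_lit 0x1412cb82180153160), (nat_lit 0)⟩))
 (.l ⟨(nat_lit 0xc0000b), (nat_lit 0x701706c0707012), (nat_lit 0x281048915d5f6617f), (nat_lit 0)⟩))
 (.n (.n (.l ⟨(nat_lit 0xe0000d), (nat_lit 0xd41456807), (nat_lit 0x3d001906d), (nat_lit 0)⟩)
 (.l ⟨(nat_lit 0xc0000d), (nat_lit 0x34210141107007), (nat_lit 0x575ec833054567599), (nat_lit 0)⟩))
 (.l ⟨(nat_lit 0xc0000d), (nat_lit 0x1406c100641e), (nat_lit 0x496084060d5752d94), (nat_lit 0)⟩))))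
 (.n (.n (.n (.n (.l ⟨(nat_lit 0xc0000b), (nat_lit 0x1998e5f45b), (nat_lit 0x3d2110907), (nat_lit 0)⟩)
 (.l ⟨(nat_lit 0xc0000d), (nat_lit 0x130680f0641d), (nat_lit 0x3d5117c445a97a), (nat_lit 0)⟩))
 (.l ⟨(nat_lit 0xc00009), (nat_lit 0x1806c1107013), (nat_lit 0x114c86e4156962594), (nat_lit 0)⟩))
 (.n (.n (.l ⟨(nat_lit 0xc0000d), (nat_lit 0xd4f95b807), (nat_lit 0x105151b85b), (nat_lit 0)⟩)
 (.l ⟨(nat_lit 0xc0000d), (nat_lit 0x210701e07011), (nat_lit 0x5a1cd3d08c05005495f59c), (nat_lit 0)⟩))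
 (.l ⟨(nat_lit 0x120000d), (nat_lit 0x120700707007), (nat_lit 0x6747c8a0a14a6099d), (nat_lit 0)⟩)))
 (.n (.n (.n (.l ⟨(nat_lit 0xc0000d), (nat_lit 0x799741c86), (nat_lit 0x545e13c0e), (nat_lit 0)⟩)
 (.l ⟨(nat_lit 0xc0000d), (nat_lit 0x781907c1b04c03), (nat_lit 0x5d2e0842f005005505f561), (nat_lit 0)⟩))
 (.l ⟨(nat_lit 0x140000d), (nat_lit 0x150140707011), (nat_lit 0x11598d5254566968), (nat_lit 0)⟩))
 (.n (.n (.l ⟨(nat_lit 0x120000d), (nat_lit 0xdd7e20405), (nat_lit 0x119939190035498555c020180c), (nat_lit 0)⟩)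
 (.l ⟨(nat_lit 0xc00013), (nat_lit 0x1e0702107010), (nat_lit 0x592c47e0d0050056551d58), (nat_lit 0)⟩))
 (.l ⟨(nat_lit 0xc0000d), (nat_lit 0x801c03811), (nat_lit 0x3c635542f00405005475e57c), (nat_lit 0)⟩)))))
 (.n (.n (.n (.n (.n (.l ⟨(nat_lit 0xc0000b), (nat_lit 0x1d07049), (nat_lit 0x1748436), (nat_lit 0)⟩)
 (.l ⟨(nat_lit 0xc0000d), (nat_lit 0x180141207007), (nat_lit 0x2f4fc8625d4a5b15a), (nat_lit 0)⟩))
 (.n (.l ⟨(nat_lit 0x200007), (nat_lit 0x16014160641d), (nat_lit 0xc8d2150050054364569), (nat_lit 0)⟩)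
 (.l ⟨(nat_lit 0xc00015), (nat_lit 0x641d0701f07010), (nat_lit 0x5e4387a1dc050055866987), (nat_lit 0)⟩)))
 (.n (.n (.l ⟨(nat_lit 0xc0000d), (nat_lit 0x1812128418), (nat_lit 0x554687f5f001), (nat_lit 0)⟩)
 (.l ⟨(nat_lit 0xa0000d), (nat_lit 0x14150701207014), (nat_lit 0x1660847d0c0050054a5319e), (nat_lit 0)⟩))
 (.l ⟨(nat_lit 0xa0000d), (nat_lit 0x200141107013), (nat_lit 0x2710c1218c050054154188), (nat_lit 0)⟩)))
 (.n (.n (.n (.l ⟨(nat_lit 0xc0000d), (nat_lit 0x13d7e06018), (nat_lit 0x605940c), (nat_lit 0)⟩)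
 (.l ⟨(nat_lit 0xc0000d), (nat_lit 0x141e0701406416), (nat_lit 0x341bc71344050054753594), (nat_lit 0)⟩))
 (.l ⟨(nat_lit 0xc0000b), (nat_lit 0x140681f07011), (nat_lit 0x28c474f8225ad92), (nat_lit 0)⟩))
 (.n (.n (.l ⟨(nat_lit 0x120000b), (nat_lit 0xa5871d862), (nat_lit 0x1bc0b0fc8a), (nat_lit 0)⟩)
 (.l ⟨(nat_lit 0xc0000f), (nat_lit 0x1b060030140707007), (nat_lit 0x561906a014050054957182), (nat_lit 0)⟩))
 (.l ⟨(nat_lit 0xc0000d), (nat_lit 0x701307014), (nat_lit 0x15906228016017b0200301401010075c981), (nat_lit 0)⟩))))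
 (.n (.n (.n (.n (.l ⟨(nat_lit 0xc0000d), (nat_lit 0x453143812), (nat_lit 0x408545f011), (nat_lit 0)⟩)
 (.l ⟨(nat_lit 0xc0000d), (nat_lit 0x1c0801a04403), (nat_lit 0x2f49878081495e95f), (nat_lit 0)⟩))
 (.l ⟨(nat_lit 0xc0000b), (nat_lit 0x6c210681007007), (nat_lit 0x650bd110054a6517a), (nat_lit 0)⟩))
 (.n (.n (.l ⟨(nat_lit 0xc0000d), (nat_lit 0x687c210ff), (nat_lit 0x1090c21930), (nat_lit 0)⟩)
 (.l ⟨(nat_lit 0xc0000d), (nat_lit 0x1406c0f06815), (nat_lit 0x6686c0495567156), (nat_lit 0)⟩))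
 (.l ⟨(nat_lit 0xc0000d), (nat_lit 0x141006c0707011), (nat_lit 0x325d8724794154596), (nat_lit 0)⟩)))
 (.n (.n (.n (.l ⟨(nat_lit 0xc0000d), (nat_lit 0x228e11e401), (nat_lit 0x1885e48d22), (nat_lit 0)⟩)
 (.l ⟨(nat_lit 0xc0000d), (nat_lit 0x14150700707007), (nat_lit 0x6e0147459d6b55d91), (nat_lit 0)⟩))
 (.l ⟨(nat_lit 0xc0000d), (nat_lit 0x1107014), (nat_lit 0xc15c5f1ac050056357d7a), (nat_lit 0)⟩))
 (.n (.n (.l ⟨(nat_lit 0x140000b), (nat_lit 0x1c3666c07), (nat_lit 0x4b2112406401), (nat_lit 0)⟩)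
 (.l ⟨(nat_lit 0xc00013), (nat_lit 0x2006c1707011), (nat_lit 0x31500895d8050054a64d8f), (nat_lit 0)⟩))
 (.l ⟨(nat_lit 0xc0000d), (nat_lit 0x1b04c2107007), (nat_lit 0x7b0795e0d4050055463997), (nat_lit 0)⟩))))))
 (.n (.n (.n (.n (.n (.n (.l ⟨(nat_lit 0xc00007), (nat_lit 0xed7b17cd1), (nat_lit 0x1240f1e95a), (nat_lit 0)⟩)
 (.l ⟨(nat_lit 0xc0000d), (nat_lit 0x682206815), (nat_lit 0x10c891400e01401569806680800c050040401d475a59c), (nat_lit 0)⟩))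
 (.n (.l ⟨(nat_lit 0x140000d), (nat_lit 0x341116c4f), (nat_lit 0x15c11d52), (nat_lit 0)⟩)
 (.l ⟨(nat_lit 0x1200015), (nat_lit 0x1506c2207014), (nat_lit 0x124ec184c4004050055458d8f), (nat_lit 0)⟩)))
 (.n (.n (.l ⟨(nat_lit 0xc0000d), (nat_lit 0x170f11c042), (nat_lit 0xa96e60021), (nat_lit 0)⟩)
 (.l ⟨(nat_lit 0xc0000d), (nat_lit 0x1f0140f07012), (nat_lit 0x5b3e8663c57955977), (nat_lit 0)⟩))
 (.l ⟨(nat_lit 0xc0000d), (nat_lit 0x2006c1807010), (nat_lit 0x547c830c1665919d), (nat_lit 0)⟩)))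
 (.n (.n (.n (.l ⟨(nat_lit 0xc0000d), (nat_lit 0x198140e939), (nat_lit 0x6d9c1a84e), (nat_lit 0)⟩)
 (.l ⟨(nat_lit 0xc0000d), (nat_lit 0x481f0640707011), (nat_lit 0x16e14c630d405005615c593), (nat_lit 0)⟩))
 (.l ⟨(nat_lit 0xc0000b), (nat_lit 0x6c1f0681607007), (nat_lit 0xd84c1f8290056a57d4c), (nat_lit 0)⟩))
 (.n (.n (.l ⟨(nat_lit 0xe0000d), (nat_lit 0x6f09d014b401), (nat_lit 0x642f21d29), (nat_lit 0)⟩)
 (.l ⟨(nat_lit 0xa0000f), (nat_lit 0x160141507007), (nat_lit 0x3ac9304c050055e), (nat_lit 0)⟩))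
 (.l ⟨(nat_lit 0x120000d), (nat_lit 0x170141307013), (nat_lit 0x686b5ac035d19e), (nat_lit 0)⟩))))
 (.n (.n (.n (.n (.l ⟨(nat_lit 0xc0000b), (nat_lit 0x1003c20992), (nat_lit 0x14d605741f), (nat_lit 0)⟩)
 (.l ⟨(nat_lit 0xc0000d), (nat_lit 0x160701306815), (nat_lit 0x8a3847900405005525ed72), (nat_lit 0)⟩))
 (.l ⟨(nat_lit 0x140000b), (nat_lit 0x504c1b05003), (nat_lit 0x16c6f1f52a52586), (nat_lit 0)⟩))
 (.n (.n (.l ⟨(nat_lit 0xc0000d), (nat_lit 0x6405c8660c03), (nat_lit 0x10d581b878), (nat_lit 0)⟩)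
 (.l ⟨(nat_lit 0xc0000d), (nat_lit 0x11068150141e), (nat_lit 0x425dd190c8050054b5d58c), (nat_lit 0)⟩))
 (.l ⟨(nat_lit 0xc0000d), (nat_lit 0x5c1407007), (nat_lit 0x14c2f171520140161d53), (nat_lit 0)⟩)))
 (.n (.n (.n (.l ⟨(nat_lit 0xc0000d), (nat_lit 0x154673ac40), (nat_lit 0x64724c417), (nat_lit 0)⟩)
 (.l ⟨(nat_lit 0xc0000d), (nat_lit 0x14160701d07007), (nat_lit 0x5d105951f805005515c960), (nat_lit 0)⟩))
 (.l ⟨(nat_lit 0xc0000d), (nat_lit 0x1d01415), (nat_lit 0xd51a90e06d4364987), (nat_lit 0)⟩))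
 (.n (.n (.l ⟨(nat_lit 0x120000d), (nat_lit 0xf06519c13), (nat_lit 0xa86b4f9256455f020030140101007), (nat_lit 0)⟩)
 (.l ⟨(nat_lit 0x1200013), (nat_lit 0x882206415), (nat_lit 0xcc81664575355f6200800c050040401d575c182), (nat_lit 0)⟩))
 (.l ⟨(nat_lit 0xc0000d), (nat_lit 0x1b088190780b), (nat_lit 0x6b60136101415e15e), (nat_lit 0)⟩)))))
 (.n (.n (.n (.n (.n (.l ⟨(nat_lit 0xc0000b), (nat_lit 0x140b107486), (nat_lit 0x1606e4b487), (nat_lit 0)⟩)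
 (.l ⟨(nat_lit 0xc0000d), (nat_lit 0x170141406820), (nat_lit 0x5b20c0e21805005535bd9e), (nat_lit 0)⟩))
 (.n (.l ⟨(nat_lit 0xc00007), (nat_lit 0x641607011), (nat_lit 0x94887c04805005525817a), (nat_lit 0)⟩)
 (.l ⟨(nat_lit 0xc00015), (nat_lit 0x681006c1d), (nat_lit 0x680c417210050054b5dd47), (nat_lit 0)⟩)))
 (.n (.n (.l ⟨(nat_lit 0xc0000d), (nat_lit 0xfd2e07124), (nat_lit 0x50b546454), (nat_lit 0)⟩)
 (.l ⟨(nat_lit 0xc0000d), (nat_lit 0x130701206c1e), (nat_lit 0x1643b0ed5900405005415f59c), (nat_lit 0)⟩))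
 (.l ⟨(nat_lit 0xc0000d), (nat_lit 0x1306c070641e), (nat_lit 0x183ec7020c05005435157e), (nat_lit 0)⟩)))
 (.n (.n (.n (.l ⟨(nat_lit 0xc0000d), (nat_lit 0xc1151e803), (nat_lit 0x39658101a801), (nat_lit 0)⟩)
 (.l ⟨(nat_lit 0xc0000d), (nat_lit 0x1e0681107011), (nat_lit 0x1402052818515795f00800c050040401d416619e), (nat_lit 0)⟩))
 (.l ⟨(nat_lit 0xa0000d), (nat_lit 18448), (nat_lit 0x2912c0e004050055a5e994), (nat_lit 0)⟩))
 (.n (.n (.l ⟨(nat_lit 0x120000d), (nat_lit 0x1b05d3fcb7), (nat_lit 0x1091e821), (nat_lit 0)⟩)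
 (.l ⟨(nat_lit 0xc0000f), (nat_lit 0x1f0681607011), (nat_lit 0x570dd69184050055258185), (nat_lit 0)⟩))
 (.l ⟨(nat_lit 0xc0000d), (nat_lit 0x110641007014), (nat_lit 0x164e85c10805005416496b), (nat_lit 0)⟩))))
 (.n (.n (.n (.n (.l ⟨(nat_lit 0xc0000d), (nat_lit 0x12cbc6688a), (nat_lit 0xa50122888), (nat_lit 0)⟩)
 (.l ⟨(nat_lit 0xc0000d), (nat_lit 0xf06c0707007), (nat_lit 0x14cc595b94a5e96e), (nat_lit 0)⟩))
 (.l ⟨(nat_lit 0xc0000b), (nat_lit 0x6c180681e), (nat_lit 0x693e8792f172), (nat_lit 0)⟩))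
 (.n (.n (.l ⟨(nat_lit 0xc0000d), (nat_lit 0x7c550c4fc), (nat_lit 0x6a494145494d60197020030140101007), (nat_lit 0)⟩)
 (.l ⟨(nat_lit 0xc0000d), (nat_lit 0x141506c1307011), (nat_lit 0x6a1c43312005005476354a), (nat_lit 0)⟩))
 (.l ⟨(nat_lit 0xc0000d), (nat_lit 0x1e0680f06415), (nat_lit 0x1e5283b210050056c59597), (nat_lit 0)⟩)))
 (.n (.n (.n (.l ⟨(nat_lit 0xc0000d), (nat_lit 0x82070f8), (nat_lit 0x193070f305d51545850080602407014080280c0300c02407014080280b01c05020050040802c0b), (nat_lit 0)⟩)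
 (.l ⟨(nat_lit 0xc0000d), (nat_lit 0x6c1f0141407007), (nat_lit 0x4017116465546300800c050040401d4565d59), (nat_lit 0)⟩))
 (.l ⟨(nat_lit 0xa0000d), (nat_lit 0x1c0680707007), (nat_lit 0x1bd8e0ec4d014016499b), (nat_lit 0)⟩))
 (.n (.n (.l ⟨(nat_lit 0x140000d), (nat_lit 0x1bc7f6211d), (nat_lit 0x140891c837), (nat_lit 0)⟩)
 (.l ⟨(nat_lit 0x1200013), (nat_lit 0x220680707007), (nat_lit 0x1b47442060004050055664194), (nat_lit 0)⟩))
 (.l ⟨(nat_lit 0xc0000d), (nat_lit 0x641d06c1207010), (nat_lit 0x124885363c050055160d76), (nat_lit 0)⟩)))))))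
noncomputable def T10 : Tr :=
  .n (.n (.n (.n (.n (.n (.n (.n (.l ⟨(nat_lit 0x400004), (nat_lit 419211), (nat_lit 0), (nat_lit 0)⟩)
 (.l ⟨(nat_lit 0xc0000d), (nat_lit 0x18068140141f), (nat_lit 0x595b04d091525f17d), (nat_lit 0)⟩))
 (.n (.l ⟨(nat_lit 0x140000d), (nat_lit 0x1684b1f81c), (nat_lit 0x14d9908c80), (nat_lit 0)⟩)
 (.l ⟨(nat_lit 0xc00015), (nat_lit 0x5c1b0441807007), (nat_lit 0x5e0c0b1134050056357176), (nat_lit 0)⟩)))
 (.n (.n (.l ⟨(nat_lit 0xc0000d), (nat_lit 0xfc2f56054), (nat_lit 0x557813d00), (nat_lit 0)⟩)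
 (.l ⟨(nat_lit 0xc0000d), (nat_lit 0x21068150641d), (nat_lit 0x91d43c191435b16d), (nat_lit 0)⟩))
 (.l ⟨(nat_lit 0xc0000d), (nat_lit 0x64220681f07012), (nat_lit 0xa88017453014015a964), (nat_lit 0)⟩)))
 (.n (.n (.n (.l ⟨(nat_lit 0xc0000d), (nat_lit 0x1008606889), (nat_lit 0x1884208801), (nat_lit 0)⟩)
 (.l ⟨(nat_lit 0xc0000d), (nat_lit 0x100681807013), (nat_lit 0x5319956014015c555), (nat_lit 0)⟩))
 (.l ⟨(nat_lit 0xc0000b), (nat_lit 0x210681406816), (nat_lit 0x15c500bcfb6014f), (nat_lit 0)⟩))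
 (.n (.n (.l ⟨(nat_lit 0xe0000b), (nat_lit 0x4bc1c56803), (nat_lit 0xc99b19c67), (nat_lit 0)⟩)
 (.l ⟨(nat_lit 0xc0000d), (nat_lit 0x641506c1201415), (nat_lit 0x6060c7a668050057261d52), (nat_lit 0)⟩))
 (.l ⟨(nat_lit 0xc0000d), (nat_lit 0x170141406816), (nat_lit 0x283d18d060050054364d86), (nat_lit 0)⟩))))
 (.n (.n (.n (.n (.l ⟨(nat_lit 0xc0000b), (nat_lit 0x7ca114c07), (nat_lit 0x61751500c), (nat_lit 0)⟩)
 (.l ⟨(nat_lit 0xc0000d), (nat_lit 0x1b07c0505c03), (nat_lit 0x1885e48d226799b), (nat_lit 0)⟩))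
 (.l ⟨(nat_lit 0xa00009), (nat_lit 0x706815), (nat_lit 0x153ed181f54964559), (nat_lit 0)⟩))
 (.n (.n (.l ⟨(nat_lit 0xc0000d), (nat_lit 0x10d4a1a035), (nat_lit 0x1a1741ec60), (nat_lit 0)⟩)
 (.l ⟨(nat_lit 0xc0000d), (nat_lit 0x1706c1f01415), (nat_lit 0x1880793611d505e550), (nat_lit 0)⟩))
 (.l ⟨(nat_lit 0xc0000d), (nat_lit 0x1c1b05003), (nat_lit 0x6f151940394c59d79), (nat_lit 0)⟩)))
 (.n (.n (.n (.l ⟨(nat_lit 0xc0000d), (nat_lit 0x1b90707c01), (nat_lit 0x1c321e05852586638020180c), (nat_lit 0)⟩)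
 (.l ⟨(nat_lit 0xc0000d), (nat_lit 0x681706c0f07011), (nat_lit 0x2a63cfb01c050055562571), (nat_lit 0)⟩))
 (.l ⟨(nat_lit 0xc0000d), (nat_lit 22558), (nat_lit 0x1a1b95a058050054c58168), (nat_lit 0)⟩))
 (.n (.n (.l ⟨(nat_lit 0x120000d), (nat_lit 0x385652200d), (nat_lit 0x44bf21c57), (nat_lit 0)⟩)
 (.l ⟨(nat_lit 0xc00013), (nat_lit 0x801a0600f07007), (nat_lit 0x1cbd14c090140165d94), (nat_lit 0)⟩))
 (.l ⟨(nat_lit 0xa0000d), (nat_lit 0x641206415), (nat_lit 0x694d0672fc050054365d6d), (nat_lit 0)⟩)))))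
 (.n (.n (.n (.n (.n (.l ⟨(nat_lit 0xc0000b), (nat_lit 0xcd617075), (nat_lit 0x1454a1d832), (nat_lit 0)⟩)
 (.l ⟨(nat_lit 0xc0000d), (nat_lit 0x220682107011), (nat_lit 0x1711511c5a005415a59c01d4d6115f), (nat_lit 0)⟩))
 (.n (.l ⟨(nat_lit 0x200003), (nat_lit 11), (nat_lit 0x20180c50543), (nat_lit 0)⟩)
 (.l ⟨(nat_lit 0xa00015), (nat_lit 0x702006c0707011), (nat_lit 0x5cbf568070140160d6d), (nat_lit 0)⟩)))
 (.n (.n (.l ⟨(nat_lit 0xc0000d), (nat_lit 0xcd9b13907), (nat_lit 0x114595ac4c), (nat_lit 0)⟩)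
 (.l ⟨(nat_lit 0xa0000d), (nat_lit 0x70110142107011), (nat_lit 0x7c5a983134050054967191), (nat_lit 0)⟩))
 (.l ⟨(nat_lit 0xc0000d), (nat_lit 0x70640f07010), (nat_lit 0x632547d149495e94f), (nat_lit 0)⟩)))
 (.n (.n (.n (.l ⟨(nat_lit 0xc0000d), (nat_lit 0x164274d869), (nat_lit 0x1044b55862), (nat_lit 0)⟩)
 (.l ⟨(nat_lit 0xc0000d), (nat_lit 0x1206c1407010), (nat_lit 0x16003024686055b), (nat_lit 0)⟩))
 (.l ⟨(nat_lit 0xc0000b), (nat_lit 0x5c1306c1707007), (nat_lit 0x6456015045475597e), (nat_lit 0)⟩))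
 (.n (.n (.l ⟨(nat_lit 0x1000010), (nat_lit 0x9408fa), (nat_lit 0), (nat_lit 0)⟩)
 (.l ⟨(nat_lit 0x80000f), (nat_lit 0x200141e07011), (nat_lit 0x410f648100140150d83), (nat_lit 0)⟩))
 (.l ⟨(nat_lit 0xc0000d), (nat_lit 0x4c150640707007), (nat_lit 0x2147050138050054564983), (nat_lit 0)⟩))))
 (.n (.n (.n (.n (.l ⟨(nat_lit 0xc0000d), (nat_lit 0xc2154807), (nat_lit 0x168144e45b), (nat_lit 0)⟩)
 (.l ⟨(nat_lit 0xc0000d), (nat_lit 0x1e06c2106816), (nat_lit 0x60454d3044050055367950), (nat_lit 0)⟩))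
 (.l ⟨(nat_lit 0xc0000b), (nat_lit 0x6c0706c2207011), (nat_lit 0x5d3c4541d94167565), (nat_lit 0)⟩))
 (.n (.n (.l ⟨(nat_lit 0xc0000d), (nat_lit 0x155c1340d), (nat_lit 0x759c1b865), (nat_lit 0)⟩)
 (.l ⟨(nat_lit 0xc0000d), (nat_lit 0x1d0680f06415), (nat_lit 0x211795d0554958171), (nat_lit 0)⟩))
 (.l ⟨(nat_lit 0xc0000d), (nat_lit 0x200701407007), (nat_lit 0x120684480558164), (nat_lit 0)⟩)))
 (.n (.n (.n (.l ⟨(nat_lit 0xc0000d), (nat_lit 0x590ec3b56401), (nat_lit 0x2f44e14d515e975020030140101007), (nat_lit 0)⟩)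
 (.l ⟨(nat_lit 0xc0000d), (nat_lit 0x210681307012), (nat_lit 0x32d8502ed4754990), (nat_lit 0)⟩))
 (.l ⟨(nat_lit 0xc0000d), (nat_lit 0x6c1706416), (nat_lit 0x454f18820c050054759947), (nat_lit 0)⟩))
 (.n (.n (.l ⟨(nat_lit 0x1400014), (nat_lit 0x1b46860491), (nat_lit 0), (nat_lit 0)⟩)
 (.l ⟨(nat_lit 0xc00013), (nat_lit 0x1806c2006c16), (nat_lit 0x2943016004050054d6515b), (nat_lit 0)⟩))
 (.l ⟨(nat_lit 0xc0000d), (nat_lit 0x742106c1307007), (nat_lit 0xe424813cd4d60197), (nat_lit 0)⟩))))))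
 (.n (.n (.n (.n (.n (.n (.l ⟨(nat_lit 0x600007), (nat_lit 0xe4765a00b), (nat_lit 0x19c0d1583b), (nat_lit 0)⟩)
 (.l ⟨(nat_lit 0xc0000d), (nat_lit 0x641706c1d), (nat_lit 0x3f4b81c49005005585998f), (nat_lit 0)⟩))
 (.n (.l ⟨(nat_lit 0x140000d), (nat_lit 0x1b4296050a), (nat_lit 0x104890880f), (nat_lit 0)⟩)
 (.l ⟨(nat_lit 0xc00015), (nat_lit 0x130701f07007), (nat_lit 0x4480cc050056467196), (nat_lit 0)⟩)))
 (.n (.n (.l ⟨(nat_lit 0xc0000d), (nat_lit 0x505c13c29), (nat_lit 0x545e43029), (nat_lit 0)⟩)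
 (.l ⟨(nat_lit 0xc0000d), (nat_lit 0x1d0682006c16), (nat_lit 0x1c0a8871e94565993), (nat_lit 0)⟩))
 (.l ⟨(nat_lit 0x140000d), (nat_lit 0xf06c1e), (nat_lit 0xe15c70555435ed4a), (nat_lit 0)⟩)))
 (.n (.n (.n (.l ⟨(nat_lit 0xc0000d), (nat_lit 0x65241f41a), (nat_lit 0xcc5d0d90f), (nat_lit 0)⟩)
 (.l ⟨(nat_lit 0xc0000d), (nat_lit 0x84180681607007), (nat_lit 0x5d4b0793fc050055161d6e), (nat_lit 0)⟩))
 (.l ⟨(nat_lit 0x140000b), (nat_lit 0x401e07011), (nat_lit 0x10d1fd8e1414f), (nat_lit 0)⟩))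
 (.n (.n (.l ⟨(nat_lit 0xe0000d), (nat_lit 0xa8531d055), (nat_lit 0x1c05349416), (nat_lit 0)⟩)
 (.l ⟨(nat_lit 0xc0000f), (nat_lit 12), (nat_lit 0x314424014015496c), (nat_lit 0)⟩))
 (.l ⟨(nat_lit 0xc0000d), (nat_lit 0x1d0681607017), (nat_lit 0x402181a224050057067555), (nat_lit 0)⟩))))
 (.n (.n (.n (.n (.l ⟨(nat_lit 0xc0000b), (nat_lit 0xbc6e1ec56), (nat_lit 0x6c4cc050a005), (nat_lit 0)⟩)
 (.l ⟨(nat_lit 0xc0000d), (nat_lit 0x88180701d07007), (nat_lit 0x4d5e05c01c050054b67973), (nat_lit 0)⟩))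
 (.l ⟨(nat_lit 0x140000b), (nat_lit 0x19080190740b), (nat_lit 0x747c290395663577), (nat_lit 0)⟩))
 (.n (.n (.l ⟨(nat_lit 0xc0000d), (nat_lit 0xa88944031), (nat_lit 0x16d3d0e930), (nat_lit 0)⟩)
 (.l ⟨(nat_lit 0xc0000d), (nat_lit 0x2006c1106415), (nat_lit 0x552c516224050054b6097d), (nat_lit 0)⟩))
 (.l ⟨(nat_lit 0xc0000d), (nat_lit 0x701307017), (nat_lit 0x8a599090c805005505b566), (nat_lit 0)⟩)))
 (.n (.n (.n (.l ⟨(nat_lit 0xc0000d), (nat_lit 0x1a88360c1f), (nat_lit 0x6c6745c07), (nat_lit 0)⟩)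
 (.l ⟨(nat_lit 0xc0000d), (nat_lit 0x1e014170141e), (nat_lit 0x152206b27d545fd71), (nat_lit 0)⟩))
 (.l ⟨(nat_lit 0xa0000d), (nat_lit 0x1e04c03), (nat_lit 0xf19049407014015f54b), (nat_lit 0)⟩))
 (.n (.n (.l ⟨(nat_lit 0x120000d), (nat_lit 0x1b5195b80d), (nat_lit 0x1a83052429), (nat_lit 0)⟩)
 (.l ⟨(nat_lit 0xc00013), (nat_lit 0x141f01415), (nat_lit 0x1f1c9760ec050055c6656e), (nat_lit 0)⟩))
 (.l ⟨(nat_lit 0xc0000d), (nat_lit 0x6c110701d), (nat_lit 0x1686114575005455f554), (nat_lit 0)⟩)))))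
 (.n (.n (.n (.n (.n (.l ⟨(nat_lit 0xc0000b), (nat_lit 0x5f05a14c1b), (nat_lit 0x405171c031), (nat_lit 0)⟩)
 (.l ⟨(nat_lit 0xc0000d), (nat_lit 0x68180141e), (nat_lit 0x150c4664d4050054159994), (nat_lit 0)⟩))
 (.n (.l ⟨(nat_lit 0xa00007), (nat_lit 0x1406c2107007), (nat_lit 0xec215910d0050055356189), (nat_lit 0)⟩)
 (.l ⟨(nat_lit 0xa00015), (nat_lit 0x841904c03), (nat_lit 0x47168771c0050054756d93), (nat_lit 0)⟩)))
 (.n (.n (.l ⟨(nat_lit 0xc0000d), (nat_lit 0x1a59b3fc75), (nat_lit 0x1045347450), (nat_lit 0)⟩)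
 (.l ⟨(nat_lit 0xc0000d), (nat_lit 0x210141f07012), (nat_lit 0x241e8c308c050055057d7b), (nat_lit 0)⟩))
 (.l ⟨(nat_lit 0xa0000d), (nat_lit 0x1406821), (nat_lit 0x1582f610930140156180), (nat_lit 0)⟩)))
 (.n (.n (.n (.l ⟨(nat_lit 0xc0000d), (nat_lit 0x59151f110), (nat_lit 0x179341dc4f), (nat_lit 0)⟩)
 (.l ⟨(nat_lit 0xc0000d), (nat_lit 0x160702107011), (nat_lit 0x3f1a1810ec050054f5a580), (nat_lit 0)⟩))
 (.l ⟨(nat_lit 0xc0000d), (nat_lit 0x150141107014), (nat_lit 0x42499840a94b5fd55), (nat_lit 0)⟩))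
 (.n (.n (.l ⟨(nat_lit 0x120000d), (nat_lit 0xff2286a), (nat_lit 0x6c751b81b), (nat_lit 0)⟩)
 (.l ⟨(nat_lit 0xc0000f), (nat_lit 0x2c1707007), (nat_lit 0x471fd8c05005005416797a), (nat_lit 0)⟩))
 (.l ⟨(nat_lit 0xa0000d), (nat_lit 0x1d0142001415), (nat_lit 0x6506580024050054c58160), (nat_lit 0)⟩))))
 (.n (.n (.n (.n (.l ⟨(nat_lit 0xc0000d), (nat_lit 0x1259720418), (nat_lit 0x184204591d), (nat_lit 0)⟩)
 (.l ⟨(nat_lit 0xc0000d), (nat_lit 0x641f0682207013), (nat_lit 0x5cbf568070140163d81), (nat_lit 0)⟩))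
 (.l ⟨(nat_lit 0xc0000b), (nat_lit 0x141d0681707007), (nat_lit 0x305b45402d4d5f977), (nat_lit 0)⟩))
 (.n (.n (.l ⟨(nat_lit 0xc0000d), (nat_lit 0x44b315cd3), (nat_lit 0x50fd0753a), (nat_lit 0)⟩)
 (.l ⟨(nat_lit 0xc0000d), (nat_lit 0x68160141f07011), (nat_lit 0x626285e0554a5a99c), (nat_lit 0)⟩))
 (.l ⟨(nat_lit 0xa0000d), (nat_lit 0x701f07007), (nat_lit 0x4159851440050054761161), (nat_lit 0)⟩)))
 (.n (.n (.n (.l ⟨(nat_lit 0xc0000d), (nat_lit 0xd4444c844), (nat_lit 0xbd0822027), (nat_lit 0)⟩)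
 (.l ⟨(nat_lit 0xc0000d), (nat_lit 0x68160701d07007), (nat_lit 0x671100362d5667551), (nat_lit 0)⟩))
 (.l ⟨(nat_lit 0xc0000d), (nat_lit 0x681f0681d), (nat_lit 0x4d05931055495b14d), (nat_lit 0)⟩))
 (.n (.n (.l ⟨(nat_lit 0x140000d), (nat_lit 0x2d1213017), (nat_lit 0xd46659401), (nat_lit 0)⟩)
 (.l ⟨(nat_lit 0xe00013), (nat_lit 0x140641f01415), (nat_lit 0x2949477200050054d62194), (nat_lit 0)⟩))
 (.l ⟨(nat_lit 0xc0000d), (nat_lit 0x681d0681807007), (nat_lit 0x6441e1d42853183678020180a00c020180401d4b5b178), (nat_lit 0)⟩)))))))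
 (.n (.n (.n (.n (.n (.n (.n (.l ⟨(nat_lit 0x600007), (nat_lit 0xf0f925007), (nat_lit 0x656b3ec18), (nat_lit 0)⟩)
 (.l ⟨(nat_lit 0xc0000d), (nat_lit 0x1f0641607007), (nat_lit 0x630213e4050054567194), (nat_lit 0)⟩))
 (.n (.l ⟨(nat_lit 0x140000d), (nat_lit 0x1987e1cd12), (nat_lit 0x1147e21979), (nat_lit 0)⟩)
 (.l ⟨(nat_lit 0xa00015), (nat_lit 0x907c03), (nat_lit 0x350515a01c050054164958), (nat_lit 0)⟩)))
 (.n (.n (.l ⟨(nat_lit 0xc0000d), (nat_lit 0x4a04b1dc1e), (nat_lit 0xbc1e83f), (nat_lit 0)⟩)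
 (.l ⟨(nat_lit 0xc0000d), (nat_lit 0x681406c1807012), (nat_lit 0x335005d0317b5140800c050040401d4563d4f), (nat_lit 0)⟩))
 (.l ⟨(nat_lit 0xa0000d), (nat_lit 0x150681307012), (nat_lit 0x2f1207442c050054c64989), (nat_lit 0)⟩)))
 (.n (.n (.n (.l ⟨(nat_lit 0xc0000d), (nat_lit 0x6cb845888), (nat_lit 0x13c331a809), (nat_lit 0)⟩)
 (.l ⟨(nat_lit 0xc0000d), (nat_lit 0x220141d0641d), (nat_lit 0x660503a4e4050055e5f967), (nat_lit 0)⟩))
 (.l ⟨(nat_lit 0x120000b), (nat_lit 0x1706c2207012), (nat_lit 0x6f02c3f2294d5c19e), (nat_lit 0)⟩))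
 (.n (.n (.l ⟨(nat_lit 0xe0000d), (nat_lit 0xc182134b3), (nat_lit 0x310fb18c49), (nat_lit 0)⟩)
 (.l ⟨(nat_lit 0xc0000d), (nat_lit 0x641706c120681d), (nat_lit 0x6c1b4c1044050054766d45), (nat_lit 0)⟩))
 (.l ⟨(nat_lit 0xc0000d), (nat_lit 0x1306c070141d), (nat_lit 0x566046511c05005455d194), (nat_lit 0)⟩))))
 (.n (.n (.n (.n (.l ⟨(nat_lit 0xc0000b), (nat_lit 0xd06f49036), (nat_lit 0x1606064083), (nat_lit 0)⟩)
 (.l ⟨(nat_lit 0xc0000d), (nat_lit 0x381d0141d), (nat_lit 0x671d5880f15b54988), (nat_lit 0)⟩))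
 (.l ⟨(nat_lit 0xe00009), (nat_lit 0x1d0701f07012), (nat_lit 0x3f18d7d2894b66560), (nat_lit 0)⟩))
 (.n (.n (.l ⟨(nat_lit 0xc0000d), (nat_lit 0x618706c7c), (nat_lit 0x1098404d6b), (nat_lit 0)⟩)
 (.l ⟨(nat_lit 0xc0000d), (nat_lit 0x68200641707007), (nat_lit 0x15986f3e8050055160983), (nat_lit 0)⟩))
 (.l ⟨(nat_lit 0xc0000d), (nat_lit 0x190780505c03), (nat_lit 0x15104634c8050055d61594), (nat_lit 0)⟩)))
 (.n (.n (.n (.l ⟨(nat_lit 0xc0000d), (nat_lit 0x1ad760c05e), (nat_lit 0x188d40316e), (nat_lit 0)⟩)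
 (.l ⟨(nat_lit 0xc0000d), (nat_lit 0x210682007007), (nat_lit 0x530711d19d455b973), (nat_lit 0)⟩))
 (.l ⟨(nat_lit 0xc0000d), (nat_lit 0x1106c2207012), (nat_lit 0x631e5860796967986), (nat_lit 0)⟩))
 (.n (.n (.l ⟨(nat_lit 0x120000d), (nat_lit 0x145124f407), (nat_lit 0x4763c4510401), (nat_lit 0)⟩)
 (.l ⟨(nat_lit 0x1400013), (nat_lit 0x6c1806c20), (nat_lit 0x664584711d7a54584), (nat_lit 0)⟩))
 (.l ⟨(nat_lit 0xc0000d), (nat_lit 0x700f07011), (nat_lit 0x847864c6c505785cc020180a00c020180401d455cd79), (nat_lit 0)⟩)))))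
 (.n (.n (.n (.n (.n (.l ⟨(nat_lit 0xc0000b), (nat_lit 0xd0a217c09), (nat_lit 0xf06d49c09), (nat_lit 0)⟩)
 (.l ⟨(nat_lit 0x120000d), (nat_lit 0x681507017), (nat_lit 0x5c1852d24d4354170), (nat_lit 0)⟩))
 (.n (.l ⟨(nat_lit 0x1400007), (nat_lit 0x702106c1807007), (nat_lit 0x545f8ec209525ad7a), (nat_lit 0)⟩)
 (.l ⟨(nat_lit 0x1200015), (nat_lit 0x581307013), (nat_lit 0x5e1f45a17805005525f979), (nat_lit 0)⟩)))
 (.n (.n (.l ⟨(nat_lit 0xc0000d), (nat_lit 0x1ac571a811), (nat_lit 0x1b13f0a1775954d020030140101007), (nat_lit 0)⟩)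
 (.l ⟨(nat_lit 0xc0000d), (nat_lit 0x1306c1407013), (nat_lit 0x6714832004050054160979), (nat_lit 0)⟩))
 (.l ⟨(nat_lit 0xc0000d), (nat_lit 0x1b0741c03811), (nat_lit 0x5cc443e0050054f5e95e), (nat_lit 0)⟩)))
 (.n (.n (.n (.l ⟨(nat_lit 0xc0000d), (nat_lit 0x14d7f1517b), (nat_lit 0x18c796181e), (nat_lit 0)⟩)
 (.l ⟨(nat_lit 0x120000d), (nat_lit 0x13068130141d), (nat_lit 0x6d4dc36105456359d), (nat_lit 0)⟩))
 (.l ⟨(nat_lit 0x80000d), (nat_lit 11), (nat_lit 0x2314c6e040050054d63970), (nat_lit 0)⟩))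
 (.n (.n (.l ⟨(nat_lit 0x120000b), (nat_lit 0x660653d1e001), (nat_lit 0x4744360415), (nat_lit 0)⟩)
 (.l ⟨(nat_lit 0xc0000f), (nat_lit 0x4c1707007), (nat_lit 0x1d0d55200c05005436317f), (nat_lit 0)⟩))
 (.l ⟨(nat_lit 0xc0000d), (nat_lit 0x68160681e), (nat_lit 0xf38929048050054b5e171), (nat_lit 0)⟩))))
 (.n (.n (.n (.n (.l ⟨(nat_lit 0xc0000d), (nat_lit 0x1953b22519), (nat_lit 0x1109f20994), (nat_lit 0)⟩)
 (.l ⟨(nat_lit 0xc0000d), (nat_lit 0x200641507011), (nat_lit 0x301a1514cc050054166179), (nat_lit 0)⟩))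
 (.l ⟨(nat_lit 0xc0000b), (nat_lit 0x141e07010), (nat_lit 0x124b8680356d63d95), (nat_lit 0)⟩))
 (.n (.n (.l ⟨(nat_lit 0xc0000d), (nat_lit 0x17c6d20437), (nat_lit 0x5b85318c35014015657257c07), (nat_lit 0)⟩)
 (.l ⟨(nat_lit 0xc0000d), (nat_lit 0x1d070130701d), (nat_lit 0x6c1a87e1b0050057e5a194), (nat_lit 0)⟩))
 (.l ⟨(nat_lit 0xc0000d), (nat_lit 0x140f06c1806415), (nat_lit 0x6e4e594180050054760d50), (nat_lit 0)⟩)))
 (.n (.n (.n (.l ⟨(nat_lit 0xc0000d), (nat_lit 0x643a48c6c), (nat_lit 0xc87f35407), (nat_lit 0)⟩)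
 (.l ⟨(nat_lit 0xc0000d), (nat_lit 0x681e06c1807010), (nat_lit 0x3b1ad880e54f6119a), (nat_lit 0)⟩))
 (.l ⟨(nat_lit 0xc0000d), (nat_lit 0x17064120641d), (nat_lit 0x176444f3f94566d75), (nat_lit 0)⟩))
 (.n (.n (.l ⟨(nat_lit 0x140000b), (nat_lit 0x5d774d417), (nat_lit 0x16c6f1f52a), (nat_lit 0)⟩)
 (.l ⟨(nat_lit 0xc00013), (nat_lit 0x601b07812), (nat_lit 0x178ec08855004050054c62195), (nat_lit 0)⟩))
 (.l ⟨(nat_lit 0xc0000d), (nat_lit 0x142107014), (nat_lit 0x72101a6294562d61), (nat_lit 0)⟩))))))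
 (.n (.n (.n (.n (.n (.n (.l ⟨(nat_lit 0xc00009), (nat_lit 0x140b859c6b), (nat_lit 0x7c134fa), (nat_lit 0)⟩)
 (.l ⟨(nat_lit 0xc0000d), (nat_lit 0x441f0141107010), (nat_lit 0x1c5d45b1900154d995cc0800c050040401d4753d70), (nat_lit 0)⟩))
 (.n (.l ⟨(nat_lit 0x140000d), (nat_lit 0xe12216d), (nat_lit 0xdc4b1587d), (nat_lit 0)⟩)
 (.l ⟨(nat_lit 0x800015), (nat_lit 0x141f0641007007), (nat_lit 0xa44109c01014016155c), (nat_lit 0)⟩)))
 (.n (.n (.l ⟨(nat_lit 0xc0000d), (nat_lit 0x5a07f60852), (nat_lit 0x15911a833), (nat_lit 0)⟩)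
 (.l ⟨(nat_lit 0xc0000d), (nat_lit 0x641706c120141d), (nat_lit 0x435606e1e14d57194), (nat_lit 0)⟩))
 (.l ⟨(nat_lit 0xc0000d), (nat_lit 0x1b03c2101415), (nat_lit 0x70919b01c050055a60d52), (nat_lit 0)⟩)))
 (.n (.n (.n (.l ⟨(nat_lit 0xc0000d), (nat_lit 0x1351566c07), (nat_lit 0x88011e46a), (nat_lit 0)⟩)
 (.l ⟨(nat_lit 0xc0000d), (nat_lit 0x48220141607007), (nat_lit 0x305312c35014015e149), (nat_lit 0)⟩))
 (.l ⟨(nat_lit 0x120000b), (nat_lit 0x220681407012), (nat_lit 0x1a0f7110345d95f), (nat_lit 0)⟩))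
 (.n (.n (.l ⟨(nat_lit 0xe0000d), (nat_lit 0x194d51b116), (nat_lit 0x135074f835), (nat_lit 0)⟩)
 (.l ⟨(nat_lit 0xc0000f), (nat_lit 0x302207007), (nat_lit 0x1bc274052d00405005525d58b), (nat_lit 0)⟩))
 (.l ⟨(nat_lit 0xc0000d), (nat_lit 0x16070140141e), (nat_lit 0x445d86c4394166164), (nat_lit 0)⟩))))
 (.n (.n (.n (.n (.l ⟨(nat_lit 0xc0000b), (nat_lit 0x11c79210f2), (nat_lit 0x1c281e857), (nat_lit 0)⟩)
 (.l ⟨(nat_lit 0xc0000d), (nat_lit 0x681d06c1007007), (nat_lit 0x141817316005005416317d), (nat_lit 0)⟩))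
 (.l ⟨(nat_lit 0x120000b), (nat_lit 0x20070180641e), (nat_lit 0x68724c4c35154d), (nat_lit 0)⟩))
 (.n (.n (.l ⟨(nat_lit 0xc0000d), (nat_lit 0x4696c1f439), (nat_lit 0x33250511799c65408), (nat_lit 0)⟩)
 (.l ⟨(nat_lit 0xc0000d), (nat_lit 0x6c1e0681807007), (nat_lit 0x6a1c4850c805005455e18f), (nat_lit 0)⟩))
 (.l ⟨(nat_lit 0xc0000d), (nat_lit 0x200141001415), (nat_lit 0x611b50201c05005686794f), (nat_lit 0)⟩)))
 (.n (.n (.n (.l ⟨(nat_lit 0xc0000d), (nat_lit 0x196307f5d401), (nat_lit 0x646217c5d), (nat_lit 0)⟩)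
 (.l ⟨(nat_lit 0xc0000d), (nat_lit 0x706c2207010), (nat_lit 0x28600660d805005435bd49), (nat_lit 0)⟩))
 (.l ⟨(nat_lit 0xc0000d), (nat_lit 0x60110700707007), (nat_lit 0x1a1a4bf1815154585), (nat_lit 0)⟩))
 (.n (.n (.l ⟨(nat_lit 0x120000f), (nat_lit 0x3c5b55879), (nat_lit 0x2c720755963586020030140101007), (nat_lit 0)⟩)
 (.l ⟨(nat_lit 0xc00013), (nat_lit 0x80130681107010), (nat_lit 0x121251cc610140154970), (nat_lit 0)⟩))
 (.l ⟨(nat_lit 0xc0000d), (nat_lit 0x160701f06415), (nat_lit 0x1d64c592fc05005495818c), (nat_lit 0)⟩)))))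
 (.n (.n (.n (.n (.n (.l ⟨(nat_lit 0xc0000b), (nat_lit 0x1017f25039), (nat_lit 0x1844e4342f), (nat_lit 0)⟩)
 (.l ⟨(nat_lit 0xc0000d), (nat_lit 0x141e0681207007), (nat_lit 0x331397c444050055551d79), (nat_lit 0)⟩))
 (.n (.l ⟨(nat_lit 0xc00007), (nat_lit 0x120141707014), (nat_lit 0x6d3ac591355859593), (nat_lit 0)⟩)
 (.l ⟨(nat_lit 0xc00015), (nat_lit 0x542006c0f07007), (nat_lit 0x1ac661cd7d004050054b6257b), (nat_lit 0)⟩)))
 (.n (.n (.l ⟨(nat_lit 0xc0000d), (nat_lit 0x25c8a47c47), (nat_lit 0x6414020345525e58a0080602407014080280c0300c02407014080280b01c05020050040802c0b), (nat_lit 0)⟩)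
 (.l ⟨(nat_lit 0x80000d), (nat_lit 0x1d0702206816), (nat_lit 0x685a05103c050054560196), (nat_lit 0)⟩))
 (.l ⟨(nat_lit 0xc0000d), (nat_lit 0x1306c110141e), (nat_lit 0x5b0c97910d5463d94), (nat_lit 0)⟩)))
 (.n (.n (.n (.l ⟨(nat_lit 0xc0000d), (nat_lit 0x1607d03d34), (nat_lit 0x150171ad35), (nat_lit 0)⟩)
 (.l ⟨(nat_lit 0xc0000d), (nat_lit 0x190441707007), (nat_lit 0x4e48048310050054b6755c), (nat_lit 0)⟩))
 (.l ⟨(nat_lit 0xc0000d), (nat_lit 0x2206c1d01415), (nat_lit 0x912d3905005005505298e), (nat_lit 0)⟩))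
 (.n (.n (.l ⟨(nat_lit 0x120000d), (nat_lit 0x5167403), (nat_lit 0xcc8166457541715d008), (nat_lit 0)⟩)
 (.l ⟨(nat_lit 0xc00011), (nat_lit 0x1b02c1d), (nat_lit 0x58f70e40d0140158d78), (nat_lit 0)⟩))
 (.l ⟨(nat_lit 0x140000d), (nat_lit 0x681707012), (nat_lit 0x30049600a9455b99b), (nat_lit 0)⟩))))
 (.n (.n (.n (.n (.l ⟨(nat_lit 0xc0000d), (nat_lit 0x491613926), (nat_lit 0x1a4208666c01), (nat_lit 0)⟩)
 (.l ⟨(nat_lit 0x120000d), (nat_lit 0x70100641307007), (nat_lit 0x6808d591314561147), (nat_lit 0)⟩))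
 (.l ⟨(nat_lit 0x140000b), (nat_lit 0x4c1b04c03), (nat_lit 0x11d7e1f45f6017b), (nat_lit 0)⟩))
 (.n (.n (.l ⟨(nat_lit 0xc0000d), (nat_lit 0x1086e1b91e), (nat_lit 0x5742822839), (nat_lit 0)⟩)
 (.l ⟨(nat_lit 0xc0000d), (nat_lit 0x801b05c1c02c07), (nat_lit 0x5b454480cc05005416316e), (nat_lit 0)⟩))
 (.l ⟨(nat_lit 0xc0000d), (nat_lit 0x2206c1107007), (nat_lit 0x244a5661ec05005435e58a), (nat_lit 0)⟩)))
 (.n (.n (.n (.l ⟨(nat_lit 0xc0000d), (nat_lit 0xc9631f931), (nat_lit 0x6345819c34), (nat_lit 0)⟩)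
 (.l ⟨(nat_lit 0xc0000d), (nat_lit 0x14210140707011), (nat_lit 0x1a4550bc0c005585a588), (nat_lit 0)⟩))
 (.l ⟨(nat_lit 0xc0000d), (nat_lit 0xf0641307007), (nat_lit 0x519c5b0d54563d79), (nat_lit 0)⟩))
 (.n (.n (.l ⟨(nat_lit 0x140000d), (nat_lit 0x2ca21fc9f), (nat_lit 0xd8555ac2f), (nat_lit 0)⟩)
 (.l ⟨(nat_lit 0xc00013), (nat_lit 0x1d068120141d), (nat_lit 0x65079733e8050054a5c17d), (nat_lit 0)⟩))
 (.l ⟨(nat_lit 0xc0000d), (nat_lit 0x1d0141407011), (nat_lit 0x13151821f405005475a191), (nat_lit 0)⟩)))))))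
noncomputable def T11 : Tr :=
  .n (.n (.n (.n (.n (.n (.n (.n (.l ⟨(nat_lit 0xa00003), (nat_lit 30), (nat_lit 0), (nat_lit 0)⟩)
 (.l ⟨(nat_lit 0xc0000d), (nat_lit 0x482206415), (nat_lit 0x1a85062cb5014015a15f5f0075ad56), (nat_lit 0)⟩))
 (.n (.l ⟨(nat_lit 0x140000d), (nat_lit 0x1055a1f051), (nat_lit 0xfc713541b), (nat_lit 0)⟩)
 (.l ⟨(nat_lit 0xe00013), (nat_lit 0x6c0f06c150141e), (nat_lit 0x114fa03475004050054756d4d), (nat_lit 0)⟩)))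
 (.n (.n (.l ⟨(nat_lit 0xc0000d), (nat_lit 0x1ac145001a), (nat_lit 0x1643b47821), (nat_lit 0)⟩)
 (.l ⟨(nat_lit 0xc0000d), (nat_lit 0x682006c0707007), (nat_lit 0x5d5548818d495cd87), (nat_lit 0)⟩))
 (.l ⟨(nat_lit 0xc0000d), (nat_lit 0x1a0881c0740b), (nat_lit 0x408545f0115e181), (nat_lit 0)⟩)))
 (.n (.n (.n (.l ⟨(nat_lit 0xc0000d), (nat_lit 0x346867049), (nat_lit 0x899d218bf), (nat_lit 0)⟩)
 (.l ⟨(nat_lit 0xc0000d), (nat_lit 0x801b04c1a04803), (nat_lit 0x2166d2f200050055563d6c), (nat_lit 0)⟩))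
 (.l ⟨(nat_lit 0xa0000b), (nat_lit 0x1f06c1306c1f), (nat_lit 0xd10208c0b63981), (nat_lit 0)⟩))
 (.n (.n (.l ⟨(nat_lit 0xe00007), (nat_lit 0x5b81054810), (nat_lit 0x1853c21063), (nat_lit 0)⟩)
 (.l ⟨(nat_lit 0xc0000d), (nat_lit 0x1c1b0442107007), (nat_lit 0x94e04f0715a5614d), (nat_lit 0)⟩))
 (.l ⟨(nat_lit 0xc0000d), (nat_lit 0x70110641606815), (nat_lit 0x230a59d150050055867960), (nat_lit 0)⟩))))
 (.n (.n (.n (.n (.l ⟨(nat_lit 0xc0000b), (nat_lit 0x1086708c34), (nat_lit 0x1556402c09), (nat_lit 0)⟩)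
 (.l ⟨(nat_lit 0xc0000d), (nat_lit 0xf06c1507012), (nat_lit 0x365ac7508c050055a5e17a), (nat_lit 0)⟩))
 (.n (.l ⟨(nat_lit 0x1200007), (nat_lit 0x180701d07007), (nat_lit 0), (nat_lit 0)⟩)
 (.l ⟨(nat_lit 0xa00015), (nat_lit 0x200141001415), (nat_lit 0x211602821005005605e945), (nat_lit 0)⟩)))
 (.n (.n (.l ⟨(nat_lit 0xc0000d), (nat_lit 0x246f44087), (nat_lit 0xbd081886f), (nat_lit 0)⟩)
 (.l ⟨(nat_lit 0xc0000d), (nat_lit 0x170641607017), (nat_lit 0x2203d2821d5162d7f), (nat_lit 0)⟩))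
 (.l ⟨(nat_lit 0xc0000d), (nat_lit 0x641f06c1007007), (nat_lit 0x503106b1814a5a99c), (nat_lit 0)⟩)))
 (.n (.n (.n (.l ⟨(nat_lit 0xc0000d), (nat_lit 0x454607820401), (nat_lit 0x1bd7a1d0bb), (nat_lit 0)⟩)
 (.l ⟨(nat_lit 0xc0000d), (nat_lit 0x180641701415), (nat_lit 0x6c7621c58014015bd71), (nat_lit 0)⟩))
 (.l ⟨(nat_lit 0x140000d), (nat_lit 26643), (nat_lit 0x145dc880500165d70), (nat_lit 0)⟩))
 (.n (.n (.l ⟨(nat_lit 0x120000d), (nat_lit 0x198503f175), (nat_lit 0x1b48962885), (nat_lit 0)⟩)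
 (.l ⟨(nat_lit 0xc00013), (nat_lit 0x170141e0141e), (nat_lit 0x216281407c05005555dd79), (nat_lit 0)⟩))
 (.l ⟨(nat_lit 0xc0000d), (nat_lit 0x6c1306c170701d), (nat_lit 0x184535d8765a959), (nat_lit 0)⟩)))))
 (.n (.n (.n (.n (.n (.l ⟨(nat_lit 0xc00009), (nat_lit 0x12d2e1f523), (nat_lit 0x1bc5752460), (nat_lit 0)⟩)
 (.l ⟨(nat_lit 0xc0000d), (nat_lit 0x641d0680f07011), (nat_lit 0x111693b1754360564), (nat_lit 0)⟩))
 (.n (.l ⟨(nat_lit 0x1400013), (nat_lit 0x493b06131001), (nat_lit 0x14c4918c48), (nat_lit 0)⟩)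
 (.l ⟨(nat_lit 0xa00015), (nat_lit 0x120701e07011), (nat_lit 0x15909c6812c050054167586), (nat_lit 0)⟩)))
 (.n (.n (.l ⟨(nat_lit 0xc0000d), (nat_lit 0x1052406d2f), (nat_lit 0x446f0304c), (nat_lit 0)⟩)
 (.l ⟨(nat_lit 0xc0000d), (nat_lit 0x3c1d0682007007), (nat_lit 0x19048806394760d94), (nat_lit 0)⟩))
 (.l ⟨(nat_lit 0xc0000d), (nat_lit 0x1b04c0503c03), (nat_lit 0x285a476159475dd96), (nat_lit 0)⟩)))
 (.n (.n (.n (.l ⟨(nat_lit 0xc0000d), (nat_lit 0x85731f821), (nat_lit 0x1163c294f001), (nat_lit 0)⟩)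
 (.l ⟨(nat_lit 0xc0000d), (nat_lit 0x70070681f07011), (nat_lit 0x1805813c690140151d4d), (nat_lit 0)⟩))
 (.l ⟨(nat_lit 0xc0000b), (nat_lit 0x481507011), (nat_lit 0x64736040c5bd82), (nat_lit 0)⟩))
 (.n (.n (.l ⟨(nat_lit 0xe0000d), (nat_lit 0x1a40b224f9), (nat_lit 0x2f15c791dd525a98d020030140101007), (nat_lit 0)⟩)
 (.l ⟨(nat_lit 0xc0000f), (nat_lit 0x1e0641d06815), (nat_lit 0x45945f4350140151569), (nat_lit 0)⟩))
 (.l ⟨(nat_lit 0xc0000d), (nat_lit 0x2c1d07010), (nat_lit 0x5e4d8521b54d59d87), (nat_lit 0)⟩))))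
 (.n (.n (.n (.n (.l ⟨(nat_lit 0xc0000d), (nat_lit 0x1d5f3cc07), (nat_lit 0x1cc459807), (nat_lit 0)⟩)
 (.l ⟨(nat_lit 0xc0000d), (nat_lit 0x70070641f), (nat_lit 0x5e5f40f421415f997), (nat_lit 0)⟩))
 (.l ⟨(nat_lit 0xc0000b), (nat_lit 0x1d06c180641d), (nat_lit 0x501b04c0c5435958f), (nat_lit 0)⟩))
 (.n (.n (.l ⟨(nat_lit 0xc0000d), (nat_lit 0x1340d46c74), (nat_lit 0x155810f007014015d966020030140101007), (nat_lit 0)⟩)
 (.l ⟨(nat_lit 0xa0000d), (nat_lit 0x14210701e07011), (nat_lit 0x246700701405005475d178), (nat_lit 0)⟩))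
 (.l ⟨(nat_lit 0xc0000d), (nat_lit 0x701407013), (nat_lit 0x2c86388185e59d), (nat_lit 0)⟩)))
 (.n (.n (.n (.l ⟨(nat_lit 0xc0000d), (nat_lit 0x1102330c4f), (nat_lit 0x149321c45b), (nat_lit 0)⟩)
 (.l ⟨(nat_lit 0xa0000d), (nat_lit 0x70180641407007), (nat_lit 0x111950fd9d014016055f), (nat_lit 0)⟩))
 (.l ⟨(nat_lit 0x140000d), (nat_lit 0xe06c1407010), (nat_lit 0x23620603c94167597), (nat_lit 0)⟩))
 (.n (.n (.l ⟨(nat_lit 0x1200013), (nat_lit 0x3506b1b407), (nat_lit 0x1041747883), (nat_lit 0)⟩)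
 (.l ⟨(nat_lit 0xc00013), (nat_lit 0xf0681107010), (nat_lit 0x511147d64805005456198d), (nat_lit 0)⟩))
 (.l ⟨(nat_lit 0xc0000d), (nat_lit 0x641107014), (nat_lit 0x68084661a94162d4b), (nat_lit 0)⟩))))))
 (.n (.n (.n (.n (.n (.n (.l ⟨(nat_lit 0xa0000b), (nat_lit 247833), (nat_lit 0xc4b8b2), (nat_lit 0)⟩)
 (.l ⟨(nat_lit 0xc0000d), (nat_lit 0x700706416), (nat_lit 0x670591f024050055257997), (nat_lit 0)⟩))
 (.n (.l ⟨(nat_lit 0x140000d), (nat_lit 0x1063ac1d), (nat_lit 0x647e41853), (nat_lit 0)⟩)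
 (.l ⟨(nat_lit 0xc00015), (nat_lit 0x741a05c03), (nat_lit 0xc0bf460030140154978), (nat_lit 0)⟩)))
 (.n (.n (.l ⟨(nat_lit 0xc0000d), (nat_lit 0xa15964c4e), (nat_lit 0x413cd2d1fd5a56188020030140101007), (nat_lit 0)⟩)
 (.l ⟨(nat_lit 0xc0000d), (nat_lit 0x1206c2207010), (nat_lit 0x364590f01d4f63947), (nat_lit 0)⟩))
 (.l ⟨(nat_lit 0xc0000d), (nat_lit 0x641507011), (nat_lit 0x1398219014014015157f), (nat_lit 0)⟩)))
 (.n (.n (.n (.l ⟨(nat_lit 0xc0000d), (nat_lit 0x16d1512033), (nat_lit 0x715d1b865), (nat_lit 0)⟩)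
 (.l ⟨(nat_lit 0xc0000d), (nat_lit 0x68200141707012), (nat_lit 0x144c4502d4050054d6119c), (nat_lit 0)⟩))
 (.l ⟨(nat_lit 0xe0000b), (nat_lit 0x130700707011), (nat_lit 0x1f1ec522456164d66), (nat_lit 0)⟩))
 (.n (.n (.l ⟨(nat_lit 0xe0000d), (nat_lit 0x15d9808059), (nat_lit 0x184874c0f3), (nat_lit 0)⟩)
 (.l ⟨(nat_lit 0xc0000d), (nat_lit 0x58180640707007), (nat_lit 0x600d91004805005596517d), (nat_lit 0)⟩))
 (.l ⟨(nat_lit 0xe0000d), (nat_lit 0x1306c1707011), (nat_lit 0x6e0698d11d9661c0800c050040401d475698f), (nat_lit 0)⟩))))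
 (.n (.n (.n (.n (.l ⟨(nat_lit 0xc0000b), (nat_lit 0x1bcc418460), (nat_lit 0x17468488b6), (nat_lit 0)⟩)
 (.l ⟨(nat_lit 0xc0000d), (nat_lit 0x68140641d), (nat_lit 0x1213cf808405005495cd69), (nat_lit 0)⟩))
 (.l ⟨(nat_lit 0xa0000a), (nat_lit 0x1c0c06c1f07011068160141d), (nat_lit 0), (nat_lit 0)⟩))
 (.n (.n (.l ⟨(nat_lit 0xc0000d), (nat_lit 0x1383107017), (nat_lit 0x1f3d08441401), (nat_lit 0)⟩)
 (.l ⟨(nat_lit 0xc0000d), (nat_lit 0x6c1e0681107010), (nat_lit 0x18c854903f004050054f6158f), (nat_lit 0)⟩))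
 (.l ⟨(nat_lit 0xc0000d), (nat_lit 0x6c1406c1207010), (nat_lit 0x7f1c11a0756c62149), (nat_lit 0)⟩)))
 (.n (.n (.n (.l ⟨(nat_lit 0xc0000d), (nat_lit 0x1692616816), (nat_lit 0x512e2143b), (nat_lit 0)⟩)
 (.l ⟨(nat_lit 0xc0000d), (nat_lit 0x5c1c0741901c03), (nat_lit 0x1dc582d42a549875a40800c050040401d5263999), (nat_lit 0)⟩))
 (.l ⟨(nat_lit 0xc0000d), (nat_lit 0x160681e01416), (nat_lit 0x4186c2840b6314a), (nat_lit 0)⟩))
 (.n (.n (.l ⟨(nat_lit 0x120000d), (nat_lit 0x8965076), (nat_lit 0x487c66414), (nat_lit 0)⟩)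
 (.l ⟨(nat_lit 0x600013), (nat_lit 0x841807007), (nat_lit 0x1d5006903c05005435f973), (nat_lit 0)⟩))
 (.l ⟨(nat_lit 0xa0000d), (nat_lit 0x58190481c04c03), (nat_lit 0x4c1406705c05005566519e), (nat_lit 0)⟩)))))
 (.n (.n (.n (.n (.n (.l ⟨(nat_lit 0xc0000b), (nat_lit 0x7c621bc55), (nat_lit 0x68b11c93f), (nat_lit 0)⟩)
 (.l ⟨(nat_lit 0xc0000d), (nat_lit 0x160140f0141e), (nat_lit 0x544796918c050054c56584), (nat_lit 0)⟩))
 (.n (.l ⟨(nat_lit 0x600007), (nat_lit 0x110141507012), (nat_lit 0x656b3ec185054b), (nat_lit 0)⟩)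
 (.l ⟨(nat_lit 0xa00015), (nat_lit 0x160641407014), (nat_lit 0x374f99809005005525f966), (nat_lit 0)⟩)))
 (.n (.n (.l ⟨(nat_lit 0xc0000d), (nat_lit 0xff1411d), (nat_lit 0x130c31f00b), (nat_lit 0)⟩)
 (.l ⟨(nat_lit 0xc0000d), (nat_lit 0x1406c1701415), (nat_lit 0x2a5b9800856d66147), (nat_lit 0)⟩))
 (.l ⟨(nat_lit 0xc0000d), (nat_lit 0x681d0681107011), (nat_lit 0x5a1d99a0254d64d87), (nat_lit 0)⟩)))
 (.n (.n (.n (.l ⟨(nat_lit 0xc0000d), (nat_lit 0x1a5244b050), (nat_lit 0x15b1dd73), (nat_lit 0)⟩)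
 (.l ⟨(nat_lit 0xc0000d), (nat_lit 0x706c1401416), (nat_lit 0xc4a2140945459e), (nat_lit 0)⟩))
 (.l ⟨(nat_lit 0xc0000d), (nat_lit 0x1a0541c0480b), (nat_lit 0x17471159835d97c), (nat_lit 0)⟩))
 (.n (.n (.l ⟨(nat_lit 0x120000d), (nat_lit 0x1a1951c405), (nat_lit 0x13d8511409), (nat_lit 0)⟩)
 (.l ⟨(nat_lit 0xa0000f), (nat_lit 0x681306c1206415), (nat_lit 0x5c47cfe180050054c56972), (nat_lit 0)⟩))
 (.l ⟨(nat_lit 0xc0000d), (nat_lit 0x1e0641307017), (nat_lit 0x335f47857d4566555), (nat_lit 0)⟩))))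
 (.n (.n (.n (.n (.l ⟨(nat_lit 0xc0000d), (nat_lit 0x319d15014), (nat_lit 0x6d7b21d00), (nat_lit 0)⟩)
 (.l ⟨(nat_lit 0xc0000d), (nat_lit 0x1a0841307007), (nat_lit 0xbd1e1e4485ed67), (nat_lit 0)⟩))
 (.l ⟨(nat_lit 0xc0000b), (nat_lit 0x881806c1e), (nat_lit 0x193070f305d535e579), (nat_lit 0)⟩))
 (.n (.n (.l ⟨(nat_lit 0xc0000d), (nat_lit 0x51641dd6e), (nat_lit 0x101789419001), (nat_lit 0)⟩)
 (.l ⟨(nat_lit 0xc0000d), (nat_lit 0x120682107013), (nat_lit 0xd4294a4240140158d73), (nat_lit 0)⟩))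
 (.l ⟨(nat_lit 0x120000d), (nat_lit 0x18064170641e), (nat_lit 0x6c751b81b5059056c0800c050040401d496215b), (nat_lit 0)⟩)))
 (.n (.n (.n (.l ⟨(nat_lit 0xc0000d), (nat_lit 0x471757f03c01), (nat_lit 0x1010f2217a), (nat_lit 0)⟩)
 (.l ⟨(nat_lit 0x60000d), (nat_lit 0x1d0682007011), (nat_lit 0x631c95104805005515a979), (nat_lit 0)⟩))
 (.l ⟨(nat_lit 0xc0000d), (nat_lit 0x6c1f06c2007007), (nat_lit 0x14634401f0050055d6014c), (nat_lit 0)⟩))
 (.n (.n (.l ⟨(nat_lit 0x140000b), (nat_lit 0xd85549d66), (nat_lit 0x46e4d468), (nat_lit 0)⟩)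
 (.l ⟨(nat_lit 0xa00013), (nat_lit 0x1d06c2207011), (nat_lit 0x110166145f004050054f56586), (nat_lit 0)⟩))
 (.l ⟨(nat_lit 0xa0000d), (nat_lit 0x640f06816), (nat_lit 0x390b1f06f0140164167), (nat_lit 0)⟩)))))))
 (.n (.n (.n (.n (.n (.n (.n (.l ⟨(nat_lit 0x600003), (nat_lit 0x544815001), (nat_lit 0x3143c411fd496058d020030080601007), (nat_lit 0)⟩)
 (.l ⟨(nat_lit 0xa0000d), (nat_lit 0x1006c1f06c16), (nat_lit 0x18c4d144930140166952), (nat_lit 0)⟩))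
 (.n (.l ⟨(nat_lit 0x140000d), (nat_lit 0x198766281c), (nat_lit 0x444641a401), (nat_lit 0)⟩)
 (.l ⟨(nat_lit 0xc00015), (nat_lit 0x220141e07007), (nat_lit 0x691946c41014015bd9d), (nat_lit 0)⟩)))
 (.n (.n (.l ⟨(nat_lit 0xc0000d), (nat_lit 0x198884e053), (nat_lit 0x849765c67), (nat_lit 0)⟩)
 (.l ⟨(nat_lit 0xc0000d), (nat_lit 0x2c220681607007), (nat_lit 0x60458540dd5561561), (nat_lit 0)⟩))
 (.l ⟨(nat_lit 0xc0000d), (nat_lit 0x1b0541d06815), (nat_lit 0xbd594d0500140167153), (nat_lit 0)⟩)))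
 (.n (.n (.n (.l ⟨(nat_lit 0xc0000d), (nat_lit 0x41100fc0b), (nat_lit 0x1443a1a079), (nat_lit 0)⟩)
 (.l ⟨(nat_lit 0xc0000d), (nat_lit 0x1f0680f0641d), (nat_lit 0x36595941b55654196), (nat_lit 0)⟩))
 (.l ⟨(nat_lit 0x140000b), (nat_lit 0x681506821), (nat_lit 0x319c8a2194358d56), (nat_lit 0)⟩))
 (.n (.n (.l ⟨(nat_lit 0xe0000b), (nat_lit 0x3e07258037), (nat_lit 0x1793f1f4f8), (nat_lit 0)⟩)
 (.l ⟨(nat_lit 0xc0000d), (nat_lit 0x1306c0706c20), (nat_lit 0x5c3c470108050054760164), (nat_lit 0)⟩))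
 (.l ⟨(nat_lit 0x140000d), (nat_lit 0x3c2006c1007007), (nat_lit 0x1a0b45706a0154163d64), (nat_lit 0)⟩))))
 (.n (.n (.n (.n (.l ⟨(nat_lit 0xc0000b), (nat_lit 0x1c685b0b6), (nat_lit 0x1599005036), (nat_lit 0)⟩)
 (.l ⟨(nat_lit 0xc0000d), (nat_lit 0x160700701416), (nat_lit 0x1c3fd740bd505658b), (nat_lit 0)⟩))
 (.l ⟨(nat_lit 0xc00009), (nat_lit 0x1b0482007012), (nat_lit 0x8d0f5b00750569668075a184), (nat_lit 0)⟩))
 (.n (.n (.l ⟨(nat_lit 0xc0000d), (nat_lit 0x485222581), (nat_lit 0xcd401740c), (nat_lit 0)⟩)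
 (.l ⟨(nat_lit 0xa0000d), (nat_lit 0x1f0141707011), (nat_lit 0x546142040005005515e975), (nat_lit 0)⟩))
 (.l ⟨(nat_lit 0xc0000d), (nat_lit 0x2106c1806815), (nat_lit 0x134871d1810140151587), (nat_lit 0)⟩)))
 (.n (.n (.n (.l ⟨(nat_lit 0xc0000d), (nat_lit 0xa0fc17045), (nat_lit 0x14472004545dd51020030140101007), (nat_lit 0)⟩)
 (.l ⟨(nat_lit 0xc0000d), (nat_lit 0x130142007007), (nat_lit 0x158231dc69014015a18a), (nat_lit 0)⟩))
 (.l ⟨(nat_lit 0xc0000d), (nat_lit 0x160681007013), (nat_lit 0x17870650775c97b), (nat_lit 0)⟩))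
 (.n (.n (.l ⟨(nat_lit 0x120000d), (nat_lit 0xe51525c62), (nat_lit 0x115840e596), (nat_lit 0)⟩)
 (.l ⟨(nat_lit 0xa00013), (nat_lit 0x1f0682207013), (nat_lit 0x674b5771a4050055a66173), (nat_lit 0)⟩))
 (.l ⟨(nat_lit 0xa0000d), (nat_lit 0x502006c1107010), (nat_lit 0x455f00355405005435359c), (nat_lit 0)⟩)))))
 (.n (.n (.n (.n (.n (.l ⟨(nat_lit 0xc0000b), (nat_lit 0x386d1c951), (nat_lit 0x5d5e56450), (nat_lit 0)⟩)
 (.l ⟨(nat_lit 0xc0000d), (nat_lit 0x641e06c1707007), (nat_lit 0x1b92c3846b0054b6659c), (nat_lit 0)⟩))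
 (.n (.l ⟨(nat_lit 0xc00005), (nat_lit 0x141106c2207007), (nat_lit 0x7600bf01c05005535f96e), (nat_lit 0)⟩)
 (.l ⟨(nat_lit 0xc00015), (nat_lit 0x70110700707013), (nat_lit 0x10431911d805005525dd82), (nat_lit 0)⟩)))
 (.n (.n (.l ⟨(nat_lit 0xc0000d), (nat_lit 0x104940fd06), (nat_lit 0x1b18728863), (nat_lit 0)⟩)
 (.l ⟨(nat_lit 0xc0000d), (nat_lit 0x401306c1607007), (nat_lit 0x13205650915657d63), (nat_lit 0)⟩))
 (.l ⟨(nat_lit 0xc0000d), (nat_lit 0x1206c1f01415), (nat_lit 0x6d7b21d00545616380800c050040401d4c61d90), (nat_lit 0)⟩)))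
 (.n (.n (.n (.l ⟨(nat_lit 0xc0000d), (nat_lit 0x3551d1b417), (nat_lit 0x903414043), (nat_lit 0)⟩)
 (.l ⟨(nat_lit 0xc0000d), (nat_lit 0x242006c1007007), (nat_lit 0x4e1f93e064050054a6517f), (nat_lit 0)⟩))
 (.l ⟨(nat_lit 0xc0000b), (nat_lit 0x141107014), (nat_lit 0x535815d07d4155d86), (nat_lit 0)⟩))
 (.n (.n (.l ⟨(nat_lit 0x1200007), (nat_lit 0x75401a40f), (nat_lit 0x5cff40824), (nat_lit 0)⟩)
 (.l ⟨(nat_lit 0x60000f), (nat_lit 0x1d0641507007), (nat_lit 0x16e0415204005005476096e), (nat_lit 0)⟩))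
 (.l ⟨(nat_lit 0xc0000d), (nat_lit 0x701306c1f07007), (nat_lit 0x19916d890454566d6b), (nat_lit 0)⟩))))
 (.n (.n (.n (.n (.l ⟨(nat_lit 0xc0000d), (nat_lit 0x142cd56), (nat_lit 0x1d0104c18), (nat_lit 0)⟩)
 (.l ⟨(nat_lit 0xc0000d), (nat_lit 0x110702207010), (nat_lit 0x510e8681e54159d4f), (nat_lit 0)⟩))
 (.l ⟨(nat_lit 0xc0000b), (nat_lit 0x2006c180141f), (nat_lit 0x875e4440914160172), (nat_lit 0)⟩))
 (.n (.n (.l ⟨(nat_lit 0xc0000d), (nat_lit 0x145f43117403), (nat_lit 0x100ff16815), (nat_lit 0)⟩)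
 (.l ⟨(nat_lit 0xc0000d), (nat_lit 0x220681207013), (nat_lit 0x2f4819c02d4561186), (nat_lit 0)⟩))
 (.l ⟨(nat_lit 0xc0000d), (nat_lit 0x6c2207011), (nat_lit 0x4d05934038050054d63597), (nat_lit 0)⟩)))
 (.n (.n (.n (.l ⟨(nat_lit 0xc0000d), (nat_lit 0x1598119447), (nat_lit 0xe85e34960), (nat_lit 0)⟩)
 (.l ⟨(nat_lit 0xc0000d), (nat_lit 0x7c190781a03c03), (nat_lit 0x531b13f090050055766587), (nat_lit 0)⟩))
 (.l ⟨(nat_lit 0xc0000d), (nat_lit 0x220700707014), (nat_lit 0x6b54578110050054164d80), (nat_lit 0)⟩))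
 (.n (.n (.l ⟨(nat_lit 0x140000b), (nat_lit 23793), (nat_lit 0x1a44860127), (nat_lit 0)⟩)
 (.l ⟨(nat_lit 0xc00013), (nat_lit 0x1d06c2206815), (nat_lit 0x396813027014015cd9a), (nat_lit 0)⟩))
 (.l ⟨(nat_lit 0xc0000d), (nat_lit 0x1f06c210140707007), (nat_lit 0x2407c76055455a580), (nat_lit 0)⟩))))))
 (.n (.n (.n (.n (.n (.n (.l ⟨(nat_lit 0xc00007), (nat_lit 0x1583421d9d), (nat_lit 0x1d0f4cc07), (nat_lit 0)⟩)
 (.l ⟨(nat_lit 0xa0000d), (nat_lit 0x700f06420), (nat_lit 0x385043005005596756a), (nat_lit 0)⟩))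
 (.n (.l ⟨(nat_lit 0x140000d), (nat_lit 0xf0f95d076), (nat_lit 0xc221e868), (nat_lit 0)⟩)
 (.l ⟨(nat_lit 0xc00015), (nat_lit 0x200701d0641e), (nat_lit 0x5012c43200050054762191), (nat_lit 0)⟩)))
 (.n (.n (.l ⟨(nat_lit 0xc0000d), (nat_lit 0xcd3213017), (nat_lit 0x184870d90600405005435657600806028030080601007), (nat_lit 0)⟩)
 (.l ⟨(nat_lit 0xc0000d), (nat_lit 0x700f0141e01416), (nat_lit 0x4e11c560e805005495657f02003014010100765578), (nat_lit 0)⟩))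
 (.l ⟨(nat_lit 0x140000d), (nat_lit 0x190881007011), (nat_lit 0x1c2241f0694355564), (nat_lit 0)⟩)))
 (.n (.n (.n (.l ⟨(nat_lit 0xc0000d), (nat_lit 0x141180896b), (nat_lit 0x19d0808d01), (nat_lit 0)⟩)
 (.l ⟨(nat_lit 0xc0000d), (nat_lit 0x70100142207013), (nat_lit 0x670e8810ed4155d52), (nat_lit 0)⟩))
 (.l ⟨(nat_lit 0xc0000b), (nat_lit 0x180681807010), (nat_lit 0x360a4630d95a5157e), (nat_lit 0)⟩))
 (.n (.n (.l ⟨(nat_lit 0xe0000d), (nat_lit 0x1a5e85c0f001), (nat_lit 0x4c171e471), (nat_lit 0)⟩)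
 (.l ⟨(nat_lit 0x120000f), (nat_lit 0x382006c1107007), (nat_lit 0x3c5706e0415060188), (nat_lit 0)⟩))
 (.l ⟨(nat_lit 0x140000d), (nat_lit 0x6c160141e01416), (nat_lit 0x470487e1e54a67554), (nat_lit 0)⟩))))
 (.n (.n (.n (.n (.l ⟨(nat_lit 0xc0000b), (nat_lit 0x1c06216847), (nat_lit 0xd1c15c7f), (nat_lit 0)⟩)
 (.l ⟨(nat_lit 0xc0000d), (nat_lit 0x7c1b05c190780b), (nat_lit 0x584d0c2209415999b), (nat_lit 0)⟩))
 (.l ⟨(nat_lit 0x140000b), (nat_lit 24592), (nat_lit 0x892112a1014c), (nat_lit 0)⟩))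
 (.n (.n (.l ⟨(nat_lit 0xc0000d), (nat_lit 0x30911d848), (nat_lit 0x342066c6c), (nat_lit 0)⟩)
 (.l ⟨(nat_lit 0x140000d), (nat_lit 0x6c220681607013), (nat_lit 0x48c451f02255193), (nat_lit 0)⟩))
 (.l ⟨(nat_lit 0xc0000d), (nat_lit 0x881007011), (nat_lit 0x2cf11a8050054b5d17a), (nat_lit 0)⟩)))
 (.n (.n (.n (.l ⟨(nat_lit 0x60000d), (nat_lit 0x1646a0840f), (nat_lit 0x505e18f06001), (nat_lit 0)⟩)
 (.l ⟨(nat_lit 0xc0000d), (nat_lit 0x701706c1107007), (nat_lit 0xb1e433188050054564963), (nat_lit 0)⟩))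
 (.l ⟨(nat_lit 0xc0000d), (nat_lit 0x5c190481c04c03), (nat_lit 0x1517c6262c050054c57d8b), (nat_lit 0)⟩))
 (.n (.n (.l ⟨(nat_lit 0x120000d), (nat_lit 0x257910885), (nat_lit 0x1591b13d89), (nat_lit 0)⟩)
 (.l ⟨(nat_lit 0x1200013), (nat_lit 0x701707007), (nat_lit 0x2f4fc631f54a58d6f), (nat_lit 0)⟩))
 (.l ⟨(nat_lit 0xc0000d), (nat_lit 0x1f06c1d0141d), (nat_lit 0x11031184150054c5f160), (nat_lit 0)⟩)))))
 (.n (.n (.n (.n (.n (.l ⟨(nat_lit 0xc0000b), (nat_lit 0x4891981a), (nat_lit 0x161015b055), (nat_lit 0)⟩)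
 (.l ⟨(nat_lit 0xe0000d), (nat_lit 0x701e0140707010), (nat_lit 0x10c734a9760055158586), (nat_lit 0)⟩))
 (.n (.l ⟨(nat_lit 0xc00007), (nat_lit 0x6c1f0681407011), (nat_lit 0x5317c3c054050054963d6e), (nat_lit 0)⟩)
 (.l ⟨(nat_lit 0x1400015), (nat_lit 0x14200701207007), (nat_lit 0x30855201c050055460193), (nat_lit 0)⟩)))
 (.n (.n (.l ⟨(nat_lit 0xc0000d), (nat_lit 0x1617d14551), (nat_lit 0xb1b0370454d55d94020030140101007), (nat_lit 0)⟩)
 (.l ⟨(nat_lit 0xc0000d), (nat_lit 0x681806c1307012), (nat_lit 0x661493617d4b61152), (nat_lit 0)⟩))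
 (.l ⟨(nat_lit 0x120000d), (nat_lit 0x681501415), (nat_lit 0x5e1e01e30d4164d64), (nat_lit 0)⟩)))
 (.n (.n (.n (.l ⟨(nat_lit 0xc0000d), (nat_lit 0x1711d1c816), (nat_lit 0x204583cc32), (nat_lit 0)⟩)
 (.l ⟨(nat_lit 0xc0000d), (nat_lit 0x140681807007), (nat_lit 0x6d1043620c050056f5657c), (nat_lit 0)⟩))
 (.l ⟨(nat_lit 0xc0000d), (nat_lit 18443), (nat_lit 0xc488f901c050054364978), (nat_lit 0)⟩))
 (.n (.n (.l ⟨(nat_lit 0x120000d), (nat_lit 0x858a0501f), (nat_lit 0x1905602c43), (nat_lit 0)⟩)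
 (.l ⟨(nat_lit 0xc0000f), (nat_lit 0x17014170641e), (nat_lit 0x30594b307c050054c6098f), (nat_lit 0)⟩))
 (.l ⟨(nat_lit 0xc0000d), (nat_lit 0x7c1b05c0504c03), (nat_lit 0x846b2d55261571), (nat_lit 0)⟩))))
 (.n (.n (.n (.n (.l ⟨(nat_lit 0xc0000d), (nat_lit 0x7d801f073), (nat_lit 0x171682057b), (nat_lit 0)⟩)
 (.l ⟨(nat_lit 0x140000d), (nat_lit 0x110700707007), (nat_lit 0x1435457015455ed5b), (nat_lit 0)⟩))
 (.l ⟨(nat_lit 0xc0000b), (nat_lit 0x200681d), (nat_lit 0x35041990156659991), (nat_lit 0)⟩))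
 (.n (.n (.l ⟨(nat_lit 0xc0000d), (nat_lit 0x9d56200a1), (nat_lit 0x5648152), (nat_lit 0)⟩)
 (.l ⟨(nat_lit 0xc0000d), (nat_lit 0x1e0640f06815), (nat_lit 0x8965068480140158180), (nat_lit 0)⟩))
 (.l ⟨(nat_lit 0xc0000d), (nat_lit 0x1b07c1b05c03), (nat_lit 0x104403f02c05005456095a), (nat_lit 0)⟩)))
 (.n (.n (.n (.l ⟨(nat_lit 0xc0000d), (nat_lit 0x15c0759070), (nat_lit 0x846d6000c), (nat_lit 0)⟩)
 (.l ⟨(nat_lit 0xc0000d), (nat_lit 0x64210141107011), (nat_lit 0x530809f0754b6540800c050040401d4f63d41), (nat_lit 0)⟩))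
 (.l ⟨(nat_lit 0xc0000d), (nat_lit 0x6c160681107007), (nat_lit 0x144a86b2e005005525d977), (nat_lit 0)⟩))
 (.n (.n (.l ⟨(nat_lit 0x140000d), (nat_lit 0x44534b01a), (nat_lit 0x95cc8512001), (nat_lit 0)⟩)
 (.l ⟨(nat_lit 0xc00013), (nat_lit 0x1e0642107017), (nat_lit 0x312548a14c05005475a586), (nat_lit 0)⟩))
 (.l ⟨(nat_lit 0xc0000d), (nat_lit 0x1b0781a05c03), (nat_lit 0x5a0f07608c05005515614a), (nat_lit 0)⟩)))))))
noncomputable def T12 : Tr :=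
  .n (.n (.n (.n (.n (.n (.n (.n (.l ⟨(nat_lit 0x400003), (nat_lit 0x724407), (nat_lit 0x3d0801c05), (nat_lit 0)⟩)
 (.l ⟨(nat_lit 0xc0000d), (nat_lit 0x301606815), (nat_lit 0x481399e1c4050056064576), (nat_lit 0)⟩))
 (.n (.l ⟨(nat_lit 0x140000d), (nat_lit 0x748613558), (nat_lit 0x517816c11), (nat_lit 0)⟩)
 (.l ⟨(nat_lit 0xc00015), (nat_lit 0x68150682006420), (nat_lit 0x47138e20a805005595a17d), (nat_lit 0)⟩)))
 (.n (.n (.l ⟨(nat_lit 0xc0000d), (nat_lit 0x168bc4e80b), (nat_lit 0x1007c3084f), (nat_lit 0)⟩)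
 (.l ⟨(nat_lit 0xc0000d), (nat_lit 0x3c1e0680f07007), (nat_lit 0x718b4906b0140156d9d), (nat_lit 0)⟩))
 (.l ⟨(nat_lit 0xc0000d), (nat_lit 0x141e07010), (nat_lit 0x141386c219436357f), (nat_lit 0)⟩)))
 (.n (.n (.n (.l ⟨(nat_lit 0xc0000d), (nat_lit 0x139360c46c), (nat_lit 0x104f34b47f), (nat_lit 0)⟩)
 (.l ⟨(nat_lit 0x140000d), (nat_lit 0x1d0140706c1f), (nat_lit 0x10dd3a1a9635f587), (nat_lit 0)⟩))
 (.l ⟨(nat_lit 0xc0000b), (nat_lit 0x6c220642107011), (nat_lit 0x153f1950315a5e96d), (nat_lit 0)⟩))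
 (.n (.n (.l ⟨(nat_lit 0xe0000b), (nat_lit 0x247a61437), (nat_lit 0x8869160f8), (nat_lit 0)⟩)
 (.l ⟨(nat_lit 0xc0000d), (nat_lit 0x141006c1f07013), (nat_lit 0x190172198300c050055467552), (nat_lit 0)⟩))
 (.l ⟨(nat_lit 0xc0000d), (nat_lit 0x70701e07013), (nat_lit 0x614d985141496719c), (nat_lit 0)⟩))))
 (.n (.n (.n (.n (.l ⟨(nat_lit 0xc0000b), (nat_lit 0x1496a0ec6c), (nat_lit 0x1508a57433), (nat_lit 0)⟩)
 (.l ⟨(nat_lit 0x100000d), (nat_lit 0x16014140681f), (nat_lit 0x693e47c0750550), (nat_lit 0)⟩))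
 (.l ⟨(nat_lit 0xe00009), (nat_lit 16), (nat_lit 0x505525400750545), (nat_lit 0)⟩))
 (.n (.n (.l ⟨(nat_lit 0xc0000d), (nat_lit 0x513d1a8eb), (nat_lit 0x14634f45c), (nat_lit 0)⟩)
 (.l ⟨(nat_lit 0xc0000d), (nat_lit 0x6c200701e07011), (nat_lit 0x451656b131416056f), (nat_lit 0)⟩))
 (.l ⟨(nat_lit 0xc0000d), (nat_lit 0x200141407011), (nat_lit 0x4d1d19200c050054b65199), (nat_lit 0)⟩)))
 (.n (.n (.n (.l ⟨(nat_lit 0xc0000d), (nat_lit 0x12d1d14533), (nat_lit 0x15083668d4), (nat_lit 0)⟩)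
 (.l ⟨(nat_lit 0xc0000d), (nat_lit 0x190481d07007), (nat_lit 0x1c63c59145826680800c050040401d456757b), (nat_lit 0)⟩))
 (.l ⟨(nat_lit 0x140000d), (nat_lit 0x130681107012), (nat_lit 0x595cc6c5a95663d70), (nat_lit 0)⟩))
 (.n (.n (.l ⟨(nat_lit 0x120000d), (nat_lit 0x1904259417), (nat_lit 0x17878078c350d6d58c07), (nat_lit 0)⟩)
 (.l ⟨(nat_lit 0xc00013), (nat_lit 0x150701207014), (nat_lit 0x421a557134050055f60998), (nat_lit 0)⟩))
 (.l ⟨(nat_lit 0xc0000d), (nat_lit 0x20070130141d), (nat_lit 0x64149960a95c5d166), (nat_lit 0)⟩)))))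
 (.n (.n (.n (.n (.n (.l ⟨(nat_lit 0xc0000b), (nat_lit 0x244f407), (nat_lit 0x17917c31), (nat_lit 0)⟩)
 (.l ⟨(nat_lit 0xa0000d), (nat_lit 0x541d0142007010), (nat_lit 0x1ad050d878014015d98b), (nat_lit 0)⟩))
 (.n (.l ⟨(nat_lit 0xa00003), (nat_lit 30), (nat_lit 0), (nat_lit 0)⟩)
 (.l ⟨(nat_lit 0xc00015), (nat_lit 0x58130701207007), (nat_lit 0x6b1ecb259c05005526798d), (nat_lit 0)⟩)))
 (.n (.n (.l ⟨(nat_lit 0xc0000d), (nat_lit 0x1b06d30411), (nat_lit 0x6f1e450084050054962180020030140101007), (nat_lit 0)⟩)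
 (.l ⟨(nat_lit 0xc0000d), (nat_lit 0x141706c2107007), (nat_lit 0x1355c77078050054f5497b), (nat_lit 0)⟩))
 (.l ⟨(nat_lit 0xa0000d), (nat_lit 0x6c200141707014), (nat_lit 0x47c581e4050055358180), (nat_lit 0)⟩)))
 (.n (.n (.n (.l ⟨(nat_lit 0xc0000d), (nat_lit 0xd8f5a816), (nat_lit 0x1b88021832), (nat_lit 0)⟩)
 (.l ⟨(nat_lit 0xc0000d), (nat_lit 0x200681107014), (nat_lit 0x4c0698001c050055665d52), (nat_lit 0)⟩))
 (.l ⟨(nat_lit 0x120000b), (nat_lit 0x140706c1007007), (nat_lit 0x661597c1c15059966), (nat_lit 0)⟩))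
 (.n (.n (.l ⟨(nat_lit 0x1000010), (nat_lit 0x6e5f0392fc01), (nat_lit 0), (nat_lit 0)⟩)
 (.l ⟨(nat_lit 0xc0000f), (nat_lit 0x7c1706c1707010), (nat_lit 0x6c660481e8050054163d73), (nat_lit 0)⟩))
 (.l ⟨(nat_lit 0xc0000d), (nat_lit 0x641f01415), (nat_lit 0x1e2d47c145525cd85), (nat_lit 0)⟩))))
 (.n (.n (.n (.n (.l ⟨(nat_lit 0xc0000d), (nat_lit 0x5cbf56807), (nat_lit 0x810b1845b), (nat_lit 0)⟩)
 (.l ⟨(nat_lit 0xc0000d), (nat_lit 0x1f06c0f06816), (nat_lit 0x4e309880a98157580), (nat_lit 0)⟩))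
 (.l ⟨(nat_lit 0x140000b), (nat_lit 0x741906c07), (nat_lit 0x1061c2f0154b61149), (nat_lit 0)⟩))
 (.n (.n (.l ⟨(nat_lit 0xc0000d), (nat_lit 0x120b51c818), (nat_lit 0x248644019), (nat_lit 0)⟩)
 (.l ⟨(nat_lit 0xa0000d), (nat_lit 0x6c1406c1707013), (nat_lit 0x662ec5918405005435c580), (nat_lit 0)⟩))
 (.l ⟨(nat_lit 0x60000d), (nat_lit 0x68200681307014), (nat_lit 0x451dc6b0594d5a987), (nat_lit 0)⟩)))
 (.n (.n (.n (.l ⟨(nat_lit 0xc0000d), (nat_lit 0x1655e16c33), (nat_lit 0x1586409c75), (nat_lit 0)⟩)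
 (.l ⟨(nat_lit 0xc0000d), (nat_lit 0x150700707010), (nat_lit 0x5621d9200d516356f), (nat_lit 0)⟩))
 (.l ⟨(nat_lit 0xc0000d), (nat_lit 0x2107012), (nat_lit 0x61198af1a15454994), (nat_lit 0)⟩))
 (.n (.n (.l ⟨(nat_lit 0x1400007), (nat_lit 0x1d2d57c07), (nat_lit 0x1b0b321d75), (nat_lit 0)⟩)
 (.l ⟨(nat_lit 0xa00013), (nat_lit 0x68220641307011), (nat_lit 0xc45604d6c00405005415a59c), (nat_lit 0)⟩))
 (.l ⟨(nat_lit 0xe0000d), (nat_lit 0x6c0f07013), (nat_lit 0x5a1ad1a08d586117f), (nat_lit 0)⟩))))))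
 (.n (.n (.n (.n (.n (.n (.l ⟨(nat_lit 0xc0000c), (nat_lit 0x13d169), (nat_lit 0), (nat_lit 0)⟩)
 (.l ⟨(nat_lit 0xa0000d), (nat_lit 0x1806c1e0141e), (nat_lit 0x81229020ec05005495796e), (nat_lit 0)⟩))
 (.n (.l ⟨(nat_lit 0x140000d), (nat_lit 0xc08843c83), (nat_lit 0x1598502c22), (nat_lit 0)⟩)
 (.l ⟨(nat_lit 0x1400015), (nat_lit 0x141e06821), (nat_lit 0x375fd36090050056863d4a), (nat_lit 0)⟩)))
 (.n (.n (.l ⟨(nat_lit 0xc0000d), (nat_lit 0x13cf24e454), (nat_lit 0x474101a81e), (nat_lit 0)⟩)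
 (.l ⟨(nat_lit 0xc0000d), (nat_lit 0x1d0700707017), (nat_lit 0x1f610731c8050055d64570), (nat_lit 0)⟩))
 (.l ⟨(nat_lit 0xa0000d), (nat_lit 0x150142207010), (nat_lit 0x4e0e4ff040050054151599), (nat_lit 0)⟩)))
 (.n (.n (.n (.l ⟨(nat_lit 0x60000d), (nat_lit 0x18d8008463), (nat_lit 0x648091a00c), (nat_lit 0)⟩)
 (.l ⟨(nat_lit 0xc0000d), (nat_lit 0x1c0781207007), (nat_lit 0x13c350819e00405005565dd99), (nat_lit 0)⟩))
 (.l ⟨(nat_lit 0xc0000b), (nat_lit 0x64210681107007), (nat_lit 0x304c867439595c986), (nat_lit 0)⟩))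
 (.n (.n (.l ⟨(nat_lit 0xe0000d), (nat_lit 0x354a9190e801), (nat_lit 0x5c1b1c55c), (nat_lit 0)⟩)
 (.l ⟨(nat_lit 0x80000f), (nat_lit 0x210641206c1007007), (nat_lit 0x8d5201c050057261d9b), (nat_lit 0)⟩))
 (.l ⟨(nat_lit 0x120000d), (nat_lit 0x6c1407010), (nat_lit 0x5f3e50906d4766984), (nat_lit 0)⟩))))
 (.n (.n (.n (.n (.l ⟨(nat_lit 0xc0000b), (nat_lit 0x506913860), (nat_lit 0x138514fc11), (nat_lit 0)⟩)
 (.l ⟨(nat_lit 0xc0000d), (nat_lit 0x200641507010), (nat_lit 0x5411d3e04c050054b5e95d), (nat_lit 0)⟩))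
 (.l ⟨(nat_lit 0xc0000b), (nat_lit 0x1d0641407012), (nat_lit 0x6316d3f131565456e), (nat_lit 0)⟩))
 (.n (.n (.l ⟨(nat_lit 0xc0000d), (nat_lit 0x415262c7e), (nat_lit 0x1bd082c43a), (nat_lit 0)⟩)
 (.l ⟨(nat_lit 0xc0000d), (nat_lit 0x1d0681207013), (nat_lit 0x3050080100050055665186), (nat_lit 0)⟩))
 (.l ⟨(nat_lit 0xc0000d), (nat_lit 0x341307011), (nat_lit 0x3c40957171435ad6f), (nat_lit 0)⟩)))
 (.n (.n (.n (.l ⟨(nat_lit 0xc0000d), (nat_lit 0xb3c46a), (nat_lit 0x14c705fc5b), (nat_lit 0)⟩)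
 (.l ⟨(nat_lit 0xc0000d), (nat_lit 0x1006c1807013), (nat_lit 0x11d0406a0794f64545), (nat_lit 0)⟩))
 (.l ⟨(nat_lit 0xe0000d), (nat_lit 0x7c0f06815), (nat_lit 0x5e1591514f), (nat_lit 0)⟩))
 (.n (.n (.l ⟨(nat_lit 0x120000d), (nat_lit 0x88f917807), (nat_lit 0x2cd41d8406519d020030140101007), (nat_lit 0)⟩)
 (.l ⟨(nat_lit 0xc00013), (nat_lit 0x10068070681e), (nat_lit 0x431397c1b8050057264552), (nat_lit 0)⟩))
 (.l ⟨(nat_lit 0xc0000d), (nat_lit 0x120141306816), (nat_lit 0x1a093664220056e5cd64), (nat_lit 0)⟩)))))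
 (.n (.n (.n (.n (.n (.l ⟨(nat_lit 0xc0000b), (nat_lit 0x4040759851), (nat_lit 0x19d652e06b), (nat_lit 0)⟩)
 (.l ⟨(nat_lit 0xc0000d), (nat_lit 0x106c0f0641f), (nat_lit 0x6a104651f0050054764194), (nat_lit 0)⟩))
 (.n (.l ⟨(nat_lit 0xc00007), (nat_lit 0x1b02c1307012), (nat_lit 0x564673d043014015298e), (nat_lit 0)⟩)
 (.l ⟨(nat_lit 0xc00015), (nat_lit 0x1b04c1307011), (nat_lit 0x6a208b2444050055e66d8d), (nat_lit 0)⟩)))
 (.n (.n (.l ⟨(nat_lit 0xc0000d), (nat_lit 0x1786e63536), (nat_lit 0x1ad8459462), (nat_lit 0)⟩)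
 (.l ⟨(nat_lit 0xc0000d), (nat_lit 0x5c1c0881c04c03), (nat_lit 0x48544690cc050055c58d87), (nat_lit 0)⟩))
 (.l ⟨(nat_lit 0x140000d), (nat_lit 0x2c130680707011), (nat_lit 0x501780f0cd4758169), (nat_lit 0)⟩)))
 (.n (.n (.n (.l ⟨(nat_lit 0xc0000d), (nat_lit 0x691d9220a003), (nat_lit 0xc4915ac63), (nat_lit 0)⟩)
 (.l ⟨(nat_lit 0xc0000d), (nat_lit 0x200682207014), (nat_lit 0x11c5d5fc0f00405005516216b), (nat_lit 0)⟩))
 (.l ⟨(nat_lit 0xa0000d), (nat_lit 12300), (nat_lit 0x3c4190140150d72), (nat_lit 0)⟩))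
 (.n (.n (.l ⟨(nat_lit 0x120000d), (nat_lit 0x4b02d2c17001), (nat_lit 0x156407d5d), (nat_lit 0)⟩)
 (.l ⟨(nat_lit 0xc0000f), (nat_lit 0x120141307016), (nat_lit 0x8911208f90140159558), (nat_lit 0)⟩))
 (.l ⟨(nat_lit 0x140000d), (nat_lit 0x141206415), (nat_lit 0x18815497525835140800c050040401d4c66989), (nat_lit 0)⟩))))
 (.n (.n (.n (.n (.l ⟨(nat_lit 0xc0000d), (nat_lit 0x105861c126), (nat_lit 0x4c08259450), (nat_lit 0)⟩)
 (.l ⟨(nat_lit 0x120000d), (nat_lit 0x2006c1007007), (nat_lit 0x6b45d7f18d6454d92), (nat_lit 0)⟩))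
 (.l ⟨(nat_lit 0xc0000b), (nat_lit 0x1d0681707012), (nat_lit 0x1497d1c4305999b), (nat_lit 0)⟩))
 (.n (.n (.l ⟨(nat_lit 0xc0000d), (nat_lit 0x493f0852ec01), (nat_lit 0x103448248001), (nat_lit 0)⟩)
 (.l ⟨(nat_lit 0xc0000d), (nat_lit 0x6c1d0141107013), (nat_lit 0x1781457511005005586795a), (nat_lit 0)⟩))
 (.l ⟨(nat_lit 0xc0000d), (nat_lit 0x106c1e06416), (nat_lit 0x5d4314a0a0050054967186), (nat_lit 0)⟩)))
 (.n (.n (.n (.l ⟨(nat_lit 0xc0000d), (nat_lit 0x1a93b04cb5), (nat_lit 0x17877480d3), (nat_lit 0)⟩)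
 (.l ⟨(nat_lit 0xc0000d), (nat_lit 0x6c1f0702007010), (nat_lit 0x5c20858158050056364184), (nat_lit 0)⟩))
 (.l ⟨(nat_lit 0x80000d), (nat_lit 0x30142201416), (nat_lit 0x1b5ec700a8050054c6195a), (nat_lit 0)⟩))
 (.n (.n (.l ⟨(nat_lit 0x140000d), (nat_lit 0x4825452), (nat_lit 0x295483605d4b5dd6b020030140101007), (nat_lit 0)⟩)
 (.l ⟨(nat_lit 0xc00013), (nat_lit 0x141507012), (nat_lit 0x6c174ff2dc050054152d67), (nat_lit 0)⟩))
 (.l ⟨(nat_lit 0xc0000d), (nat_lit 0x1d0681d07012), (nat_lit 0x67594b81ad476014701d415b96c), (nat_lit 0)⟩)))))))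
 (.n (.n (.n (.n (.n (.n (.n (.l ⟨(nat_lit 0x800003), (nat_lit 0xd053e003), (nat_lit 0x52553020030080601007), (nat_lit 0)⟩)
 (.l ⟨(nat_lit 0xa0000d), (nat_lit 0x70070641d), (nat_lit 0x662043145805005415e98c), (nat_lit 0)⟩))
 (.n (.l ⟨(nat_lit 0x140000d), (nat_lit 0x147d0a992), (nat_lit 0x1b52724c14), (nat_lit 0)⟩)
 (.l ⟨(nat_lit 0xc00015), (nat_lit 0x142207014), (nat_lit 0xf0d14a4110140164d98), (nat_lit 0)⟩)))
 (.n (.n (.l ⟨(nat_lit 0x60000d), (nat_lit 0x601d4cc54), (nat_lit 0x620f0341dc01), (nat_lit 0)⟩)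
 (.l ⟨(nat_lit 0xc0000d), (nat_lit 0x170142207010), (nat_lit 0xa0eb1b12b6219e), (nat_lit 0)⟩))
 (.l ⟨(nat_lit 0xc0000d), (nat_lit 0x44160681107010), (nat_lit 0x42560610d005005495dd54), (nat_lit 0)⟩)))
 (.n (.n (.n (.l ⟨(nat_lit 0xc0000d), (nat_lit 0x2d6620c32), (nat_lit 0x60780346f), (nat_lit 0)⟩)
 (.l ⟨(nat_lit 0xc0000d), (nat_lit 0x180640707011), (nat_lit 0x314705e4014a5a99c), (nat_lit 0)⟩))
 (.l ⟨(nat_lit 0xc0000b), (nat_lit 0x581706415), (nat_lit 0x600fc584295f59592), (nat_lit 0)⟩))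
 (.n (.n (.l ⟨(nat_lit 0xe0000d), (nat_lit 0x711059), (nat_lit 0xf1870440d), (nat_lit 0)⟩)
 (.l ⟨(nat_lit 0x60000d), (nat_lit 0x70140701e07012), (nat_lit 0x666500f61005005416399a), (nat_lit 0)⟩))
 (.l ⟨(nat_lit 0xa0000d), (nat_lit 0x1b0881207010), (nat_lit 0x18c54407014016396b), (nat_lit 0)⟩))))
 (.n (.n (.n (.n (.l ⟨(nat_lit 0xc0000b), (nat_lit 0x120631c46f), (nat_lit 0x4bc3643c21), (nat_lit 0)⟩)
 (.l ⟨(nat_lit 0xc0000d), (nat_lit 0x6c1406c1707014), (nat_lit 0x4d44f0514a5dd65), (nat_lit 0)⟩))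
 (.l ⟨(nat_lit 0xc00009), (nat_lit 0x141d0141d), (nat_lit 0x4f1a4956014d6497d), (nat_lit 0)⟩))
 (.n (.n (.l ⟨(nat_lit 0xc0000d), (nat_lit 0x6a0844759801), (nat_lit 0x1706203405), (nat_lit 0)⟩)
 (.l ⟨(nat_lit 0xa0000d), (nat_lit 0x220701406416), (nat_lit 0x67145914fc050054d5518c), (nat_lit 0)⟩))
 (.l ⟨(nat_lit 0xc0000d), (nat_lit 0x1806c1506816), (nat_lit 0x1815b180400140150d7c), (nat_lit 0)⟩)))
 (.n (.n (.n (.l ⟨(nat_lit 0xc0000d), (nat_lit 0x16c6105847), (nat_lit 0x14c8859c80), (nat_lit 0)⟩)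
 (.l ⟨(nat_lit 0xc0000d), (nat_lit 0x150701207012), (nat_lit 0x543c48947c05005525f56d), (nat_lit 0)⟩))
 (.l ⟨(nat_lit 0xc0000d), (nat_lit 0x16014070701e), (nat_lit 0x6c5b84f221456116f), (nat_lit 0)⟩))
 (.n (.n (.l ⟨(nat_lit 0x120000d), (nat_lit 0x2c4458020), (nat_lit 0x1a0235644c), (nat_lit 0)⟩)
 (.l ⟨(nat_lit 0xc00013), (nat_lit 0x841806415), (nat_lit 0x1459d00c05005505998b), (nat_lit 0)⟩))
 (.l ⟨(nat_lit 0x140000d), (nat_lit 0x681d06c2107007), (nat_lit 0x7019d2427d455cd99), (nat_lit 0)⟩)))))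
 (.n (.n (.n (.n (.n (.l ⟨(nat_lit 0xc0000b), (nat_lit 0x1801a0a1), (nat_lit 0x1497d1c430), (nat_lit 0)⟩)
 (.l ⟨(nat_lit 0xc0000d), (nat_lit 0x701e0681d), (nat_lit 0x2cbc13442005455c584), (nat_lit 0)⟩))
 (.n (.l ⟨(nat_lit 0xc00007), (nat_lit 0xf06c0f01420), (nat_lit 0x743d3301d656357a), (nat_lit 0)⟩)
 (.l ⟨(nat_lit 0xc00015), (nat_lit 0x150642106815), (nat_lit 0x6f1fd88474050054f5fd54), (nat_lit 0)⟩)))
 (.n (.n (.l ⟨(nat_lit 0xc0000d), (nat_lit 0x79991cc59), (nat_lit 0x6d5d0a0f8), (nat_lit 0)⟩)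
 (.l ⟨(nat_lit 0xa0000d), (nat_lit 0x2206c1007011), (nat_lit 0xd20d2d2bc05005855e56e), (nat_lit 0)⟩))
 (.l ⟨(nat_lit 0xa0000d), (nat_lit 0x1306c2206c1e), (nat_lit 0xbd1d58906005005525a180), (nat_lit 0)⟩)))
 (.n (.n (.n (.l ⟨(nat_lit 0xc0000d), (nat_lit 0x106506810401), (nat_lit 0x19b1d0eb), (nat_lit 0)⟩)
 (.l ⟨(nat_lit 0x60000d), (nat_lit 0x1d06c070641e), (nat_lit 0x2f3f97521405005455d194), (nat_lit 0)⟩))
 (.l ⟨(nat_lit 0xc0000d), (nat_lit 20), (nat_lit 0x7404130614f5e557), (nat_lit 0)⟩))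
 (.n (.n (.l ⟨(nat_lit 0x120000b), (nat_lit 0x34fe18d80), (nat_lit 0xed6d4685c), (nat_lit 0)⟩)
 (.l ⟨(nat_lit 0xa0000f), (nat_lit 0x1d0140f07011), (nat_lit 0x5040844084050055155176), (nat_lit 0)⟩))
 (.l ⟨(nat_lit 0xc0000d), (nat_lit 0x70160642201415), (nat_lit 0x14c663fc23004050054958d75), (nat_lit 0)⟩))))
 (.n (.n (.n (.n (.l ⟨(nat_lit 0xc0000d), (nat_lit 0x859b4bc80), (nat_lit 0xc165220fa), (nat_lit 0)⟩)
 (.l ⟨(nat_lit 0xc0000d), (nat_lit 0x1907c1b04c03), (nat_lit 0x4d200ec5d4050054762993), (nat_lit 0)⟩))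
 (.l ⟨(nat_lit 0xc0000b), (nat_lit 0x140141f01415), (nat_lit 0x511c801151436719c), (nat_lit 0)⟩))
 (.n (.n (.l ⟨(nat_lit 0x60000d), (nat_lit 0x1857603024), (nat_lit 0xfc6b5fc05), (nat_lit 0)⟩)
 (.l ⟨(nat_lit 0xc0000d), (nat_lit 0x64200681307012), (nat_lit 0x1564cc6601d4763599), (nat_lit 0)⟩))
 (.l ⟨(nat_lit 0x120000d), (nat_lit 0xf06c1507007), (nat_lit 0x624705d0794151d97), (nat_lit 0)⟩)))
 (.n (.n (.n (.l ⟨(nat_lit 0xc0000d), (nat_lit 0x1ac2f630f1), (nat_lit 0x1b8fc47021), (nat_lit 0)⟩)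
 (.l ⟨(nat_lit 0xc0000d), (nat_lit 0x110641307017), (nat_lit 0x71108340bd596654a), (nat_lit 0)⟩))
 (.l ⟨(nat_lit 0xc0000d), (nat_lit 0x701d0641307012), (nat_lit 0x51671820a14753589), (nat_lit 0)⟩))
 (.n (.n (.l ⟨(nat_lit 0x140000b), (nat_lit 0x709113c1a), (nat_lit 0xe87e09081), (nat_lit 0)⟩)
 (.l ⟨(nat_lit 0xc00013), (nat_lit 0x1e06c2107010), (nat_lit 0xd7e1506d0140161176), (nat_lit 0)⟩))
 (.l ⟨(nat_lit 0xc0000d), (nat_lit 0x68150142007017), (nat_lit 0x333547209d8d62c0800c050040401d4a5ad90), (nat_lit 0)⟩))))))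
 (.n (.n (.n (.n (.n (.n (.l ⟨(nat_lit 0xc00009), (nat_lit 0x15d3d0590f), (nat_lit 0x1bd6549078), (nat_lit 0)⟩)
 (.l ⟨(nat_lit 0xc0000d), (nat_lit 0x2c2006c16), (nat_lit 0x17d791d9100140167552), (nat_lit 0)⟩))
 (.n (.l ⟨(nat_lit 0x140000f), (nat_lit 0x10140b), (nat_lit 0x785e3d0225054f598020180c), (nat_lit 0)⟩)
 (.l ⟨(nat_lit 0xc00015), (nat_lit 0x1c1a04803), (nat_lit 0x6716c3a04405005565d594), (nat_lit 0)⟩)))
 (.n (.n (.l ⟨(nat_lit 0xc0000d), (nat_lit 0x1113d081ec01), (nat_lit 0x194b513c1c5d557020030140101007), (nat_lit 0)⟩)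
 (.l ⟨(nat_lit 0xc0000d), (nat_lit 0x1706c0f07012), (nat_lit 0x5c47472058050055a5e15e), (nat_lit 0)⟩))
 (.l ⟨(nat_lit 0xc0000d), (nat_lit 0x1d0641d), (nat_lit 0x175682f0055262970), (nat_lit 0)⟩)))
 (.n (.n (.n (.l ⟨(nat_lit 0xc0000d), (nat_lit 0x460445e440), (nat_lit 0x685b1f04d), (nat_lit 0)⟩)
 (.l ⟨(nat_lit 0xc0000d), (nat_lit 0x170701107007), (nat_lit 0x13a1fd0f080050054354588), (nat_lit 0)⟩))
 (.l ⟨(nat_lit 0xc0000b), (nat_lit 0x150681207007), (nat_lit 0x6f154f943d4156964), (nat_lit 0)⟩))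
 (.n (.n (.l ⟨(nat_lit 0xe0000d), (nat_lit 0x16c1707886), (nat_lit 0x1143f2086f), (nat_lit 0)⟩)
 (.l ⟨(nat_lit 0xc0000f), (nat_lit 0x210642207007), (nat_lit 0x305e0911b805005515999e), (nat_lit 0)⟩))
 (.l ⟨(nat_lit 0xc0000d), (nat_lit 0xf0641406816), (nat_lit 0x104713b151436755f), (nat_lit 0)⟩))))
 (.n (.n (.n (.n (.l ⟨(nat_lit 0xc0000b), (nat_lit 0x190716612f), (nat_lit 0x3b474fb18403), (nat_lit 0)⟩)
 (.l ⟨(nat_lit 0xc0000d), (nat_lit 0x641406c0f07011), (nat_lit 0x841a58f0e95464591), (nat_lit 0)⟩))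
 (.l ⟨(nat_lit 0xc0000b), (nat_lit 0x6c1e0642106415), (nat_lit 0x63134f91a95360156), (nat_lit 0)⟩))
 (.n (.n (.l ⟨(nat_lit 0xc0000d), (nat_lit 0xd7b104f4), (nat_lit 0x3b4d85b19001), (nat_lit 0)⟩)
 (.l ⟨(nat_lit 0xc0000d), (nat_lit 0x100642107013), (nat_lit 0x112cc5734c050054967967), (nat_lit 0)⟩))
 (.l ⟨(nat_lit 0xc0000d), (nat_lit 0x6c1e06416), (nat_lit 0x451412e0ed475bd9e), (nat_lit 0)⟩)))
 (.n (.n (.n (.l ⟨(nat_lit 0xc0000d), (nat_lit 0xa87a62067), (nat_lit 0x45011f494), (nat_lit 0)⟩)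
 (.l ⟨(nat_lit 0xc0000d), (nat_lit 0x68200641707011), (nat_lit 0x405f1bc340140163151), (nat_lit 0)⟩))
 (.l ⟨(nat_lit 0xe0000d), (nat_lit 0x2006c1007013), (nat_lit 0xa5874906e005435c16d), (nat_lit 0)⟩))
 (.n (.n (.l ⟨(nat_lit 0x1200011), (nat_lit 150543), (nat_lit 0x59547560075257467407), (nat_lit 0)⟩)
 (.l ⟨(nat_lit 0xc00013), (nat_lit 0x160642207013), (nat_lit 0x2a66c4803c050055063d5f), (nat_lit 0)⟩))
 (.l ⟨(nat_lit 0xc0000d), (nat_lit 0x64160681006415), (nat_lit 0x1ac5319c3c0055065197), (nat_lit 0)⟩)))))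
 (.n (.n (.n (.n (.n (.l ⟨(nat_lit 0xc0000b), (nat_lit 0x45765c1c), (nat_lit 0x458a1f159), (nat_lit 0)⟩)
 (.l ⟨(nat_lit 0x120000d), (nat_lit 0x200681307013), (nat_lit 0x3f3f0d51f14353572), (nat_lit 0)⟩))
 (.n (.l ⟨(nat_lit 0xc00007), (nat_lit 0x681d06c1607007), (nat_lit 0x1d904880754985), (nat_lit 0)⟩)
 (.l ⟨(nat_lit 0xa00015), (nat_lit 0x150681106415), (nat_lit 0xe6505906005005536455d), (nat_lit 0)⟩)))
 (.n (.n (.l ⟨(nat_lit 0xc0000d), (nat_lit 0xc46118d8c), (nat_lit 0x1d19d5582a), (nat_lit 0)⟩)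
 (.l ⟨(nat_lit 0xc0000d), (nat_lit 0x140702007014), (nat_lit 0xb1e5341ec055f152), (nat_lit 0)⟩))
 (.l ⟨(nat_lit 0xc0000d), (nat_lit 0x682007012), (nat_lit 0x311acb60514561d79), (nat_lit 0)⟩)))
 (.n (.n (.n (.l ⟨(nat_lit 0xc0000d), (nat_lit 0x4d85f63c20), (nat_lit 0x16d5d41835), (nat_lit 0)⟩)
 (.l ⟨(nat_lit 0xc0000d), (nat_lit 0x68150681407007), (nat_lit 0x534a4271054b65994), (nat_lit 0)⟩))
 (.l ⟨(nat_lit 0xc0000d), (nat_lit 0x1d0702207010), (nat_lit 0x10e13c391014c5d159), (nat_lit 0)⟩))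
 (.n (.n (.l ⟨(nat_lit 0x120000d), (nat_lit 0xe8ec08010), (nat_lit 0x15d2761c41), (nat_lit 0)⟩)
 (.l ⟨(nat_lit 0xc00011), (nat_lit 0x1b0382007011), (nat_lit 0x450164c100140161563), (nat_lit 0)⟩))
 (.l ⟨(nat_lit 0xa0000d), (nat_lit 0x70110141d), (nat_lit 0x61510a1110140158d91), (nat_lit 0)⟩))))
 (.n (.n (.n (.n (.l ⟨(nat_lit 0xc0000d), (nat_lit 0x601c56035), (nat_lit 0x138785d862), (nat_lit 0)⟩)
 (.l ⟨(nat_lit 0xc0000d), (nat_lit 0x180680707014), (nat_lit 0x74675560a94554975), (nat_lit 0)⟩))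
 (.l ⟨(nat_lit 0x120000b), (nat_lit 0x13014130141e), (nat_lit 0x131916d16d5364d90), (nat_lit 0)⟩))
 (.n (.n (.l ⟨(nat_lit 0xc0000d), (nat_lit 0x906c42417), (nat_lit 0x2252060813), (nat_lit 0)⟩)
 (.l ⟨(nat_lit 0xc0000d), (nat_lit 0xf0701106415), (nat_lit 0x46a4b0620054963145), (nat_lit 0)⟩))
 (.l ⟨(nat_lit 0xc0000d), (nat_lit 0x1b0800c07007), (nat_lit 0x613f1261114d60d64), (nat_lit 0)⟩)))
 (.n (.n (.n (.l ⟨(nat_lit 0xc0000d), (nat_lit 0x6c3c4f40f), (nat_lit 0x1457f1301a), (nat_lit 0)⟩)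
 (.l ⟨(nat_lit 0xc0000d), (nat_lit 0xf06c100641d), (nat_lit 0x391b57e16405005515417d), (nat_lit 0)⟩))
 (.l ⟨(nat_lit 0x60000d), (nat_lit 0xf06c16), (nat_lit 0x6c2f17419c050054d60186), (nat_lit 0)⟩))
 (.n (.n (.l ⟨(nat_lit 0x140000d), (nat_lit 54452), (nat_lit 0x1444119049), (nat_lit 0)⟩)
 (.l ⟨(nat_lit 0xc00013), (nat_lit 0x5c170141007011), (nat_lit 0x190320d52c0140152988), (nat_lit 0)⟩))
 (.l ⟨(nat_lit 0xc0000d), (nat_lit 0xf06c1e07014), (nat_lit 0x374bc1c4596b63d690080602803008060100766981), (nat_lit 0)⟩)))))))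
noncomputable def T13 : Tr :=
  .n (.n (.n (.n (.n (.n (.n (.n (.l ⟨(nat_lit 0x1200007), (nat_lit 0x1746e2d412), (nat_lit 0), (nat_lit 0)⟩)
 (.l ⟨(nat_lit 0xc0000d), (nat_lit 0x6c1006c0707011), (nat_lit 0x15083668d464971), (nat_lit 0)⟩))
 (.n (.l ⟨(nat_lit 0x140000d), (nat_lit 0x1b0791b525), (nat_lit 0x79060cc50), (nat_lit 0)⟩)
 (.l ⟨(nat_lit 0x1400014), (nat_lit 0x1806c1507c1b0801a0741c), (nat_lit 0), (nat_lit 0)⟩)))
 (.n (.n (.l ⟨(nat_lit 0xc0000d), (nat_lit 0xe4fc1781d), (nat_lit 0x1246f65816), (nat_lit 0)⟩)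
 (.l ⟨(nat_lit 0xc0000d), (nat_lit 0x68220141107010), (nat_lit 0x3c57f228015b17802003014010100761559), (nat_lit 0)⟩))
 (.l ⟨(nat_lit 0xc0000d), (nat_lit 0x1106c1507007), (nat_lit 0x1a04148c6a005495dd57), (nat_lit 0)⟩)))
 (.n (.n (.n (.l ⟨(nat_lit 0xc0000d), (nat_lit 0x1548645578), (nat_lit 0x3f17e1683b), (nat_lit 0)⟩)
 (.l ⟨(nat_lit 0xc0000d), (nat_lit 0x100641707014), (nat_lit 0xb598830c805005495b972), (nat_lit 0)⟩))
 (.l ⟨(nat_lit 0xe0000b), (nat_lit 0x170641207011), (nat_lit 0x49301bc4d00d4b59567), (nat_lit 0)⟩))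
 (.n (.n (.l ⟨(nat_lit 0xe00009), (nat_lit 0x2354807), (nat_lit 0xd94084bb), (nat_lit 0)⟩)
 (.l ⟨(nat_lit 0xc0000d), (nat_lit 0x6c200681307014), (nat_lit 0x90575b8395e185), (nat_lit 0)⟩))
 (.l ⟨(nat_lit 0xc0000d), (nat_lit 0x64210681107011), (nat_lit 0xc4573045c0054b5b165), (nat_lit 0)⟩))))
 (.n (.n (.n (.n (.l ⟨(nat_lit 0xc0000b), (nat_lit 0x108201d0b3), (nat_lit 0xa9821e107), (nat_lit 0)⟩)
 (.l ⟨(nat_lit 0xc0000d), (nat_lit 0x1f0681307013), (nat_lit 0x18185955d95a6257e), (nat_lit 0)⟩))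
 (.l ⟨(nat_lit 0x600007), (nat_lit 0x1d06c1d01415), (nat_lit 0x531ac30650050054f5fd45), (nat_lit 0)⟩))
 (.n (.n (.l ⟨(nat_lit 0xc0000d), (nat_lit 0x16c271e180), (nat_lit 0x1092412c785e14d020030140101007), (nat_lit 0)⟩)
 (.l ⟨(nat_lit 0xc0000d), (nat_lit 0x706c110681d), (nat_lit 0x565e1880d95264152), (nat_lit 0)⟩))
 (.l ⟨(nat_lit 0xc0000d), (nat_lit 0x1b03c1f07010), (nat_lit 0x234083121005005455c58e), (nat_lit 0)⟩)))
 (.n (.n (.n (.l ⟨(nat_lit 0xc0000d), (nat_lit 0x124f41bd2e), (nat_lit 0x4316c702bd436658100806028030080601007), (nat_lit 0)⟩)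
 (.l ⟨(nat_lit 0xc0000d), (nat_lit 0x641206c0707011), (nat_lit 0x4e16176171716098b), (nat_lit 0)⟩))
 (.l ⟨(nat_lit 0x140000d), (nat_lit 0x70140681307007), (nat_lit 0x5613c631e15164d83), (nat_lit 0)⟩))
 (.n (.n (.l ⟨(nat_lit 0x120000d), (nat_lit 0xa50c05801), (nat_lit 0x1bc0b1ec41), (nat_lit 0)⟩)
 (.l ⟨(nat_lit 0xc00013), (nat_lit 0x70140700707007), (nat_lit 0x642c99a19c050055765565), (nat_lit 0)⟩))
 (.l ⟨(nat_lit 0xc0000d), (nat_lit 0x1306c1d07011), (nat_lit 0x1917a1704f005525fd61), (nat_lit 0)⟩)))))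
 (.n (.n (.n (.n (.n (.l ⟨(nat_lit 0xc00009), (nat_lit 0x194825d870), (nat_lit 0x7d251d40f), (nat_lit 0)⟩)
 (.l ⟨(nat_lit 0xe0000d), (nat_lit 0x641001415), (nat_lit 0x10d105630914164d60), (nat_lit 0)⟩))
 (.n (.l ⟨(nat_lit 0x1400015), (nat_lit 0xdcb858010), (nat_lit 0x4c7b07d32), (nat_lit 0)⟩)
 (.l ⟨(nat_lit 0xa00015), (nat_lit 0x541f01415), (nat_lit 0x1114d2c068050054364595), (nat_lit 0)⟩)))
 (.n (.n (.l ⟨(nat_lit 0xc0000d), (nat_lit 0x48a18036), (nat_lit 0x19d2a1ec4d), (nat_lit 0)⟩)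
 (.l ⟨(nat_lit 0xc0000d), (nat_lit 0x140681107012), (nat_lit 0x694206b20405005476515a), (nat_lit 0)⟩))
 (.l ⟨(nat_lit 0x80000d), (nat_lit 0x160141507010), (nat_lit 0x5e0c4670a4050054b5518b), (nat_lit 0)⟩)))
 (.n (.n (.n (.l ⟨(nat_lit 0xc0000d), (nat_lit 0x16c175d849), (nat_lit 0x1153118d9a), (nat_lit 0)⟩)
 (.l ⟨(nat_lit 0xc0000d), (nat_lit 0x601106c1807007), (nat_lit 0x4759c57088050054d55187), (nat_lit 0)⟩))
 (.l ⟨(nat_lit 0xc0000b), (nat_lit 0x1d0640707007), (nat_lit 0x31991600d4553587008060314a), (nat_lit 0)⟩))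
 (.n (.n (.l ⟨(nat_lit 0xe0000d), (nat_lit 0x546f42102), (nat_lit 0xbc571e4776658b020030140101007), (nat_lit 0)⟩)
 (.l ⟨(nat_lit 0xc0000f), (nat_lit 0x1e0641f07011), (nat_lit 0x623e4852e0050054b59585), (nat_lit 0)⟩))
 (.l ⟨(nat_lit 0x140000d), (nat_lit 0x190800505c03), (nat_lit 0x3c5595a0754160185), (nat_lit 0)⟩))))
 (.n (.n (.n (.n (.l ⟨(nat_lit 0xc0000d), (nat_lit 0x1025010), (nat_lit 0x81334b469), (nat_lit 0)⟩)
 (.l ⟨(nat_lit 0xc0000d), (nat_lit 0x120641307007), (nat_lit 0x542c58d0f0050054b5998a), (nat_lit 0)⟩))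
 (.l ⟨(nat_lit 0xc0000b), (nat_lit 0x200141d), (nat_lit 0x5d210d94b6394a), (nat_lit 0)⟩))
 (.n (.n (.l ⟨(nat_lit 0xc0000d), (nat_lit 0x168734f423), (nat_lit 0x13620578), (nat_lit 0)⟩)
 (.l ⟨(nat_lit 0xc0000d), (nat_lit 0x1306c120141d), (nat_lit 0x5c090c31e14153558), (nat_lit 0)⟩))
 (.l ⟨(nat_lit 0xc0000d), (nat_lit 0x301507007), (nat_lit 0x8c5d1901c6017d02003014010100755971), (nat_lit 0)⟩)))
 (.n (.n (.n (.l ⟨(nat_lit 0xc0000d), (nat_lit 0x383944403), (nat_lit 0x5921987d), (nat_lit 0)⟩)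
 (.l ⟨(nat_lit 0xc0000d), (nat_lit 0x106c1d01415), (nat_lit 0x5f6212b1614b5796f), (nat_lit 0)⟩))
 (.l ⟨(nat_lit 0xe0000d), (nat_lit 0x1b05c2107010), (nat_lit 0x12cd41fc0b5b971), (nat_lit 0)⟩))
 (.n (.n (.l ⟨(nat_lit 0x1200013), (nat_lit 0x1900319440), (nat_lit 0x48c5e5594760156020030140101007), (nat_lit 0)⟩)
 (.l ⟨(nat_lit 0x1400013), (nat_lit 0xe07011), (nat_lit 0x30648319d4d60590), (nat_lit 0)⟩))
 (.l ⟨(nat_lit 0x140000d), (nat_lit 0x701407014), (nat_lit 0x13220d6c061435258d), (nat_lit 0)⟩))))))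
 (.n (.n (.n (.n (.n (.n (.l ⟨(nat_lit 0xa0000b), (nat_lit 0x1c891fc47), (nat_lit 0x744e41414), (nat_lit 0)⟩)
 (.l ⟨(nat_lit 0xc0000d), (nat_lit 0x130681307013), (nat_lit 0x1443192104050055867990), (nat_lit 0)⟩))
 (.n (.l ⟨(nat_lit 0x140000d), (nat_lit 0x1ac7b2c967), (nat_lit 0xbd2c208c1), (nat_lit 0)⟩)
 (.l ⟨(nat_lit 0xa00015), (nat_lit 0x1b0481607011), (nat_lit 0x431952b014050055761194), (nat_lit 0)⟩)))
 (.n (.n (.l ⟨(nat_lit 0xc0000d), (nat_lit 0x507257538), (nat_lit 0x507255cd3), (nat_lit 0)⟩)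
 (.l ⟨(nat_lit 0xc0000d), (nat_lit 0x1806c1f07013), (nat_lit 0x5e4545828405005596654f), (nat_lit 0)⟩))
 (.l ⟨(nat_lit 0xa0000d), (nat_lit 0x1106c1506815), (nat_lit 0x5b0887b040050055154576), (nat_lit 0)⟩)))
 (.n (.n (.n (.l ⟨(nat_lit 0xc0000d), (nat_lit 0x5f4773f041), (nat_lit 0xd18b0753b), (nat_lit 0)⟩)
 (.l ⟨(nat_lit 0xe0000d), (nat_lit 0x6c160681807007), (nat_lit 0x154c4170945a00800c050040401d535d98a), (nat_lit 0)⟩))
 (.l ⟨(nat_lit 0xc0000b), (nat_lit 0x2106415), (nat_lit 0x6c75618755b583), (nat_lit 0)⟩))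
 (.n (.n (.l ⟨(nat_lit 0xe0000d), (nat_lit 0x1710d5946a), (nat_lit 0x4086e41c05), (nat_lit 0)⟩)
 (.l ⟨(nat_lit 0xc0000d), (nat_lit 0x68160641207007), (nat_lit 0x608200c43014016298f), (nat_lit 0)⟩))
 (.l ⟨(nat_lit 0xc0000d), (nat_lit 0x880707010), (nat_lit 0x194907d068050055d5dd66), (nat_lit 0)⟩))))
 (.n (.n (.n (.n (.l ⟨(nat_lit 0xc0000b), (nat_lit 0x441b57a1e003), (nat_lit 0x1588209d10), (nat_lit 0)⟩)
 (.l ⟨(nat_lit 0xc0000d), (nat_lit 0x160640707010), (nat_lit 0x6c4ed930556b6759b), (nat_lit 0)⟩))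
 (.l ⟨(nat_lit 0x60000b), (nat_lit 0x1c1e07011), (nat_lit 0x19410436014050054365592), (nat_lit 0)⟩))
 (.n (.n (.l ⟨(nat_lit 0xc0000d), (nat_lit 0x1d4633881b), (nat_lit 0x1999b0d8c4), (nat_lit 0)⟩)
 (.l ⟨(nat_lit 0xc0000d), (nat_lit 0x44180682007013), (nat_lit 0x1f20d694e8050054564d68), (nat_lit 0)⟩))
 (.l ⟨(nat_lit 0xc0000d), (nat_lit 0x581d0681807007), (nat_lit 0x602d5600a1535e552), (nat_lit 0)⟩)))
 (.n (.n (.n (.l ⟨(nat_lit 0xc0000d), (nat_lit 0x5c271c812), (nat_lit 0x1b414564fe), (nat_lit 0)⟩)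
 (.l ⟨(nat_lit 0xe0000d), (nat_lit 0x220681206415), (nat_lit 0x7640125817955977), (nat_lit 0)⟩))
 (.l ⟨(nat_lit 0xc0000d), (nat_lit 0xe02c03), (nat_lit 0x235493b04805005475ed75), (nat_lit 0)⟩))
 (.n (.n (.l ⟨(nat_lit 0x120000d), (nat_lit 0x643a15809), (nat_lit 0x170865b44f), (nat_lit 0)⟩)
 (.l ⟨(nat_lit 0xc00013), (nat_lit 0x150140f07013), (nat_lit 0x165781787c00405005525d59c), (nat_lit 0)⟩))
 (.l ⟨(nat_lit 0xc0000d), (nat_lit 0x681507011), (nat_lit 0x1d5f3cc070140165992), (nat_lit 0)⟩)))))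
 (.n (.n (.n (.n (.n (.l ⟨(nat_lit 0xc0000b), (nat_lit 0x138393fc10), (nat_lit 0x46b67823), (nat_lit 0)⟩)
 (.l ⟨(nat_lit 0x140000d), (nat_lit 0x70641307007), (nat_lit 0x6d1a10a0e94b55573), (nat_lit 0)⟩))
 (.n (.l ⟨(nat_lit 0xc00007), (nat_lit 0x581307007), (nat_lit 0x344d93f1f8050054f63d5d), (nat_lit 0)⟩)
 (.l ⟨(nat_lit 0xc00015), (nat_lit 0x6c1306c1307013), (nat_lit 0x5a21cc31a001014015716b), (nat_lit 0)⟩)))
 (.n (.n (.l ⟨(nat_lit 0xc0000d), (nat_lit 0x131841006b), (nat_lit 0x2166d2f20005005455fd5f020030140101007), (nat_lit 0)⟩)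
 (.l ⟨(nat_lit 0xc0000d), (nat_lit 0x6c160641607011), (nat_lit 0x4c854f43a5718b), (nat_lit 0)⟩))
 (.l ⟨(nat_lit 0xc0000d), (nat_lit 0x210641f), (nat_lit 0x181f06f145595fd75), (nat_lit 0)⟩)))
 (.n (.n (.n (.l ⟨(nat_lit 0xc0000d), (nat_lit 0x1788a3f044), (nat_lit 0xd1971c051), (nat_lit 0)⟩)
 (.l ⟨(nat_lit 0xa0000d), (nat_lit 0x1106c1d01416), (nat_lit 0x584a87566c05005645f55f), (nat_lit 0)⟩))
 (.l ⟨(nat_lit 0xe0000d), (nat_lit 0x160140f07012), (nat_lit 0x5b1e0f70c9455e978), (nat_lit 0)⟩))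
 (.n (.n (.l ⟨(nat_lit 0x120000d), (nat_lit 0x150642201d), (nat_lit 0x18d8818152), (nat_lit 0)⟩)
 (.l ⟨(nat_lit 0xc0000f), (nat_lit 0x2206c1207012), (nat_lit 0x653546c45805005566697e), (nat_lit 0)⟩))
 (.l ⟨(nat_lit 0x140000d), (nat_lit 0x801907c1a04803), (nat_lit 0x8a30559025526395c), (nat_lit 0)⟩))))
 (.n (.n (.n (.n (.l ⟨(nat_lit 0xc0000d), (nat_lit 0x31223e407), (nat_lit 0x13c06429), (nat_lit 0)⟩)
 (.l ⟨(nat_lit 0xc0000d), (nat_lit 0x106c1806c1d), (nat_lit 0x6d2147410c050054f65160), (nat_lit 0)⟩))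
 (.l ⟨(nat_lit 0xc0000b), (nat_lit 0x200701207011), (nat_lit 0xa15e8530d9416494c), (nat_lit 0)⟩))
 (.n (.n (.l ⟨(nat_lit 0xc0000d), (nat_lit 0xd96b1d423), (nat_lit 0x224660304d), (nat_lit 0)⟩)
 (.l ⟨(nat_lit 0x140000d), (nat_lit 0x22064170641e), (nat_lit 0xaf1651b09d455f17f), (nat_lit 0)⟩))
 (.l ⟨(nat_lit 0xc0000d), (nat_lit 0x141f07007), (nat_lit 0x1a15c8a4014c5a19e), (nat_lit 0)⟩)))
 (.n (.n (.n (.l ⟨(nat_lit 0xc0000d), (nat_lit 0x571411505803), (nat_lit 0x31580e56e), (nat_lit 0)⟩)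
 (.l ⟨(nat_lit 0xc0000d), (nat_lit 0x441b0601007007), (nat_lit 0x1e3d10d180050054c5d588), (nat_lit 0)⟩))
 (.l ⟨(nat_lit 0xc0000d), (nat_lit 0x701416), (nat_lit 0x169134130154a5c59c), (nat_lit 0)⟩))
 (.n (.n (.l ⟨(nat_lit 0x140000b), (nat_lit 0x25900a90d), (nat_lit 0x45911486e51d7c5b408), (nat_lit 0)⟩)
 (.l ⟨(nat_lit 0xc00013), (nat_lit 0x6c160681207013), (nat_lit 0x114b48a134050054d5d19d), (nat_lit 0)⟩))
 (.l ⟨(nat_lit 0xc0000d), (nat_lit 0x641e0641107007), (nat_lit 0x1f61c146214a62149), (nat_lit 0)⟩)))))))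
 (.n (.n (.n (.n (.n (.n (.n (.l ⟨(nat_lit 0x600006), (nat_lit 0x1792f3042a), (nat_lit 0), (nat_lit 0)⟩)
 (.l ⟨(nat_lit 0x140000d), (nat_lit 0x1806c1107012), (nat_lit 0x55484740e55959154), (nat_lit 0)⟩))
 (.n (.l ⟨(nat_lit 0x140000d), (nat_lit 0x719810805), (nat_lit 0xa4131ed12), (nat_lit 0)⟩)
 (.l ⟨(nat_lit 0xc00015), (nat_lit 0x681801415), (nat_lit 0x32060050055a5f196), (nat_lit 0)⟩)))
 (.n (.n (.l ⟨(nat_lit 0xc0000d), (nat_lit 0x1ac8811589), (nat_lit 0x3c57f228015b178020030140101007), (nat_lit 0)⟩)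
 (.l ⟨(nat_lit 0xc0000d), (nat_lit 0x1206c1e06416), (nat_lit 0xed3616c640054561166), (nat_lit 0)⟩))
 (.l ⟨(nat_lit 0xc0000d), (nat_lit 0x1c05c0501c03), (nat_lit 0x14cb620c6a65d68), (nat_lit 0)⟩)))
 (.n (.n (.n (.l ⟨(nat_lit 0xc0000d), (nat_lit 0x14d2b4f037), (nat_lit 0x17484365057956007), (nat_lit 0)⟩)
 (.l ⟨(nat_lit 0xa0000d), (nat_lit 0x200640f07007), (nat_lit 0x3943c3f1c4050054365952), (nat_lit 0)⟩))
 (.l ⟨(nat_lit 0xc0000b), (nat_lit 0x3c1d0681307007), (nat_lit 0x6f4a8173895563d45), (nat_lit 0)⟩))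
 (.n (.n (.l ⟨(nat_lit 0xe0000d), (nat_lit 0x919049407), (nat_lit 0x1845547c3a5e997020030140101007), (nat_lit 0)⟩)
 (.l ⟨(nat_lit 0xc0000d), (nat_lit 0x741c0741207007), (nat_lit 0x125801a04805005416655d), (nat_lit 0)⟩))
 (.l ⟨(nat_lit 0xa0000d), (nat_lit 0x4c1a0840b), (nat_lit 0x160584fc6c0140159d94), (nat_lit 0)⟩))))
 (.n (.n (.n (.n (.l ⟨(nat_lit 0xc0000b), (nat_lit 0x390b1f06f), (nat_lit 0x10d0b66076), (nat_lit 0)⟩)
 (.l ⟨(nat_lit 0xc0000d), (nat_lit 0x6c1706c0707007), (nat_lit 0x402098a1095663d7c), (nat_lit 0)⟩))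
 (.l ⟨(nat_lit 0xc00009), (nat_lit 0x681207010), (nat_lit 0x1f4947503d6b6655c), (nat_lit 0)⟩))
 (.n (.n (.l ⟨(nat_lit 0xc0000d), (nat_lit 0x1b4733f420), (nat_lit 0x1b02166c4e), (nat_lit 0)⟩)
 (.l ⟨(nat_lit 0xc0000d), (nat_lit 0x6c210141f07007), (nat_lit 0x1a4408904405005415b57e), (nat_lit 0)⟩))
 (.l ⟨(nat_lit 0xc0000d), (nat_lit 0x70140681e), (nat_lit 0x325a87c1bd435f18f), (nat_lit 0)⟩)))
 (.n (.n (.n (.l ⟨(nat_lit 0xc0000d), (nat_lit 0x1880e11110), (nat_lit 0x1818f01c5f), (nat_lit 0)⟩)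
 (.l ⟨(nat_lit 0xa0000d), (nat_lit 0x210142007007), (nat_lit 0x6b3e4610bc05005415f151), (nat_lit 0)⟩))
 (.l ⟨(nat_lit 0xc0000d), (nat_lit 0x2106c1101420), (nat_lit 0xed1d3ec6100d4561987008060315c66978), (nat_lit 0)⟩))
 (.n (.n (.l ⟨(nat_lit 0x120000d), (nat_lit 0x1a52b1f174), (nat_lit 0x1a97e1306d), (nat_lit 0)⟩)
 (.l ⟨(nat_lit 0xc00013), (nat_lit 0x130680f06415), (nat_lit 0x66c781441a0140167155), (nat_lit 0)⟩))
 (.l ⟨(nat_lit 0xc0000d), (nat_lit 0x1e0681707013), (nat_lit 0x541791d12c05005565359c), (nat_lit 0)⟩)))))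
 (.n (.n (.n (.n (.n (.l ⟨(nat_lit 0xc0000b), (nat_lit 0x1600884b), (nat_lit 0x1b0822540c), (nat_lit 0)⟩)
 (.l ⟨(nat_lit 0xc0000d), (nat_lit 0x1b0381407007), (nat_lit 0x111bc0c1315467599), (nat_lit 0)⟩))
 (.n (.l ⟨(nat_lit 0x600006), (nat_lit 0x1e06410014130641406414), (nat_lit 0), (nat_lit 0)⟩)
 (.l ⟨(nat_lit 0xc00015), (nat_lit 0x15068140141e), (nat_lit 0x302210f20c05005415cd76), (nat_lit 0)⟩)))
 (.n (.n (.l ⟨(nat_lit 0xc0000d), (nat_lit 0x1e5994084e), (nat_lit 0x13d1934c89), (nat_lit 0)⟩)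
 (.l ⟨(nat_lit 0xa0000d), (nat_lit 0x1e0641f06c1d), (nat_lit 0x154595e015014015f56b), (nat_lit 0)⟩))
 (.l ⟨(nat_lit 0xc0000d), (nat_lit 0x1006c20), (nat_lit 0x331743643d4755987), (nat_lit 0)⟩)))
 (.n (.n (.n (.l ⟨(nat_lit 0xc0000d), (nat_lit 0x658510431), (nat_lit 0x746847065), (nat_lit 0)⟩)
 (.l ⟨(nat_lit 0xc0000d), (nat_lit 0x641d0681107011), (nat_lit 0x6f1d5261315067593), (nat_lit 0)⟩))
 (.l ⟨(nat_lit 0xc0000b), (nat_lit 0x140642201415), (nat_lit 0x61751500c59143), (nat_lit 0)⟩))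
 (.n (.n (.l ⟨(nat_lit 0x1200009), (nat_lit 0x1987a2c563), (nat_lit 0x1bd9906458), (nat_lit 0)⟩)
 (.l ⟨(nat_lit 0xc0000f), (nat_lit 0x17014120641d), (nat_lit 0x371983a58c05005456758f), (nat_lit 0)⟩))
 (.l ⟨(nat_lit 0xc0000d), (nat_lit 0x680f06c1607007), (nat_lit 0xd10f34c6f545896440800c050040401d4b5e954), (nat_lit 0)⟩))))
 (.n (.n (.n (.n (.l ⟨(nat_lit 0xc0000d), (nat_lit 0x15d070347a), (nat_lit 0x718f164516099a020030140101007), (nat_lit 0)⟩)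
 (.l ⟨(nat_lit 0xc0000d), (nat_lit 0x160681807007), (nat_lit 0x2f07a0fd495fd8e), (nat_lit 0)⟩))
 (.l ⟨(nat_lit 0xc0000b), (nat_lit 0x541d07012), (nat_lit 0x115e45d1055960d76), (nat_lit 0)⟩))
 (.n (.n (.l ⟨(nat_lit 0xc0000d), (nat_lit 0x536495c1f401), (nat_lit 0x1b01703443), (nat_lit 0)⟩)
 (.l ⟨(nat_lit 0xc0000d), (nat_lit 0x1f0681406c1f), (nat_lit 0x60211811c4050054f56597), (nat_lit 0)⟩))
 (.l ⟨(nat_lit 0xc0000d), (nat_lit 0x441e07007), (nat_lit 0x1b1514f01659d75), (nat_lit 0)⟩)))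
 (.n (.n (.n (.l ⟨(nat_lit 0xc0000d), (nat_lit 0x150f12251f), (nat_lit 0x911600c61), (nat_lit 0)⟩)
 (.l ⟨(nat_lit 0x120000d), (nat_lit 0x170640f07010), (nat_lit 0x586116e06d455d98d), (nat_lit 0)⟩))
 (.l ⟨(nat_lit 0xc0000d), (nat_lit 0x70100701f07012), (nat_lit 0x5a4701c1bc050055059574), (nat_lit 0)⟩))
 (.n (.n (.l ⟨(nat_lit 0x140000b), (nat_lit 0x1d6566007), (nat_lit 0x4140f21c3c), (nat_lit 0)⟩)
 (.l ⟨(nat_lit 0xc00013), (nat_lit 0x2006c100681e), (nat_lit 0x1e1f85103405005455954d), (nat_lit 0)⟩))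
 (.l ⟨(nat_lit 0xc0000d), (nat_lit 0x200701706c1d), (nat_lit 0x11122448050054959564), (nat_lit 0)⟩))))))
 (.n (.n (.n (.n (.n (.n (.l ⟨(nat_lit 0xc00007), (nat_lit 0x1f46f10c29), (nat_lit 0xa46c41451), (nat_lit 0)⟩)
 (.l ⟨(nat_lit 0xc0000d), (nat_lit 0x54130701107007), (nat_lit 0x1905a63d5757d55), (nat_lit 0)⟩))
 (.n (.l ⟨(nat_lit 0x140000d), (nat_lit 0x1a03105c84), (nat_lit 0x68640903f), (nat_lit 0)⟩)
 (.l ⟨(nat_lit 0xc00015), (nat_lit 0x106c1706c1f), (nat_lit 0x7064761a0050054360d5f), (nat_lit 0)⟩)))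
 (.n (.n (.l ⟨(nat_lit 0xc0000d), (nat_lit 0x180725ec05), (nat_lit 0x10c3912c6c), (nat_lit 0)⟩)
 (.l ⟨(nat_lit 0xc0000d), (nat_lit 0x141406c0f07010), (nat_lit 0x601007e188050054a5f99a), (nat_lit 0)⟩))
 (.l ⟨(nat_lit 0xc0000d), (nat_lit 0x210141d), (nat_lit 0x33664781e1435257d), (nat_lit 0)⟩)))
 (.n (.n (.n (.l ⟨(nat_lit 0xc0000d), (nat_lit 0x1a92a2090e), (nat_lit 0x6b14c670f001), (nat_lit 0)⟩)
 (.l ⟨(nat_lit 0xc0000d), (nat_lit 0x706c0707013), (nat_lit 0x665001d1e4050054c5e559), (nat_lit 0)⟩))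
 (.l ⟨(nat_lit 0xc0000b), (nat_lit 0xf0701f07012), (nat_lit 0x344207719d6b64d97), (nat_lit 0)⟩))
 (.n (.n (.l ⟨(nat_lit 0xe0000d), (nat_lit 0x1a565201fc03), (nat_lit 0x1b81a6344765987020030140101007), (nat_lit 0)⟩)
 (.l ⟨(nat_lit 0xc0000f), (nat_lit 0x64150702007013), (nat_lit 0xd49080058050054166d68), (nat_lit 0)⟩))
 (.l ⟨(nat_lit 0x140000d), (nat_lit 0x681807010), (nat_lit 0x571212d0055463d94), (nat_lit 0)⟩))))
 (.n (.n (.n (.n (.l ⟨(nat_lit 0xc0000b), (nat_lit 0x16d8d14488), (nat_lit 0x14c7648874), (nat_lit 0)⟩)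
 (.l ⟨(nat_lit 0xc0000d), (nat_lit 0x2006c0701420), (nat_lit 0x6018c8a07d5a5f199), (nat_lit 0)⟩))
 (.l ⟨(nat_lit 0x60000b), (nat_lit 0x6c2101416), (nat_lit 0x324d5b01c050055663d98), (nat_lit 0)⟩))
 (.n (.n (.l ⟨(nat_lit 0xc0000d), (nat_lit 0x105082447e), (nat_lit 0xd9656506d), (nat_lit 0)⟩)
 (.l ⟨(nat_lit 0xc0000d), (nat_lit 0x481f0641007011), (nat_lit 0x10440240fc050054a61d64), (nat_lit 0)⟩))
 (.l ⟨(nat_lit 0xc0000d), (nat_lit 0x210641e07007), (nat_lit 0x5c6530c3f5659c), (nat_lit 0)⟩)))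
 (.n (.n (.n (.l ⟨(nat_lit 0xc0000d), (nat_lit 0x91295987b), (nat_lit 0xc47522051), (nat_lit 0)⟩)
 (.l ⟨(nat_lit 0xc0000d), (nat_lit 0x11068110701d), (nat_lit 0x611f50e14405005556016d), (nat_lit 0)⟩))
 (.l ⟨(nat_lit 0x140000d), (nat_lit 0x1507007), (nat_lit 0x1a83a65ce25158a5dc0800c050040401d435357c), (nat_lit 0)⟩))
 (.n (.n (.l ⟨(nat_lit 0x120000d), (nat_lit 0x1a1784200c), (nat_lit 0x1ac8259823), (nat_lit 0)⟩)
 (.l ⟨(nat_lit 0xc00013), (nat_lit 0x601d0140707011), (nat_lit 0x5f1b12245c05005666217d), (nat_lit 0)⟩))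
 (.l ⟨(nat_lit 0xc0000d), (nat_lit 0x1e0702206815), (nat_lit 0x6466d890a9515796b), (nat_lit 0)⟩)))))
 (.n (.n (.n (.n (.n (.l ⟨(nat_lit 0xc0000b), (nat_lit 0x696543b), (nat_lit 0x174f115076), (nat_lit 0)⟩)
 (.l ⟨(nat_lit 0xc0000d), (nat_lit 0x70200681e), (nat_lit 0x610692a031585e151), (nat_lit 0)⟩))
 (.n (.l ⟨(nat_lit 0xa00007), (nat_lit 0x701f07012), (nat_lit 0x6a1393911c05005475d181), (nat_lit 0)⟩)
 (.l ⟨(nat_lit 0xc00015), (nat_lit 0x160641707010), (nat_lit 0x598174d81c014015d194), (nat_lit 0)⟩)))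
 (.n (.n (.l ⟨(nat_lit 0xc0000d), (nat_lit 0x1b48115417), (nat_lit 0x4c1b1687c), (nat_lit 0)⟩)
 (.l ⟨(nat_lit 0xc0000d), (nat_lit 0x1806c070141d), (nat_lit 0xc84f160305316e6480800c050040401d455dd72), (nat_lit 0)⟩))
 (.l ⟨(nat_lit 0xc0000d), (nat_lit 0x141306c2106815), (nat_lit 0x176513120c05005705e566), (nat_lit 0)⟩)))
 (.n (.n (.n (.l ⟨(nat_lit 0xc0000d), (nat_lit 0xc9761a4f9), (nat_lit 0x1c4420d02f), (nat_lit 0)⟩)
 (.l ⟨(nat_lit 0xc0000d), (nat_lit 0x120701807007), (nat_lit 0x500f61c125e58c), (nat_lit 0)⟩))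
 (.l ⟨(nat_lit 0xc0000d), (nat_lit 0x150140707007), (nat_lit 0x135b98e01c050054a5b5750214558d8d), (nat_lit 0)⟩))
 (.n (.n (.l ⟨(nat_lit 0x120000d), (nat_lit 0x168483897a), (nat_lit 0x3545f48834), (nat_lit 0)⟩)
 (.l ⟨(nat_lit 0xc0000f), (nat_lit 0x2006c1406815), (nat_lit 0x322445902c050054761561), (nat_lit 0)⟩))
 (.l ⟨(nat_lit 0xc0000d), (nat_lit 0x170141307007), (nat_lit 0x1a82111d66004050054567552), (nat_lit 0)⟩))))
 (.n (.n (.n (.n (.l ⟨(nat_lit 0xc0000d), (nat_lit 0x79351445c), (nat_lit 0x170b11e093), (nat_lit 0)⟩)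
 (.l ⟨(nat_lit 0xc0000d), (nat_lit 0x700f0701e07007), (nat_lit 0x6a24c2f02405005415fd99), (nat_lit 0)⟩))
 (.l ⟨(nat_lit 0xc0000b), (nat_lit 0x200701206415), (nat_lit 0x6d0481400d4964596), (nat_lit 0)⟩))
 (.n (.n (.l ⟨(nat_lit 0xc0000d), (nat_lit 0x4625dc88), (nat_lit 0x5d861e1185994a020030140101007), (nat_lit 0)⟩)
 (.l ⟨(nat_lit 0xc0000d), (nat_lit 0x220141001415), (nat_lit 0x1d41485424050054356557), (nat_lit 0)⟩))
 (.l ⟨(nat_lit 0xc0000d), (nat_lit 0x74110141707007), (nat_lit 0x1592a2c85800c050055b61993), (nat_lit 0)⟩)))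
 (.n (.n (.n (.l ⟨(nat_lit 0xc0000d), (nat_lit 0x61304830cc01), (nat_lit 0x5311d824), (nat_lit 0)⟩)
 (.l ⟨(nat_lit 0xc0000d), (nat_lit 0x801b07c0c07007), (nat_lit 0x444ac8720d455fd45), (nat_lit 0)⟩))
 (.l ⟨(nat_lit 0xa0000d), (nat_lit 0x106c120701d), (nat_lit 0x66165840a4050054166991), (nat_lit 0)⟩))
 (.n (.n (.l ⟨(nat_lit 0x140000d), (nat_lit 0x108554bd87), (nat_lit 0x887b08167), (nat_lit 0)⟩)
 (.l ⟨(nat_lit 0x1200013), (nat_lit 0x120141306815), (nat_lit 0x18809164fe5296558c0800c050040401d455fd9b), (nat_lit 0)⟩))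
 (.l ⟨(nat_lit 0xc0000d), (nat_lit 0x842007013), (nat_lit 0x509105c05005455e15c), (nat_lit 0)⟩)))))))
noncomputable def T14 : Tr :=
  .n (.n (.n (.n (.n (.n (.n (.n (.l ⟨(nat_lit 0x200002), (nat_lit 175), (nat_lit 0), (nat_lit 0)⟩)
 (.l ⟨(nat_lit 0xa0000d), (nat_lit 0x681d01415), (nat_lit 0x421e83c54405005436615f), (nat_lit 0)⟩))
 (.n (.l ⟨(nat_lit 0x140000d), (nat_lit 0x683614c09), (nat_lit 0x19101188bf), (nat_lit 0)⟩)
 (.l ⟨(nat_lit 0xc00015), (nat_lit 0x14200640f07007), (nat_lit 0xb508c050054a59967), (nat_lit 0)⟩)))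
 (.n (.n (.l ⟨(nat_lit 0xc0000d), (nat_lit 0xbc413f007), (nat_lit 0x1446a6501a), (nat_lit 0)⟩)
 (.l ⟨(nat_lit 0xc0000d), (nat_lit 0x7c110141f07007), (nat_lit 0x70060f92cd4152d6d), (nat_lit 0)⟩))
 (.l ⟨(nat_lit 0xc0000d), (nat_lit 0x241f0680f07007), (nat_lit 0x57164e206d5261567), (nat_lit 0)⟩)))
 (.n (.n (.n (.l ⟨(nat_lit 0xc0000d), (nat_lit 0x2d08208c43), (nat_lit 0x1600302468), (nat_lit 0)⟩)
 (.l ⟨(nat_lit 0xc0000d), (nat_lit 0x220141606415), (nat_lit 0x22674862fd4b6494a), (nat_lit 0)⟩))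
 (.l ⟨(nat_lit 0xc0000b), (nat_lit 0x180641306815), (nat_lit 0x641dc5a0a5585657f), (nat_lit 0)⟩))
 (.n (.n (.l ⟨(nat_lit 0xe0000b), (nat_lit 0x1174b364001), (nat_lit 0x6407455848), (nat_lit 0)⟩)
 (.l ⟨(nat_lit 0xc0000d), (nat_lit 0x70701f06415), (nat_lit 0x117194108050054a66d71), (nat_lit 0)⟩))
 (.l ⟨(nat_lit 0xc0000d), (nat_lit 0x401a0580b), (nat_lit 0x3c2046b1316d61d78), (nat_lit 0)⟩))))
 (.n (.n (.n (.n (.l ⟨(nat_lit 0xc0000b), (nat_lit 0x1685241820), (nat_lit 0x44f810d1b), (nat_lit 0)⟩)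
 (.l ⟨(nat_lit 0xc0000d), (nat_lit 0x70641307011), (nat_lit 0xc11049c220140153577), (nat_lit 0)⟩))
 (.l ⟨(nat_lit 0x600009), (nat_lit 0x141507007), (nat_lit 0x5a1f4940fc05005435e98b), (nat_lit 0)⟩))
 (.n (.n (.l ⟨(nat_lit 0xc0000d), (nat_lit 0x150b16343c), (nat_lit 0x1458f18458), (nat_lit 0)⟩)
 (.l ⟨(nat_lit 0x140000d), (nat_lit 0x1806c1107011), (nat_lit 0x4430c580d94767192), (nat_lit 0)⟩))
 (.l ⟨(nat_lit 0xc0000d), (nat_lit 0x706c1307017), (nat_lit 0x66c743ad4d54d79), (nat_lit 0)⟩)))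
 (.n (.n (.n (.l ⟨(nat_lit 0xc0000d), (nat_lit 0x1f04b65c03), (nat_lit 0x1bce16503b), (nat_lit 0)⟩)
 (.l ⟨(nat_lit 0xc0000d), (nat_lit 0x90681e07007), (nat_lit 0x113f05200c050054566589), (nat_lit 0)⟩))
 (.l ⟨(nat_lit 0xc0000d), (nat_lit 0x160681607011), (nat_lit 0x15155200835716f), (nat_lit 0)⟩))
 (.n (.n (.l ⟨(nat_lit 0x120000d), (nat_lit 0x89651c483), (nat_lit 0x892c1e87b), (nat_lit 0)⟩)
 (.l ⟨(nat_lit 0xc00013), (nat_lit 0x601d0701207007), (nat_lit 0x190e856024050054367570), (nat_lit 0)⟩))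
 (.l ⟨(nat_lit 0xc0000d), (nat_lit 0x210702107007), (nat_lit 0x136205785956d), (nat_lit 0)⟩)))))
 (.n (.n (.n (.n (.n (.l ⟨(nat_lit 0xc0000b), (nat_lit 0x3d8846407), (nat_lit 0x1c0783c803), (nat_lit 0)⟩)
 (.l ⟨(nat_lit 0xc0000d), (nat_lit 0x68220681307010), (nat_lit 0x105498b1f8050054366993), (nat_lit 0)⟩))
 (.n (.l ⟨(nat_lit 3), (nat_lit 0), (nat_lit 5121), (nat_lit 0)⟩)
 (.l ⟨(nat_lit 0xc00015), (nat_lit 0x1106c1d0641d), (nat_lit 0x3c3e5741d805005495e193), (nat_lit 0)⟩)))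
 (.n (.n (.l ⟨(nat_lit 0xc0000d), (nat_lit 0x181831e99a), (nat_lit 0x15d9c1cc1b), (nat_lit 0)⟩)
 (.l ⟨(nat_lit 0xa0000d), (nat_lit 0x220701207017), (nat_lit 0x1458c4d19805005495859e), (nat_lit 0)⟩))
 (.l ⟨(nat_lit 0xc0000d), (nat_lit 0x1f0681d07010), (nat_lit 0x453143812014015bd7e), (nat_lit 0)⟩)))
 (.n (.n (.n (.l ⟨(nat_lit 0xc0000d), (nat_lit 0x1506961c47), (nat_lit 0x120c42251a), (nat_lit 0)⟩)
 (.l ⟨(nat_lit 0xc0000d), (nat_lit 0x150701207014), (nat_lit 0x1f6007c1cc050054363d92), (nat_lit 0)⟩))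
 (.l ⟨(nat_lit 0xc0000b), (nat_lit 0x1406c1f07012), (nat_lit 0x500a85e0d5525a180), (nat_lit 0)⟩))
 (.n (.n (.l ⟨(nat_lit 0xe0000f), (nat_lit 0xb0cc39), (nat_lit 0x3f1753e421525c1610080602407014080280c0300c02407014080280b01c05020050040802c0b), (nat_lit 0)⟩)
 (.l ⟨(nat_lit 0xc0000f), (nat_lit 0x88120640707007), (nat_lit 0x697a1703c004050054962d64), (nat_lit 0)⟩))
 (.l ⟨(nat_lit 0xc0000d), (nat_lit 0x442007010), (nat_lit 0x541a05107c05005556718b), (nat_lit 0)⟩))))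
 (.n (.n (.n (.n (.l ⟨(nat_lit 0xc0000d), (nat_lit 0x3f0a054), (nat_lit 0xdcff1c837), (nat_lit 0)⟩)
 (.l ⟨(nat_lit 0xc0000d), (nat_lit 0x106c1806815), (nat_lit 0x5b575060d54564564), (nat_lit 0)⟩))
 (.l ⟨(nat_lit 0x140000b), (nat_lit 0x2101416), (nat_lit 0x341890c025655b992), (nat_lit 0)⟩))
 (.n (.n (.l ⟨(nat_lit 0xc0000d), (nat_lit 0x52dc8125003), (nat_lit 0x1853e1046e), (nat_lit 0)⟩)
 (.l ⟨(nat_lit 0xc0000d), (nat_lit 0x541f0642207007), (nat_lit 0x3a41d6804c05005575b586), (nat_lit 0)⟩))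
 (.l ⟨(nat_lit 0xc0000d), (nat_lit 0x7c1807007), (nat_lit 0x174843650579560075257f), (nat_lit 0)⟩)))
 (.n (.n (.n (.l ⟨(nat_lit 0xc0000d), (nat_lit 0x70f408461), (nat_lit 0x9d821bce2), (nat_lit 0)⟩)
 (.l ⟨(nat_lit 0xc0000d), (nat_lit 0x68200680f07012), (nat_lit 0x16d0d2183a5997b), (nat_lit 0)⟩))
 (.l ⟨(nat_lit 0xc0000d), (nat_lit 0x1507012), (nat_lit 0x174fe4701250d49), (nat_lit 0)⟩))
 (.n (.n (.l ⟨(nat_lit 0x1200013), (nat_lit 0x1900b5905e), (nat_lit 0x19204304215561d4d020030140101007), (nat_lit 0)⟩)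
 (.l ⟨(nat_lit 0xc00013), (nat_lit 0x160681407007), (nat_lit 0x225947120c05005415954a), (nat_lit 0)⟩))
 (.l ⟨(nat_lit 0xa0000d), (nat_lit 0x106c2206815), (nat_lit 0x666397d16c050054b56174), (nat_lit 0)⟩))))))
 (.n (.n (.n (.n (.n (.n (.l ⟨(nat_lit 0xa0000b), (nat_lit 0xf13f1000e), (nat_lit 0xd10208c0b), (nat_lit 0)⟩)
 (.l ⟨(nat_lit 0xc0000d), (nat_lit 0x70120702207010), (nat_lit 0x7012430150140167958), (nat_lit 0)⟩))
 (.n (.l ⟨(nat_lit 0x140000d), (nat_lit 0x8913c1d), (nat_lit 0x61c18251495b594020030140101007), (nat_lit 0)⟩)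
 (.l ⟨(nat_lit 0xc00015), (nat_lit 0x130141507011), (nat_lit 0x1112c0900405005536496b), (nat_lit 0)⟩)))
 (.n (.n (.l ⟨(nat_lit 0xc0000d), (nat_lit 0x1555d0480d), (nat_lit 0x1f84f61c15), (nat_lit 0)⟩)
 (.l ⟨(nat_lit 0xc0000d), (nat_lit 0x160141707013), (nat_lit 0x1d4754ac1b6056f), (nat_lit 0)⟩))
 (.l ⟨(nat_lit 0xc0000d), (nat_lit 0x2006c140681f), (nat_lit 0x5f09c430714364551), (nat_lit 0)⟩)))
 (.n (.n (.n (.l ⟨(nat_lit 0xc0000d), (nat_lit 0x441592a50001), (nat_lit 0x6c7666573), (nat_lit 0)⟩)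
 (.l ⟨(nat_lit 0xc0000d), (nat_lit 0x58180141407007), (nat_lit 0x71581f5e1645694c), (nat_lit 0)⟩))
 (.l ⟨(nat_lit 0xa0000b), (nat_lit 0x800e07011), (nat_lit 0x1e1c9813f5415c593), (nat_lit 0)⟩))
 (.n (.n (.l ⟨(nat_lit 0xe0000d), (nat_lit 0x28408f117c01), (nat_lit 0x21d395544d), (nat_lit 0)⟩)
 (.l ⟨(nat_lit 0xe0000e), (nat_lit 0x5054050580503c1a01c1d), (nat_lit 0), (nat_lit 0)⟩))
 (.l ⟨(nat_lit 0xc0000d), (nat_lit 0x106c1d06816), (nat_lit 0x694912c140050054c5fd5e), (nat_lit 0)⟩))))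
 (.n (.n (.n (.n (.l ⟨(nat_lit 0xc0000b), (nat_lit 0x2048a4083b), (nat_lit 0x1bc553e50f), (nat_lit 0)⟩)
 (.l ⟨(nat_lit 0xc0000d), (nat_lit 0x70220641d), (nat_lit 0xf1fd851c405005506098a), (nat_lit 0)⟩))
 (.l ⟨(nat_lit 0xe0000b), (nat_lit 19), (nat_lit 0x247e17c5b5054c), (nat_lit 0)⟩))
 (.n (.n (.l ⟨(nat_lit 0xc0000d), (nat_lit 0x1805e17007), (nat_lit 0x5a82758c0b), (nat_lit 0)⟩)
 (.l ⟨(nat_lit 0xc0000d), (nat_lit 0x1306c0707014), (nat_lit 0x10c885644700c05005415915d), (nat_lit 0)⟩))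
 (.l ⟨(nat_lit 0xc0000d), (nat_lit 0x141d06c1307013), (nat_lit 0x662213814c050054b5b97f), (nat_lit 0)⟩)))
 (.n (.n (.n (.l ⟨(nat_lit 0xc0000d), (nat_lit 0x61291c869), (nat_lit 0x17d884ac58), (nat_lit 0)⟩)
 (.l ⟨(nat_lit 0xc0000d), (nat_lit 0x70641f07007), (nat_lit 0x652ec31218050054f5b977), (nat_lit 0)⟩))
 (.l ⟨(nat_lit 0xc0000d), (nat_lit 0x2106c1f07010), (nat_lit 0x524c87116d6e55d8e), (nat_lit 0)⟩))
 (.n (.n (.l ⟨(nat_lit 0x120000d), (nat_lit 0xe86858084), (nat_lit 0xc0af13472), (nat_lit 0)⟩)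
 (.l ⟨(nat_lit 0xc00013), (nat_lit 0x6c1806415), (nat_lit 0x6c600643b0050054d5618f), (nat_lit 0)⟩))
 (.l ⟨(nat_lit 0x60000d), (nat_lit 0x6c1306c2007014), (nat_lit 0x4d14c830d54a6059b), (nat_lit 0)⟩)))))
 (.n (.n (.n (.n (.n (.l ⟨(nat_lit 0xc0000b), (nat_lit 0x6096e22035), (nat_lit 0x1b0a20897b), (nat_lit 0)⟩)
 (.l ⟨(nat_lit 0xc0000d), (nat_lit 0x170141606415), (nat_lit 0x152dd081894d63d6c), (nat_lit 0)⟩))
 (.n (.l ⟨(nat_lit 0xc00007), (nat_lit 0x681206c1607007), (nat_lit 0x131a50003d476656c), (nat_lit 0)⟩)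
 (.l ⟨(nat_lit 0x1200015), (nat_lit 0x220681607007), (nat_lit 0x4b05d8705c050054159978), (nat_lit 0)⟩)))
 (.n (.n (.l ⟨(nat_lit 0xc0000d), (nat_lit 0x414785b03401), (nat_lit 0xfd3f1143f), (nat_lit 0)⟩)
 (.l ⟨(nat_lit 0xc0000d), (nat_lit 0x1f0701d07011), (nat_lit 0x54500d8f70140155176), (nat_lit 0)⟩))
 (.l ⟨(nat_lit 0xc0000d), (nat_lit 0x14220701e07011), (nat_lit 0x1bc455544d0140153589), (nat_lit 0)⟩)))
 (.n (.n (.n (.l ⟨(nat_lit 0xc0000d), (nat_lit 0x1d0712d007), (nat_lit 0x1b53a12470), (nat_lit 0)⟩)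
 (.l ⟨(nat_lit 0xc0000d), (nat_lit 0x64210681807007), (nat_lit 0x363d6a058050055367959), (nat_lit 0)⟩))
 (.l ⟨(nat_lit 0xc0000d), (nat_lit 17415), (nat_lit 0x173518001d415d982), (nat_lit 0)⟩))
 (.n (.n (.l ⟨(nat_lit 0x120000d), (nat_lit 0x396813027), (nat_lit 0x168730d422), (nat_lit 0)⟩)
 (.l ⟨(nat_lit 0xc0000f), (nat_lit 0x1d0641f07013), (nat_lit 0x486707d058050054a5696f), (nat_lit 0)⟩))
 (.l ⟨(nat_lit 0xc0000d), (nat_lit 0x301f07014), (nat_lit 0x742d8610c805005575657f), (nat_lit 0)⟩))))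
 (.n (.n (.n (.n (.l ⟨(nat_lit 0xc0000d), (nat_lit 0x2504c1ac1a), (nat_lit 0x42c653443c), (nat_lit 0)⟩)
 (.l ⟨(nat_lit 0xc0000d), (nat_lit 0x68200641107011), (nat_lit 0x6a0e40f3d1605e57f), (nat_lit 0)⟩))
 (.l ⟨(nat_lit 0x140000b), (nat_lit 0x1d06415), (nat_lit 0x170483f01750d72), (nat_lit 0)⟩))
 (.n (.n (.l ⟨(nat_lit 0x60000d), (nat_lit 0x301e1eca1), (nat_lit 0x1252816443), (nat_lit 0)⟩)
 (.l ⟨(nat_lit 0x140000d), (nat_lit 0x702006c1807007), (nat_lit 0x2f27d600a5415e567), (nat_lit 0)⟩))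
 (.l ⟨(nat_lit 0xc0000d), (nat_lit 0x3c1d06415), (nat_lit 0x3b3f05b0c0050054a58d8d), (nat_lit 0)⟩)))
 (.n (.n (.n (.l ⟨(nat_lit 0xc0000d), (nat_lit 0x5319956), (nat_lit 0x1811615037), (nat_lit 0)⟩)
 (.l ⟨(nat_lit 0x120000d), (nat_lit 0x6c210702207007), (nat_lit 0x631a0830fd4f66154), (nat_lit 0)⟩))
 (.l ⟨(nat_lit 0x120000d), (nat_lit 0x1d01416), (nat_lit 0x74c118d5c5b172), (nat_lit 0)⟩))
 (.n (.n (.l ⟨(nat_lit 0x140000d), (nat_lit 51224), (nat_lit 0x1a83a65ce2), (nat_lit 0)⟩)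
 (.l ⟨(nat_lit 0x1000013), (nat_lit 0x1b0541f), (nat_lit 0x5c754ac68004050054b6018f), (nat_lit 0)⟩))
 (.l ⟨(nat_lit 0xa0000d), (nat_lit 0x3c1b0341307007), (nat_lit 0x91755641805005656698d), (nat_lit 0)⟩)))))))
 (.n (.n (.n (.n (.n (.n (.n (.l ⟨(nat_lit 0x600007), (nat_lit 0x10140b), (nat_lit 0x5056d58c020180c), (nat_lit 0)⟩)
 (.l ⟨(nat_lit 0xc0000d), (nat_lit 0x1306c2106815), (nat_lit 0x1e189742014b64958), (nat_lit 0)⟩))
 (.n (.l ⟨(nat_lit 0x140000d), (nat_lit 0x1587f16940), (nat_lit 0x5d86f0541c), (nat_lit 0)⟩)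
 (.l ⟨(nat_lit 0x800015), (nat_lit 0x160641607014), (nat_lit 0xf964810014016299b), (nat_lit 0)⟩)))
 (.n (.n (.l ⟨(nat_lit 0xc0000d), (nat_lit 0x4d571dc1e), (nat_lit 0x16d0d2183a), (nat_lit 0)⟩)
 (.l ⟨(nat_lit 0xc0000d), (nat_lit 0x70120641f07007), (nat_lit 0x16d00188650140165952), (nat_lit 0)⟩))
 (.l ⟨(nat_lit 0xc0000d), (nat_lit 0x2006c1406821), (nat_lit 0x1d1ec7d388050055f5a57e), (nat_lit 0)⟩)))
 (.n (.n (.n (.l ⟨(nat_lit 0xc0000d), (nat_lit 0x3c7f61471), (nat_lit 0x4a10118441), (nat_lit 0)⟩)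
 (.l ⟨(nat_lit 0xc0000d), (nat_lit 0x1506c0f07007), (nat_lit 0x3116407618050055260592), (nat_lit 0)⟩))
 (.l ⟨(nat_lit 0xc0000b), (nat_lit 0xd06c1e07007), (nat_lit 0xed1d3ec6100d566214b), (nat_lit 0)⟩))
 (.n (.n (.l ⟨(nat_lit 0xe0000d), (nat_lit 0x1381a1881c), (nat_lit 0x8d0b14029), (nat_lit 0)⟩)
 (.l ⟨(nat_lit 0xc0000d), (nat_lit 0x70180141d0641d), (nat_lit 0x1a5444e049476356c), (nat_lit 0)⟩))
 (.l ⟨(nat_lit 0xa0000d), (nat_lit 0x701d0140f06816), (nat_lit 0x6514c0c0a8050054c5e19d), (nat_lit 0)⟩))))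
 (.n (.n (.n (.n (.l ⟨(nat_lit 0xc0000b), (nat_lit 0xe50220841), (nat_lit 0xcc6d43534), (nat_lit 0)⟩)
 (.l ⟨(nat_lit 0xc0000d), (nat_lit 0x68150141d), (nat_lit 0x91bd1021c05005646097a), (nat_lit 0)⟩))
 (.l ⟨(nat_lit 0xc00009), (nat_lit 0x141f0141007011), (nat_lit 0x6f595241e14d55194), (nat_lit 0)⟩))
 (.n (.n (.l ⟨(nat_lit 0xc0000d), (nat_lit 0x1b04f44007), (nat_lit 0x1702430c78), (nat_lit 0)⟩)
 (.l ⟨(nat_lit 0xc0000d), (nat_lit 0x150702007011), (nat_lit 0x9604644395f59575), (nat_lit 0)⟩))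
 (.l ⟨(nat_lit 0xc0000d), (nat_lit 0x64220681207010), (nat_lit 0x622453f1f4050054f61154), (nat_lit 0)⟩)))
 (.n (.n (.n (.l ⟨(nat_lit 0xc0000d), (nat_lit 0x16c8303886), (nat_lit 0x9c664180c), (nat_lit 0)⟩)
 (.l ⟨(nat_lit 0xc0000d), (nat_lit 0x210701f0681e), (nat_lit 0x2a225100c4050055e57d98), (nat_lit 0)⟩))
 (.l ⟨(nat_lit 0xc0000d), (nat_lit 0x190780b), (nat_lit 0x18388654655864182), (nat_lit 0)⟩))
 (.n (.n (.l ⟨(nat_lit 0x120000d), (nat_lit 0x3c3c6305b), (nat_lit 0x1692e1e0bb), (nat_lit 0)⟩)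
 (.l ⟨(nat_lit 0xa00013), (nat_lit 0xc06c1407010), (nat_lit 0xf81a91105805005436196a), (nat_lit 0)⟩))
 (.l ⟨(nat_lit 0xc0000d), (nat_lit 0x1b0781905c03), (nat_lit 0x5010cd33ed5954595), (nat_lit 0)⟩)))))
 (.n (.n (.n (.n (.n (.l ⟨(nat_lit 0xc0000b), (nat_lit 0x10d3202c05), (nat_lit 0x1053e0d18f), (nat_lit 0)⟩)
 (.l ⟨(nat_lit 0xc0000d), (nat_lit 0x6c1106c1e), (nat_lit 0x19c6b014560055059583), (nat_lit 0)⟩))
 (.n (.l ⟨(nat_lit 0x600007), (nat_lit 11), (nat_lit 0x5056d58c020180c50543), (nat_lit 0)⟩)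
 (.l ⟨(nat_lit 0xc00015), (nat_lit 0x641406416), (nat_lit 0x1a0d853024050054c6098a), (nat_lit 0)⟩)))
 (.n (.n (.l ⟨(nat_lit 0xc0000d), (nat_lit 0x5c6f44049), (nat_lit 0xc51c17900), (nat_lit 0)⟩)
 (.l ⟨(nat_lit 0xc0000d), (nat_lit 0x1706c1006c1f), (nat_lit 0x352183524c050054164d64), (nat_lit 0)⟩))
 (.l ⟨(nat_lit 0xc0000d), (nat_lit 0x14140681f), (nat_lit 0x641155c0bd5b5e590), (nat_lit 0)⟩)))
 (.n (.n (.n (.l ⟨(nat_lit 0xc0000d), (nat_lit 0x41604b876), (nat_lit 0x570693f1e0050058e5e407), (nat_lit 0)⟩)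
 (.l ⟨(nat_lit 0xc0000d), (nat_lit 0x180681307007), (nat_lit 0x6e200860c95664156), (nat_lit 0)⟩))
 (.l ⟨(nat_lit 0x20000d), (nat_lit 0), (nat_lit 0xc1201401), (nat_lit 0)⟩))
 (.n (.n (.l ⟨(nat_lit 0x120000b), (nat_lit 0x1bd7c03102), (nat_lit 0x687c59106), (nat_lit 0)⟩)
 (.l ⟨(nat_lit 0xc0000f), (nat_lit 0x881507013), (nat_lit 0x94d5960c005005535fd53), (nat_lit 0)⟩))
 (.l ⟨(nat_lit 0xc0000d), (nat_lit 0x241e0682007007), (nat_lit 0x231a18a1c1585e17f), (nat_lit 0)⟩))))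
 (.n (.n (.n (.n (.l ⟨(nat_lit 0xc0000d), (nat_lit 0x4d6e63807), (nat_lit 0xbd1e1e448), (nat_lit 0)⟩)
 (.l ⟨(nat_lit 0xc0000d), (nat_lit 0x7c1b04c1a06c07), (nat_lit 0x2143d68048050056553180), (nat_lit 0)⟩))
 (.l ⟨(nat_lit 0xc0000b), (nat_lit 0x2206c1d07007), (nat_lit 0xd4174ad4c67584), (nat_lit 0)⟩))
 (.n (.n (.l ⟨(nat_lit 0xc0000d), (nat_lit 0x10d6a1cc01), (nat_lit 0x4c8159424), (nat_lit 0)⟩)
 (.l ⟨(nat_lit 0xc0000d), (nat_lit 0x180681707013), (nat_lit 0x51e0fb15405005595e958), (nat_lit 0)⟩))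
 (.l ⟨(nat_lit 0xc0000d), (nat_lit 0x88150681407007), (nat_lit 0x62209780c55e5657c), (nat_lit 0)⟩)))
 (.n (.n (.n (.l ⟨(nat_lit 0xc0000d), (nat_lit 0xd06f1c4d1), (nat_lit 0x845e57415), (nat_lit 0)⟩)
 (.l ⟨(nat_lit 0xc0000d), (nat_lit 0x1e06c1707014), (nat_lit 0x4012c581bc05005665cd66), (nat_lit 0)⟩))
 (.l ⟨(nat_lit 0xc0000d), (nat_lit 0x1b0302207010), (nat_lit 0x3417857044050055260164), (nat_lit 0)⟩))
 (.n (.n (.l ⟨(nat_lit 0x140000b), (nat_lit 0xc96914c09), (nat_lit 0x1206780f), (nat_lit 0)⟩)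
 (.l ⟨(nat_lit 0xc00013), (nat_lit 0xf0641406815), (nat_lit 0xfd1766c180140165991), (nat_lit 0)⟩))
 (.l ⟨(nat_lit 0xc0000d), (nat_lit 0x641e0700707007), (nat_lit 0x301a482154050054559555), (nat_lit 0)⟩))))))
 (.n (.n (.n (.n (.n (.n (.l ⟨(nat_lit 0xc00007), (nat_lit 0x1999403d84), (nat_lit 0x491641bc4d), (nat_lit 0)⟩)
 (.l ⟨(nat_lit 0xc0000d), (nat_lit 0x2006c100681f), (nat_lit 0x2016c220cc050054b5e57f), (nat_lit 0)⟩))
 (.n (.l ⟨(nat_lit 0x140000d), (nat_lit 0x1a0f25706b), (nat_lit 0x4388561c53), (nat_lit 0)⟩)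
 (.l ⟨(nat_lit 0xc00015), (nat_lit 0x1e0142007014), (nat_lit 0x1cd3e428050055367983), (nat_lit 0)⟩)))
 (.n (.n (.l ⟨(nat_lit 0xc0000d), (nat_lit 0xe58c28407), (nat_lit 0x1b8b11b820), (nat_lit 0)⟩)
 (.l ⟨(nat_lit 0xc0000d), (nat_lit 0x1d0700706420), (nat_lit 0xbcbb205960140163549), (nat_lit 0)⟩))
 (.l ⟨(nat_lit 0xc0000d), (nat_lit 0x5c1b0441807007), (nat_lit 0x504700e0e5455b581), (nat_lit 0)⟩)))
 (.n (.n (.n (.l ⟨(nat_lit 0xc0000d), (nat_lit 0x1714002c84), (nat_lit 0x698e20c09), (nat_lit 0)⟩)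
 (.l ⟨(nat_lit 0xc0000d), (nat_lit 0x130681307007), (nat_lit 0x154b07b4f56458564), (nat_lit 0)⟩))
 (.l ⟨(nat_lit 0xc0000b), (nat_lit 0x180141107010), (nat_lit 0x3442c131c15556151), (nat_lit 0)⟩))
 (.n (.n (.l ⟨(nat_lit 0xe0000d), (nat_lit 0x55475890cc01), (nat_lit 0x874e55513545020030140101007), (nat_lit 0)⟩)
 (.l ⟨(nat_lit 0xc0000f), (nat_lit 0x702106c1407010), (nat_lit 0x281d43501405005585f54d), (nat_lit 0)⟩))
 (.l ⟨(nat_lit 0xc0000d), (nat_lit 0x70180642107011), (nat_lit 0x56c775cd4557959), (nat_lit 0)⟩))))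
 (.n (.n (.n (.n (.l ⟨(nat_lit 0xc0000b), (nat_lit 0x6006e09c1e), (nat_lit 0x1bd2a05ce2), (nat_lit 0)⟩)
 (.l ⟨(nat_lit 0xe0000d), (nat_lit 0x141306c1f), (nat_lit 0x584c42046d475498f), (nat_lit 0)⟩))
 (.l ⟨(nat_lit 0x140000b), (nat_lit 0x1d0681806c20), (nat_lit 0x5e440531654166978), (nat_lit 0)⟩))
 (.n (.n (.l ⟨(nat_lit 0xc0000d), (nat_lit 0x1846d40807), (nat_lit 0x120195b078), (nat_lit 0)⟩)
 (.l ⟨(nat_lit 0xc0000d), (nat_lit 0x641306c0f06416), (nat_lit 0x1a4764882800c050055864963), (nat_lit 0)⟩))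
 (.l ⟨(nat_lit 0xc0000d), (nat_lit 0x3c1d07007), (nat_lit 0xd1a3dc7159997670075294f), (nat_lit 0)⟩)))
 (.n (.n (.n (.l ⟨(nat_lit 0xc0000d), (nat_lit 0x170a21b080), (nat_lit 0x1787065077), (nat_lit 0)⟩)
 (.l ⟨(nat_lit 0xc0000d), (nat_lit 0x120641607011), (nat_lit 0x623500c5b9545b991), (nat_lit 0)⟩))
 (.l ⟨(nat_lit 0x120000d), (nat_lit 0x1306c110641d), (nat_lit 0x14022208775ad72), (nat_lit 0)⟩))
 (.n (.n (.l ⟨(nat_lit 0x120000f), (nat_lit 0xcc8a4e414), (nat_lit 0x64810c108), (nat_lit 0)⟩)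
 (.l ⟨(nat_lit 0xc00013), (nat_lit 0x200141707011), (nat_lit 0x17169644030140164945), (nat_lit 0)⟩))
 (.l ⟨(nat_lit 0xc0000d), (nat_lit 0x1306c1d0641e), (nat_lit 0x60114d51c005005685c982), (nat_lit 0)⟩)))))
 (.n (.n (.n (.n (.n (.l ⟨(nat_lit 0xc0000b), (nat_lit 0x1599714d0d), (nat_lit 0x415a06a2f003), (nat_lit 0)⟩)
 (.l ⟨(nat_lit 0xc0000d), (nat_lit 0x106c070641e), (nat_lit 0x412503f418050054f6114a), (nat_lit 0)⟩))
 (.n (.l ⟨(nat_lit 0xc00007), (nat_lit 0x22064170641e), (nat_lit 0x5b0a996090050054957587), (nat_lit 0)⟩)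
 (.l ⟨(nat_lit 0xa00015), (nat_lit 0x6c16068140141e), (nat_lit 0x75959801c05005416097a), (nat_lit 0)⟩)))
 (.n (.n (.l ⟨(nat_lit 0xc0000d), (nat_lit 0x103546366001), (nat_lit 0x7ce22110a), (nat_lit 0)⟩)
 (.l ⟨(nat_lit 0xc0000d), (nat_lit 0x70170702007010), (nat_lit 0x231406d3d1555b98c), (nat_lit 0)⟩))
 (.l ⟨(nat_lit 0xc0000d), (nat_lit 0x70170701d07011), (nat_lit 0xb2e05b0c00161993), (nat_lit 0)⟩)))
 (.n (.n (.n (.l ⟨(nat_lit 0xc0000d), (nat_lit 0x1911f3505c), (nat_lit 0x4f1252c1d401), (nat_lit 0)⟩)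
 (.l ⟨(nat_lit 0xc0000d), (nat_lit 0x641d0642007010), (nat_lit 0x1381c16c7c0140152979), (nat_lit 0)⟩))
 (.l ⟨(nat_lit 0x140000d), (nat_lit 0x1406816), (nat_lit 0x6456870285455b58d), (nat_lit 0)⟩))
 (.n (.n (.l ⟨(nat_lit 0x120000d), (nat_lit 0x104733e501), (nat_lit 0xe51f57c5e), (nat_lit 0)⟩)
 (.l ⟨(nat_lit 0x1000010), (nat_lit 0x106c14068160681e06817), (nat_lit 0), (nat_lit 0)⟩))
 (.l ⟨(nat_lit 0x140000d), (nat_lit 0x210681107010), (nat_lit 0x61c18251495b5940200301401010075796d), (nat_lit 0)⟩))))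
 (.n (.n (.n (.n (.l ⟨(nat_lit 0xc0000d), (nat_lit 0x35381c41a), (nat_lit 0x356d4d055), (nat_lit 0)⟩)
 (.l ⟨(nat_lit 0xc0000d), (nat_lit 0x1806c0707007), (nat_lit 0x596216900d475d99d), (nat_lit 0)⟩))
 (.l ⟨(nat_lit 0xc0000b), (nat_lit 0x1f06c1107011), (nat_lit 0xc618676314759992), (nat_lit 0)⟩))
 (.n (.n (.l ⟨(nat_lit 0xc0000d), (nat_lit 0x1a8710cc48), (nat_lit 0x6c875b0b2), (nat_lit 0)⟩)
 (.l ⟨(nat_lit 0xe0000d), (nat_lit 0x70701e06815), (nat_lit 0x21d395544d5140800c050040401d5260d9e), (nat_lit 0)⟩))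
 (.l ⟨(nat_lit 0xc0000d), (nat_lit 0x1306c1207012), (nat_lit 0x50674825d55a59159), (nat_lit 0)⟩)))
 (.n (.n (.n (.l ⟨(nat_lit 0xc0000d), (nat_lit 0x622250b1b801), (nat_lit 0x4384f0e440), (nat_lit 0)⟩)
 (.l ⟨(nat_lit 0xc0000d), (nat_lit 0x70100702007013), (nat_lit 0x241e8fd01405005655f196), (nat_lit 0)⟩))
 (.l ⟨(nat_lit 0xc0000d), (nat_lit 0x1906c1806c16), (nat_lit 0xe05d9b090050054b5e557), (nat_lit 0)⟩))
 (.n (.n (.l ⟨(nat_lit 0x140000d), (nat_lit 0x1081064cb3), (nat_lit 0x1587b18c03), (nat_lit 0)⟩)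
 (.l ⟨(nat_lit 0xc00013), (nat_lit 0x141d0642107012), (nat_lit 0x1a15d831a4050055560150), (nat_lit 0)⟩))
 (.l ⟨(nat_lit 0xc0000d), (nat_lit 0x160681206415), (nat_lit 0x5e485981414760d65), (nat_lit 0)⟩)))))))
noncomputable def T15 : Tr :=
  .n (.n (.n (.n (.n (.n (.n (.n (.l ⟨(nat_lit 0x200001), (nat_lit 0), (nat_lit 0), (nat_lit 0)⟩)
 (.l ⟨(nat_lit 0xc0000d), (nat_lit 0x150701f07014), (nat_lit 0x282c88a1f405005695e983), (nat_lit 0)⟩))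
 (.n (.l ⟨(nat_lit 0x140000d), (nat_lit 56344), (nat_lit 0xf05964ce2), (nat_lit 0)⟩)
 (.l ⟨(nat_lit 0xa00013), (nat_lit 0x220682206c1e), (nat_lit 0xd3f86360005005436696b), (nat_lit 0)⟩)))
 (.n (.n (.l ⟨(nat_lit 0xc0000d), (nat_lit 0x44fc14803), (nat_lit 0xc18c1d097), (nat_lit 0)⟩)
 (.l ⟨(nat_lit 0xc0000d), (nat_lit 0x210681607013), (nat_lit 0x6f0d4ff0a1545cd59), (nat_lit 0)⟩))
 (.l ⟨(nat_lit 0xc0000d), (nat_lit 0x2006c2201415), (nat_lit 0x4344881064050055663d55), (nat_lit 0)⟩)))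
 (.n (.n (.n (.l ⟨(nat_lit 0xc0000d), (nat_lit 0x68675b882), (nat_lit 0x14107080e2), (nat_lit 0)⟩)
 (.l ⟨(nat_lit 0xc0000d), (nat_lit 0x1f068120701d), (nat_lit 0x4f0cc6a0254a55d76), (nat_lit 0)⟩))
 (.l ⟨(nat_lit 0xc0000b), (nat_lit 0x110641707014), (nat_lit 0x6b64c5b201435458d), (nat_lit 0)⟩))
 (.n (.n (.l ⟨(nat_lit 0xe00005), (nat_lit 0x343015), (nat_lit 0x14554561020030140101007), (nat_lit 0)⟩)
 (.l ⟨(nat_lit 0xa0000d), (nat_lit 0x1706c070681e), (nat_lit 0x3704968174050054f5c17c), (nat_lit 0)⟩))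
 (.l ⟨(nat_lit 0xa0000d), (nat_lit 0x1e0641d07010), (nat_lit 0x4292201c05005456597d), (nat_lit 0)⟩))))
 (.n (.n (.n (.n (.l ⟨(nat_lit 0xc0000b), (nat_lit 0x1612a1d59b), (nat_lit 0x1785f17405), (nat_lit 0)⟩)
 (.l ⟨(nat_lit 0xc0000d), (nat_lit 0x14070701e), (nat_lit 0x122c88125405005415c587), (nat_lit 0)⟩))
 (.n (.l ⟨(nat_lit 0x600007), (nat_lit 0x1f06c1e07010), (nat_lit 0x640135f54962d7b), (nat_lit 0)⟩)
 (.l ⟨(nat_lit 0xc00015), (nat_lit 0x1406c1107011), (nat_lit 0x545905c224050054363951), (nat_lit 0)⟩)))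
 (.n (.n (.l ⟨(nat_lit 0xc0000d), (nat_lit 0x6d39194fc), (nat_lit 0x111761b10e), (nat_lit 0)⟩)
 (.l ⟨(nat_lit 0xc0000d), (nat_lit 0x1d06c1607014), (nat_lit 0x546046405d6a60986), (nat_lit 0)⟩))
 (.l ⟨(nat_lit 0xc0000d), (nat_lit 0x401a04803), (nat_lit 0xa46e4215056199), (nat_lit 0)⟩)))
 (.n (.n (.n (.l ⟨(nat_lit 0xc0000d), (nat_lit 0x2d0808011), (nat_lit 0x23658281ad6e6098300806028030080601007), (nat_lit 0)⟩)
 (.l ⟨(nat_lit 0xc0000d), (nat_lit 0x48140682107007), (nat_lit 0xd3ac1415005005505fd9c), (nat_lit 0)⟩))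
 (.l ⟨(nat_lit 0xc0000d), (nat_lit 18454), (nat_lit 0x1494a43002d6a57d4c), (nat_lit 0)⟩))
 (.n (.n (.l ⟨(nat_lit 0x120000d), (nat_lit 0x14c7234873), (nat_lit 0x1245e60c3a), (nat_lit 0)⟩)
 (.l ⟨(nat_lit 0x1200012), (nat_lit 0x16014160141f070130700b), (nat_lit 0), (nat_lit 0)⟩))
 (.l ⟨(nat_lit 0xe0000d), (nat_lit 0x701701415), (nat_lit 0x1b81a634475318d6280800c050040401d716098b), (nat_lit 0)⟩)))))
 (.n (.n (.n (.n (.n (.l ⟨(nat_lit 0xc00009), (nat_lit 0x1108a16433), (nat_lit 0x1a87e5d45d), (nat_lit 0)⟩)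
 (.l ⟨(nat_lit 0xc0000d), (nat_lit 0x140f06c16), (nat_lit 0x8d0f5b0075158159c0800c050040401d415b179), (nat_lit 0)⟩))
 (.n (.l ⟨(nat_lit 0x1400013), (nat_lit 0x1545214029), (nat_lit 0x1d3a22828), (nat_lit 0)⟩)
 (.l ⟨(nat_lit 0xc00015), (nat_lit 0x701306c2007011), (nat_lit 0x71806117c050054562193), (nat_lit 0)⟩)))
 (.n (.n (.l ⟨(nat_lit 0xc0000d), (nat_lit 0x1004b1606f), (nat_lit 0x184fc49844), (nat_lit 0)⟩)
 (.l ⟨(nat_lit 0x120000d), (nat_lit 0x84130681607007), (nat_lit 0x1f198373e54962988), (nat_lit 0)⟩))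
 (.l ⟨(nat_lit 0xc0000d), (nat_lit 0x6c1d0701107011), (nat_lit 0x540452004050055063966), (nat_lit 0)⟩)))
 (.n (.n (.n (.l ⟨(nat_lit 0xc0000d), (nat_lit 0x5b030fd), (nat_lit 0x190055b87a), (nat_lit 0)⟩)
 (.l ⟨(nat_lit 0xc0000d), (nat_lit 0x706c140681e), (nat_lit 0x189061c90f0054a5998f), (nat_lit 0)⟩))
 (.l ⟨(nat_lit 0x60000b), (nat_lit 0x160700f07012), (nat_lit 0x195d44d09d815495c), (nat_lit 0)⟩))
 (.n (.n (.l ⟨(nat_lit 0xe0000d), (nat_lit 0x1e4500481d), (nat_lit 0x1647a4307e), (nat_lit 0)⟩)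
 (.l ⟨(nat_lit 0x120000f), (nat_lit 0x6c130141d), (nat_lit 0x68724c4c3525665e00800c050040401d4c6799a), (nat_lit 0)⟩))
 (.l ⟨(nat_lit 0xc0000d), (nat_lit 0x541306c1607007), (nat_lit 0x4881f5741101401559665280800c050040401d6555185), (nat_lit 0)⟩))))
 (.n (.n (.n (.n (.l ⟨(nat_lit 0xc0000d), (nat_lit 56503), (nat_lit 0x1590622801), (nat_lit 0)⟩)
 (.l ⟨(nat_lit 0xc0000d), (nat_lit 0x70100681f), (nat_lit 0x441946121c050054359199), (nat_lit 0)⟩))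
 (.l ⟨(nat_lit 0xc0000b), (nat_lit 0x14220701106415), (nat_lit 0x820dd3105d495e96e), (nat_lit 0)⟩))
 (.n (.n (.l ⟨(nat_lit 0xc0000d), (nat_lit 0x38635a931), (nat_lit 0x4ac155b401), (nat_lit 0)⟩)
 (.l ⟨(nat_lit 0xc0000d), (nat_lit 0x150142006c16), (nat_lit 0x1b55c111854759986), (nat_lit 0)⟩))
 (.l ⟨(nat_lit 0xc0000d), (nat_lit 0x481607007), (nat_lit 0x124b81601c01401525825d40800c050040401d4353d99), (nat_lit 0)⟩)))
 (.n (.n (.n (.l ⟨(nat_lit 0xc0000d), (nat_lit 0x315859464), (nat_lit 0x9c6745cf9), (nat_lit 0)⟩)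
 (.l ⟨(nat_lit 0xc0000d), (nat_lit 0x141006c1707011), (nat_lit 0x12b0556d0054965d47), (nat_lit 0)⟩))
 (.l ⟨(nat_lit 0xc0000d), (nat_lit 0x2006c100681e), (nat_lit 0x12d3267451004050054d5b188), (nat_lit 0)⟩))
 (.n (.n (.l ⟨(nat_lit 0x1200013), (nat_lit 0x1485558018), (nat_lit 0xbd3f18c7d), (nat_lit 0)⟩)
 (.l ⟨(nat_lit 0xc00013), (nat_lit 0x6c1306c0f0701e), (nat_lit 0x360c4b05805005475698b), (nat_lit 0)⟩))
 (.l ⟨(nat_lit 0xc0000d), (nat_lit 0x120702107007), (nat_lit 0x88571787d505635e98d), (nat_lit 0)⟩))))))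
 (.n (.n (.n (.n (.n (.n (.l ⟨(nat_lit 0xa00007), (nat_lit 0x650410d805), (nat_lit 0x1204f46409), (nat_lit 0)⟩)
 (.l ⟨(nat_lit 0xc0000d), (nat_lit 0x6c2206816), (nat_lit 0x39658101a8015fd74), (nat_lit 0)⟩))
 (.n (.l ⟨(nat_lit 0x140000d), (nat_lit 0x7d7d4ec03), (nat_lit 0x1312b1b830), (nat_lit 0)⟩)
 (.l ⟨(nat_lit 0xc00015), (nat_lit 0x141f0641707014), (nat_lit 0x614fd021e8050054557966), (nat_lit 0)⟩)))
 (.n (.n (.l ⟨(nat_lit 0xc0000d), (nat_lit 0x115990e477), (nat_lit 0x545548020d435d17f020030140101007), (nat_lit 0)⟩)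
 (.l ⟨(nat_lit 0xc0000d), (nat_lit 0x140702207010), (nat_lit 0x2f47d311f4050054765d67), (nat_lit 0)⟩))
 (.l ⟨(nat_lit 0xc0000d), (nat_lit 0x3c1d0681307010), (nat_lit 0x501b46b0dd415f987), (nat_lit 0)⟩)))
 (.n (.n (.n (.l ⟨(nat_lit 0xc0000d), (nat_lit 0xe59a1c90b), (nat_lit 0xccf8174ff), (nat_lit 0)⟩)
 (.l ⟨(nat_lit 0xc0000d), (nat_lit 0x701406c1806415), (nat_lit 0x6c17055498050054359980), (nat_lit 0)⟩))
 (.l ⟨(nat_lit 0x140000b), (nat_lit 0x701701415), (nat_lit 0x12c8449019005716098b), (nat_lit 0)⟩))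
 (.n (.n (.l ⟨(nat_lit 0xe0000d), (nat_lit 0x1300b05c01), (nat_lit 0x1405c45479), (nat_lit 0)⟩)
 (.l ⟨(nat_lit 0x140000d), (nat_lit 0x160141706c1f), (nat_lit 0x365ac5d12d4c59558), (nat_lit 0)⟩))
 (.l ⟨(nat_lit 0xc0000d), (nat_lit 0x681706c1f07011), (nat_lit 0x1455f0302a0140151d605300800c050040401d5257179), (nat_lit 0)⟩))))
 (.n (.n (.n (.n (.l ⟨(nat_lit 0xc0000b), (nat_lit 0x16c221ec10), (nat_lit 0x64934dc86), (nat_lit 0)⟩)
 (.l ⟨(nat_lit 0xc0000d), (nat_lit 0x180681607014), (nat_lit 0x573499c1994154555), (nat_lit 0)⟩))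
 (.l ⟨(nat_lit 0xc00009), (nat_lit 0x14160701207011), (nat_lit 0x345a13c1914358d56), (nat_lit 0)⟩))
 (.n (.n (.l ⟨(nat_lit 0xc0000d), (nat_lit 0x9c2159435), (nat_lit 0x1902a0bd6c), (nat_lit 0)⟩)
 (.l ⟨(nat_lit 0xc0000d), (nat_lit 0x6c1d06c0f07007), (nat_lit 0x690646f1814764158), (nat_lit 0)⟩))
 (.l ⟨(nat_lit 0xc0000d), (nat_lit 0x640707012), (nat_lit 0x616704d1d805005565998d), (nat_lit 0)⟩)))
 (.n (.n (.n (.l ⟨(nat_lit 0xc0000d), (nat_lit 0x42c7013c2a), (nat_lit 0x411c4ec54), (nat_lit 0)⟩)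
 (.l ⟨(nat_lit 0xc0000d), (nat_lit 0x150641607011), (nat_lit 0x13cf24e4540140155583), (nat_lit 0)⟩))
 (.l ⟨(nat_lit 0xc0000d), (nat_lit 0x1901c03), (nat_lit 0x9c844d83056d975e4020180a00c020180401d4b64547), (nat_lit 0)⟩))
 (.n (.n (.l ⟨(nat_lit 0x120000d), (nat_lit 0xa58d20918), (nat_lit 0x1782a14442), (nat_lit 0)⟩)
 (.l ⟨(nat_lit 0xc00013), (nat_lit 0x16068100641d), (nat_lit 0x1c5f8650a4050055a65550), (nat_lit 0)⟩))
 (.l ⟨(nat_lit 0xc0000d), (nat_lit 0x1e0681e06815), (nat_lit 0x291dc481914c6496c), (nat_lit 0)⟩)))))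
 (.n (.n (.n (.n (.n (.l ⟨(nat_lit 0xc0000b), (nat_lit 0xa44b03801), (nat_lit 0x544862c0b), (nat_lit 0)⟩)
 (.l ⟨(nat_lit 0xc0000d), (nat_lit 0x141e0642207013), (nat_lit 0x6b2204562405005505b174), (nat_lit 0)⟩))
 (.n (.l ⟨(nat_lit 0x600007), (nat_lit 12300), (nat_lit 0x10140b0140158572), (nat_lit 0)⟩)
 (.l ⟨(nat_lit 0xa00015), (nat_lit 0x382107007), (nat_lit 0x517d39218050054d5459a), (nat_lit 0)⟩)))
 (.n (.n (.l ⟨(nat_lit 0xc0000d), (nat_lit 0xc57349454), (nat_lit 0x7c5d03c58), (nat_lit 0)⟩)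
 (.l ⟨(nat_lit 0xc0000d), (nat_lit 0x1d06c170641e), (nat_lit 0x595b40b1a54f5497f), (nat_lit 0)⟩))
 (.l ⟨(nat_lit 0xa0000d), (nat_lit 0x1006c0707011), (nat_lit 0x221717706805005435dd8a), (nat_lit 0)⟩)))
 (.n (.n (.n (.l ⟨(nat_lit 0xc0000d), (nat_lit 0x481e12156401), (nat_lit 0x386a0f091), (nat_lit 0)⟩)
 (.l ⟨(nat_lit 0xa0000d), (nat_lit 0x641d0681407007), (nat_lit 0xb64c6504005005516354c), (nat_lit 0)⟩))
 (.l ⟨(nat_lit 0xc0000d), (nat_lit 32), (nat_lit 0x4b1717c0854b5c589), (nat_lit 0)⟩))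
 (.n (.n (.l ⟨(nat_lit 0x120000d), (nat_lit 0x1c0552d01d), (nat_lit 0x1684b10880), (nat_lit 0)⟩)
 (.l ⟨(nat_lit 0xc0000f), (nat_lit 0x1f0680707013), (nat_lit 0x6f00d6d65005005585a588), (nat_lit 0)⟩))
 (.l ⟨(nat_lit 0x140000d), (nat_lit 0x6c200141107007), (nat_lit 0x211ad2a1b14765d72), (nat_lit 0)⟩))))
 (.n (.n (.n (.n (.l ⟨(nat_lit 0xc0000d), (nat_lit 0x500d56807), (nat_lit 0x4956520c0c), (nat_lit 0)⟩)
 (.l ⟨(nat_lit 0xc0000d), (nat_lit 0x120641307012), (nat_lit 0x1684247c2f5b172), (nat_lit 0)⟩))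
 (.l ⟨(nat_lit 0xc0000b), (nat_lit 0x1d06821), (nat_lit 0xa9361d81c53172), (nat_lit 0)⟩))
 (.n (.n (.l ⟨(nat_lit 0xc0000d), (nat_lit 0x1a86e1e403), (nat_lit 0x80812e061), (nat_lit 0)⟩)
 (.l ⟨(nat_lit 0xc0000d), (nat_lit 0x401d0141707010), (nat_lit 0x7e13d870556a6000800c050040401d455357a), (nat_lit 0)⟩))
 (.l ⟨(nat_lit 0xc0000d), (nat_lit 0x6c1407014), (nat_lit 0x611652d1214164179), (nat_lit 0)⟩)))
 (.n (.n (.n (.l ⟨(nat_lit 0xc0000d), (nat_lit 0x10d2666879), (nat_lit 0x45981fc70), (nat_lit 0)⟩)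
 (.l ⟨(nat_lit 0xa0000d), (nat_lit 0x14150701e07011), (nat_lit 0x33585c1d405005475c977), (nat_lit 0)⟩))
 (.l ⟨(nat_lit 0xa0000d), (nat_lit 0x1b0581d07010), (nat_lit 0x17c7d4980e0140159d78), (nat_lit 0)⟩))
 (.n (.n (.l ⟨(nat_lit 0x140000b), (nat_lit 0xd0609003), (nat_lit 0x6205525d4a5fd7f020030140101007), (nat_lit 0)⟩)
 (.l ⟨(nat_lit 0xc00013), (nat_lit 0x110701207011), (nat_lit 0x521dd3517405005435618d), (nat_lit 0)⟩))
 (.l ⟨(nat_lit 0xa0000d), (nat_lit 0x6c160142106c16), (nat_lit 0x492057e0a405005415b99e), (nat_lit 0)⟩)))))))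
 (.n (.n (.n (.n (.n (.n (.n (.l ⟨(nat_lit 0x600006), (nat_lit 149), (nat_lit 0), (nat_lit 0)⟩)
 (.l ⟨(nat_lit 0xc0000d), (nat_lit 0x1e0701807010), (nat_lit 0x435fc154a94f5a18d), (nat_lit 0)⟩))
 (.n (.l ⟨(nat_lit 0x140000d), (nat_lit 0xc7842c56), (nat_lit 0x14b5b572020030140101007), (nat_lit 0)⟩)
 (.l ⟨(nat_lit 0xa00015), (nat_lit 0x681d06821), (nat_lit 0x222bc5311005005476519d), (nat_lit 0)⟩)))
 (.n (.n (.l ⟨(nat_lit 0xc0000d), (nat_lit 0xe98e1e92f), (nat_lit 0x1412016448), (nat_lit 0)⟩)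
 (.l ⟨(nat_lit 0x60000d), (nat_lit 0x58130701207013), (nat_lit 0x125281644359552), (nat_lit 0)⟩))
 (.l ⟨(nat_lit 0x140000d), (nat_lit 0x220702007013), (nat_lit 0x2f4b0823055d5418f), (nat_lit 0)⟩)))
 (.n (.n (.n (.l ⟨(nat_lit 0xc0000d), (nat_lit 0x6717c4f1d003), (nat_lit 0x6c4442c1c), (nat_lit 0)⟩)
 (.l ⟨(nat_lit 0x120000d), (nat_lit 0x130701207013), (nat_lit 0x5e0a851109436619b), (nat_lit 0)⟩))
 (.l ⟨(nat_lit 0xc0000b), (nat_lit 0x6c210141307010), (nat_lit 0x531d9221d1525a59e), (nat_lit 0)⟩))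
 (.n (.n (.l ⟨(nat_lit 0xe0000b), (nat_lit 0xdd935b854), (nat_lit 0x4487d5ec3a), (nat_lit 0)⟩)
 (.l ⟨(nat_lit 0xc0000d), (nat_lit 0x1d068100141e), (nat_lit 0x3c1587f618050057360560), (nat_lit 0)⟩))
 (.l ⟨(nat_lit 0xc0000d), (nat_lit 0x1306c0f06815), (nat_lit 0x1d634773514a6796b), (nat_lit 0)⟩))))
 (.n (.n (.n (.n (.l ⟨(nat_lit 0xc0000b), (nat_lit 0x2142f4dc32), (nat_lit 0x134691bd34), (nat_lit 0)⟩)
 (.l ⟨(nat_lit 0xc0000d), (nat_lit 0x6c160141707007), (nat_lit 0xc1b42155d4562d9a), (nat_lit 0)⟩))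
 (.l ⟨(nat_lit 0xc00009), (nat_lit 0xc06c16), (nat_lit 0xdd7305c015054f), (nat_lit 0)⟩))
 (.n (.n (.l ⟨(nat_lit 0xc0000d), (nat_lit 0xc41954807), (nat_lit 0x189250bc4f), (nat_lit 0)⟩)
 (.l ⟨(nat_lit 0xc0000d), (nat_lit 0x68160681807010), (nat_lit 0x140355a01c050054955d7b), (nat_lit 0)⟩))
 (.l ⟨(nat_lit 0xc0000d), (nat_lit 0x481c04c03), (nat_lit 0x1c41932075435ad64), (nat_lit 0)⟩)))
 (.n (.n (.n (.l ⟨(nat_lit 0xc0000d), (nat_lit 0x179221e4b5), (nat_lit 0x606202c20), (nat_lit 0)⟩)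
 (.l ⟨(nat_lit 0xc0000d), (nat_lit 0x1e0141107010), (nat_lit 0x42164a12194b6457e), (nat_lit 0)⟩))
 (.l ⟨(nat_lit 0xc0000d), (nat_lit 0x1206c070641e), (nat_lit 0x693d1280dd415b199), (nat_lit 0)⟩))
 (.n (.n (.l ⟨(nat_lit 0x120000d), (nat_lit 0x3fc7060c51), (nat_lit 0xe80d64433), (nat_lit 0)⟩)
 (.l ⟨(nat_lit 0xc00013), (nat_lit 0x1d068170641d), (nat_lit 0x293b03f4c405005605ed76), (nat_lit 0)⟩))
 (.l ⟨(nat_lit 0xc0000d), (nat_lit 0x70100681107012), (nat_lit 0x4576742700405005535f568), (nat_lit 0)⟩)))))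
 (.n (.n (.n (.n (.n (.l ⟨(nat_lit 0xc0000b), (nat_lit 246809), (nat_lit 184346), (nat_lit 0)⟩)
 (.l ⟨(nat_lit 0xc0000d), (nat_lit 0x1b0801807011), (nat_lit 0xd5685d085845e40800c050040401d4561589), (nat_lit 0)⟩))
 (.n (.l ⟨(nat_lit 0x200005), (nat_lit 0x1a0881a03c03), (nat_lit 0x1c9101c05005595d593), (nat_lit 0)⟩)
 (.l ⟨(nat_lit 0xc00015), (nat_lit 0x800505c1c02c07), (nat_lit 0x633e052220050054955d7b), (nat_lit 0)⟩)))
 (.n (.n (.l ⟨(nat_lit 0xc0000d), (nat_lit 0x3846e5d41c), (nat_lit 0x1c5607d78), (nat_lit 0)⟩)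
 (.l ⟨(nat_lit 0xa0000d), (nat_lit 0x681206c0707007), (nat_lit 0xb1216000c05005495d966), (nat_lit 0)⟩))
 (.l ⟨(nat_lit 0xc0000d), (nat_lit 0x801701415), (nat_lit 0x62648744b5636397f), (nat_lit 0)⟩)))
 (.n (.n (.n (.l ⟨(nat_lit 0xc0000d), (nat_lit 0x5e0515d444), (nat_lit 0x5d5120030), (nat_lit 0)⟩)
 (.l ⟨(nat_lit 0xa0000d), (nat_lit 0x70180641707011), (nat_lit 0x1e949598050055a61964), (nat_lit 0)⟩))
 (.l ⟨(nat_lit 0xc0000b), (nat_lit 0x200141307013), (nat_lit 0x6f43d5e0754c5c161), (nat_lit 0)⟩))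
 (.n (.n (.l ⟨(nat_lit 0x1200012), (nat_lit 288036), (nat_lit 0), (nat_lit 0)⟩)
 (.l ⟨(nat_lit 0xc0000f), (nat_lit 0x701e0701207007), (nat_lit 0x5c435651a805005495b589), (nat_lit 0)⟩))
 (.l ⟨(nat_lit 0xc0000d), (nat_lit 0x482207010), (nat_lit 0x510d8596614d5c980), (nat_lit 0)⟩))))
 (.n (.n (.n (.n (.l ⟨(nat_lit 0xc0000d), (nat_lit 246809), (nat_lit 0xfb5b40c), (nat_lit 0)⟩)
 (.l ⟨(nat_lit 0xa0000d), (nat_lit 0x701d0641107010), (nat_lit 0x69124a10d0050054565180), (nat_lit 0)⟩))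
 (.l ⟨(nat_lit 0xc0000b), (nat_lit 0x64220141e), (nat_lit 0x63209070e94767155), (nat_lit 0)⟩))
 (.n (.n (.l ⟨(nat_lit 0xc0000d), (nat_lit 0x18860068f4), (nat_lit 0x12207d5d04405005565994a020030140101007), (nat_lit 0)⟩)
 (.l ⟨(nat_lit 0xc0000d), (nat_lit 0x14160641207007), (nat_lit 0x141704f0a4050054f5f569), (nat_lit 0)⟩))
 (.l ⟨(nat_lit 0xc0000d), (nat_lit 0x6c1706c1806815), (nat_lit 0x281c8b7480050054b59153), (nat_lit 0)⟩)))
 (.n (.n (.n (.l ⟨(nat_lit 0xc0000d), (nat_lit 0x45635b862), (nat_lit 0x1631e436), (nat_lit 0)⟩)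
 (.l ⟨(nat_lit 0xc0000d), (nat_lit 0x100701207013), (nat_lit 0x6216081194050054b6757b), (nat_lit 0)⟩))
 (.l ⟨(nat_lit 0xa0000d), (nat_lit 0x6c210642107007), (nat_lit 0x525a83b1b0050054c59561), (nat_lit 0)⟩))
 (.n (.n (.l ⟨(nat_lit 0x1400009), (nat_lit 0x684527c12), (nat_lit 0x886409027), (nat_lit 0)⟩)
 (.l ⟨(nat_lit 0xa00013), (nat_lit 0x100701107011), (nat_lit 0x6103d8e624050054a61565), (nat_lit 0)⟩))
 (.l ⟨(nat_lit 0xc0000d), (nat_lit 0x13070170701d), (nat_lit 0x1bd8b0745900c05005416056b), (nat_lit 0)⟩))))))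
 (.n (.n (.n (.n (.n (.n (.l ⟨(nat_lit 0xc00007), (nat_lit 0x10c8347c7d), (nat_lit 0x51a11407), (nat_lit 0)⟩)
 (.l ⟨(nat_lit 0xa0000d), (nat_lit 0x1b03c1a0580b), (nat_lit 0x93f02f070050054f60978), (nat_lit 0)⟩))
 (.n (.l ⟨(nat_lit 0x140000d), (nat_lit 0x2183021c15), (nat_lit 0x708a04915), (nat_lit 0)⟩)
 (.l ⟨(nat_lit 0xc00015), (nat_lit 0x15070200641d), (nat_lit 0x215d0f4160050054364180), (nat_lit 0)⟩)))
 (.n (.n (.l ⟨(nat_lit 0xc0000d), (nat_lit 0xd17460454), (nat_lit 0x19c756203c), (nat_lit 0)⟩)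
 (.l ⟨(nat_lit 0xa0000d), (nat_lit 0x1e0640707011), (nat_lit 0x3c62d5618c05005436219d), (nat_lit 0)⟩))
 (.l ⟨(nat_lit 0xc0000d), (nat_lit 0x6c200640f07007), (nat_lit 0x580cd075dc050054b5f561), (nat_lit 0)⟩)))
 (.n (.n (.n (.l ⟨(nat_lit 0xc0000d), (nat_lit 0x18c861b4fa), (nat_lit 0x180632281f), (nat_lit 0)⟩)
 (.l ⟨(nat_lit 0x120000d), (nat_lit 0x140702007012), (nat_lit 0x694e4750ed4f61d95), (nat_lit 0)⟩))
 (.l ⟨(nat_lit 0xc0000b), (nat_lit 0x6c1e06815), (nat_lit 0x6c1ec6c1654c5ad9a), (nat_lit 0)⟩))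
 (.n (.n (.l ⟨(nat_lit 0xe0000d), (nat_lit 0x158f21e447), (nat_lit 0x221510a), (nat_lit 0)⟩)
 (.l ⟨(nat_lit 0xc0000f), (nat_lit 0x2006c180681f), (nat_lit 0xf0d552090050055663d70), (nat_lit 0)⟩))
 (.l ⟨(nat_lit 0xc0000d), (nat_lit 0x701e0681707011), (nat_lit 0x6161c72344050056555196), (nat_lit 0)⟩))))
 (.n (.n (.n (.n (.l ⟨(nat_lit 0xc0000b), (nat_lit 0xbc481d10b), (nat_lit 0x135652f45e), (nat_lit 0)⟩)
 (.l ⟨(nat_lit 0xc0000d), (nat_lit 0x1506c1d07011), (nat_lit 0x6430990041496417d), (nat_lit 0)⟩))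
 (.l ⟨(nat_lit 0xc0000b), (nat_lit 0x1d070160141e), (nat_lit 0x2182f16d546156c), (nat_lit 0)⟩))
 (.n (.n (.l ⟨(nat_lit 0xc0000d), (nat_lit 0x150391bcf2), (nat_lit 0x1c02f1d834), (nat_lit 0)⟩)
 (.l ⟨(nat_lit 0xc0000d), (nat_lit 0x681e0641307010), (nat_lit 0x486a358650140165189), (nat_lit 0)⟩))
 (.l ⟨(nat_lit 0xc0000d), (nat_lit 0x541107007), (nat_lit 0x114209111405005456659e), (nat_lit 0)⟩)))
 (.n (.n (.n (.l ⟨(nat_lit 0xc0000d), (nat_lit 0x5445c01414), (nat_lit 0x1258210183), (nat_lit 0)⟩)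
 (.l ⟨(nat_lit 0xc0000d), (nat_lit 0x22014150141e), (nat_lit 0x546b1bd660140158569), (nat_lit 0)⟩))
 (.l ⟨(nat_lit 0xc0000d), (nat_lit 0x160681407007), (nat_lit 0x170bc0cc7957999), (nat_lit 0)⟩))
 (.n (.n (.l ⟨(nat_lit 0x120000d), (nat_lit 0x620876081b), (nat_lit 0x111995705a), (nat_lit 0)⟩)
 (.l ⟨(nat_lit 0xc00013), (nat_lit 0x70220701107007), (nat_lit 0x51420102d005005415ad66), (nat_lit 0)⟩))
 (.l ⟨(nat_lit 0xc0000d), (nat_lit 0x6c2106c16), (nat_lit 0x64578331d405005536456e), (nat_lit 0)⟩)))))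
 (.n (.n (.n (.n (.n (.l ⟨(nat_lit 0xc0000b), (nat_lit 0x1ad8c02c51), (nat_lit 0x1093d1f197), (nat_lit 0)⟩)
 (.l ⟨(nat_lit 0xc0000d), (nat_lit 0x106c070681e), (nat_lit 0x6a358fa075455ed81), (nat_lit 0)⟩))
 (.n (.l ⟨(nat_lit 0xc00007), (nat_lit 0x781a0600f07007), (nat_lit 0x1245906f1354561d55), (nat_lit 0)⟩)
 (.l ⟨(nat_lit 0xc00015), (nat_lit 0x641e0701307007), (nat_lit 0x1341b84b12c050054a5f166), (nat_lit 0)⟩)))
 (.n (.n (.l ⟨(nat_lit 0xc0000d), (nat_lit 0x608200c43), (nat_lit 0x1b9005e865), (nat_lit 0)⟩)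
 (.l ⟨(nat_lit 0xc0000d), (nat_lit 0x170701706c1e), (nat_lit 0x6c4344020c050054163558), (nat_lit 0)⟩))
 (.l ⟨(nat_lit 0xc0000d), (nat_lit 0x6c1806c1006c20), (nat_lit 0x1645c8934c05005435ad93), (nat_lit 0)⟩)))
 (.n (.n (.n (.l ⟨(nat_lit 0xc0000d), (nat_lit 0xa0564c8c1), (nat_lit 0x306d08557), (nat_lit 0)⟩)
 (.l ⟨(nat_lit 0xc0000d), (nat_lit 0x1a0441807007), (nat_lit 0x504dc692c4050054767588), (nat_lit 0)⟩))
 (.l ⟨(nat_lit 0xc0000d), (nat_lit 33809), (nat_lit 0x1bc8748879005586498b), (nat_lit 0)⟩))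
 (.n (.n (.l ⟨(nat_lit 0x120000d), (nat_lit 0x1a4af3ac57), (nat_lit 0x1891c1741e), (nat_lit 0)⟩)
 (.l ⟨(nat_lit 0xc0000f), (nat_lit 0x881507010), (nat_lit 0x1916820090050054962d92), (nat_lit 0)⟩))
 (.l ⟨(nat_lit 0xc0000d), (nat_lit 0x6c0706c1e), (nat_lit 0x3a64c15174050054d61952), (nat_lit 0)⟩))))
 (.n (.n (.n (.n (.l ⟨(nat_lit 0xc0000d), (nat_lit 0x1b0831fcbf), (nat_lit 0x140fd0f03c), (nat_lit 0)⟩)
 (.l ⟨(nat_lit 0xc0000d), (nat_lit 0x1e0682006c16), (nat_lit 0x12448685454766987), (nat_lit 0)⟩))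
 (.l ⟨(nat_lit 0x140000b), (nat_lit 0x1d0681106416), (nat_lit 0x6205525d435f57f), (nat_lit 0)⟩))
 (.n (.n (.l ⟨(nat_lit 0xc0000d), (nat_lit 0x896506848), (nat_lit 0x3115cc117001), (nat_lit 0)⟩)
 (.l ⟨(nat_lit 0xc0000d), (nat_lit 0x6c1f0641707011), (nat_lit 0x1b19d1701d5755196), (nat_lit 0)⟩))
 (.l ⟨(nat_lit 0xc0000d), (nat_lit 0x200702207007), (nat_lit 0xb4202004405005415dd81), (nat_lit 0)⟩)))
 (.n (.n (.n (.l ⟨(nat_lit 0xc0000d), (nat_lit 0x1387e4f819), (nat_lit 0x150321e840), (nat_lit 0)⟩)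
 (.l ⟨(nat_lit 0x120000d), (nat_lit 0x130681307010), (nat_lit 0x425918e081475a993), (nat_lit 0)⟩))
 (.l ⟨(nat_lit 0xc0000d), (nat_lit 0x120642207010), (nat_lit 0xf170d20794f57960), (nat_lit 0)⟩))
 (.n (.n (.l ⟨(nat_lit 0x140000d), (nat_lit 0xcd617075), (nat_lit 0x190611d069), (nat_lit 0)⟩)
 (.l ⟨(nat_lit 0x1200013), (nat_lit 0x60110681107007), (nat_lit 0x5360478389545d40800c050040401d416655e), (nat_lit 0)⟩))
 (.l ⟨(nat_lit 0xc0000d), (nat_lit 0x6c160641e07007), (nat_lit 0x451d59608d4165d6f), (nat_lit 0)⟩)))))))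
noncomputable def T16 : Tr :=
  .n (.n (.n (.n (.n (.n (.n (.n (.l ⟨(nat_lit 0x200003), (nat_lit 0x18a04976), (nat_lit 0x30f15b807), (nat_lit 0)⟩)
 (.l ⟨(nat_lit 0xc0000d), (nat_lit 0x701106815), (nat_lit 0x371742a03005005545ed75), (nat_lit 0)⟩))
 (.n (.l ⟨(nat_lit 0x140000d), (nat_lit 0x690c17c01), (nat_lit 0x1f41f57c49), (nat_lit 0)⟩)
 (.l ⟨(nat_lit 0xa00015), (nat_lit 0x41b04c1a03c03), (nat_lit 0x1828d7a01c050055367576), (nat_lit 0)⟩)))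
 (.n (.n (.l ⟨(nat_lit 0xc0000d), (nat_lit 0xccf262012), (nat_lit 0x150fc1d01e), (nat_lit 0)⟩)
 (.l ⟨(nat_lit 0xc0000d), (nat_lit 0x210702007010), (nat_lit 0x4f5b557048050054154974), (nat_lit 0)⟩))
 (.l ⟨(nat_lit 0xc0000d), (nat_lit 0x2006c120641d), (nat_lit 0x55040221d005005455d14f), (nat_lit 0)⟩)))
 (.n (.n (.n (.l ⟨(nat_lit 0xc0000d), (nat_lit 0x174b8210bc), (nat_lit 0x1885f4d464), (nat_lit 0)⟩)
 (.l ⟨(nat_lit 0xc0000d), (nat_lit 0x100680f07007), (nat_lit 0x4f50a19c42014015a17c), (nat_lit 0)⟩))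
 (.l ⟨(nat_lit 0xc0000b), (nat_lit 0x781107007), (nat_lit 0x4316c702bd475499b), (nat_lit 0)⟩))
 (.n (.n (.l ⟨(nat_lit 0xe0000b), (nat_lit 0x1446010019), (nat_lit 0x1845830c1752584020030140101007), (nat_lit 0)⟩)
 (.l ⟨(nat_lit 0xc0000d), (nat_lit 0x1c0601b07c1b04c03), (nat_lit 0x421b86e47805005685fd68), (nat_lit 0)⟩))
 (.l ⟨(nat_lit 0xe0000d), (nat_lit 0x4c1b03c1a04803), (nat_lit 0x18f58c7010d4364973), (nat_lit 0)⟩))))
 (.n (.n (.n (.n (.l ⟨(nat_lit 0xc0000b), (nat_lit 0x144606291a), (nat_lit 0x1991920810), (nat_lit 0)⟩)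
 (.l ⟨(nat_lit 0xc0000d), (nat_lit 0x701206c1e), (nat_lit 0x613588266d4c62168), (nat_lit 0)⟩))
 (.l ⟨(nat_lit 0xc00009), (nat_lit 0x141507011), (nat_lit 0x6f408595cd4f6095a), (nat_lit 0)⟩))
 (.n (.n (.l ⟨(nat_lit 0xc0000d), (nat_lit 0xec6116441), (nat_lit 0x138585d85c), (nat_lit 0)⟩)
 (.l ⟨(nat_lit 0xc0000d), (nat_lit 0x641e06c1007007), (nat_lit 0x1f5fc54034050054b5d566), (nat_lit 0)⟩))
 (.l ⟨(nat_lit 0xa0000d), (nat_lit 0x30210680f07007), (nat_lit 0x281353b03c05005415b58e), (nat_lit 0)⟩)))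
 (.n (.n (.n (.l ⟨(nat_lit 0xc0000d), (nat_lit 0x404f65489), (nat_lit 0x480f1d528), (nat_lit 0)⟩)
 (.l ⟨(nat_lit 0xc0000d), (nat_lit 0x1806c1307013), (nat_lit 0x4e4a5871314964975), (nat_lit 0)⟩))
 (.l ⟨(nat_lit 0xa0000d), (nat_lit 0x110141507012), (nat_lit 0x4724c150140152d96), (nat_lit 0)⟩))
 (.n (.n (.l ⟨(nat_lit 0x120000d), (nat_lit 0x1d45618845), (nat_lit 0x7c684c83a), (nat_lit 0)⟩)
 (.l ⟨(nat_lit 0xc00013), (nat_lit 0x6c160681807007), (nat_lit 0x4b02d2c170010140154554), (nat_lit 0)⟩))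
 (.l ⟨(nat_lit 0x140000d), (nat_lit 0x641207011), (nat_lit 0x410b1b8685a16d), (nat_lit 0)⟩)))))
 (.n (.n (.n (.n (.n (.l ⟨(nat_lit 0xc0000b), (nat_lit 0xa04d4ec0f), (nat_lit 0x346758d0b), (nat_lit 0)⟩)
 (.l ⟨(nat_lit 0xc0000d), (nat_lit 0xf06c2201416), (nat_lit 0x1117e1219a014015159e), (nat_lit 0)⟩))
 (.n (.l ⟨(nat_lit 0x400004), (nat_lit 0x503c0507c1b0441a04419), (nat_lit 0), (nat_lit 0)⟩)
 (.l ⟨(nat_lit 0xc00015), (nat_lit 0x140641f07010), (nat_lit 0x3f5692903c05005435f956), (nat_lit 0)⟩)))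
 (.n (.n (.l ⟨(nat_lit 0xc0000d), (nat_lit 0x5c494c872), (nat_lit 0x71a13b4894b5719400806028030080601007), (nat_lit 0)⟩)
 (.l ⟨(nat_lit 0xc0000d), (nat_lit 0x706c170641e), (nat_lit 0x6514d3d168050054956147), (nat_lit 0)⟩))
 (.l ⟨(nat_lit 0xc0000d), (nat_lit 0x1f0682107007), (nat_lit 0xc4203a5f405005476754c), (nat_lit 0)⟩)))
 (.n (.n (.n (.l ⟨(nat_lit 0xc0000d), (nat_lit 0x444347414), (nat_lit 0x108a121445), (nat_lit 0)⟩)
 (.l ⟨(nat_lit 0xc0000d), (nat_lit 0x48160681107007), (nat_lit 0x323ed7301c050055158187), (nat_lit 0)⟩))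
 (.l ⟨(nat_lit 0xe0000b), (nat_lit 0x6c1806c1e), (nat_lit 0x57448214dd475d58b), (nat_lit 0)⟩))
 (.n (.n (.l ⟨(nat_lit 0x100000d), (nat_lit 0x194144c40e), (nat_lit 0x347d1c0b4), (nat_lit 0)⟩)
 (.l ⟨(nat_lit 0xc0000f), (nat_lit 0x2c1707010), (nat_lit 0x1586a4f8b20140155985), (nat_lit 0)⟩))
 (.l ⟨(nat_lit 0xc0000d), (nat_lit 0x641f07010), (nat_lit 0x6f0601a07c05005475e97f), (nat_lit 0)⟩))))
 (.n (.n (.n (.n (.l ⟨(nat_lit 0xc0000d), (nat_lit 0x1a48749884), (nat_lit 0x179095dc45), (nat_lit 0)⟩)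
 (.l ⟨(nat_lit 0xc0000d), (nat_lit 0x1c0881a03c03), (nat_lit 0x59498fc0dc050054f57d77), (nat_lit 0)⟩))
 (.l ⟨(nat_lit 0x120000b), (nat_lit 0x1d0641707012), (nat_lit 0x2a5b08100d455798d), (nat_lit 0)⟩))
 (.n (.n (.l ⟨(nat_lit 0xc0000d), (nat_lit 0x85905e07e), (nat_lit 0x546a4482a), (nat_lit 0)⟩)
 (.l ⟨(nat_lit 0xc0000d), (nat_lit 0x14014150641d), (nat_lit 0xb5005d17c050054364182), (nat_lit 0)⟩))
 (.l ⟨(nat_lit 0x140000d), (nat_lit 0x581706415), (nat_lit 0x12b0e55d0ed5f59592), (nat_lit 0)⟩)))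
 (.n (.n (.n (.l ⟨(nat_lit 0xc0000d), (nat_lit 0x1b9552284b), (nat_lit 0x24d3a1d43a), (nat_lit 0)⟩)
 (.l ⟨(nat_lit 0xc0000d), (nat_lit 0x2206c0707010), (nat_lit 0x1a6441a1c005005635e59c), (nat_lit 0)⟩))
 (.l ⟨(nat_lit 0xc0000d), (nat_lit 0x120700707014), (nat_lit 0x1756609c8155577), (nat_lit 0)⟩))
 (.n (.n (.l ⟨(nat_lit 0x1400009), (nat_lit 0x10760007), (nat_lit 0x9c706783c), (nat_lit 0)⟩)
 (.l ⟨(nat_lit 0xc00013), (nat_lit 0x1f07010), (nat_lit 0x11cf7190440140164d99), (nat_lit 0)⟩))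
 (.l ⟨(nat_lit 0xc0000d), (nat_lit 0x1d0681607014), (nat_lit 0x161846f09d4763d57), (nat_lit 0)⟩))))))
 (.n (.n (.n (.n (.n (.n (.l ⟨(nat_lit 0xc00007), (nat_lit 0x78620845f), (nat_lit 0x8d8609001), (nat_lit 0)⟩)
 (.l ⟨(nat_lit 0xc0000d), (nat_lit 0x1406c140681e), (nat_lit 0x1c2016c12d4a5c18b), (nat_lit 0)⟩))
 (.n (.l ⟨(nat_lit 0x140000d), (nat_lit 0x1118a0c07c), (nat_lit 0x50d515c05), (nat_lit 0)⟩)
 (.l ⟨(nat_lit 0xa00015), (nat_lit 0x6c1706c2007012), (nat_lit 0x174819301c05005415ad99), (nat_lit 0)⟩)))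
 (.n (.n (.l ⟨(nat_lit 0xc0000d), (nat_lit 0x15d3117505), (nat_lit 0x2c6c0dc11), (nat_lit 0)⟩)
 (.l ⟨(nat_lit 0xc0000d), (nat_lit 0x70681807011), (nat_lit 0x521bc3a414050055260192), (nat_lit 0)⟩))
 (.l ⟨(nat_lit 0xc0000d), (nat_lit 0x106c1007011), (nat_lit 0x6b0a8541f405005475cd59), (nat_lit 0)⟩)))
 (.n (.n (.n (.l ⟨(nat_lit 0xc0000d), (nat_lit 0x1884d65c55), (nat_lit 0x138f916467), (nat_lit 0)⟩)
 (.l ⟨(nat_lit 0xc0000d), (nat_lit 0x1106c1701416), (nat_lit 0x4e1c5911e405005495f565), (nat_lit 0)⟩))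
 (.l ⟨(nat_lit 0xc0000b), (nat_lit 0x1e0702007012), (nat_lit 0x95b85a06d415e94f), (nat_lit 0)⟩))
 (.n (.n (.l ⟨(nat_lit 0xe0000d), (nat_lit 0x6cf217c19), (nat_lit 0x1791e20862), (nat_lit 0)⟩)
 (.l ⟨(nat_lit 0xa0000f), (nat_lit 0x160681e01415), (nat_lit 0x413034050054952d74), (nat_lit 0)⟩))
 (.l ⟨(nat_lit 0xc0000d), (nat_lit 0x441307010), (nat_lit 0x1f041300554b5659b), (nat_lit 0)⟩))))
 (.n (.n (.n (.n (.l ⟨(nat_lit 0xc0000b), (nat_lit 0x1a98c1dc33), (nat_lit 0xd52556412), (nat_lit 0)⟩)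
 (.l ⟨(nat_lit 0xc0000d), (nat_lit 0x150141507007), (nat_lit 0x6b05140068050054c56180), (nat_lit 0)⟩))
 (.l ⟨(nat_lit 0xc0000b), (nat_lit 0x220681707014), (nat_lit 0x56640140d95967959), (nat_lit 0)⟩))
 (.n (.n (.l ⟨(nat_lit 0xc0000d), (nat_lit 0x813808c85), (nat_lit 0x77160b50a95261d69020030140101007), (nat_lit 0)⟩)
 (.l ⟨(nat_lit 0xc0000d), (nat_lit 0x170141f07017), (nat_lit 0x6e4243100405005455cd60), (nat_lit 0)⟩))
 (.l ⟨(nat_lit 0xe0000d), (nat_lit 0x6c1207007), (nat_lit 0x3f1753e4214b5e963), (nat_lit 0)⟩)))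
 (.n (.n (.n (.l ⟨(nat_lit 0xc0000d), (nat_lit 0x8315448), (nat_lit 0x1980f1a920), (nat_lit 0)⟩)
 (.l ⟨(nat_lit 0xc0000d), (nat_lit 0x681e06c1701415), (nat_lit 0x4f199811494956183), (nat_lit 0)⟩))
 (.l ⟨(nat_lit 0x80000d), (nat_lit 0x1307c03), (nat_lit 0x432f4751f805005475618b), (nat_lit 0)⟩))
 (.n (.n (.l ⟨(nat_lit 0x120000d), (nat_lit 0xd8d02c03), (nat_lit 0x1d30463571476655e00806028030080601007), (nat_lit 0)⟩)
 (.l ⟨(nat_lit 0xc00013), (nat_lit 0x180141107014), (nat_lit 0x6e62c412dc050054b59d51), (nat_lit 0)⟩))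
 (.l ⟨(nat_lit 0xc0000d), (nat_lit 0x641f0681407010), (nat_lit 0x1406d01081516158e), (nat_lit 0)⟩)))))
 (.n (.n (.n (.n (.n (.l ⟨(nat_lit 0xc0000b), (nat_lit 0x158495b40f), (nat_lit 0x19d6c22824), (nat_lit 0)⟩)
 (.l ⟨(nat_lit 0xa0000d), (nat_lit 0x580f0682207007), (nat_lit 0x3765d7b15005005495859e), (nat_lit 0)⟩))
 (.n (.l ⟨(nat_lit 0xc00007), (nat_lit 0x1106c2007011), (nat_lit 0xc1154d812014016197b), (nat_lit 0)⟩)
 (.l ⟨(nat_lit 0xc00015), (nat_lit 0x150682001415), (nat_lit 0x5a4d41f06805005475d971), (nat_lit 0)⟩)))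
 (.n (.n (.l ⟨(nat_lit 0xc0000d), (nat_lit 0x385f2081b), (nat_lit 0x24750f064), (nat_lit 0)⟩)
 (.l ⟨(nat_lit 0xc0000d), (nat_lit 0x702006c0f06815), (nat_lit 0x2a204431d0050055361181), (nat_lit 0)⟩))
 (.l ⟨(nat_lit 0xc0000d), (nat_lit 0x68160141307010), (nat_lit 0xb4783f1f0050054767561), (nat_lit 0)⟩)))
 (.n (.n (.n (.l ⟨(nat_lit 0xc0000d), (nat_lit 0x408855e41a), (nat_lit 0x78521a413), (nat_lit 0)⟩)
 (.l ⟨(nat_lit 0xc0000d), (nat_lit 0x5c1c0741a04403), (nat_lit 0x1853e1046e60197), (nat_lit 0)⟩))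
 (.l ⟨(nat_lit 0xc0000d), (nat_lit 0x160681407010), (nat_lit 0x6d0259b1f005005525ad4b), (nat_lit 0)⟩))
 (.n (.n (.l ⟨(nat_lit 0x120000d), (nat_lit 0x10c5b18029), (nat_lit 0x14615616c), (nat_lit 0)⟩)
 (.l ⟨(nat_lit 0xa0000f), (nat_lit 0x481607007), (nat_lit 0x1463d8816c05005555b98c), (nat_lit 0)⟩))
 (.l ⟨(nat_lit 0xa0000d), (nat_lit 0x1f06c1007011), (nat_lit 0x1498617c87014015917e), (nat_lit 0)⟩))))
 (.n (.n (.n (.n (.l ⟨(nat_lit 0xc0000d), (nat_lit 0x1544c22130), (nat_lit 0x1405954850), (nat_lit 0)⟩)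
 (.l ⟨(nat_lit 0xc0000d), (nat_lit 0x68200640707010), (nat_lit 0x1957c7c2ec05005455e985), (nat_lit 0)⟩))
 (.l ⟨(nat_lit 0xe0000b), (nat_lit 0x1f06c070641d), (nat_lit 0x61160c305d506217f), (nat_lit 0)⟩))
 (.n (.n (.l ⟨(nat_lit 0xc0000d), (nat_lit 0x703055872), (nat_lit 0x552c1ed3d), (nat_lit 0)⟩)
 (.l ⟨(nat_lit 0xc0000d), (nat_lit 0x140f06c1006415), (nat_lit 0x687c210ff014015e56e), (nat_lit 0)⟩))
 (.l ⟨(nat_lit 0xe0000d), (nat_lit 0x700f01415), (nat_lit 0x6d36084bb55567), (nat_lit 0)⟩)))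
 (.n (.n (.n (.l ⟨(nat_lit 0xc0000d), (nat_lit 0x18873184f1), (nat_lit 0x901f1d815), (nat_lit 0)⟩)
 (.l ⟨(nat_lit 0x80000d), (nat_lit 0x160142107011), (nat_lit 0x6a554410d8050054d61964), (nat_lit 0)⟩))
 (.l ⟨(nat_lit 0xa0000d), (nat_lit 0x1306c0f06820), (nat_lit 0x32fc4f068050054957990), (nat_lit 0)⟩))
 (.n (.n (.l ⟨(nat_lit 0x140000d), (nat_lit 0x5d5f4e407), (nat_lit 0x134f22286b5a199020030140101007), (nat_lit 0)⟩)
 (.l ⟨(nat_lit 0xc00013), (nat_lit 0x700f0701e07007), (nat_lit 0x3945497188050055154d91), (nat_lit 0)⟩))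
 (.l ⟨(nat_lit 0x120000d), (nat_lit 0x88110140707011), (nat_lit 0x123179565358e5800800c050040401d5159d59), (nat_lit 0)⟩)))))))
 (.n (.n (.n (.n (.n (.n (.n (.l ⟨(nat_lit 0xa0000a), (nat_lit 149), (nat_lit 0), (nat_lit 0)⟩)
 (.l ⟨(nat_lit 0xc0000d), (nat_lit 0x640706c16), (nat_lit 0x421b4183fd505d17e), (nat_lit 0)⟩))
 (.n (.l ⟨(nat_lit 0x140000d), (nat_lit 0xc801f0fb), (nat_lit 0xd59b188f3), (nat_lit 0)⟩)
 (.l ⟨(nat_lit 0xc00015), (nat_lit 0x542006415), (nat_lit 0x51f42a64805005416699c), (nat_lit 0)⟩)))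
 (.n (.n (.l ⟨(nat_lit 0xc0000d), (nat_lit 0x2855893), (nat_lit 0xfd6516064), (nat_lit 0)⟩)
 (.l ⟨(nat_lit 0xc0000d), (nat_lit 0x140642207010), (nat_lit 0x6c1e1181a8050054a5a182), (nat_lit 0)⟩))
 (.l ⟨(nat_lit 0xc0000d), (nat_lit 0x2006c1307011), (nat_lit 0xc3d04f161455f952), (nat_lit 0)⟩)))
 (.n (.n (.n (.l ⟨(nat_lit 0xc0000d), (nat_lit 0x4d5f0f408401), (nat_lit 0x19cb24a486), (nat_lit 0)⟩)
 (.l ⟨(nat_lit 0x60000d), (nat_lit 0x701706c1207007), (nat_lit 0x44431731614754186), (nat_lit 0)⟩))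
 (.l ⟨(nat_lit 0xc0000b), (nat_lit 0x1e0141f07010), (nat_lit 0xf06d49c095d94b), (nat_lit 0)⟩))
 (.n (.n (.l ⟨(nat_lit 0xe0000d), (nat_lit 0x845e5f841), (nat_lit 0x70294f813), (nat_lit 0)⟩)
 (.l ⟨(nat_lit 0xc0000d), (nat_lit 0x1806c0706420), (nat_lit 0x212d130150050054964d5c), (nat_lit 0)⟩))
 (.l ⟨(nat_lit 0xc0000d), (nat_lit 0x16068210141d), (nat_lit 0x372dc050054150d85), (nat_lit 0)⟩))))
 (.n (.n (.n (.n (.l ⟨(nat_lit 0xc0000b), (nat_lit 0x885c5dc1a), (nat_lit 0x1353700cec), (nat_lit 0)⟩)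
 (.l ⟨(nat_lit 0xc0000d), (nat_lit 0x1006c1f07011), (nat_lit 0x565542908d4752d5e), (nat_lit 0)⟩))
 (.l ⟨(nat_lit 0xc00009), (nat_lit 0x701706c1207007), (nat_lit 0x362fd8c16c05005635fd69), (nat_lit 0)⟩))
 (.n (.n (.l ⟨(nat_lit 0xc0000d), (nat_lit 0x4131d12d), (nat_lit 0x158815e807), (nat_lit 0)⟩)
 (.l ⟨(nat_lit 0xc0000d), (nat_lit 0x180701f07011), (nat_lit 0x5f2859100c050055764d6c), (nat_lit 0)⟩))
 (.l ⟨(nat_lit 0xc0000d), (nat_lit 0x440707007), (nat_lit 0x4921cf9594050057459957), (nat_lit 0)⟩)))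
 (.n (.n (.n (.l ⟨(nat_lit 0xc0000d), (nat_lit 0x421b52120001), (nat_lit 0x706a5d4a2), (nat_lit 0)⟩)
 (.l ⟨(nat_lit 0xc0000d), (nat_lit 0x141d0681007014), (nat_lit 0x3a2d0840259c6480800c050040401d416317a), (nat_lit 0)⟩))
 (.l ⟨(nat_lit 0xc0000d), (nat_lit 0x1306c0f06c20), (nat_lit 0x581e8d5141526797e), (nat_lit 0)⟩))
 (.n (.n (.l ⟨(nat_lit 0x120000d), (nat_lit 0xf72ec3a), (nat_lit 0x5c7e3e0e1), (nat_lit 0)⟩)
 (.l ⟨(nat_lit 0xc00013), (nat_lit 0x640706c0f07007), (nat_lit 0x2a1ec5b56405005515b545), (nat_lit 0)⟩))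
 (.l ⟨(nat_lit 0xa0000d), (nat_lit 0x1d0701706c1d), (nat_lit 0x205913201c050057758170), (nat_lit 0)⟩)))))
 (.n (.n (.n (.n (.n (.l ⟨(nat_lit 0xc0000b), (nat_lit 0xdc5442c0b), (nat_lit 0x1c4f4375f801), (nat_lit 0)⟩)
 (.l ⟨(nat_lit 0xc0000d), (nat_lit 0x68160641407007), (nat_lit 0x13d1a46f1115266d82), (nat_lit 0)⟩))
 (.n (.l ⟨(nat_lit 0xe00007), (nat_lit 0x170701d07012), (nat_lit 0x614f08418d5154585), (nat_lit 0)⟩)
 (.l ⟨(nat_lit 0xa00015), (nat_lit 0x2206c1606815), (nat_lit 0x3558622f005005435f964), (nat_lit 0)⟩)))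
 (.n (.n (.l ⟨(nat_lit 0xc0000d), (nat_lit 0x34eb05054), (nat_lit 0x147059558), (nat_lit 0)⟩)
 (.l ⟨(nat_lit 0xc0000d), (nat_lit 0xf0680707013), (nat_lit 0x1761878461665280800c050040401d4d61190), (nat_lit 0)⟩))
 (.l ⟨(nat_lit 0xc0000d), (nat_lit 0x130681f), (nat_lit 0x18502c7f0bd415d17a), (nat_lit 0)⟩)))
 (.n (.n (.n (.l ⟨(nat_lit 0xc0000d), (nat_lit 0x1b99919125), (nat_lit 0x1340743457), (nat_lit 0)⟩)
 (.l ⟨(nat_lit 0x120000d), (nat_lit 0x190541f07007), (nat_lit 0x6c751b81b5ad8d), (nat_lit 0)⟩))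
 (.l ⟨(nat_lit 0x60000d), (nat_lit 0x441b0580b), (nat_lit 0x1cec014016456c), (nat_lit 0)⟩))
 (.n (.n (.l ⟨(nat_lit 0x120000d), (nat_lit 0x241657416), (nat_lit 0x1744f6680d), (nat_lit 0)⟩)
 (.l ⟨(nat_lit 0xc0000f), (nat_lit 0x14220141007011), (nat_lit 0xa1023c45f004050054354588), (nat_lit 0)⟩))
 (.l ⟨(nat_lit 0xc0000d), (nat_lit 0x6c170641d), (nat_lit 0x331f8184154a60975), (nat_lit 0)⟩))))
 (.n (.n (.n (.n (.l ⟨(nat_lit 0xc0000d), (nat_lit 0x671fcb8), (nat_lit 0x134164c415), (nat_lit 0)⟩)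
 (.l ⟨(nat_lit 0xc0000d), (nat_lit 0x441f0641207007), (nat_lit 0x596103328d496759d), (nat_lit 0)⟩))
 (.l ⟨(nat_lit 0xc0000b), (nat_lit 0x1806c16), (nat_lit 0x701e0f200d585e97a), (nat_lit 0)⟩))
 (.n (.n (.l ⟨(nat_lit 0xc0000d), (nat_lit 0x1892d0bc0f), (nat_lit 0x1a4111c52a), (nat_lit 0)⟩)
 (.l ⟨(nat_lit 0xc0000d), (nat_lit 0x681006c1607007), (nat_lit 0x78521a4135a58d), (nat_lit 0)⟩))
 (.l ⟨(nat_lit 0xc0000d), (nat_lit 0x1b0780504c03), (nat_lit 0x7e1e45a03d586097d), (nat_lit 0)⟩)))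
 (.n (.n (.n (.l ⟨(nat_lit 0xc0000d), (nat_lit 0x46c444b436), (nat_lit 0xbcd116468), (nat_lit 0)⟩)
 (.l ⟨(nat_lit 0xc0000d), (nat_lit 0x68220681f07012), (nat_lit 0x370545e0fc05005455ed47), (nat_lit 0)⟩))
 (.l ⟨(nat_lit 0xc0000d), (nat_lit 0x641306c1107013), (nat_lit 0x52142f0756563599), (nat_lit 0)⟩))
 (.n (.n (.l ⟨(nat_lit 0x140000b), (nat_lit 0xd6d0fc12), (nat_lit 0x1791014c59), (nat_lit 0)⟩)
 (.l ⟨(nat_lit 0xc00013), (nat_lit 0x1f0641f0641f), (nat_lit 0x664c01017805005455c987), (nat_lit 0)⟩))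
 (.l ⟨(nat_lit 0xc0000d), (nat_lit 0x641e06c0707007), (nat_lit 0x694a03903805005526259c), (nat_lit 0)⟩))))))
 (.n (.n (.n (.n (.n (.n (.l ⟨(nat_lit 0xc00009), (nat_lit 0x1b100f1), (nat_lit 0xdd7305c01), (nat_lit 0)⟩)
 (.l ⟨(nat_lit 0xc0000d), (nat_lit 0x1806c1e07007), (nat_lit 0x14d925707d00405005505f561), (nat_lit 0)⟩))
 (.n (.l ⟨(nat_lit 0x1400013), (nat_lit 0x12c1761c17), (nat_lit 0x1208155531), (nat_lit 0)⟩)
 (.l ⟨(nat_lit 0xc00015), (nat_lit 0x1e0641701415), (nat_lit 0x1254591058050054f6394c), (nat_lit 0)⟩)))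
 (.n (.n (.l ⟨(nat_lit 0xc0000d), (nat_lit 0xc8fb5cc07), (nat_lit 0x19c6a17105), (nat_lit 0)⟩)
 (.l ⟨(nat_lit 0xc0000d), (nat_lit 0x160142107014), (nat_lit 0x394d95e01c05005575994b), (nat_lit 0)⟩))
 (.l ⟨(nat_lit 0xc0000d), (nat_lit 0x120701d), (nat_lit 0x1cc5941c245d970), (nat_lit 0)⟩)))
 (.n (.n (.n (.l ⟨(nat_lit 0xc0000d), (nat_lit 0x79491a410), (nat_lit 0x3462c1d4ed4367959020030140101007), (nat_lit 0)⟩)
 (.l ⟨(nat_lit 0xc0000d), (nat_lit 0x210141701415), (nat_lit 0x662d86801d5065993), (nat_lit 0)⟩))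
 (.l ⟨(nat_lit 0xc0000b), (nat_lit 0x44200681307007), (nat_lit 0x314d8172295059966), (nat_lit 0)⟩))
 (.n (.n (.l ⟨(nat_lit 0xe0000d), (nat_lit 0x1691a5e044), (nat_lit 0x1b41c6003c66982020030140101007), (nat_lit 0)⟩)
 (.l ⟨(nat_lit 0x140000f), (nat_lit 0xf0141507012), (nat_lit 0x7cf82084f55d70), (nat_lit 0)⟩))
 (.l ⟨(nat_lit 0xc0000d), (nat_lit 0x5c1e07010), (nat_lit 0x6b5b9830cc05005475fd82), (nat_lit 0)⟩))))
 (.n (.n (.n (.n (.l ⟨(nat_lit 0xc0000b), (nat_lit 0x121231b98e), (nat_lit 0x511416b1a001), (nat_lit 0)⟩)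
 (.l ⟨(nat_lit 0xc0000d), (nat_lit 0x640f06c1f07010), (nat_lit 0x18c861b4fa0140152d7a54c0800c050040401d515d164), (nat_lit 0)⟩))
 (.l ⟨(nat_lit 0xc0000b), (nat_lit 17419), (nat_lit 0x104034f90251571), (nat_lit 0)⟩))
 (.n (.n (.l ⟨(nat_lit 0xc0000d), (nat_lit 0x74850490c), (nat_lit 0x159911e820), (nat_lit 0)⟩)
 (.l ⟨(nat_lit 0xc0000d), (nat_lit 0x64150681707007), (nat_lit 0x655805916405005496417b), (nat_lit 0)⟩))
 (.l ⟨(nat_lit 0xa0000d), (nat_lit 0x160681e07010), (nat_lit 0x1651711c1b0140160571), (nat_lit 0)⟩)))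
 (.n (.n (.n (.l ⟨(nat_lit 0xc0000d), (nat_lit 0x1804e21493), (nat_lit 0x6217d351915062188020030140101007), (nat_lit 0)⟩)
 (.l ⟨(nat_lit 0xc0000d), (nat_lit 0x1f06c1706c20), (nat_lit 0x13913c0701405005605f98b), (nat_lit 0)⟩))
 (.l ⟨(nat_lit 0x120000d), (nat_lit 0x1906c1807010), (nat_lit 0x281150720d4b63563), (nat_lit 0)⟩))
 (.n (.n (.l ⟨(nat_lit 0x1200013), (nat_lit 179207), (nat_lit 0x19c6657051), (nat_lit 0)⟩)
 (.l ⟨(nat_lit 0xc00013), (nat_lit 0x1b03016), (nat_lit 0x514d4025c050054767183), (nat_lit 0)⟩))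
 (.l ⟨(nat_lit 0xa0000d), (nat_lit 0x6c160702207007), (nat_lit 0x4042c1e21005005546256d), (nat_lit 0)⟩)))))
 (.n (.n (.n (.n (.n (.l ⟨(nat_lit 0xc0000b), (nat_lit 0x1651711c1b), (nat_lit 0x413d134b8), (nat_lit 0)⟩)
 (.l ⟨(nat_lit 0xc0000d), (nat_lit 0x6c200701e07012), (nat_lit 0x3f0bd58150050055e64961), (nat_lit 0)⟩))
 (.n (.l ⟨(nat_lit 0xc00007), (nat_lit 0x2006c1307014), (nat_lit 0x3d5a5cc075a99c), (nat_lit 0)⟩)
 (.l ⟨(nat_lit 0xa00015), (nat_lit 0x681d0640f07012), (nat_lit 0x70d99b01c05005495dd86), (nat_lit 0)⟩)))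
 (.n (.n (.l ⟨(nat_lit 0xc0000d), (nat_lit 0x84d11ecfb), (nat_lit 0xbd206700b), (nat_lit 0)⟩)
 (.l ⟨(nat_lit 0xc0000d), (nat_lit 0x1006c170641d), (nat_lit 0x4c55c1e1354966977), (nat_lit 0)⟩))
 (.l ⟨(nat_lit 0x140000d), (nat_lit 0x841801415), (nat_lit 0x4d3c88a1ad686640800c050040401d4362976), (nat_lit 0)⟩)))
 (.n (.n (.n (.l ⟨(nat_lit 0xc0000d), (nat_lit 0xd2f20855), (nat_lit 0x3097e2140d), (nat_lit 0)⟩)
 (.l ⟨(nat_lit 0xc0000d), (nat_lit 0x1e0141e07007), (nat_lit 0x355b0351d94761576), (nat_lit 0)⟩))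
 (.l ⟨(nat_lit 0xc0000d), (nat_lit 0x1807407), (nat_lit 0x275fc424554152d74), (nat_lit 0)⟩))
 (.n (.n (.l ⟨(nat_lit 0x120000d), (nat_lit 0xa5071484f), (nat_lit 0x253606067), (nat_lit 0)⟩)
 (.l ⟨(nat_lit 0x1000011), (nat_lit 0x1b0301e), (nat_lit 0x1496414c0080602407014080280c0300c02407014080280b01c05020050040802c0b53d4d), (nat_lit 0)⟩))
 (.l ⟨(nat_lit 0xc0000d), (nat_lit 0x180701207007), (nat_lit 0x414f822515585b80800c050040401d4c5b575), (nat_lit 0)⟩))))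
 (.n (.n (.n (.n (.l ⟨(nat_lit 0xc0000d), (nat_lit 0x1785205485), (nat_lit 0x15c593881b), (nat_lit 0)⟩)
 (.l ⟨(nat_lit 0xc0000d), (nat_lit 0x2206c1407010), (nat_lit 0x50214844c5456158b), (nat_lit 0)⟩))
 (.l ⟨(nat_lit 0x120000b), (nat_lit 0x1306c1107012), (nat_lit 0x6255a1842359d7c), (nat_lit 0)⟩))
 (.n (.n (.l ⟨(nat_lit 0x600007), (nat_lit 0xcd0c190b5), (nat_lit 0x7cb820c91), (nat_lit 0)⟩)
 (.l ⟨(nat_lit 0xc0000d), (nat_lit 0x1106c1106416), (nat_lit 0x5320d681e8050055752565), (nat_lit 0)⟩))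
 (.l ⟨(nat_lit 0x140000d), (nat_lit 0x1c1b07407), (nat_lit 0x1a8205901853d4d), (nat_lit 0)⟩)))
 (.n (.n (.n (.l ⟨(nat_lit 0xc0000d), (nat_lit 0x1596916834), (nat_lit 0xcd991e078), (nat_lit 0)⟩)
 (.l ⟨(nat_lit 0xc0000d), (nat_lit 0x41b0741903c03), (nat_lit 0x759c1b8655a954), (nat_lit 0)⟩))
 (.l ⟨(nat_lit 0xc0000d), (nat_lit 0x50540501c03), (nat_lit 0x1b0a4711095959154), (nat_lit 0)⟩))
 (.n (.n (.l ⟨(nat_lit 0x140000d), (nat_lit 0xf215014), (nat_lit 0x1a82059018), (nat_lit 0)⟩)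
 (.l ⟨(nat_lit 0xc00013), (nat_lit 0x6c0706c1107012), (nat_lit 0x531c8d21cc05005436658a), (nat_lit 0)⟩))
 (.l ⟨(nat_lit 0xc0000d), (nat_lit 0x48220701d), (nat_lit 0x88621d52d0054a5697c), (nat_lit 0)⟩)))))))
noncomputable def T17 : Tr :=
  .n (.n (.n (.n (.n (.n (.n (.n (.l ⟨(nat_lit 0x200002), (nat_lit 159), (nat_lit 0), (nat_lit 0)⟩)
 (.l ⟨(nat_lit 0x120000d), (nat_lit 0x601d01416), (nat_lit 0xd1683c1a9416516b), (nat_lit 0)⟩))
 (.n (.l ⟨(nat_lit 0x140000d), (nat_lit 0xd1d64087), (nat_lit 0x1c0674909f), (nat_lit 0)⟩)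
 (.l ⟨(nat_lit 0x600015), (nat_lit 0x141f0641607011), (nat_lit 0x846422916014015718b), (nat_lit 0)⟩)))
 (.n (.n (.l ⟨(nat_lit 0xc0000d), (nat_lit 0x130fb28812), (nat_lit 0x2c7c3cc29), (nat_lit 0)⟩)
 (.l ⟨(nat_lit 0xc0000d), (nat_lit 0x100680f07011), (nat_lit 0x225d82816005005435f94c), (nat_lit 0)⟩))
 (.l ⟨(nat_lit 0xc0000d), (nat_lit 0x1b0881507007), (nat_lit 0x624e04e0a0050054d5e59d), (nat_lit 0)⟩)))
 (.n (.n (.n (.l ⟨(nat_lit 0xc0000d), (nat_lit 0xc45901d86), (nat_lit 0x1344d21849), (nat_lit 0)⟩)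
 (.l ⟨(nat_lit 0xc0000d), (nat_lit 0x141706c1207014), (nat_lit 0x5e181400d0050054a59992), (nat_lit 0)⟩))
 (.l ⟨(nat_lit 0xc0000b), (nat_lit 0x210140f07013), (nat_lit 0xb2c871499525d17a), (nat_lit 0)⟩))
 (.n (.n (.l ⟨(nat_lit 0xe0000b), (nat_lit 0x1728c24), (nat_lit 0x9f60410), (nat_lit 0)⟩)
 (.l ⟨(nat_lit 0xc0000d), (nat_lit 0x141d0680707011), (nat_lit 0x1a4c0783c9436519b), (nat_lit 0)⟩))
 (.l ⟨(nat_lit 0xa0000d), (nat_lit 0x1306c2201415), (nat_lit 0x6d3e058050054d6116e), (nat_lit 0)⟩))))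
 (.n (.n (.n (.n (.l ⟨(nat_lit 0xc0000b), (nat_lit 0x7c5a5e866), (nat_lit 0x14c2957803), (nat_lit 0)⟩)
 (.l ⟨(nat_lit 0xc0000d), (nat_lit 0x44070680707007), (nat_lit 0x1c0c1561c8050054b5dd6b), (nat_lit 0)⟩))
 (.l ⟨(nat_lit 0x800008), (nat_lit 0xd0841c0801b0580507c05), (nat_lit 0), (nat_lit 0)⟩))
 (.n (.n (.l ⟨(nat_lit 0xc0000d), (nat_lit 0xe8a313c1a), (nat_lit 0x1683f4cc01), (nat_lit 0)⟩)
 (.l ⟨(nat_lit 0xc0000d), (nat_lit 0x702106c1807007), (nat_lit 0x333c988048050056a62189), (nat_lit 0)⟩))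
 (.l ⟨(nat_lit 0xc0000d), (nat_lit 0x741a04403), (nat_lit 0x155e04f4014f60980), (nat_lit 0)⟩)))
 (.n (.n (.n (.l ⟨(nat_lit 0xc0000d), (nat_lit 0x15cf445c5e), (nat_lit 0x184d6220c1), (nat_lit 0)⟩)
 (.l ⟨(nat_lit 0xc0000d), (nat_lit 0x1e06c1207014), (nat_lit 0x52214d209d5160d64), (nat_lit 0)⟩))
 (.l ⟨(nat_lit 0xc0000d), (nat_lit 0x160140f07011), (nat_lit 0x1512d6022405005416456c), (nat_lit 0)⟩))
 (.n (.n (.l ⟨(nat_lit 0x120000d), (nat_lit 0xc735d87a), (nat_lit 0x110d51b051), (nat_lit 0)⟩)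
 (.l ⟨(nat_lit 0x1200013), (nat_lit 0x2204403), (nat_lit 0x671995c1454b5c54b), (nat_lit 0)⟩))
 (.l ⟨(nat_lit 0xa0000d), (nat_lit 0x70110681e), (nat_lit 0x203e43a04005005436098b), (nat_lit 0)⟩)))))
 (.n (.n (.n (.n (.n (.l ⟨(nat_lit 0xc0000b), (nat_lit 0x18c54407), (nat_lit 0x4a84c10c30), (nat_lit 0)⟩)
 (.l ⟨(nat_lit 0xc0000d), (nat_lit 0x2106c1107007), (nat_lit 0x6058c650394359572), (nat_lit 0)⟩))
 (.n (.l ⟨(nat_lit 0x200002), (nat_lit 0x50801b04c190501c0581c), (nat_lit 0), (nat_lit 0)⟩)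
 (.l ⟨(nat_lit 0xc00015), (nat_lit 0x701e0141107007), (nat_lit 0x33585c1d4050054365576), (nat_lit 0)⟩)))
 (.n (.n (.l ⟨(nat_lit 0xc0000d), (nat_lit 0x1750c4386b), (nat_lit 0x1c0183e4b3), (nat_lit 0)⟩)
 (.l ⟨(nat_lit 0xa0000d), (nat_lit 0x1e0680707011), (nat_lit 0x6364c150a005005765ad76), (nat_lit 0)⟩))
 (.l ⟨(nat_lit 0xc0000d), (nat_lit 0x130681207013), (nat_lit 0x58c7e63c05005545c98d), (nat_lit 0)⟩)))
 (.n (.n (.n (.l ⟨(nat_lit 0xc0000d), (nat_lit 0x4448912), (nat_lit 0x235ec7703003), (nat_lit 0)⟩)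
 (.l ⟨(nat_lit 0xc0000d), (nat_lit 0x2c1d0680707007), (nat_lit 0x504246108c050054554576), (nat_lit 0)⟩))
 (.l ⟨(nat_lit 0xc0000b), (nat_lit 0x6c2006c1e), (nat_lit 0x5113c290fd575696e), (nat_lit 0)⟩))
 (.n (.n (.l ⟨(nat_lit 0xe0000d), (nat_lit 0x7c6813422), (nat_lit 0x1055120484), (nat_lit 0)⟩)
 (.l ⟨(nat_lit 0xc0000f), (nat_lit 0x70130681007013), (nat_lit 0x3a4746f07005005605d586), (nat_lit 0)⟩))
 (.l ⟨(nat_lit 0xc0000d), (nat_lit 0x106c1306c1f), (nat_lit 0xe1a83c2454162196), (nat_lit 0)⟩))))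
 (.n (.n (.n (.n (.l ⟨(nat_lit 0xc0000d), (nat_lit 0x1505e4744b), (nat_lit 0x30231ac1e), (nat_lit 0)⟩)
 (.l ⟨(nat_lit 0xc0000d), (nat_lit 0x170641406416), (nat_lit 0x3505d7c188050054762d69), (nat_lit 0)⟩))
 (.l ⟨(nat_lit 0xc0000b), (nat_lit 0x200142007012), (nat_lit 0x1b125871f5435357c), (nat_lit 0)⟩))
 (.n (.n (.l ⟨(nat_lit 0xc0000d), (nat_lit 0x154b145889), (nat_lit 0x1683a46042), (nat_lit 0)⟩)
 (.l ⟨(nat_lit 0xe0000d), (nat_lit 0x781c04c1b0580b), (nat_lit 0x6c62c931994554994), (nat_lit 0)⟩))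
 (.l ⟨(nat_lit 0xc0000d), (nat_lit 0x701306c16), (nat_lit 0x1052406d2f014016018c), (nat_lit 0)⟩)))
 (.n (.n (.n (.l ⟨(nat_lit 0xc0000d), (nat_lit 0x64584e032), (nat_lit 0x1987a2c413), (nat_lit 0)⟩)
 (.l ⟨(nat_lit 0x60000d), (nat_lit 0x1e0682207010), (nat_lit 0xf19c4ac6165d7d), (nat_lit 0)⟩))
 (.l ⟨(nat_lit 0x120000d), (nat_lit 0x1b03c1e07010), (nat_lit 0x1e20084111506499d), (nat_lit 0)⟩))
 (.n (.n (.l ⟨(nat_lit 0x1200013), (nat_lit 0x41c604ac2f), (nat_lit 0x49179830e94a5c19300806028030080601007), (nat_lit 0)⟩)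
 (.l ⟨(nat_lit 0xa00013), (nat_lit 0x381d0681107007), (nat_lit 0x6406990024050055e56584), (nat_lit 0)⟩))
 (.l ⟨(nat_lit 0xc0000d), (nat_lit 0x1b0841b0580b), (nat_lit 0x484cc8211d455ed5f01d4154190), (nat_lit 0)⟩))))))
 (.n (.n (.n (.n (.n (.n (.l ⟨(nat_lit 0x80000b), (nat_lit 0x6348a57030), (nat_lit 0x404f05136014015455e6480201808), (nat_lit 0)⟩)
 (.l ⟨(nat_lit 0xa0000d), (nat_lit 0x681106c16), (nat_lit 0x30169840fc050054f5f594), (nat_lit 0)⟩))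
 (.n (.l ⟨(nat_lit 0x140000d), (nat_lit 0x1981e4a861), (nat_lit 0x1001a60857), (nat_lit 0)⟩)
 (.l ⟨(nat_lit 0xc00015), (nat_lit 0x1806c1607011), (nat_lit 0x860c087054050055164993), (nat_lit 0)⟩)))
 (.n (.n (.l ⟨(nat_lit 0xc0000d), (nat_lit 0x154184840b), (nat_lit 0x44885e456), (nat_lit 0)⟩)
 (.l ⟨(nat_lit 0xc0000d), (nat_lit 0x501d06c0707007), (nat_lit 0x3f4fc450fd525d59c), (nat_lit 0)⟩))
 (.l ⟨(nat_lit 0x120000d), (nat_lit 0x1f06c1e), (nat_lit 0x511b1010f1675d56e), (nat_lit 0)⟩)))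
 (.n (.n (.n (.l ⟨(nat_lit 0xc0000d), (nat_lit 0x18053448f8), (nat_lit 0x1515520083), (nat_lit 0)⟩)
 (.l ⟨(nat_lit 0x120000d), (nat_lit 0x1806c1e0641e), (nat_lit 0x401547c061585558a), (nat_lit 0)⟩))
 (.l ⟨(nat_lit 0xc0000b), (nat_lit 0x1b0482007011), (nat_lit 0x6867818071475a16d), (nat_lit 0)⟩))
 (.n (.n (.l ⟨(nat_lit 0xe0000d), (nat_lit 0x352420016), (nat_lit 0x9d741b451), (nat_lit 0)⟩)
 (.l ⟨(nat_lit 0xc0000d), (nat_lit 0x141406c1106415), (nat_lit 0x2f420621bd4c5cd72), (nat_lit 0)⟩))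
 (.l ⟨(nat_lit 0x120000d), (nat_lit 0x1d0702107007), (nat_lit 0x6656c42221665b19d), (nat_lit 0)⟩))))
 (.n (.n (.n (.n (.l ⟨(nat_lit 0xc0000b), (nat_lit 0x50661a58e), (nat_lit 0x414a18118), (nat_lit 0)⟩)
 (.l ⟨(nat_lit 0xc0000d), (nat_lit 0x58140681807007), (nat_lit 0x552e02f00d575e98d), (nat_lit 0)⟩))
 (.l ⟨(nat_lit 0xc0000b), (nat_lit 0x800507807), (nat_lit 0x3c5a92a01d435614d), (nat_lit 0)⟩))
 (.n (.n (.l ⟨(nat_lit 0xc0000d), (nat_lit 0x1984d1110b), (nat_lit 0xd47514022), (nat_lit 0)⟩)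
 (.l ⟨(nat_lit 0xc0000d), (nat_lit 0x68220681106415), (nat_lit 0x1885f4d464541886200800c050040401d666297b), (nat_lit 0)⟩))
 (.l ⟨(nat_lit 0xc0000d), (nat_lit 0x6c1e0701207017), (nat_lit 0x394d11516d4b5f18f), (nat_lit 0)⟩)))
 (.n (.n (.n (.l ⟨(nat_lit 0xc0000d), (nat_lit 0x8c6e25412), (nat_lit 0x645e85c13c01), (nat_lit 0)⟩)
 (.l ⟨(nat_lit 0xc0000d), (nat_lit 0x106c1e06815), (nat_lit 0x1a90f1fc945bd4a), (nat_lit 0)⟩))
 (.l ⟨(nat_lit 0x140000d), (nat_lit 0x1206c1806815), (nat_lit 0xb171491d9535c18b), (nat_lit 0)⟩))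
 (.n (.n (.l ⟨(nat_lit 0x120000d), (nat_lit 0x10921d0a), (nat_lit 0x180433e873), (nat_lit 0)⟩)
 (.l ⟨(nat_lit 0xc00013), (nat_lit 0x141406c2201415), (nat_lit 0x1c13d5a198050054953d52), (nat_lit 0)⟩))
 (.l ⟨(nat_lit 0xc0000d), (nat_lit 0x1d0701007016), (nat_lit 0x7254880a9545f16d), (nat_lit 0)⟩)))))
 (.n (.n (.n (.n (.n (.l ⟨(nat_lit 0xc0000b), (nat_lit 0xc05a6103f), (nat_lit 0x1880143c20), (nat_lit 0)⟩)
 (.l ⟨(nat_lit 0xc0000d), (nat_lit 0x13070180701e), (nat_lit 0x16c535f8730140153d68), (nat_lit 0)⟩))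
 (.n (.l ⟨(nat_lit 0xc00007), (nat_lit 0x4c1a04403), (nat_lit 0x276146517405005435a990), (nat_lit 0)⟩)
 (.l ⟨(nat_lit 0xa00015), (nat_lit 0x701406c110141e), (nat_lit 0x199050bd37014015dd4a), (nat_lit 0)⟩)))
 (.n (.n (.l ⟨(nat_lit 0xc0000d), (nat_lit 0x4405e16c23), (nat_lit 0x1d3044865), (nat_lit 0)⟩)
 (.l ⟨(nat_lit 0xc0000d), (nat_lit 0x80170701d07007), (nat_lit 0x3a25d3e054050056f5696c), (nat_lit 0)⟩))
 (.l ⟨(nat_lit 0xc0000d), (nat_lit 0x1806c1f), (nat_lit 0x4cfc04c5000405005455ed5f), (nat_lit 0)⟩)))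
 (.n (.n (.n (.l ⟨(nat_lit 0xc0000d), (nat_lit 0x139634c828), (nat_lit 0x60192080e), (nat_lit 0)⟩)
 (.l ⟨(nat_lit 0xa0000d), (nat_lit 0x1e06c1707012), (nat_lit 0x561256d03c050054363d98), (nat_lit 0)⟩))
 (.l ⟨(nat_lit 0xc0000d), (nat_lit 0xf0681e07007), (nat_lit 0x14d303f836014015958f), (nat_lit 0)⟩))
 (.n (.n (.l ⟨(nat_lit 0x120000d), (nat_lit 0x79640e1), (nat_lit 0x174743f811), (nat_lit 0)⟩)
 (.l ⟨(nat_lit 0xc0000f), (nat_lit 0x701407014), (nat_lit 0x315604400c05005456498e), (nat_lit 0)⟩))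
 (.l ⟨(nat_lit 0xc0000d), (nat_lit 0x6c200681407007), (nat_lit 0x5500c6e1ad516796d), (nat_lit 0)⟩))))
 (.n (.n (.n (.n (.l ⟨(nat_lit 0xc0000d), (nat_lit 0x18ceb1a45c), (nat_lit 0x1147565823), (nat_lit 0)⟩)
 (.l ⟨(nat_lit 0xc0000d), (nat_lit 0x702206c0707007), (nat_lit 0x1b2e0793f805005525c16c), (nat_lit 0)⟩))
 (.l ⟨(nat_lit 0xc0000b), (nat_lit 27679), (nat_lit 0x414f83463d525c585), (nat_lit 0)⟩))
 (.n (.n (.l ⟨(nat_lit 0xc0000d), (nat_lit 0x44956000f), (nat_lit 0x406215891), (nat_lit 0)⟩)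
 (.l ⟨(nat_lit 0xc0000d), (nat_lit 0x141106c2106815), (nat_lit 0x3109d36078050054752d5e), (nat_lit 0)⟩))
 (.l ⟨(nat_lit 0xc0000d), (nat_lit 0x1d0701807010), (nat_lit 0x1357c3d021004050054566952), (nat_lit 0)⟩)))
 (.n (.n (.n (.l ⟨(nat_lit 0xc0000d), (nat_lit 0x19c5548015), (nat_lit 0x2084d1141a), (nat_lit 0)⟩)
 (.l ⟨(nat_lit 0xc0000d), (nat_lit 0x68150681807010), (nat_lit 0x132d06b0695f5fd78), (nat_lit 0)⟩))
 (.l ⟨(nat_lit 0xc0000d), (nat_lit 0x781107007), (nat_lit 0x403054050054953d92), (nat_lit 0)⟩))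
 (.n (.n (.l ⟨(nat_lit 0x140000b), (nat_lit 0x19ca21e04b), (nat_lit 0x1045113c19), (nat_lit 0)⟩)
 (.l ⟨(nat_lit 0xc00013), (nat_lit 0x130682007012), (nat_lit 0x169781f19d004050054b6457e), (nat_lit 0)⟩))
 (.l ⟨(nat_lit 0xc0000d), (nat_lit 0x68150642207013), (nat_lit 0x36149231c00159988), (nat_lit 0)⟩)))))))
 (.n (.n (.n (.n (.n (.n (.n (.l ⟨(nat_lit 0x600007), (nat_lit 0xf43100f), (nat_lit 0x841063c115294765007), (nat_lit 0)⟩)
 (.l ⟨(nat_lit 0xc0000d), (nat_lit 0x1706c1006c1d), (nat_lit 0x331d86655c05005515ad60), (nat_lit 0)⟩))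
 (.n (.l ⟨(nat_lit 0x140000d), (nat_lit 0x1002715003), (nat_lit 0x175002080b), (nat_lit 0)⟩)
 (.l ⟨(nat_lit 0xc00015), (nat_lit 0x702006c0707010), (nat_lit 0x661f873448050054b6797e), (nat_lit 0)⟩)))
 (.n (.n (.l ⟨(nat_lit 0xc0000d), (nat_lit 0x6d2f18040), (nat_lit 0xa06b2543c5917d020030140101007), (nat_lit 0)⟩)
 (.l ⟨(nat_lit 0x60000d), (nat_lit 0x701406c1207014), (nat_lit 0x312f0735794352d79), (nat_lit 0)⟩))
 (.l ⟨(nat_lit 0x120000d), (nat_lit 0x140681007013), (nat_lit 0x1786a1dd9151d61), (nat_lit 0)⟩)))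
 (.n (.n (.n (.l ⟨(nat_lit 0xc0000d), (nat_lit 0x1413211c47), (nat_lit 0x18c4241c22), (nat_lit 0)⟩)
 (.l ⟨(nat_lit 0x120000d), (nat_lit 0x210641506816), (nat_lit 0x6b014812f5525818e), (nat_lit 0)⟩))
 (.l ⟨(nat_lit 0xc0000b), (nat_lit 0x220681607014), (nat_lit 0x7005d811cd496797b), (nat_lit 0)⟩))
 (.n (.n (.l ⟨(nat_lit 0xe0000d), (nat_lit 0x68313d024), (nat_lit 0x5c7919414), (nat_lit 0)⟩)
 (.l ⟨(nat_lit 0xc0000d), (nat_lit 0x401b0601a04803), (nat_lit 0x440898d0cc050054f56550), (nat_lit 0)⟩))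
 (.l ⟨(nat_lit 0xc0000d), (nat_lit 0x1306c1806c1f), (nat_lit 0x346867049014015f96e), (nat_lit 0)⟩))))
 (.n (.n (.n (.n (.l ⟨(nat_lit 0xc0000b), (nat_lit 0x17c7d4980e), (nat_lit 0xd3d1141b), (nat_lit 0)⟩)
 (.l ⟨(nat_lit 0xc0000d), (nat_lit 0x180680707007), (nat_lit 0x1445820c7e014016658d), (nat_lit 0)⟩))
 (.l ⟨(nat_lit 0xc00009), (nat_lit 0x1d0681107007), (nat_lit 0x16d9a0a157014015ad57), (nat_lit 0)⟩))
 (.n (.n (.l ⟨(nat_lit 0xc0000d), (nat_lit 0x5a56c3622805), (nat_lit 0x6c584ac14), (nat_lit 0)⟩)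
 (.l ⟨(nat_lit 0xc0000d), (nat_lit 0x210701d07011), (nat_lit 0x5e3f46335005005495b549), (nat_lit 0)⟩))
 (.l ⟨(nat_lit 0xc0000d), (nat_lit 0x106c140141f), (nat_lit 0x155810f0070140154980), (nat_lit 0)⟩)))
 (.n (.n (.n (.l ⟨(nat_lit 0xc0000d), (nat_lit 0x4d04049), (nat_lit 0x199354ec55), (nat_lit 0)⟩)
 (.l ⟨(nat_lit 0xc0000d), (nat_lit 0x341f0140707007), (nat_lit 0x178653d00d014015a954), (nat_lit 0)⟩))
 (.l ⟨(nat_lit 0xc0000d), (nat_lit 0x160140f07007), (nat_lit 0xd5685d0854a5b994), (nat_lit 0)⟩))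
 (.n (.n (.l ⟨(nat_lit 0x120000d), (nat_lit 0xc40c4b44d), (nat_lit 0x1786a1dd91), (nat_lit 0)⟩)
 (.l ⟨(nat_lit 0xc00013), (nat_lit 0x14064100641e), (nat_lit 0xb7448820a0050054162159), (nat_lit 0)⟩))
 (.l ⟨(nat_lit 0xc0000d), (nat_lit 0x701f0640f07007), (nat_lit 0xc131900554b5b97a), (nat_lit 0)⟩)))))
 (.n (.n (.n (.n (.n (.l ⟨(nat_lit 0xc0000b), (nat_lit 0xbcbc4c016), (nat_lit 0x1d8bc19021), (nat_lit 0)⟩)
 (.l ⟨(nat_lit 0xa0000d), (nat_lit 0x106c110141d), (nat_lit 0x441b57a1e003014015b195), (nat_lit 0)⟩))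
 (.n (.l ⟨(nat_lit 0x400007), (nat_lit 0x1e06c1e07014), (nat_lit 0xfc28150050055161960), (nat_lit 0)⟩)
 (.l ⟨(nat_lit 0xc00015), (nat_lit 0x200682007013), (nat_lit 0x452c59b01c050054759999), (nat_lit 0)⟩)))
 (.n (.n (.l ⟨(nat_lit 0xc0000d), (nat_lit 0x78d266c03), (nat_lit 0x16c665f053), (nat_lit 0)⟩)
 (.l ⟨(nat_lit 0xc0000d), (nat_lit 0x702206c2207010), (nat_lit 0x717516c640054c6599b), (nat_lit 0)⟩))
 (.l ⟨(nat_lit 0x80000d), (nat_lit 0x1e0681d07010), (nat_lit 0x400906e284050054367573), (nat_lit 0)⟩)))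
 (.n (.n (.n (.l ⟨(nat_lit 0xc0000d), (nat_lit 0x13d7735845), (nat_lit 0x5416d514c803), (nat_lit 0)⟩)
 (.l ⟨(nat_lit 0xc0000d), (nat_lit 0x1d0681807013), (nat_lit 0x77160b50a94355999), (nat_lit 0)⟩))
 (.l ⟨(nat_lit 0xc0000c), (nat_lit 0x706815014220640f0140f), (nat_lit 0), (nat_lit 0)⟩))
 (.n (.n (.l ⟨(nat_lit 0x120000b), (nat_lit 0x31158135b001), (nat_lit 0x13c095a061), (nat_lit 0)⟩)
 (.l ⟨(nat_lit 0xc0000f), (nat_lit 0xf0701d07007), (nat_lit 0x570c133164050054567578), (nat_lit 0)⟩))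
 (.l ⟨(nat_lit 0x140000d), (nat_lit 0x1706c0f07007), (nat_lit 0x6945c704f54765186), (nat_lit 0)⟩))))
 (.n (.n (.n (.n (.l ⟨(nat_lit 0xc0000d), (nat_lit 0x4d983d017), (nat_lit 0x1a8741c516), (nat_lit 0)⟩)
 (.l ⟨(nat_lit 0xc0000d), (nat_lit 0x100702001415), (nat_lit 0x5d3e155139475ed51), (nat_lit 0)⟩))
 (.l ⟨(nat_lit 0xc0000b), (nat_lit 0x20068130141d), (nat_lit 0x652d44f071435f94a), (nat_lit 0)⟩))
 (.n (.n (.l ⟨(nat_lit 0xc0000d), (nat_lit 0xa8644ecc2), (nat_lit 0x15cd51b50e), (nat_lit 0)⟩)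
 (.l ⟨(nat_lit 0xa0000d), (nat_lit 0x48220640f07007), (nat_lit 0x341bd240d8050054b5b985), (nat_lit 0)⟩))
 (.l ⟨(nat_lit 0x120000d), (nat_lit 0x1806c2106815), (nat_lit 0xd5a20c85005455b58f), (nat_lit 0)⟩)))
 (.n (.n (.n (.l ⟨(nat_lit 0xc0000d), (nat_lit 0x1501d22834), (nat_lit 0x1490c19551), (nat_lit 0)⟩)
 (.l ⟨(nat_lit 0xe0000d), (nat_lit 0x706c0f07010), (nat_lit 0x180732c4155657c), (nat_lit 0)⟩))
 (.l ⟨(nat_lit 0xc0000d), (nat_lit 0x1b0481d07007), (nat_lit 0x283f05c114050054a62158), (nat_lit 0)⟩))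
 (.n (.n (.l ⟨(nat_lit 0x140000b), (nat_lit 0xfc6713c95), (nat_lit 0x2c4259c7c), (nat_lit 0)⟩)
 (.l ⟨(nat_lit 0xc00013), (nat_lit 0x220682107014), (nat_lit 0xfc751a81a014016696d), (nat_lit 0)⟩))
 (.l ⟨(nat_lit 0xc0000d), (nat_lit 0x1f06c1707007), (nat_lit 0x7c951d036014015ed81), (nat_lit 0)⟩))))))
 (.n (.n (.n (.n (.n (.n (.l ⟨(nat_lit 0xc00007), (nat_lit 0x6c611f0c1), (nat_lit 0xe8831b87a), (nat_lit 0)⟩)
 (.l ⟨(nat_lit 0xc0000d), (nat_lit 0x13070180141e), (nat_lit 0x422187f4014a63979), (nat_lit 0)⟩))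
 (.n (.l ⟨(nat_lit 0x140000d), (nat_lit 0x14c971f429), (nat_lit 0x1346a5d867), (nat_lit 0)⟩)
 (.l ⟨(nat_lit 0xa00015), (nat_lit 0x701406821), (nat_lit 0x1cf74d8070140162d81), (nat_lit 0)⟩)))
 (.n (.n (.l ⟨(nat_lit 0xc0000d), (nat_lit 0x1410918423), (nat_lit 0x4f4691bc44), (nat_lit 0)⟩)
 (.l ⟨(nat_lit 0xc0000d), (nat_lit 0x110680f07012), (nat_lit 0x1a925051525358065c0800c050040401d515c166), (nat_lit 0)⟩))
 (.l ⟨(nat_lit 0xc0000d), (nat_lit 0x1e0681d), (nat_lit 0x154052044400405005435e163), (nat_lit 0)⟩)))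
 (.n (.n (.n (.l ⟨(nat_lit 0xc0000d), (nat_lit 0x2cc6b3ec45), (nat_lit 0x1b13754816), (nat_lit 0)⟩)
 (.l ⟨(nat_lit 0x120000d), (nat_lit 0x220682106415), (nat_lit 0x170865b44f64582), (nat_lit 0)⟩))
 (.l ⟨(nat_lit 0xc0000b), (nat_lit 0x1706c220641f), (nat_lit 0x5c1f8806714561d7d), (nat_lit 0)⟩))
 (.n (.n (.l ⟨(nat_lit 0xe0000d), (nat_lit 0x108544981f), (nat_lit 0x54583a4d401), (nat_lit 0)⟩)
 (.l ⟨(nat_lit 0xc0000f), (nat_lit 0x160702107007), (nat_lit 0x366505906005005435a951), (nat_lit 0)⟩))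
 (.l ⟨(nat_lit 0xc0000d), (nat_lit 0x1d068170141e), (nat_lit 0xd8760880500c05005666496f), (nat_lit 0)⟩))))
 (.n (.n (.n (.n (.l ⟨(nat_lit 0xc0000b), (nat_lit 0x506005005), (nat_lit 0x688416569), (nat_lit 0)⟩)
 (.l ⟨(nat_lit 0xc0000d), (nat_lit 0x2006c1807016), (nat_lit 0x4e01d201d405005536798a), (nat_lit 0)⟩))
 (.l ⟨(nat_lit 0xc0000b), (nat_lit 0x741c0581904c03), (nat_lit 0x123ac6f051455e57e), (nat_lit 0)⟩))
 (.n (.n (.l ⟨(nat_lit 0xc0000d), (nat_lit 0x10d8d04c7f), (nat_lit 0x364083716001), (nat_lit 0)⟩)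
 (.l ⟨(nat_lit 0xc0000d), (nat_lit 0x1406c100681e), (nat_lit 0x6b15c6a044050055067567), (nat_lit 0)⟩))
 (.l ⟨(nat_lit 0xc0000d), (nat_lit 0x100142207007), (nat_lit 0x14472004545616f00806021415a552), (nat_lit 0)⟩)))
 (.n (.n (.n (.l ⟨(nat_lit 0xc0000d), (nat_lit 0x90712c812), (nat_lit 0x185821c432), (nat_lit 0)⟩)
 (.l ⟨(nat_lit 0xc0000d), (nat_lit 0xf0702207007), (nat_lit 0x741c4b401c050054359149), (nat_lit 0)⟩))
 (.l ⟨(nat_lit 0x120000d), (nat_lit 0x220680f0141e), (nat_lit 0x332059915d505c5740214754172), (nat_lit 0)⟩))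
 (.n (.n (.l ⟨(nat_lit 0x120000d), (nat_lit 0xa0a21e4a1), (nat_lit 0x4a0401e41f), (nat_lit 0)⟩)
 (.l ⟨(nat_lit 0xc00013), (nat_lit 0x2106c0707011), (nat_lit 0xb11160080050055967997), (nat_lit 0)⟩))
 (.l ⟨(nat_lit 0xc0000d), (nat_lit 0x6c180641d), (nat_lit 0x494207f05d4a64d50), (nat_lit 0)⟩)))))
 (.n (.n (.n (.n (.n (.l ⟨(nat_lit 0xc0000b), (nat_lit 0x16c7b184d6), (nat_lit 0x1444f0a43f), (nat_lit 0)⟩)
 (.l ⟨(nat_lit 0xa0000d), (nat_lit 0x6c1706c100641e), (nat_lit 0x5757c1d3f0050055057165), (nat_lit 0)⟩))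
 (.n (.l ⟨(nat_lit 0xc00007), (nat_lit 0x1306c110681d), (nat_lit 0x3c19d550714a5f16c), (nat_lit 0)⟩)
 (.l ⟨(nat_lit 0xc00015), (nat_lit 0x1e0680f07010), (nat_lit 0x561fc5a500050055864998), (nat_lit 0)⟩)))
 (.n (.n (.l ⟨(nat_lit 0xc0000d), (nat_lit 0x508541410), (nat_lit 0x60941b076), (nat_lit 0)⟩)
 (.l ⟨(nat_lit 0xa0000d), (nat_lit 0x840f0641407007), (nat_lit 0x5d5490e06005005755d163), (nat_lit 0)⟩))
 (.l ⟨(nat_lit 0x140000d), (nat_lit 0x840503c03), (nat_lit 0xa5520d81752d775ac0800c050040401d50), (nat_lit 0)⟩)))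
 (.n (.n (.n (.l ⟨(nat_lit 0xc0000d), (nat_lit 0x1b4851d043), (nat_lit 0x1350713c43), (nat_lit 0)⟩)
 (.l ⟨(nat_lit 0xa0000d), (nat_lit 0x220681107014), (nat_lit 0x471e4843c805005456059d), (nat_lit 0)⟩))
 (.l ⟨(nat_lit 0xc0000d), (nat_lit 24592), (nat_lit 0x3d88464070140157d65), (nat_lit 0)⟩))
 (.n (.n (.l ⟨(nat_lit 0x120000d), (nat_lit 0xa99b1200f), (nat_lit 0x1641863458), (nat_lit 0)⟩)
 (.l ⟨(nat_lit 0xc0000f), (nat_lit 0x681d0701406416), (nat_lit 0x6964c33284050056667578), (nat_lit 0)⟩))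
 (.l ⟨(nat_lit 0xc0000d), (nat_lit 0x14150642207011), (nat_lit 0x804a57b0255164581), (nat_lit 0)⟩))))
 (.n (.n (.n (.n (.l ⟨(nat_lit 0xc0000d), (nat_lit 0x1841c47045), (nat_lit 0x191666180c), (nat_lit 0)⟩)
 (.l ⟨(nat_lit 0xc0000d), (nat_lit 0x68210141107012), (nat_lit 0x355283019805005456796d), (nat_lit 0)⟩))
 (.l ⟨(nat_lit 0xc0000b), (nat_lit 0x220681206416), (nat_lit 0x581dd8a495415c98d), (nat_lit 0)⟩))
 (.n (.n (.l ⟨(nat_lit 0xc0000d), (nat_lit 0x4d0d21c50), (nat_lit 0x7c794054366570020030140101007), (nat_lit 0)⟩)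
 (.l ⟨(nat_lit 0xc0000d), (nat_lit 0x200680f06420), (nat_lit 0x6213597154050055a5359a), (nat_lit 0)⟩))
 (.l ⟨(nat_lit 0xc0000d), (nat_lit 0x2206c1107011), (nat_lit 0x481c15c218050055459963), (nat_lit 0)⟩)))
 (.n (.n (.n (.l ⟨(nat_lit 0xc0000d), (nat_lit 0x114650e99c), (nat_lit 0x16c325e443), (nat_lit 0)⟩)
 (.l ⟨(nat_lit 0xc0000d), (nat_lit 0x2106c1307010), (nat_lit 0x5d5e4d1228050054556999), (nat_lit 0)⟩))
 (.l ⟨(nat_lit 0xc0000d), (nat_lit 0x6c1806c1207012), (nat_lit 0x4c1d92e09c050055459987), (nat_lit 0)⟩))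
 (.n (.n (.l ⟨(nat_lit 0x140000d), (nat_lit 0x19c5b0e811), (nat_lit 0x846b48084), (nat_lit 0)⟩)
 (.l ⟨(nat_lit 0x1200013), (nat_lit 0x1d0141d01416), (nat_lit 0x5b1cc890dd7162565), (nat_lit 0)⟩))
 (.l ⟨(nat_lit 0xc0000d), (nat_lit 0x6c1f07013), (nat_lit 0x58c790d94954d74), (nat_lit 0)⟩)))))))
noncomputable def T18 : Tr :=
  .n (.n (.n (.n (.n (.n (.n (.n (.l ⟨(nat_lit 0x400004), (nat_lit 303491), (nat_lit 0), (nat_lit 0)⟩)
 (.l ⟨(nat_lit 0xc0000d), (nat_lit 0x142201416), (nat_lit 0x1110d2291c59d56), (nat_lit 0)⟩))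
 (.n (.l ⟨(nat_lit 0x140000d), (nat_lit 0x691946c41), (nat_lit 0x1b81e5fc89), (nat_lit 0)⟩)
 (.l ⟨(nat_lit 0x1400015), (nat_lit 0x11068140641d), (nat_lit 0x9c7d420530140163581), (nat_lit 0)⟩)))
 (.n (.n (.l ⟨(nat_lit 0xc0000d), (nat_lit 0x1301a60007), (nat_lit 0xa05e1f019), (nat_lit 0)⟩)
 (.l ⟨(nat_lit 0xc0000d), (nat_lit 0x21014170641d), (nat_lit 0x245766c5851d7965c020180a00c020180401d475818e), (nat_lit 0)⟩))
 (.l ⟨(nat_lit 0xc0000d), (nat_lit 0x1407017), (nat_lit 0x1505b5453200d4367983), (nat_lit 0)⟩)))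
 (.n (.n (.n (.l ⟨(nat_lit 0xc0000d), (nat_lit 0x1952d3f459), (nat_lit 0xc96a1f06f), (nat_lit 0)⟩)
 (.l ⟨(nat_lit 0xc0000d), (nat_lit 0x1e0700707014), (nat_lit 0x51f8bd0dc050055d6658e), (nat_lit 0)⟩))
 (.l ⟨(nat_lit 0xc0000b), (nat_lit 0x1307014), (nat_lit 0x6a2d0811e5435d990), (nat_lit 0)⟩))
 (.n (.n (.l ⟨(nat_lit 0xe0000b), (nat_lit 54452), (nat_lit 0x17d7b1d461), (nat_lit 0)⟩)
 (.l ⟨(nat_lit 0x120000d), (nat_lit 0x150141f01415), (nat_lit 0x1d30463571476655e008060280300806010075d97b), (nat_lit 0)⟩))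
 (.l ⟨(nat_lit 0x120000d), (nat_lit 0x2006c070641d), (nat_lit 0x412c204200054166d65), (nat_lit 0)⟩))))
 (.n (.n (.n (.n (.l ⟨(nat_lit 0xc0000b), (nat_lit 0x5d5708104001), (nat_lit 0x1619617caf), (nat_lit 0)⟩)
 (.l ⟨(nat_lit 0xc0000d), (nat_lit 0x1e0142106416), (nat_lit 0x1bc791402101401525886000800c050040401d4d56582), (nat_lit 0)⟩))
 (.l ⟨(nat_lit 0xa00009), (nat_lit 23575), (nat_lit 0x741c5001252d4d), (nat_lit 0)⟩))
 (.n (.n (.l ⟨(nat_lit 0xc0000d), (nat_lit 0x304420495), (nat_lit 0x19c7b0e81a), (nat_lit 0)⟩)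
 (.l ⟨(nat_lit 0xc0000d), (nat_lit 0x1e068100141f), (nat_lit 0x12cbc6688a0140153d70), (nat_lit 0)⟩))
 (.l ⟨(nat_lit 0xc0000d), (nat_lit 0x1b0482207007), (nat_lit 0x19c5f13c7400c05005415d99b), (nat_lit 0)⟩)))
 (.n (.n (.n (.l ⟨(nat_lit 0xc0000d), (nat_lit 0x6c281a841), (nat_lit 0x1a4f44a037), (nat_lit 0)⟩)
 (.l ⟨(nat_lit 0xc0000d), (nat_lit 0x1406c1106415), (nat_lit 0x6062c81065435254f), (nat_lit 0)⟩))
 (.l ⟨(nat_lit 0xa0000d), (nat_lit 0x14150141107012), (nat_lit 0x225e46c0ec050054955d90), (nat_lit 0)⟩))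
 (.n (.n (.l ⟨(nat_lit 0x120000d), (nat_lit 0xc49522853), (nat_lit 0x1b4071b8eb), (nat_lit 0)⟩)
 (.l ⟨(nat_lit 0xc00013), (nat_lit 0x1706c1201415), (nat_lit 0x441512f0a8050055860993), (nat_lit 0)⟩))
 (.l ⟨(nat_lit 0xc0000d), (nat_lit 0x200701707011), (nat_lit 0x54854a8895a16c), (nat_lit 0)⟩)))))
 (.n (.n (.n (.n (.n (.l ⟨(nat_lit 0xc0000b), (nat_lit 0x797e4e05a), (nat_lit 0x1787942501), (nat_lit 0)⟩)
 (.l ⟨(nat_lit 0xc0000d), (nat_lit 0x1d0701201415), (nat_lit 0x31568640fd58), (nat_lit 0)⟩))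
 (.n (.l ⟨(nat_lit 0x200003), (nat_lit 24583), (nat_lit 0x30f15b80761172), (nat_lit 0)⟩)
 (.l ⟨(nat_lit 0xc00015), (nat_lit 0x50190740b), (nat_lit 0x510515500c05005435fd99), (nat_lit 0)⟩)))
 (.n (.n (.l ⟨(nat_lit 0xc0000d), (nat_lit 0x5e13470), (nat_lit 0xd95d07867), (nat_lit 0)⟩)
 (.l ⟨(nat_lit 0x120000d), (nat_lit 0x22068180701e), (nat_lit 0x15d2761c4154172), (nat_lit 0)⟩))
 (.l ⟨(nat_lit 0xe0000d), (nat_lit 0x210701207012), (nat_lit 0x1021b9070155c5d570), (nat_lit 0)⟩)))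
 (.n (.n (.n (.l ⟨(nat_lit 0xc0000d), (nat_lit 0xc06854533), (nat_lit 0x6cbd44013), (nat_lit 0)⟩)
 (.l ⟨(nat_lit 0xc0000d), (nat_lit 0x120641407007), (nat_lit 0x6459986031545e994), (nat_lit 0)⟩))
 (.l ⟨(nat_lit 0x140000b), (nat_lit 0x701707010), (nat_lit 0xb109671f14c67981), (nat_lit 0)⟩))
 (.n (.n (.l ⟨(nat_lit 0x1000007), (nat_lit 0x907a06486), (nat_lit 0x188020030140101007), (nat_lit 0)⟩)
 (.l ⟨(nat_lit 0xa0000f), (nat_lit 0x6c1106c1207010), (nat_lit 0x1d1045606805005535fd64), (nat_lit 0)⟩))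
 (.l ⟨(nat_lit 0xc0000d), (nat_lit 0x6c0706c0f07007), (nat_lit 0x181880b0817364560), (nat_lit 0)⟩))))
 (.n (.n (.n (.n (.l ⟨(nat_lit 0xc0000d), (nat_lit 0xdd9d3f007), (nat_lit 0xec3f1981d), (nat_lit 0)⟩)
 (.l ⟨(nat_lit 0x120000d), (nat_lit 0x14014140641d), (nat_lit 0x700613b4555363190), (nat_lit 0)⟩))
 (.l ⟨(nat_lit 0xe0000b), (nat_lit 0x401f07011), (nat_lit 0x1901d1561214963994), (nat_lit 0)⟩))
 (.n (.n (.l ⟨(nat_lit 0xc0000d), (nat_lit 0xdc151783f), (nat_lit 0x16d514bc40), (nat_lit 0)⟩)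
 (.l ⟨(nat_lit 0xc0000d), (nat_lit 0x120142207014), (nat_lit 0x5494871e0050054a67195), (nat_lit 0)⟩))
 (.l ⟨(nat_lit 0xc0000d), (nat_lit 0x1b04c1b04c03), (nat_lit 0x1c7004401555585840800c050040401d435d583), (nat_lit 0)⟩)))
 (.n (.n (.n (.l ⟨(nat_lit 0xc0000d), (nat_lit 0x152521c78), (nat_lit 0xd80c18475), (nat_lit 0)⟩)
 (.l ⟨(nat_lit 0xc0000d), (nat_lit 0x640706c0f07011), (nat_lit 0x6014d123e0050055f61552), (nat_lit 0)⟩))
 (.l ⟨(nat_lit 0xc0000d), (nat_lit 0x1706c2207016), (nat_lit 0x6d4e8491c1536357e), (nat_lit 0)⟩))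
 (.n (.n (.l ⟨(nat_lit 0x1400007), (nat_lit 0x58e112482), (nat_lit 0x1517e3b082), (nat_lit 0)⟩)
 (.l ⟨(nat_lit 0xc00013), (nat_lit 0x1c0681807007), (nat_lit 0x310312d134050055166174), (nat_lit 0)⟩))
 (.l ⟨(nat_lit 0xc0000d), (nat_lit 0x700f01420), (nat_lit 0x4d1a15d4cd7d), (nat_lit 0)⟩))))))
 (.n (.n (.n (.n (.n (.n (.l ⟨(nat_lit 0xa00007), (nat_lit 0xa4fc47821), (nat_lit 0x74241d864), (nat_lit 0)⟩)
 (.l ⟨(nat_lit 0xc0000d), (nat_lit 0x120682106415), (nat_lit 0x212886e02d455e57e), (nat_lit 0)⟩))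
 (.n (.l ⟨(nat_lit 0x140000d), (nat_lit 0x13cf95d811), (nat_lit 0x347860009), (nat_lit 0)⟩)
 (.l ⟨(nat_lit 0xc00015), (nat_lit 0x1306c1307016), (nat_lit 0x390511800c05005655518b), (nat_lit 0)⟩)))
 (.n (.n (.l ⟨(nat_lit 0xc0000d), (nat_lit 0x10d6516c48), (nat_lit 0x184662bc68), (nat_lit 0)⟩)
 (.l ⟨(nat_lit 0xc0000d), (nat_lit 0x130681307014), (nat_lit 0x609f1983c0140167196), (nat_lit 0)⟩))
 (.l ⟨(nat_lit 0xc0000d), (nat_lit 0x150640707014), (nat_lit 0x5041c20389435258d), (nat_lit 0)⟩)))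
 (.n (.n (.n (.l ⟨(nat_lit 0xc0000d), (nat_lit 0xc84f05889), (nat_lit 0x5ac1d60845), (nat_lit 0)⟩)
 (.l ⟨(nat_lit 0x140000d), (nat_lit 0x6c200680f0141e), (nat_lit 0x3749c714195d57d99), (nat_lit 0)⟩))
 (.l ⟨(nat_lit 0xc0000b), (nat_lit 0x681107011), (nat_lit 0x331b50d4d15167182), (nat_lit 0)⟩))
 (.n (.n (.l ⟨(nat_lit 0xe0000d), (nat_lit 0x609562831), (nat_lit 0x54223d029), (nat_lit 0)⟩)
 (.l ⟨(nat_lit 0x140000f), (nat_lit 11), (nat_lit 0x785e3d0225054f598020180c50543), (nat_lit 0)⟩))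
 (.l ⟨(nat_lit 0xc0000d), (nat_lit 0x120681807007), (nat_lit 0x484cc8211d5d6798b), (nat_lit 0)⟩))))
 (.n (.n (.n (.n (.l ⟨(nat_lit 0xc0000b), (nat_lit 0x2d9319410), (nat_lit 0x208374c417), (nat_lit 0)⟩)
 (.l ⟨(nat_lit 0xa0000d), (nat_lit 0x1e070210141d), (nat_lit 0xe4825d419014016099a), (nat_lit 0)⟩))
 (.l ⟨(nat_lit 0xc0000b), (nat_lit 0x681706c1007007), (nat_lit 0x4d594bd1794957d6a), (nat_lit 0)⟩))
 (.n (.n (.l ⟨(nat_lit 0xc0000d), (nat_lit 0x190a314d16), (nat_lit 0x3213c580c14c5b992020030140101007), (nat_lit 0)⟩)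
 (.l ⟨(nat_lit 0xa0000d), (nat_lit 0x5c170141207007), (nat_lit 0x1165cf1150050055367570), (nat_lit 0)⟩))
 (.l ⟨(nat_lit 0xc0000d), (nat_lit 0x3c1e06c1307007), (nat_lit 0x444f95b0415157d89), (nat_lit 0)⟩)))
 (.n (.n (.n (.l ⟨(nat_lit 0xc0000d), (nat_lit 0x1b93028c35), (nat_lit 0x13d5d1e596), (nat_lit 0)⟩)
 (.l ⟨(nat_lit 0xc0000d), (nat_lit 0x110681607011), (nat_lit 0x645811c1818d6540800c050040401d475957d), (nat_lit 0)⟩))
 (.l ⟨(nat_lit 0xa0000d), (nat_lit 0x681f0141407007), (nat_lit 0x635b8274f805005676419d), (nat_lit 0)⟩))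
 (.n (.n (.l ⟨(nat_lit 0x120000d), (nat_lit 0x885062828), (nat_lit 0xc07b4e47b), (nat_lit 0)⟩)
 (.l ⟨(nat_lit 0xc00013), (nat_lit 0x1306c2106815), (nat_lit 0x55591140b014015997c), (nat_lit 0)⟩))
 (.l ⟨(nat_lit 0xc0000d), (nat_lit 0x580f0140707007), (nat_lit 0x4a45e1940c5f545), (nat_lit 0)⟩)))))
 (.n (.n (.n (.n (.n (.l ⟨(nat_lit 0xc0000b), (nat_lit 0x18d9305428), (nat_lit 0x6a4a4801d401), (nat_lit 0)⟩)
 (.l ⟨(nat_lit 0xc0000d), (nat_lit 0x41b0501a04803), (nat_lit 0x934e8750e9415698a), (nat_lit 0)⟩))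
 (.n (.l ⟨(nat_lit 0xc00007), (nat_lit 0xc180682207007), (nat_lit 0x211b0430fc050054a5998d), (nat_lit 0)⟩)
 (.l ⟨(nat_lit 0xc00015), (nat_lit 0x1406c0707013), (nat_lit 0x304d19a058050054565d90), (nat_lit 0)⟩)))
 (.n (.n (.l ⟨(nat_lit 0xc0000d), (nat_lit 0x668571c41c), (nat_lit 0x13c4e61459), (nat_lit 0)⟩)
 (.l ⟨(nat_lit 0xc0000d), (nat_lit 0x681106c0f07007), (nat_lit 0x859b4bc80014015157f57c0800c050040401d4b64552), (nat_lit 0)⟩))
 (.l ⟨(nat_lit 0x60000d), (nat_lit 0x141f0681d), (nat_lit 0x3220d3207d7160c0800c050040401d415f571), (nat_lit 0)⟩)))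
 (.n (.n (.n (.l ⟨(nat_lit 0xc0000d), (nat_lit 0x14c6c4fc24), (nat_lit 0x14ca1170ff), (nat_lit 0)⟩)
 (.l ⟨(nat_lit 0xc0000d), (nat_lit 0x741c05c1c05003), (nat_lit 0x19161380c8050055362d47), (nat_lit 0)⟩))
 (.l ⟨(nat_lit 0xc0000d), (nat_lit 0x1606815), (nat_lit 0x1711511c5a0055b5ed9b), (nat_lit 0)⟩))
 (.n (.n (.l ⟨(nat_lit 0x120000d), (nat_lit 0x9c5010405), (nat_lit 0x788021044), (nat_lit 0)⟩)
 (.l ⟨(nat_lit 0xc0000f), (nat_lit 0x1d068180141e), (nat_lit 0x5f5686e4e0050054363952), (nat_lit 0)⟩))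
 (.l ⟨(nat_lit 0xc0000d), (nat_lit 0x106c1801415), (nat_lit 0x351717e180050054361188), (nat_lit 0)⟩))))
 (.n (.n (.n (.n (.l ⟨(nat_lit 0xc0000d), (nat_lit 0x1bd8119457), (nat_lit 0xcc7e06105), (nat_lit 0)⟩)
 (.l ⟨(nat_lit 0xc0000d), (nat_lit 0x160641307012), (nat_lit 0x6d17d9c05805005475817a), (nat_lit 0)⟩))
 (.l ⟨(nat_lit 0xc0000b), (nat_lit 0x220701107011), (nat_lit 0x9c8449c800054954583), (nat_lit 0)⟩))
 (.n (.n (.l ⟨(nat_lit 0xc0000d), (nat_lit 0x1a81b1a089), (nat_lit 0x1485747479), (nat_lit 0)⟩)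
 (.l ⟨(nat_lit 0xc0000d), (nat_lit 0x641206c1707007), (nat_lit 0xd5b5341554558d7d), (nat_lit 0)⟩))
 (.l ⟨(nat_lit 0xa0000d), (nat_lit 0x1d0142107007), (nat_lit 0x65605ec6f0140155152), (nat_lit 0)⟩)))
 (.n (.n (.n (.l ⟨(nat_lit 0xc0000d), (nat_lit 0x1b9090c401), (nat_lit 0x695113812), (nat_lit 0)⟩)
 (.l ⟨(nat_lit 0xc0000d), (nat_lit 0x141706c1f07011), (nat_lit 0x5e17d6807c050054159591), (nat_lit 0)⟩))
 (.l ⟨(nat_lit 0x140000d), (nat_lit 0x580f06815), (nat_lit 0x1a8524d0075c967), (nat_lit 0)⟩))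
 (.n (.n (.l ⟨(nat_lit 0x140000d), (nat_lit 0x45973c454), (nat_lit 0x4ac395743b), (nat_lit 0)⟩)
 (.l ⟨(nat_lit 0xc00013), (nat_lit 0x1d0641507011), (nat_lit 0x66140fc5d4050055265597), (nat_lit 0)⟩))
 (.l ⟨(nat_lit 0x120000d), (nat_lit 0x14064100641d), (nat_lit 0x404e0753d1415a988), (nat_lit 0)⟩)))))))
 (.n (.n (.n (.n (.n (.n (.n (.l ⟨(nat_lit 0x600007), (nat_lit 0x14c6b0c194), (nat_lit 0x1ac830780c), (nat_lit 0)⟩)
 (.l ⟨(nat_lit 0xc0000d), (nat_lit 0x1b0840504c03), (nat_lit 0x5d229590394d52994), (nat_lit 0)⟩))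
 (.n (.l ⟨(nat_lit 0x140000d), (nat_lit 0xa4671206e), (nat_lit 0x130571f112), (nat_lit 0)⟩)
 (.l ⟨(nat_lit 0xc00015), (nat_lit 0x6c1807016), (nat_lit 0x6c1084e20c05005606217a), (nat_lit 0)⟩)))
 (.n (.n (.l ⟨(nat_lit 0xc0000d), (nat_lit 0x14c274c07d), (nat_lit 0x3546a4381b), (nat_lit 0)⟩)
 (.l ⟨(nat_lit 0xc0000d), (nat_lit 0xf06c140701e), (nat_lit 0x333e05d3fd4b59966), (nat_lit 0)⟩))
 (.l ⟨(nat_lit 0xc0000d), (nat_lit 0x1b0241f07007), (nat_lit 0x3f1c58e14d4c5cd57), (nat_lit 0)⟩)))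
 (.n (.n (.n (.l ⟨(nat_lit 0xc0000d), (nat_lit 0x90765dc1a), (nat_lit 0x4152218823), (nat_lit 0)⟩)
 (.l ⟨(nat_lit 0x120000d), (nat_lit 0x16014140141f), (nat_lit 0x5e1e01e30d435b56301d45), (nat_lit 0)⟩))
 (.l ⟨(nat_lit 0xc0000b), (nat_lit 0x22068140641d), (nat_lit 0x1924d37219516098b), (nat_lit 0)⟩))
 (.n (.n (.l ⟨(nat_lit 0xe0000d), (nat_lit 0x10c095ec39), (nat_lit 0x2961d241b801), (nat_lit 0)⟩)
 (.l ⟨(nat_lit 0xc0000d), (nat_lit 0x6c1106c1607011), (nat_lit 0x622d90a00c05005496457e), (nat_lit 0)⟩))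
 (.l ⟨(nat_lit 0xc0000d), (nat_lit 0x1b04c1a07810), (nat_lit 0x28548641e8050054763965), (nat_lit 0)⟩))))
 (.n (.n (.n (.n (.l ⟨(nat_lit 0xc0000b), (nat_lit 0x134771a858), (nat_lit 0x1d87d4e450), (nat_lit 0)⟩)
 (.l ⟨(nat_lit 0x120000d), (nat_lit 0x68210701d), (nat_lit 0x242d477035495ed81), (nat_lit 0)⟩))
 (.l ⟨(nat_lit 0x1400009), (nat_lit 0x701701415), (nat_lit 0x88640902750d69), (nat_lit 0)⟩))
 (.n (.n (.l ⟨(nat_lit 0xc0000d), (nat_lit 0x17ca164403), (nat_lit 0x111735b850), (nat_lit 0)⟩)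
 (.l ⟨(nat_lit 0xc0000d), (nat_lit 0x120681f07011), (nat_lit 0x1a638830254c5cd72), (nat_lit 0)⟩))
 (.l ⟨(nat_lit 0xc0000d), (nat_lit 0x1f06c0f07011), (nat_lit 0x5c57c2f1b14764593), (nat_lit 0)⟩)))
 (.n (.n (.n (.l ⟨(nat_lit 0x60000d), (nat_lit 0x201964343c), (nat_lit 0x1253d1b929), (nat_lit 0)⟩)
 (.l ⟨(nat_lit 0x140000d), (nat_lit 0x781c04c1b05c03), (nat_lit 0x91008703d596457e), (nat_lit 0)⟩))
 (.l ⟨(nat_lit 0xc0000d), (nat_lit 0x1304c03), (nat_lit 0x401f0c213d4b60992), (nat_lit 0)⟩))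
 (.n (.n (.l ⟨(nat_lit 0x120000d), (nat_lit 0x454431bc14), (nat_lit 0x17d2266c27), (nat_lit 0)⟩)
 (.l ⟨(nat_lit 0xc00013), (nat_lit 0x701d0140f07010), (nat_lit 0x515a4725f4050054756986), (nat_lit 0)⟩))
 (.l ⟨(nat_lit 0xc0000d), (nat_lit 0x1c1b0880707010), (nat_lit 0x5e4ad3410c050055b5e954), (nat_lit 0)⟩)))))
 (.n (.n (.n (.n (.n (.l ⟨(nat_lit 0xc0000b), (nat_lit 0x471617613001), (nat_lit 0x170d350052), (nat_lit 0)⟩)
 (.l ⟨(nat_lit 0xc0000d), (nat_lit 0x681e07017), (nat_lit 0x18d3e06f0795153d9b), (nat_lit 0)⟩))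
 (.n (.l ⟨(nat_lit 0x1400007), (nat_lit 31), (nat_lit 0), (nat_lit 0)⟩)
 (.l ⟨(nat_lit 0xa00015), (nat_lit 0x64160641707007), (nat_lit 0x524382800405005455c97b), (nat_lit 0)⟩)))
 (.n (.n (.l ⟨(nat_lit 0xc0000d), (nat_lit 0xc11690f), (nat_lit 0x525290c00b), (nat_lit 0)⟩)
 (.l ⟨(nat_lit 0xc0000d), (nat_lit 0x16070130141e), (nat_lit 0x10c080640354f5a185), (nat_lit 0)⟩))
 (.l ⟨(nat_lit 0xc0000d), (nat_lit 0x68140141f), (nat_lit 0x650866c5b0056a6200800c050040401d4c5e994), (nat_lit 0)⟩)))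
 (.n (.n (.n (.l ⟨(nat_lit 0xc0000d), (nat_lit 0x808a35510), (nat_lit 0x151f20c30), (nat_lit 0)⟩)
 (.l ⟨(nat_lit 0xc0000d), (nat_lit 0x210142007017), (nat_lit 0x622d45805005005676698e), (nat_lit 0)⟩))
 (.l ⟨(nat_lit 0xc0000d), (nat_lit 16), (nat_lit 0xa1581d41c50545), (nat_lit 0)⟩))
 (.n (.n (.l ⟨(nat_lit 0x120000b), (nat_lit 0x440598517c01), (nat_lit 0x1a0f711034), (nat_lit 0)⟩)
 (.l ⟨(nat_lit 0xc0000f), (nat_lit 0x841d06416), (nat_lit 0x1551bc6f05405005525e18e), (nat_lit 0)⟩))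
 (.l ⟨(nat_lit 0xa0000d), (nat_lit 0x1e0641307012), (nat_lit 0x5d8b048630140164d90), (nat_lit 0)⟩))))
 (.n (.n (.n (.n (.l ⟨(nat_lit 0xc0000d), (nat_lit 0x1518c6317c03), (nat_lit 0x3c5c3481e), (nat_lit 0)⟩)
 (.l ⟨(nat_lit 0xe0000d), (nat_lit 0x60120680707011), (nat_lit 0x591e90c1f94d61d47), (nat_lit 0)⟩))
 (.l ⟨(nat_lit 0xc0000b), (nat_lit 0x840503c03), (nat_lit 0x1206c0a0b65bd82), (nat_lit 0)⟩))
 (.n (.n (.l ⟨(nat_lit 0xc0000d), (nat_lit 0xdd0522828), (nat_lit 0x1d8114416541935f008), (nat_lit 0)⟩)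
 (.l ⟨(nat_lit 0xc0000d), (nat_lit 0x241e0700707007), (nat_lit 0x5b05d76124050054d66973), (nat_lit 0)⟩))
 (.l ⟨(nat_lit 0xc0000d), (nat_lit 0x481f0641107007), (nat_lit 0x59564580a54358d6d), (nat_lit 0)⟩)))
 (.n (.n (.n (.l ⟨(nat_lit 0xc0000d), (nat_lit 0x1a0311f8b5), (nat_lit 0x350e5d087), (nat_lit 0)⟩)
 (.l ⟨(nat_lit 0xc0000d), (nat_lit 0x200681207010), (nat_lit 0x1b1612b0514166968), (nat_lit 0)⟩))
 (.l ⟨(nat_lit 0xe0000d), (nat_lit 0x6c1701420), (nat_lit 0x2f15c791dd9962c0800c050040401d4159567), (nat_lit 0)⟩))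
 (.n (.n (.l ⟨(nat_lit 0x140000b), (nat_lit 0x5d0104005), (nat_lit 0x100a121418), (nat_lit 0)⟩)
 (.l ⟨(nat_lit 0xc00013), (nat_lit 0x701706c1606415), (nat_lit 0x5c03074088050054162d90), (nat_lit 0)⟩))
 (.l ⟨(nat_lit 0xc0000d), (nat_lit 0x482207013), (nat_lit 0x501306907c05005455498a), (nat_lit 0)⟩))))))
 (.n (.n (.n (.n (.n (.n (.l ⟨(nat_lit 0xc00009), (nat_lit 0x1a1681440f), (nat_lit 0xe5691b011), (nat_lit 0)⟩)
 (.l ⟨(nat_lit 0xa0000d), (nat_lit 0x160142106c1e), (nat_lit 0x1605f5fc840140161d80), (nat_lit 0)⟩))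
 (.n (.l ⟨(nat_lit 0x140000d), (nat_lit 0xa4414086e), (nat_lit 0x2bc5946c27), (nat_lit 0)⟩)
 (.l ⟨(nat_lit 0xa00015), (nat_lit 0x1e06c1e), (nat_lit 0x1543d741d805005476656a), (nat_lit 0)⟩)))
 (.n (.n (.l ⟨(nat_lit 0xc0000d), (nat_lit 0xa98365010), (nat_lit 0x504e1b086), (nat_lit 0)⟩)
 (.l ⟨(nat_lit 0xc0000d), (nat_lit 0x200680f0141e), (nat_lit 0x61154346155862594), (nat_lit 0)⟩))
 (.l ⟨(nat_lit 0xc0000d), (nat_lit 0x1b0301207014), (nat_lit 0x12812c77078050055761998), (nat_lit 0)⟩)))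
 (.n (.n (.n (.l ⟨(nat_lit 0xc0000d), (nat_lit 0x1a13907c4c), (nat_lit 0xd99767016), (nat_lit 0)⟩)
 (.l ⟨(nat_lit 0x140000d), (nat_lit 0x1e06c1307012), (nat_lit 0xd5184ec09d475498d), (nat_lit 0)⟩))
 (.l ⟨(nat_lit 0xc0000b), (nat_lit 0x120641f), (nat_lit 0x594cc51621515d180), (nat_lit 0)⟩))
 (.n (.n (.l ⟨(nat_lit 0xe0000d), (nat_lit 0x19c7f1745f), (nat_lit 0x16c783dc32), (nat_lit 0)⟩)
 (.l ⟨(nat_lit 0xa0000f), (nat_lit 0x16014110141e), (nat_lit 0x511804006405005435618f), (nat_lit 0)⟩))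
 (.l ⟨(nat_lit 0xc0000d), (nat_lit 0x1b0801a0840b), (nat_lit 0x1b1872886357972), (nat_lit 0)⟩))))
 (.n (.n (.n (.n (.l ⟨(nat_lit 0xc0000b), (nat_lit 0x180184fc20), (nat_lit 0x18c4d3e46a), (nat_lit 0)⟩)
 (.l ⟨(nat_lit 0xc0000d), (nat_lit 0x38210701107007), (nat_lit 0x5e444eb1c405005575918e), (nat_lit 0)⟩))
 (.l ⟨(nat_lit 0xc0000b), (nat_lit 0x1d070160701d), (nat_lit 0x1a2c4724fd4f6617a), (nat_lit 0)⟩))
 (.n (.n (.l ⟨(nat_lit 0xc0000d), (nat_lit 0xe86a1d16b), (nat_lit 0x130b54b069), (nat_lit 0)⟩)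
 (.l ⟨(nat_lit 0xc0000d), (nat_lit 0x1d014070141e), (nat_lit 0x6b5d830178050059259956), (nat_lit 0)⟩))
 (.l ⟨(nat_lit 0xc0000d), (nat_lit 0x441307007), (nat_lit 0x565a45a0d0050054d57959), (nat_lit 0)⟩)))
 (.n (.n (.n (.l ⟨(nat_lit 0xc0000d), (nat_lit 0xcd202001d), (nat_lit 0x1d15e1ac19), (nat_lit 0)⟩)
 (.l ⟨(nat_lit 0xc0000d), (nat_lit 0x150681707012), (nat_lit 0x5d2450d170050054558186), (nat_lit 0)⟩))
 (.l ⟨(nat_lit 0xe0000d), (nat_lit 0x68220682007007), (nat_lit 0x1b41c6003c50d4a), (nat_lit 0)⟩))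
 (.n (.n (.l ⟨(nat_lit 0x120000f), (nat_lit 0xa5251dc80), (nat_lit 0x160fd48883), (nat_lit 0)⟩)
 (.l ⟨(nat_lit 0xc00013), (nat_lit 0x141406c2107013), (nat_lit 0x225941d8050054f54582), (nat_lit 0)⟩))
 (.l ⟨(nat_lit 0xa0000d), (nat_lit 0x160141f07017), (nat_lit 0x401591f164050054b5fd4a), (nat_lit 0)⟩)))))
 (.n (.n (.n (.n (.n (.l ⟨(nat_lit 0xc0000b), (nat_lit 0x1056614510), (nat_lit 0x1c321e058), (nat_lit 0)⟩)
 (.l ⟨(nat_lit 0x60000d), (nat_lit 0x68220681107010), (nat_lit 0x241a981034050054a56984), (nat_lit 0)⟩))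
 (.n (.l ⟨(nat_lit 0x600007), (nat_lit 0x4c1b0801a04803), (nat_lit 0x391d96802c050054a66960), (nat_lit 0)⟩)
 (.l ⟨(nat_lit 0xc00015), (nat_lit 0x1e0141f06c16), (nat_lit 0x384885b405005475994a), (nat_lit 0)⟩)))
 (.n (.n (.l ⟨(nat_lit 0xc0000d), (nat_lit 0x1093113815), (nat_lit 0x12c834893c), (nat_lit 0)⟩)
 (.l ⟨(nat_lit 0x60000d), (nat_lit 0x60030140707007), (nat_lit 0x4d7f1f850004050055266196), (nat_lit 0)⟩))
 (.l ⟨(nat_lit 0xc0000d), (nat_lit 0x801b0381407007), (nat_lit 0x674b4f81a0050055056182), (nat_lit 0)⟩)))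
 (.n (.n (.n (.l ⟨(nat_lit 0xc0000d), (nat_lit 0x1ac2a1507d), (nat_lit 0x1a521090f4), (nat_lit 0)⟩)
 (.l ⟨(nat_lit 0xc0000d), (nat_lit 0x220681707010), (nat_lit 0x1d384860c005005535f567), (nat_lit 0)⟩))
 (.l ⟨(nat_lit 0xe0000d), (nat_lit 24594), (nat_lit 0x611551f0e9435d977), (nat_lit 0)⟩))
 (.n (.n (.l ⟨(nat_lit 0x120000d), (nat_lit 0x1313f164a1), (nat_lit 0x10964638205157267808), (nat_lit 0)⟩)
 (.l ⟨(nat_lit 0xc00011), (nat_lit 0x1b0541f07010), (nat_lit 0x6660078090050054753d75), (nat_lit 0)⟩))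
 (.l ⟨(nat_lit 0xc0000d), (nat_lit 0x641306c1f07011), (nat_lit 0x13617d8f080050054967170), (nat_lit 0)⟩))))
 (.n (.n (.n (.n (.l ⟨(nat_lit 0xc0000d), (nat_lit 0x14d303f836), (nat_lit 0x318f0900b), (nat_lit 0)⟩)
 (.l ⟨(nat_lit 0xc0000d), (nat_lit 0x681f0680707011), (nat_lit 0x10c5b1c0af50d99604020180a00c020180401d4560576), (nat_lit 0)⟩))
 (.l ⟨(nat_lit 0xe0000b), (nat_lit 0x840f01415), (nat_lit 0x9f6041050550), (nat_lit 0)⟩))
 (.n (.n (.l ⟨(nat_lit 0xc0000d), (nat_lit 0x15d6708d3e), (nat_lit 0xa0eb1b12b), (nat_lit 0)⟩)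
 (.l ⟨(nat_lit 0xc0000d), (nat_lit 0x14160701e07011), (nat_lit 0x3105877184050055759d9e), (nat_lit 0)⟩))
 (.l ⟨(nat_lit 0xe0000d), (nat_lit 0x1c1b07807), (nat_lit 0x15088f40a54a5cd5e), (nat_lit 0)⟩)))
 (.n (.n (.n (.l ⟨(nat_lit 0xc0000d), (nat_lit 0x1441746003), (nat_lit 0x164604140f), (nat_lit 0)⟩)
 (.l ⟨(nat_lit 0xc0000d), (nat_lit 0x141406c1407013), (nat_lit 0x5707c7f4e805005415819d), (nat_lit 0)⟩))
 (.l ⟨(nat_lit 0xe0000d), (nat_lit 0x2207016), (nat_lit 0xc4986e14d5a6217d), (nat_lit 0)⟩))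
 (.n (.n (.l ⟨(nat_lit 0x140000d), (nat_lit 0x8c1b17075), (nat_lit 0x155211d039), (nat_lit 0)⟩)
 (.l ⟨(nat_lit 0xc00013), (nat_lit 0x120682007012), (nat_lit 0x600456505805005415f593), (nat_lit 0)⟩))
 (.l ⟨(nat_lit 0xc0000d), (nat_lit 0x781a0481c02c07), (nat_lit 0x1054886208d4364998), (nat_lit 0)⟩)))))))
noncomputable def T19 : Tr :=
  .n (.n (.n (.n (.n (.n (.n (.n (.l ⟨(nat_lit 0xc00003), (nat_lit 3090), (nat_lit 0), (nat_lit 0)⟩)
 (.l ⟨(nat_lit 0xc0000d), (nat_lit 0x141701416), (nat_lit 0x135b98e01c05005556259b), (nat_lit 0)⟩))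
 (.n (.l ⟨(nat_lit 0x140000d), (nat_lit 0xf0d14a411), (nat_lit 0x4d890648652d8452407), (nat_lit 0)⟩)
 (.l ⟨(nat_lit 0x1000013), (nat_lit 0x1d0701e07007), (nat_lit 0x5c11d9c12405005415e59b), (nat_lit 0)⟩)))
 (.n (.n (.l ⟨(nat_lit 0xc0000d), (nat_lit 0x744b5a8f4), (nat_lit 0x807f11186), (nat_lit 0)⟩)
 (.l ⟨(nat_lit 0xc0000d), (nat_lit 0x680f06c0f07007), (nat_lit 0x40664f01c014015a96d), (nat_lit 0)⟩))
 (.l ⟨(nat_lit 0x120000d), (nat_lit 0x200141507007), (nat_lit 0x5a1cc350894758d89), (nat_lit 0)⟩)))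
 (.n (.n (.n (.l ⟨(nat_lit 0xc0000d), (nat_lit 0x5d944c483), (nat_lit 0x1b93d16070), (nat_lit 0)⟩)
 (.l ⟨(nat_lit 0xc0000d), (nat_lit 0x641106c0f07007), (nat_lit 0x4d05931055796680800c050040401d475b18c), (nat_lit 0)⟩))
 (.l ⟨(nat_lit 0x120000b), (nat_lit 0x1306c0707007), (nat_lit 0x6e1e5520614b5e18b), (nat_lit 0)⟩))
 (.n (.n (.l ⟨(nat_lit 0xe00007), (nat_lit 0x3d9035807), (nat_lit 0x1a12a1e00b), (nat_lit 0)⟩)
 (.l ⟨(nat_lit 0xc0000d), (nat_lit 0x48200141007011), (nat_lit 0x292e0572e14d66d8b), (nat_lit 0)⟩))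
 (.l ⟨(nat_lit 0xc0000d), (nat_lit 0x1b0401f01415), (nat_lit 0x321fcd501d4a65d54), (nat_lit 0)⟩))))
 (.n (.n (.n (.n (.l ⟨(nat_lit 0xc0000b), (nat_lit 0xd95a2207a), (nat_lit 0x1b46b1a90a), (nat_lit 0)⟩)
 (.l ⟨(nat_lit 0xc0000d), (nat_lit 0x701406821), (nat_lit 0x181083043655967), (nat_lit 0)⟩))
 (.n (.l ⟨(nat_lit 0x1000007), (nat_lit 0x200682007007), (nat_lit 0), (nat_lit 0)⟩)
 (.l ⟨(nat_lit 0xa00015), (nat_lit 0x1b04c1b0780b), (nat_lit 0x672887812c050056a6098e), (nat_lit 0)⟩)))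
 (.n (.n (.l ⟨(nat_lit 0xc0000d), (nat_lit 0x2d1e0fc7c), (nat_lit 0x13c6660452), (nat_lit 0)⟩)
 (.l ⟨(nat_lit 0xc0000d), (nat_lit 0x241f0700707007), (nat_lit 0x684e41f130050055a58190), (nat_lit 0)⟩))
 (.l ⟨(nat_lit 0xc0000d), (nat_lit 0x741c0480b), (nat_lit 0x1b84f4441e50d4a), (nat_lit 0)⟩)))
 (.n (.n (.n (.l ⟨(nat_lit 0xc0000d), (nat_lit 0x4b44f13812), (nat_lit 0xc0503ac18), (nat_lit 0)⟩)
 (.l ⟨(nat_lit 0xc0000d), (nat_lit 0x1106c1306815), (nat_lit 0x1b21d6c2c9476259a), (nat_lit 0)⟩))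
 (.l ⟨(nat_lit 0xa0000d), (nat_lit 20500), (nat_lit 0x3127c3502c05005436159e), (nat_lit 0)⟩))
 (.n (.n (.l ⟨(nat_lit 0x120000d), (nat_lit 0x132cc5e), (nat_lit 0x17cf94241b), (nat_lit 0)⟩)
 (.l ⟨(nat_lit 0xc00013), (nat_lit 0x106c1307017), (nat_lit 0x4c4bd2104805005556618a), (nat_lit 0)⟩))
 (.l ⟨(nat_lit 0xc0000d), (nat_lit 0x1c0841b05c03), (nat_lit 0x7170891a94d67579), (nat_lit 0)⟩)))))
 (.n (.n (.n (.n (.n (.l ⟨(nat_lit 0xc00009), (nat_lit 0x4906e1601b), (nat_lit 0x45321b905), (nat_lit 0)⟩)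
 (.l ⟨(nat_lit 0x120000d), (nat_lit 0x702006c070141d), (nat_lit 0x1b48962885551925980861d74), (nat_lit 0)⟩))
 (.n (.l ⟨(nat_lit 0x1400013), (nat_lit 0x194555ad5a), (nat_lit 0x1b01914044), (nat_lit 0)⟩)
 (.l ⟨(nat_lit 0xc00015), (nat_lit 0x130700f0641d), (nat_lit 0x2244f074050054f5ed9b), (nat_lit 0)⟩)))
 (.n (.n (.l ⟨(nat_lit 0xc0000d), (nat_lit 0x160621341e), (nat_lit 0x1c684ed22), (nat_lit 0)⟩)
 (.l ⟨(nat_lit 0xc0000d), (nat_lit 0x640f06c1807007), (nat_lit 0x243a1992a0140164954), (nat_lit 0)⟩))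
 (.l ⟨(nat_lit 0x140000d), (nat_lit 0x1f0701d), (nat_lit 0x17c6f4902a005496459e), (nat_lit 0)⟩)))
 (.n (.n (.n (.l ⟨(nat_lit 0xc0000d), (nat_lit 0x14c835a07a), (nat_lit 0xdc4e2080d), (nat_lit 0)⟩)
 (.l ⟨(nat_lit 0xc0000d), (nat_lit 0x706c1406c21), (nat_lit 0x75987b4a95e67164), (nat_lit 0)⟩))
 (.l ⟨(nat_lit 0x60000b), (nat_lit 0x64220701207011), (nat_lit 0x14c295f41b58d4b), (nat_lit 0)⟩))
 (.n (.n (.l ⟨(nat_lit 0xe0000d), (nat_lit 0x41751553f), (nat_lit 0x10d901a0f8), (nat_lit 0)⟩)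
 (.l ⟨(nat_lit 0x120000f), (nat_lit 0x20014130141d), (nat_lit 0x583f52220d4356d7a), (nat_lit 0)⟩))
 (.l ⟨(nat_lit 0xc0000d), (nat_lit 0x6c110641f), (nat_lit 0x61d10200350140150570), (nat_lit 0)⟩))))
 (.n (.n (.n (.n (.l ⟨(nat_lit 0xc0000d), (nat_lit 0x1d5f55c07), (nat_lit 0x1d8164807), (nat_lit 0)⟩)
 (.l ⟨(nat_lit 0xc0000d), (nat_lit 0x1d06c1307012), (nat_lit 0x1391e19c72014015e551), (nat_lit 0)⟩))
 (.l ⟨(nat_lit 0xc0000b), (nat_lit 0x180681107014), (nat_lit 0x1b4781d631415f568), (nat_lit 0)⟩))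
 (.n (.n (.l ⟨(nat_lit 0xc0000d), (nat_lit 0x1a5081ac81), (nat_lit 0x245263027), (nat_lit 0)⟩)
 (.l ⟨(nat_lit 0xc0000d), (nat_lit 0x14210141107007), (nat_lit 0x3a1bc4b01405005555616d), (nat_lit 0)⟩))
 (.l ⟨(nat_lit 0xc0000d), (nat_lit 0x6c200681607013), (nat_lit 0x1a0750215d545e981), (nat_lit 0)⟩)))
 (.n (.n (.n (.l ⟨(nat_lit 0xc0000d), (nat_lit 0x184563f430), (nat_lit 0xbd13853), (nat_lit 0)⟩)
 (.l ⟨(nat_lit 0xc0000d), (nat_lit 0x210641e06816), (nat_lit 0x604ac30494050054351d64), (nat_lit 0)⟩))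
 (.l ⟨(nat_lit 0xc0000d), (nat_lit 0x2206821), (nat_lit 0x1110e5855318d), (nat_lit 0)⟩))
 (.n (.n (.l ⟨(nat_lit 0x1200013), (nat_lit 0x707a09c5a), (nat_lit 0x332059915d4d57d88020030140101007), (nat_lit 0)⟩)
 (.l ⟨(nat_lit 0xc00013), (nat_lit 0x1b0581d07007), (nat_lit 0x3c1946704c050054c59964), (nat_lit 0)⟩))
 (.l ⟨(nat_lit 0xc0000d), (nat_lit 0x41b0481905c03), (nat_lit 0x15144fb2014155d93), (nat_lit 0)⟩))))))
 (.n (.n (.n (.n (.n (.n (.l ⟨(nat_lit 0xa0000b), (nat_lit 0x30ec52), (nat_lit 0xa5115680b), (nat_lit 0)⟩)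
 (.l ⟨(nat_lit 0xc0000d), (nat_lit 0x1b0481707010), (nat_lit 0xf91651503c050055664d97), (nat_lit 0)⟩))
 (.n (.l ⟨(nat_lit 0x140000d), (nat_lit 0x2011059), (nat_lit 0x444f58029), (nat_lit 0)⟩)
 (.l ⟨(nat_lit 0xc00015), (nat_lit 0x680706416), (nat_lit 0xdc180140151593), (nat_lit 0)⟩)))
 (.n (.n (.l ⟨(nat_lit 0xc0000d), (nat_lit 0x7d7f1500d), (nat_lit 0x1ad804d840), (nat_lit 0)⟩)
 (.l ⟨(nat_lit 0xc0000d), (nat_lit 0xf06c070641d), (nat_lit 0x345a25077004050055064947), (nat_lit 0)⟩))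
 (.l ⟨(nat_lit 0x140000d), (nat_lit 0x70701e), (nat_lit 0x1553e06d3653172), (nat_lit 0)⟩)))
 (.n (.n (.n (.l ⟨(nat_lit 0xc0000d), (nat_lit 0x1717616c43), (nat_lit 0x1108342855), (nat_lit 0)⟩)
 (.l ⟨(nat_lit 0xc0000d), (nat_lit 0x210641207007), (nat_lit 0x2a1913b30805005415e594), (nat_lit 0)⟩))
 (.l ⟨(nat_lit 0x120000b), (nat_lit 0x170701f07011), (nat_lit 0x1a1f164419566515e), (nat_lit 0)⟩))
 (.n (.n (.l ⟨(nat_lit 0xe0000d), (nat_lit 0x6307211c16), (nat_lit 0x1743927c59), (nat_lit 0)⟩)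
 (.l ⟨(nat_lit 0xc0000d), (nat_lit 0x68160702107011), (nat_lit 0x331a04c014050054756957), (nat_lit 0)⟩))
 (.l ⟨(nat_lit 0xc0000d), (nat_lit 0x142207010), (nat_lit 0x4f0798e188050054161576), (nat_lit 0)⟩))))
 (.n (.n (.n (.n (.l ⟨(nat_lit 0xc0000b), (nat_lit 0x291a08648801), (nat_lit 0x1707e2019c), (nat_lit 0)⟩)
 (.l ⟨(nat_lit 0xc0000d), (nat_lit 0x130701106415), (nat_lit 0x16415244075a97a), (nat_lit 0)⟩))
 (.l ⟨(nat_lit 0xa0000a), (nat_lit 0x78190441b0741a0581a01c03), (nat_lit 0), (nat_lit 0)⟩))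
 (.n (.n (.l ⟨(nat_lit 0xc0000d), (nat_lit 0x60593e84b), (nat_lit 0x56c6a21814), (nat_lit 0)⟩)
 (.l ⟨(nat_lit 0xc0000d), (nat_lit 0x681106c1407010), (nat_lit 0x8192198b551d78), (nat_lit 0)⟩))
 (.l ⟨(nat_lit 0xc0000d), (nat_lit 0x180681801415), (nat_lit 0x311d86421405005535e199), (nat_lit 0)⟩)))
 (.n (.n (.n (.l ⟨(nat_lit 0xc0000d), (nat_lit 0x707313079), (nat_lit 0x2d6313c18), (nat_lit 0)⟩)
 (.l ⟨(nat_lit 0xe0000d), (nat_lit 0x120141f07007), (nat_lit 0x2f15c791dd525a98d02003014010100764d5c), (nat_lit 0)⟩))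
 (.l ⟨(nat_lit 0xc0000d), (nat_lit 0x1403003), (nat_lit 0x213447b3ec050054561d64), (nat_lit 0)⟩))
 (.n (.n (.l ⟨(nat_lit 0x120000d), (nat_lit 0x1c02a0486c), (nat_lit 0x1b489628855519259808), (nat_lit 0)⟩)
 (.l ⟨(nat_lit 0xc00013), (nat_lit 0x106c1401416), (nat_lit 0x2061c40048050055854592), (nat_lit 0)⟩))
 (.l ⟨(nat_lit 0xc0000d), (nat_lit 0xc06c1707011), (nat_lit 0x5a678515794d5c980), (nat_lit 0)⟩)))))
 (.n (.n (.n (.n (.n (.l ⟨(nat_lit 0xc0000b), (nat_lit 0x1398f06c58), (nat_lit 0x48eb1bc14), (nat_lit 0)⟩)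
 (.l ⟨(nat_lit 0xc0000d), (nat_lit 0x70070681307011), (nat_lit 0x46c444b4360140164571), (nat_lit 0)⟩))
 (.n (.l ⟨(nat_lit 0x600007), (nat_lit 0x2006c1d07007), (nat_lit 0x3c3e49401c05005415e563), (nat_lit 0)⟩)
 (.l ⟨(nat_lit 0xc00015), (nat_lit 0x100681d), (nat_lit 0x898f1913a014015b58c), (nat_lit 0)⟩)))
 (.n (.n (.l ⟨(nat_lit 0xc0000d), (nat_lit 0x1691e1c870), (nat_lit 0x253813c1c), (nat_lit 0)⟩)
 (.l ⟨(nat_lit 0xa0000d), (nat_lit 0x210681206415), (nat_lit 0x17c1685306c050054f59585), (nat_lit 0)⟩))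
 (.l ⟨(nat_lit 0x120000d), (nat_lit 0x1e06c0f0141e), (nat_lit 0x5a4b8782ed516716e), (nat_lit 0)⟩)))
 (.n (.n (.n (.l ⟨(nat_lit 0xc0000d), (nat_lit 0x10d1220419), (nat_lit 0x1bc62490b3), (nat_lit 0)⟩)
 (.l ⟨(nat_lit 0xc0000d), (nat_lit 0x701306c2207007), (nat_lit 0xc352143f00405005476658a), (nat_lit 0)⟩))
 (.l ⟨(nat_lit 0xa0000d), (nat_lit 0x1001415), (nat_lit 0x12097148050054158d6d), (nat_lit 0)⟩))
 (.n (.n (.l ⟨(nat_lit 0x120000d), (nat_lit 0x1312f48412), (nat_lit 0x2cd41d840), (nat_lit 0)⟩)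
 (.l ⟨(nat_lit 0xa0000f), (nat_lit 0x1c0841c05c03), (nat_lit 0x5305d3601c05005455619c), (nat_lit 0)⟩))
 (.l ⟨(nat_lit 0xc0000d), (nat_lit 0x70170141707013), (nat_lit 0x6161d851b805005525358a), (nat_lit 0)⟩))))
 (.n (.n (.n (.n (.l ⟨(nat_lit 0xc0000d), (nat_lit 0x1691c0706f), (nat_lit 0x1203919066), (nat_lit 0)⟩)
 (.l ⟨(nat_lit 0xc0000d), (nat_lit 0x7c1b04c1c04c03), (nat_lit 0x4216c225ac050054d5458a), (nat_lit 0)⟩))
 (.l ⟨(nat_lit 0x140000b), (nat_lit 0x441b0580b), (nat_lit 0x2fc5e5e82154171), (nat_lit 0)⟩))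
 (.n (.n (.l ⟨(nat_lit 0xc0000d), (nat_lit 0x1255f11c56), (nat_lit 0x34c703f853), (nat_lit 0)⟩)
 (.l ⟨(nat_lit 0xc0000d), (nat_lit 0x2206c1106415), (nat_lit 0x521dd2717c05005435658b), (nat_lit 0)⟩))
 (.l ⟨(nat_lit 0xc0000d), (nat_lit 0x702007007), (nat_lit 0x19c7f2e0050054d66973), (nat_lit 0)⟩)))
 (.n (.n (.n (.l ⟨(nat_lit 0xc0000d), (nat_lit 0x164594bc18), (nat_lit 0x165840cca3), (nat_lit 0)⟩)
 (.l ⟨(nat_lit 0x120000d), (nat_lit 0x30150142007007), (nat_lit 0xc4fd4806f00d4964590), (nat_lit 0)⟩))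
 (.l ⟨(nat_lit 0xc0000d), (nat_lit 0x801c05c1905c03), (nat_lit 0x4201d35174050054d64164), (nat_lit 0)⟩))
 (.n (.n (.l ⟨(nat_lit 0x140000b), (nat_lit 0x11c5a1dc70), (nat_lit 0x5b16a1e40d), (nat_lit 0)⟩)
 (.l ⟨(nat_lit 0xc00013), (nat_lit 0x14200640707011), (nat_lit 0x125d8f81d405005495b59e), (nat_lit 0)⟩))
 (.l ⟨(nat_lit 0xc0000d), (nat_lit 0x160641607013), (nat_lit 0x1551a1fd7c005585b184), (nat_lit 0)⟩)))))))
 (.n (.n (.n (.n (.n (.n (.n (.l ⟨(nat_lit 0x600006), (nat_lit 0x13c6808c01), (nat_lit 0), (nat_lit 0)⟩)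
 (.l ⟨(nat_lit 0x80000d), (nat_lit 0x41b03c1a04803), (nat_lit 0x7d1756c56005495a99c), (nat_lit 0)⟩))
 (.n (.l ⟨(nat_lit 0x140000d), (nat_lit 0x553513848), (nat_lit 0x2c5c52476), (nat_lit 0)⟩)
 (.l ⟨(nat_lit 0xc00015), (nat_lit 0x70210700707007), (nat_lit 0x1165cf1150050055b65163), (nat_lit 0)⟩)))
 (.n (.n (.l ⟨(nat_lit 0xc0000d), (nat_lit 0xd07e2d01e), (nat_lit 0xc4f307589), (nat_lit 0)⟩)
 (.l ⟨(nat_lit 0xc0000d), (nat_lit 0x6c1d06c0f07011), (nat_lit 0x3f993150140140159166), (nat_lit 0)⟩))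
 (.l ⟨(nat_lit 0xc0000d), (nat_lit 0x1b02c1307011), (nat_lit 0x1d8114416541935f00850d746700800c050040401d5a5b183), (nat_lit 0)⟩)))
 (.n (.n (.n (.l ⟨(nat_lit 0xc0000d), (nat_lit 0x50f40fc07), (nat_lit 0x4f8411b817), (nat_lit 0)⟩)
 (.l ⟨(nat_lit 0xc0000d), (nat_lit 0x1e0641e0681e), (nat_lit 0x4c1e9091d0050054558d8a), (nat_lit 0)⟩))
 (.l ⟨(nat_lit 0xc0000b), (nat_lit 0x700f0680f07013), (nat_lit 0x5a1752c0d55a66d49), (nat_lit 0)⟩))
 (.n (.n (.l ⟨(nat_lit 0xe0000b), (nat_lit 0x518f6205b), (nat_lit 0x1f9511b81b), (nat_lit 0)⟩)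
 (.l ⟨(nat_lit 0xc0000d), (nat_lit 0x881a0481c02c07), (nat_lit 0x574498114d435f973), (nat_lit 0)⟩))
 (.l ⟨(nat_lit 0xc0000d), (nat_lit 0x3c1a0580b), (nat_lit 0x1d1a11c1954758d88), (nat_lit 0)⟩))))
 (.n (.n (.n (.n (.l ⟨(nat_lit 0xc0000b), (nat_lit 0x1805e62427), (nat_lit 0x11dd9410801), (nat_lit 0)⟩)
 (.l ⟨(nat_lit 0xc0000d), (nat_lit 0x41b04c1c02c07), (nat_lit 0xd9976701662552), (nat_lit 0)⟩))
 (.l ⟨(nat_lit 0xc00009), (nat_lit 0x401f07014), (nat_lit 0x6f15d491814961d6e), (nat_lit 0)⟩))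
 (.n (.n (.l ⟨(nat_lit 0xc0000d), (nat_lit 0x3b07940007), (nat_lit 0x1105e6191f), (nat_lit 0)⟩)
 (.l ⟨(nat_lit 0xc0000d), (nat_lit 0x841e06c0707007), (nat_lit 0x4625dc880140166d56), (nat_lit 0)⟩))
 (.l ⟨(nat_lit 0xc0000d), (nat_lit 0x1c1b04c03), (nat_lit 0xc63c2402d455ed7a), (nat_lit 0)⟩)))
 (.n (.n (.n (.l ⟨(nat_lit 0xc0000d), (nat_lit 0x699106870), (nat_lit 0xd0634b8310056c020030140101007), (nat_lit 0)⟩)
 (.l ⟨(nat_lit 0xa0000d), (nat_lit 0x160142007007), (nat_lit 0x6a10cb5218050057756977), (nat_lit 0)⟩))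
 (.l ⟨(nat_lit 0xc0000d), (nat_lit 0x160681407011), (nat_lit 0x291b1051455a5ad4a008060314360569), (nat_lit 0)⟩))
 (.n (.n (.l ⟨(nat_lit 0x120000d), (nat_lit 0x55591140b), (nat_lit 0x12317956), (nat_lit 0)⟩)
 (.l ⟨(nat_lit 0xc00013), (nat_lit 0x2c1d07010), (nat_lit 0x1e590384050055666d4d), (nat_lit 0)⟩))
 (.l ⟨(nat_lit 0xc0000d), (nat_lit 0x6c1706c16), (nat_lit 0x2114181405595b95d), (nat_lit 0)⟩)))))
 (.n (.n (.n (.n (.n (.l ⟨(nat_lit 0xc0000b), (nat_lit 0x1305019c17), (nat_lit 0x1750f5005a), (nat_lit 0)⟩)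
 (.l ⟨(nat_lit 0xc0000d), (nat_lit 0x1d0641f07007), (nat_lit 0x13410124050054364d5d), (nat_lit 0)⟩))
 (.n (.l ⟨(nat_lit 0x1400005), (nat_lit 0x6c160701207007), (nat_lit 0x1e178f4089455a188), (nat_lit 0)⟩)
 (.l ⟨(nat_lit 0xc00015), (nat_lit 0x700706420), (nat_lit 0x5b4002f490050054a5958b), (nat_lit 0)⟩)))
 (.n (.n (.l ⟨(nat_lit 0xc0000d), (nat_lit 0x1157f25031), (nat_lit 0xd1a3dc715999767007), (nat_lit 0)⟩)
 (.l ⟨(nat_lit 0xc0000d), (nat_lit 0x64220681007013), (nat_lit 0x1b13f0a1775954d02003014010100763549), (nat_lit 0)⟩))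
 (.l ⟨(nat_lit 0xc0000d), (nat_lit 0x141f06c0f07010), (nat_lit 0x313d0581a54163d7d), (nat_lit 0)⟩)))
 (.n (.n (.n (.l ⟨(nat_lit 0xc0000d), (nat_lit 0x1800766d08), (nat_lit 0x5c4544716801), (nat_lit 0)⟩)
 (.l ⟨(nat_lit 0xc0000d), (nat_lit 0xc0701007011), (nat_lit 0x2042c6116d475698f), (nat_lit 0)⟩))
 (.l ⟨(nat_lit 0xc0000b), (nat_lit 0x100700707012), (nat_lit 0x1604171e9635f198), (nat_lit 0)⟩))
 (.n (.n (.l ⟨(nat_lit 0x1200007), (nat_lit 0x9d5121416), (nat_lit 0x1a5950d868), (nat_lit 0)⟩)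
 (.l ⟨(nat_lit 0xa0000f), (nat_lit 0x301507012), (nat_lit 0x45d2cd9000405005455798d), (nat_lit 0)⟩))
 (.l ⟨(nat_lit 0x140000d), (nat_lit 0x700701416), (nat_lit 0x64184741a54758d5a), (nat_lit 0)⟩))))
 (.n (.n (.n (.n (.l ⟨(nat_lit 0xc0000d), (nat_lit 0x19949413), (nat_lit 0x444b64832), (nat_lit 0)⟩)
 (.l ⟨(nat_lit 0xc0000d), (nat_lit 0x1f0681107011), (nat_lit 0x422bd39105565455e), (nat_lit 0)⟩))
 (.l ⟨(nat_lit 0x120000b), (nat_lit 0x700f0681106416), (nat_lit 0x119939190035d566), (nat_lit 0)⟩))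
 (.n (.n (.l ⟨(nat_lit 0xc0000d), (nat_lit 0x19d160e895), (nat_lit 0x154031b86b), (nat_lit 0)⟩)
 (.l ⟨(nat_lit 0xc0000d), (nat_lit 0x441e06c1607007), (nat_lit 0xc2447612005005416014d), (nat_lit 0)⟩))
 (.l ⟨(nat_lit 0xc0000d), (nat_lit 0x1d0702007014), (nat_lit 0x2815932304050054d5d987), (nat_lit 0)⟩)))
 (.n (.n (.n (.l ⟨(nat_lit 0xc0000d), (nat_lit 0x4f0d42067801), (nat_lit 0x601604f1a405005435657a020030140101007), (nat_lit 0)⟩)
 (.l ⟨(nat_lit 0xc0000d), (nat_lit 0x741b04c0503c03), (nat_lit 0x586749310d4956195), (nat_lit 0)⟩))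
 (.l ⟨(nat_lit 0xa0000d), (nat_lit 0x1306c110701e), (nat_lit 0x2f2f13005805005555517c), (nat_lit 0)⟩))
 (.n (.n (.l ⟨(nat_lit 0x140000b), (nat_lit 179207), (nat_lit 0xa5520d817), (nat_lit 0)⟩)
 (.l ⟨(nat_lit 0xe00013), (nat_lit 0x150681e06815), (nat_lit 0xb1358206c050054766555), (nat_lit 0)⟩))
 (.l ⟨(nat_lit 0x120000d), (nat_lit 0x160701706415), (nat_lit 0x434ec620e54564591), (nat_lit 0)⟩))))))
 (.n (.n (.n (.n (.n (.n (.l ⟨(nat_lit 0xc00007), (nat_lit 0x1842720d68), (nat_lit 0x1256317812), (nat_lit 0)⟩)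
 (.l ⟨(nat_lit 0xc0000d), (nat_lit 0x2c130701207007), (nat_lit 0x121d0564d14c5f59c), (nat_lit 0)⟩))
 (.n (.l ⟨(nat_lit 0x140000d), (nat_lit 0x1748356487), (nat_lit 0x81901e18a), (nat_lit 0)⟩)
 (.l ⟨(nat_lit 0x800015), (nat_lit 0x1b0341707013), (nat_lit 0x75959801c050056c61d98), (nat_lit 0)⟩)))
 (.n (.n (.l ⟨(nat_lit 0xc0000d), (nat_lit 0x3d171e449), (nat_lit 0x13c4f20027), (nat_lit 0)⟩)
 (.l ⟨(nat_lit 0xc0000d), (nat_lit 0x1706c1f07012), (nat_lit 0x165583a19405005645fd49), (nat_lit 0)⟩))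
 (.l ⟨(nat_lit 0xc0000d), (nat_lit 0x30150641407007), (nat_lit 0xe04c27170050054164d80), (nat_lit 0)⟩)))
 (.n (.n (.n (.l ⟨(nat_lit 0xc0000d), (nat_lit 0xa07d4e85a), (nat_lit 0xd10f34c6f), (nat_lit 0)⟩)
 (.l ⟨(nat_lit 0xc0000d), (nat_lit 0x64200641f07014), (nat_lit 0x515a87a4f8050054962159), (nat_lit 0)⟩))
 (.l ⟨(nat_lit 0xc0000b), (nat_lit 0x701e0141107007), (nat_lit 0x584056c155415e997), (nat_lit 0)⟩))
 (.n (.n (.l ⟨(nat_lit 0xe0000d), (nat_lit 0x8911208f9), (nat_lit 0x154c417094), (nat_lit 0)⟩)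
 (.l ⟨(nat_lit 0xc0000f), (nat_lit 0x170141707012), (nat_lit 0xc22939074050055254182), (nat_lit 0)⟩))
 (.l ⟨(nat_lit 0xc0000d), (nat_lit 0x70140681307014), (nat_lit 0x304547a00c05005435d98c), (nat_lit 0)⟩))))
 (.n (.n (.n (.n (.l ⟨(nat_lit 0xc0000b), (nat_lit 0x19c516453f), (nat_lit 0xc6645803), (nat_lit 0)⟩)
 (.l ⟨(nat_lit 0xa0000d), (nat_lit 0x41b0801901c03), (nat_lit 0x71a16c2d8050054758176), (nat_lit 0)⟩))
 (.l ⟨(nat_lit 0xc0000b), (nat_lit 0x1d07007), (nat_lit 0x6c20895031435f594), (nat_lit 0)⟩))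
 (.n (.n (.l ⟨(nat_lit 0xc0000d), (nat_lit 0x115d9d09c01), (nat_lit 0x1797d03d08), (nat_lit 0)⟩)
 (.l ⟨(nat_lit 0xc0000d), (nat_lit 0x700f0141f01415), (nat_lit 0x211b5800314761181), (nat_lit 0)⟩))
 (.l ⟨(nat_lit 0xc0000d), (nat_lit 0x1d0641506415), (nat_lit 0x41209381f8050054961d45), (nat_lit 0)⟩)))
 (.n (.n (.n (.l ⟨(nat_lit 0xc0000d), (nat_lit 0x560205f00f), (nat_lit 0x11667868), (nat_lit 0)⟩)
 (.l ⟨(nat_lit 0xe0000d), (nat_lit 0x200682007010), (nat_lit 0x1a591204835995b6480800c050040401d4763d7f), (nat_lit 0)⟩))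
 (.l ⟨(nat_lit 0x120000d), (nat_lit 0x1906c1807007), (nat_lit 0x11d8f11441005456357a), (nat_lit 0)⟩))
 (.n (.n (.l ⟨(nat_lit 0x120000d), (nat_lit 0x4e3b0530cc07), (nat_lit 0x4d2b2240c), (nat_lit 0)⟩)
 (.l ⟨(nat_lit 0x1200013), (nat_lit 0x170701d07012), (nat_lit 0x3f19c4f25405005455d165), (nat_lit 0)⟩))
 (.l ⟨(nat_lit 0xc0000d), (nat_lit 0x1706c180641d), (nat_lit 0x1e5246904005005455cd59), (nat_lit 0)⟩)))))
 (.n (.n (.n (.n (.n (.l ⟨(nat_lit 0xc0000b), (nat_lit 0x134675e04e), (nat_lit 0xd82918c36), (nat_lit 0)⟩)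
 (.l ⟨(nat_lit 0xc0000d), (nat_lit 0x681306c1607007), (nat_lit 0x6e138834f1416699c), (nat_lit 0)⟩))
 (.n (.l ⟨(nat_lit 0xc00007), (nat_lit 0x106c1206416), (nat_lit 0x4f12c43200050055861d96), (nat_lit 0)⟩)
 (.l ⟨(nat_lit 0xc00015), (nat_lit 0x13068110681d), (nat_lit 0xf908c9f01c050055160154), (nat_lit 0)⟩)))
 (.n (.n (.l ⟨(nat_lit 0xc0000d), (nat_lit 0xe51f62071), (nat_lit 0x16e14c630d4050054b5817c020030140101007), (nat_lit 0)⟩)
 (.l ⟨(nat_lit 0xc0000d), (nat_lit 0x48150701207011), (nat_lit 0x131c586030050054a5516f), (nat_lit 0)⟩))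
 (.l ⟨(nat_lit 0x60000d), (nat_lit 0x130701e07007), (nat_lit 0x661a90a148015598a), (nat_lit 0)⟩)))
 (.n (.n (.n (.l ⟨(nat_lit 0xc0000d), (nat_lit 0xbcbb20596), (nat_lit 0xc9761c91e), (nat_lit 0)⟩)
 (.l ⟨(nat_lit 0xc0000d), (nat_lit 0x20068070141d), (nat_lit 0xe6207b2fd5452993), (nat_lit 0)⟩))
 (.l ⟨(nat_lit 0xc0000d), (nat_lit 17419), (nat_lit 0x7c794055d61d8f), (nat_lit 0)⟩))
 (.n (.n (.l ⟨(nat_lit 0x120000d), (nat_lit 0x9c8416c03), (nat_lit 0x44831fc1f), (nat_lit 0)⟩)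
 (.l ⟨(nat_lit 0xc0000f), (nat_lit 0x2006c1207007), (nat_lit 0x1930464150050054563d81), (nat_lit 0)⟩))
 (.l ⟨(nat_lit 0x80000d), (nat_lit 0xf06c2106416), (nat_lit 0x502e1671ac05005556657c), (nat_lit 0)⟩))))
 (.n (.n (.n (.n (.l ⟨(nat_lit 0xc0000d), (nat_lit 0x381309c5c), (nat_lit 0xa1691d856), (nat_lit 0)⟩)
 (.l ⟨(nat_lit 0xc0000d), (nat_lit 0x1e0681306816), (nat_lit 0x1091f1bc84014015d596), (nat_lit 0)⟩))
 (.l ⟨(nat_lit 0xc0000b), (nat_lit 0x160701801415), (nat_lit 0xe59604c5f51581), (nat_lit 0)⟩))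
 (.n (.n (.l ⟨(nat_lit 0xc0000d), (nat_lit 0xc96b1cd85), (nat_lit 0xc86855c60), (nat_lit 0)⟩)
 (.l ⟨(nat_lit 0xc0000d), (nat_lit 0xf06c070141e), (nat_lit 0x6a20d8307c050054b59563), (nat_lit 0)⟩))
 (.l ⟨(nat_lit 0xc0000d), (nat_lit 0x70701207007), (nat_lit 0x2f0fc6109c05005565496f), (nat_lit 0)⟩)))
 (.n (.n (.n (.l ⟨(nat_lit 0xc0000d), (nat_lit 0x179691ec58), (nat_lit 0x425e06262001), (nat_lit 0)⟩)
 (.l ⟨(nat_lit 0xc0000d), (nat_lit 0x1d06c070681e), (nat_lit 0x444f4207b004050055756589), (nat_lit 0)⟩))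
 (.l ⟨(nat_lit 0xc0000d), (nat_lit 0x100641d), (nat_lit 0x311f4813dd4352d96), (nat_lit 0)⟩))
 (.n (.n (.l ⟨(nat_lit 0x140000d), (nat_lit 0x10c6057832), (nat_lit 0x1a8af1e4b6), (nat_lit 0)⟩)
 (.l ⟨(nat_lit 0xc00013), (nat_lit 0x1a03c2107007), (nat_lit 0xff1c183144050054c59161), (nat_lit 0)⟩))
 (.l ⟨(nat_lit 0xa0000d), (nat_lit 0x700706c1d), (nat_lit 0x6a4b45018805005475cd7d), (nat_lit 0)⟩)))))))
noncomputable def T20 : Tr :=
  .n (.n (.n (.n (.n (.n (.n (.n (.l ⟨(nat_lit 0x200005), (nat_lit 0x452d955), (nat_lit 0x364c164), (nat_lit 0)⟩)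
 (.l ⟨(nat_lit 0xc0000d), (nat_lit 0x106c140681e), (nat_lit 0x847864c6c57d74), (nat_lit 0)⟩))
 (.n (.l ⟨(nat_lit 0x140000d), (nat_lit 0x19c631e411), (nat_lit 0x39221b532), (nat_lit 0)⟩)
 (.l ⟨(nat_lit 0xa00015), (nat_lit 0x70180701207007), (nat_lit 0x173c405005475cd7b), (nat_lit 0)⟩)))
 (.n (.n (.l ⟨(nat_lit 0xc0000d), (nat_lit 0x909d25), (nat_lit 0x12c5c5f021), (nat_lit 0)⟩)
 (.l ⟨(nat_lit 0xc0000d), (nat_lit 0x381d06c0707007), (nat_lit 0x61608710c9435cd77), (nat_lit 0)⟩))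
 (.l ⟨(nat_lit 0xc0000d), (nat_lit 0x2c1d06c1d), (nat_lit 0x6063c0717d415d190), (nat_lit 0)⟩)))
 (.n (.n (.n (.l ⟨(nat_lit 0xc0000d), (nat_lit 0x191231800b), (nat_lit 0x174f85544e), (nat_lit 0)⟩)
 (.l ⟨(nat_lit 0x80000d), (nat_lit 0x1e0700707011), (nat_lit 0x395ec29054050056f5e94b), (nat_lit 0)⟩))
 (.l ⟨(nat_lit 0xc0000b), (nat_lit 0x1706c100681f), (nat_lit 0x17579591414361d8b), (nat_lit 0)⟩))
 (.n (.n (.l ⟨(nat_lit 0xe0000b), (nat_lit 0x1711f3f860), (nat_lit 0x1845830c17), (nat_lit 0)⟩)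
 (.l ⟨(nat_lit 0xc0000d), (nat_lit 0x2006c130141e), (nat_lit 0x191c98802405005475f98c), (nat_lit 0)⟩))
 (.l ⟨(nat_lit 0xa0000d), (nat_lit 0x1e0701e01416), (nat_lit 0x114fa400050058e), (nat_lit 0)⟩))))
 (.n (.n (.n (.n (.l ⟨(nat_lit 0xc0000b), (nat_lit 0xa95248410), (nat_lit 0x492e1a00d), (nat_lit 0)⟩)
 (.l ⟨(nat_lit 0xc0000d), (nat_lit 0x1f0681207013), (nat_lit 0x323ad491ad415d193), (nat_lit 0)⟩))
 (.l ⟨(nat_lit 0xe00009), (nat_lit 20), (nat_lit 0x564f176105435c54b), (nat_lit 0)⟩))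
 (.n (.n (.l ⟨(nat_lit 0xc0000d), (nat_lit 0x1ad6e60c33), (nat_lit 0x1506d44441), (nat_lit 0)⟩)
 (.l ⟨(nat_lit 0xc0000d), (nat_lit 0x6c1706c1207012), (nat_lit 0xa87a620670140153185), (nat_lit 0)⟩))
 (.l ⟨(nat_lit 0xc0000d), (nat_lit 0x1c0881907c0b), (nat_lit 0x95e0441dd6a57d4c), (nat_lit 0)⟩)))
 (.n (.n (.n (.l ⟨(nat_lit 0xc0000d), (nat_lit 0x158231dc69), (nat_lit 0x1352117c30), (nat_lit 0)⟩)
 (.l ⟨(nat_lit 0x120000d), (nat_lit 0x34210681107007), (nat_lit 0x7015c6f24d665c40800c050040401d735295a), (nat_lit 0)⟩))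
 (.l ⟨(nat_lit 0xa0000d), (nat_lit 34838), (nat_lit 0x5b1ec6135805005536259d), (nat_lit 0)⟩))
 (.n (.n (.l ⟨(nat_lit 0x120000d), (nat_lit 0x84f94707b), (nat_lit 0x1b878214b4), (nat_lit 0)⟩)
 (.l ⟨(nat_lit 0xc00013), (nat_lit 0x1b05c050740b), (nat_lit 0x621fc7f57005005495858f), (nat_lit 0)⟩))
 (.l ⟨(nat_lit 0xc0000d), (nat_lit 0x106c2107014), (nat_lit 0xe58c28407014015d96d), (nat_lit 0)⟩)))))
 (.n (.n (.n (.n (.n (.l ⟨(nat_lit 0xc0000b), (nat_lit 0x919c01c05), (nat_lit 0x68bf1a18f), (nat_lit 0)⟩)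
 (.l ⟨(nat_lit 0xa0000d), (nat_lit 0x1c0341407007), (nat_lit 0x415e46a1c4050055257564), (nat_lit 0)⟩))
 (.n (.l ⟨(nat_lit 0x600003), (nat_lit 12291), (nat_lit 0), (nat_lit 0)⟩)
 (.l ⟨(nat_lit 0xc00015), (nat_lit 0x200681107013), (nat_lit 0x6a3ac5054405005435b985), (nat_lit 0)⟩)))
 (.n (.n (.l ⟨(nat_lit 0xc0000d), (nat_lit 0x1b10d10083), (nat_lit 0x164322093f), (nat_lit 0)⟩)
 (.l ⟨(nat_lit 0xc0000d), (nat_lit 0x1d0141707011), (nat_lit 0x110271f9050140151d7a), (nat_lit 0)⟩))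
 (.l ⟨(nat_lit 0xc0000d), (nat_lit 0x140681407010), (nat_lit 0x8c573c4126098e), (nat_lit 0)⟩)))
 (.n (.n (.n (.l ⟨(nat_lit 0xc0000d), (nat_lit 0x540fc8243801), (nat_lit 0x1113e56c10), (nat_lit 0)⟩)
 (.l ⟨(nat_lit 0x120000d), (nat_lit 0x60110681407007), (nat_lit 0x453e140076797e), (nat_lit 0)⟩))
 (.l ⟨(nat_lit 0xc0000b), (nat_lit 0x140702007007), (nat_lit 0x454dc301656164177), (nat_lit 0)⟩))
 (.n (.n (.l ⟨(nat_lit 0x100000d), (nat_lit 0x58f70e40d), (nat_lit 0x4d1c4f054), (nat_lit 0)⟩)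
 (.l ⟨(nat_lit 0xa0000f), (nat_lit 0x440f06815), (nat_lit 0x138451e412014016516b), (nat_lit 0)⟩))
 (.l ⟨(nat_lit 0xc0000d), (nat_lit 0x1d070170701d), (nat_lit 0x4f139851656054976), (nat_lit 0)⟩))))
 (.n (.n (.n (.n (.l ⟨(nat_lit 0xc0000d), (nat_lit 0x5cfc48810), (nat_lit 0x1783542c01), (nat_lit 0)⟩)
 (.l ⟨(nat_lit 0xc0000d), (nat_lit 0x2006c100141f), (nat_lit 0x1ac3b60850014015fd74), (nat_lit 0)⟩))
 (.l ⟨(nat_lit 0xc0000b), (nat_lit 26643), (nat_lit 0x1871ec79139585e97a), (nat_lit 0)⟩))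
 (.n (.n (.l ⟨(nat_lit 0xc0000d), (nat_lit 0x19c1647c09), (nat_lit 0x1953b4a429), (nat_lit 0)⟩)
 (.l ⟨(nat_lit 0xc0000d), (nat_lit 0x210142107014), (nat_lit 0x74c1121954766973), (nat_lit 0)⟩))
 (.l ⟨(nat_lit 0x120000d), (nat_lit 0x2c1d0681107007), (nat_lit 0x4f4b95f1514a55187), (nat_lit 0)⟩)))
 (.n (.n (.n (.l ⟨(nat_lit 0xc0000d), (nat_lit 0x1a93b16074), (nat_lit 0x78534986f), (nat_lit 0)⟩)
 (.l ⟨(nat_lit 0xc0000d), (nat_lit 0x1d06c070641d), (nat_lit 0x1f19c660a405005525e16c), (nat_lit 0)⟩))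
 (.l ⟨(nat_lit 0xc0000d), (nat_lit 0x1907417), (nat_lit 0xd0819b1b1415f987), (nat_lit 0)⟩))
 (.n (.n (.l ⟨(nat_lit 0x1400007), (nat_lit 0x6c755cc5c), (nat_lit 0x1b0b321d75529605f80201808), (nat_lit 0)⟩)
 (.l ⟨(nat_lit 0x1200013), (nat_lit 0x17070100641d), (nat_lit 0x6400c65100050054763d81), (nat_lit 0)⟩))
 (.l ⟨(nat_lit 0xc0000d), (nat_lit 0x2106c2006820), (nat_lit 0x4112d561898256963), (nat_lit 0)⟩))))))
 (.n (.n (.n (.n (.n (.n (.l ⟨(nat_lit 0xc0000c), (nat_lit 145), (nat_lit 0), (nat_lit 0)⟩)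
 (.l ⟨(nat_lit 0xc0000d), (nat_lit 0x700f0682001415), (nat_lit 0x5c2c47824d415ad60), (nat_lit 0)⟩))
 (.n (.l ⟨(nat_lit 0x140000d), (nat_lit 0x495164416), (nat_lit 0x46e4d46867588020030140101007), (nat_lit 0)⟩)
 (.l ⟨(nat_lit 0x1400015), (nat_lit 0x441d0640707007), (nat_lit 0x36158165b14f6756a), (nat_lit 0)⟩)))
 (.n (.n (.l ⟨(nat_lit 0xc0000d), (nat_lit 0x1803644012), (nat_lit 0x8228d0e), (nat_lit 0)⟩)
 (.l ⟨(nat_lit 0xc0000d), (nat_lit 0x641e0141607011), (nat_lit 0x595785b0cc050054c61172), (nat_lit 0)⟩))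
 (.l ⟨(nat_lit 0xc0000d), (nat_lit 0x1706c1e), (nat_lit 0xd2ccfc13d72), (nat_lit 0)⟩)))
 (.n (.n (.n (.l ⟨(nat_lit 0xc0000d), (nat_lit 0x1ac1403c01), (nat_lit 0x18c4241c2260172020030140101007), (nat_lit 0)⟩)
 (.l ⟨(nat_lit 0xc0000d), (nat_lit 0x220702006c16), (nat_lit 0x4f0918d040050054c5a193), (nat_lit 0)⟩))
 (.l ⟨(nat_lit 0xc0000b), (nat_lit 0x504c1c05003), (nat_lit 0x4d175664e1455459a), (nat_lit 0)⟩))
 (.n (.n (.l ⟨(nat_lit 0xe0000d), (nat_lit 0xa0750d405), (nat_lit 0x161310811b), (nat_lit 0)⟩)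
 (.l ⟨(nat_lit 0xa0000f), (nat_lit 0x1b03c03), (nat_lit 0x5ca3090050055167154), (nat_lit 0)⟩))
 (.l ⟨(nat_lit 0xc0000d), (nat_lit 0x6c1106c21), (nat_lit 0x10b194d10f1475ed51), (nat_lit 0)⟩))))
 (.n (.n (.n (.n (.l ⟨(nat_lit 0xc0000b), (nat_lit 0x4c7e16c18), (nat_lit 0x54fc6540c), (nat_lit 0)⟩)
 (.l ⟨(nat_lit 0xc0000d), (nat_lit 0x440f06c1107007), (nat_lit 0x8149c5408d505fd45), (nat_lit 0)⟩))
 (.l ⟨(nat_lit 0xe0000b), (nat_lit 0x1d068110681d), (nat_lit 0x840b1414a63558), (nat_lit 0)⟩))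
 (.n (.n (.l ⟨(nat_lit 0xc0000d), (nat_lit 0x1b58f19412), (nat_lit 0x1312b41c7b), (nat_lit 0)⟩)
 (.l ⟨(nat_lit 0xc0000d), (nat_lit 0x341e06c1307011), (nat_lit 0x1fd25614436417b), (nat_lit 0)⟩))
 (.l ⟨(nat_lit 0x120000d), (nat_lit 0x505c1b04c03), (nat_lit 0x885a16c1d005436119a), (nat_lit 0)⟩)))
 (.n (.n (.n (.l ⟨(nat_lit 0xc0000d), (nat_lit 0x1106518487), (nat_lit 0xd91643c07), (nat_lit 0)⟩)
 (.l ⟨(nat_lit 0xc0000d), (nat_lit 0x100701f07007), (nat_lit 0x5b5e8411d94f61154), (nat_lit 0)⟩))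
 (.l ⟨(nat_lit 0x60000d), (nat_lit 0xb08003), (nat_lit 0x10c8347c7d0140164591), (nat_lit 0)⟩))
 (.n (.n (.l ⟨(nat_lit 0x120000d), (nat_lit 0x1c04515412), (nat_lit 0x11c850d069), (nat_lit 0)⟩)
 (.l ⟨(nat_lit 0xc00013), (nat_lit 0xf06c1201415), (nat_lit 0xa58d209180140165992), (nat_lit 0)⟩))
 (.l ⟨(nat_lit 0xc0000d), (nat_lit 0x5c1e06415), (nat_lit 0x12e27c7c0254158d82), (nat_lit 0)⟩)))))
 (.n (.n (.n (.n (.n (.l ⟨(nat_lit 0xc0000b), (nat_lit 0x105791a871), (nat_lit 0x4cd51b13a), (nat_lit 0)⟩)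
 (.l ⟨(nat_lit 0xa0000d), (nat_lit 0x80130680707007), (nat_lit 0x601798909c05005545c97a), (nat_lit 0)⟩))
 (.n (.l ⟨(nat_lit 0xc00007), (nat_lit 0x150141607007), (nat_lit 0x4903c7a569516117e), (nat_lit 0)⟩)
 (.l ⟨(nat_lit 0xc00015), (nat_lit 0x170641406416), (nat_lit 0x5ca309005005565e590), (nat_lit 0)⟩)))
 (.n (.n (.l ⟨(nat_lit 0xc0000d), (nat_lit 0xd4175f062), (nat_lit 0x184541e86e), (nat_lit 0)⟩)
 (.l ⟨(nat_lit 0xa0000d), (nat_lit 0x68150701e07010), (nat_lit 0x2a54921040050054360d66), (nat_lit 0)⟩))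
 (.l ⟨(nat_lit 0xc0000d), (nat_lit 0x120680707014), (nat_lit 0x545548020d435d17f02003014010100756173), (nat_lit 0)⟩)))
 (.n (.n (.n (.l ⟨(nat_lit 0xc0000d), (nat_lit 0x6a6688444401), (nat_lit 0x1910167034), (nat_lit 0)⟩)
 (.l ⟨(nat_lit 0xc0000d), (nat_lit 0x64210681807010), (nat_lit 0x17564f904005005635296d), (nat_lit 0)⟩))
 (.l ⟨(nat_lit 0xa0000d), (nat_lit 14348), (nat_lit 0x40502c050054359182), (nat_lit 0)⟩))
 (.n (.n (.l ⟨(nat_lit 0x120000d), (nat_lit 0x1cbd14c09), (nat_lit 0x1a98a1dc56), (nat_lit 0)⟩)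
 (.l ⟨(nat_lit 0xc0000f), (nat_lit 0x481407010), (nat_lit 0x3481290c0050054b6654f), (nat_lit 0)⟩))
 (.l ⟨(nat_lit 0xc0000d), (nat_lit 0x1d0681f07007), (nat_lit 0x1e3499b00c050054153d5e), (nat_lit 0)⟩))))
 (.n (.n (.n (.n (.l ⟨(nat_lit 0xc0000d), (nat_lit 0x244b4e414), (nat_lit 0x1b13e4c41f), (nat_lit 0)⟩)
 (.l ⟨(nat_lit 0xc0000d), (nat_lit 0x14160681d0641d), (nat_lit 0x396090801c050055a6599c), (nat_lit 0)⟩))
 (.l ⟨(nat_lit 0xc0000b), (nat_lit 0x100700707011), (nat_lit 0x4c7c4745e52550), (nat_lit 0)⟩))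
 (.n (.n (.l ⟨(nat_lit 0xc0000d), (nat_lit 0x5cbc5b831), (nat_lit 0x4ac155b40154d745ec07), (nat_lit 0)⟩)
 (.l ⟨(nat_lit 0xc0000d), (nat_lit 0x14210642107011), (nat_lit 0x43528680d405005495b97e), (nat_lit 0)⟩))
 (.l ⟨(nat_lit 0x140000d), (nat_lit 0x441d06c0707007), (nat_lit 0x211ad202114a61d90), (nat_lit 0)⟩)))
 (.n (.n (.n (.l ⟨(nat_lit 0xc0000d), (nat_lit 0x18c7c28417), (nat_lit 0x1952763c19), (nat_lit 0)⟩)
 (.l ⟨(nat_lit 0xc0000d), (nat_lit 0x701e0141707007), (nat_lit 0x701746616405005435bd93), (nat_lit 0)⟩))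
 (.l ⟨(nat_lit 0xc0000d), (nat_lit 0x64130702207007), (nat_lit 0x4e3e45919d435bd7b), (nat_lit 0)⟩))
 (.n (.n (.l ⟨(nat_lit 0x140000d), (nat_lit 0xe4424fc17), (nat_lit 0x5f1bd240a801), (nat_lit 0)⟩)
 (.l ⟨(nat_lit 0x1000013), (nat_lit 0x2006c180701e), (nat_lit 0x1d5f3cc070140166549), (nat_lit 0)⟩))
 (.l ⟨(nat_lit 0x140000d), (nat_lit 0x841707013), (nat_lit 0x1055c821155159545), (nat_lit 0)⟩)))))))
 (.n (.n (.n (.n (.n (.n (.n (.l ⟨(nat_lit 0x800008), (nat_lit 0xd164c1b), (nat_lit 0), (nat_lit 0)⟩)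
 (.l ⟨(nat_lit 0x60000d), (nat_lit 0x541d06815), (nat_lit 0x1883c0d0770054c59178), (nat_lit 0)⟩))
 (.n (.l ⟨(nat_lit 0x140000d), (nat_lit 0x301b13cd2), (nat_lit 0xc46c4e45f), (nat_lit 0)⟩)
 (.l ⟨(nat_lit 0x800015), (nat_lit 0x190741901c03), (nat_lit 0x302d16c1b8050056d5bd4c), (nat_lit 0)⟩)))
 (.n (.n (.l ⟨(nat_lit 0xc0000d), (nat_lit 0x551213017), (nat_lit 0x355a1742161179020030140101007), (nat_lit 0)⟩)
 (.l ⟨(nat_lit 0xa0000d), (nat_lit 0x220682007013), (nat_lit 0x521d4941a4050054a63151), (nat_lit 0)⟩))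
 (.l ⟨(nat_lit 0xc0000d), (nat_lit 0x1e0701106815), (nat_lit 0x5a3892d0714954d70), (nat_lit 0)⟩)))
 (.n (.n (.n (.l ⟨(nat_lit 0xc0000d), (nat_lit 0x1781e17b), (nat_lit 0x16cfa198f1), (nat_lit 0)⟩)
 (.l ⟨(nat_lit 0xc0000d), (nat_lit 0x70160680f07007), (nat_lit 0x680c47e2d4050057262168), (nat_lit 0)⟩))
 (.l ⟨(nat_lit 0xc0000b), (nat_lit 0x141306c0f07007), (nat_lit 0x412291a1014f64d9a), (nat_lit 0)⟩))
 (.n (.n (.l ⟨(nat_lit 0xe0000d), (nat_lit 0x314424), (nat_lit 0xc434f3), (nat_lit 0)⟩)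
 (.l ⟨(nat_lit 0xc0000d), (nat_lit 0xf06c070701d), (nat_lit 0x184870d906004050054356198), (nat_lit 0)⟩))
 (.l ⟨(nat_lit 0xa0000d), (nat_lit 0x100700f0141e), (nat_lit 0x5b21c43250050055063d6c), (nat_lit 0)⟩))))
 (.n (.n (.n (.n (.l ⟨(nat_lit 0xc0000b), (nat_lit 0xdd975ec54), (nat_lit 0x1b83c60c79), (nat_lit 0)⟩)
 (.l ⟨(nat_lit 0xc0000d), (nat_lit 0x2006c2206c1e), (nat_lit 0x4405e16c23014015158d), (nat_lit 0)⟩))
 (.l ⟨(nat_lit 0xc00009), (nat_lit 0x502006c1107007), (nat_lit 0x395a46c0454757972), (nat_lit 0)⟩))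
 (.n (.n (.l ⟨(nat_lit 0xc0000d), (nat_lit 0xc14020040), (nat_lit 0x3a3dd60080050055165566020030140101007), (nat_lit 0)⟩)
 (.l ⟨(nat_lit 0xc0000d), (nat_lit 0x70210680707007), (nat_lit 0x5405c6b4d54a5b188), (nat_lit 0)⟩))
 (.l ⟨(nat_lit 0xc0000d), (nat_lit 0x1b05c1b0780c), (nat_lit 0x231b895048050054d61d4d), (nat_lit 0)⟩)))
 (.n (.n (.n (.l ⟨(nat_lit 0xc0000d), (nat_lit 0x189911cce2), (nat_lit 0x494890d811), (nat_lit 0)⟩)
 (.l ⟨(nat_lit 0xc0000d), (nat_lit 0x1306c1407014), (nat_lit 0x6b01533208050054b58191), (nat_lit 0)⟩))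
 (.l ⟨(nat_lit 0xc0000d), (nat_lit 0x16014070641e), (nat_lit 0x13c1a3fc5e00405005415ed8d), (nat_lit 0)⟩))
 (.n (.n (.l ⟨(nat_lit 0x120000d), (nat_lit 0x1608611c37), (nat_lit 0x6f664191617162176020030140101007), (nat_lit 0)⟩)
 (.l ⟨(nat_lit 0xc00013), (nat_lit 0x1407017), (nat_lit 0x686547101405005436254d), (nat_lit 0)⟩))
 (.l ⟨(nat_lit 0xa0000d), (nat_lit 0x17070220681e), (nat_lit 0x405fc940e4050054b62d94), (nat_lit 0)⟩)))))
 (.n (.n (.n (.n (.n (.l ⟨(nat_lit 0xc0000b), (nat_lit 0x198bb16461), (nat_lit 0x1058d57461), (nat_lit 0)⟩)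
 (.l ⟨(nat_lit 0xc0000d), (nat_lit 0x100641007013), (nat_lit 0x5b4f43a4c14c6219d), (nat_lit 0)⟩))
 (.n (.l ⟨(nat_lit 0xa00007), (nat_lit 0x1106c2007017), (nat_lit 0xa43c4c8120055d62183), (nat_lit 0)⟩)
 (.l ⟨(nat_lit 0xc00015), (nat_lit 0x170640f06816), (nat_lit 0x4f3e576044050055e6618f), (nat_lit 0)⟩)))
 (.n (.n (.l ⟨(nat_lit 0xc0000d), (nat_lit 0xe83219599), (nat_lit 0x1cd8722003), (nat_lit 0)⟩)
 (.l ⟨(nat_lit 0xc0000d), (nat_lit 0x6c0706c2106415), (nat_lit 0x31638793e0050054159564), (nat_lit 0)⟩))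
 (.l ⟨(nat_lit 0xa0000d), (nat_lit 0x160681e01415), (nat_lit 0x37159871e4050054364586), (nat_lit 0)⟩)))
 (.n (.n (.n (.l ⟨(nat_lit 0xc0000d), (nat_lit 0x16c221f859), (nat_lit 0xcc941445e), (nat_lit 0)⟩)
 (.l ⟨(nat_lit 0xc0000d), (nat_lit 0x150641307007), (nat_lit 0x3919c5227c05005516619d), (nat_lit 0)⟩))
 (.l ⟨(nat_lit 0x140000d), (nat_lit 19), (nat_lit 0xa1861dc7a5054c), (nat_lit 0)⟩))
 (.n (.n (.l ⟨(nat_lit 0x120000b), (nat_lit 0x19d2d5dc69), (nat_lit 0x1b87954818), (nat_lit 0)⟩)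
 (.l ⟨(nat_lit 0xc0000f), (nat_lit 0x200681107014), (nat_lit 0x331410714c050054961d71), (nat_lit 0)⟩))
 (.l ⟨(nat_lit 0xc0000d), (nat_lit 0x6c1407011), (nat_lit 0x116607f1c14c6116d), (nat_lit 0)⟩))))
 (.n (.n (.n (.n (.l ⟨(nat_lit 0xc0000d), (nat_lit 0x1805218889), (nat_lit 0x516b17436), (nat_lit 0)⟩)
 (.l ⟨(nat_lit 0xc0000d), (nat_lit 0x150701e07017), (nat_lit 0x540748a0d0050055b63951), (nat_lit 0)⟩))
 (.l ⟨(nat_lit 0xc0000b), (nat_lit 0x1206c1406816), (nat_lit 0x2c683b05764d61), (nat_lit 0)⟩))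
 (.n (.n (.l ⟨(nat_lit 0xc0000d), (nat_lit 0x1bcf905056), (nat_lit 0x1307959005), (nat_lit 0)⟩)
 (.l ⟨(nat_lit 0xa0000d), (nat_lit 0x14220681f07012), (nat_lit 0x767007014050055753554), (nat_lit 0)⟩))
 (.l ⟨(nat_lit 0xc0000d), (nat_lit 0x641106c1607007), (nat_lit 0x1d138b4434050054d61d59), (nat_lit 0)⟩)))
 (.n (.n (.n (.l ⟨(nat_lit 0xc0000d), (nat_lit 0x44811b431), (nat_lit 0x134630e821), (nat_lit 0)⟩)
 (.l ⟨(nat_lit 0x140000d), (nat_lit 0x1f0641707013), (nat_lit 0x3712c561f54567165), (nat_lit 0)⟩))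
 (.l ⟨(nat_lit 0x120000d), (nat_lit 0x130702207011), (nat_lit 0x3527c6157d5a51586), (nat_lit 0)⟩))
 (.n (.n (.l ⟨(nat_lit 0x140000b), (nat_lit 0x8c353d007), (nat_lit 0xdd3262083), (nat_lit 0)⟩)
 (.l ⟨(nat_lit 0xc00013), (nat_lit 0x6c1507011), (nat_lit 0x3b0190cc05005475d972), (nat_lit 0)⟩))
 (.l ⟨(nat_lit 0xc0000d), (nat_lit 0x6c1e0641707013), (nat_lit 0x114489168050054d5cd9c), (nat_lit 0)⟩))))))
 (.n (.n (.n (.n (.n (.n (.l ⟨(nat_lit 0xc00009), (nat_lit 0x6d7b1c02a), (nat_lit 0x1b88513418), (nat_lit 0)⟩)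
 (.l ⟨(nat_lit 0xc0000d), (nat_lit 0x1d0141707012), (nat_lit 0x6f63450121525f587), (nat_lit 0)⟩))
 (.n (.l ⟨(nat_lit 0x140000f), (nat_lit 0x122cc36), (nat_lit 0xccec4b420), (nat_lit 0)⟩)
 (.l ⟨(nat_lit 0xc00015), (nat_lit 0x1406c2007014), (nat_lit 0x1628c7e430050054557951), (nat_lit 0)⟩)))
 (.n (.n (.l ⟨(nat_lit 0xc0000d), (nat_lit 0xc06920855), (nat_lit 0x5e5686b0e801), (nat_lit 0)⟩)
 (.l ⟨(nat_lit 0xc0000d), (nat_lit 0x14210701d07007), (nat_lit 0x413fc5c0c5655516f), (nat_lit 0)⟩))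
 (.l ⟨(nat_lit 0xc0000d), (nat_lit 0x1806c210701207007), (nat_lit 0x15911a83365d52), (nat_lit 0)⟩)))
 (.n (.n (.n (.l ⟨(nat_lit 0xc0000d), (nat_lit 0x1791c3b06b), (nat_lit 0x1548a1700f), (nat_lit 0)⟩)
 (.l ⟨(nat_lit 0x140000d), (nat_lit 0x200701107013), (nat_lit 0x1398e0bd010054a5959d0200301401010075cd79), (nat_lit 0)⟩))
 (.l ⟨(nat_lit 0xc0000b), (nat_lit 0xf0682007012), (nat_lit 0x695802a0415256983), (nat_lit 0)⟩))
 (.n (.n (.l ⟨(nat_lit 0xe0000d), (nat_lit 0xc55811003), (nat_lit 0x1150852445), (nat_lit 0)⟩)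
 (.l ⟨(nat_lit 0xc0000f), (nat_lit 0x701f0681e), (nat_lit 0x5b05c1e218050055267996), (nat_lit 0)⟩))
 (.l ⟨(nat_lit 0x140000d), (nat_lit 0x401e07010), (nat_lit 0x12a19c75115816680800c050040401d455dd97), (nat_lit 0)⟩))))
 (.n (.n (.n (.n (.l ⟨(nat_lit 0xc0000b), (nat_lit 0xa0a145833), (nat_lit 0x1552c13c6d), (nat_lit 0)⟩)
 (.l ⟨(nat_lit 0x120000d), (nat_lit 0x64070141f), (nat_lit 0x4d2b2240c6316d), (nat_lit 0)⟩))
 (.l ⟨(nat_lit 0xc0000b), (nat_lit 0x1f0680f06415), (nat_lit 0x761f5391415a60d6c), (nat_lit 0)⟩))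
 (.n (.n (.l ⟨(nat_lit 0xc0000d), (nat_lit 0x15c7d3ac33), (nat_lit 0xec0d4885e59d020030140101007), (nat_lit 0)⟩)
 (.l ⟨(nat_lit 0xc0000d), (nat_lit 0x701d0680f07010), (nat_lit 0x3219cf347c050055360d51), (nat_lit 0)⟩))
 (.l ⟨(nat_lit 0xc0000d), (nat_lit 0x640f06c1207011), (nat_lit 0x511c801151775440800c050040401d4154981), (nat_lit 0)⟩)))
 (.n (.n (.n (.l ⟨(nat_lit 0xc0000d), (nat_lit 0x5c723e801), (nat_lit 0x151f20c305cd5256007), (nat_lit 0)⟩)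
 (.l ⟨(nat_lit 0xc0000d), (nat_lit 0x1e0701401416), (nat_lit 0x5565c891ac05005496799c), (nat_lit 0)⟩))
 (.l ⟨(nat_lit 0xc0000d), (nat_lit 0x120680707007), (nat_lit 0x3b4887d090050054a5a17c), (nat_lit 0)⟩))
 (.n (.n (.l ⟨(nat_lit 0x1200011), (nat_lit 0x1d5f3cc07), (nat_lit 0x1054028860), (nat_lit 0)⟩)
 (.l ⟨(nat_lit 0xc00013), (nat_lit 0x17070200681d), (nat_lit 0x145dca101c05005565e998), (nat_lit 0)⟩))
 (.l ⟨(nat_lit 0xa0000d), (nat_lit 0x640707014), (nat_lit 0x18f1a8bb14c050056a56166), (nat_lit 0)⟩)))))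
 (.n (.n (.n (.n (.n (.l ⟨(nat_lit 0xc0000b), (nat_lit 0xc00f20403), (nat_lit 0x181381f8d3), (nat_lit 0)⟩)
 (.l ⟨(nat_lit 0xc0000d), (nat_lit 0x16064070141f), (nat_lit 0x5a0fd33005515b984), (nat_lit 0)⟩))
 (.n (.l ⟨(nat_lit 0x1200007), (nat_lit 0x2c200640707011), (nat_lit 0x69654361a15959550), (nat_lit 0)⟩)
 (.l ⟨(nat_lit 0x800015), (nat_lit 0x1f06c120641f), (nat_lit 0x1a1149f04805005475798a), (nat_lit 0)⟩)))
 (.n (.n (.l ⟨(nat_lit 0xc0000d), (nat_lit 0x44b6445f), (nat_lit 0x1a04148c6a0055157d7f020030140101007), (nat_lit 0)⟩)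
 (.l ⟨(nat_lit 0xc0000d), (nat_lit 0x3c1e0641607007), (nat_lit 0xe18d6a4c4050055c59595), (nat_lit 0)⟩))
 (.l ⟨(nat_lit 0x120000d), (nat_lit 0x801b03c03), (nat_lit 0x1a48117c0b5316f01d4c), (nat_lit 0)⟩)))
 (.n (.n (.n (.l ⟨(nat_lit 0xc0000d), (nat_lit 0x1707d65d06), (nat_lit 0x1793d06472), (nat_lit 0)⟩)
 (.l ⟨(nat_lit 0xc0000d), (nat_lit 0x1d0140f07013), (nat_lit 0x601388524c05005415c96d), (nat_lit 0)⟩))
 (.l ⟨(nat_lit 0x120000d), (nat_lit 0x100681e), (nat_lit 0x5185585b14765976), (nat_lit 0)⟩))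
 (.n (.n (.l ⟨(nat_lit 0x120000d), (nat_lit 0x1801159416), (nat_lit 0x1b1d46e06d416415b020030140101007), (nat_lit 0)⟩)
 (.l ⟨(nat_lit 0xc00011), (nat_lit 0x1b07413), (nat_lit 0x283f43705805005415e985), (nat_lit 0)⟩))
 (.l ⟨(nat_lit 0xc0000d), (nat_lit 0x1b07c1a07c10), (nat_lit 0x27088703b1416717c), (nat_lit 0)⟩))))
 (.n (.n (.n (.n (.l ⟨(nat_lit 0x60000d), (nat_lit 0x1648a0d85e), (nat_lit 0x661a90a14801), (nat_lit 0)⟩)
 (.l ⟨(nat_lit 0xc0000d), (nat_lit 0x64160141f07010), (nat_lit 0x19d3b1596c00405005435957c), (nat_lit 0)⟩))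
 (.l ⟨(nat_lit 0xc0000b), (nat_lit 0x1f0141707016), (nat_lit 0x4349458171515c166), (nat_lit 0)⟩))
 (.n (.n (.l ⟨(nat_lit 0x60000d), (nat_lit 0x564673d043), (nat_lit 0xc4bc1cd5e), (nat_lit 0)⟩)
 (.l ⟨(nat_lit 0xc0000d), (nat_lit 0x1106c2006c16), (nat_lit 0x174010201c05005546657d), (nat_lit 0)⟩))
 (.l ⟨(nat_lit 0xa0000d), (nat_lit 0x6c0f06c150141e), (nat_lit 0x511b13f0c4050054a6459b), (nat_lit 0)⟩)))
 (.n (.n (.n (.l ⟨(nat_lit 0xc0000d), (nat_lit 0x4c2727c59), (nat_lit 0x414f822), (nat_lit 0)⟩)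
 (.l ⟨(nat_lit 0xc0000d), (nat_lit 0x1106c2101420), (nat_lit 0x315cd25150050054761d99), (nat_lit 0)⟩))
 (.l ⟨(nat_lit 0xc0000d), (nat_lit 0x1306c16), (nat_lit 0x4427c826514a67973), (nat_lit 0)⟩))
 (.n (.n (.l ⟨(nat_lit 0x140000d), (nat_lit 0x1112c0f), (nat_lit 0xd8fb15c83), (nat_lit 0)⟩)
 (.l ⟨(nat_lit 0xc00013), (nat_lit 0x14150701207014), (nat_lit 0x115354ec780140158d7a), (nat_lit 0)⟩))
 (.l ⟨(nat_lit 0x60000d), (nat_lit 0x6c220640707011), (nat_lit 0x541d4654594a67161), (nat_lit 0)⟩)))))))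
noncomputable def T21 : Tr :=
  .n (.n (.n (.n (.n (.n (.n (.n (.l ⟨(nat_lit 0x1400007), (nat_lit 31), (nat_lit 0), (nat_lit 0)⟩)
 (.l ⟨(nat_lit 0xc0000d), (nat_lit 0x41b04c0503c03), (nat_lit 0x644e53615805005416414b), (nat_lit 0)⟩))
 (.n (.l ⟨(nat_lit 0x140000d), (nat_lit 0xd41066c07), (nat_lit 0xf1565681d), (nat_lit 0)⟩)
 (.l ⟨(nat_lit 0x600015), (nat_lit 0), (nat_lit 0x1f01401), (nat_lit 0)⟩)))
 (.n (.n (.l ⟨(nat_lit 0xc0000d), (nat_lit 0x1398219014), (nat_lit 0xe5581b05a), (nat_lit 0)⟩)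
 (.l ⟨(nat_lit 0xa0000d), (nat_lit 0x110141706415), (nat_lit 0x2a4b95a040050054c61d5b), (nat_lit 0)⟩))
 (.l ⟨(nat_lit 0x80000d), (nat_lit 0x1d0141107013), (nat_lit 0x44228590cc05005505e59a), (nat_lit 0)⟩)))
 (.n (.n (.n (.l ⟨(nat_lit 0xc0000d), (nat_lit 0xa95b17011), (nat_lit 0x4996c15c15), (nat_lit 0)⟩)
 (.l ⟨(nat_lit 0xc0000d), (nat_lit 0x1f0680707011), (nat_lit 0x1892b1d042014050055d5e17f), (nat_lit 0)⟩))
 (.l ⟨(nat_lit 0x60000b), (nat_lit 0x21068120701d), (nat_lit 0x3220d3207d7a66d74), (nat_lit 0)⟩))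
 (.n (.n (.l ⟨(nat_lit 0xe00009), (nat_lit 0x410f64810), (nat_lit 0x12c071f821), (nat_lit 0)⟩)
 (.l ⟨(nat_lit 0xc0000d), (nat_lit 0x2206c2206815), (nat_lit 0x6e4f4581c15f5b59b), (nat_lit 0)⟩))
 (.l ⟨(nat_lit 0xc0000d), (nat_lit 0x1306c1207014), (nat_lit 0x684ac6904d4d6698d), (nat_lit 0)⟩))))
 (.n (.n (.n (.n (.l ⟨(nat_lit 0xc0000b), (nat_lit 0x1087a0f151), (nat_lit 0x110361b92d), (nat_lit 0)⟩)
 (.l ⟨(nat_lit 0xc0000d), (nat_lit 0x64140701e), (nat_lit 0xaf1c4601354b63581), (nat_lit 0)⟩))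
 (.l ⟨(nat_lit 0x600007), (nat_lit 0xf0141501415), (nat_lit 0x555935dc075b172), (nat_lit 0)⟩))
 (.n (.n (.l ⟨(nat_lit 0xc0000d), (nat_lit 0x1a01420865), (nat_lit 0x430201900d), (nat_lit 0)⟩)
 (.l ⟨(nat_lit 0xc0000d), (nat_lit 0x68160701e07011), (nat_lit 0x6b1e9121114d61d71), (nat_lit 0)⟩))
 (.l ⟨(nat_lit 0xc0000d), (nat_lit 0x1406c0f06420), (nat_lit 0x67420234054d5ed63), (nat_lit 0)⟩)))
 (.n (.n (.n (.l ⟨(nat_lit 0xc0000d), (nat_lit 0x175244120001), (nat_lit 0x58571a417), (nat_lit 0)⟩)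
 (.l ⟨(nat_lit 0xe0000d), (nat_lit 0x130701406416), (nat_lit 0x1c0a53e04d655155e), (nat_lit 0)⟩))
 (.l ⟨(nat_lit 0xc0000d), (nat_lit 11283), (nat_lit 0x534ad3c0dc05005436158a), (nat_lit 0)⟩))
 (.n (.n (.l ⟨(nat_lit 0x120000d), (nat_lit 0x16c6f6652e), (nat_lit 0x1c0184ed15), (nat_lit 0)⟩)
 (.l ⟨(nat_lit 0x1400013), (nat_lit 0x106c2106c21), (nat_lit 0x12081555316797d), (nat_lit 0)⟩))
 (.l ⟨(nat_lit 0xc0000d), (nat_lit 0x342007012), (nat_lit 0x31c8930c9475a974), (nat_lit 0)⟩)))))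
 (.n (.n (.n (.n (.n (.l ⟨(nat_lit 0xc00009), (nat_lit 0x1207163118), (nat_lit 0x448371a040), (nat_lit 0)⟩)
 (.l ⟨(nat_lit 0x140000d), (nat_lit 0x701001415), (nat_lit 0x1f1dd800dd4757960), (nat_lit 0)⟩))
 (.n (.l ⟨(nat_lit 0x1400015), (nat_lit 0x5cbf56807), (nat_lit 0x6205525d4763999020030140101007), (nat_lit 0)⟩)
 (.l ⟨(nat_lit 0xc00015), (nat_lit 0x70180702207010), (nat_lit 0x3920d751c005005455f957), (nat_lit 0)⟩)))
 (.n (.n (.l ⟨(nat_lit 0xc0000d), (nat_lit 0x1792b4d043), (nat_lit 0x18c5c42964), (nat_lit 0)⟩)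
 (.l ⟨(nat_lit 0xc0000d), (nat_lit 0x2206c1207013), (nat_lit 0x5f5d85d3ed5163181), (nat_lit 0)⟩))
 (.l ⟨(nat_lit 0xa0000d), (nat_lit 0x1e0681d07013), (nat_lit 0x744e3f805014016557b), (nat_lit 0)⟩)))
 (.n (.n (.n (.l ⟨(nat_lit 0xc0000d), (nat_lit 0x3c5b068fc), (nat_lit 0x190526582a), (nat_lit 0)⟩)
 (.l ⟨(nat_lit 0xc0000d), (nat_lit 0x220141407007), (nat_lit 0x144f42307405005435f592), (nat_lit 0)⟩))
 (.l ⟨(nat_lit 0x140000b), (nat_lit 0x481c02c07), (nat_lit 0x55091b83357d5c), (nat_lit 0)⟩))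
 (.n (.n (.l ⟨(nat_lit 0xe0000d), (nat_lit 0x15c304cc59), (nat_lit 0x4a0344dc0c), (nat_lit 0)⟩)
 (.l ⟨(nat_lit 0x140000f), (nat_lit 0x1206c1407007), (nat_lit 0x15d903095359178), (nat_lit 0)⟩))
 (.l ⟨(nat_lit 0xc0000d), (nat_lit 0x701d07010), (nat_lit 0x6b5d481068050056864998), (nat_lit 0)⟩))))
 (.n (.n (.n (.n (.l ⟨(nat_lit 0xc0000d), (nat_lit 0x1c2466c07), (nat_lit 0x6c291c442), (nat_lit 0)⟩)
 (.l ⟨(nat_lit 0xc0000d), (nat_lit 0x70170641207011), (nat_lit 0x6c13d1001c050054361565), (nat_lit 0)⟩))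
 (.l ⟨(nat_lit 0x140000b), (nat_lit 24594), (nat_lit 0x314b90102d4b53550), (nat_lit 0)⟩))
 (.n (.n (.l ⟨(nat_lit 0xc0000d), (nat_lit 0x147e2f437), (nat_lit 0x1a83903cf4), (nat_lit 0)⟩)
 (.l ⟨(nat_lit 0x120000d), (nat_lit 0x150642006420), (nat_lit 0x6a0c1490a55861180), (nat_lit 0)⟩))
 (.l ⟨(nat_lit 0xc0000d), (nat_lit 0x481501415), (nat_lit 0x1c0d05306c050056a59593), (nat_lit 0)⟩)))
 (.n (.n (.n (.l ⟨(nat_lit 0xc0000d), (nat_lit 0x1a85062cb5), (nat_lit 0x12d3d0456e), (nat_lit 0)⟩)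
 (.l ⟨(nat_lit 0xc0000d), (nat_lit 0x1a0580507807), (nat_lit 0x85731f8210140155970), (nat_lit 0)⟩))
 (.l ⟨(nat_lit 0xc0000d), (nat_lit 0x1607011), (nat_lit 0x543f074079436494c), (nat_lit 0)⟩))
 (.n (.n (.l ⟨(nat_lit 0x1200013), (nat_lit 0x100b51c042), (nat_lit 0x302bc4d1c96463963020030140101007), (nat_lit 0)⟩)
 (.l ⟨(nat_lit 0x1200013), (nat_lit 0x48160642207007), (nat_lit 0x93ec7618801529866500800c050040401d4759173), (nat_lit 0)⟩))
 (.l ⟨(nat_lit 0xc0000d), (nat_lit 0x1006c1806c1d), (nat_lit 0x373c95f20805005495f573), (nat_lit 0)⟩))))))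
 (.n (.n (.n (.n (.n (.n (.l ⟨(nat_lit 0xa00009), (nat_lit 0x404f05136), (nat_lit 0x54fb4607d), (nat_lit 0)⟩)
 (.l ⟨(nat_lit 0x120000d), (nat_lit 0x1a05c1b04c03), (nat_lit 0x550a47f1c592), (nat_lit 0)⟩))
 (.n (.l ⟨(nat_lit 0x140000d), (nat_lit 0xe9671e439), (nat_lit 0xc45810c0d), (nat_lit 0)⟩)
 (.l ⟨(nat_lit 0xa00015), (nat_lit 0x7c1a07810), (nat_lit 0x4405533220050054b5959a), (nat_lit 0)⟩)))
 (.n (.n (.l ⟨(nat_lit 0xc0000d), (nat_lit 0x80c45b807), (nat_lit 0x44884d47c), (nat_lit 0)⟩)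
 (.l ⟨(nat_lit 0xc0000d), (nat_lit 0x120702107010), (nat_lit 0x88011e46a5c17c), (nat_lit 0)⟩))
 (.l ⟨(nat_lit 0xe0000d), (nat_lit 0x1b0381307007), (nat_lit 0x2f15c791dd4a56981), (nat_lit 0)⟩)))
 (.n (.n (.n (.l ⟨(nat_lit 0xc0000d), (nat_lit 0x681261cf7), (nat_lit 0x1f1e501), (nat_lit 0)⟩)
 (.l ⟨(nat_lit 0xc0000d), (nat_lit 0x701406c2207007), (nat_lit 0xeb42015105515f171), (nat_lit 0)⟩))
 (.l ⟨(nat_lit 0x140000b), (nat_lit 0x541306c1007011), (nat_lit 0x615f208736455f), (nat_lit 0)⟩))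
 (.n (.n (.l ⟨(nat_lit 0xe0000d), (nat_lit 0x5a574371dc01), (nat_lit 0x1b15a0442a), (nat_lit 0)⟩)
 (.l ⟨(nat_lit 0xc0000d), (nat_lit 0x701d0141007011), (nat_lit 0xfc5a45502405005455f54a), (nat_lit 0)⟩))
 (.l ⟨(nat_lit 0xc0000d), (nat_lit 0x641e06c0707011), (nat_lit 0xb20786b5758d), (nat_lit 0)⟩))))
 (.n (.n (.n (.n (.l ⟨(nat_lit 0xc0000b), (nat_lit 0x51e5686d), (nat_lit 0x1c01760473), (nat_lit 0)⟩)
 (.l ⟨(nat_lit 0xc0000d), (nat_lit 0x401e0641407007), (nat_lit 0x1784d1c005005585b97b), (nat_lit 0)⟩))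
 (.l ⟨(nat_lit 0xc0000b), (nat_lit 7), (nat_lit 0x1746f5484050d51), (nat_lit 0)⟩))
 (.n (.n (.l ⟨(nat_lit 0xc0000d), (nat_lit 0xa4b256810), (nat_lit 0xb2f04d10801), (nat_lit 0)⟩)
 (.l ⟨(nat_lit 0xc0000d), (nat_lit 0x140702107011), (nat_lit 0x1a8a20c86663176), (nat_lit 0)⟩))
 (.l ⟨(nat_lit 0xc0000d), (nat_lit 0x200641307017), (nat_lit 0x5c618836595951d98), (nat_lit 0)⟩)))
 (.n (.n (.n (.l ⟨(nat_lit 0xc0000d), (nat_lit 0xccb620cbd), (nat_lit 0x1518119017), (nat_lit 0)⟩)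
 (.l ⟨(nat_lit 0xc0000d), (nat_lit 0x6c160142007007), (nat_lit 0x5c6f44049014016354d), (nat_lit 0)⟩))
 (.l ⟨(nat_lit 0xc0000d), (nat_lit 0x601b0740b), (nat_lit 0x1b1110b0714163d61), (nat_lit 0)⟩))
 (.n (.n (.l ⟨(nat_lit 0x120000d), (nat_lit 0x1245f1fd05), (nat_lit 0x6e1e0852d14d67177020030140101007), (nat_lit 0)⟩)
 (.l ⟨(nat_lit 0xc00013), (nat_lit 0x481e0681007007), (nat_lit 0x131790103c050056c6496f), (nat_lit 0)⟩))
 (.l ⟨(nat_lit 0xc0000d), (nat_lit 0x2c220680707007), (nat_lit 0x1648661f5475c54b), (nat_lit 0)⟩)))))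
 (.n (.n (.n (.n (.n (.l ⟨(nat_lit 0xc0000b), (nat_lit 0x1446c4fc31), (nat_lit 0x69284301b005), (nat_lit 0)⟩)
 (.l ⟨(nat_lit 0x140000d), (nat_lit 0x70070681107007), (nat_lit 0x566140b0894a62d6e), (nat_lit 0)⟩))
 (.n (.l ⟨(nat_lit 0xc00007), (nat_lit 0x170641e06c1d), (nat_lit 0x1807533150050054362d90), (nat_lit 0)⟩)
 (.l ⟨(nat_lit 0xc00015), (nat_lit 0x7c0e0641007007), (nat_lit 0x5b10c423fc050055261d67), (nat_lit 0)⟩)))
 (.n (.n (.l ⟨(nat_lit 0xc0000d), (nat_lit 0x1606c0d0f4), (nat_lit 0x1a10108816), (nat_lit 0)⟩)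
 (.l ⟨(nat_lit 0xc0000d), (nat_lit 0x141306c2007007), (nat_lit 0x5e4e885178050055465166), (nat_lit 0)⟩))
 (.l ⟨(nat_lit 0xc0000d), (nat_lit 0x180141f07011), (nat_lit 0x6e4c0a30d4050057064182), (nat_lit 0)⟩)))
 (.n (.n (.n (.l ⟨(nat_lit 0xc0000d), (nat_lit 0x1448a0586e), (nat_lit 0x606c474c2), (nat_lit 0)⟩)
 (.l ⟨(nat_lit 0xc0000d), (nat_lit 0x1d0701006c1e), (nat_lit 0x660642a1c0015316e), (nat_lit 0)⟩))
 (.l ⟨(nat_lit 0xa0000d), (nat_lit 0x150681207012), (nat_lit 0x1024407014015cd7d), (nat_lit 0)⟩))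
 (.n (.n (.l ⟨(nat_lit 0x120000d), (nat_lit 0x1a07d5b003), (nat_lit 0x7c594b4f3), (nat_lit 0)⟩)
 (.l ⟨(nat_lit 0xc0000f), (nat_lit 0x1706c0f0141e), (nat_lit 0x246412501c05005436696d), (nat_lit 0)⟩))
 (.l ⟨(nat_lit 0x140000d), (nat_lit 0x13068070701d), (nat_lit 0x1b9212294353585), (nat_lit 0)⟩))))
 (.n (.n (.n (.n (.l ⟨(nat_lit 0xc0000d), (nat_lit 0x1957516480), (nat_lit 0x3909204f3), (nat_lit 0)⟩)
 (.l ⟨(nat_lit 0xe0000d), (nat_lit 0x110140707007), (nat_lit 0x450fc821bd455ed5b), (nat_lit 0)⟩))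
 (.l ⟨(nat_lit 0x140000b), (nat_lit 0x641506415), (nat_lit 0xdd32620835c967), (nat_lit 0)⟩))
 (.n (.n (.l ⟨(nat_lit 0xc0000d), (nat_lit 0xd05e15c11), (nat_lit 0x4405154d6), (nat_lit 0)⟩)
 (.l ⟨(nat_lit 0x120000d), (nat_lit 0x1306c1106420), (nat_lit 0x446655c1694360d86), (nat_lit 0)⟩))
 (.l ⟨(nat_lit 0xc0000d), (nat_lit 0x6c1f0681807007), (nat_lit 0x561c84915405005495f155), (nat_lit 0)⟩)))
 (.n (.n (.n (.l ⟨(nat_lit 0xc0000d), (nat_lit 0x707a4e468), (nat_lit 0x18d1e1d00e), (nat_lit 0)⟩)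
 (.l ⟨(nat_lit 0xa0000d), (nat_lit 0x1e0641006c1f), (nat_lit 0xc4273ec5000c050054357191), (nat_lit 0)⟩))
 (.l ⟨(nat_lit 0xc0000d), (nat_lit 0x540501c03), (nat_lit 0x204cd2d1a541), (nat_lit 0)⟩))
 (.n (.n (.l ⟨(nat_lit 0x140000b), (nat_lit 0xa05759033), (nat_lit 0x4d8906486), (nat_lit 0)⟩)
 (.l ⟨(nat_lit 0xc00013), (nat_lit 0x14220142207010), (nat_lit 0x411ccf940405005455e187), (nat_lit 0)⟩))
 (.l ⟨(nat_lit 0xc0000d), (nat_lit 0x680706416), (nat_lit 0x76568500c14f56551), (nat_lit 0)⟩)))))))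
 (.n (.n (.n (.n (.n (.n (.n (.l ⟨(nat_lit 0x600005), (nat_lit 0x553dc6b), (nat_lit 0xa45a43058), (nat_lit 0)⟩)
 (.l ⟨(nat_lit 0xc0000d), (nat_lit 0x601101415), (nat_lit 0x6a1716e475606098d), (nat_lit 0)⟩))
 (.n (.l ⟨(nat_lit 0x140000d), (nat_lit 0x72080c03001), (nat_lit 0xed7518593), (nat_lit 0)⟩)
 (.l ⟨(nat_lit 0xe00015), (nat_lit 0x141d07012), (nat_lit 0x40502c050055a58d5b), (nat_lit 0)⟩)))
 (.n (.n (.l ⟨(nat_lit 0xc0000d), (nat_lit 0x1091f1bc84), (nat_lit 0x12133208475f582020030140101007), (nat_lit 0)⟩)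
 (.l ⟨(nat_lit 0xc0000d), (nat_lit 0x641d06c1307007), (nat_lit 0x6e3f11c0854560993), (nat_lit 0)⟩))
 (.l ⟨(nat_lit 0xe0000d), (nat_lit 0x200141e), (nat_lit 0x171e4650514753193), (nat_lit 0)⟩)))
 (.n (.n (.n (.l ⟨(nat_lit 0x40000d), (nat_lit 0x1d802fc07), (nat_lit 0x1341747022), (nat_lit 0)⟩)
 (.l ⟨(nat_lit 0x80000d), (nat_lit 0x1006c2207011), (nat_lit 0x6c25d7d135645b188), (nat_lit 0)⟩))
 (.l ⟨(nat_lit 0xc0000b), (nat_lit 0x200681807007), (nat_lit 0xa9821e10753d68), (nat_lit 0)⟩))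
 (.n (.n (.l ⟨(nat_lit 0xe0000d), (nat_lit 0x40fb52424), (nat_lit 0x31261b853), (nat_lit 0)⟩)
 (.l ⟨(nat_lit 0xc0000d), (nat_lit 0x16070140701e), (nat_lit 0x2110d204594157579), (nat_lit 0)⟩))
 (.l ⟨(nat_lit 0xc0000d), (nat_lit 0x1d070160681d), (nat_lit 0x14c4760914567961), (nat_lit 0)⟩))))
 (.n (.n (.n (.n (.l ⟨(nat_lit 0xc0000b), (nat_lit 0x4211d03f), (nat_lit 0x8c882c40f), (nat_lit 0)⟩)
 (.l ⟨(nat_lit 0xc0000d), (nat_lit 0x106c180641d), (nat_lit 0x31528551996460d91), (nat_lit 0)⟩))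
 (.l ⟨(nat_lit 0x1400009), (nat_lit 0x682206816), (nat_lit 0x1b5291b81b6698d), (nat_lit 0)⟩))
 (.n (.n (.l ⟨(nat_lit 0xc0000d), (nat_lit 0x134803b175), (nat_lit 0x445a4ec5d), (nat_lit 0)⟩)
 (.l ⟨(nat_lit 0xc0000d), (nat_lit 0x70140701e06815), (nat_lit 0x614746d4316067578), (nat_lit 0)⟩))
 (.l ⟨(nat_lit 0xc0000d), (nat_lit 0x22064130141f), (nat_lit 0x4285c3e43b014015e55b), (nat_lit 0)⟩)))
 (.n (.n (.n (.l ⟨(nat_lit 0xc0000d), (nat_lit 0x8c69220fa), (nat_lit 0xb20786b), (nat_lit 0)⟩)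
 (.l ⟨(nat_lit 0xc0000d), (nat_lit 0x120641007011), (nat_lit 0x15c504541600c050054c5b188), (nat_lit 0)⟩))
 (.l ⟨(nat_lit 0xc0000d), (nat_lit 0x130141206c1d), (nat_lit 0x1a19d6e208050054962564), (nat_lit 0)⟩))
 (.n (.n (.l ⟨(nat_lit 0x120000d), (nat_lit 0x78bc1f06e), (nat_lit 0x451a4846f), (nat_lit 0)⟩)
 (.l ⟨(nat_lit 0xc00013), (nat_lit 0x601106c1007007), (nat_lit 0x343e42f01405005475f18c), (nat_lit 0)⟩))
 (.l ⟨(nat_lit 0xc0000d), (nat_lit 0x1a06c1107007), (nat_lit 0x47184430ec050054a65d7a), (nat_lit 0)⟩)))))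
 (.n (.n (.n (.n (.n (.l ⟨(nat_lit 0xc0000b), (nat_lit 0x65115441b), (nat_lit 0x4f8501580b), (nat_lit 0)⟩)
 (.l ⟨(nat_lit 0x120000d), (nat_lit 0x641f06415), (nat_lit 0x94d81819d5f5d190), (nat_lit 0)⟩))
 (.n (.l ⟨(nat_lit 0x600006), (nat_lit 0x1c05058190841b07c1907c1c06005), (nat_lit 0), (nat_lit 0)⟩)
 (.l ⟨(nat_lit 0xc00015), (nat_lit 0x301607013), (nat_lit 0x1f27c181d0050054566566), (nat_lit 0)⟩)))
 (.n (.n (.l ⟨(nat_lit 0xc0000d), (nat_lit 0xcc6813005), (nat_lit 0x1541361077), (nat_lit 0)⟩)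
 (.l ⟨(nat_lit 0xc0000d), (nat_lit 0x70130681107013), (nat_lit 0x10112c940515565993), (nat_lit 0)⟩))
 (.l ⟨(nat_lit 0xc0000d), (nat_lit 0x700f06c1807010), (nat_lit 0x5465c764a0050054357d75), (nat_lit 0)⟩)))
 (.n (.n (.n (.l ⟨(nat_lit 0xc0000d), (nat_lit 0x1810661054), (nat_lit 0x1716d06077), (nat_lit 0)⟩)
 (.l ⟨(nat_lit 0xc0000d), (nat_lit 0x1306c1f07007), (nat_lit 0x1d1c8f71416b), (nat_lit 0)⟩))
 (.l ⟨(nat_lit 0x120000b), (nat_lit 0x170640f06815), (nat_lit 0xb1c81d5655560d9b), (nat_lit 0)⟩))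
 (.n (.n (.l ⟨(nat_lit 0x120000b), (nat_lit 0x1101e24c07), (nat_lit 0x68724c4c3), (nat_lit 0)⟩)
 (.l ⟨(nat_lit 0xc0000f), (nat_lit 0x170141f01415), (nat_lit 0x31580874cc05005525e95a), (nat_lit 0)⟩))
 (.l ⟨(nat_lit 0xe0000d), (nat_lit 0xf06c1107014), (nat_lit 0x1c0534941655577), (nat_lit 0)⟩))))
 (.n (.n (.n (.n (.l ⟨(nat_lit 0xc0000d), (nat_lit 0x615140412), (nat_lit 0x500f61c12), (nat_lit 0)⟩)
 (.l ⟨(nat_lit 0xc0000d), (nat_lit 0x74140140707007), (nat_lit 0x6a4ec581d005005455f993), (nat_lit 0)⟩))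
 (.l ⟨(nat_lit 0xc0000b), (nat_lit 0x241e06c1207010), (nat_lit 0x18c213ccf700d4764d69), (nat_lit 0)⟩))
 (.n (.n (.l ⟨(nat_lit 0xc0000d), (nat_lit 0x792c19c3b), (nat_lit 0x5a4701c1bc05005416498c020030140101007), (nat_lit 0)⟩)
 (.l ⟨(nat_lit 0xc0000d), (nat_lit 0x701706c1f07012), (nat_lit 0x300313501c050054b5919c), (nat_lit 0)⟩))
 (.l ⟨(nat_lit 0xe0000d), (nat_lit 0xe0681307011), (nat_lit 0x5c1b1c55c50d6a), (nat_lit 0)⟩)))
 (.n (.n (.n (.l ⟨(nat_lit 0xc0000d), (nat_lit 0x392d1f49f), (nat_lit 0x1b41f5dc05), (nat_lit 0)⟩)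
 (.l ⟨(nat_lit 0xa0000d), (nat_lit 0x1d0640f07010), (nat_lit 0x2f1b87b15805005515d990), (nat_lit 0)⟩))
 (.l ⟨(nat_lit 0xc0000d), (nat_lit 0x1007014), (nat_lit 0x2469130865f94f), (nat_lit 0)⟩))
 (.n (.n (.l ⟨(nat_lit 0x140000b), (nat_lit 0x60a35e807), (nat_lit 0x1b8325003f), (nat_lit 0)⟩)
 (.l ⟨(nat_lit 0xc00013), (nat_lit 0x180681007013), (nat_lit 0x404a888308050054567191), (nat_lit 0)⟩))
 (.l ⟨(nat_lit 0xc0000d), (nat_lit 0x106c1706415), (nat_lit 0x403fc5a0556066171), (nat_lit 0)⟩))))))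
 (.n (.n (.n (.n (.n (.n (.l ⟨(nat_lit 0xc00007), (nat_lit 0x906a6040d), (nat_lit 0x60c7365013), (nat_lit 0)⟩)
 (.l ⟨(nat_lit 0xc0000d), (nat_lit 0x180641706415), (nat_lit 0x660e50710d5d5d40800c050040401d4164d60), (nat_lit 0)⟩))
 (.n (.l ⟨(nat_lit 0x140000d), (nat_lit 0x19c123f461), (nat_lit 0x11c121f879), (nat_lit 0)⟩)
 (.l ⟨(nat_lit 0xc00015), (nat_lit 0x58190481c04c03), (nat_lit 0x4b448363b0050055157978), (nat_lit 0)⟩)))
 (.n (.n (.l ⟨(nat_lit 0xc0000d), (nat_lit 0x1a42414062), (nat_lit 0xa4b815cb8), (nat_lit 0)⟩)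
 (.l ⟨(nat_lit 0xc0000d), (nat_lit 0x140f0700707007), (nat_lit 0x510fc670c0050054f63d5f), (nat_lit 0)⟩))
 (.l ⟨(nat_lit 0xa0000d), (nat_lit 0x100681d), (nat_lit 0x4c1d99216c05005435f587), (nat_lit 0)⟩)))
 (.n (.n (.n (.l ⟨(nat_lit 0xc0000d), (nat_lit 0x1a00906d07), (nat_lit 0x58611bc27), (nat_lit 0)⟩)
 (.l ⟨(nat_lit 0xc0000d), (nat_lit 0x4c1b05c1905c03), (nat_lit 0x4b65042198050054d6399b), (nat_lit 0)⟩))
 (.l ⟨(nat_lit 0xc0000b), (nat_lit 0x14160142107011), (nat_lit 0x3f3cc57055475cd71), (nat_lit 0)⟩))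
 (.n (.n (.l ⟨(nat_lit 0xe0000d), (nat_lit 0xe91d1bc1c), (nat_lit 0xe40b59071), (nat_lit 0)⟩)
 (.l ⟨(nat_lit 0xc0000f), (nat_lit 0x200141e07007), (nat_lit 0x231511a04c050054365d81), (nat_lit 0)⟩))
 (.l ⟨(nat_lit 0x140000d), (nat_lit 0x6c0f01415), (nat_lit 0x52598222214564d4d), (nat_lit 0)⟩))))
 (.n (.n (.n (.n (.l ⟨(nat_lit 0xc0000b), (nat_lit 0x14855600bb), (nat_lit 0xd4fc38863), (nat_lit 0)⟩)
 (.l ⟨(nat_lit 0xc0000d), (nat_lit 0x1d0681d07013), (nat_lit 0x351113211005005555519a), (nat_lit 0)⟩))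
 (.l ⟨(nat_lit 0x80000b), (nat_lit 0x681d06415), (nat_lit 0x2456d5104d4d66986), (nat_lit 0)⟩))
 (.n (.n (.l ⟨(nat_lit 0xc0000d), (nat_lit 0xdcf918d6b), (nat_lit 0x58b2218a3), (nat_lit 0)⟩)
 (.l ⟨(nat_lit 0xe0000d), (nat_lit 0x160641307017), (nat_lit 0x4154481211516219a), (nat_lit 0)⟩))
 (.l ⟨(nat_lit 0xc0000d), (nat_lit 0x341407007), (nat_lit 0x18165031495f198), (nat_lit 0)⟩)))
 (.n (.n (.n (.l ⟨(nat_lit 0xc0000d), (nat_lit 0x5b85b5e413), (nat_lit 0x1a12b1a413), (nat_lit 0)⟩)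
 (.l ⟨(nat_lit 0xa0000d), (nat_lit 0x141d0681407010), (nat_lit 0x451901b208050054153d9a), (nat_lit 0)⟩))
 (.l ⟨(nat_lit 0xc0000d), (nat_lit 0x1b0881407011), (nat_lit 0x292e08405d475615a), (nat_lit 0)⟩))
 (.n (.n (.l ⟨(nat_lit 0x120000d), (nat_lit 0x2a1354007c01), (nat_lit 0x1acc121c5b), (nat_lit 0)⟩)
 (.l ⟨(nat_lit 0xa00013), (nat_lit 0x4c1b0580b), (nat_lit 0x484b043074050054a6457d), (nat_lit 0)⟩))
 (.l ⟨(nat_lit 0xc0000d), (nat_lit 0x141f07011), (nat_lit 0xd0806559d4563d45), (nat_lit 0)⟩)))))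
 (.n (.n (.n (.n (.n (.l ⟨(nat_lit 0xc0000b), (nat_lit 0x1f16a60c4d), (nat_lit 0x1345d59938), (nat_lit 0)⟩)
 (.l ⟨(nat_lit 0xc0000d), (nat_lit 0x1306c070681f), (nat_lit 0x6f189242cd5261d5d), (nat_lit 0)⟩))
 (.n (.l ⟨(nat_lit 0xc00007), (nat_lit 0xf0701207007), (nat_lit 0x613ac525dd4b67196), (nat_lit 0)⟩)
 (.l ⟨(nat_lit 0xa00015), (nat_lit 0x170642107011), (nat_lit 0x35b43f048050056364d7d), (nat_lit 0)⟩)))
 (.n (.n (.l ⟨(nat_lit 0xc0000d), (nat_lit 0x1386f48051), (nat_lit 0x1157e1ad37), (nat_lit 0)⟩)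
 (.l ⟨(nat_lit 0xc0000d), (nat_lit 0x1406c2107012), (nat_lit 0x184e44d140050055f62576), (nat_lit 0)⟩))
 (.l ⟨(nat_lit 0xc0000d), (nat_lit 0x841901c03), (nat_lit 0x13660f405c0500556644076418a), (nat_lit 0)⟩)))
 (.n (.n (.n (.l ⟨(nat_lit 0xc0000d), (nat_lit 0xdd301a863), (nat_lit 0xc4504a450), (nat_lit 0)⟩)
 (.l ⟨(nat_lit 0x120000d), (nat_lit 0x64160702007010), (nat_lit 0x14d05858d435c985), (nat_lit 0)⟩))
 (.l ⟨(nat_lit 0xc0000d), (nat_lit 0x1f06c130681d), (nat_lit 0x2a3d0e11e005005475558d), (nat_lit 0)⟩))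
 (.n (.n (.l ⟨(nat_lit 0x120000d), (nat_lit 0x1941e5ccfa), (nat_lit 0x1b0304cc32), (nat_lit 0)⟩)
 (.l ⟨(nat_lit 0xc0000f), (nat_lit 0x64220680707014), (nat_lit 0xd52a4643a004050056859580), (nat_lit 0)⟩))
 (.l ⟨(nat_lit 0xc0000d), (nat_lit 0x142106c1f), (nat_lit 0x604a86e1f9496014c), (nat_lit 0)⟩))))
 (.n (.n (.n (.n (.l ⟨(nat_lit 0xc0000d), (nat_lit 0x4545801d), (nat_lit 0x78481d4fb), (nat_lit 0)⟩)
 (.l ⟨(nat_lit 0x60000d), (nat_lit 0x6c1e06c1607007), (nat_lit 0x1261f57d0f0050054b63d57), (nat_lit 0)⟩))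
 (.l ⟨(nat_lit 0x140000b), (nat_lit 0x682206816), (nat_lit 0x4140f21c3c6698d), (nat_lit 0)⟩))
 (.n (.n (.l ⟨(nat_lit 0xc0000d), (nat_lit 0x3e4594540f), (nat_lit 0x1a8a20c866), (nat_lit 0)⟩)
 (.l ⟨(nat_lit 0xc0000d), (nat_lit 0x681d0640f07010), (nat_lit 0x4c46c5a05d4961d6e), (nat_lit 0)⟩))
 (.l ⟨(nat_lit 0xc0000d), (nat_lit 0x1f06c1307007), (nat_lit 0x760451059455f95a), (nat_lit 0)⟩)))
 (.n (.n (.n (.l ⟨(nat_lit 0xc0000d), (nat_lit 0x16c734d48a), (nat_lit 0xbcfa19c0d), (nat_lit 0)⟩)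
 (.l ⟨(nat_lit 0xc0000d), (nat_lit 0x706c1307011), (nat_lit 0x36030611d5495996d), (nat_lit 0)⟩))
 (.l ⟨(nat_lit 0xc0000d), (nat_lit 0x14200141707012), (nat_lit 0x14464720c8050054354979), (nat_lit 0)⟩))
 (.n (.n (.l ⟨(nat_lit 0x140000d), (nat_lit 0x115323e817), (nat_lit 0x4c8835b018), (nat_lit 0)⟩)
 (.l ⟨(nat_lit 0xc00013), (nat_lit 0x301f0641307007), (nat_lit 0x5a1c176158050054566565), (nat_lit 0)⟩))
 (.l ⟨(nat_lit 0xc0000d), (nat_lit 0x22014140641e), (nat_lit 0x544ac80089415e568), (nat_lit 0)⟩)))))))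
noncomputable def T22 : Tr :=
  .n (.n (.n (.n (.n (.n (.n (.n (.l ⟨(nat_lit 0x200003), (nat_lit 0x10140b), (nat_lit 0x20180c), (nat_lit 0)⟩)
 (.l ⟨(nat_lit 0xc0000d), (nat_lit 0x641d07017), (nat_lit 0x61610883f8050054759994), (nat_lit 0)⟩))
 (.n (.l ⟨(nat_lit 0x140000d), (nat_lit 0x7c9f06074), (nat_lit 0x140fa55c36), (nat_lit 0)⟩)
 (.l ⟨(nat_lit 0x1400015), (nat_lit 12), (nat_lit 0x331d416039575ac0c), (nat_lit 0)⟩)))
 (.n (.n (.l ⟨(nat_lit 0xc0000d), (nat_lit 0x1b87b20c30), (nat_lit 0x17c2710c1c), (nat_lit 0)⟩)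
 (.l ⟨(nat_lit 0xc0000d), (nat_lit 0x68200640f07011), (nat_lit 0x611b55a040050054b5954b), (nat_lit 0)⟩))
 (.l ⟨(nat_lit 0xc0000d), (nat_lit 0x1e0681d07012), (nat_lit 0xa574590050054759160), (nat_lit 0)⟩)))
 (.n (.n (.n (.l ⟨(nat_lit 0xc0000d), (nat_lit 0x491f6286e), (nat_lit 0x4243446434), (nat_lit 0)⟩)
 (.l ⟨(nat_lit 0x120000d), (nat_lit 0x34210140f07007), (nat_lit 0x174743f811641520200301401010075e159), (nat_lit 0)⟩))
 (.l ⟨(nat_lit 0x120000b), (nat_lit 0x6c1f0702207007), (nat_lit 0x173f06f00d436216a), (nat_lit 0)⟩))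
 (.n (.n (.l ⟨(nat_lit 0xe0000b), (nat_lit 0x138451e412), (nat_lit 0x445314935), (nat_lit 0)⟩)
 (.l ⟨(nat_lit 0xc0000d), (nat_lit 0x741b0401a04403), (nat_lit 0x344784b20405005535cd93), (nat_lit 0)⟩))
 (.l ⟨(nat_lit 0xc0000d), (nat_lit 0x170641007011), (nat_lit 0x14ca1170ff55d9b), (nat_lit 0)⟩))))
 (.n (.n (.n (.n (.l ⟨(nat_lit 0xc0000b), (nat_lit 0x1605f5fc84), (nat_lit 0x1685d4b035), (nat_lit 0)⟩)
 (.l ⟨(nat_lit 0xc0000d), (nat_lit 0x700f0642007007), (nat_lit 0x1334148a068050056566d82), (nat_lit 0)⟩))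
 (.l ⟨(nat_lit 0x800009), (nat_lit 14354), (nat_lit 0x144c9780f14c), (nat_lit 0)⟩))
 (.n (.n (.l ⟨(nat_lit 0xc0000d), (nat_lit 0x1307a42474), (nat_lit 0x68692fc60), (nat_lit 0)⟩)
 (.l ⟨(nat_lit 0xc0000d), (nat_lit 0x70120641007011), (nat_lit 0x674c1930fd566417e), (nat_lit 0)⟩))
 (.l ⟨(nat_lit 0x140000d), (nat_lit 0x2106c1d0681d), (nat_lit 0x6e0797f2254759949), (nat_lit 0)⟩)))
 (.n (.n (.n (.l ⟨(nat_lit 0xc0000d), (nat_lit 0x1b86830c72), (nat_lit 0x2d0581c810), (nat_lit 0)⟩)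
 (.l ⟨(nat_lit 0xc0000d), (nat_lit 0x70701e07007), (nat_lit 0x120784855900405005416319d), (nat_lit 0)⟩))
 (.l ⟨(nat_lit 0xc0000d), (nat_lit 0x1206c1807007), (nat_lit 0x70c878161496198e00806031496095b), (nat_lit 0)⟩))
 (.n (.n (.l ⟨(nat_lit 0x120000d), (nat_lit 0x2c8a18c33), (nat_lit 0x555f1cc35), (nat_lit 0)⟩)
 (.l ⟨(nat_lit 0xc00013), (nat_lit 0xf0681807010), (nat_lit 0x221418a0a005005535e995), (nat_lit 0)⟩))
 (.l ⟨(nat_lit 0xc0000d), (nat_lit 0x68160141307011), (nat_lit 0x6b1b50b1c14f59545), (nat_lit 0)⟩)))))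
 (.n (.n (.n (.n (.n (.l ⟨(nat_lit 0xc0000b), (nat_lit 0x45973c454), (nat_lit 0x1803f1610a), (nat_lit 0)⟩)
 (.l ⟨(nat_lit 0xa0000d), (nat_lit 0x130700f07007), (nat_lit 0x666441719805014015e172), (nat_lit 0)⟩))
 (.n (.l ⟨(nat_lit 0x400003), (nat_lit 0x441b0580b), (nat_lit 0x3d0801c0559182), (nat_lit 0)⟩)
 (.l ⟨(nat_lit 0xc00015), (nat_lit 0x680f0641e), (nat_lit 0x2c46f4a0400140156583), (nat_lit 0)⟩)))
 (.n (.n (.l ⟨(nat_lit 0xc0000d), (nat_lit 0x513a6385c), (nat_lit 0x134164c4155e59a020030140101007), (nat_lit 0)⟩)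
 (.l ⟨(nat_lit 0xc0000d), (nat_lit 0x64150701207012), (nat_lit 0x313cc1d6255264969), (nat_lit 0)⟩))
 (.l ⟨(nat_lit 0xc0000d), (nat_lit 0x3c1b0741905c03), (nat_lit 0x6f5e8742ed4c5b591), (nat_lit 0)⟩)))
 (.n (.n (.n (.l ⟨(nat_lit 0xc0000d), (nat_lit 0x1398e43c3a), (nat_lit 0x345415c7e), (nat_lit 0)⟩)
 (.l ⟨(nat_lit 0x140000d), (nat_lit 0x1d0681406c1f), (nat_lit 0x444f580295054d6700800c050040401d4362586), (nat_lit 0)⟩))
 (.l ⟨(nat_lit 0xc0000b), (nat_lit 0x120641107012), (nat_lit 0x67594b81ad4a6718c), (nat_lit 0)⟩))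
 (.n (.n (.l ⟨(nat_lit 0xe0000f), (nat_lit 0xeb11059), (nat_lit 0x614f08418d49605560080602407014080280c0300c02407014080280b01c05020050040802c0b), (nat_lit 0)⟩)
 (.l ⟨(nat_lit 0xc0000f), (nat_lit 0x841d0681707010), (nat_lit 0x546f42102014016216b), (nat_lit 0)⟩))
 (.l ⟨(nat_lit 0xe0000d), (nat_lit 0x6c1e0142106415), (nat_lit 0x374e4bf01d4d61d72), (nat_lit 0)⟩))))
 (.n (.n (.n (.n (.l ⟨(nat_lit 0xc0000d), (nat_lit 0x1084517423), (nat_lit 0x1c5c2246a), (nat_lit 0)⟩)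
 (.l ⟨(nat_lit 0xc0000d), (nat_lit 0x141306c21), (nat_lit 0x6919120455496254f), (nat_lit 0)⟩))
 (.l ⟨(nat_lit 0xc0000b), (nat_lit 0x1b07c1b05c03), (nat_lit 0x5f30855171456798e), (nat_lit 0)⟩))
 (.n (.n (.l ⟨(nat_lit 0xc0000d), (nat_lit 0x171791087f), (nat_lit 0x9d6560858), (nat_lit 0)⟩)
 (.l ⟨(nat_lit 0xc0000d), (nat_lit 0x1d0701f07017), (nat_lit 0x305f55d06c050057b54995), (nat_lit 0)⟩))
 (.l ⟨(nat_lit 0xc0000d), (nat_lit 0x881807007), (nat_lit 0x434544c5714762d6e), (nat_lit 0)⟩)))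
 (.n (.n (.n (.l ⟨(nat_lit 0xc0000d), (nat_lit 0x35169291e401), (nat_lit 0x1454066c2f), (nat_lit 0)⟩)
 (.l ⟨(nat_lit 0xc0000d), (nat_lit 0x210140707010), (nat_lit 0x612c55c0cc050054a5b19c), (nat_lit 0)⟩))
 (.l ⟨(nat_lit 0x120000d), (nat_lit 0x1807012), (nat_lit 0x50250821314b), (nat_lit 0)⟩))
 (.n (.n (.l ⟨(nat_lit 0x1400014), (nat_lit 179560), (nat_lit 0), (nat_lit 0)⟩)
 (.l ⟨(nat_lit 0xc00013), (nat_lit 0x1b0482207013), (nat_lit 0x73f1340d4050054f57d6e), (nat_lit 0)⟩))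
 (.l ⟨(nat_lit 0xc0000d), (nat_lit 0x1b0580507807), (nat_lit 0x3f1a05d140050056060175), (nat_lit 0)⟩))))))
 (.n (.n (.n (.n (.n (.n (.l ⟨(nat_lit 0x60000b), (nat_lit 0x6611d091e001), (nat_lit 0x14c295f41b), (nat_lit 0)⟩)
 (.l ⟨(nat_lit 0xc0000d), (nat_lit 0x170141307014), (nat_lit 0xc560395b95464d92), (nat_lit 0)⟩))
 (.n (.l ⟨(nat_lit 0x140000d), (nat_lit 0x15c5a16d06), (nat_lit 0x1a5171c13d), (nat_lit 0)⟩)
 (.l ⟨(nat_lit 0x1400015), (nat_lit 0x840505c03), (nat_lit 0x5f5a07f031515b96c), (nat_lit 0)⟩)))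
 (.n (.n (.l ⟨(nat_lit 0xc0000d), (nat_lit 0x1552b12436), (nat_lit 0x198524d85f), (nat_lit 0)⟩)
 (.l ⟨(nat_lit 0xc0000d), (nat_lit 0x501d0701107007), (nat_lit 0x241ed5f1b4050054764150), (nat_lit 0)⟩))
 (.l ⟨(nat_lit 0xc0000d), (nat_lit 0x401b07412), (nat_lit 0x281787c065455ed7a), (nat_lit 0)⟩)))
 (.n (.n (.n (.l ⟨(nat_lit 0xc0000d), (nat_lit 0xd4860d493), (nat_lit 0x170bc0cc79), (nat_lit 0)⟩)
 (.l ⟨(nat_lit 0xc0000d), (nat_lit 0x1406c1107011), (nat_lit 0x5c1f59741805005585258f), (nat_lit 0)⟩))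
 (.l ⟨(nat_lit 0xc0000b), (nat_lit 0x3c1d06416), (nat_lit 0x2f594760d97552988), (nat_lit 0)⟩))
 (.n (.n (.l ⟨(nat_lit 0xe0000d), (nat_lit 0x1a5930cca1), (nat_lit 0x102d3522801), (nat_lit 0)⟩)
 (.l ⟨(nat_lit 0xe0000e), (nat_lit 0x2106c2106c2106c140700f), (nat_lit 0), (nat_lit 0)⟩))
 (.l ⟨(nat_lit 0xc0000d), (nat_lit 0x106c1506c1d), (nat_lit 0x4f558730a4050055661d74), (nat_lit 0)⟩))))
 (.n (.n (.n (.n (.l ⟨(nat_lit 0xc0000b), (nat_lit 0x3109cfb14003), (nat_lit 0x2c683b057), (nat_lit 0)⟩)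
 (.l ⟨(nat_lit 0xc0000d), (nat_lit 0x600f0701d), (nat_lit 0x89021b04d005506658c), (nat_lit 0)⟩))
 (.l ⟨(nat_lit 0xc0000b), (nat_lit 0x17070100701e), (nat_lit 0x424f47c65d515a99e), (nat_lit 0)⟩))
 (.n (.n (.l ⟨(nat_lit 0xc0000d), (nat_lit 0x19062150e2), (nat_lit 0x11a92c18801), (nat_lit 0)⟩)
 (.l ⟨(nat_lit 0xc0000d), (nat_lit 0x682106c0707007), (nat_lit 0x584185507c05005415d55a), (nat_lit 0)⟩))
 (.l ⟨(nat_lit 0x140000d), (nat_lit 0x700f07007), (nat_lit 0x414758715d4765186), (nat_lit 0)⟩)))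
 (.n (.n (.n (.l ⟨(nat_lit 0xc0000d), (nat_lit 0x168b54cc1d), (nat_lit 0x5f1ad7c20401), (nat_lit 0)⟩)
 (.l ⟨(nat_lit 0xc0000d), (nat_lit 0x1106c130141f), (nat_lit 0x1c1a9752895856596), (nat_lit 0)⟩))
 (.l ⟨(nat_lit 0xc0000d), (nat_lit 0x16068140681f), (nat_lit 0x5c5b4181dd4f5d18d), (nat_lit 0)⟩))
 (.n (.n (.l ⟨(nat_lit 0x120000d), (nat_lit 0x168705d856), (nat_lit 0x6255a184235157a020030140101007), (nat_lit 0)⟩)
 (.l ⟨(nat_lit 0x800013), (nat_lit 0x1d06c2107012), (nat_lit 0x1987a2c563014015f963), (nat_lit 0)⟩))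
 (.l ⟨(nat_lit 0xc0000d), (nat_lit 0xf0680f07013), (nat_lit 0x2c3919c28014015f54b), (nat_lit 0)⟩)))))
 (.n (.n (.n (.n (.n (.l ⟨(nat_lit 0xc0000b), (nat_lit 0x1401f224d1), (nat_lit 0x1a8b420479), (nat_lit 0)⟩)
 (.l ⟨(nat_lit 0xc0000d), (nat_lit 0x6c1406821), (nat_lit 0x643dd7f04c050054c59d9b), (nat_lit 0)⟩))
 (.n (.l ⟨(nat_lit 0xe00007), (nat_lit 0x682206816), (nat_lit 0x1a12a1e00b56189), (nat_lit 0)⟩)
 (.l ⟨(nat_lit 0xc00015), (nat_lit 0x1406c1107012), (nat_lit 0x502207413005005555e961), (nat_lit 0)⟩)))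
 (.n (.n (.l ⟨(nat_lit 0xc0000d), (nat_lit 0x1b93965060), (nat_lit 0x717516c640055366573020030140101007), (nat_lit 0)⟩)
 (.l ⟨(nat_lit 0xc0000d), (nat_lit 0x2206c1407013), (nat_lit 0x1b0831fcbf0140155d6b), (nat_lit 0)⟩))
 (.l ⟨(nat_lit 0xc0000d), (nat_lit 0x6c1806c1207014), (nat_lit 0x4d1e9746014d5859a), (nat_lit 0)⟩)))
 (.n (.n (.n (.l ⟨(nat_lit 0xc0000d), (nat_lit 0x686e56816), (nat_lit 0xd680d4fb), (nat_lit 0)⟩)
 (.l ⟨(nat_lit 0xa0000d), (nat_lit 0x1f070170141e), (nat_lit 0x400f082648050054753199), (nat_lit 0)⟩))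
 (.l ⟨(nat_lit 0x40000d), (nat_lit 24583), (nat_lit 0x134174702257d65), (nat_lit 0)⟩))
 (.n (.n (.l ⟨(nat_lit 0x120000d), (nat_lit 0x150131bd91), (nat_lit 0x781c204d1), (nat_lit 0)⟩)
 (.l ⟨(nat_lit 0xc0000f), (nat_lit 0x641006c20), (nat_lit 0x13b1b08503c050054559988), (nat_lit 0)⟩))
 (.l ⟨(nat_lit 0xa0000d), (nat_lit 0x740707011), (nat_lit 0x194455106c05005685f990), (nat_lit 0)⟩))))
 (.n (.n (.n (.n (.l ⟨(nat_lit 0xc0000d), (nat_lit 0xdd2117d78), (nat_lit 0x3c57f22801), (nat_lit 0)⟩)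
 (.l ⟨(nat_lit 0xc0000d), (nat_lit 0x220701f07011), (nat_lit 0x113ac653f4050054161574), (nat_lit 0)⟩))
 (.l ⟨(nat_lit 0xc0000b), (nat_lit 0x641d07007), (nat_lit 0x46b6782350d4b), (nat_lit 0)⟩))
 (.n (.n (.l ⟨(nat_lit 0x60000d), (nat_lit 0x4311f801), (nat_lit 0x308207852), (nat_lit 0)⟩)
 (.l ⟨(nat_lit 0xc0000d), (nat_lit 0x16070170641d), (nat_lit 0x13660f405c050054561d45), (nat_lit 0)⟩))
 (.l ⟨(nat_lit 0xc0000d), (nat_lit 0x70180681807013), (nat_lit 0x1e14d261bd4352566), (nat_lit 0)⟩)))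
 (.n (.n (.n (.l ⟨(nat_lit 0xc0000d), (nat_lit 0x430631bc03), (nat_lit 0x5703c7a09001), (nat_lit 0)⟩)
 (.l ⟨(nat_lit 0xa0000d), (nat_lit 0x2206c1107010), (nat_lit 0x1801b827078050054d5f996), (nat_lit 0)⟩))
 (.l ⟨(nat_lit 0xc0000d), (nat_lit 0x1e01415), (nat_lit 0x5d190a21cd435f99e), (nat_lit 0)⟩))
 (.n (.n (.l ⟨(nat_lit 0x140000d), (nat_lit 185379), (nat_lit 0x145dc8805001), (nat_lit 0)⟩)
 (.l ⟨(nat_lit 0xc00013), (nat_lit 0x641706c2207007), (nat_lit 0x2f1800f18c05005416658f), (nat_lit 0)⟩))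
 (.l ⟨(nat_lit 0xa0000d), (nat_lit 0x41b0481c02c07), (nat_lit 0x36568881e805005525fd7d), (nat_lit 0)⟩)))))))
 (.n (.n (.n (.n (.n (.n (.n (.l ⟨(nat_lit 0x600007), (nat_lit 0x10b11059), (nat_lit 0x19004d7d), (nat_lit 0)⟩)
 (.l ⟨(nat_lit 0xa0000d), (nat_lit 0x70110701f07014), (nat_lit 0x2a4a92c01c050054960195), (nat_lit 0)⟩))
 (.n (.l ⟨(nat_lit 0x140000d), (nat_lit 0x120d520457), (nat_lit 0x6205525d4157998020030140101007), (nat_lit 0)⟩)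
 (.l ⟨(nat_lit 0xc00015), (nat_lit 0x70701f07017), (nat_lit 0x3c454050050056354d89), (nat_lit 0)⟩)))
 (.n (.n (.l ⟨(nat_lit 0xc0000d), (nat_lit 0x315a43473), (nat_lit 0x1c5d45b19001), (nat_lit 0)⟩)
 (.l ⟨(nat_lit 0xc0000d), (nat_lit 0x1f0141207011), (nat_lit 0xc50485055699a), (nat_lit 0)⟩))
 (.l ⟨(nat_lit 0xe0000d), (nat_lit 0x601b02c1d), (nat_lit 0xf1870440d5e95b), (nat_lit 0)⟩)))
 (.n (.n (.n (.l ⟨(nat_lit 0xc0000d), (nat_lit 0x131861f433), (nat_lit 0xfd7341c64), (nat_lit 0)⟩)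
 (.l ⟨(nat_lit 0x140000d), (nat_lit 0x1f0681506c1d), (nat_lit 0x1490f04c75005435e97f), (nat_lit 0)⟩))
 (.l ⟨(nat_lit 0xc0000b), (nat_lit 0x881407011), (nat_lit 0xd19d6342d4d6016b), (nat_lit 0)⟩))
 (.n (.n (.l ⟨(nat_lit 0xe0000d), (nat_lit 0x188f9214b8), (nat_lit 0xec681a05a), (nat_lit 0)⟩)
 (.l ⟨(nat_lit 0xc0000d), (nat_lit 0x7c0f0680f07007), (nat_lit 0x6161c5f5d9415a587), (nat_lit 0)⟩))
 (.l ⟨(nat_lit 0xc0000d), (nat_lit 0x68200701107007), (nat_lit 0x56c6a2181459174), (nat_lit 0)⟩))))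
 (.n (.n (.n (.n (.l ⟨(nat_lit 0xc0000b), (nat_lit 0x9c4304863), (nat_lit 0x1a5600a810), (nat_lit 0)⟩)
 (.l ⟨(nat_lit 0xc0000d), (nat_lit 0x1e064070641d), (nat_lit 0x435a873004050057a55186), (nat_lit 0)⟩))
 (.l ⟨(nat_lit 0xc00009), (nat_lit 0x1b04c0503c03), (nat_lit 0x616e1718450545), (nat_lit 0)⟩))
 (.n (.n (.l ⟨(nat_lit 0xc0000d), (nat_lit 0xbd8014180), (nat_lit 0x1dc582d42a), (nat_lit 0)⟩)
 (.l ⟨(nat_lit 0xc0000d), (nat_lit 0x1106c1707016), (nat_lit 0xc2d86d03c05005475fd5d), (nat_lit 0)⟩))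
 (.l ⟨(nat_lit 0xc0000d), (nat_lit 0x642007017), (nat_lit 0xc9631f9310140154d955d80800c050040401d4361547), (nat_lit 0)⟩)))
 (.n (.n (.n (.l ⟨(nat_lit 0xc0000d), (nat_lit 0xd4863f454), (nat_lit 0xc54a15466), (nat_lit 0)⟩)
 (.l ⟨(nat_lit 0xa0000d), (nat_lit 0x441e06c1407011), (nat_lit 0x4d1dc6a16005005435d17f), (nat_lit 0)⟩))
 (.l ⟨(nat_lit 0xc0000d), (nat_lit 0x1c05813), (nat_lit 0x633ac69170050056364150), (nat_lit 0)⟩))
 (.n (.n (.l ⟨(nat_lit 0x120000d), (nat_lit 0x190b266867), (nat_lit 0x191081fd0f), (nat_lit 0)⟩)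
 (.l ⟨(nat_lit 0xe00013), (nat_lit 0x200641f07007), (nat_lit 0xc16d8f1f005005475e15e), (nat_lit 0)⟩))
 (.l ⟨(nat_lit 0xc0000d), (nat_lit 0x1d0141f06415), (nat_lit 0x184d6220c157d71), (nat_lit 0)⟩)))))
 (.n (.n (.n (.n (.n (.l ⟨(nat_lit 0xc0000b), (nat_lit 0x1886f2e0fc), (nat_lit 0x191014703f), (nat_lit 0)⟩)
 (.l ⟨(nat_lit 0xc0000d), (nat_lit 0x170701201415), (nat_lit 0x231c4561e54d64d63), (nat_lit 0)⟩))
 (.n (.l ⟨(nat_lit 0xa00007), (nat_lit 0x701e0141307012), (nat_lit 0x1204f4640964559), (nat_lit 0)⟩)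
 (.l ⟨(nat_lit 0xc00015), (nat_lit 0x70100642207014), (nat_lit 0x19c123f461014015e571), (nat_lit 0)⟩)))
 (.n (.n (.l ⟨(nat_lit 0xc0000d), (nat_lit 0xc17d5741b), (nat_lit 0x189575b429), (nat_lit 0)⟩)
 (.l ⟨(nat_lit 0xc0000d), (nat_lit 0x110641007011), (nat_lit 0x1849c72668050054c59991), (nat_lit 0)⟩))
 (.l ⟨(nat_lit 0x140000d), (nat_lit 0x6c150701207014), (nat_lit 0x451f8865e56661974), (nat_lit 0)⟩)))
 (.n (.n (.n (.l ⟨(nat_lit 0xc0000d), (nat_lit 0x6001f1c419), (nat_lit 0x1945a6581f), (nat_lit 0)⟩)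
 (.l ⟨(nat_lit 0xc0000d), (nat_lit 0x13070140681e), (nat_lit 0x6909050188050054a5e16e), (nat_lit 0)⟩))
 (.l ⟨(nat_lit 0xc0000d), (nat_lit 0x681507012), (nat_lit 0x185e56601d5959154), (nat_lit 0)⟩))
 (.n (.n (.l ⟨(nat_lit 0x120000b), (nat_lit 0x1840f63989), (nat_lit 0x4c645b45b), (nat_lit 0)⟩)
 (.l ⟨(nat_lit 0xc0000f), (nat_lit 0x6c1d06c1307013), (nat_lit 0x1a0c4f4090050054c5558c), (nat_lit 0)⟩))
 (.l ⟨(nat_lit 0xa0000d), (nat_lit 0x701d0641e), (nat_lit 0x1a98c1dc330140157d6e), (nat_lit 0)⟩))))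
 (.n (.n (.n (.n (.l ⟨(nat_lit 0x60000d), (nat_lit 0x1644d20420), (nat_lit 0x12c6806417), (nat_lit 0)⟩)
 (.l ⟨(nat_lit 0xc0000d), (nat_lit 0x1e0702107017), (nat_lit 0x6a1418b2d405005545b17d), (nat_lit 0)⟩))
 (.l ⟨(nat_lit 0xc0000b), (nat_lit 0x641d06415), (nat_lit 0x104f44d2e14159168), (nat_lit 0)⟩))
 (.n (.n (.l ⟨(nat_lit 0xc0000d), (nat_lit 0xc15d4f844), (nat_lit 0x204a82004405005415c965020030140101007), (nat_lit 0)⟩)
 (.l ⟨(nat_lit 0x140000d), (nat_lit 0x6c1706c1007007), (nat_lit 0x3116043035475619c), (nat_lit 0)⟩))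
 (.l ⟨(nat_lit 0xc0000d), (nat_lit 0x2c1d07007), (nat_lit 0x411f93e188050056c62550), (nat_lit 0)⟩)))
 (.n (.n (.n (.l ⟨(nat_lit 0xc0000d), (nat_lit 0x134695b93f), (nat_lit 0x1347a5d180), (nat_lit 0)⟩)
 (.l ⟨(nat_lit 0xc0000d), (nat_lit 0x841d0681307007), (nat_lit 0x5555812034050056961d97), (nat_lit 0)⟩))
 (.l ⟨(nat_lit 0xa0000d), (nat_lit 0x70130702207010), (nat_lit 0x12d7a0d84e01401505655fd67), (nat_lit 0)⟩))
 (.n (.n (.l ⟨(nat_lit 0x140000b), (nat_lit 0x5cbf56807), (nat_lit 0x50441806e), (nat_lit 0)⟩)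
 (.l ⟨(nat_lit 0x1200013), (nat_lit 0x10070220681e), (nat_lit 0x1245e60c3a5297064c020180a00c020180401d545e96a), (nat_lit 0)⟩))
 (.l ⟨(nat_lit 0xc0000d), (nat_lit 0x642207014), (nat_lit 0x365741e19d456456a), (nat_lit 0)⟩))))))
 (.n (.n (.n (.n (.n (.n (.l ⟨(nat_lit 0xc00009), (nat_lit 0x545f3c80c), (nat_lit 0x71284681b), (nat_lit 0)⟩)
 (.l ⟨(nat_lit 0x120000d), (nat_lit 0x17014140701e), (nat_lit 0x62170b8479475b98a), (nat_lit 0)⟩))
 (.n (.l ⟨(nat_lit 0x140000d), (nat_lit 0x1790e1e877), (nat_lit 0xc5b1316a), (nat_lit 0)⟩)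
 (.l ⟨(nat_lit 0xc00015), (nat_lit 0x60110681407007), (nat_lit 0x682086b43805005615f980), (nat_lit 0)⟩)))
 (.n (.n (.l ⟨(nat_lit 0xc0000d), (nat_lit 0xe58242007), (nat_lit 0x71064c81d), (nat_lit 0)⟩)
 (.l ⟨(nat_lit 0xa0000d), (nat_lit 0x58170142207011), (nat_lit 0x1418014014050055657d81), (nat_lit 0)⟩))
 (.l ⟨(nat_lit 0xc0000d), (nat_lit 0x70641d), (nat_lit 0x584bc070714153558), (nat_lit 0)⟩)))
 (.n (.n (.n (.l ⟨(nat_lit 0xc0000d), (nat_lit 0x10d2e0a13d), (nat_lit 0x125081fc17), (nat_lit 0)⟩)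
 (.l ⟨(nat_lit 0xc0000d), (nat_lit 0x100701f07011), (nat_lit 0x1306c5a1f14c5ad52), (nat_lit 0)⟩))
 (.l ⟨(nat_lit 0xc0000b), (nat_lit 0x210701807007), (nat_lit 0x138514fc1161166), (nat_lit 0)⟩))
 (.n (.n (.l ⟨(nat_lit 0xe0000d), (nat_lit 0x846d4b042), (nat_lit 0x553105c25168020030140101007), (nat_lit 0)⟩)
 (.l ⟨(nat_lit 0xc0000f), (nat_lit 0x641406820), (nat_lit 0x845e5f8410140152582), (nat_lit 0)⟩))
 (.l ⟨(nat_lit 0xc0000d), (nat_lit 0x160141d07007), (nat_lit 0x214205e4d1436356f), (nat_lit 0)⟩))))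
 (.n (.n (.n (.n (.l ⟨(nat_lit 0xc0000b), (nat_lit 0x3c5540878), (nat_lit 0xa04122457), (nat_lit 0)⟩)
 (.l ⟨(nat_lit 0xc0000d), (nat_lit 0x441e0141007007), (nat_lit 0x5e5a47b160050054561576), (nat_lit 0)⟩))
 (.l ⟨(nat_lit 0xc0000b), (nat_lit 12300), (nat_lit 0x3c3f0714d58d90), (nat_lit 0)⟩))
 (.n (.n (.l ⟨(nat_lit 0xc0000d), (nat_lit 0x1859c13476), (nat_lit 0x1d661ed2a), (nat_lit 0)⟩)
 (.l ⟨(nat_lit 0x120000d), (nat_lit 0x160142007014), (nat_lit 0x411b87d4ad5361194), (nat_lit 0)⟩))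
 (.l ⟨(nat_lit 0xc0000d), (nat_lit 0x6c1806820), (nat_lit 0x1984d1110b014016514d), (nat_lit 0)⟩)))
 (.n (.n (.n (.l ⟨(nat_lit 0x60000d), (nat_lit 0x16c2a65824), (nat_lit 0x1345320c35), (nat_lit 0)⟩)
 (.l ⟨(nat_lit 0xc0000d), (nat_lit 0x641406c0707012), (nat_lit 0x15e18c670c5495c978), (nat_lit 0)⟩))
 (.l ⟨(nat_lit 0xc0000d), (nat_lit 0x150140707010), (nat_lit 0x6217d35191475558d), (nat_lit 0)⟩))
 (.n (.n (.l ⟨(nat_lit 0x120000f), (nat_lit 0x2c4d6081b), (nat_lit 0x5807667437), (nat_lit 0)⟩)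
 (.l ⟨(nat_lit 0x1200013), (nat_lit 0x1b0541107007), (nat_lit 0x1231795651d805580800c050040401d476156b), (nat_lit 0)⟩))
 (.l ⟨(nat_lit 0xc0000d), (nat_lit 0x14170642107010), (nat_lit 0xcc941445e671950215c66d98), (nat_lit 0)⟩)))))
 (.n (.n (.n (.n (.n (.l ⟨(nat_lit 0xc0000b), (nat_lit 0x11f16079), (nat_lit 0x2507a1b00b), (nat_lit 0)⟩)
 (.l ⟨(nat_lit 0xa0000d), (nat_lit 0x2106c2107012), (nat_lit 0x661b58112c050054a5e16f), (nat_lit 0)⟩))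
 (.n (.l ⟨(nat_lit 0x1200007), (nat_lit 0x70142207007), (nat_lit 0x173fd020914566d8c), (nat_lit 0)⟩)
 (.l ⟨(nat_lit 0xa00015), (nat_lit 0x1306c0f0141f), (nat_lit 0xd85549d660140161568), (nat_lit 0)⟩)))
 (.n (.n (.l ⟨(nat_lit 0xc0000d), (nat_lit 0x1c4ed0214401), (nat_lit 0x88695a086), (nat_lit 0)⟩)
 (.l ⟨(nat_lit 0xc0000d), (nat_lit 0x13068170141d), (nat_lit 0x8509189030050054164d5a), (nat_lit 0)⟩))
 (.l ⟨(nat_lit 0x120000d), (nat_lit 0x881a05c03), (nat_lit 0xb35076101455f17f), (nat_lit 0)⟩)))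
 (.n (.n (.n (.l ⟨(nat_lit 0xc0000d), (nat_lit 0x100345f830), (nat_lit 0x4465594c4), (nat_lit 0)⟩)
 (.l ⟨(nat_lit 0xc0000d), (nat_lit 0x140640f07013), (nat_lit 0x424904b1e14b64d5f), (nat_lit 0)⟩))
 (.l ⟨(nat_lit 0xe0000d), (nat_lit 0x681406c2007007), (nat_lit 0x310fb18c4950d49), (nat_lit 0)⟩))
 (.n (.n (.l ⟨(nat_lit 0x120000d), (nat_lit 0xd7e1506d), (nat_lit 0x1046e1f52b), (nat_lit 0)⟩)
 (.l ⟨(nat_lit 0x1000010), (nat_lit 0x1607014068110681106c15), (nat_lit 0), (nat_lit 0)⟩))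
 (.l ⟨(nat_lit 0xc0000d), (nat_lit 0x1d070140141e), (nat_lit 0x2c6c0dc11535576500800c050040401d495c14f), (nat_lit 0)⟩))))
 (.n (.n (.n (.n (.l ⟨(nat_lit 0xc0000d), (nat_lit 0x1357817007), (nat_lit 0x21c5d1641a), (nat_lit 0)⟩)
 (.l ⟨(nat_lit 0xc0000d), (nat_lit 0x701706c1807010), (nat_lit 0x5b0887e16405005476418e), (nat_lit 0)⟩))
 (.l ⟨(nat_lit 0xc0000b), (nat_lit 0x210141107011), (nat_lit 0x10528604614a53d9d), (nat_lit 0)⟩))
 (.n (.n (.l ⟨(nat_lit 0xc0000d), (nat_lit 0x1a8710bcb7), (nat_lit 0x1898a17815), (nat_lit 0)⟩)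
 (.l ⟨(nat_lit 0xc0000d), (nat_lit 0x220640f06815), (nat_lit 0x6417c65038050054c5e175), (nat_lit 0)⟩))
 (.l ⟨(nat_lit 0xc0000d), (nat_lit 0x6c1706c20), (nat_lit 0x5e0785ec05005476597f), (nat_lit 0)⟩)))
 (.n (.n (.n (.l ⟨(nat_lit 0xc0000d), (nat_lit 0x604cc7f2cc03), (nat_lit 0x19050080d1), (nat_lit 0)⟩)
 (.l ⟨(nat_lit 0xc0000d), (nat_lit 0x100681807010), (nat_lit 0x41218845a95a61d6e), (nat_lit 0)⟩))
 (.l ⟨(nat_lit 0x140000d), (nat_lit 0x1e06c0707012), (nat_lit 0x412242203d5962576), (nat_lit 0)⟩))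
 (.n (.n (.l ⟨(nat_lit 0x140000d), (nat_lit 0x14c174d807), (nat_lit 0x178951b054), (nat_lit 0)⟩)
 (.l ⟨(nat_lit 0xc00013), (nat_lit 0x706c1807013), (nat_lit 0x140f16c190140160991), (nat_lit 0)⟩))
 (.l ⟨(nat_lit 0x80000d), (nat_lit 0x642207013), (nat_lit 0x175164f903c05005515fd73), (nat_lit 0)⟩)))))))
noncomputable def T23 : Tr :=
  .n (.n (.n (.n (.n (.n (.n (.n (.l ⟨(nat_lit 0x400003), (nat_lit 7), (nat_lit 0), (nat_lit 0)⟩)
 (.l ⟨(nat_lit 0xc0000d), (nat_lit 0x702206c1f), (nat_lit 0x311d4881454d5e593), (nat_lit 0)⟩))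
 (.n (.l ⟨(nat_lit 0x140000d), (nat_lit 0xc0bf46003), (nat_lit 0x1999546016), (nat_lit 0)⟩)
 (.l ⟨(nat_lit 0x1200013), (nat_lit 0x1e0641207011), (nat_lit 0x2f6606307405005416198f), (nat_lit 0)⟩)))
 (.n (.n (.l ⟨(nat_lit 0xc0000d), (nat_lit 0x74e121830), (nat_lit 0x5d9113cfe), (nat_lit 0)⟩)
 (.l ⟨(nat_lit 0xc0000d), (nat_lit 0x200641106815), (nat_lit 0x1641c5870bc05005435d165), (nat_lit 0)⟩))
 (.l ⟨(nat_lit 0xc0000d), (nat_lit 0x1d06c180641d), (nat_lit 0x6f48c27560050054959192), (nat_lit 0)⟩)))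
 (.n (.n (.n (.l ⟨(nat_lit 0xc0000d), (nat_lit 0x1455f0302a), (nat_lit 0x13d7349474), (nat_lit 0)⟩)
 (.l ⟨(nat_lit 0x120000d), (nat_lit 0x220681007007), (nat_lit 0xd1351882967165), (nat_lit 0)⟩))
 (.l ⟨(nat_lit 0xc0000b), (nat_lit 0x1006c2207011), (nat_lit 0x1655a0a4816217b), (nat_lit 0)⟩))
 (.n (.n (.l ⟨(nat_lit 0xe0000e), (nat_lit 0x1065d41b), (nat_lit 0), (nat_lit 0)⟩)
 (.l ⟨(nat_lit 0x120000d), (nat_lit 0x241f0680707011), (nat_lit 0x47214341a55265d9e), (nat_lit 0)⟩))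
 (.l ⟨(nat_lit 0xc0000d), (nat_lit 0x140681606415), (nat_lit 0x1d4785c0714955d71), (nat_lit 0)⟩))))
 (.n (.n (.n (.n (.l ⟨(nat_lit 0xc0000b), (nat_lit 0x75913b003), (nat_lit 0x36440e20401), (nat_lit 0)⟩)
 (.l ⟨(nat_lit 0xc0000d), (nat_lit 0x682006c1207010), (nat_lit 0x621e053195585b99a), (nat_lit 0)⟩))
 (.n (.l ⟨(nat_lit 0x600007), (nat_lit 0x130141506815), (nat_lit 0x210418f0454a51d9401d415c17c), (nat_lit 0)⟩)
 (.l ⟨(nat_lit 0xc00015), (nat_lit 0x1706c2001420), (nat_lit 0x325a453024050055163167), (nat_lit 0)⟩)))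
 (.n (.n (.l ⟨(nat_lit 0xc0000d), (nat_lit 0x14c2f17152), (nat_lit 0x844348116), (nat_lit 0)⟩)
 (.l ⟨(nat_lit 0xc0000d), (nat_lit 0x120701207011), (nat_lit 0xd21cc21d005005535f18e), (nat_lit 0)⟩))
 (.l ⟨(nat_lit 0xc0000d), (nat_lit 0x3c1a04803), (nat_lit 0x511c801151645bd9b0080602407014080280c0300c02407014080280b01c05020050040802c0b51d4f), (nat_lit 0)⟩)))
 (.n (.n (.n (.l ⟨(nat_lit 0xc0000d), (nat_lit 0xf18d550bc01), (nat_lit 0x1f8791680f), (nat_lit 0)⟩)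
 (.l ⟨(nat_lit 0xc0000d), (nat_lit 0x48160702007007), (nat_lit 0x17c6b5f081005606655e), (nat_lit 0)⟩))
 (.l ⟨(nat_lit 0x120000d), (nat_lit 0x6c1f0641407007), (nat_lit 0x534a9060f14c5b983), (nat_lit 0)⟩))
 (.n (.n (.l ⟨(nat_lit 0x120000d), (nat_lit 0x190320d52c), (nat_lit 0x1412cb821801), (nat_lit 0)⟩)
 (.l ⟨(nat_lit 0x1200012), (nat_lit 0x30701f0700f0701f06413), (nat_lit 0), (nat_lit 0)⟩))
 (.l ⟨(nat_lit 0xc0000d), (nat_lit 0x3c1d07011), (nat_lit 0x164547c44005005475d193), (nat_lit 0)⟩)))))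
 (.n (.n (.n (.n (.n (.l ⟨(nat_lit 0xc00009), (nat_lit 0x2259349028), (nat_lit 0x13c6925580), (nat_lit 0)⟩)
 (.l ⟨(nat_lit 0xc0000d), (nat_lit 0x160141006415), (nat_lit 0x590ed1e0854366192), (nat_lit 0)⟩))
 (.n (.l ⟨(nat_lit 0x1400013), (nat_lit 0xd614444d403), (nat_lit 0x4c4ac6e0c14c64d99020030140101007), (nat_lit 0)⟩)
 (.l ⟨(nat_lit 0xc00015), (nat_lit 0x6c1f01415), (nat_lit 0x7041200d50140166589), (nat_lit 0)⟩)))
 (.n (.n (.l ⟨(nat_lit 0xc0000d), (nat_lit 0x178653d00d), (nat_lit 0x16d661d0b5), (nat_lit 0)⟩)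
 (.l ⟨(nat_lit 0xc0000d), (nat_lit 0x502006c1107007), (nat_lit 0x1228916228050054a67982), (nat_lit 0)⟩))
 (.l ⟨(nat_lit 0xc0000d), (nat_lit 0x1b0481707012), (nat_lit 0x1104709c050055361d59), (nat_lit 0)⟩)))
 (.n (.n (.n (.l ⟨(nat_lit 0xc0000d), (nat_lit 0x16d2065414), (nat_lit 0x13513c14), (nat_lit 0)⟩)
 (.l ⟨(nat_lit 0x80000d), (nat_lit 0x681d0141407013), (nat_lit 0x4f1d93d17c050054d66d79), (nat_lit 0)⟩))
 (.l ⟨(nat_lit 0xc0000b), (nat_lit 0x140681701415), (nat_lit 0x171d4c1165455b57a), (nat_lit 0)⟩))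
 (.n (.n (.l ⟨(nat_lit 0xe0000d), (nat_lit 0x1496000d52), (nat_lit 0x1b18b24c66), (nat_lit 0)⟩)
 (.l ⟨(nat_lit 0xc0000f), (nat_lit 0x20064170641e), (nat_lit 0x70d99b01c050054166d89), (nat_lit 0)⟩))
 (.l ⟨(nat_lit 0xc0000d), (nat_lit 0x68110141e), (nat_lit 0x34d87200c050054a5fd71), (nat_lit 0)⟩))))
 (.n (.n (.n (.n (.l ⟨(nat_lit 0xc0000d), (nat_lit 23793), (nat_lit 0x1e8a11f434), (nat_lit 0)⟩)
 (.l ⟨(nat_lit 0x140000d), (nat_lit 0x70070701e07012), (nat_lit 0x316c4c5a94354582), (nat_lit 0)⟩))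
 (.l ⟨(nat_lit 0xc0000b), (nat_lit 0x1d0680f07012), (nat_lit 0x8c882c40f59d6f), (nat_lit 0)⟩))
 (.n (.n (.l ⟨(nat_lit 0xc0000d), (nat_lit 0x64756141e), (nat_lit 0xcd401740c5ed45020030140101007), (nat_lit 0)⟩)
 (.l ⟨(nat_lit 0x80000d), (nat_lit 0x706c0f0701e), (nat_lit 0x4810076210050054167972), (nat_lit 0)⟩))
 (.l ⟨(nat_lit 0xc0000d), (nat_lit 0x220700707012), (nat_lit 0x5c07cec1bc050054a6417e), (nat_lit 0)⟩)))
 (.n (.n (.n (.l ⟨(nat_lit 0xc0000d), (nat_lit 0x484f3e021), (nat_lit 0x385516c6e), (nat_lit 0)⟩)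
 (.l ⟨(nat_lit 0xc0000d), (nat_lit 0x120681f07012), (nat_lit 0x441096e08d476756d), (nat_lit 0)⟩))
 (.l ⟨(nat_lit 0xc0000d), (nat_lit 0x41b0442107007), (nat_lit 0x35a0353ed5467961), (nat_lit 0)⟩))
 (.n (.n (.l ⟨(nat_lit 0x1200013), (nat_lit 0xcd8c46c6c), (nat_lit 0x13d2903c7f), (nat_lit 0)⟩)
 (.l ⟨(nat_lit 0xc00013), (nat_lit 0x54130681107007), (nat_lit 0x581757d0a405005416359e), (nat_lit 0)⟩))
 (.l ⟨(nat_lit 0x140000d), (nat_lit 0x641e0142207011), (nat_lit 0x57047549435659a), (nat_lit 0)⟩))))))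
 (.n (.n (.n (.n (.n (.n (.l ⟨(nat_lit 0xa00007), (nat_lit 0xc9356c07), (nat_lit 0xd4144c807), (nat_lit 0)⟩)
 (.l ⟨(nat_lit 0xc0000d), (nat_lit 0x382106816), (nat_lit 0x56481526097a), (nat_lit 0)⟩))
 (.n (.l ⟨(nat_lit 0x140000d), (nat_lit 0x1441455403), (nat_lit 0x1405e03c33), (nat_lit 0)⟩)
 (.l ⟨(nat_lit 0xc00015), (nat_lit 0x801b0381207007), (nat_lit 0x413034050054b62545), (nat_lit 0)⟩)))
 (.n (.n (.l ⟨(nat_lit 0xc0000d), (nat_lit 0x4cd052281a), (nat_lit 0x8c573c412), (nat_lit 0)⟩)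
 (.l ⟨(nat_lit 0xc0000d), (nat_lit 0x701d0141107011), (nat_lit 0x24190681b54a5fd71), (nat_lit 0)⟩))
 (.l ⟨(nat_lit 0xa0000d), (nat_lit 0x200641e), (nat_lit 0x1759d39214050054a5c18b), (nat_lit 0)⟩)))
 (.n (.n (.n (.l ⟨(nat_lit 0xc0000d), (nat_lit 0x902021403), (nat_lit 0x1048635192), (nat_lit 0)⟩)
 (.l ⟨(nat_lit 0xc0000d), (nat_lit 0x200641107010), (nat_lit 0x2719d173e5495f56b), (nat_lit 0)⟩))
 (.l ⟨(nat_lit 0xc0000b), (nat_lit 0x150701e07013), (nat_lit 0xd6505f030015d56d), (nat_lit 0)⟩))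
 (.n (.n (.l ⟨(nat_lit 0xe0000d), (nat_lit 0x1982a1ac66), (nat_lit 0x1a84254428), (nat_lit 0)⟩)
 (.l ⟨(nat_lit 0xc0000d), (nat_lit 0x481a0800501c03), (nat_lit 0x5e1dd2034d4562196), (nat_lit 0)⟩))
 (.l ⟨(nat_lit 0xc0000d), (nat_lit 0x801907c0b), (nat_lit 0x620384444005005506699b), (nat_lit 0)⟩))))
 (.n (.n (.n (.n (.l ⟨(nat_lit 0xc0000b), (nat_lit 0x154595e015), (nat_lit 0x1b13f0a177), (nat_lit 0)⟩)
 (.l ⟨(nat_lit 0x60000d), (nat_lit 0x54130140707007), (nat_lit 0x7d1bc430a4050054b62950), (nat_lit 0)⟩))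
 (.l ⟨(nat_lit 0xc00009), (nat_lit 0x68200701e07007), (nat_lit 0x542ed5c1ec05005436598e), (nat_lit 0)⟩))
 (.n (.n (.l ⟨(nat_lit 0xc0000d), (nat_lit 0x74f324c13), (nat_lit 0x6347874039476557f020030140101007), (nat_lit 0)⟩)
 (.l ⟨(nat_lit 0xc0000d), (nat_lit 0x681d0141007007), (nat_lit 0x401692615c050056f5f565), (nat_lit 0)⟩))
 (.l ⟨(nat_lit 0xc0000d), (nat_lit 0x881406815), (nat_lit 0x2208c6f5f9415bd71), (nat_lit 0)⟩)))
 (.n (.n (.n (.l ⟨(nat_lit 0xc0000d), (nat_lit 0x4746f4b841), (nat_lit 0x108861fd00), (nat_lit 0)⟩)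
 (.l ⟨(nat_lit 0xc0000d), (nat_lit 0x141f0641107007), (nat_lit 0x3755d9b090050055a6655e), (nat_lit 0)⟩))
 (.l ⟨(nat_lit 0xc0000d), (nat_lit 0x2206c1d06415), (nat_lit 0xf0365cd4364181), (nat_lit 0)⟩))
 (.n (.n (.l ⟨(nat_lit 0x120000d), (nat_lit 0x81360d00b), (nat_lit 0x13d2e57c54), (nat_lit 0)⟩)
 (.l ⟨(nat_lit 0xe00013), (nat_lit 0x1d0682207007), (nat_lit 0x4f158bd418050054c6156e), (nat_lit 0)⟩))
 (.l ⟨(nat_lit 0xa0000d), (nat_lit 0x641407011), (nat_lit 0x701885a11c05005415e998), (nat_lit 0)⟩)))))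
 (.n (.n (.n (.n (.n (.l ⟨(nat_lit 0xc0000b), (nat_lit 0x80f90e810), (nat_lit 0x1402052818), (nat_lit 0)⟩)
 (.l ⟨(nat_lit 0xc0000d), (nat_lit 0x1d064100641d), (nat_lit 0x341f8b4078050054956993), (nat_lit 0)⟩))
 (.n (.l ⟨(nat_lit 0x600007), (nat_lit 0x130142206816), (nat_lit 0x761f988091635e98d), (nat_lit 0)⟩)
 (.l ⟨(nat_lit 0xc00015), (nat_lit 0x160701f07010), (nat_lit 0xb2887f27c050054a64188), (nat_lit 0)⟩)))
 (.n (.n (.l ⟨(nat_lit 0xc0000d), (nat_lit 0xd8a163412), (nat_lit 0x1a81c4843b), (nat_lit 0)⟩)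
 (.l ⟨(nat_lit 0xc0000d), (nat_lit 0x1306c2006815), (nat_lit 0x125071b4af004050054760998), (nat_lit 0)⟩))
 (.l ⟨(nat_lit 0xc0000d), (nat_lit 0x1f0681f), (nat_lit 0x5b5452f1015a5818f), (nat_lit 0)⟩)))
 (.n (.n (.n (.l ⟨(nat_lit 0xc0000d), (nat_lit 0x4747d2f433), (nat_lit 0x16d400e854), (nat_lit 0)⟩)
 (.l ⟨(nat_lit 0xc0000d), (nat_lit 0x1d06c1701416), (nat_lit 0x1b41f5dc0563586), (nat_lit 0)⟩))
 (.l ⟨(nat_lit 0xc0000d), (nat_lit 0x14200141307007), (nat_lit 0x114047d251455d15a), (nat_lit 0)⟩))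
 (.n (.n (.l ⟨(nat_lit 0x120000d), (nat_lit 0xe05c54), (nat_lit 0xcc8166457), (nat_lit 0)⟩)
 (.l ⟨(nat_lit 0xc0000f), (nat_lit 0x881507014), (nat_lit 0x563c87911c050054c6559a), (nat_lit 0)⟩))
 (.l ⟨(nat_lit 0xe0000d), (nat_lit 0x106c1407014), (nat_lit 0xf138eb155526655b), (nat_lit 0)⟩))))
 (.n (.n (.n (.n (.l ⟨(nat_lit 0xc0000d), (nat_lit 0xc98966c12), (nat_lit 0x48641b805), (nat_lit 0)⟩)
 (.l ⟨(nat_lit 0xc0000d), (nat_lit 0x505c1905c03), (nat_lit 0x130c31f00b5c16a), (nat_lit 0)⟩))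
 (.l ⟨(nat_lit 0xa0000b), (nat_lit 0x1d07014), (nat_lit 0x72247f11c050054163981), (nat_lit 0)⟩))
 (.n (.n (.l ⟨(nat_lit 0xc0000d), (nat_lit 0x11c7643093), (nat_lit 0x194219b16c015a988020030140101007), (nat_lit 0)⟩)
 (.l ⟨(nat_lit 0xc0000d), (nat_lit 0x701e0141607011), (nat_lit 0x1f1e50150d995c00800c050040401d4159199), (nat_lit 0)⟩))
 (.l ⟨(nat_lit 0xc0000d), (nat_lit 0x542007007), (nat_lit 0x4c67029150050054353d71), (nat_lit 0)⟩)))
 (.n (.n (.n (.l ⟨(nat_lit 0xc0000d), (nat_lit 0xc4274d81e), (nat_lit 0x1b5ec87401515858e020030140101007), (nat_lit 0)⟩)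
 (.l ⟨(nat_lit 0xc0000d), (nat_lit 0x140142207013), (nat_lit 0x1265b0570554d60172), (nat_lit 0)⟩))
 (.l ⟨(nat_lit 0xc0000d), (nat_lit 0x1f0641407014), (nat_lit 0x19d1c47c520054c67586), (nat_lit 0)⟩))
 (.n (.n (.l ⟨(nat_lit 0x140000b), (nat_lit 0x106024), (nat_lit 0x224844a840), (nat_lit 0)⟩)
 (.l ⟨(nat_lit 0xc00013), (nat_lit 0x1d014070141f), (nat_lit 0x90595d058050054958d75), (nat_lit 0)⟩))
 (.l ⟨(nat_lit 0xc0000d), (nat_lit 0x341f0641d), (nat_lit 0x10b1c04f0a805005495f56b), (nat_lit 0)⟩)))))))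
 (.n (.n (.n (.n (.n (.n (.n (.l ⟨(nat_lit 0x600006), (nat_lit 148671), (nat_lit 0), (nat_lit 0)⟩)
 (.l ⟨(nat_lit 0x140000d), (nat_lit 0x341f0701d), (nat_lit 0x257321448005496459e), (nat_lit 0)⟩))
 (.n (.l ⟨(nat_lit 0x140000d), (nat_lit 0x683f87d38401), (nat_lit 0x244021c0f), (nat_lit 0)⟩)
 (.l ⟨(nat_lit 0xc00015), (nat_lit 0x2006c100641d), (nat_lit 0x444b03c050055966d98), (nat_lit 0)⟩)))
 (.n (.n (.l ⟨(nat_lit 0xc0000d), (nat_lit 0x1098b20d39), (nat_lit 0x691542f03001), (nat_lit 0)⟩)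
 (.l ⟨(nat_lit 0xc0000d), (nat_lit 0x601b0441807007), (nat_lit 0x5f1b4810dc050054364d74), (nat_lit 0)⟩))
 (.l ⟨(nat_lit 0xc0000d), (nat_lit 0x110141e), (nat_lit 0x310316e041416658d), (nat_lit 0)⟩)))
 (.n (.n (.n (.l ⟨(nat_lit 0xc0000d), (nat_lit 0x104824e07e), (nat_lit 0xf0811ac4c), (nat_lit 0)⟩)
 (.l ⟨(nat_lit 0x120000d), (nat_lit 0x70641d01416), (nat_lit 0x5646c4f6254161d56), (nat_lit 0)⟩))
 (.l ⟨(nat_lit 0xc0000b), (nat_lit 0x120641f07011), (nat_lit 0x611390d0bd5254d87), (nat_lit 0)⟩))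
 (.n (.n (.l ⟨(nat_lit 0xe0000b), (nat_lit 0x111e19306801), (nat_lit 0x124c06f13403), (nat_lit 0)⟩)
 (.l ⟨(nat_lit 0xc0000d), (nat_lit 0x180140f0141e), (nat_lit 0x1b574283e1515cd91), (nat_lit 0)⟩))
 (.l ⟨(nat_lit 0xa0000d), (nat_lit 0x1e0141d07007), (nat_lit 0x371510b02c050054758599), (nat_lit 0)⟩))))
 (.n (.n (.n (.n (.l ⟨(nat_lit 0xc0000b), (nat_lit 0xf18b55863), (nat_lit 0x846d17c24), (nat_lit 0)⟩)
 (.l ⟨(nat_lit 0xc0000d), (nat_lit 0x701e0681307012), (nat_lit 0x71790608405005525fd45), (nat_lit 0)⟩))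
 (.l ⟨(nat_lit 0x1400009), (nat_lit 0x681f0141e), (nat_lit 0x6705d8a0bd5057d8c), (nat_lit 0)⟩))
 (.n (.n (.l ⟨(nat_lit 0xc0000d), (nat_lit 0x1541008874), (nat_lit 0x1885c42045), (nat_lit 0)⟩)
 (.l ⟨(nat_lit 0xc0000d), (nat_lit 0x1206c2106815), (nat_lit 0x19614410c4050054c59d90), (nat_lit 0)⟩))
 (.l ⟨(nat_lit 0xc0000d), (nat_lit 0x2106c1f06415), (nat_lit 0x651699607d4959188), (nat_lit 0)⟩)))
 (.n (.n (.n (.l ⟨(nat_lit 0xc0000d), (nat_lit 0x404690bc1e), (nat_lit 0x1fc704681d), (nat_lit 0)⟩)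
 (.l ⟨(nat_lit 0xc0000d), (nat_lit 0x6c1106c1207010), (nat_lit 0x1e5d0f312c050054a6014f), (nat_lit 0)⟩))
 (.l ⟨(nat_lit 0xc0000d), (nat_lit 0x160140f07010), (nat_lit 0x1352012b0154b5f57f), (nat_lit 0)⟩))
 (.n (.n (.l ⟨(nat_lit 0x120000d), (nat_lit 0x1086955c4d), (nat_lit 0xa86b4f925), (nat_lit 0)⟩)
 (.l ⟨(nat_lit 0xc00013), (nat_lit 0x160701f07011), (nat_lit 0x7515862114050054159597), (nat_lit 0)⟩))
 (.l ⟨(nat_lit 0xc0000d), (nat_lit 0x6c2206416), (nat_lit 0x3a20588039436599b), (nat_lit 0)⟩)))))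
 (.n (.n (.n (.n (.n (.l ⟨(nat_lit 0xc0000b), (nat_lit 0xf0ecb8), (nat_lit 0x104034f902), (nat_lit 0)⟩)
 (.l ⟨(nat_lit 0x120000d), (nat_lit 0x681806c1407007), (nat_lit 0x513c8602015567147), (nat_lit 0)⟩))
 (.n (.l ⟨(nat_lit 0x200005), (nat_lit 26643), (nat_lit 0x364c1645dd97), (nat_lit 0)⟩)
 (.l ⟨(nat_lit 0xc00015), (nat_lit 0x88120640f07007), (nat_lit 0xc06c4f34805005546658e), (nat_lit 0)⟩)))
 (.n (.n (.l ⟨(nat_lit 0xc0000d), (nat_lit 0x158c459431), (nat_lit 0x14d2909c41), (nat_lit 0)⟩)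
 (.l ⟨(nat_lit 0xc0000d), (nat_lit 0x160141307012), (nat_lit 0xe2053a09d595b999), (nat_lit 0)⟩))
 (.l ⟨(nat_lit 0xc0000d), (nat_lit 0x706420), (nat_lit 0x42284851154958d98), (nat_lit 0)⟩)))
 (.n (.n (.n (.l ⟨(nat_lit 0xc0000d), (nat_lit 0x185871c8d1), (nat_lit 0x1a4191bc60), (nat_lit 0)⟩)
 (.l ⟨(nat_lit 0x60000d), (nat_lit 0x141d0640f07012), (nat_lit 0xed7b17cd1014016619b), (nat_lit 0)⟩))
 (.l ⟨(nat_lit 0xc0000b), (nat_lit 0x106c1707010), (nat_lit 0xc0905b0c1505d187), (nat_lit 0)⟩))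
 (.n (.n (.l ⟨(nat_lit 0x1200012), (nat_lit 0x158d3e), (nat_lit 0), (nat_lit 0)⟩)
 (.l ⟨(nat_lit 0xa0000f), (nat_lit 0x741c05c1904c03), (nat_lit 0x247a61437014015fd78), (nat_lit 0)⟩))
 (.l ⟨(nat_lit 0xc0000d), (nat_lit 0x1306c0f0641f), (nat_lit 0x2d743f85452d5401d415d597), (nat_lit 0)⟩))))
 (.n (.n (.n (.n (.l ⟨(nat_lit 0xc0000d), (nat_lit 0x122cc36), (nat_lit 0x1152101c12), (nat_lit 0)⟩)
 (.l ⟨(nat_lit 0xc0000d), (nat_lit 0x1907c1b03c03), (nat_lit 0x16821c4e0c8050054b5816c), (nat_lit 0)⟩))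
 (.l ⟨(nat_lit 0xc0000b), (nat_lit 23571), (nat_lit 0x376117501d4c), (nat_lit 0)⟩))
 (.n (.n (.l ⟨(nat_lit 0xc0000d), (nat_lit 0x34c684780e), (nat_lit 0x5c57c2f1b15a58d7b020030140101007), (nat_lit 0)⟩)
 (.l ⟨(nat_lit 0xc0000d), (nat_lit 0x200681007013), (nat_lit 0x1797f18c5e014015d147), (nat_lit 0)⟩))
 (.l ⟨(nat_lit 0xa0000d), (nat_lit 0x2106c1d0641e), (nat_lit 0x401bd991bc050054360593), (nat_lit 0)⟩)))
 (.n (.n (.n (.l ⟨(nat_lit 0xc0000d), (nat_lit 0x512a1acb8), (nat_lit 0x1a4191bc6067560020030140101007), (nat_lit 0)⟩)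
 (.l ⟨(nat_lit 0xc0000d), (nat_lit 0x210140f07010), (nat_lit 0x562fd6e17c050054d6399b), (nat_lit 0)⟩))
 (.l ⟨(nat_lit 0xc0000d), (nat_lit 0x70180701f07012), (nat_lit 0x590e47618c050054d66998), (nat_lit 0)⟩))
 (.n (.n (.l ⟨(nat_lit 0x1400009), (nat_lit 0xa44109c01), (nat_lit 0x4a8671d445), (nat_lit 0)⟩)
 (.l ⟨(nat_lit 0x1200013), (nat_lit 0x6c1306c16), (nat_lit 0x4105d1e20d5256169), (nat_lit 0)⟩))
 (.l ⟨(nat_lit 0xc0000d), (nat_lit 0x1b07c0c07007), (nat_lit 0xc16755c7b56d71), (nat_lit 0)⟩))))))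
 (.n (.n (.n (.n (.n (.n (.l ⟨(nat_lit 0xc00007), (nat_lit 0x5fc706201e), (nat_lit 0x1d9048807), (nat_lit 0)⟩)
 (.l ⟨(nat_lit 0xc0000d), (nat_lit 0x150141f07017), (nat_lit 0x362858d048050054756d4f), (nat_lit 0)⟩))
 (.n (.l ⟨(nat_lit 0x140000d), (nat_lit 0x2c1c63817), (nat_lit 0x9cbc6206d), (nat_lit 0)⟩)
 (.l ⟨(nat_lit 0xc00015), (nat_lit 0x1d064130681d), (nat_lit 0x2920105004050055f63597), (nat_lit 0)⟩)))
 (.n (.n (.l ⟨(nat_lit 0xc0000d), (nat_lit 0xf0c222822), (nat_lit 0x9d9d63c13), (nat_lit 0)⟩)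
 (.l ⟨(nat_lit 0x140000d), (nat_lit 0x14210702207007), (nat_lit 0x69668335d54352d78), (nat_lit 0)⟩))
 (.l ⟨(nat_lit 0xc0000d), (nat_lit 0x210141106815), (nat_lit 0x5d491048000405005475dd7a), (nat_lit 0)⟩)))
 (.n (.n (.n (.l ⟨(nat_lit 0xc0000d), (nat_lit 0x510c64841), (nat_lit 0x1459c60828), (nat_lit 0)⟩)
 (.l ⟨(nat_lit 0xc0000d), (nat_lit 0x64210641307011), (nat_lit 0x91a86610c05005695dd93), (nat_lit 0)⟩))
 (.l ⟨(nat_lit 0xc0000b), (nat_lit 0x14160141307010), (nat_lit 0x1a929200750055861187), (nat_lit 0)⟩))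
 (.n (.n (.l ⟨(nat_lit 0xe0000d), (nat_lit 0xcc5041c53), (nat_lit 0x12cd41fc0b), (nat_lit 0)⟩)
 (.l ⟨(nat_lit 0xc0000f), (nat_lit 0x200141d0682107007), (nat_lit 0x194887206005005455857d), (nat_lit 0)⟩))
 (.l ⟨(nat_lit 0x140000d), (nat_lit 0x1d0701706c16), (nat_lit 0x6d49c93051555b991), (nat_lit 0)⟩))))
 (.n (.n (.n (.n (.l ⟨(nat_lit 0xc0000b), (nat_lit 0x598211f430), (nat_lit 0x1bd0f5781d), (nat_lit 0)⟩)
 (.l ⟨(nat_lit 0x120000d), (nat_lit 0x141306c1d), (nat_lit 0x6362060549585cd99), (nat_lit 0)⟩))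
 (.l ⟨(nat_lit 0xc0000b), (nat_lit 0x120681f07017), (nat_lit 0x3d13f1015267971), (nat_lit 0)⟩))
 (.n (.n (.l ⟨(nat_lit 0xc0000d), (nat_lit 0x1443f19c30), (nat_lit 0x3258c7e4c4050055365576020030140101007), (nat_lit 0)⟩)
 (.l ⟨(nat_lit 0xc0000d), (nat_lit 0x1706c150641e), (nat_lit 0x546644d60d696519c), (nat_lit 0)⟩))
 (.l ⟨(nat_lit 0xc0000d), (nat_lit 0x190481c04c03), (nat_lit 0x181331fcb300c05005436314f), (nat_lit 0)⟩)))
 (.n (.n (.n (.l ⟨(nat_lit 0xc0000d), (nat_lit 0x160313106d), (nat_lit 0x14861e42a), (nat_lit 0)⟩)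
 (.l ⟨(nat_lit 0xc0000d), (nat_lit 0x180701e01415), (nat_lit 0x30140eb061665e94f), (nat_lit 0)⟩))
 (.l ⟨(nat_lit 0xc0000d), (nat_lit 0x120701107007), (nat_lit 0x64190c4031505fd73), (nat_lit 0)⟩))
 (.n (.n (.l ⟨(nat_lit 0x120000d), (nat_lit 0x347313830), (nat_lit 0x345a0f06a5518c020030140101007), (nat_lit 0)⟩)
 (.l ⟨(nat_lit 0x1400013), (nat_lit 0x1706c1d), (nat_lit 0x1312b1b830531936640800c050040401d4a6219d), (nat_lit 0)⟩))
 (.l ⟨(nat_lit 0xc0000d), (nat_lit 0x141406c1307013), (nat_lit 0x313853418050055062184), (nat_lit 0)⟩)))))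
 (.n (.n (.n (.n (.n (.l ⟨(nat_lit 0xc0000b), (nat_lit 0x198b61fd7c), (nat_lit 0xc16d1500b), (nat_lit 0)⟩)
 (.l ⟨(nat_lit 0xc0000d), (nat_lit 0x78110701d07007), (nat_lit 0x5b85318c350140152d605f00800c050040401d4b64150), (nat_lit 0)⟩))
 (.n (.l ⟨(nat_lit 0xc00007), (nat_lit 0x141d0641701415), (nat_lit 0x6367179014050054c5b18d), (nat_lit 0)⟩)
 (.l ⟨(nat_lit 0xc00015), (nat_lit 0x106c120681e), (nat_lit 0x941c6557005005476419d), (nat_lit 0)⟩)))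
 (.n (.n (.l ⟨(nat_lit 0xc0000d), (nat_lit 0x271548a0c401), (nat_lit 0x1c952202a), (nat_lit 0)⟩)
 (.l ⟨(nat_lit 0xa0000d), (nat_lit 0x160701d07011), (nat_lit 0x1d644ec00c05005416495d), (nat_lit 0)⟩))
 (.l ⟨(nat_lit 0xc0000d), (nat_lit 0x800505c1c05003), (nat_lit 0x17e1f01d055645995d), (nat_lit 0)⟩)))
 (.n (.n (.n (.l ⟨(nat_lit 0xc0000d), (nat_lit 0x347e610eb), (nat_lit 0xe9401546b), (nat_lit 0)⟩)
 (.l ⟨(nat_lit 0xc0000d), (nat_lit 0x6c1e0642107011), (nat_lit 0x570dd7d1154a61993), (nat_lit 0)⟩))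
 (.l ⟨(nat_lit 0xe0000d), (nat_lit 0x1e0681806415), (nat_lit 0x874e555135556758f), (nat_lit 0)⟩))
 (.n (.n (.l ⟨(nat_lit 0x120000d), (nat_lit 0x893116176), (nat_lit 0x101381d4f4), (nat_lit 0)⟩)
 (.l ⟨(nat_lit 0xc0000f), (nat_lit 0x6c1f0681107007), (nat_lit 0x144831d581014015a95f), (nat_lit 0)⟩))
 (.l ⟨(nat_lit 0xc0000d), (nat_lit 0x341307012), (nat_lit 0x1bd31215496055b), (nat_lit 0)⟩))))
 (.n (.n (.n (.n (.l ⟨(nat_lit 0xc0000d), (nat_lit 0x88201547a), (nat_lit 0x6c7c64c14), (nat_lit 0)⟩)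
 (.l ⟨(nat_lit 0xc0000d), (nat_lit 0x220682206c1e), (nat_lit 0x4c68618890055260590), (nat_lit 0)⟩))
 (.l ⟨(nat_lit 0x80000b), (nat_lit 0x6c130141e), (nat_lit 0x1013c144d8050055864d6d), (nat_lit 0)⟩))
 (.n (.n (.l ⟨(nat_lit 0xc0000d), (nat_lit 0x1681264857), (nat_lit 0x1018b2c84f), (nat_lit 0)⟩)
 (.l ⟨(nat_lit 0xc0000d), (nat_lit 0x1e06c1406815), (nat_lit 0x1793446d060050055a5f54a), (nat_lit 0)⟩))
 (.l ⟨(nat_lit 0xa0000d), (nat_lit 0x481206416), (nat_lit 0x21170971a0050055d58579), (nat_lit 0)⟩)))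
 (.n (.n (.n (.l ⟨(nat_lit 0xc0000d), (nat_lit 0x391393a1bc03), (nat_lit 0x168e24b41c), (nat_lit 0)⟩)
 (.l ⟨(nat_lit 0xc0000d), (nat_lit 0x141e0141307007), (nat_lit 0x641885438805005435fd8f), (nat_lit 0)⟩))
 (.l ⟨(nat_lit 0xc0000d), (nat_lit 0x706416), (nat_lit 0x201345f12d496357a), (nat_lit 0)⟩))
 (.n (.n (.l ⟨(nat_lit 0x140000d), (nat_lit 0xe4835d470), (nat_lit 0x1051d61c57), (nat_lit 0)⟩)
 (.l ⟨(nat_lit 0xc00013), (nat_lit 0x1106c070141e), (nat_lit 0x685e108030050054752974), (nat_lit 0)⟩))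
 (.l ⟨(nat_lit 0xc0000d), (nat_lit 0x190741901c03), (nat_lit 0x189250bc4f62d7d), (nat_lit 0)⟩)))))))
noncomputable def T24 : Tr :=
  .n (.n (.n (.n (.n (.n (.n (.n (.l ⟨(nat_lit 0x400005), (nat_lit 0x122cc36), (nat_lit 0x114b65540500543605490080602407014080280c0300c02407014080280b01c05020050040802c0b), (nat_lit 0)⟩)
 (.l ⟨(nat_lit 0x140000d), (nat_lit 0x740706815), (nat_lit 0x331d416039416056b), (nat_lit 0)⟩))
 (.n (.l ⟨(nat_lit 0x140000d), (nat_lit 0x198782859e), (nat_lit 0x45663549), (nat_lit 0)⟩)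
 (.l ⟨(nat_lit 0xc00015), (nat_lit 0x1b07c1a07c10), (nat_lit 0x3410d6d08c050055a5bd64), (nat_lit 0)⟩)))
 (.n (.n (.l ⟨(nat_lit 0xc0000d), (nat_lit 0x811f08403), (nat_lit 0x218a12080b), (nat_lit 0)⟩)
 (.l ⟨(nat_lit 0xc0000d), (nat_lit 0x210141107013), (nat_lit 0xc44b4800c1655c59e), (nat_lit 0)⟩))
 (.l ⟨(nat_lit 0xc0000d), (nat_lit 0x1306c140141e), (nat_lit 0x7604510595064d7c0214d55d94), (nat_lit 0)⟩)))
 (.n (.n (.n (.l ⟨(nat_lit 0xc0000d), (nat_lit 0x16d5a4fc59), (nat_lit 0x5a44d04c05), (nat_lit 0)⟩)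
 (.l ⟨(nat_lit 0xc0000d), (nat_lit 0x210140f07007), (nat_lit 0x6915d5f030050054a5818b), (nat_lit 0)⟩))
 (.l ⟨(nat_lit 0xc0000b), (nat_lit 0x1206c1406815), (nat_lit 0x40c41e45d66989), (nat_lit 0)⟩))
 (.n (.n (.l ⟨(nat_lit 0xe0000b), (nat_lit 0x1410211021), (nat_lit 0x7c7b14891), (nat_lit 0)⟩)
 (.l ⟨(nat_lit 0x120000d), (nat_lit 0x141d0681207007), (nat_lit 0x345a0f06a5518c02003014010100757d75), (nat_lit 0)⟩))
 (.l ⟨(nat_lit 0xc0000d), (nat_lit 0x6c220640f07007), (nat_lit 0x6051178650054752d8c), (nat_lit 0)⟩))))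
 (.n (.n (.n (.n (.l ⟨(nat_lit 0xc0000b), (nat_lit 0xa9315cc10), (nat_lit 0x1b51c19437), (nat_lit 0)⟩)
 (.l ⟨(nat_lit 0xc0000d), (nat_lit 0x6c1306c2007013), (nat_lit 0x4b474514cc05005436656d), (nat_lit 0)⟩))
 (.l ⟨(nat_lit 0x1400009), (nat_lit 0xf0141507010), (nat_lit 0x271c19e0f14b67985), (nat_lit 0)⟩))
 (.n (.n (.l ⟨(nat_lit 0xc0000d), (nat_lit 0x1056e0806a), (nat_lit 0x257811077), (nat_lit 0)⟩)
 (.l ⟨(nat_lit 0xc0000d), (nat_lit 0x140701207013), (nat_lit 0x706343c2100405005415a99a), (nat_lit 0)⟩))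
 (.l ⟨(nat_lit 0xc0000d), (nat_lit 0x130701f07007), (nat_lit 0x1317e1640e59198), (nat_lit 0)⟩)))
 (.n (.n (.n (.l ⟨(nat_lit 0xc0000d), (nat_lit 0x16c2a65413), (nat_lit 0xa06b2543c), (nat_lit 0)⟩)
 (.l ⟨(nat_lit 0xc0000d), (nat_lit 0x120701d07007), (nat_lit 0x1090d1190d1456757b), (nat_lit 0)⟩))
 (.l ⟨(nat_lit 0x140000d), (nat_lit 11287), (nat_lit 0xf05964ce26658401d476016d), (nat_lit 0)⟩))
 (.n (.n (.l ⟨(nat_lit 0x120000d), (nat_lit 0x1205016832), (nat_lit 0x404e0753d1765fd9d020030140101007), (nat_lit 0)⟩)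
 (.l ⟨(nat_lit 0xc00013), (nat_lit 0x54130701207011), (nat_lit 0x71f536188050054c5f59b), (nat_lit 0)⟩))
 (.l ⟨(nat_lit 0xc0000d), (nat_lit 0x701406c1106416), (nat_lit 0x1056e0806a014015fd6b), (nat_lit 0)⟩)))))
 (.n (.n (.n (.n (.n (.l ⟨(nat_lit 0xc0000b), (nat_lit 0x713e05401), (nat_lit 0x64736040c), (nat_lit 0)⟩)
 (.l ⟨(nat_lit 0xc0000d), (nat_lit 0x1306c1307016), (nat_lit 0xc0784203550594), (nat_lit 0)⟩))
 (.n (.l ⟨(nat_lit 0xc00003), (nat_lit 18435), (nat_lit 0), (nat_lit 0)⟩)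
 (.l ⟨(nat_lit 0xc00015), (nat_lit 0x106c1607007), (nat_lit 0x20110590140155d81), (nat_lit 0)⟩)))
 (.n (.n (.l ⟨(nat_lit 0xc0000d), (nat_lit 0x173110f8), (nat_lit 0x90575b839), (nat_lit 0)⟩)
 (.l ⟨(nat_lit 0xc0000d), (nat_lit 0x64220680f07010), (nat_lit 0x6b1358b0a8050055263d8d), (nat_lit 0)⟩))
 (.l ⟨(nat_lit 0xe0000d), (nat_lit 0x481f0700707007), (nat_lit 0x1305c791c54956967), (nat_lit 0)⟩)))
 (.n (.n (.n (.l ⟨(nat_lit 0xc0000d), (nat_lit 0x12d9410866), (nat_lit 0x8d6d17506), (nat_lit 0)⟩)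
 (.l ⟨(nat_lit 0xc0000d), (nat_lit 0x180642107007), (nat_lit 0x13678214316d60159), (nat_lit 0)⟩))
 (.l ⟨(nat_lit 0xc0000b), (nat_lit 0x681206c1007007), (nat_lit 0x1c1fd5f0314159571), (nat_lit 0)⟩))
 (.n (.n (.l ⟨(nat_lit 0x100000d), (nat_lit 0x450164c10), (nat_lit 0x1858207c09), (nat_lit 0)⟩)
 (.l ⟨(nat_lit 0x80000f), (nat_lit 0xf0141501415), (nat_lit 0x100c15014015414a), (nat_lit 0)⟩))
 (.l ⟨(nat_lit 0xa0000d), (nat_lit 0x541f01415), (nat_lit 0x5665c53434050054b5d558), (nat_lit 0)⟩))))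
 (.n (.n (.n (.n (.l ⟨(nat_lit 0xc0000d), (nat_lit 0x5d0040807), (nat_lit 0x1b11603016), (nat_lit 0)⟩)
 (.l ⟨(nat_lit 0x120000d), (nat_lit 0x1c0840503c03), (nat_lit 0x665781143d4d66d5702003014010100755d71), (nat_lit 0)⟩))
 (.l ⟨(nat_lit 0xc0000b), (nat_lit 0x141406c0f07010), (nat_lit 0x604e07e34d4b63d57), (nat_lit 0)⟩))
 (.n (.n (.l ⟨(nat_lit 0xc0000d), (nat_lit 0x1a5280e40e), (nat_lit 0x15d795b04451d4b62c07), (nat_lit 0)⟩)
 (.l ⟨(nat_lit 0xc0000d), (nat_lit 0xf06c0f0701d), (nat_lit 0xfd7341c6463598), (nat_lit 0)⟩))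
 (.l ⟨(nat_lit 0x140000d), (nat_lit 0x1d0141207011), (nat_lit 0x6330872561475c14b), (nat_lit 0)⟩)))
 (.n (.n (.n (.l ⟨(nat_lit 0xc0000d), (nat_lit 0xe4671489f), (nat_lit 0x1812a1b87e), (nat_lit 0)⟩)
 (.l ⟨(nat_lit 0xc0000d), (nat_lit 0x150701e07011), (nat_lit 0x454ad52090050055a6014a), (nat_lit 0)⟩))
 (.l ⟨(nat_lit 0xc0000d), (nat_lit 0x30141007011), (nat_lit 0x1158d6e188050057d), (nat_lit 0)⟩))
 (.n (.n (.l ⟨(nat_lit 0x1400007), (nat_lit 0xe5791f0bd), (nat_lit 0x570407a1ec01), (nat_lit 0)⟩)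
 (.l ⟨(nat_lit 0xc00013), (nat_lit 0x70110701e07011), (nat_lit 0x2cc85148050054562150), (nat_lit 0)⟩))
 (.l ⟨(nat_lit 0xc0000d), (nat_lit 0x1d0701206415), (nat_lit 0x15cf445c5e0140153d94), (nat_lit 0)⟩))))))
 (.n (.n (.n (.n (.n (.n (.l ⟨(nat_lit 0xc00007), (nat_lit 0xc51e1c837), (nat_lit 0x1d6638407), (nat_lit 0)⟩)
 (.l ⟨(nat_lit 0xc0000d), (nat_lit 0x6c070641e), (nat_lit 0x2a56912090050054f58172), (nat_lit 0)⟩))
 (.n (.l ⟨(nat_lit 0x140000d), (nat_lit 0x138d31a4bd), (nat_lit 0x1ad2f20d05), (nat_lit 0)⟩)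
 (.l ⟨(nat_lit 0xc00015), (nat_lit 0x641e068070701d), (nat_lit 0x373058705c050055064d79), (nat_lit 0)⟩)))
 (.n (.n (.l ⟨(nat_lit 0xc0000d), (nat_lit 0x1786050034), (nat_lit 0x1b46848464), (nat_lit 0)⟩)
 (.l ⟨(nat_lit 0xc0000d), (nat_lit 0x681106c2201415), (nat_lit 0x6555cff1fc050054151d99), (nat_lit 0)⟩))
 (.l ⟨(nat_lit 0xa0000d), (nat_lit 0x6c220640f07011), (nat_lit 0x3a1853f27c050054d5fd79), (nat_lit 0)⟩)))
 (.n (.n (.n (.l ⟨(nat_lit 0xc0000d), (nat_lit 0x4ac7d3f814), (nat_lit 0x44891a803), (nat_lit 0)⟩)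
 (.l ⟨(nat_lit 0xa0000d), (nat_lit 0x1706c2207007), (nat_lit 0x662d87f5f005005415c58c), (nat_lit 0)⟩))
 (.l ⟨(nat_lit 0xc0000b), (nat_lit 0x1e0681e), (nat_lit 0x5e17c5d0156a6319c), (nat_lit 0)⟩))
 (.n (.n (.l ⟨(nat_lit 0xe0000d), (nat_lit 0x1b8801b417), (nat_lit 0x4e53022840), (nat_lit 0)⟩)
 (.l ⟨(nat_lit 0xc0000f), (nat_lit 0x130141e01416), (nat_lit 0xd58f14d760140150d84), (nat_lit 0)⟩))
 (.l ⟨(nat_lit 0xc0000d), (nat_lit 0x68150642207007), (nat_lit 0xf45c79124050054151d4d), (nat_lit 0)⟩))))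
 (.n (.n (.n (.n (.l ⟨(nat_lit 0xc0000b), (nat_lit 0x1305d160f9), (nat_lit 0x1e18d04043), (nat_lit 0)⟩)
 (.l ⟨(nat_lit 0xc0000d), (nat_lit 0x641f06c1d), (nat_lit 0x6966cff1d4050057a59596), (nat_lit 0)⟩))
 (.l ⟨(nat_lit 0xe0000b), (nat_lit 25620), (nat_lit 0x5f5ec75185585618b), (nat_lit 0)⟩))
 (.n (.n (.l ⟨(nat_lit 0xc0000d), (nat_lit 0x1252a3045f), (nat_lit 0x1748a5640e), (nat_lit 0)⟩)
 (.l ⟨(nat_lit 0x120000d), (nat_lit 0x64200142207010), (nat_lit 0x1bd99064585c5885d80800c050040401d4f56973), (nat_lit 0)⟩))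
 (.l ⟨(nat_lit 0xc0000d), (nat_lit 0x200141306815), (nat_lit 0x550612102c05005436797a), (nat_lit 0)⟩)))
 (.n (.n (.n (.l ⟨(nat_lit 0xc0000d), (nat_lit 0x1111d15445), (nat_lit 0x344841c21), (nat_lit 0)⟩)
 (.l ⟨(nat_lit 0xc0000d), (nat_lit 0x50120640707007), (nat_lit 0x5c3085a19005005576398a), (nat_lit 0)⟩))
 (.l ⟨(nat_lit 0xa0000d), (nat_lit 0xc07c03), (nat_lit 0x2c330e4050054364982), (nat_lit 0)⟩))
 (.n (.n (.l ⟨(nat_lit 0x120000d), (nat_lit 0xa4ec0fd31), (nat_lit 0x1644318d4c60988020030140101007), (nat_lit 0)⟩)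
 (.l ⟨(nat_lit 0xc00013), (nat_lit 0x5c1b07810), (nat_lit 0xe5851a0340140164164), (nat_lit 0)⟩))
 (.l ⟨(nat_lit 0xc0000d), (nat_lit 0x170700707012), (nat_lit 0x13c494b0750054364d86), (nat_lit 0)⟩)))))
 (.n (.n (.n (.n (.n (.l ⟨(nat_lit 0xc0000b), (nat_lit 0x818f0451c), (nat_lit 0x1b07b1b059), (nat_lit 0)⟩)
 (.l ⟨(nat_lit 0xc0000d), (nat_lit 0x401f06c1207011), (nat_lit 0x18164fa12c050054a64d81), (nat_lit 0)⟩))
 (.n (.l ⟨(nat_lit 0xc00007), (nat_lit 0x38210700707007), (nat_lit 0x5922836178050054b5e19c), (nat_lit 0)⟩)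
 (.l ⟨(nat_lit 0xe00015), (nat_lit 0x701f07017), (nat_lit 0x4b4d450068050054a5a97a), (nat_lit 0)⟩)))
 (.n (.n (.l ⟨(nat_lit 0xc0000d), (nat_lit 0x1587212455), (nat_lit 0x1557846831), (nat_lit 0)⟩)
 (.l ⟨(nat_lit 0xe0000d), (nat_lit 0x140f06c2007010), (nat_lit 0x15d8946847005545f15c), (nat_lit 0)⟩))
 (.l ⟨(nat_lit 0xc0000d), (nat_lit 0x1b0741908807), (nat_lit 0x61158fd0c0050054563989), (nat_lit 0)⟩)))
 (.n (.n (.n (.l ⟨(nat_lit 0xc0000d), (nat_lit 0xfc686043b), (nat_lit 0xc8eb5246b), (nat_lit 0)⟩)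
 (.l ⟨(nat_lit 0x140000d), (nat_lit 0x150680f07012), (nat_lit 0x1225a05a0c9515c960), (nat_lit 0)⟩))
 (.l ⟨(nat_lit 0xc0000d), (nat_lit 19468), (nat_lit 0x757d5701c050056661d8a), (nat_lit 0)⟩))
 (.n (.n (.l ⟨(nat_lit 0x120000d), (nat_lit 0xfd1766c18), (nat_lit 0xc0a310836), (nat_lit 0)⟩)
 (.l ⟨(nat_lit 0xe0000f), (nat_lit 0xd06c1d07007), (nat_lit 0x6d36084bb5255a6680800c050040401d435b57e), (nat_lit 0)⟩))
 (.l ⟨(nat_lit 0xc0000d), (nat_lit 0x1d0681407011), (nat_lit 0x244701e4f14963d56), (nat_lit 0)⟩))))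
 (.n (.n (.n (.n (.l ⟨(nat_lit 0xc0000d), (nat_lit 0x1084f6486f), (nat_lit 0x24c8564033), (nat_lit 0)⟩)
 (.l ⟨(nat_lit 0x140000d), (nat_lit 0x210702207007), (nat_lit 0xc221e86867597), (nat_lit 0)⟩))
 (.l ⟨(nat_lit 0xc0000b), (nat_lit 0x700701416), (nat_lit 0x51528760c94758d5a), (nat_lit 0)⟩))
 (.n (.n (.l ⟨(nat_lit 0xc0000d), (nat_lit 0x1354a13432), (nat_lit 0x620284e835), (nat_lit 0)⟩)
 (.l ⟨(nat_lit 0x120000d), (nat_lit 0x30150141107007), (nat_lit 0xd517d220d1495e96c), (nat_lit 0)⟩))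
 (.l ⟨(nat_lit 0xc0000d), (nat_lit 0x180140f06815), (nat_lit 0x582d47c5d5515e579), (nat_lit 0)⟩)))
 (.n (.n (.n (.l ⟨(nat_lit 0xc0000d), (nat_lit 0x1a87121432), (nat_lit 0xd5321c927), (nat_lit 0)⟩)
 (.l ⟨(nat_lit 0xc0000d), (nat_lit 0x68200641f07012), (nat_lit 0x112046d0c4050055b5d96e), (nat_lit 0)⟩))
 (.l ⟨(nat_lit 0xc0000d), (nat_lit 0x100141407010), (nat_lit 0x18071580d405005476416f), (nat_lit 0)⟩))
 (.n (.n (.l ⟨(nat_lit 0x140000d), (nat_lit 0xdcb858010), (nat_lit 0x458821956), (nat_lit 0)⟩)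
 (.l ⟨(nat_lit 0xc00013), (nat_lit 0x1c1b0780b), (nat_lit 0x9f1392a138050054a5fd54), (nat_lit 0)⟩))
 (.l ⟨(nat_lit 0x120000d), (nat_lit 0x401e07013), (nat_lit 0x6a48d5816d476214a), (nat_lit 0)⟩)))))))
 (.n (.n (.n (.n (.n (.n (.n (.l ⟨(nat_lit 0x800009), (nat_lit 0xe0480d), (nat_lit 0x51325e03c), (nat_lit 0)⟩)
 (.l ⟨(nat_lit 0xc0000d), (nat_lit 0x140702106c21), (nat_lit 0xf0fc1c52d8e59c0800c050040401d4154578), (nat_lit 0)⟩))
 (.n (.l ⟨(nat_lit 0x140000d), (nat_lit 0x1a4844e814), (nat_lit 0xcc750580e), (nat_lit 0)⟩)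
 (.l ⟨(nat_lit 0xc00015), (nat_lit 0x1d0682107007), (nat_lit 0x171eceb218050054f62d9a), (nat_lit 0)⟩)))
 (.n (.n (.l ⟨(nat_lit 0x60000d), (nat_lit 0xc1154d812), (nat_lit 0x4a47459450), (nat_lit 0)⟩)
 (.l ⟨(nat_lit 0xc0000d), (nat_lit 0x17070200681d), (nat_lit 0x34575e870014016396a), (nat_lit 0)⟩))
 (.l ⟨(nat_lit 0x140000d), (nat_lit 0x140641e), (nat_lit 0x50644ec0654558d8c), (nat_lit 0)⟩)))
 (.n (.n (.n (.l ⟨(nat_lit 0xc0000d), (nat_lit 0x408763593), (nat_lit 0x1893014875), (nat_lit 0)⟩)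
 (.l ⟨(nat_lit 0xc0000d), (nat_lit 0x16014140141e), (nat_lit 0x201bc4b0254166164), (nat_lit 0)⟩))
 (.l ⟨(nat_lit 0xc0000b), (nat_lit 0x1306c1407010), (nat_lit 0x62254880854a67975), (nat_lit 0)⟩))
 (.n (.n (.l ⟨(nat_lit 0xe0000d), (nat_lit 0x19c122ec44), (nat_lit 0xfc5d4f908), (nat_lit 0)⟩)
 (.l ⟨(nat_lit 0xc0000d), (nat_lit 0x141d0642007010), (nat_lit 0xe44e4e86f00c05005545ed79), (nat_lit 0)⟩))
 (.l ⟨(nat_lit 0xc0000d), (nat_lit 0x701807016), (nat_lit 0x1169802194d6218d), (nat_lit 0)⟩))))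
 (.n (.n (.n (.n (.l ⟨(nat_lit 0xc0000b), (nat_lit 0x14d2213d1f), (nat_lit 0x1651a09c0b), (nat_lit 0)⟩)
 (.l ⟨(nat_lit 0xc0000d), (nat_lit 0x681506c1307007), (nat_lit 0x1f38884429475ad71), (nat_lit 0)⟩))
 (.l ⟨(nat_lit 0xc00009), (nat_lit 0x54130700707011), (nat_lit 0x692dd6c21005005515a18b), (nat_lit 0)⟩))
 (.n (.n (.l ⟨(nat_lit 0xc0000d), (nat_lit 0x49c7946824), (nat_lit 0xa07215cbd0140166585020030140101007), (nat_lit 0)⟩)
 (.l ⟨(nat_lit 0xc0000d), (nat_lit 0x1f0641f07011), (nat_lit 0x421a07d014050054c5e160), (nat_lit 0)⟩))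
 (.l ⟨(nat_lit 0x120000d), (nat_lit 0x1b04c0e07011), (nat_lit 0x1840fc0564966), (nat_lit 0)⟩)))
 (.n (.n (.n (.l ⟨(nat_lit 0xc0000d), (nat_lit 0x189211c05e), (nat_lit 0x8192198b5), (nat_lit 0)⟩)
 (.l ⟨(nat_lit 0xc0000d), (nat_lit 0x701e0141607013), (nat_lit 0x6a4a4801d4015658b57c020180901c050200a0300c0300901c050200a02c0701408014010200b02d475cd73), (nat_lit 0)⟩))
 (.l ⟨(nat_lit 0xc0000d), (nat_lit 0x1106c100641e), (nat_lit 0x33484895d94c5717a), (nat_lit 0)⟩))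
 (.n (.n (.l ⟨(nat_lit 0x120000d), (nat_lit 0x704f56866), (nat_lit 0x1107643430), (nat_lit 0)⟩)
 (.l ⟨(nat_lit 0x1200013), (nat_lit 24594), (nat_lit 0x1666117901d4b53550), (nat_lit 0)⟩))
 (.l ⟨(nat_lit 0xc0000d), (nat_lit 0x541107011), (nat_lit 0xd91c6054564992), (nat_lit 0)⟩)))))
 (.n (.n (.n (.n (.n (.l ⟨(nat_lit 0xc0000b), (nat_lit 0x1b4fc19c53), (nat_lit 0x58669260c001), (nat_lit 0)⟩)
 (.l ⟨(nat_lit 0xe0000d), (nat_lit 0x382007017), (nat_lit 0x1c1e5741cd435a59b), (nat_lit 0)⟩))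
 (.n (.l ⟨(nat_lit 0x600007), (nat_lit 0x220641507010), (nat_lit 0x45c9308c05005436017e), (nat_lit 0)⟩)
 (.l ⟨(nat_lit 0xc00015), (nat_lit 0x180641306816), (nat_lit 0x1114d2c06805005456414c), (nat_lit 0)⟩)))
 (.n (.n (.l ⟨(nat_lit 0xc0000d), (nat_lit 0x130764b827), (nat_lit 0x1315f2245e), (nat_lit 0)⟩)
 (.l ⟨(nat_lit 0x140000d), (nat_lit 0x17070200641d), (nat_lit 0x6d4a46e06d8256c0800c050040401d5154555), (nat_lit 0)⟩))
 (.l ⟨(nat_lit 0xc0000d), (nat_lit 0x681f0681e), (nat_lit 0xd9020dc58005475f54d), (nat_lit 0)⟩)))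
 (.n (.n (.n (.l ⟨(nat_lit 0xc0000d), (nat_lit 0x105331c8bc), (nat_lit 0x597305916), (nat_lit 0)⟩)
 (.l ⟨(nat_lit 0xc0000d), (nat_lit 0x6c1706c1607007), (nat_lit 0x41941a04100405005506759d), (nat_lit 0)⟩))
 (.l ⟨(nat_lit 0xc0000d), (nat_lit 0x14160141107012), (nat_lit 0x1386e5f40154545), (nat_lit 0)⟩))
 (.n (.n (.l ⟨(nat_lit 0x120000d), (nat_lit 0x1cfc4d035), (nat_lit 0x170614b493), (nat_lit 0)⟩)
 (.l ⟨(nat_lit 0xa0000f), (nat_lit 0x801b05003), (nat_lit 0xdd935b854014015bd7f), (nat_lit 0)⟩))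
 (.l ⟨(nat_lit 0xa0000d), (nat_lit 0x7c1a08810), (nat_lit 0x4d59c551b4050054355987), (nat_lit 0)⟩))))
 (.n (.n (.n (.n (.l ⟨(nat_lit 0xc0000d), (nat_lit 0x2c790cc62), (nat_lit 0x1853661450), (nat_lit 0)⟩)
 (.l ⟨(nat_lit 0x120000d), (nat_lit 0x64210701207007), (nat_lit 0x4561039659545d99c), (nat_lit 0)⟩))
 (.l ⟨(nat_lit 0xc0000b), (nat_lit 0x140681707014), (nat_lit 0x4f115690354557d8e), (nat_lit 0)⟩))
 (.n (.n (.l ⟨(nat_lit 0xc0000d), (nat_lit 0x543119935), (nat_lit 0x49121a151), (nat_lit 0)⟩)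
 (.l ⟨(nat_lit 0xc0000d), (nat_lit 0x6c210141707010), (nat_lit 0x6d2045505c05005435d58d), (nat_lit 0)⟩))
 (.l ⟨(nat_lit 0xa0000d), (nat_lit 0x601106c1807010), (nat_lit 0x1082041454004050056057571), (nat_lit 0)⟩)))
 (.n (.n (.n (.l ⟨(nat_lit 0xc0000d), (nat_lit 0x61271c99a), (nat_lit 0xcd7d1e15f), (nat_lit 0)⟩)
 (.l ⟨(nat_lit 0xc0000d), (nat_lit 0x200140707014), (nat_lit 0x34bc82154050054a6218d), (nat_lit 0)⟩))
 (.l ⟨(nat_lit 0xc0000d), (nat_lit 0x64150141e01416), (nat_lit 0x345acd31755265d6d), (nat_lit 0)⟩))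
 (.n (.n (.l ⟨(nat_lit 0x140000b), (nat_lit 0x399416418), (nat_lit 0x18815497), (nat_lit 0)⟩)
 (.l ⟨(nat_lit 0x1200013), (nat_lit 0x1b0301e), (nat_lit 0x141675940080602407014080280c0300c02407014080280b01c05020050040802c0b53d4d), (nat_lit 0)⟩))
 (.l ⟨(nat_lit 0xc0000d), (nat_lit 0x706c130141f), (nat_lit 0x58571a41762d70), (nat_lit 0)⟩))))))
 (.n (.n (.n (.n (.n (.n (.l ⟨(nat_lit 0xc00009), (nat_lit 0x10cbd1d47e), (nat_lit 0xdd6366c0b), (nat_lit 0)⟩)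
 (.l ⟨(nat_lit 0xc0000d), (nat_lit 0x682207016), (nat_lit 0x294048a2216f621940200301401010075c193), (nat_lit 0)⟩))
 (.n (.l ⟨(nat_lit 0x140000f), (nat_lit 0x30b440807), (nat_lit 0x7cf82084f), (nat_lit 0)⟩)
 (.l ⟨(nat_lit 0xc00015), (nat_lit 0x120141d0681d), (nat_lit 0x350419b01c05005565e97d), (nat_lit 0)⟩)))
 (.n (.n (.l ⟨(nat_lit 0xc0000d), (nat_lit 0xc89146c10), (nat_lit 0x3c3218834), (nat_lit 0)⟩)
 (.l ⟨(nat_lit 0xc0000d), (nat_lit 0x6c220681407007), (nat_lit 0x182506c1d9456099d), (nat_lit 0)⟩))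
 (.l ⟨(nat_lit 0xc0000d), (nat_lit 0x70701d), (nat_lit 0x4f5cd251d1435dd64), (nat_lit 0)⟩)))
 (.n (.n (.n (.l ⟨(nat_lit 0xc0000d), (nat_lit 0xdd9d2098b), (nat_lit 0xa4424ec21), (nat_lit 0)⟩)
 (.l ⟨(nat_lit 0xc0000d), (nat_lit 0x1806c2107013), (nat_lit 0x354c87249d4c5fd49), (nat_lit 0)⟩))
 (.l ⟨(nat_lit 0xc0000b), (nat_lit 0x50540501c03), (nat_lit 0x17917c3150d4a), (nat_lit 0)⟩))
 (.n (.n (.l ⟨(nat_lit 0xe0000d), (nat_lit 0x164091bd6a), (nat_lit 0x431cd2a5d801), (nat_lit 0)⟩)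
 (.l ⟨(nat_lit 0xc0000f), (nat_lit 0x701807010), (nat_lit 0x2a14c7415405005455e989), (nat_lit 0)⟩))
 (.l ⟨(nat_lit 0xc0000d), (nat_lit 0x6c1d0141007007), (nat_lit 0x4c56868468050054c5c99b), (nat_lit 0)⟩))))
 (.n (.n (.n (.n (.l ⟨(nat_lit 0xc0000b), (nat_lit 0x1711b6005a), (nat_lit 0x1655a0a481), (nat_lit 0)⟩)
 (.l ⟨(nat_lit 0xc0000d), (nat_lit 0x502006c1307010), (nat_lit 0x451943a67005005415995d), (nat_lit 0)⟩))
 (.l ⟨(nat_lit 0xa0000b), (nat_lit 14347), (nat_lit 0xc4b8b250543), (nat_lit 0)⟩))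
 (.n (.n (.l ⟨(nat_lit 0xc0000d), (nat_lit 0x558791d440), (nat_lit 0x1b9180fc17), (nat_lit 0)⟩)
 (.l ⟨(nat_lit 0xe0000d), (nat_lit 0x220701f07013), (nat_lit 0x4315c1d57d4f6019e), (nat_lit 0)⟩))
 (.l ⟨(nat_lit 0xc0000d), (nat_lit 0x68210642207010), (nat_lit 0x1c4ec8446d4a5d565), (nat_lit 0)⟩)))
 (.n (.n (.n (.l ⟨(nat_lit 0xc0000d), (nat_lit 0x1386127d97), (nat_lit 0x1a92505152), (nat_lit 0)⟩)
 (.l ⟨(nat_lit 0xc0000d), (nat_lit 0x170142107007), (nat_lit 0x292ec635a9475fd73), (nat_lit 0)⟩))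
 (.l ⟨(nat_lit 0xc0000d), (nat_lit 0x1401416), (nat_lit 0xc84f160305056362c020180a00c020180401d5761998), (nat_lit 0)⟩))
 (.n (.n (.l ⟨(nat_lit 0x1200011), (nat_lit 0x171d52b1a001), (nat_lit 0x3243860135585e952020030140101007), (nat_lit 0)⟩)
 (.l ⟨(nat_lit 0xc00013), (nat_lit 0x1d0140f06815), (nat_lit 0x1e2f07c1b8050055c60151), (nat_lit 0)⟩))
 (.l ⟨(nat_lit 0xc0000d), (nat_lit 0x160681e07007), (nat_lit 0x112558003c050054566592), (nat_lit 0)⟩)))))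
 (.n (.n (.n (.n (.n (.l ⟨(nat_lit 0xc0000b), (nat_lit 0x198810c516), (nat_lit 0xbc1f4a411), (nat_lit 0)⟩)
 (.l ⟨(nat_lit 0xc0000d), (nat_lit 0x241d0641d), (nat_lit 0x114485704805005415bd51), (nat_lit 0)⟩))
 (.n (.l ⟨(nat_lit 0xc00007), (nat_lit 0x1406c140681f), (nat_lit 0x391842f0896063547), (nat_lit 0)⟩)
 (.l ⟨(nat_lit 0xc00015), (nat_lit 0x6c170641d), (nat_lit 0x5a12c7e07005005665e94f), (nat_lit 0)⟩)))
 (.n (.n (.l ⟨(nat_lit 0xc0000d), (nat_lit 0x178f81515c), (nat_lit 0x1c840698a), (nat_lit 0)⟩)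
 (.l ⟨(nat_lit 0xc0000d), (nat_lit 0x68150641307007), (nat_lit 0x3f5b0fc15005005516018b), (nat_lit 0)⟩))
 (.l ⟨(nat_lit 0x60000d), (nat_lit 0x4c1b03c03), (nat_lit 0x4b1a01905d4a63d65), (nat_lit 0)⟩)))
 (.n (.n (.n (.l ⟨(nat_lit 0xc0000d), (nat_lit 0xcc4e5f111), (nat_lit 0x3213c580c14158d8b00806028030080601007), (nat_lit 0)⟩)
 (.l ⟨(nat_lit 0xa0000d), (nat_lit 0x641d0141407013), (nat_lit 0x1a87e46c5b0140157179), (nat_lit 0)⟩))
 (.l ⟨(nat_lit 0xc0000d), (nat_lit 0x681e01416), (nat_lit 0x4f14d6b41805005455917e), (nat_lit 0)⟩))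
 (.n (.n (.l ⟨(nat_lit 0x120000d), (nat_lit 0x160c111032), (nat_lit 0x1c0571bc93), (nat_lit 0)⟩)
 (.l ⟨(nat_lit 0x1200011), (nat_lit 0x1a0881a03c03), (nat_lit 0x10540288606797d), (nat_lit 0)⟩))
 (.l ⟨(nat_lit 0xc0000d), (nat_lit 0x41b0600f07007), (nat_lit 0x84b51d01e50d4a), (nat_lit 0)⟩))))
 (.n (.n (.n (.n (.l ⟨(nat_lit 0xc0000d), (nat_lit 0x108834c581), (nat_lit 0x6e4b0e11ac01), (nat_lit 0)⟩)
 (.l ⟨(nat_lit 0x140000d), (nat_lit 0x706c150141d), (nat_lit 0x188154975055e6600800c050040401d4c5e94b), (nat_lit 0)⟩))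
 (.l ⟨(nat_lit 0x140000b), (nat_lit 0x341f0701d), (nat_lit 0x72d995151496459e), (nat_lit 0)⟩))
 (.n (.n (.l ⟨(nat_lit 0x60000d), (nat_lit 0x25221f012), (nat_lit 0xd5a2106e), (nat_lit 0)⟩)
 (.l ⟨(nat_lit 0xc0000d), (nat_lit 0x1e0681206416), (nat_lit 0xa0103cc5863999), (nat_lit 0)⟩))
 (.l ⟨(nat_lit 0xc0000d), (nat_lit 0x701401416), (nat_lit 0x271548a0c401014015b980), (nat_lit 0)⟩)))
 (.n (.n (.n (.l ⟨(nat_lit 0xc0000d), (nat_lit 0x134164d00e), (nat_lit 0x1346857533), (nat_lit 0)⟩)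
 (.l ⟨(nat_lit 0xc0000d), (nat_lit 0x1f0141707010), (nat_lit 0x5d3dcc2051526198e), (nat_lit 0)⟩))
 (.l ⟨(nat_lit 0xc0000d), (nat_lit 0x4c1b04c03), (nat_lit 0x194219b16c016017b), (nat_lit 0)⟩))
 (.n (.n (.l ⟨(nat_lit 0x140000d), (nat_lit 0x90a4f2), (nat_lit 0x7199080f7), (nat_lit 0)⟩)
 (.l ⟨(nat_lit 0x1400013), (nat_lit 0x70140681407013), (nat_lit 0x6c06450111555fd8e), (nat_lit 0)⟩))
 (.l ⟨(nat_lit 0xc0000d), (nat_lit 0x68210701107007), (nat_lit 0x51792a4154c5b99a), (nat_lit 0)⟩)))))))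
noncomputable def T25 : Tr :=
  .n (.n (.n (.n (.n (.n (.n (.n (.l ⟨(nat_lit 0x200002), (nat_lit 5), (nat_lit 0), (nat_lit 0)⟩)
 (.l ⟨(nat_lit 0xc0000d), (nat_lit 0x1806c1e07012), (nat_lit 0x5759c234f8050054b5e987), (nat_lit 0)⟩))
 (.n (.l ⟨(nat_lit 0x140000d), (nat_lit 0xd0435b423), (nat_lit 0x4896816832), (nat_lit 0)⟩)
 (.l ⟨(nat_lit 0x600015), (nat_lit 0x701f06c1d), (nat_lit 0x1638449208050054a60975), (nat_lit 0)⟩)))
 (.n (.n (.l ⟨(nat_lit 0xc0000d), (nat_lit 0x100dc54), (nat_lit 0x34b33f04f), (nat_lit 0)⟩)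
 (.l ⟨(nat_lit 0x140000d), (nat_lit 0x2006c1107012), (nat_lit 0x647e418535054c), (nat_lit 0)⟩))
 (.l ⟨(nat_lit 0xc0000d), (nat_lit 0x1b0481501415), (nat_lit 0x586405905c050055562547), (nat_lit 0)⟩)))
 (.n (.n (.n (.l ⟨(nat_lit 0xc0000d), (nat_lit 0x545363836), (nat_lit 0x1612f01c1c), (nat_lit 0)⟩)
 (.l ⟨(nat_lit 0xe0000d), (nat_lit 0x701406c2207010), (nat_lit 0xb81a9150f1435bd79), (nat_lit 0)⟩))
 (.l ⟨(nat_lit 0xc0000b), (nat_lit 0xf0681e0680f07007), (nat_lit 0x3470571fd4564d81), (nat_lit 0)⟩))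
 (.n (.n (.l ⟨(nat_lit 0xe00009), (nat_lit 0x65c684f84f), (nat_lit 0x108681e529), (nat_lit 0)⟩)
 (.l ⟨(nat_lit 0x120000d), (nat_lit 0x1806c1f01421), (nat_lit 0x110764343054551), (nat_lit 0)⟩))
 (.l ⟨(nat_lit 0xc0000d), (nat_lit 0x2006c2207011), (nat_lit 0x151b4390655364165), (nat_lit 0)⟩))))
 (.n (.n (.n (.n (.l ⟨(nat_lit 0xc0000b), (nat_lit 0x151861d813), (nat_lit 0x1785f1740564591020030140101007), (nat_lit 0)⟩)
 (.l ⟨(nat_lit 0xa0000d), (nat_lit 0x1b03c1a04803), (nat_lit 0x1084740fc05005415356d), (nat_lit 0)⟩))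
 (.l ⟨(nat_lit 0x600007), (nat_lit 0x1d0641501415), (nat_lit 0xc50f1047f55574590020180901c050200a0300c0300901c050200a02c0701408014010200b02d4a5a190), (nat_lit 0)⟩))
 (.n (.n (.l ⟨(nat_lit 0xc0000d), (nat_lit 0x10c6915071), (nat_lit 0x70805b04b), (nat_lit 0)⟩)
 (.l ⟨(nat_lit 0xc0000d), (nat_lit 0x220681107011), (nat_lit 0x11d1f4bd0cc05005595e563), (nat_lit 0)⟩))
 (.l ⟨(nat_lit 0xc0000d), (nat_lit 0x1d06c120141d), (nat_lit 0x3049075070050054961d85), (nat_lit 0)⟩)))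
 (.n (.n (.n (.l ⟨(nat_lit 0xc0000d), (nat_lit 0x1631f98f), (nat_lit 0xc7224c32), (nat_lit 0)⟩)
 (.l ⟨(nat_lit 0xc0000d), (nat_lit 0x640706c1007007), (nat_lit 0x6255d6d0a54160581), (nat_lit 0)⟩))
 (.l ⟨(nat_lit 0x80000d), (nat_lit 18451), (nat_lit 0x6c403c405005435cd4a), (nat_lit 0)⟩))
 (.n (.n (.l ⟨(nat_lit 0x120000d), (nat_lit 0xf04866c20), (nat_lit 0x1a9294601e), (nat_lit 0)⟩)
 (.l ⟨(nat_lit 0xc00013), (nat_lit 0x7c1b0740503c03), (nat_lit 0xb70811d0140150d8e), (nat_lit 0)⟩))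
 (.l ⟨(nat_lit 0xc0000d), (nat_lit 0x6c1406c1f), (nat_lit 0xd4881f4375256e), (nat_lit 0)⟩)))))
 (.n (.n (.n (.n (.n (.l ⟨(nat_lit 0xc0000b), (nat_lit 0x10a48807), (nat_lit 0xe4201f827), (nat_lit 0)⟩)
 (.l ⟨(nat_lit 0xc0000d), (nat_lit 0x160642207014), (nat_lit 0x143d03f01c050055062d72), (nat_lit 0)⟩))
 (.n (.l ⟨(nat_lit 0x1400015), (nat_lit 12), (nat_lit 0x331d416039575ac0c), (nat_lit 0)⟩)
 (.l ⟨(nat_lit 0xc00015), (nat_lit 0x641d06c1007013), (nat_lit 0x372e160040050054358d6c), (nat_lit 0)⟩)))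
 (.n (.n (.l ⟨(nat_lit 0xc0000d), (nat_lit 0x6c4917423), (nat_lit 0x646e20c2a), (nat_lit 0)⟩)
 (.l ⟨(nat_lit 0xc0000d), (nat_lit 0x6c1d06c1307011), (nat_lit 0x374845f5e0050054153d5a), (nat_lit 0)⟩))
 (.l ⟨(nat_lit 0xc0000d), (nat_lit 0x100681107014), (nat_lit 0x4318d3f079455c573), (nat_lit 0)⟩)))
 (.n (.n (.n (.l ⟨(nat_lit 0xc0000d), (nat_lit 0x1047e4f862), (nat_lit 0x1718620d96), (nat_lit 0)⟩)
 (.l ⟨(nat_lit 0xa0000d), (nat_lit 0x110681407007), (nat_lit 0x1bcc4184600140165576), (nat_lit 0)⟩))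
 (.l ⟨(nat_lit 0xc0000b), (nat_lit 0x6c1007007), (nat_lit 0x6c4fc285dd7962199), (nat_lit 0)⟩))
 (.n (.n (.l ⟨(nat_lit 0xe0000d), (nat_lit 0x65221c818), (nat_lit 0x10c570755f), (nat_lit 0)⟩)
 (.l ⟨(nat_lit 0xc0000f), (nat_lit 0x6c1d0681607011), (nat_lit 0x6f1714908c050054d6516e), (nat_lit 0)⟩))
 (.l ⟨(nat_lit 0xc0000d), (nat_lit 0xd06c1607011), (nat_lit 0x15c0909c62005496459a), (nat_lit 0)⟩))))
 (.n (.n (.n (.n (.l ⟨(nat_lit 0xc0000d), (nat_lit 0x41905e007), (nat_lit 0x1110d2291c), (nat_lit 0)⟩)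
 (.l ⟨(nat_lit 0xc0000d), (nat_lit 0x1e0141007013), (nat_lit 0x326259b048050055f67184), (nat_lit 0)⟩))
 (.l ⟨(nat_lit 0xc0000b), (nat_lit 0x581d07012), (nat_lit 0x500814a06154), (nat_lit 0)⟩))
 (.n (.n (.l ⟨(nat_lit 0xc0000d), (nat_lit 0x62c655681b), (nat_lit 0x1887814c65), (nat_lit 0)⟩)
 (.l ⟨(nat_lit 0xc0000d), (nat_lit 0x70160641306815), (nat_lit 0x941306b068050054a5d96e), (nat_lit 0)⟩))
 (.l ⟨(nat_lit 0xc0000d), (nat_lit 0x6c1d0642106415), (nat_lit 0x19050080d154979628020180901c050200a0300c0300901c050200a02c0701408014010200b02d605ed6b), (nat_lit 0)⟩)))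
 (.n (.n (.n (.l ⟨(nat_lit 0xc0000d), (nat_lit 0x13c661f99b), (nat_lit 0x1392961c4c), (nat_lit 0)⟩)
 (.l ⟨(nat_lit 0xc0000d), (nat_lit 0x1e070180701e), (nat_lit 0x3666c62051455c19d), (nat_lit 0)⟩))
 (.l ⟨(nat_lit 0xc0000d), (nat_lit 0x220641f), (nat_lit 0x93215900cd4c5ad57), (nat_lit 0)⟩))
 (.n (.n (.l ⟨(nat_lit 0x1200013), (nat_lit 0x6d1d10818001), (nat_lit 0x14d811e0e255175020030140101007), (nat_lit 0)⟩)
 (.l ⟨(nat_lit 0xc00013), (nat_lit 0x100141f), (nat_lit 0x4d28448640050056664961), (nat_lit 0)⟩))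
 (.l ⟨(nat_lit 0xc0000d), (nat_lit 0x1b05c1b03c03), (nat_lit 0x276758f04d5358d90), (nat_lit 0)⟩))))))
 (.n (.n (.n (.n (.n (.n (.l ⟨(nat_lit 0xa0000b), (nat_lit 0x11c1b11c01), (nat_lit 0x1b1245e055), (nat_lit 0)⟩)
 (.l ⟨(nat_lit 0xc0000d), (nat_lit 0x502206415), (nat_lit 0x4d134861254a5d96d), (nat_lit 0)⟩))
 (.n (.l ⟨(nat_lit 0x140000d), (nat_lit 0x1693507c1a), (nat_lit 0x121791683c), (nat_lit 0)⟩)
 (.l ⟨(nat_lit 0xa00015), (nat_lit 0x22068150141d), (nat_lit 0x230d405005475dd85), (nat_lit 0)⟩)))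
 (.n (.n (.l ⟨(nat_lit 0xc0000d), (nat_lit 0x5b05a56031), (nat_lit 0x15d795b044), (nat_lit 0)⟩)
 (.l ⟨(nat_lit 0xc0000d), (nat_lit 0x140702107010), (nat_lit 0x4262c834e405005415496a), (nat_lit 0)⟩))
 (.l ⟨(nat_lit 0xc0000d), (nat_lit 0x150681407010), (nat_lit 0x345d18115005005475e558), (nat_lit 0)⟩)))
 (.n (.n (.n (.l ⟨(nat_lit 0xc0000d), (nat_lit 0x156702914c01), (nat_lit 0x355a17421), (nat_lit 0)⟩)
 (.l ⟨(nat_lit 0xe0000d), (nat_lit 0x1f0641f07007), (nat_lit 0x1b41c6003c669820200301401010075754f), (nat_lit 0)⟩))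
 (.l ⟨(nat_lit 0xe0000b), (nat_lit 0x1d070200641d), (nat_lit 0x1114c524d5495ed4c), (nat_lit 0)⟩))
 (.n (.n (.l ⟨(nat_lit 0xe0000d), (nat_lit 0x1586a4f8b2), (nat_lit 0xa8b114c1b), (nat_lit 0)⟩)
 (.l ⟨(nat_lit 0xc0000d), (nat_lit 0x64160681007011), (nat_lit 0x1617d17440050056166593), (nat_lit 0)⟩))
 (.l ⟨(nat_lit 0xc0000d), (nat_lit 0x190841a04403), (nat_lit 0x1054886208d475619c01d6059d50), (nat_lit 0)⟩))))
 (.n (.n (.n (.n (.l ⟨(nat_lit 0xc0000b), (nat_lit 0x1bd8e0ec4d), (nat_lit 0x15c500bcfb), (nat_lit 0)⟩)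
 (.l ⟨(nat_lit 0xc0000d), (nat_lit 0x220701207014), (nat_lit 0x6d10462031476316f), (nat_lit 0)⟩))
 (.l ⟨(nat_lit 0xc0000b), (nat_lit 11), (nat_lit 0x3501a50543), (nat_lit 0)⟩))
 (.n (.n (.l ⟨(nat_lit 0xc0000d), (nat_lit 0x146212cd4), (nat_lit 0x190c264010), (nat_lit 0)⟩)
 (.l ⟨(nat_lit 0x120000d), (nat_lit 0x70680707014), (nat_lit 0x3527c6157d8f5040800c050040401d4a5b186), (nat_lit 0)⟩))
 (.l ⟨(nat_lit 0xc0000d), (nat_lit 0x701607017), (nat_lit 0x5e425771154b5a198), (nat_lit 0)⟩)))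
 (.n (.n (.n (.l ⟨(nat_lit 0x60000d), (nat_lit 0x3d3e4784e), (nat_lit 0x6c4a10717801), (nat_lit 0)⟩)
 (.l ⟨(nat_lit 0xc0000d), (nat_lit 0x1f06c1707012), (nat_lit 0xc9175a041014015c18b), (nat_lit 0)⟩))
 (.l ⟨(nat_lit 0xc0000d), (nat_lit 0x190481d), (nat_lit 0x504c84711c05005415d592), (nat_lit 0)⟩))
 (.n (.n (.l ⟨(nat_lit 0x120000d), (nat_lit 0x1b98b104b7), (nat_lit 0x2143425c4e), (nat_lit 0)⟩)
 (.l ⟨(nat_lit 0xc00013), (nat_lit 0x5c1e0680707011), (nat_lit 0x58304440c805005515d18d), (nat_lit 0)⟩))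
 (.l ⟨(nat_lit 0x140000d), (nat_lit 0x801807011), (nat_lit 0x520cc85135436016f), (nat_lit 0)⟩)))))
 (.n (.n (.n (.n (.n (.l ⟨(nat_lit 0xc0000b), (nat_lit 0x111950fd9d), (nat_lit 0x918820c34), (nat_lit 0)⟩)
 (.l ⟨(nat_lit 0xc0000d), (nat_lit 0x88110141e), (nat_lit 0x5b85b5e4130140167554), (nat_lit 0)⟩))
 (.n (.l ⟨(nat_lit 0x1400007), (nat_lit 0x1b02c1707011), (nat_lit 0x15c101e87b0054566154), (nat_lit 0)⟩)
 (.l ⟨(nat_lit 0x1200015), (nat_lit 0x1806c1d), (nat_lit 0x571ac69578050055067170), (nat_lit 0)⟩)))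
 (.n (.n (.l ⟨(nat_lit 0xc0000d), (nat_lit 0x39941944d), (nat_lit 0x195000f055), (nat_lit 0)⟩)
 (.l ⟨(nat_lit 0xc0000d), (nat_lit 0x1806c110641f), (nat_lit 0x15678213f5435459e), (nat_lit 0)⟩))
 (.l ⟨(nat_lit 0xc0000d), (nat_lit 0x80190781905c03), (nat_lit 0x15c1d063064050054b5f566), (nat_lit 0)⟩)))
 (.n (.n (.n (.l ⟨(nat_lit 0xc0000d), (nat_lit 0x40896584c), (nat_lit 0xccec5a87d), (nat_lit 0)⟩)
 (.l ⟨(nat_lit 0xc0000d), (nat_lit 0x200641307010), (nat_lit 0x559c0a453004050054b62d76), (nat_lit 0)⟩))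
 (.l ⟨(nat_lit 0x140000d), (nat_lit 0x601b0740c), (nat_lit 0x363ec5720d4153d68), (nat_lit 0)⟩))
 (.n (.n (.l ⟨(nat_lit 0x120000d), (nat_lit 0xfc430547c), (nat_lit 0x158661d822), (nat_lit 0)⟩)
 (.l ⟨(nat_lit 0x120000f), (nat_lit 0x106c1207010), (nat_lit 0xb1c81d5658d6180800c050040401d4564d59), (nat_lit 0)⟩))
 (.l ⟨(nat_lit 0xc0000d), (nat_lit 0x1706c1407010), (nat_lit 0x112246a00d4b6516c), (nat_lit 0)⟩))))
 (.n (.n (.n (.n (.l ⟨(nat_lit 0xc0000d), (nat_lit 0x44531ac4d), (nat_lit 0x1559c15432), (nat_lit 0)⟩)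
 (.l ⟨(nat_lit 0xc0000d), (nat_lit 0x1d0140707007), (nat_lit 0x434b8284f4050054b61d45), (nat_lit 0)⟩))
 (.l ⟨(nat_lit 0x140000b), (nat_lit 0x701106816), (nat_lit 0x171d563224035d98d), (nat_lit 0)⟩))
 (.n (.n (.l ⟨(nat_lit 0x60000d), (nat_lit 0x14c5f0f015), (nat_lit 0xf19c4ac61), (nat_lit 0)⟩)
 (.l ⟨(nat_lit 0xa0000d), (nat_lit 0x180701201415), (nat_lit 0x651d97713c05005456158f), (nat_lit 0)⟩))
 (.l ⟨(nat_lit 0x120000d), (nat_lit 0x160682007011), (nat_lit 0x7015c6f24d505694f), (nat_lit 0)⟩)))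
 (.n (.n (.n (.l ⟨(nat_lit 0xc0000d), (nat_lit 0x1847d43851), (nat_lit 0x14d520cc1d), (nat_lit 0)⟩)
 (.l ⟨(nat_lit 0x120000d), (nat_lit 0x641d06c1307011), (nat_lit 0x151b42709d4d54d58), (nat_lit 0)⟩))
 (.l ⟨(nat_lit 0xa0000d), (nat_lit 0x1b05c210700707007), (nat_lit 0x1398f06c580140161980), (nat_lit 0)⟩))
 (.n (.n (.l ⟨(nat_lit 0x140000b), (nat_lit 0xd4d15d05c), (nat_lit 0xd6b17410), (nat_lit 0)⟩)
 (.l ⟨(nat_lit 0xc00013), (nat_lit 0x64210681107014), (nat_lit 0x31cd761e8050056a59593), (nat_lit 0)⟩))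
 (.l ⟨(nat_lit 0x140000d), (nat_lit 0x681d0701406416), (nat_lit 0x11f1115d059576495f), (nat_lit 0)⟩)))))))
 (.n (.n (.n (.n (.n (.n (.n (.l ⟨(nat_lit 0x600007), (nat_lit 0x13d3100f), (nat_lit 0x1d87e62024), (nat_lit 0)⟩)
 (.l ⟨(nat_lit 0xc0000d), (nat_lit 0x1f06c2201415), (nat_lit 0x1c1cc4c1e405005735a57d), (nat_lit 0)⟩))
 (.n (.l ⟨(nat_lit 0x140000d), (nat_lit 0x1503f4681b), (nat_lit 0xbc9f58029), (nat_lit 0)⟩)
 (.l ⟨(nat_lit 0xa00015), (nat_lit 0x58140681807007), (nat_lit 0x440fd75498050054765d45), (nat_lit 0)⟩)))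
 (.n (.n (.l ⟨(nat_lit 0xc0000d), (nat_lit 0x30b61b40f), (nat_lit 0x1bc353fc28), (nat_lit 0)⟩)
 (.l ⟨(nat_lit 0xc0000d), (nat_lit 0x70120641607007), (nat_lit 0x19d160e8950140161190), (nat_lit 0)⟩))
 (.l ⟨(nat_lit 0xc0000d), (nat_lit 0x220141e), (nat_lit 0x4f1987e66c050055066595), (nat_lit 0)⟩)))
 (.n (.n (.n (.l ⟨(nat_lit 0xc0000d), (nat_lit 0xd888134d3), (nat_lit 0x13c6913844), (nat_lit 0)⟩)
 (.l ⟨(nat_lit 0xc0000d), (nat_lit 0x140701807007), (nat_lit 0x12b0556d005535d17b01d435d982), (nat_lit 0)⟩))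
 (.l ⟨(nat_lit 0x120000b), (nat_lit 0x14160702007010), (nat_lit 0x692045f02d4365577), (nat_lit 0)⟩))
 (.n (.n (.l ⟨(nat_lit 0xe0000d), (nat_lit 0x653f13017), (nat_lit 0x14d902d416), (nat_lit 0)⟩)
 (.l ⟨(nat_lit 0xc0000d), (nat_lit 0x15064140701e), (nat_lit 0x593081c01c05005655b99b), (nat_lit 0)⟩))
 (.l ⟨(nat_lit 0xc0000d), (nat_lit 0x1b0741a06c11), (nat_lit 0x362c7d12005005505497c), (nat_lit 0)⟩))))
 (.n (.n (.n (.n (.l ⟨(nat_lit 0xc0000b), (nat_lit 0x1a05341430), (nat_lit 0x5c7a20590), (nat_lit 0)⟩)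
 (.l ⟨(nat_lit 0xc0000d), (nat_lit 0x1e0141407012), (nat_lit 0x57644273cd5864966), (nat_lit 0)⟩))
 (.l ⟨(nat_lit 0xc00009), (nat_lit 0x401e07011), (nat_lit 0x1c4a11a06d435254f), (nat_lit 0)⟩))
 (.n (.n (.l ⟨(nat_lit 0x60000d), (nat_lit 0xd57b44024), (nat_lit 0xc8834c81f5c583020030140101007), (nat_lit 0)⟩)
 (.l ⟨(nat_lit 0xc0000d), (nat_lit 0x21014070141f), (nat_lit 0x640dc215dc05005655b99b), (nat_lit 0)⟩))
 (.l ⟨(nat_lit 0xc0000d), (nat_lit 0x840505c03), (nat_lit 0x5a1c10b089515b96c), (nat_lit 0)⟩)))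
 (.n (.n (.n (.l ⟨(nat_lit 0xc0000d), (nat_lit 0x13c2463410), (nat_lit 0xe84f1b53d), (nat_lit 0)⟩)
 (.l ⟨(nat_lit 0xc0000d), (nat_lit 0x1e0702107007), (nat_lit 0x36744044005005525f993), (nat_lit 0)⟩))
 (.l ⟨(nat_lit 0xc0000d), (nat_lit 0x1f06c0f0701d), (nat_lit 0xcd5e1c4fb0140160d59), (nat_lit 0)⟩))
 (.n (.n (.l ⟨(nat_lit 0x120000d), (nat_lit 0x452d2284d), (nat_lit 0x1ac05204bd), (nat_lit 0)⟩)
 (.l ⟨(nat_lit 0xc00013), (nat_lit 0x1f0642207010), (nat_lit 0x151766785c0140156188), (nat_lit 0)⟩))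
 (.l ⟨(nat_lit 0xc0000d), (nat_lit 0x1306c100641e), (nat_lit 0x6655449049545f99e), (nat_lit 0)⟩)))))
 (.n (.n (.n (.n (.n (.l ⟨(nat_lit 0xc0000b), (nat_lit 0x744e3f805), (nat_lit 0xa9361d81c), (nat_lit 0)⟩)
 (.l ⟨(nat_lit 0xc0000d), (nat_lit 0x170640707014), (nat_lit 0x4965c8106005005525d16f), (nat_lit 0)⟩))
 (.n (.l ⟨(nat_lit 0x200007), (nat_lit 0), (nat_lit 0xc0c01401), (nat_lit 0)⟩)
 (.l ⟨(nat_lit 0xc00015), (nat_lit 0x1e0682107016), (nat_lit 0x540fd1a06c05005495e991), (nat_lit 0)⟩)))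
 (.n (.n (.l ⟨(nat_lit 0xc0000d), (nat_lit 0x7c835a53a), (nat_lit 0xe59d1a84b), (nat_lit 0)⟩)
 (.l ⟨(nat_lit 0xa0000d), (nat_lit 0x88160681607007), (nat_lit 0xc0f402c6e0140159976), (nat_lit 0)⟩))
 (.l ⟨(nat_lit 0xc0000d), (nat_lit 0x1e0141507010), (nat_lit 0x5b5693f164050056a5817e), (nat_lit 0)⟩)))
 (.n (.n (.n (.l ⟨(nat_lit 0xc0000d), (nat_lit 0x64d380fc0b), (nat_lit 0x18c951f452), (nat_lit 0)⟩)
 (.l ⟨(nat_lit 0xc0000d), (nat_lit 0x681e06c1707013), (nat_lit 0xc0641ec3b00d4766596), (nat_lit 0)⟩))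
 (.l ⟨(nat_lit 0xa0000b), (nat_lit 0x1d0142207010), (nat_lit 0x5a31069155706658f), (nat_lit 0)⟩))
 (.n (.n (.l ⟨(nat_lit 0x120000b), (nat_lit 0x1901a64009), (nat_lit 0x6255a18423), (nat_lit 0)⟩)
 (.l ⟨(nat_lit 0xa0000f), (nat_lit 0x2006c1407011), (nat_lit 0x12f0715a00c050054761d98), (nat_lit 0)⟩))
 (.l ⟨(nat_lit 0x120000d), (nat_lit 0x702107010), (nat_lit 0x6a5f84c1b54a62161), (nat_lit 0)⟩))))
 (.n (.n (.n (.n (.l ⟨(nat_lit 0xc0000d), (nat_lit 0x3ce24a412), (nat_lit 0x44d554812), (nat_lit 0)⟩)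
 (.l ⟨(nat_lit 0xc0000d), (nat_lit 0x6c160701207007), (nat_lit 0x441592a500010140160169), (nat_lit 0)⟩))
 (.l ⟨(nat_lit 0xa0000b), (nat_lit 0x1b0781901c03), (nat_lit 0x3c4fc40038050054363563), (nat_lit 0)⟩))
 (.n (.n (.l ⟨(nat_lit 0xc0000d), (nat_lit 0x174914345c), (nat_lit 0x195213dc20), (nat_lit 0)⟩)
 (.l ⟨(nat_lit 0xc0000d), (nat_lit 0x706c1407013), (nat_lit 0x580c4c41b405005415b969), (nat_lit 0)⟩))
 (.l ⟨(nat_lit 0xc0000d), (nat_lit 0x14160141e), (nat_lit 0x396385d0a8050054757985), (nat_lit 0)⟩)))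
 (.n (.n (.n (.l ⟨(nat_lit 0xc0000d), (nat_lit 0x53198ff08c01), (nat_lit 0x3ad0805441), (nat_lit 0)⟩)
 (.l ⟨(nat_lit 0xc0000d), (nat_lit 0x1d068120141d), (nat_lit 0x4c3eca2048050054a5fd71), (nat_lit 0)⟩))
 (.l ⟨(nat_lit 0xc0000d), (nat_lit 0x1207014), (nat_lit 0x5f188941894155d8f), (nat_lit 0)⟩))
 (.n (.n (.l ⟨(nat_lit 0x140000b), (nat_lit 0x1490e0a001), (nat_lit 0x4347f63850), (nat_lit 0)⟩)
 (.l ⟨(nat_lit 0xc00013), (nat_lit 0x70140702207007), (nat_lit 0x14c5b388180140161d7d), (nat_lit 0)⟩))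
 (.l ⟨(nat_lit 0xc0000d), (nat_lit 0x681d06c1207013), (nat_lit 0x741c45c426495d), (nat_lit 0)⟩))))))
 (.n (.n (.n (.n (.n (.n (.l ⟨(nat_lit 0xc00007), (nat_lit 0xbcfe5d485), (nat_lit 0x70731e82f), (nat_lit 0)⟩)
 (.l ⟨(nat_lit 0xc0000d), (nat_lit 0x78070641607007), (nat_lit 0x141155a09005005495b58f), (nat_lit 0)⟩))
 (.n (.l ⟨(nat_lit 0x140000d), (nat_lit 0x48fd66476), (nat_lit 0x1ac7362c74), (nat_lit 0)⟩)
 (.l ⟨(nat_lit 0xc00015), (nat_lit 0x1d014110141d), (nat_lit 0x421552f61c050054d6416f), (nat_lit 0)⟩)))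
 (.n (.n (.l ⟨(nat_lit 0xc0000d), (nat_lit 0x1153c62083), (nat_lit 0x4bc604f021), (nat_lit 0)⟩)
 (.l ⟨(nat_lit 0xc0000d), (nat_lit 0x200140f07012), (nat_lit 0x3947d881c4050054c5d151), (nat_lit 0)⟩))
 (.l ⟨(nat_lit 0x140000d), (nat_lit 0x4c1b0440507c07), (nat_lit 0x400698215d6c5518a), (nat_lit 0)⟩)))
 (.n (.n (.n (.l ⟨(nat_lit 0x60000d), (nat_lit 0x18d9e074a1), (nat_lit 0x114771ac16), (nat_lit 0)⟩)
 (.l ⟨(nat_lit 0x60000d), (nat_lit 0x2006c070681e), (nat_lit 0x1b1847c304050055063989), (nat_lit 0)⟩))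
 (.l ⟨(nat_lit 0xc0000b), (nat_lit 0x701807016), (nat_lit 0x7c134fa50d965300800c050040401d4566d96), (nat_lit 0)⟩))
 (.n (.n (.l ⟨(nat_lit 0xe0000d), (nat_lit 0x11c7f63014), (nat_lit 0x180723e43b), (nat_lit 0)⟩)
 (.l ⟨(nat_lit 0x120000f), (nat_lit 0x1306c0f06815), (nat_lit 0x3c3b15706d4b5359e), (nat_lit 0)⟩))
 (.l ⟨(nat_lit 0xc0000d), (nat_lit 0x7c1b0801901c03), (nat_lit 0x3b1845910405005475e54a), (nat_lit 0)⟩))))
 (.n (.n (.n (.n (.l ⟨(nat_lit 0xc0000b), (nat_lit 0x44591e16a), (nat_lit 0x302416c30), (nat_lit 0)⟩)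
 (.l ⟨(nat_lit 0xc0000d), (nat_lit 0x140682207011), (nat_lit 0x1580817c03c05005595956b), (nat_lit 0)⟩))
 (.l ⟨(nat_lit 0xc0000b), (nat_lit 0x70180701207007), (nat_lit 0x12f0d90f0855f59180), (nat_lit 0)⟩))
 (.n (.n (.l ⟨(nat_lit 0xc0000d), (nat_lit 0x13c1e63862), (nat_lit 0x154696285c), (nat_lit 0)⟩)
 (.l ⟨(nat_lit 0xc0000d), (nat_lit 0x16064140681f), (nat_lit 0x1630c5a01405005515d994), (nat_lit 0)⟩))
 (.l ⟨(nat_lit 0xc0000d), (nat_lit 0x501407007), (nat_lit 0x807f111866516b), (nat_lit 0)⟩)))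
 (.n (.n (.n (.l ⟨(nat_lit 0xc0000d), (nat_lit 0x105851b019), (nat_lit 0x60e219519), (nat_lit 0)⟩)
 (.l ⟨(nat_lit 0xc0000d), (nat_lit 0x641f0641007011), (nat_lit 0x221a5682195a5fd6f), (nat_lit 0)⟩))
 (.l ⟨(nat_lit 0xc0000d), (nat_lit 0x6c1306c1f07011), (nat_lit 0x201ed9a1894366981), (nat_lit 0)⟩))
 (.n (.n (.l ⟨(nat_lit 0x120000d), (nat_lit 0xc1290e410), (nat_lit 0x190204ccf4), (nat_lit 0)⟩)
 (.l ⟨(nat_lit 0xc00013), (nat_lit 0x200141306815), (nat_lit 0x204d83402c050054c62d6e), (nat_lit 0)⟩))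
 (.l ⟨(nat_lit 0x120000d), (nat_lit 0x220700707007), (nat_lit 0x7c594b4f35c955), (nat_lit 0)⟩)))))
 (.n (.n (.n (.n (.n (.l ⟨(nat_lit 0xc0000b), (nat_lit 0x245d55906), (nat_lit 0xcd980c0e1), (nat_lit 0)⟩)
 (.l ⟨(nat_lit 0xc0000d), (nat_lit 0x68220681e), (nat_lit 0x1854501048050054964967), (nat_lit 0)⟩))
 (.n (.l ⟨(nat_lit 0xc00007), (nat_lit 0x160701d07011), (nat_lit 0x636002118c050054c5b592), (nat_lit 0)⟩)
 (.l ⟨(nat_lit 0xc00015), (nat_lit 0x1b0801c04c0c), (nat_lit 0x294a1211d805005526397d), (nat_lit 0)⟩)))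
 (.n (.n (.l ⟨(nat_lit 0xc0000d), (nat_lit 0x20c4017449), (nat_lit 0x741c45c42), (nat_lit 0)⟩)
 (.l ⟨(nat_lit 0xc0000d), (nat_lit 0x200702206821), (nat_lit 0x69484243d1436417f), (nat_lit 0)⟩))
 (.l ⟨(nat_lit 0xc0000d), (nat_lit 0x780503c03), (nat_lit 0x1861c1b1f0050055866578), (nat_lit 0)⟩)))
 (.n (.n (.n (.l ⟨(nat_lit 0xc0000d), (nat_lit 0x6d3a2887e), (nat_lit 0x1519913583), (nat_lit 0)⟩)
 (.l ⟨(nat_lit 0xc0000d), (nat_lit 0x1e0641306816), (nat_lit 0x1b9552284b014015599b), (nat_lit 0)⟩))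
 (.l ⟨(nat_lit 0xc0000d), (nat_lit 0x6c1406c1807012), (nat_lit 0x37138610155454986), (nat_lit 0)⟩))
 (.n (.n (.l ⟨(nat_lit 0x120000d), (nat_lit 0x14c5b38818), (nat_lit 0x6f458612254f59983020030140101007), (nat_lit 0)⟩)
 (.l ⟨(nat_lit 0x80000f), (nat_lit 0x1d0642107017), (nat_lit 0x65c684f84f0140164557), (nat_lit 0)⟩))
 (.l ⟨(nat_lit 0x140000d), (nat_lit 0x481507012), (nat_lit 0x221ec2059d515b96c), (nat_lit 0)⟩))))
 (.n (.n (.n (.n (.l ⟨(nat_lit 0xc0000d), (nat_lit 0x74a21bc0e), (nat_lit 0x1408521131), (nat_lit 0)⟩)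
 (.l ⟨(nat_lit 0xc0000d), (nat_lit 0x641106c1807007), (nat_lit 0x7004d24108050054a5916e), (nat_lit 0)⟩))
 (.l ⟨(nat_lit 0xc0000b), (nat_lit 0x200641307010), (nat_lit 0x440d86e4b54c58594), (nat_lit 0)⟩))
 (.n (.n (.l ⟨(nat_lit 0xc0000d), (nat_lit 0x810cc81), (nat_lit 0x124f32143c), (nat_lit 0)⟩)
 (.l ⟨(nat_lit 0xc0000d), (nat_lit 0x3c1b04c1a03c03), (nat_lit 0x4408cc313c050055058198), (nat_lit 0)⟩))
 (.l ⟨(nat_lit 0x140000d), (nat_lit 0x641e07012), (nat_lit 0x35199650054b60d9e), (nat_lit 0)⟩)))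
 (.n (.n (.n (.l ⟨(nat_lit 0xc0000d), (nat_lit 0xcd5e1c4fb), (nat_lit 0x1607a35450), (nat_lit 0)⟩)
 (.l ⟨(nat_lit 0xc0000d), (nat_lit 0x210681807010), (nat_lit 0x4d0d64c170140160d45), (nat_lit 0)⟩))
 (.l ⟨(nat_lit 0xc0000d), (nat_lit 0x1e06415), (nat_lit 0x414546e16d475f19c), (nat_lit 0)⟩))
 (.n (.n (.l ⟨(nat_lit 0x140000d), (nat_lit 0x598174d81c), (nat_lit 0x515e02c1f), (nat_lit 0)⟩)
 (.l ⟨(nat_lit 0xc00013), (nat_lit 0x641d0680f07007), (nat_lit 0x202184c3c405005605919d), (nat_lit 0)⟩))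
 (.l ⟨(nat_lit 0xc0000d), (nat_lit 0x641f07013), (nat_lit 0x5218790a9586319d), (nat_lit 0)⟩)))))))
noncomputable def T26 : Tr :=
  .n (.n (.n (.n (.n (.n (.n (.n (.l ⟨(nat_lit 0x400004), (nat_lit 219418), (nat_lit 0), (nat_lit 0)⟩)
 (.l ⟨(nat_lit 0xc0000d), (nat_lit 0x1806c1307010), (nat_lit 0x661e8b104d8754575), (nat_lit 0)⟩))
 (.n (.l ⟨(nat_lit 0x140000d), (nat_lit 0x8c1e54803), (nat_lit 0x410b1b868), (nat_lit 0)⟩)
 (.l ⟨(nat_lit 0xc00015), (nat_lit 0x2006c1207017), (nat_lit 0x352d0050054356d8e), (nat_lit 0)⟩)))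
 (.n (.n (.l ⟨(nat_lit 0xc0000d), (nat_lit 0x1ad690a55e), (nat_lit 0x4186c2840b), (nat_lit 0)⟩)
 (.l ⟨(nat_lit 0xc0000d), (nat_lit 0x3c1e0701107007), (nat_lit 0x190c47e6314f5d998), (nat_lit 0)⟩))
 (.l ⟨(nat_lit 0xc0000d), (nat_lit 0x180642207007), (nat_lit 0x1b1d9995cd435a99e), (nat_lit 0)⟩)))
 (.n (.n (.n (.l ⟨(nat_lit 0xc0000d), (nat_lit 0x4695f864), (nat_lit 0x1d8114416), (nat_lit 0)⟩)
 (.l ⟨(nat_lit 0xc0000d), (nat_lit 0x7012070220641e), (nat_lit 0x831088109c050054563d6a), (nat_lit 0)⟩))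
 (.l ⟨(nat_lit 0xc0000b), (nat_lit 0x200701f07014), (nat_lit 0x170d35005263549), (nat_lit 0)⟩))
 (.n (.n (.l ⟨(nat_lit 0xe0000b), (nat_lit 0xccf84bc6c), (nat_lit 0x421a0794a54d6515f020030140101007), (nat_lit 0)⟩)
 (.l ⟨(nat_lit 0xc0000d), (nat_lit 0x6c0f06c1207011), (nat_lit 0x4434c5b21c050054a67198), (nat_lit 0)⟩))
 (.l ⟨(nat_lit 0xe0000d), (nat_lit 0x741a0780c), (nat_lit 0x6928d400c94150d93), (nat_lit 0)⟩))))
 (.n (.n (.n (.n (.l ⟨(nat_lit 0xc0000b), (nat_lit 0xa9050ec1e), (nat_lit 0x2d743f854), (nat_lit 0)⟩)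
 (.l ⟨(nat_lit 0x140000d), (nat_lit 0x190740c07007), (nat_lit 0x351c13c1b54f57175), (nat_lit 0)⟩))
 (.l ⟨(nat_lit 0xa00009), (nat_lit 0x682106416), (nat_lit 0x5c2cc1d4a4050054c59952), (nat_lit 0)⟩))
 (.n (.n (.l ⟨(nat_lit 0xc0000d), (nat_lit 0x716e14462), (nat_lit 0x4322450038050055a6019a020030140101007), (nat_lit 0)⟩)
 (.l ⟨(nat_lit 0xc0000d), (nat_lit 0x1e0701207013), (nat_lit 0x421145d08c050055563d98), (nat_lit 0)⟩))
 (.l ⟨(nat_lit 0xe0000d), (nat_lit 0x210681d07007), (nat_lit 0x178d32048066179), (nat_lit 0)⟩)))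
 (.n (.n (.n (.l ⟨(nat_lit 0xc0000d), (nat_lit 0x674ec565b001), (nat_lit 0x423091514001), (nat_lit 0)⟩)
 (.l ⟨(nat_lit 0xc0000d), (nat_lit 0x100701e07007), (nat_lit 0x676408405d4367180), (nat_lit 0)⟩))
 (.l ⟨(nat_lit 0xa0000d), (nat_lit 0x1e068070681e), (nat_lit 0x671e12a084050056660d71), (nat_lit 0)⟩))
 (.n (.n (.l ⟨(nat_lit 0x120000d), (nat_lit 0x1012a220c2), (nat_lit 0x56198760894356591020030140101007), (nat_lit 0)⟩)
 (.l ⟨(nat_lit 0xc00013), (nat_lit 0x2106c1007011), (nat_lit 0x361105a0e405005415bd81), (nat_lit 0)⟩))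
 (.l ⟨(nat_lit 0xc0000d), (nat_lit 0x160641d07011), (nat_lit 0x39941944d014015bd79), (nat_lit 0)⟩)))))
 (.n (.n (.n (.n (.n (.l ⟨(nat_lit 0xc0000b), (nat_lit 0x420810515001), (nat_lit 0x1bc4c1941e), (nat_lit 0)⟩)
 (.l ⟨(nat_lit 0xc0000d), (nat_lit 0x130700707010), (nat_lit 0x894818204d4c5996d), (nat_lit 0)⟩))
 (.n (.l ⟨(nat_lit 0x200003), (nat_lit 12), (nat_lit 0x10140b0140150543), (nat_lit 0)⟩)
 (.l ⟨(nat_lit 0xc00015), (nat_lit 0x681d0681607007), (nat_lit 0x431815e0c805005435e582), (nat_lit 0)⟩)))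
 (.n (.n (.l ⟨(nat_lit 0xc0000d), (nat_lit 0x158bf5b85f), (nat_lit 0xc4a214094), (nat_lit 0)⟩)
 (.l ⟨(nat_lit 0xe0000d), (nat_lit 0xf0702207011), (nat_lit 0x914c741f5415bd9e), (nat_lit 0)⟩))
 (.l ⟨(nat_lit 0x140000d), (nat_lit 0x88160681007007), (nat_lit 0x503e9570d94763577), (nat_lit 0)⟩)))
 (.n (.n (.n (.l ⟨(nat_lit 0xc0000d), (nat_lit 0x89074bc07), (nat_lit 0xa4b821017), (nat_lit 0)⟩)
 (.l ⟨(nat_lit 0x140000d), (nat_lit 0x1e0681006415), (nat_lit 0x68640903f58d96), (nat_lit 0)⟩))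
 (.l ⟨(nat_lit 0xc0000b), (nat_lit 0x481707007), (nat_lit 0x1508a574336516b), (nat_lit 0)⟩))
 (.n (.n (.l ⟨(nat_lit 0x1000010), (nat_lit 364926), (nat_lit 0), (nat_lit 0)⟩)
 (.l ⟨(nat_lit 0xa0000f), (nat_lit 0x150701206415), (nat_lit 0x191d9683cc050054556972), (nat_lit 0)⟩))
 (.l ⟨(nat_lit 0xc0000d), (nat_lit 0x641e0641707013), (nat_lit 0xe17c8206c050054954555), (nat_lit 0)⟩))))
 (.n (.n (.n (.n (.l ⟨(nat_lit 0xc0000d), (nat_lit 0x381766c24), (nat_lit 0xccd51c827), (nat_lit 0)⟩)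
 (.l ⟨(nat_lit 0xc0000d), (nat_lit 0x642106c21), (nat_lit 0x203116e01c05005455f58e), (nat_lit 0)⟩))
 (.l ⟨(nat_lit 0x140000b), (nat_lit 0xf0681e07007), (nat_lit 0x11644521b9475f16d021565b587), (nat_lit 0)⟩))
 (.n (.n (.l ⟨(nat_lit 0xc0000d), (nat_lit 0x6d3418013), (nat_lit 0x660642a1c001), (nat_lit 0)⟩)
 (.l ⟨(nat_lit 0xc0000d), (nat_lit 0x88120701107007), (nat_lit 0x5309d301f405005515cd87), (nat_lit 0)⟩))
 (.l ⟨(nat_lit 0xc0000d), (nat_lit 0x141707007), (nat_lit 0x1783907c6b0140165d87), (nat_lit 0)⟩)))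
 (.n (.n (.n (.l ⟨(nat_lit 0xc0000d), (nat_lit 0x10185168d5), (nat_lit 0x13c8115c71), (nat_lit 0)⟩)
 (.l ⟨(nat_lit 0x60000d), (nat_lit 0x6c160141107007), (nat_lit 0x433506219d4963953), (nat_lit 0)⟩))
 (.l ⟨(nat_lit 0xc0000d), (nat_lit 0x701d06816), (nat_lit 0x685b1f04d6216b), (nat_lit 0)⟩))
 (.n (.n (.l ⟨(nat_lit 0x1400005), (nat_lit 0x139120540b), (nat_lit 0x1415cd67020030140101007), (nat_lit 0)⟩)
 (.l ⟨(nat_lit 0x1400013), (nat_lit 0x301f07010), (nat_lit 0x1d3a228285f985), (nat_lit 0)⟩))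
 (.l ⟨(nat_lit 0xc0000d), (nat_lit 0x106c1106c21), (nat_lit 0x6108116475595d593), (nat_lit 0)⟩))))))
 (.n (.n (.n (.n (.n (.n (.l ⟨(nat_lit 0xa0000b), (nat_lit 0x15d05c03), (nat_lit 0x43c331cc4b), (nat_lit 0)⟩)
 (.l ⟨(nat_lit 0xc0000d), (nat_lit 0x5c1c0680707011), (nat_lit 0x554ac490d805005505f190), (nat_lit 0)⟩))
 (.n (.l ⟨(nat_lit 0x140000d), (nat_lit 0x734f90a), (nat_lit 0x48c451f022), (nat_lit 0)⟩)
 (.l ⟨(nat_lit 0x1200015), (nat_lit 0x641d0681006415), (nat_lit 0x581357e384050054b5615f), (nat_lit 0)⟩)))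
 (.n (.n (.l ⟨(nat_lit 0xc0000d), (nat_lit 0x246a19843), (nat_lit 0x5a88749c40), (nat_lit 0)⟩)
 (.l ⟨(nat_lit 0xc0000d), (nat_lit 0x1e06c1707013), (nat_lit 0x1bc5b11031004050056959d9b), (nat_lit 0)⟩))
 (.l ⟨(nat_lit 0x140000d), (nat_lit 0x1e0141d07013), (nat_lit 0x708a049155c958), (nat_lit 0)⟩)))
 (.n (.n (.n (.l ⟨(nat_lit 0xc0000d), (nat_lit 0x18d1c21d0c), (nat_lit 0x190643100c), (nat_lit 0)⟩)
 (.l ⟨(nat_lit 0xc0000d), (nat_lit 0x1506c1207007), (nat_lit 0xc882224435a17c), (nat_lit 0)⟩))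
 (.l ⟨(nat_lit 0x140000b), (nat_lit 0x681f0141407007), (nat_lit 0x5c5a4fc7f60572), (nat_lit 0)⟩))
 (.n (.n (.l ⟨(nat_lit 0xe0000d), (nat_lit 0x205060a407), (nat_lit 0xbd1554816), (nat_lit 0)⟩)
 (.l ⟨(nat_lit 0x80000f), (nat_lit 0x130141507012), (nat_lit 0x1c05005455cd6b), (nat_lit 0)⟩))
 (.l ⟨(nat_lit 0xc0000d), (nat_lit 0x1d070170141e), (nat_lit 0x4695f8640140156d9c), (nat_lit 0)⟩))))
 (.n (.n (.n (.n (.l ⟨(nat_lit 0xc0000b), (nat_lit 0xc87e07c09), (nat_lit 0x6f2c85d10403), (nat_lit 0)⟩)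
 (.l ⟨(nat_lit 0xc0000d), (nat_lit 0x70140141f), (nat_lit 0x5d4886004b5f96e), (nat_lit 0)⟩))
 (.l ⟨(nat_lit 0x140000b), (nat_lit 23), (nat_lit 0x691218049d50), (nat_lit 0)⟩))
 (.n (.n (.l ⟨(nat_lit 0xc0000d), (nat_lit 0x171171d957), (nat_lit 0x4d0b4a46d), (nat_lit 0)⟩)
 (.l ⟨(nat_lit 0xc0000d), (nat_lit 0x15070200681e), (nat_lit 0x14254500814352592), (nat_lit 0)⟩))
 (.l ⟨(nat_lit 0xc0000d), (nat_lit 0x1e0141d07011), (nat_lit 0x173c405005455ed69), (nat_lit 0)⟩)))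
 (.n (.n (.n (.l ⟨(nat_lit 0xc0000d), (nat_lit 0x1a45757c0c), (nat_lit 0xc97e22185), (nat_lit 0)⟩)
 (.l ⟨(nat_lit 0xe0000d), (nat_lit 0x160641f07007), (nat_lit 0x4a0344dc0c5d979), (nat_lit 0)⟩))
 (.l ⟨(nat_lit 0xc0000d), (nat_lit 0x130681107014), (nat_lit 0x50880686f00405005545e582), (nat_lit 0)⟩))
 (.n (.n (.l ⟨(nat_lit 0x120000d), (nat_lit 0x818710012), (nat_lit 0x1b424074f3), (nat_lit 0)⟩)
 (.l ⟨(nat_lit 0xc00013), (nat_lit 0x6c2001415), (nat_lit 0x10921d0a0140150558), (nat_lit 0)⟩))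
 (.l ⟨(nat_lit 0xc0000d), (nat_lit 0x1b0881907c0b), (nat_lit 0x44531ac4d014015e99a), (nat_lit 0)⟩)))))
 (.n (.n (.n (.n (.n (.l ⟨(nat_lit 0xc0000b), (nat_lit 0x1146406c82), (nat_lit 0x6c884686d), (nat_lit 0)⟩)
 (.l ⟨(nat_lit 0xc0000d), (nat_lit 0x22068140641d), (nat_lit 0x611507a1b9726399d), (nat_lit 0)⟩))
 (.n (.l ⟨(nat_lit 0xa00007), (nat_lit 0x706c1506816), (nat_lit 0x1d090761914151d92), (nat_lit 0)⟩)
 (.l ⟨(nat_lit 0xa00015), (nat_lit 0x68110701d), (nat_lit 0x17564f904005005586017c), (nat_lit 0)⟩)))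
 (.n (.n (.l ⟨(nat_lit 0xc0000d), (nat_lit 0x546b1bd66), (nat_lit 0x5593319807), (nat_lit 0)⟩)
 (.l ⟨(nat_lit 0xc0000d), (nat_lit 0x6c1306c0f07010), (nat_lit 0x5e3fc510515a61d98), (nat_lit 0)⟩))
 (.l ⟨(nat_lit 0xc0000d), (nat_lit 0x601806c1f07007), (nat_lit 0x680508219405005665e17d), (nat_lit 0)⟩)))
 (.n (.n (.n (.l ⟨(nat_lit 0xc0000d), (nat_lit 0x4512245a), (nat_lit 0x5884846b), (nat_lit 0)⟩)
 (.l ⟨(nat_lit 0xc0000d), (nat_lit 0x1806c1806816), (nat_lit 0x17c030d9550140159d7c), (nat_lit 0)⟩))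
 (.l ⟨(nat_lit 0xc0000d), (nat_lit 0x130680701416), (nat_lit 0x531c17f16d476198e), (nat_lit 0)⟩))
 (.n (.n (.l ⟨(nat_lit 0x120000d), (nat_lit 0xd8312c16), (nat_lit 0x2012743c4b), (nat_lit 0)⟩)
 (.l ⟨(nat_lit 0xc0000f), (nat_lit 0x1b04c1b04c0c07007), (nat_lit 0x5766020164050055667959), (nat_lit 0)⟩))
 (.l ⟨(nat_lit 0xc0000d), (nat_lit 0x681f0141f), (nat_lit 0x4f204571c54159993), (nat_lit 0)⟩))))
 (.n (.n (.n (.n (.l ⟨(nat_lit 0xc0000d), (nat_lit 0xfc6817450), (nat_lit 0x1bc754984c), (nat_lit 0)⟩)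
 (.l ⟨(nat_lit 0x140000d), (nat_lit 0x6c0706c1607014), (nat_lit 0x313c9921414b5d552), (nat_lit 0)⟩))
 (.l ⟨(nat_lit 0xc0000b), (nat_lit 0x1f06c1801415), (nat_lit 0x291a05d131435b964), (nat_lit 0)⟩))
 (.n (.n (.l ⟨(nat_lit 0xc0000d), (nat_lit 0x305717c6b), (nat_lit 0x509105c050054a5dd81020030140101007), (nat_lit 0)⟩)
 (.l ⟨(nat_lit 0xc0000d), (nat_lit 0x20070180141e), (nat_lit 0x320f05b468050054b5b178), (nat_lit 0)⟩))
 (.l ⟨(nat_lit 0xc0000d), (nat_lit 0x641f07007), (nat_lit 0x295018d15005005475fd68), (nat_lit 0)⟩)))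
 (.n (.n (.n (.l ⟨(nat_lit 0xc0000d), (nat_lit 0x1ac1348511), (nat_lit 0x61870c581), (nat_lit 0)⟩)
 (.l ⟨(nat_lit 0xc0000d), (nat_lit 0x68150700707011), (nat_lit 0x441798647d4160980), (nat_lit 0)⟩))
 (.l ⟨(nat_lit 0xc0000d), (nat_lit 0x2101416), (nat_lit 0x6b1a508285515d593), (nat_lit 0)⟩))
 (.n (.n (.l ⟨(nat_lit 0x140000d), (nat_lit 0x918765810), (nat_lit 0x130f319c3a), (nat_lit 0)⟩)
 (.l ⟨(nat_lit 0x1200013), (nat_lit 0x701f07011), (nat_lit 0xe51f57c5e5317f5b0020180901c050200a0300c0300901c050200a02c0701408014010200b02d4b6515c), (nat_lit 0)⟩))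
 (.l ⟨(nat_lit 0xc0000d), (nat_lit 0x881507013), (nat_lit 0x430e44b1b1435c182), (nat_lit 0)⟩)))))))
 (.n (.n (.n (.n (.n (.n (.n (.l ⟨(nat_lit 0x600007), (nat_lit 0xf0f928807), (nat_lit 0x3143c411fd555d1640080602407014080280c0300c02407014080280b01c05020050040802c0b), (nat_lit 0)⟩)
 (.l ⟨(nat_lit 0xc0000d), (nat_lit 0x641e06816), (nat_lit 0x2c81e1ad61669870200301401010075c18b), (nat_lit 0)⟩))
 (.n (.l ⟨(nat_lit 0x140000d), (nat_lit 0xed9114d15), (nat_lit 0x148332144d), (nat_lit 0)⟩)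
 (.l ⟨(nat_lit 0x1400015), (nat_lit 0x6c160641207011), (nat_lit 0x30050055267960), (nat_lit 0)⟩)))
 (.n (.n (.l ⟨(nat_lit 0xc0000d), (nat_lit 0x1815b18040), (nat_lit 0x474671a818), (nat_lit 0)⟩)
 (.l ⟨(nat_lit 0xc0000d), (nat_lit 0x160641f01421), (nat_lit 0x69044714a95a6217f), (nat_lit 0)⟩))
 (.l ⟨(nat_lit 0xc0000d), (nat_lit 0x1b0401e07010), (nat_lit 0x6d5e854415555456e), (nat_lit 0)⟩)))
 (.n (.n (.n (.l ⟨(nat_lit 0xc0000d), (nat_lit 0x1b18d8d3c803), (nat_lit 0x5d861e118), (nat_lit 0)⟩)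
 (.l ⟨(nat_lit 0xc0000d), (nat_lit 0x2006c0f07007), (nat_lit 0x11483004610140165d6e), (nat_lit 0)⟩))
 (.l ⟨(nat_lit 0xc0000b), (nat_lit 0x801c0241e07007), (nat_lit 0x211b45f0916161590), (nat_lit 0)⟩))
 (.n (.n (.l ⟨(nat_lit 0xe0000d), (nat_lit 0x645a08024), (nat_lit 0x1b41c6003c), (nat_lit 0)⟩)
 (.l ⟨(nat_lit 0xc0000d), (nat_lit 0x22068100641d), (nat_lit 0x1ad84594625d94b), (nat_lit 0)⟩))
 (.l ⟨(nat_lit 0xc0000d), (nat_lit 0xd06c1e07012), (nat_lit 0x178542201e5f573), (nat_lit 0)⟩))))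
 (.n (.n (.n (.n (.l ⟨(nat_lit 0xc0000b), (nat_lit 0x1941960009), (nat_lit 0x6d1e0758c), (nat_lit 0)⟩)
 (.l ⟨(nat_lit 0x120000d), (nat_lit 0xc130680707011), (nat_lit 0x6b438824856c63d82), (nat_lit 0)⟩))
 (.l ⟨(nat_lit 0xc00009), (nat_lit 0x14160702207007), (nat_lit 0x316356a00d4b6259d), (nat_lit 0)⟩))
 (.n (.n (.l ⟨(nat_lit 0xc0000d), (nat_lit 0xa07215cbd), (nat_lit 0xa5164f839), (nat_lit 0)⟩)
 (.l ⟨(nat_lit 0xc0000d), (nat_lit 0x68210701e07011), (nat_lit 0x2a60d9404005005475fd79), (nat_lit 0)⟩))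
 (.l ⟨(nat_lit 0x140000d), (nat_lit 0x1b0501207007), (nat_lit 0x5a4a9001b95359990), (nat_lit 0)⟩)))
 (.n (.n (.n (.l ⟨(nat_lit 0xc0000d), (nat_lit 0x361d82201403), (nat_lit 0x138912cc5d), (nat_lit 0)⟩)
 (.l ⟨(nat_lit 0xc0000d), (nat_lit 0x6c200641f07011), (nat_lit 0x41420911f80500568), (nat_lit 0)⟩))
 (.l ⟨(nat_lit 0xc0000d), (nat_lit 0x1405003), (nat_lit 0x235ec77030035357b), (nat_lit 0)⟩))
 (.n (.n (.l ⟨(nat_lit 0x120000d), (nat_lit 0xec06433), (nat_lit 0x140942084c), (nat_lit 0)⟩)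
 (.l ⟨(nat_lit 0x600013), (nat_lit 0x6c16068070141d), (nat_lit 0x2754485058050054756152), (nat_lit 0)⟩))
 (.l ⟨(nat_lit 0x140000d), (nat_lit 0x702106c1207007), (nat_lit 0x1870609450d656000800c050040401d4163991), (nat_lit 0)⟩)))))
 (.n (.n (.n (.n (.n (.l ⟨(nat_lit 0xc0000b), (nat_lit 0x89791b03b), (nat_lit 0x64c1c3cc17), (nat_lit 0)⟩)
 (.l ⟨(nat_lit 0xc0000d), (nat_lit 0x641206c1007007), (nat_lit 0x4c2d52c1a56558586), (nat_lit 0)⟩))
 (.n (.l ⟨(nat_lit 0xa00007), (nat_lit 0x190740c), (nat_lit 0x350513201d5858594), (nat_lit 0)⟩)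
 (.l ⟨(nat_lit 0xc00015), (nat_lit 0x4c1b04c1c03c03), (nat_lit 0x282e13919805005435c985), (nat_lit 0)⟩)))
 (.n (.n (.l ⟨(nat_lit 0xc0000d), (nat_lit 0x1750c52828), (nat_lit 0x546d0e419), (nat_lit 0)⟩)
 (.l ⟨(nat_lit 0xa0000d), (nat_lit 0x440f06c0707011), (nat_lit 0x120631c46f0140155d98), (nat_lit 0)⟩))
 (.l ⟨(nat_lit 0xc0000d), (nat_lit 0x64160641406815), (nat_lit 0x3213c16224050055a5a188), (nat_lit 0)⟩)))
 (.n (.n (.n (.l ⟨(nat_lit 0xc0000d), (nat_lit 0x550148111001), (nat_lit 0x109266102a), (nat_lit 0)⟩)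
 (.l ⟨(nat_lit 0x120000d), (nat_lit 0x401b0601607007), (nat_lit 0x4247a0855d6498f), (nat_lit 0)⟩))
 (.l ⟨(nat_lit 0xc0000d), (nat_lit 12), (nat_lit 0xf1064050054c64d92), (nat_lit 0)⟩))
 (.n (.n (.l ⟨(nat_lit 0x120000b), (nat_lit 0x1755115033), (nat_lit 0x1995e0450f), (nat_lit 0)⟩)
 (.l ⟨(nat_lit 0xc0000f), (nat_lit 0x2006c130141d), (nat_lit 0x4c02c1700405005495f16e), (nat_lit 0)⟩))
 (.l ⟨(nat_lit 0xc0000d), (nat_lit 0xf06c1106816), (nat_lit 0x6f6046515c05005456616e), (nat_lit 0)⟩))))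
 (.n (.n (.n (.n (.l ⟨(nat_lit 0xc0000d), (nat_lit 0x4d0d64c17), (nat_lit 0x414841e027), (nat_lit 0)⟩)
 (.l ⟨(nat_lit 0xc0000d), (nat_lit 0x14220681807012), (nat_lit 0x241c4b2048050054563d8d), (nat_lit 0)⟩))
 (.l ⟨(nat_lit 0x120000b), (nat_lit 0x1906c1407010), (nat_lit 0x11d10d81055476419d), (nat_lit 0)⟩))
 (.n (.n (.l ⟨(nat_lit 0xc0000d), (nat_lit 0x5705c4ac22), (nat_lit 0x4c65228ec), (nat_lit 0)⟩)
 (.l ⟨(nat_lit 0xc0000d), (nat_lit 0x70180681007013), (nat_lit 0x454593d040050055758163), (nat_lit 0)⟩))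
 (.l ⟨(nat_lit 0x140000d), (nat_lit 0x700f07010), (nat_lit 0x6a2bc792d9455ed5b), (nat_lit 0)⟩)))
 (.n (.n (.n (.l ⟨(nat_lit 0xc0000d), (nat_lit 0x6c7621c58), (nat_lit 0x15cd267066), (nat_lit 0)⟩)
 (.l ⟨(nat_lit 0xc0000d), (nat_lit 0x1e0681207010), (nat_lit 0xd4715f8d351d59), (nat_lit 0)⟩))
 (.l ⟨(nat_lit 0xc0000d), (nat_lit 0x141e07013), (nat_lit 0x1a99a2111100405005505ed51), (nat_lit 0)⟩))
 (.n (.n (.l ⟨(nat_lit 0x140000b), (nat_lit 0x5d2064c07), (nat_lit 0x74d35605e), (nat_lit 0)⟩)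
 (.l ⟨(nat_lit 0xc00013), (nat_lit 0x1e068110141e), (nat_lit 0x513b04c74004050054367584), (nat_lit 0)⟩))
 (.l ⟨(nat_lit 0x140000d), (nat_lit 0x106c1207007), (nat_lit 0x3f1c4d506d5c5c977), (nat_lit 0)⟩))))))
 (.n (.n (.n (.n (.n (.n (.l ⟨(nat_lit 0xc00009), (nat_lit 0x13c764f45f), (nat_lit 0x1e85f47436), (nat_lit 0)⟩)
 (.l ⟨(nat_lit 0xc0000d), (nat_lit 0x401f01415), (nat_lit 0xe1545b1b9555dd5a), (nat_lit 0)⟩))
 (.n (.l ⟨(nat_lit 0x140000d), (nat_lit 0x1789135813), (nat_lit 0x130355801f), (nat_lit 0)⟩)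
 (.l ⟨(nat_lit 0xc00015), (nat_lit 0x1e0642001415), (nat_lit 0x31e10b158050054365577), (nat_lit 0)⟩)))
 (.n (.n (.l ⟨(nat_lit 0xc0000d), (nat_lit 0xa54063454), (nat_lit 0x89281b43c), (nat_lit 0)⟩)
 (.l ⟨(nat_lit 0xc0000d), (nat_lit 0x130702106815), (nat_lit 0x3443cd31bd4a5f992), (nat_lit 0)⟩))
 (.l ⟨(nat_lit 0xc0000d), (nat_lit 0x6c150641307012), (nat_lit 0x71a13b4894d6459a), (nat_lit 0)⟩)))
 (.n (.n (.n (.l ⟨(nat_lit 0xc0000d), (nat_lit 0x1359865007), (nat_lit 0xc11b3f021), (nat_lit 0)⟩)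
 (.l ⟨(nat_lit 0x120000d), (nat_lit 0x401306c1007011), (nat_lit 0x191081fd0f5a16d), (nat_lit 0)⟩))
 (.l ⟨(nat_lit 0xc0000b), (nat_lit 0x141f0680707007), (nat_lit 0x4341d1f19d7d54555), (nat_lit 0)⟩))
 (.n (.n (.l ⟨(nat_lit 0xe0000d), (nat_lit 0x6a590035f401), (nat_lit 0x3c4e3ac55), (nat_lit 0)⟩)
 (.l ⟨(nat_lit 0xa0000f), (nat_lit 0x160681e07011), (nat_lit 0x352d0050054f5fd92), (nat_lit 0)⟩))
 (.l ⟨(nat_lit 0xc0000d), (nat_lit 0x881806415), (nat_lit 0xc08c6b0794d67972), (nat_lit 0)⟩))))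
 (.n (.n (.n (.n (.l ⟨(nat_lit 0xc0000b), (nat_lit 0x1695710471), (nat_lit 0xd6505f03001), (nat_lit 0)⟩)
 (.l ⟨(nat_lit 0xc0000d), (nat_lit 0x642006420), (nat_lit 0x50631691c0050054c66188), (nat_lit 0)⟩))
 (.l ⟨(nat_lit 0xe0000b), (nat_lit 0x481d0641e), (nat_lit 0x61160c305d496100800c050040401d5059168), (nat_lit 0)⟩))
 (.n (.n (.l ⟨(nat_lit 0xc0000d), (nat_lit 0x1846d56810), (nat_lit 0xe88227c1f), (nat_lit 0)⟩)
 (.l ⟨(nat_lit 0xc0000d), (nat_lit 0x70120700707007), (nat_lit 0x1315f2245e63584), (nat_lit 0)⟩))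
 (.l ⟨(nat_lit 0xa0000d), (nat_lit 0x2c1307007), (nat_lit 0x1685241820014015e94c), (nat_lit 0)⟩)))
 (.n (.n (.n (.l ⟨(nat_lit 0xc0000d), (nat_lit 0xbc891cc30), (nat_lit 0x1ac4d62c2a0140154d775b407), (nat_lit 0)⟩)
 (.l ⟨(nat_lit 0xc0000d), (nat_lit 0x1706c1107011), (nat_lit 0x560e5550c0050055859994), (nat_lit 0)⟩))
 (.l ⟨(nat_lit 0xa0000d), (nat_lit 0x1f06c150641e), (nat_lit 0xa9315cc100140163d8f), (nat_lit 0)⟩))
 (.n (.n (.l ⟨(nat_lit 0x120000f), (nat_lit 0x140824a888), (nat_lit 0x1a1c93130d4959978020030140101007), (nat_lit 0)⟩)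
 (.l ⟨(nat_lit 0xc00013), (nat_lit 0x1706c1207011), (nat_lit 0x514493d01c050055857180), (nat_lit 0)⟩))
 (.l ⟨(nat_lit 0xa0000d), (nat_lit 0x702207011), (nat_lit 0x291a086488010140152d9a), (nat_lit 0)⟩)))))
 (.n (.n (.n (.n (.n (.l ⟨(nat_lit 0xc0000b), (nat_lit 0x1a53419cbf), (nat_lit 0x1907716829), (nat_lit 0)⟩)
 (.l ⟨(nat_lit 0xc0000d), (nat_lit 0x84070700707007), (nat_lit 0x511f16a08d6664566), (nat_lit 0)⟩))
 (.n (.l ⟨(nat_lit 0xc00007), (nat_lit 0x6c0f06c1f07010), (nat_lit 0x4f0181a44d014015fd70), (nat_lit 0)⟩)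
 (.l ⟨(nat_lit 0xc00015), (nat_lit 0x210681307010), (nat_lit 0x1a0f25706b014015855a), (nat_lit 0)⟩)))
 (.n (.n (.l ⟨(nat_lit 0xc0000d), (nat_lit 0x1a02f1c43f), (nat_lit 0x114504b83b), (nat_lit 0)⟩)
 (.l ⟨(nat_lit 0xc0000d), (nat_lit 0x6c1706c1001415), (nat_lit 0x698e20c0955d7e0200301401010076214b), (nat_lit 0)⟩))
 (.l ⟨(nat_lit 0xc0000d), (nat_lit 0x220641306815), (nat_lit 0x6210cfa0d9496299a), (nat_lit 0)⟩)))
 (.n (.n (.n (.l ⟨(nat_lit 0xc0000d), (nat_lit 0x1347464803), (nat_lit 0x5d5a0bc01), (nat_lit 0)⟩)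
 (.l ⟨(nat_lit 0xc0000d), (nat_lit 0x681506c0707011), (nat_lit 0x335005d0315561582), (nat_lit 0)⟩))
 (.l ⟨(nat_lit 0xa0000d), (nat_lit 14354), (nat_lit 0x1d07049014015c179), (nat_lit 0)⟩))
 (.n (.n (.l ⟨(nat_lit 0x120000d), (nat_lit 0xccbc16042), (nat_lit 0x18809164fe), (nat_lit 0)⟩)
 (.l ⟨(nat_lit 0x600011), (nat_lit 0), (nat_lit 0x1144f03c0301401), (nat_lit 0)⟩))
 (.l ⟨(nat_lit 0x120000d), (nat_lit 0x1706c2006c1e), (nat_lit 0x158661d82250d596440800c050040401d565b58f), (nat_lit 0)⟩))))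
 (.n (.n (.n (.n (.l ⟨(nat_lit 0xc0000d), (nat_lit 0x144b163c27), (nat_lit 0x1386e5f401), (nat_lit 0)⟩)
 (.l ⟨(nat_lit 0xc0000d), (nat_lit 0x781c0801307007), (nat_lit 0x684b51918d675fd79), (nat_lit 0)⟩))
 (.l ⟨(nat_lit 0xc0000b), (nat_lit 0x68200682207013), (nat_lit 0x3082151280055a5bd5f), (nat_lit 0)⟩))
 (.n (.n (.l ⟨(nat_lit 0xc0000d), (nat_lit 0x572cc6c03405), (nat_lit 0x294048a2216f62194020030140101007), (nat_lit 0)⟩)
 (.l ⟨(nat_lit 0x120000d), (nat_lit 0x140f06c1f07011), (nat_lit 0x121f1990514f66154), (nat_lit 0)⟩))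
 (.l ⟨(nat_lit 0xa0000d), (nat_lit 0x1b04c1c05c03), (nat_lit 0x2210d29034050056c5e594), (nat_lit 0)⟩)))
 (.n (.n (.n (.l ⟨(nat_lit 0xc0000d), (nat_lit 0xa1521907a), (nat_lit 0xdc4e18405), (nat_lit 0)⟩)
 (.l ⟨(nat_lit 0xc0000d), (nat_lit 0x140706c0f06416), (nat_lit 0x1681264857014015b160), (nat_lit 0)⟩))
 (.l ⟨(nat_lit 0xc0000d), (nat_lit 0x7c1b0741903c03), (nat_lit 0xd5685d0854f58197021645a58f), (nat_lit 0)⟩))
 (.n (.n (.l ⟨(nat_lit 0x140000d), (nat_lit 0x85743d058), (nat_lit 0x1793f214c1), (nat_lit 0)⟩)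
 (.l ⟨(nat_lit 0xc00013), (nat_lit 0x706c1801415), (nat_lit 0x2941c5213c05005525d996), (nat_lit 0)⟩))
 (.l ⟨(nat_lit 0xc0000d), (nat_lit 0x141201415), (nat_lit 0x1590e11c6264d60), (nat_lit 0)⟩)))))))
noncomputable def T27 : Tr :=
  .n (.n (.n (.n (.n (.n (.n (.n (.l ⟨(nat_lit 0x800003), (nat_lit 22), (nat_lit 0), (nat_lit 0)⟩)
 (.l ⟨(nat_lit 0xc0000d), (nat_lit 0x401301415), (nat_lit 0xcc5c5905e00d4d5b586), (nat_lit 0)⟩))
 (.n (.l ⟨(nat_lit 0x140000d), (nat_lit 0x16d000bd24), (nat_lit 0xfc3056827), (nat_lit 0)⟩)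
 (.l ⟨(nat_lit 0x1200013), (nat_lit 0x141507017), (nat_lit 0x53604783895767576), (nat_lit 0)⟩)))
 (.n (.n (.l ⟨(nat_lit 0xc0000d), (nat_lit 0x594fa13017), (nat_lit 0x9d9618807), (nat_lit 0)⟩)
 (.l ⟨(nat_lit 0xc0000d), (nat_lit 0x581706c1307007), (nat_lit 0x305753e110050054c5f54d), (nat_lit 0)⟩))
 (.l ⟨(nat_lit 0xc0000d), (nat_lit 0x7c1307012), (nat_lit 0x6c4580c0594d55194), (nat_lit 0)⟩)))
 (.n (.n (.n (.l ⟨(nat_lit 0xc0000d), (nat_lit 0x18584220fe), (nat_lit 0xc40c5b810), (nat_lit 0)⟩)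
 (.l ⟨(nat_lit 0xc0000d), (nat_lit 0x120641007007), (nat_lit 0x625e44e0614f67194), (nat_lit 0)⟩))
 (.l ⟨(nat_lit 0xe0000b), (nat_lit 0x150142001415), (nat_lit 0x5e4fc7d3e15155582), (nat_lit 0)⟩))
 (.n (.n (.l ⟨(nat_lit 0xe0000e), (nat_lit 0x504093), (nat_lit 0), (nat_lit 0)⟩)
 (.l ⟨(nat_lit 0xc0000d), (nat_lit 0x1e070180141e), (nat_lit 0x322cc5d114050054b6395f), (nat_lit 0)⟩))
 (.l ⟨(nat_lit 0xc0000d), (nat_lit 0x840507c07), (nat_lit 0xec845dd685cd85), (nat_lit 0)⟩))))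
 (.n (.n (.n (.n (.l ⟨(nat_lit 0xc0000b), (nat_lit 0x88434a40d), (nat_lit 0x1653314588), (nat_lit 0)⟩)
 (.l ⟨(nat_lit 0xc0000d), (nat_lit 0x68100641d), (nat_lit 0x6d05c5f65005005416158b), (nat_lit 0)⟩))
 (.n (.l ⟨(nat_lit 0x600007), (nat_lit 0x130141507012), (nat_lit 0x145669650214c61172), (nat_lit 0)⟩)
 (.l ⟨(nat_lit 0xc00015), (nat_lit 0x141e0681107007), (nat_lit 0x661d98a070050054b6398b), (nat_lit 0)⟩)))
 (.n (.n (.l ⟨(nat_lit 0xc0000d), (nat_lit 0x56c502ec15), (nat_lit 0xec0d488), (nat_lit 0)⟩)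
 (.l ⟨(nat_lit 0xc0000d), (nat_lit 0x641e0681707013), (nat_lit 0x5a060471a5415d57e), (nat_lit 0)⟩))
 (.l ⟨(nat_lit 0xc0000d), (nat_lit 0x6c1f0141201415), (nat_lit 0x15c0f1e824005595917a), (nat_lit 0)⟩)))
 (.n (.n (.n (.l ⟨(nat_lit 0xc0000d), (nat_lit 0x1391e19c72), (nat_lit 0x1386556839), (nat_lit 0)⟩)
 (.l ⟨(nat_lit 0xc0000d), (nat_lit 0x681406c0f07012), (nat_lit 0x150321e84058d52), (nat_lit 0)⟩))
 (.l ⟨(nat_lit 0xe0000d), (nat_lit 0x6c1804403), (nat_lit 0x4b01c7e0855851d94008060314352973), (nat_lit 0)⟩))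
 (.n (.n (.l ⟨(nat_lit 0x120000d), (nat_lit 0x2dd1220828), (nat_lit 0x1995b10888), (nat_lit 0)⟩)
 (.l ⟨(nat_lit 0x600013), (nat_lit 0), (nat_lit 0x1746e2d41201401), (nat_lit 0)⟩))
 (.l ⟨(nat_lit 0x80000d), (nat_lit 0x541d07012), (nat_lit 0x58744c8f100405005496596b), (nat_lit 0)⟩)))))
 (.n (.n (.n (.n (.n (.l ⟨(nat_lit 0xc00009), (nat_lit 0x5d4593e40f), (nat_lit 0x10c3317529), (nat_lit 0)⟩)
 (.l ⟨(nat_lit 0x140000d), (nat_lit 0x504c1b04c03), (nat_lit 0x6f1d50955d476214a), (nat_lit 0)⟩))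
 (.n (.l ⟨(nat_lit 0x1400013), (nat_lit 0x1787d1685e), (nat_lit 0x1991611c47), (nat_lit 0)⟩)
 (.l ⟨(nat_lit 0xc00015), (nat_lit 0x141f07011), (nat_lit 0x1c820300c004050054360576), (nat_lit 0)⟩)))
 (.n (.n (.l ⟨(nat_lit 0xc0000d), (nat_lit 0x1583955430), (nat_lit 0x1597862036), (nat_lit 0)⟩)
 (.l ⟨(nat_lit 0xc0000d), (nat_lit 0x220641107014), (nat_lit 0x184071790795260193), (nat_lit 0)⟩))
 (.l ⟨(nat_lit 0xc0000d), (nat_lit 0x881106816), (nat_lit 0x1e5d16d0754959985), (nat_lit 0)⟩)))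
 (.n (.n (.n (.l ⟨(nat_lit 0xc0000d), (nat_lit 0xd54a0c066), (nat_lit 0xe5384f87f), (nat_lit 0)⟩)
 (.l ⟨(nat_lit 0xc0000d), (nat_lit 0x141206c0707007), (nat_lit 0x43634131fc05005606015d), (nat_lit 0)⟩))
 (.l ⟨(nat_lit 0xc0000b), (nat_lit 0x1006c2207013), (nat_lit 0x144505ac68005435c99d), (nat_lit 0)⟩))
 (.n (.n (.l ⟨(nat_lit 0xe0000d), (nat_lit 0xd58f14d76), (nat_lit 0x50545b821), (nat_lit 0)⟩)
 (.l ⟨(nat_lit 0x120000f), (nat_lit 0x120141207011), (nat_lit 0x13218fd0c94164d56), (nat_lit 0)⟩))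
 (.l ⟨(nat_lit 0xc0000d), (nat_lit 0x241d07010), (nat_lit 0x8657433041566319d), (nat_lit 0)⟩))))
 (.n (.n (.n (.n (.l ⟨(nat_lit 0xc0000d), (nat_lit 0x3d8846407), (nat_lit 0x3147584), (nat_lit 0)⟩)
 (.l ⟨(nat_lit 0xc0000d), (nat_lit 0x40210681f), (nat_lit 0x401bd7505d4a59569), (nat_lit 0)⟩))
 (.l ⟨(nat_lit 0xc0000b), (nat_lit 0x200700f0641d), (nat_lit 0x5d1a1222d95c54579), (nat_lit 0)⟩))
 (.n (.n (.l ⟨(nat_lit 0xc0000d), (nat_lit 0x613913450), (nat_lit 0x54513ec80), (nat_lit 0)⟩)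
 (.l ⟨(nat_lit 0xc0000d), (nat_lit 0x70701e01415), (nat_lit 0x1021d8d64c050054b5a178), (nat_lit 0)⟩))
 (.l ⟨(nat_lit 0x140000d), (nat_lit 0x701e0681707010), (nat_lit 0x10108c950494f6394a), (nat_lit 0)⟩)))
 (.n (.n (.n (.l ⟨(nat_lit 0xc0000d), (nat_lit 0x124b81601c), (nat_lit 0x1851d1b50c), (nat_lit 0)⟩)
 (.l ⟨(nat_lit 0x120000d), (nat_lit 0x780504c1c05c03), (nat_lit 0x6103522159435b16d), (nat_lit 0)⟩))
 (.l ⟨(nat_lit 0x60000d), (nat_lit 0x1c0881c04c03), (nat_lit 0x1417863c180054366d9d), (nat_lit 0)⟩))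
 (.n (.n (.l ⟨(nat_lit 0x1200013), (nat_lit 0x1543a45837), (nat_lit 0x189571010e), (nat_lit 0)⟩)
 (.l ⟨(nat_lit 0xc00013), (nat_lit 0x1d06c2107010), (nat_lit 0x4316c600a4050055357990), (nat_lit 0)⟩))
 (.l ⟨(nat_lit 0xc0000d), (nat_lit 0x681107014), (nat_lit 0x1c5b85118805005475ad64), (nat_lit 0)⟩))))))
 (.n (.n (.n (.n (.n (.n (.l ⟨(nat_lit 0xa00009), (nat_lit 0x10140b), (nat_lit 0x1642441a), (nat_lit 0)⟩)
 (.l ⟨(nat_lit 0xc0000d), (nat_lit 0x1006c2107011), (nat_lit 0x555493f10c050055854d98), (nat_lit 0)⟩))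
 (.n (.l ⟨(nat_lit 0x140000d), (nat_lit 0x898f1913a), (nat_lit 0x1870609467194020030140101007), (nat_lit 0)⟩)
 (.l ⟨(nat_lit 0x1400015), (nat_lit 0x681106c0f07011), (nat_lit 0x372e160040050054c63585), (nat_lit 0)⟩)))
 (.n (.n (.l ⟨(nat_lit 0xc0000d), (nat_lit 0xd13415013), (nat_lit 0x1405435470), (nat_lit 0)⟩)
 (.l ⟨(nat_lit 0xc0000d), (nat_lit 0xf06c2207010), (nat_lit 0x4c4ad071ed595759e), (nat_lit 0)⟩))
 (.l ⟨(nat_lit 0xa0000d), (nat_lit 0x1b04c1707010), (nat_lit 0x1801a0a1014015f59b), (nat_lit 0)⟩)))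
 (.n (.n (.n (.l ⟨(nat_lit 0xc0000d), (nat_lit 0x69290d06c), (nat_lit 0xdc684dc17), (nat_lit 0)⟩)
 (.l ⟨(nat_lit 0xc0000d), (nat_lit 0x1106c0707013), (nat_lit 0x1034482480015f17f), (nat_lit 0)⟩))
 (.l ⟨(nat_lit 0x140000b), (nat_lit 0x6c1f06c16), (nat_lit 0x1b036171245f968), (nat_lit 0)⟩))
 (.n (.n (.l ⟨(nat_lit 0xe0000d), (nat_lit 0x8c5446813), (nat_lit 0x12c071f82156147650020180c), (nat_lit 0)⟩)
 (.l ⟨(nat_lit 0xc0000d), (nat_lit 0x881d06c0f07007), (nat_lit 0x5f2506e675535dd97), (nat_lit 0)⟩))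
 (.l ⟨(nat_lit 0xc0000d), (nat_lit 0x341706c1007007), (nat_lit 0x2d6313c186498d), (nat_lit 0)⟩))))
 (.n (.n (.n (.n (.l ⟨(nat_lit 0xc0000b), (nat_lit 0x1986d6044b), (nat_lit 0xfcf315c15), (nat_lit 0)⟩)
 (.l ⟨(nat_lit 0x60000d), (nat_lit 0x14140641d), (nat_lit 0x1cfa41c0755d4a), (nat_lit 0)⟩))
 (.l ⟨(nat_lit 0xe00009), (nat_lit 0x1c0841c05c03), (nat_lit 0x421a0794a5435a977), (nat_lit 0)⟩))
 (.n (.n (.l ⟨(nat_lit 0xc0000d), (nat_lit 0x1b06a1f86c), (nat_lit 0x1ad5248873), (nat_lit 0)⟩)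
 (.l ⟨(nat_lit 0xc0000d), (nat_lit 0x68210641407010), (nat_lit 0x144f46a3ac050054766579), (nat_lit 0)⟩))
 (.l ⟨(nat_lit 0xc0000d), (nat_lit 0x1e0680f07007), (nat_lit 0x4e244b31754b64d5c), (nat_lit 0)⟩)))
 (.n (.n (.n (.l ⟨(nat_lit 0xc0000d), (nat_lit 0x178fd18cd4), (nat_lit 0x6d5704461), (nat_lit 0)⟩)
 (.l ⟨(nat_lit 0xc0000d), (nat_lit 0x70141f07007), (nat_lit 0x1507c5ec4f014015a190), (nat_lit 0)⟩))
 (.l ⟨(nat_lit 0xc0000d), (nat_lit 0xc03003), (nat_lit 0x1b0f13d03c050056560d6e), (nat_lit 0)⟩))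
 (.n (.n (.l ⟨(nat_lit 0x120000d), (nat_lit 0x595e05e1f001), (nat_lit 0x144f218080), (nat_lit 0)⟩)
 (.l ⟨(nat_lit 0xc00013), (nat_lit 0x141f0681107007), (nat_lit 0x808215d7e0140160176), (nat_lit 0)⟩))
 (.l ⟨(nat_lit 0x120000d), (nat_lit 0x1d0701207011), (nat_lit 0xd5a20c85005676040800c050040401d4b5b994), (nat_lit 0)⟩)))))
 (.n (.n (.n (.n (.n (.l ⟨(nat_lit 0xc0000b), (nat_lit 0x1683a15533), (nat_lit 0x457917441), (nat_lit 0)⟩)
 (.l ⟨(nat_lit 0xc0000d), (nat_lit 0x14070141e), (nat_lit 0x43820660050054764549), (nat_lit 0)⟩))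
 (.n (.l ⟨(nat_lit 0xc00007), (nat_lit 0x1306c1807007), (nat_lit 0x693dc841396b64d97), (nat_lit 0)⟩)
 (.l ⟨(nat_lit 0xc00015), (nat_lit 0x1e0642106c21), (nat_lit 0x103ac60104050054a5956b), (nat_lit 0)⟩)))
 (.n (.n (.l ⟨(nat_lit 0xc0000d), (nat_lit 0x1994007479), (nat_lit 0x7d37139235159b5ac07), (nat_lit 0)⟩)
 (.l ⟨(nat_lit 0xc0000d), (nat_lit 0x1e0141107014), (nat_lit 0x45664391dc050054553587), (nat_lit 0)⟩))
 (.l ⟨(nat_lit 0xc0000d), (nat_lit 0x1f0641707014), (nat_lit 0xe4683b0400140154d8c), (nat_lit 0)⟩)))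
 (.n (.n (.n (.l ⟨(nat_lit 0xc0000d), (nat_lit 0x190f75fc13), (nat_lit 0x1b4411880c), (nat_lit 0)⟩)
 (.l ⟨(nat_lit 0xc0000d), (nat_lit 0x22068170641e), (nat_lit 0x142441701401529776040800c050040401d4a63151), (nat_lit 0)⟩))
 (.l ⟨(nat_lit 0xc0000d), (nat_lit 0x160682106c16), (nat_lit 0x141c95734d505e997), (nat_lit 0)⟩))
 (.n (.n (.l ⟨(nat_lit 0x120000d), (nat_lit 0x1c6856c62), (nat_lit 0x519419842), (nat_lit 0)⟩)
 (.l ⟨(nat_lit 0xc0000f), (nat_lit 0x1e0701e01416), (nat_lit 0x398e05c05005476295a), (nat_lit 0)⟩))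
 (.l ⟨(nat_lit 0x140000d), (nat_lit 0x7c0f07011), (nat_lit 0x19995460165054f), (nat_lit 0)⟩))))
 (.n (.n (.n (.n (.l ⟨(nat_lit 0xc0000d), (nat_lit 0xa98a14c23), (nat_lit 0x10d151315c), (nat_lit 0)⟩)
 (.l ⟨(nat_lit 0xc0000d), (nat_lit 0x1e0641507012), (nat_lit 0x18d1e1d00e51d955fc0800c050040401d4b6257e), (nat_lit 0)⟩))
 (.l ⟨(nat_lit 0xc0000b), (nat_lit 0x180701201415), (nat_lit 0x8100494720154d63d92), (nat_lit 0)⟩))
 (.n (.n (.l ⟨(nat_lit 0xc0000d), (nat_lit 0x4e44f01c05), (nat_lit 0x606165576), (nat_lit 0)⟩)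
 (.l ⟨(nat_lit 0xc0000d), (nat_lit 0x681f0641607007), (nat_lit 0x645811c181475918e), (nat_lit 0)⟩))
 (.l ⟨(nat_lit 0xc0000d), (nat_lit 0x106c1307007), (nat_lit 0x4131d12d014016619d), (nat_lit 0)⟩)))
 (.n (.n (.n (.l ⟨(nat_lit 0xc0000d), (nat_lit 0x7c6719829), (nat_lit 0x2195d0cc10), (nat_lit 0)⟩)
 (.l ⟨(nat_lit 0xc0000d), (nat_lit 0x7c0f0680707011), (nat_lit 0x645e0582c8050054767974), (nat_lit 0)⟩))
 (.l ⟨(nat_lit 0xc0000d), (nat_lit 0x1f06c130141f), (nat_lit 0x570693f1e0050055c), (nat_lit 0)⟩))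
 (.n (.n (.l ⟨(nat_lit 0x140000b), (nat_lit 0x10c654ac05), (nat_lit 0x1b83941d89), (nat_lit 0)⟩)
 (.l ⟨(nat_lit 0x1200013), (nat_lit 0x681d0640f07012), (nat_lit 0xaf01c05005435cd5f), (nat_lit 0)⟩))
 (.l ⟨(nat_lit 0xc0000d), (nat_lit 0x601107013), (nat_lit 0x181c5084955959592), (nat_lit 0)⟩)))))))
 (.n (.n (.n (.n (.n (.n (.n (.l ⟨(nat_lit 0x600003), (nat_lit 0x3234854), (nat_lit 0xc50f1047f), (nat_lit 0)⟩)
 (.l ⟨(nat_lit 0x140000d), (nat_lit 0x16068140701e), (nat_lit 0x517816c115e55e), (nat_lit 0)⟩))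
 (.n (.l ⟨(nat_lit 0x140000d), (nat_lit 0xa48041401), (nat_lit 0xc4f264850), (nat_lit 0)⟩)
 (.l ⟨(nat_lit 0xc00015), (nat_lit 0x1a0800501c03), (nat_lit 0x6416004c05005585fd90), (nat_lit 0)⟩)))
 (.n (.n (.l ⟨(nat_lit 0xc0000d), (nat_lit 0xf07a60067), (nat_lit 0x4c854f43a), (nat_lit 0)⟩)
 (.l ⟨(nat_lit 0xc0000d), (nat_lit 0x70141f07010), (nat_lit 0x5c723e8010140164186), (nat_lit 0)⟩))
 (.l ⟨(nat_lit 0xc0000d), (nat_lit 0x160141e), (nat_lit 0x54181191857c66182), (nat_lit 0)⟩)))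
 (.n (.n (.n (.l ⟨(nat_lit 0xc0000d), (nat_lit 0x1381c16c7c), (nat_lit 0xcd2122576), (nat_lit 0)⟩)
 (.l ⟨(nat_lit 0xc0000d), (nat_lit 0x6c1306c1207007), (nat_lit 0x5e6399b168050054f5fd90), (nat_lit 0)⟩))
 (.l ⟨(nat_lit 0xc0000b), (nat_lit 0x1501415), (nat_lit 0x1a2fc6863d615c593), (nat_lit 0)⟩))
 (.n (.n (.l ⟨(nat_lit 0xe0000b), (nat_lit 0x74411581a), (nat_lit 0xbc7f0387c), (nat_lit 0)⟩)
 (.l ⟨(nat_lit 0x120000d), (nat_lit 0x140f06c2107007), (nat_lit 0x4f61445025456797d), (nat_lit 0)⟩))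
 (.l ⟨(nat_lit 0xc0000d), (nat_lit 0x5c050800b), (nat_lit 0x112111d3b0050054f6119a), (nat_lit 0)⟩))))
 (.n (.n (.n (.n (.l ⟨(nat_lit 0xc0000b), (nat_lit 0x1a92d14062), (nat_lit 0x18c7c500ec), (nat_lit 0)⟩)
 (.l ⟨(nat_lit 0xc0000d), (nat_lit 0x141706c1e), (nat_lit 0x5510525164050054954d77), (nat_lit 0)⟩))
 (.l ⟨(nat_lit 0xe00009), (nat_lit 0x1507017), (nat_lit 0x4b01c7e0855266d5a), (nat_lit 0)⟩))
 (.n (.n (.l ⟨(nat_lit 0xc0000d), (nat_lit 0x18d151490a), (nat_lit 0xe8b42100967192020030140101007), (nat_lit 0)⟩)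
 (.l ⟨(nat_lit 0xa0000d), (nat_lit 0x6c1d0140f07007), (nat_lit 0x1570bc6402c050054a6017b), (nat_lit 0)⟩))
 (.l ⟨(nat_lit 0xc0000d), (nat_lit 0x7c1b04c03), (nat_lit 0x496084060d726100800c050040401d415a982), (nat_lit 0)⟩)))
 (.n (.n (.n (.l ⟨(nat_lit 0xc0000d), (nat_lit 0x20c4220427), (nat_lit 0x164074e862), (nat_lit 0)⟩)
 (.l ⟨(nat_lit 0x140000d), (nat_lit 0x20068180141e), (nat_lit 0x51d4d60c0800c050040401d435a58d), (nat_lit 0)⟩))
 (.l ⟨(nat_lit 0xc0000d), (nat_lit 0x70160681107007), (nat_lit 0x184b718d7900c05005726157c), (nat_lit 0)⟩))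
 (.n (.n (.l ⟨(nat_lit 0x120000d), (nat_lit 0xa8574ccc4), (nat_lit 0x84561452c), (nat_lit 0)⟩)
 (.l ⟨(nat_lit 0x1400013), (nat_lit 0x68160702107011), (nat_lit 0x19e204270d54556568), (nat_lit 0)⟩))
 (.l ⟨(nat_lit 0x80000d), (nat_lit 0x601b07812), (nat_lit 0x3c5ac5b214050054c60991), (nat_lit 0)⟩)))))
 (.n (.n (.n (.n (.n (.l ⟨(nat_lit 0xc0000b), (nat_lit 0x510c39), (nat_lit 0x197044d3), (nat_lit 0)⟩)
 (.l ⟨(nat_lit 0xa0000d), (nat_lit 0x1206c1007014), (nat_lit 0x5c46d8016805005525ed7f), (nat_lit 0)⟩))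
 (.n (.l ⟨(nat_lit 0xe00005), (nat_lit 3), (nat_lit 0), (nat_lit 0)⟩)
 (.l ⟨(nat_lit 0xc00015), (nat_lit 0x11070170641d), (nat_lit 0x5305d3601c05005415418b), (nat_lit 0)⟩)))
 (.n (.n (.l ⟨(nat_lit 0xc0000d), (nat_lit 0x13920120c4), (nat_lit 0x1406d1ac37), (nat_lit 0)⟩)
 (.l ⟨(nat_lit 0xc0000d), (nat_lit 0x701306c1007011), (nat_lit 0x1b4bc6010005005456017a), (nat_lit 0)⟩))
 (.l ⟨(nat_lit 0xa0000d), (nat_lit 0x48170701f07007), (nat_lit 0x3940882104050056358197), (nat_lit 0)⟩)))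
 (.n (.n (.n (.l ⟨(nat_lit 0xc0000d), (nat_lit 0xd07b06c03), (nat_lit 0x847864c6c), (nat_lit 0)⟩)
 (.l ⟨(nat_lit 0xc0000d), (nat_lit 0x6c150140f07012), (nat_lit 0xfc5f85a0ed4755950), (nat_lit 0)⟩))
 (.l ⟨(nat_lit 0x140000b), (nat_lit 0x701d0680f07013), (nat_lit 0x6e1ec0e5fd4362d77), (nat_lit 0)⟩))
 (.n (.n (.l ⟨(nat_lit 0x1200012), (nat_lit 0x10c9119d5a), (nat_lit 0), (nat_lit 0)⟩)
 (.l ⟨(nat_lit 0xc0000f), (nat_lit 0x701706c0707012), (nat_lit 0x1862072674050054c5c16a), (nat_lit 0)⟩))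
 (.l ⟨(nat_lit 0xc0000d), (nat_lit 0x7c1306c1007007), (nat_lit 0x6d1ccfd080050054b5fd55), (nat_lit 0)⟩))))
 (.n (.n (.n (.n (.l ⟨(nat_lit 0xc0000d), (nat_lit 0x16412521), (nat_lit 0x1bc674905d), (nat_lit 0)⟩)
 (.l ⟨(nat_lit 0xc0000d), (nat_lit 0xe0701607007), (nat_lit 0x5e0d50b0054b60d9e), (nat_lit 0)⟩))
 (.l ⟨(nat_lit 0xc0000b), (nat_lit 0x22064210140707007), (nat_lit 0x458a1f15964992), (nat_lit 0)⟩))
 (.n (.n (.l ⟨(nat_lit 0xc0000d), (nat_lit 0xc11049c22), (nat_lit 0x13d0d1dc5f), (nat_lit 0)⟩)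
 (.l ⟨(nat_lit 0xc0000d), (nat_lit 0x160641007013), (nat_lit 0x4349c4d64805005415e557), (nat_lit 0)⟩))
 (.l ⟨(nat_lit 0xc0000d), (nat_lit 0x6c070141f), (nat_lit 0x644059c0d14167199), (nat_lit 0)⟩)))
 (.n (.n (.n (.l ⟨(nat_lit 0xc0000d), (nat_lit 0x1783907c6b), (nat_lit 0x1613430882), (nat_lit 0)⟩)
 (.l ⟨(nat_lit 0xc0000d), (nat_lit 0x1806c110701e), (nat_lit 0x184a4721a405005756159b), (nat_lit 0)⟩))
 (.l ⟨(nat_lit 0xc0000d), (nat_lit 0x1d06821), (nat_lit 0x4432042358d82), (nat_lit 0)⟩))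
 (.n (.n (.l ⟨(nat_lit 0x140000b), (nat_lit 186403), (nat_lit 0xc52e4040b), (nat_lit 0)⟩)
 (.l ⟨(nat_lit 0xc00013), (nat_lit 0x210681107012), (nat_lit 0x375f881014050054b5fd54), (nat_lit 0)⟩))
 (.l ⟨(nat_lit 0xc0000d), (nat_lit 0x1d068120701d), (nat_lit 0x604a433015475816b), (nat_lit 0)⟩))))))
 (.n (.n (.n (.n (.n (.n (.l ⟨(nat_lit 0xc00007), (nat_lit 0x1b0bc5d067), (nat_lit 0x8d115b407), (nat_lit 0)⟩)
 (.l ⟨(nat_lit 0x140000d), (nat_lit 0x882206416), (nat_lit 0xe4886d4c9545994d), (nat_lit 0)⟩))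
 (.n (.l ⟨(nat_lit 0x140000d), (nat_lit 0x40eb18041), (nat_lit 0x1f648101a401), (nat_lit 0)⟩)
 (.l ⟨(nat_lit 0xc00015), (nat_lit 0x120680707011), (nat_lit 0x44628301f005005495f965), (nat_lit 0)⟩)))
 (.n (.n (.l ⟨(nat_lit 0xc0000d), (nat_lit 0x1247b6182f), (nat_lit 0x178c21d993), (nat_lit 0)⟩)
 (.l ⟨(nat_lit 0xc0000d), (nat_lit 0x141f0141307007), (nat_lit 0x1b9180fc175ed71), (nat_lit 0)⟩))
 (.l ⟨(nat_lit 0xc0000d), (nat_lit 0x170141d), (nat_lit 0x6f3e414158050054558d8e), (nat_lit 0)⟩)))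
 (.n (.n (.n (.l ⟨(nat_lit 0xc0000d), (nat_lit 0x1808460471), (nat_lit 0x6201e4d847), (nat_lit 0)⟩)
 (.l ⟨(nat_lit 0xc0000d), (nat_lit 0xf0681107007), (nat_lit 0x415458b194050054f66d79), (nat_lit 0)⟩))
 (.l ⟨(nat_lit 0xa0000b), (nat_lit 0x21068140701e), (nat_lit 0x69210d1138050054a5b994), (nat_lit 0)⟩))
 (.n (.n (.l ⟨(nat_lit 0xe0000d), (nat_lit 0xc8911640b), (nat_lit 0x178d320480), (nat_lit 0)⟩)
 (.l ⟨(nat_lit 0xe0000f), (nat_lit 23571), (nat_lit 0xfc5d4f90854970584020180901c050200a0300c0300901c050200a02c0701408014010200b02d4c), (nat_lit 0)⟩))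
 (.l ⟨(nat_lit 0xc0000d), (nat_lit 0x1506c1206c1e), (nat_lit 0x6263c620d1435498d), (nat_lit 0)⟩))))
 (.n (.n (.n (.n (.l ⟨(nat_lit 0xc0000b), (nat_lit 0x4807706431), (nat_lit 0x1942f44401), (nat_lit 0)⟩)
 (.l ⟨(nat_lit 0xc0000d), (nat_lit 0x6c1406c1307011), (nat_lit 0x76784b138050054965d79), (nat_lit 0)⟩))
 (.l ⟨(nat_lit 0x140000b), (nat_lit 0x741c03812), (nat_lit 0x3f1c45c2254164978), (nat_lit 0)⟩))
 (.n (.n (.l ⟨(nat_lit 0xc0000d), (nat_lit 0x699117433), (nat_lit 0x78d55981d), (nat_lit 0)⟩)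
 (.l ⟨(nat_lit 0xc0000d), (nat_lit 0x1706c2207013), (nat_lit 0x396687242c050055159d91), (nat_lit 0)⟩))
 (.l ⟨(nat_lit 0xc0000d), (nat_lit 0x106c1006415), (nat_lit 0x5e1481521405005415fd8d), (nat_lit 0)⟩)))
 (.n (.n (.n (.l ⟨(nat_lit 0xc0000d), (nat_lit 0x4e87f43c20), (nat_lit 0x301907b0ec03), (nat_lit 0)⟩)
 (.l ⟨(nat_lit 0xc0000d), (nat_lit 0x60200681407007), (nat_lit 0x1b4d06004c050055158d9c), (nat_lit 0)⟩))
 (.l ⟨(nat_lit 0xc0000d), (nat_lit 0x170701207013), (nat_lit 0x690646f1819d5800800c050040401d5358d7d), (nat_lit 0)⟩))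
 (.n (.n (.l ⟨(nat_lit 0x120000d), (nat_lit 0x6d1c08108801), (nat_lit 0x84561452c5419a020030140101007), (nat_lit 0)⟩)
 (.l ⟨(nat_lit 0xc00013), (nat_lit 0x1106c1406416), (nat_lit 0xa84d5001f00405005515f99e), (nat_lit 0)⟩))
 (.l ⟨(nat_lit 0xc0000d), (nat_lit 0x1306c1307007), (nat_lit 0xc56165190050054d5459a), (nat_lit 0)⟩)))))
 (.n (.n (.n (.n (.n (.l ⟨(nat_lit 0xc0000b), (nat_lit 0x1a44928434), (nat_lit 0x1f04d3e9436594c020030140101007), (nat_lit 0)⟩)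
 (.l ⟨(nat_lit 0xc0000d), (nat_lit 0x106c0f0141e), (nat_lit 0x204b40715005005525ed99), (nat_lit 0)⟩))
 (.n (.l ⟨(nat_lit 0xc00007), (nat_lit 0x640f06c1f07010), (nat_lit 0x10c47e004050054b5dd81), (nat_lit 0)⟩)
 (.l ⟨(nat_lit 0xa00015), (nat_lit 0x1e0641306816), (nat_lit 0x709113c1a014015a58d), (nat_lit 0)⟩)))
 (.n (.n (.l ⟨(nat_lit 0xc0000d), (nat_lit 0x1c05d19859), (nat_lit 0x181290cc05), (nat_lit 0)⟩)
 (.l ⟨(nat_lit 0xc0000d), (nat_lit 0x110141707011), (nat_lit 0x124b81601c0140153586), (nat_lit 0)⟩))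
 (.l ⟨(nat_lit 0xc0000d), (nat_lit 0x641e0681207014), (nat_lit 0x3462c1d4ed415b593), (nat_lit 0)⟩)))
 (.n (.n (.n (.l ⟨(nat_lit 0xc0000d), (nat_lit 0x58934e029), (nat_lit 0x1844961479), (nat_lit 0)⟩)
 (.l ⟨(nat_lit 0x120000d), (nat_lit 0x702106c1f07012), (nat_lit 0x11469211bd4358d82), (nat_lit 0)⟩))
 (.l ⟨(nat_lit 0xa0000d), (nat_lit 14347), (nat_lit 0x3c59984014050055a58177), (nat_lit 0)⟩))
 (.n (.n (.l ⟨(nat_lit 0x120000d), (nat_lit 0x808215d7e), (nat_lit 0x53416163), (nat_lit 0)⟩)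
 (.l ⟨(nat_lit 0xc0000f), (nat_lit 0x24200681307007), (nat_lit 0x846d4b042014015599e), (nat_lit 0)⟩))
 (.l ⟨(nat_lit 0xc0000d), (nat_lit 0x5c1b0740503c03), (nat_lit 0x713b40851004050054763952), (nat_lit 0)⟩))))
 (.n (.n (.n (.n (.l ⟨(nat_lit 0xc0000d), (nat_lit 0x1107a1d53c), (nat_lit 0x10c634fc1e), (nat_lit 0)⟩)
 (.l ⟨(nat_lit 0xc0000d), (nat_lit 0x701306c1007007), (nat_lit 0x1b6706a139435618d), (nat_lit 0)⟩))
 (.l ⟨(nat_lit 0xa0000b), (nat_lit 0x141d07017), (nat_lit 0x11c1b11c01014015e99d), (nat_lit 0)⟩))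
 (.n (.n (.l ⟨(nat_lit 0xc0000d), (nat_lit 0x1319c0a454), (nat_lit 0x8c5d1901c6017d020030140101007), (nat_lit 0)⟩)
 (.l ⟨(nat_lit 0xc0000d), (nat_lit 0x701006c1407010), (nat_lit 0x1b04465c3355196), (nat_lit 0)⟩))
 (.l ⟨(nat_lit 0xc0000d), (nat_lit 0xf06c1806c20), (nat_lit 0x654ec89464050054161d72), (nat_lit 0)⟩)))
 (.n (.n (.n (.l ⟨(nat_lit 0xc0000d), (nat_lit 0x1bd2309d58), (nat_lit 0x244505f847), (nat_lit 0)⟩)
 (.l ⟨(nat_lit 0xc0000d), (nat_lit 0x210681307010), (nat_lit 0x65484f7081515c97a), (nat_lit 0)⟩))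
 (.l ⟨(nat_lit 0xe0000d), (nat_lit 0x1e0140706c1e), (nat_lit 0x154c41709461195), (nat_lit 0)⟩))
 (.n (.n (.l ⟨(nat_lit 0x140000d), (nat_lit 0x3e42327c07), (nat_lit 0x1496608888), (nat_lit 0)⟩)
 (.l ⟨(nat_lit 0xa00013), (nat_lit 0x1f06c1506c1d), (nat_lit 0x198194f478004050054d54d84), (nat_lit 0)⟩))
 (.l ⟨(nat_lit 0xc0000d), (nat_lit 0x68220681307012), (nat_lit 0x591652f06005005495b984), (nat_lit 0)⟩)))))))
noncomputable def T28 : Tr :=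
  .n (.n (.n (.n (.n (.n (.n (.n (.l ⟨(nat_lit 0x400004), (nat_lit 0x74657e), (nat_lit 0), (nat_lit 0)⟩)
 (.l ⟨(nat_lit 0xc0000d), (nat_lit 0x702201416), (nat_lit 0x314f47e1b405005755d552), (nat_lit 0)⟩))
 (.n (.l ⟨(nat_lit 0x140000d), (nat_lit 0x1404b10c80), (nat_lit 0xc0125802a), (nat_lit 0)⟩)
 (.l ⟨(nat_lit 0x1400015), (nat_lit 0x142101416), (nat_lit 0x131ec1f4c94355564), (nat_lit 0)⟩)))
 (.n (.n (.l ⟨(nat_lit 0xc0000d), (nat_lit 0xe89541c13), (nat_lit 0x1957a5986c), (nat_lit 0)⟩)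
 (.l ⟨(nat_lit 0x120000d), (nat_lit 0x1706c1306815), (nat_lit 0x6010cfa1cd475a593), (nat_lit 0)⟩))
 (.l ⟨(nat_lit 0xc0000d), (nat_lit 0x1f0681507007), (nat_lit 0x631710a5915054998), (nat_lit 0)⟩)))
 (.n (.n (.n (.l ⟨(nat_lit 0xc0000d), (nat_lit 0x1380748075), (nat_lit 0x2062c0367001), (nat_lit 0)⟩)
 (.l ⟨(nat_lit 0xc0000d), (nat_lit 0x1d0140f07007), (nat_lit 0x7518ce206c050054d55188), (nat_lit 0)⟩))
 (.l ⟨(nat_lit 0xc0000b), (nat_lit 0x21068140641d), (nat_lit 0x70a07a15d5261d89), (nat_lit 0)⟩))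
 (.n (.n (.l ⟨(nat_lit 0xe0000b), (nat_lit 0xeb24c13), (nat_lit 0x1593c5d84150d9160407), (nat_lit 0)⟩)
 (.l ⟨(nat_lit 0xc0000d), (nat_lit 0x1106c130141d), (nat_lit 0x484cc8211d7d6080800c050040401d5a5497a), (nat_lit 0)⟩))
 (.l ⟨(nat_lit 0xc0000d), (nat_lit 0x702006c1207007), (nat_lit 0x433cc6b5294a58d6f), (nat_lit 0)⟩))))
 (.n (.n (.n (.n (.l ⟨(nat_lit 0xc0000b), (nat_lit 0xf16661005), (nat_lit 0xf0fc1c), (nat_lit 0)⟩)
 (.l ⟨(nat_lit 0xc0000d), (nat_lit 0x16064070701e), (nat_lit 0x1384446c4158d96), (nat_lit 0)⟩))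
 (.l ⟨(nat_lit 0xc00009), (nat_lit 0x1b04c1307007), (nat_lit 0x65114bd4360d8d), (nat_lit 0)⟩))
 (.n (.n (.l ⟨(nat_lit 0xc0000d), (nat_lit 0x518d1007c), (nat_lit 0x10cf31ad4a), (nat_lit 0)⟩)
 (.l ⟨(nat_lit 0xc0000d), (nat_lit 0x641d0141707007), (nat_lit 0x1653e84c05c050054761999), (nat_lit 0)⟩))
 (.l ⟨(nat_lit 0xc0000d), (nat_lit 0x6c2006821), (nat_lit 0x149321c45b5b15a01d4553582), (nat_lit 0)⟩)))
 (.n (.n (.n (.l ⟨(nat_lit 0xc0000d), (nat_lit 0x4b1d92214c01), (nat_lit 0x16c8324c0f), (nat_lit 0)⟩)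
 (.l ⟨(nat_lit 0x120000d), (nat_lit 0x141f0681407007), (nat_lit 0xa86b4f9255e945), (nat_lit 0)⟩))
 (.l ⟨(nat_lit 0xc0000d), (nat_lit 0x6c1e0640f07007), (nat_lit 0x5a2d533074050054b5614b), (nat_lit 0)⟩))
 (.n (.n (.l ⟨(nat_lit 0x120000d), (nat_lit 0x3c835000b), (nat_lit 0x686b5ac03), (nat_lit 0)⟩)
 (.l ⟨(nat_lit 0xe00013), (nat_lit 0x1c05813), (nat_lit 0xf16d561e405005665b17d), (nat_lit 0)⟩))
 (.l ⟨(nat_lit 0xc0000d), (nat_lit 0x141f0141307014), (nat_lit 0x57675071fd5561d63), (nat_lit 0)⟩)))))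
 (.n (.n (.n (.n (.n (.l ⟨(nat_lit 0xc0000b), (nat_lit 0x1024407), (nat_lit 0x1903a14c34), (nat_lit 0)⟩)
 (.l ⟨(nat_lit 0x140000d), (nat_lit 0x70142207007), (nat_lit 0x1787e5791664580), (nat_lit 0)⟩))
 (.n (.l ⟨(nat_lit 0x800003), (nat_lit 22), (nat_lit 0), (nat_lit 0)⟩)
 (.l ⟨(nat_lit 0xa00015), (nat_lit 0x88120640f07010), (nat_lit 0x175dd3505c05005505b958), (nat_lit 0)⟩)))
 (.n (.n (.l ⟨(nat_lit 0xc0000d), (nat_lit 0xec286146e), (nat_lit 0x19d9021017), (nat_lit 0)⟩)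
 (.l ⟨(nat_lit 0xc0000d), (nat_lit 0x441f0702207007), (nat_lit 0x801b0a10a805005515599d), (nat_lit 0)⟩))
 (.l ⟨(nat_lit 0xc0000d), (nat_lit 0x142106c0f07007), (nat_lit 0x602ed371594f63971), (nat_lit 0)⟩)))
 (.n (.n (.n (.l ⟨(nat_lit 0xc0000d), (nat_lit 0x4c670dc59), (nat_lit 0x2106963c3a), (nat_lit 0)⟩)
 (.l ⟨(nat_lit 0xc0000d), (nat_lit 0x140682107014), (nat_lit 0x1086d48480004050055a5c99b), (nat_lit 0)⟩))
 (.l ⟨(nat_lit 0xc0000b), (nat_lit 0x106c1e07010), (nat_lit 0x530809f075505f55e), (nat_lit 0)⟩))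
 (.n (.n (.l ⟨(nat_lit 0x1000007), (nat_lit 0x1659307d5e), (nat_lit 0x1606218a020030140101007), (nat_lit 0)⟩)
 (.l ⟨(nat_lit 0xc0000f), (nat_lit 0x64220681007013), (nat_lit 0xe1b5363e8050054b63147), (nat_lit 0)⟩))
 (.l ⟨(nat_lit 0xe0000d), (nat_lit 0x40200140707011), (nat_lit 0x181f5581395167161), (nat_lit 0)⟩))))
 (.n (.n (.n (.n (.l ⟨(nat_lit 0xc0000d), (nat_lit 0xdd5766c24), (nat_lit 0x1ac69420a1), (nat_lit 0)⟩)
 (.l ⟨(nat_lit 0xc0000d), (nat_lit 0x106c170641d), (nat_lit 0x6cb8458880140166d49), (nat_lit 0)⟩))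
 (.l ⟨(nat_lit 0xc0000b), (nat_lit 12308), (nat_lit 0x390807e09d4967549), (nat_lit 0)⟩))
 (.n (.n (.l ⟨(nat_lit 0x80000d), (nat_lit 0xd8bf6305b), (nat_lit 0x1f45d5b15801), (nat_lit 0)⟩)
 (.l ⟨(nat_lit 0xc0000d), (nat_lit 0x2006c1f0681f), (nat_lit 0xd18b0753b50d9e5640800c050040401d555b577), (nat_lit 0)⟩))
 (.l ⟨(nat_lit 0xc0000d), (nat_lit 0x24200641d), (nat_lit 0x224a06d0f1495d16c), (nat_lit 0)⟩)))
 (.n (.n (.n (.l ⟨(nat_lit 0xc0000d), (nat_lit 0x165263f037), (nat_lit 0x1858717d76), (nat_lit 0)⟩)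
 (.l ⟨(nat_lit 0xc0000d), (nat_lit 0x14140640707007), (nat_lit 0x5e4093a1b4070140164182), (nat_lit 0)⟩))
 (.l ⟨(nat_lit 0xc0000d), (nat_lit 0x381d0680f07007), (nat_lit 0x4e11c560e805005435f191), (nat_lit 0)⟩))
 (.n (.n (.l ⟨(nat_lit 0x1400007), (nat_lit 0x846422916), (nat_lit 0x4e6382f40401), (nat_lit 0)⟩)
 (.l ⟨(nat_lit 0xc00013), (nat_lit 0x220140f0141f), (nat_lit 0x1351b42a134050054d62571), (nat_lit 0)⟩))
 (.l ⟨(nat_lit 0xa0000d), (nat_lit 0x160641507013), (nat_lit 0x9d3b494580140164570), (nat_lit 0)⟩))))))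
 (.n (.n (.n (.n (.n (.n (.l ⟨(nat_lit 0xa0000b), (nat_lit 0x1a4843444e), (nat_lit 0x7872604fd), (nat_lit 0)⟩)
 (.l ⟨(nat_lit 0xe0000d), (nat_lit 0x1f06c1706415), (nat_lit 0x5e478821896c5700800c050040401d4f64d9c), (nat_lit 0)⟩))
 (.n (.l ⟨(nat_lit 0x140000d), (nat_lit 0x104b84fc61), (nat_lit 0xd9811d029), (nat_lit 0)⟩)
 (.l ⟨(nat_lit 0xc00015), (nat_lit 0x30141407010), (nat_lit 0x6121158148050055166992), (nat_lit 0)⟩)))
 (.n (.n (.l ⟨(nat_lit 0xc0000d), (nat_lit 0x13d1d5a854), (nat_lit 0xc88222443), (nat_lit 0)⟩)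
 (.l ⟨(nat_lit 0xa0000d), (nat_lit 0x220681307014), (nat_lit 0x4d19d78138050055a6755b), (nat_lit 0)⟩))
 (.l ⟨(nat_lit 0x140000d), (nat_lit 0x120641d), (nat_lit 0xd1e180025415f58b), (nat_lit 0)⟩)))
 (.n (.n (.n (.l ⟨(nat_lit 0xc0000d), (nat_lit 0x432215911c03), (nat_lit 0x1919b6242a), (nat_lit 0)⟩)
 (.l ⟨(nat_lit 0xc0000d), (nat_lit 0x6c200641307012), (nat_lit 0x211b996229475819a), (nat_lit 0)⟩))
 (.l ⟨(nat_lit 0xc0000b), (nat_lit 0x180681007011), (nat_lit 0x1a2c4741ad4b65d6d), (nat_lit 0)⟩))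
 (.n (.n (.l ⟨(nat_lit 0xe0000d), (nat_lit 0x4c214e058), (nat_lit 0x1250722530), (nat_lit 0)⟩)
 (.l ⟨(nat_lit 0xa0000f), (nat_lit 0x1206c0707011), (nat_lit 0xf81c9600dc050054f54995), (nat_lit 0)⟩))
 (.l ⟨(nat_lit 0xc0000d), (nat_lit 0x6c1e070220641d), (nat_lit 0x5b5003a151435c578), (nat_lit 0)⟩))))
 (.n (.n (.n (.n (.l ⟨(nat_lit 0xc0000b), (nat_lit 0x160584fc6c), (nat_lit 0x1402a17835), (nat_lit 0)⟩)
 (.l ⟨(nat_lit 0x140000d), (nat_lit 0x7c1b05c1907c0b), (nat_lit 0x36604740a5435258a), (nat_lit 0)⟩))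
 (.l ⟨(nat_lit 0xc0000b), (nat_lit 0x141e07007), (nat_lit 0x6d470650dd4f57175), (nat_lit 0)⟩))
 (.n (.n (.l ⟨(nat_lit 0xc0000d), (nat_lit 0xdcf257c82), (nat_lit 0x191604706063595020030140101007), (nat_lit 0)⟩)
 (.l ⟨(nat_lit 0xc0000d), (nat_lit 0x1e064150641e), (nat_lit 0xdcb318c4f014015b958), (nat_lit 0)⟩))
 (.l ⟨(nat_lit 0xc0000d), (nat_lit 0x1306c1807011), (nat_lit 0x547c830c1735495801d4365592), (nat_lit 0)⟩)))
 (.n (.n (.n (.l ⟨(nat_lit 0xc0000d), (nat_lit 0x1418c5a470), (nat_lit 0x1bc425b418), (nat_lit 0)⟩)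
 (.l ⟨(nat_lit 0xc0000d), (nat_lit 0x781c04c1b07807), (nat_lit 0x4555c730a9416699b), (nat_lit 0)⟩))
 (.l ⟨(nat_lit 0xc0000d), (nat_lit 0x1c0641d), (nat_lit 0x6c4f93107d515e965), (nat_lit 0)⟩))
 (.n (.n (.l ⟨(nat_lit 0x120000d), (nat_lit 0x1086338842), (nat_lit 0xd49f1855f63d41020030140101007), (nat_lit 0)⟩)
 (.l ⟨(nat_lit 0xe00013), (nat_lit 0x170641e), (nat_lit 0x3322939050050054f63d5f), (nat_lit 0)⟩))
 (.l ⟨(nat_lit 0xc0000d), (nat_lit 0x140681707010), (nat_lit 0x4018cf70854f5c565), (nat_lit 0)⟩)))))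
 (.n (.n (.n (.n (.n (.l ⟨(nat_lit 0xc0000b), (nat_lit 0x58790e812), (nat_lit 0xfc630bd17), (nat_lit 0)⟩)
 (.l ⟨(nat_lit 0xc0000d), (nat_lit 0x64100681d), (nat_lit 0x1e4f45816d475fd8f), (nat_lit 0)⟩))
 (.n (.l ⟨(nat_lit 0xc00007), (nat_lit 0x441b0580b), (nat_lit 0x1ec530fc3253175), (nat_lit 0)⟩)
 (.l ⟨(nat_lit 0xc00015), (nat_lit 0x160682106c16), (nat_lit 0x7ceb1c832014016596b), (nat_lit 0)⟩)))
 (.n (.n (.l ⟨(nat_lit 0xc0000d), (nat_lit 0x655f1f0bb), (nat_lit 0x11c5e2e03c), (nat_lit 0)⟩)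
 (.l ⟨(nat_lit 0xc0000d), (nat_lit 0x1e06c170141e), (nat_lit 0x2125d9719d595b59b), (nat_lit 0)⟩))
 (.l ⟨(nat_lit 0xc0000d), (nat_lit 0x64160701d), (nat_lit 0x1e664731640500559), (nat_lit 0)⟩)))
 (.n (.n (.n (.l ⟨(nat_lit 0xc0000d), (nat_lit 0xd43317434), (nat_lit 0x30f413c58), (nat_lit 0)⟩)
 (.l ⟨(nat_lit 0xc0000d), (nat_lit 0x210641f01415), (nat_lit 0x745062c1859582), (nat_lit 0)⟩))
 (.l ⟨(nat_lit 0xa0000d), (nat_lit 0x1306c1806815), (nat_lit 0xe1b472544050058b), (nat_lit 0)⟩))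
 (.n (.n (.l ⟨(nat_lit 0x120000d), (nat_lit 0x1605d5f429), (nat_lit 0x1847860403), (nat_lit 0)⟩)
 (.l ⟨(nat_lit 0xc0000f), (nat_lit 0x1c0601b07c1b04c03), (nat_lit 0x1695d0dc77004050055d66989), (nat_lit 0)⟩))
 (.l ⟨(nat_lit 0x120000d), (nat_lit 0x681107012), (nat_lit 0x2012743c4b5a16d), (nat_lit 0)⟩))))
 (.n (.n (.n (.n (.l ⟨(nat_lit 0xc0000d), (nat_lit 0x214246240c), (nat_lit 0xe8b421009), (nat_lit 0)⟩)
 (.l ⟨(nat_lit 0xc0000d), (nat_lit 0x210680707007), (nat_lit 0x1247b6182f014016397f), (nat_lit 0)⟩))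
 (.l ⟨(nat_lit 0xc0000b), (nat_lit 0x1b05c1c04c03), (nat_lit 0xe42f63c2a67591), (nat_lit 0)⟩))
 (.n (.n (.l ⟨(nat_lit 0xc0000d), (nat_lit 0x14d104fc12), (nat_lit 0x1307d5d080), (nat_lit 0)⟩)
 (.l ⟨(nat_lit 0xc0000d), (nat_lit 0x180701106815), (nat_lit 0x631f0a105c050056361152), (nat_lit 0)⟩))
 (.l ⟨(nat_lit 0xe0000d), (nat_lit 0x680f06c1007014), (nat_lit 0x5e1591515a5719e02003014010100750566), (nat_lit 0)⟩)))
 (.n (.n (.n (.l ⟨(nat_lit 0xc0000d), (nat_lit 0x660755d441), (nat_lit 0x6101c5e41e), (nat_lit 0)⟩)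
 (.l ⟨(nat_lit 0xc0000d), (nat_lit 0xf06c1f01421), (nat_lit 0xc6427c55014015f154), (nat_lit 0)⟩))
 (.l ⟨(nat_lit 0x60000d), (nat_lit 0x681506821), (nat_lit 0x31478720dc05005496454b), (nat_lit 0)⟩))
 (.n (.n (.l ⟨(nat_lit 0x140000d), (nat_lit 0xc96914c09), (nat_lit 0xd4704f06d), (nat_lit 0)⟩)
 (.l ⟨(nat_lit 0xc00013), (nat_lit 0x706c0f06416), (nat_lit 0x302084c0dc05005515d164), (nat_lit 0)⟩))
 (.l ⟨(nat_lit 0x120000d), (nat_lit 0x1c04c1b03c03), (nat_lit 0x1bd161848953d6660c0800c050040401d506358a), (nat_lit 0)⟩)))))))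
 (.n (.n (.n (.n (.n (.n (.n (.l ⟨(nat_lit 0x800008), (nat_lit 9627), (nat_lit 0), (nat_lit 0)⟩)
 (.l ⟨(nat_lit 0xc0000d), (nat_lit 0x1406c1507007), (nat_lit 0x194700b1b94967184), (nat_lit 0)⟩))
 (.n (.l ⟨(nat_lit 0x140000d), (nat_lit 0x718412c3c), (nat_lit 0xc86f16817), (nat_lit 0)⟩)
 (.l ⟨(nat_lit 0xa00015), (nat_lit 24594), (nat_lit 0xb608c050055a55d4b), (nat_lit 0)⟩)))
 (.n (.n (.l ⟨(nat_lit 0xc0000d), (nat_lit 0x17c1c63c10), (nat_lit 0x607142125), (nat_lit 0)⟩)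
 (.l ⟨(nat_lit 0xc0000d), (nat_lit 0x2206c1f07011), (nat_lit 0x16a21d271014f66579), (nat_lit 0)⟩))
 (.l ⟨(nat_lit 0xc0000d), (nat_lit 0x220681e), (nat_lit 0xf0c8620d1416794b), (nat_lit 0)⟩)))
 (.n (.n (.n (.l ⟨(nat_lit 0xc0000d), (nat_lit 0x1354920c14), (nat_lit 0x607c1bc51), (nat_lit 0)⟩)
 (.l ⟨(nat_lit 0xc0000d), (nat_lit 0x16070200641d), (nat_lit 0x35218fd150050054359186), (nat_lit 0)⟩))
 (.l ⟨(nat_lit 0xc0000b), (nat_lit 0x641706c150641e), (nat_lit 0xb11a0fe0316659d69), (nat_lit 0)⟩))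
 (.n (.n (.l ⟨(nat_lit 0xe0000d), (nat_lit 0x503615001), (nat_lit 0x17856454), (nat_lit 0)⟩)
 (.l ⟨(nat_lit 0xc0000d), (nat_lit 0x68200682007007), (nat_lit 0x12468b3150050054a59573), (nat_lit 0)⟩))
 (.l ⟨(nat_lit 0xe0000d), (nat_lit 0x1c1b0780b), (nat_lit 0x211acf4071455b552), (nat_lit 0)⟩))))
 (.n (.n (.n (.n (.l ⟨(nat_lit 0xc0000b), (nat_lit 0x5d8b04863), (nat_lit 0x2c4683f80c), (nat_lit 0)⟩)
 (.l ⟨(nat_lit 0xc0000d), (nat_lit 0x106c1106415), (nat_lit 0x581f40f4d0050054365d45), (nat_lit 0)⟩))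
 (.l ⟨(nat_lit 0xc00009), (nat_lit 0x17070200641d), (nat_lit 0x1f04d3e95163181), (nat_lit 0)⟩))
 (.n (.n (.l ⟨(nat_lit 0xc0000d), (nat_lit 0x1a4bb1f80c), (nat_lit 0x1905038423), (nat_lit 0)⟩)
 (.l ⟨(nat_lit 0xc0000d), (nat_lit 0x200641e01416), (nat_lit 0x10978189880054d5297c), (nat_lit 0)⟩))
 (.l ⟨(nat_lit 0x60000d), (nat_lit 0x401d07007), (nat_lit 0x895548a0d9555c977), (nat_lit 0)⟩)))
 (.n (.n (.n (.l ⟨(nat_lit 0xc0000d), (nat_lit 0x1bd3b55820), (nat_lit 0x104ff17031), (nat_lit 0)⟩)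
 (.l ⟨(nat_lit 0xe0000d), (nat_lit 0x6c150701e07010), (nat_lit 0x342297c0d94a59192), (nat_lit 0)⟩))
 (.l ⟨(nat_lit 0xc0000d), (nat_lit 0x1106c1401416), (nat_lit 0x124584e49805005435e559), (nat_lit 0)⟩))
 (.n (.n (.l ⟨(nat_lit 0x120000d), (nat_lit 0x2815c7415003), (nat_lit 0xd8845e95f), (nat_lit 0)⟩)
 (.l ⟨(nat_lit 0xc00013), (nat_lit 0xf06c2106816), (nat_lit 0x4218ce2108050054157590), (nat_lit 0)⟩))
 (.l ⟨(nat_lit 0xc0000d), (nat_lit 0x141e0641f07010), (nat_lit 0x5b5a1630dc050055656950), (nat_lit 0)⟩)))))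
 (.n (.n (.n (.n (.n (.l ⟨(nat_lit 0xc0000b), (nat_lit 0x60543dc54), (nat_lit 0x2857a14c36), (nat_lit 0)⟩)
 (.l ⟨(nat_lit 0xc0000d), (nat_lit 0x220681f07007), (nat_lit 0x6b3899218c010140154958), (nat_lit 0)⟩))
 (.n (.l ⟨(nat_lit 0x600007), (nat_lit 0x220641507007), (nat_lit 0x4f4c403c05005435cd4b), (nat_lit 0)⟩)
 (.l ⟨(nat_lit 0xc00015), (nat_lit 0x180641707011), (nat_lit 0x4b1a99209c05005415b987), (nat_lit 0)⟩)))
 (.n (.n (.l ⟨(nat_lit 0xc0000d), (nat_lit 0x17c030d955), (nat_lit 0x189921d12d), (nat_lit 0)⟩)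
 (.l ⟨(nat_lit 0xc0000d), (nat_lit 0x1d06c1007011), (nat_lit 0x12c7648853004050054159d7e), (nat_lit 0)⟩))
 (.l ⟨(nat_lit 0xe0000d), (nat_lit 0x880f07013), (nat_lit 0x53640b50595e65151), (nat_lit 0)⟩)))
 (.n (.n (.n (.l ⟨(nat_lit 0xc0000d), (nat_lit 0x1793a2145e), (nat_lit 0x1905a63d57), (nat_lit 0)⟩)
 (.l ⟨(nat_lit 0x120000d), (nat_lit 0x110641307007), (nat_lit 0x1644318d4c609880200301401010075e188), (nat_lit 0)⟩))
 (.l ⟨(nat_lit 0xc0000d), (nat_lit 17), (nat_lit 0xdd774180750550), (nat_lit 0)⟩))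
 (.n (.n (.l ⟨(nat_lit 0x120000b), (nat_lit 0x16c8565c3f), (nat_lit 0x1a48117c0b), (nat_lit 0)⟩)
 (.l ⟨(nat_lit 0x120000f), (nat_lit 0x41b05c1c04c03), (nat_lit 0x1601d99d0dd4a6797b), (nat_lit 0)⟩))
 (.l ⟨(nat_lit 0xc0000d), (nat_lit 0x780e0641007007), (nat_lit 0x6603c6a4815059545), (nat_lit 0)⟩))))
 (.n (.n (.n (.n (.l ⟨(nat_lit 0xc0000d), (nat_lit 0x807f4e489), (nat_lit 0x188825e031), (nat_lit 0)⟩)
 (.l ⟨(nat_lit 0xc0000d), (nat_lit 0x505c1c04c03), (nat_lit 0x4d50022570050054c62d80), (nat_lit 0)⟩))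
 (.l ⟨(nat_lit 0xc0000b), (nat_lit 0x20070180141e), (nat_lit 0x30942118d0054d5d58e), (nat_lit 0)⟩))
 (.n (.n (.l ⟨(nat_lit 0xc0000d), (nat_lit 0x16c124381c), (nat_lit 0x4e11c560e805005495657f020030140101007), (nat_lit 0)⟩)
 (.l ⟨(nat_lit 0xc0000d), (nat_lit 0x2206c1006415), (nat_lit 0x3916578469455cd5e), (nat_lit 0)⟩))
 (.l ⟨(nat_lit 0x120000d), (nat_lit 0x701f06c1e), (nat_lit 0x5d1d0fe045535815a), (nat_lit 0)⟩)))
 (.n (.n (.n (.l ⟨(nat_lit 0xc0000d), (nat_lit 0x4f50a19c42), (nat_lit 0x198b61a007), (nat_lit 0)⟩)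
 (.l ⟨(nat_lit 0xa0000d), (nat_lit 0x700f0702007013), (nat_lit 0x5113ce202c050055160d6b), (nat_lit 0)⟩))
 (.l ⟨(nat_lit 0xa0000d), (nat_lit 0x70180701d07007), (nat_lit 0x6d3f06714c05005475e965), (nat_lit 0)⟩))
 (.n (.n (.l ⟨(nat_lit 0x140000b), (nat_lit 0x15c7748c4b), (nat_lit 0x171d56322403), (nat_lit 0)⟩)
 (.l ⟨(nat_lit 0x1000013), (nat_lit 0x301416), (nat_lit 0xa103c05005495e57f), (nat_lit 0)⟩))
 (.l ⟨(nat_lit 0xc0000d), (nat_lit 0x106c180681e), (nat_lit 0x394e13e1fd4a5957b), (nat_lit 0)⟩))))))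
 (.n (.n (.n (.n (.n (.n (.l ⟨(nat_lit 0xc00009), (nat_lit 0x1858d04033), (nat_lit 0xd1684f064), (nat_lit 0)⟩)
 (.l ⟨(nat_lit 0xc0000d), (nat_lit 0x30210680707007), (nat_lit 0x1b4e8a21f805005415f988), (nat_lit 0)⟩))
 (.n (.l ⟨(nat_lit 0x140000d), (nat_lit 0x140881d04c), (nat_lit 0x4374e86a), (nat_lit 0)⟩)
 (.l ⟨(nat_lit 0xc00015), (nat_lit 0x160641607011), (nat_lit 0xb4484c05c050054b61181), (nat_lit 0)⟩)))
 (.n (.n (.l ⟨(nat_lit 0xc0000d), (nat_lit 0xa98f3ec07), (nat_lit 0x1746428873), (nat_lit 0)⟩)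
 (.l ⟨(nat_lit 0xc0000d), (nat_lit 0x68210141307011), (nat_lit 0x6a3041648405005525f961), (nat_lit 0)⟩))
 (.l ⟨(nat_lit 0xa0000d), (nat_lit 0x6c1e0641107007), (nat_lit 0x1709c590c405005635d56e), (nat_lit 0)⟩)))
 (.n (.n (.n (.l ⟨(nat_lit 0xc0000d), (nat_lit 0x48a24588a), (nat_lit 0x5786319c31), (nat_lit 0)⟩)
 (.l ⟨(nat_lit 0xc0000d), (nat_lit 0x170141007011), (nat_lit 0xc46118d8c0140166d56), (nat_lit 0)⟩))
 (.l ⟨(nat_lit 0xc0000b), (nat_lit 0x641e07011), (nat_lit 0x6f130650794157571), (nat_lit 0)⟩))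
 (.n (.n (.l ⟨(nat_lit 0xe0000d), (nat_lit 0x253565830), (nat_lit 0x140124cc16), (nat_lit 0)⟩)
 (.l ⟨(nat_lit 0xc0000f), (nat_lit 0x10070170641d), (nat_lit 0x14184fb1dc050055064191), (nat_lit 0)⟩))
 (.l ⟨(nat_lit 0xc0000d), (nat_lit 0x6c0706c1f), (nat_lit 0xe5581b05a60177), (nat_lit 0)⟩))))
 (.n (.n (.n (.n (.l ⟨(nat_lit 0xc0000b), (nat_lit 0xd0c1a47f), (nat_lit 0x12c5d0d867), (nat_lit 0)⟩)
 (.l ⟨(nat_lit 0xc0000d), (nat_lit 0x160702007012), (nat_lit 0x1a20980465415a59b), (nat_lit 0)⟩))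
 (.l ⟨(nat_lit 0xc0000b), (nat_lit 0x1306c1001415), (nat_lit 0x594682702d5153d52), (nat_lit 0)⟩))
 (.n (.n (.l ⟨(nat_lit 0x60000d), (nat_lit 0x5f86607810), (nat_lit 0x1bc614a4f8), (nat_lit 0)⟩)
 (.l ⟨(nat_lit 0x140000d), (nat_lit 0x1806c1807016), (nat_lit 0x652fd2f0a9416698d), (nat_lit 0)⟩))
 (.l ⟨(nat_lit 0xc0000d), (nat_lit 0x502207007), (nat_lit 0x5b1cd35228050054b5b98e), (nat_lit 0)⟩)))
 (.n (.n (.n (.l ⟨(nat_lit 0xc0000d), (nat_lit 0x5c723f836), (nat_lit 0xb5d0fe1514b55007), (nat_lit 0)⟩)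
 (.l ⟨(nat_lit 0xc0000d), (nat_lit 0x220142207013), (nat_lit 0x1a46e0c90800405005456055b), (nat_lit 0)⟩))
 (.l ⟨(nat_lit 0xc0000d), (nat_lit 0x1206c0f07010), (nat_lit 0x33250511795666982), (nat_lit 0)⟩))
 (.n (.n (.l ⟨(nat_lit 0x1200011), (nat_lit 164879), (nat_lit 0x5954756007), (nat_lit 0)⟩)
 (.l ⟨(nat_lit 0xc00013), (nat_lit 0x700f0641406816), (nat_lit 0x1c02a0486c0140166d6a), (nat_lit 0)⟩))
 (.l ⟨(nat_lit 0x120000d), (nat_lit 0x301e0642107007), (nat_lit 0x1f1a1320e94f5697c), (nat_lit 0)⟩)))))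
 (.n (.n (.n (.n (.n (.l ⟨(nat_lit 0xc0000b), (nat_lit 0x707f62c75), (nat_lit 0x1a19e0601c), (nat_lit 0)⟩)
 (.l ⟨(nat_lit 0xc0000d), (nat_lit 0x1f0641d07010), (nat_lit 0xf4649104805005415a197), (nat_lit 0)⟩))
 (.n (.l ⟨(nat_lit 0x1200007), (nat_lit 0x681e0641f07007), (nat_lit 0x1181719a085585817f), (nat_lit 0)⟩)
 (.l ⟨(nat_lit 0xc00015), (nat_lit 0x141f0640f07007), (nat_lit 0x412e13f18405005415c574), (nat_lit 0)⟩)))
 (.n (.n (.l ⟨(nat_lit 0xc0000d), (nat_lit 0x135400895c), (nat_lit 0x180b558028), (nat_lit 0)⟩)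
 (.l ⟨(nat_lit 0xa0000d), (nat_lit 0x1f0681607017), (nat_lit 0x14795a1b4050054762d4a), (nat_lit 0)⟩))
 (.l ⟨(nat_lit 0xc0000d), (nat_lit 0x301f0680f07007), (nat_lit 0x10486351925d587), (nat_lit 0)⟩)))
 (.n (.n (.n (.l ⟨(nat_lit 0xc0000d), (nat_lit 0xbd1f4c47d), (nat_lit 0x1dcbb1a80b), (nat_lit 0)⟩)
 (.l ⟨(nat_lit 0xe0000d), (nat_lit 0x1006c2207013), (nat_lit 0x158719c36005586018d), (nat_lit 0)⟩))
 (.l ⟨(nat_lit 0xc0000d), (nat_lit 0x1106c1207012), (nat_lit 0x5e470ec1ac050055765d81), (nat_lit 0)⟩))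
 (.n (.n (.l ⟨(nat_lit 0x120000d), (nat_lit 0x1716964403), (nat_lit 0x104b08108001), (nat_lit 0)⟩)
 (.l ⟨(nat_lit 0xc00011), (nat_lit 0x1706c1d0641e), (nat_lit 0x194144c40e0140156d91), (nat_lit 0)⟩))
 (.l ⟨(nat_lit 0xc0000d), (nat_lit 0x70110681d), (nat_lit 0x1053e0894360592), (nat_lit 0)⟩))))
 (.n (.n (.n (.n (.l ⟨(nat_lit 0xc0000d), (nat_lit 0x155524fc43), (nat_lit 0x184594b448), (nat_lit 0)⟩)
 (.l ⟨(nat_lit 0xc0000d), (nat_lit 0x140141007007), (nat_lit 0x11d19c6a061435d17d), (nat_lit 0)⟩))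
 (.l ⟨(nat_lit 0xc0000b), (nat_lit 0x700f0700707007), (nat_lit 0x5e17c5d015916440800c050040401d7264167), (nat_lit 0)⟩))
 (.n (.n (.l ⟨(nat_lit 0xc0000d), (nat_lit 0x1956016459), (nat_lit 0x1419d20975), (nat_lit 0)⟩)
 (.l ⟨(nat_lit 0x120000d), (nat_lit 0x6c210641307007), (nat_lit 0x1c454a22095f5d95a), (nat_lit 0)⟩))
 (.l ⟨(nat_lit 0x140000d), (nat_lit 0x441b07807), (nat_lit 0x713b0e52559155), (nat_lit 0)⟩)))
 (.n (.n (.n (.l ⟨(nat_lit 0xc0000d), (nat_lit 0x150681441f), (nat_lit 0x84b51d01e), (nat_lit 0)⟩)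
 (.l ⟨(nat_lit 0xc0000d), (nat_lit 0x17070220641f), (nat_lit 0x1624d380a405005606354c), (nat_lit 0)⟩))
 (.l ⟨(nat_lit 0xc0000d), (nat_lit 0x706c16), (nat_lit 0x76059201d455e57b), (nat_lit 0)⟩))
 (.n (.n (.l ⟨(nat_lit 0x140000d), (nat_lit 0x1853f4087a), (nat_lit 0x110c316036), (nat_lit 0)⟩)
 (.l ⟨(nat_lit 0xc00013), (nat_lit 0x641f0141e), (nat_lit 0xd1cc4e0c005005435b18f), (nat_lit 0)⟩))
 (.l ⟨(nat_lit 0xc0000d), (nat_lit 0x1306c1807010), (nat_lit 0x1a92f1ad6d0140154598), (nat_lit 0)⟩)))))))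
noncomputable def T29 : Tr :=
  .n (.n (.n (.n (.n (.n (.n (.n (.l ⟨(nat_lit 0x1000007), (nat_lit 0x1144f03c03), (nat_lit 0), (nat_lit 0)⟩)
 (.l ⟨(nat_lit 0x120000d), (nat_lit 0x1506c1707007), (nat_lit 0x7a43c7e0d94b5c589), (nat_lit 0)⟩))
 (.n (.l ⟨(nat_lit 0x140000d), (nat_lit 0x18e04cbc), (nat_lit 0x1050820836), (nat_lit 0)⟩)
 (.l ⟨(nat_lit 0x1400014), (nat_lit 0x1c2006c1e07022), (nat_lit 0), (nat_lit 0)⟩)))
 (.n (.n (.l ⟨(nat_lit 0xc0000d), (nat_lit 0xec3154807), (nat_lit 0x634f81bc1e), (nat_lit 0)⟩)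
 (.l ⟨(nat_lit 0xc0000d), (nat_lit 0x1c1a0800501c03), (nat_lit 0x56311650c405005535698a), (nat_lit 0)⟩))
 (.l ⟨(nat_lit 0xc0000d), (nat_lit 0x2006c1207014), (nat_lit 0x680bc710fc05005515b98e), (nat_lit 0)⟩)))
 (.n (.n (.n (.l ⟨(nat_lit 0xc0000d), (nat_lit 0x8d020c484), (nat_lit 0x181631940e), (nat_lit 0)⟩)
 (.l ⟨(nat_lit 0xc0000d), (nat_lit 0x210641007007), (nat_lit 0x5d13d4a101496799a), (nat_lit 0)⟩))
 (.l ⟨(nat_lit 0xc0000b), (nat_lit 0x2106c2207012), (nat_lit 0x6a15d0d15d4f54d93), (nat_lit 0)⟩))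
 (.n (.n (.l ⟨(nat_lit 0xe00009), (nat_lit 7), (nat_lit 324615), (nat_lit 0)⟩)
 (.l ⟨(nat_lit 0xc0000d), (nat_lit 0x801b07c1b05003), (nat_lit 0x6a1c42f2dc05005525f549), (nat_lit 0)⟩))
 (.l ⟨(nat_lit 0xa0000d), (nat_lit 0x1c0581904c03), (nat_lit 0x1c24c5e07c05005435e58c), (nat_lit 0)⟩))))
 (.n (.n (.n (.n (.l ⟨(nat_lit 0xc0000b), (nat_lit 0x1a6745706401), (nat_lit 0x1406c13031), (nat_lit 0)⟩)
 (.l ⟨(nat_lit 0xc0000d), (nat_lit 0x1f06c1001415), (nat_lit 0x16c665f0535a951), (nat_lit 0)⟩))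
 (.l ⟨(nat_lit 0x600007), (nat_lit 0x1e0681d07013), (nat_lit 0x6b20c1e0314c6657a), (nat_lit 0)⟩))
 (.n (.n (.l ⟨(nat_lit 0xc0000d), (nat_lit 0xe51058c63), (nat_lit 0x806f12c09), (nat_lit 0)⟩)
 (.l ⟨(nat_lit 0xc0000d), (nat_lit 0x18068100641d), (nat_lit 0x5a2f13a02c050054760171), (nat_lit 0)⟩))
 (.l ⟨(nat_lit 0x140000d), (nat_lit 0xc06c1407012), (nat_lit 0x311b13917d4359176), (nat_lit 0)⟩)))
 (.n (.n (.n (.l ⟨(nat_lit 0xc0000d), (nat_lit 0x1a8930bc09), (nat_lit 0x1d95a14030), (nat_lit 0)⟩)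
 (.l ⟨(nat_lit 0xc0000d), (nat_lit 0x5c1907c1a04803), (nat_lit 0x552285c03d655bd76), (nat_lit 0)⟩))
 (.l ⟨(nat_lit 0xe0000d), (nat_lit 0x581a0481905c03), (nat_lit 0x1991a1221054d66986), (nat_lit 0)⟩))
 (.n (.n (.l ⟨(nat_lit 0x120000d), (nat_lit 0x2817c01), (nat_lit 0x692045f02d4c5bc07), (nat_lit 0)⟩)
 (.l ⟨(nat_lit 0xc00013), (nat_lit 0x160141406815), (nat_lit 0x44f404091014015658a), (nat_lit 0)⟩))
 (.l ⟨(nat_lit 0xe0000d), (nat_lit 0x641d06c0f07007), (nat_lit 0x664ccc4045535f188), (nat_lit 0)⟩)))))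
 (.n (.n (.n (.n (.n (.l ⟨(nat_lit 0xc00009), (nat_lit 0x1a95510436), (nat_lit 0x1852008519), (nat_lit 0)⟩)
 (.l ⟨(nat_lit 0xc0000d), (nat_lit 0x1d0681e07017), (nat_lit 0x522296343405005645f55f), (nat_lit 0)⟩))
 (.n (.l ⟨(nat_lit 0x1400015), (nat_lit 0xdd7f4d824), (nat_lit 0x17d681fc0c), (nat_lit 0)⟩)
 (.l ⟨(nat_lit 0xc00015), (nat_lit 0x70641f), (nat_lit 0x12f0715a00c050054964561), (nat_lit 0)⟩)))
 (.n (.n (.l ⟨(nat_lit 0xc0000d), (nat_lit 0x30d4850fc01), (nat_lit 0x1643020c7b), (nat_lit 0)⟩)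
 (.l ⟨(nat_lit 0xe0000d), (nat_lit 0x130141707012), (nat_lit 0x6a109510a15960d71), (nat_lit 0)⟩))
 (.l ⟨(nat_lit 0xc0000d), (nat_lit 0x680106c1107007), (nat_lit 0x60192080e6654d), (nat_lit 0)⟩)))
 (.n (.n (.n (.l ⟨(nat_lit 0xc0000d), (nat_lit 0x1696418415), (nat_lit 0x1317e1640e), (nat_lit 0)⟩)
 (.l ⟨(nat_lit 0xc0000d), (nat_lit 0x141406c1207013), (nat_lit 0x68105231a8015455f5fc0800c050040401d4d67972), (nat_lit 0)⟩))
 (.l ⟨(nat_lit 0xc0000b), (nat_lit 0x160642207013), (nat_lit 0x4b1743619d526557d), (nat_lit 0)⟩))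
 (.n (.n (.l ⟨(nat_lit 0xe0000d), (nat_lit 0x1219c1f416), (nat_lit 0x63d631c043), (nat_lit 0)⟩)
 (.l ⟨(nat_lit 0xc0000f), (nat_lit 0x1d0641f0641f), (nat_lit 0x6307211c160140166d63), (nat_lit 0)⟩))
 (.l ⟨(nat_lit 0x140000d), (nat_lit 0x601d07010), (nat_lit 0x175002080b5ed68), (nat_lit 0)⟩))))
 (.n (.n (.n (.n (.l ⟨(nat_lit 0xc0000d), (nat_lit 0x1cfb60407), (nat_lit 0x3647181), (nat_lit 0)⟩)
 (.l ⟨(nat_lit 0xc0000d), (nat_lit 0x64160701206415), (nat_lit 0x575e56c111545918e), (nat_lit 0)⟩))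
 (.l ⟨(nat_lit 0x60000b), (nat_lit 0x1c0841b05c03), (nat_lit 0x17c853c4870140160d7f), (nat_lit 0)⟩))
 (.n (.n (.l ⟨(nat_lit 0xc0000d), (nat_lit 0x13c681b812), (nat_lit 0x1744f52840), (nat_lit 0)⟩)
 (.l ⟨(nat_lit 0x120000d), (nat_lit 0x130701d07014), (nat_lit 0x5e5e87903d5261976), (nat_lit 0)⟩))
 (.l ⟨(nat_lit 0x140000d), (nat_lit 0x141507007), (nat_lit 0x4c3cc670e9456797d), (nat_lit 0)⟩)))
 (.n (.n (.n (.l ⟨(nat_lit 0xc0000d), (nat_lit 0x605c0247e), (nat_lit 0xc55a1903f), (nat_lit 0)⟩)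
 (.l ⟨(nat_lit 0x140000d), (nat_lit 0x1f0141707012), (nat_lit 0x1d34c5c1894356192), (nat_lit 0)⟩))
 (.l ⟨(nat_lit 0xc0000d), (nat_lit 0x507412), (nat_lit 0x4f631300a8050054c63d45), (nat_lit 0)⟩))
 (.n (.n (.l ⟨(nat_lit 0x1200013), (nat_lit 0xbd9818c1d), (nat_lit 0x16c7322437), (nat_lit 0)⟩)
 (.l ⟨(nat_lit 0xa00013), (nat_lit 0x1b0481b03c03), (nat_lit 0x440789301c050054a62d90), (nat_lit 0)⟩))
 (.l ⟨(nat_lit 0xc0000d), (nat_lit 0x1e0701007011), (nat_lit 0x2098121c050054a5d160), (nat_lit 0)⟩))))))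
 (.n (.n (.n (.n (.n (.n (.l ⟨(nat_lit 0x80000b), (nat_lit 0x170b307529), (nat_lit 0x915b54413), (nat_lit 0)⟩)
 (.l ⟨(nat_lit 0xc0000d), (nat_lit 0x481f0640f07007), (nat_lit 0x412c59d13c050054765d91), (nat_lit 0)⟩))
 (.n (.l ⟨(nat_lit 0x140000d), (nat_lit 0x7041200d5), (nat_lit 0x4042325412), (nat_lit 0)⟩)
 (.l ⟨(nat_lit 0xc00015), (nat_lit 0x701006c2106815), (nat_lit 0x230795200c05005545f559), (nat_lit 0)⟩)))
 (.n (.n (.l ⟨(nat_lit 0xc0000d), (nat_lit 0x144cc0f19005), (nat_lit 0x907b42c0c), (nat_lit 0)⟩)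
 (.l ⟨(nat_lit 0xc0000d), (nat_lit 0x641d0701107011), (nat_lit 0x321a1571814553574), (nat_lit 0)⟩))
 (.l ⟨(nat_lit 0xc0000d), (nat_lit 0x781a0881904c03), (nat_lit 0x1805813c690140150d595e80800c050040401d416319d), (nat_lit 0)⟩)))
 (.n (.n (.n (.l ⟨(nat_lit 0xc0000d), (nat_lit 0x643b08413c01), (nat_lit 0x753a20832), (nat_lit 0)⟩)
 (.l ⟨(nat_lit 0xc0000d), (nat_lit 0x841a0600f07007), (nat_lit 0x1011a42f07805005475f175), (nat_lit 0)⟩))
 (.l ⟨(nat_lit 0xc0000b), (nat_lit 0x1d064120701e), (nat_lit 0x644051c0fd5a5818f), (nat_lit 0)⟩))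
 (.n (.n (.l ⟨(nat_lit 0xe0000d), (nat_lit 0x84701b84e), (nat_lit 0x561c670d801), (nat_lit 0)⟩)
 (.l ⟨(nat_lit 0xc0000d), (nat_lit 0x64160701e07007), (nat_lit 0x276086f389415dd51), (nat_lit 0)⟩))
 (.l ⟨(nat_lit 0xc0000d), (nat_lit 0x881407011), (nat_lit 0xd9417849005416797d), (nat_lit 0)⟩))))
 (.n (.n (.n (.n (.l ⟨(nat_lit 0xc0000b), (nat_lit 0x1acf91842f), (nat_lit 0x1607762925), (nat_lit 0)⟩)
 (.l ⟨(nat_lit 0x120000d), (nat_lit 0x6c0706c1807007), (nat_lit 0x14650661094b56561), (nat_lit 0)⟩))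
 (.l ⟨(nat_lit 0x20000b), (nat_lit 0), (nat_lit 0x1e01401), (nat_lit 0)⟩))
 (.n (.n (.l ⟨(nat_lit 0xc0000d), (nat_lit 0x405f1bc34), (nat_lit 0x1bd8d14048), (nat_lit 0)⟩)
 (.l ⟨(nat_lit 0xa0000d), (nat_lit 0x220702207011), (nat_lit 0x1a5950ec05005435d193), (nat_lit 0)⟩))
 (.l ⟨(nat_lit 0xc0000d), (nat_lit 0x440f07007), (nat_lit 0x5a2115a2e0050054f56597), (nat_lit 0)⟩)))
 (.n (.n (.n (.l ⟨(nat_lit 0xc0000d), (nat_lit 0x141a40b06401), (nat_lit 0x1257a0a072), (nat_lit 0)⟩)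
 (.l ⟨(nat_lit 0xa0000d), (nat_lit 0x48150141f07007), (nat_lit 0x513e0c0970140167153), (nat_lit 0)⟩))
 (.l ⟨(nat_lit 0xc0000d), (nat_lit 0x2003003), (nat_lit 0x4f0190a5595b996), (nat_lit 0)⟩))
 (.n (.n (.l ⟨(nat_lit 0x120000d), (nat_lit 0x1301364049), (nat_lit 0x93ec7618801), (nat_lit 0)⟩)
 (.l ⟨(nat_lit 0x1200013), (nat_lit 0x341706c1207007), (nat_lit 0x336311b1b0050055f5b94c), (nat_lit 0)⟩))
 (.l ⟨(nat_lit 0xa0000d), (nat_lit 0x541f0640707007), (nat_lit 0x225a0894ac050055660183), (nat_lit 0)⟩)))))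
 (.n (.n (.n (.n (.n (.l ⟨(nat_lit 0xc0000b), (nat_lit 0x89682252b), (nat_lit 0x1b41205003), (nat_lit 0)⟩)
 (.l ⟨(nat_lit 0xc0000d), (nat_lit 0x1706c2206c1e), (nat_lit 0x366244b024050055d6618f), (nat_lit 0)⟩))
 (.n (.l ⟨(nat_lit 0xc00007), (nat_lit 0x5c1b0801a04403), (nat_lit 0x301e1eca10140151d82), (nat_lit 0)⟩)
 (.l ⟨(nat_lit 0xc00015), (nat_lit 0x2006c1406c21), (nat_lit 0x1c6604201405005585817d), (nat_lit 0)⟩)))
 (.n (.n (.l ⟨(nat_lit 0xc0000d), (nat_lit 0x1785f5a01f), (nat_lit 0x54b742062), (nat_lit 0)⟩)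
 (.l ⟨(nat_lit 0xc0000d), (nat_lit 0x5c170141607007), (nat_lit 0x2f44e14d4c5cd87), (nat_lit 0)⟩))
 (.l ⟨(nat_lit 0xc0000d), (nat_lit 0x1706c1701416), (nat_lit 0x1013d9522405005495a197), (nat_lit 0)⟩)))
 (.n (.n (.n (.l ⟨(nat_lit 0xc0000d), (nat_lit 0x7d841cc72), (nat_lit 0x19c670c45e), (nat_lit 0)⟩)
 (.l ⟨(nat_lit 0xa0000d), (nat_lit 0x22070220681e), (nat_lit 0x182197f114050054c62d47), (nat_lit 0)⟩))
 (.l ⟨(nat_lit 0xc0000d), (nat_lit 20483), (nat_lit 0x3f594581916a63965), (nat_lit 0)⟩))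
 (.n (.n (.l ⟨(nat_lit 0x120000d), (nat_lit 0x543106f07001), (nat_lit 0x221685b07401), (nat_lit 0)⟩)
 (.l ⟨(nat_lit 0x60000f), (nat_lit 0x141f0141607007), (nat_lit 0xf640d601c050054353d52), (nat_lit 0)⟩))
 (.l ⟨(nat_lit 0xc0000d), (nat_lit 0x60070702007007), (nat_lit 0x3a500551ad4d62178), (nat_lit 0)⟩))))
 (.n (.n (.n (.n (.l ⟨(nat_lit 0xc0000d), (nat_lit 0x312d34c07), (nat_lit 0x5cd460007), (nat_lit 0)⟩)
 (.l ⟨(nat_lit 0x120000d), (nat_lit 0x505c1c02c07), (nat_lit 0x62024593f9415cd9a), (nat_lit 0)⟩))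
 (.l ⟨(nat_lit 0x140000b), (nat_lit 0x4c1b05003), (nat_lit 0x40284850614163571), (nat_lit 0)⟩))
 (.n (.n (.l ⟨(nat_lit 0xc0000d), (nat_lit 0x19c1c42017), (nat_lit 0x3b474fb184035158661c020180c), (nat_lit 0)⟩)
 (.l ⟨(nat_lit 0xc0000d), (nat_lit 0x220680701416), (nat_lit 0x105812e1d805005435c19d), (nat_lit 0)⟩))
 (.l ⟨(nat_lit 0x80000d), (nat_lit 0x64210681207013), (nat_lit 0x61634100cc050054a6019a), (nat_lit 0)⟩)))
 (.n (.n (.n (.l ⟨(nat_lit 0xc0000d), (nat_lit 0xc8b317445), (nat_lit 0x6140b1fc2f), (nat_lit 0)⟩)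
 (.l ⟨(nat_lit 0xc0000d), (nat_lit 0x150681107010), (nat_lit 0x3a06c635b96467570), (nat_lit 0)⟩))
 (.l ⟨(nat_lit 0xc0000d), (nat_lit 0x64220682007007), (nat_lit 0x55704d034050056e5e55c), (nat_lit 0)⟩))
 (.n (.n (.l ⟨(nat_lit 0x140000b), (nat_lit 0x550f5d076), (nat_lit 0x615f20873), (nat_lit 0)⟩)
 (.l ⟨(nat_lit 0xc00013), (nat_lit 0x541d0701f07007), (nat_lit 0x15142c14078050055266985), (nat_lit 0)⟩))
 (.l ⟨(nat_lit 0xc0000d), (nat_lit 0x441b04c1c03c03), (nat_lit 0x191d585078050054d6018a), (nat_lit 0)⟩)))))))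
 (.n (.n (.n (.n (.n (.n (.n (.l ⟨(nat_lit 0x600005), (nat_lit 0x2c9341e830), (nat_lit 0x54983614020180c), (nat_lit 0)⟩)
 (.l ⟨(nat_lit 0xa0000d), (nat_lit 0x6c0f06c1f), (nat_lit 0xf6211901c05005515d584), (nat_lit 0)⟩))
 (.n (.l ⟨(nat_lit 0x140000d), (nat_lit 0x58a31f90c), (nat_lit 0x74d317062), (nat_lit 0)⟩)
 (.l ⟨(nat_lit 0xa00015), (nat_lit 0x60070640707007), (nat_lit 0x418090050055c66d65), (nat_lit 0)⟩)))
 (.n (.n (.l ⟨(nat_lit 0xc0000d), (nat_lit 0x84b44c054), (nat_lit 0x71c0110055556161020030140101007), (nat_lit 0)⟩)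
 (.l ⟨(nat_lit 0xc0000d), (nat_lit 0x1406c1506816), (nat_lit 0xd4397421d4d54d73), (nat_lit 0)⟩))
 (.l ⟨(nat_lit 0xc0000d), (nat_lit 0x20014130681d), (nat_lit 0x2f344591a1516717b), (nat_lit 0)⟩)))
 (.n (.n (.n (.l ⟨(nat_lit 0xc0000d), (nat_lit 0x41100903f), (nat_lit 0x1005c45919), (nat_lit 0)⟩)
 (.l ⟨(nat_lit 0xc0000d), (nat_lit 0x1d06c0f06815), (nat_lit 0xe8f75802001401545955980800c050040401d4556565), (nat_lit 0)⟩))
 (.l ⟨(nat_lit 0x120000b), (nat_lit 0x150681307012), (nat_lit 0x3b5b51a171515f565), (nat_lit 0)⟩))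
 (.n (.n (.l ⟨(nat_lit 0xe0000d), (nat_lit 0x1063ec17), (nat_lit 0x1b81a63447), (nat_lit 0)⟩)
 (.l ⟨(nat_lit 0xa0000d), (nat_lit 0xf06c150141e), (nat_lit 0x8d5201c050054a65185), (nat_lit 0)⟩))
 (.l ⟨(nat_lit 0xe0000d), (nat_lit 0x1e068160641d), (nat_lit 0xec681a05a5e957), (nat_lit 0)⟩))))
 (.n (.n (.n (.n (.l ⟨(nat_lit 0xc0000b), (nat_lit 0x1a87e46c5b), (nat_lit 0x6c4961c7d), (nat_lit 0)⟩)
 (.l ⟨(nat_lit 0xc0000d), (nat_lit 0x640706c1607007), (nat_lit 0x454c4636695f6095a), (nat_lit 0)⟩))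
 (.l ⟨(nat_lit 0xc00009), (nat_lit 0x602207013), (nat_lit 0x520406319c050055064178), (nat_lit 0)⟩))
 (.n (.n (.l ⟨(nat_lit 0xc0000d), (nat_lit 0xe46d5f859), (nat_lit 0x358a1f429), (nat_lit 0)⟩)
 (.l ⟨(nat_lit 0xe0000d), (nat_lit 0x2206c1306816), (nat_lit 0x43640683e14163594), (nat_lit 0)⟩))
 (.l ⟨(nat_lit 0xc0000d), (nat_lit 0x68160140f07007), (nat_lit 0x11221791594a5c19b), (nat_lit 0)⟩)))
 (.n (.n (.n (.l ⟨(nat_lit 0xc0000d), (nat_lit 0x134871d181), (nat_lit 0x1715f0bc6c), (nat_lit 0)⟩)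
 (.l ⟨(nat_lit 0xc0000d), (nat_lit 0x1d0141307012), (nat_lit 0x293e479058050057264145), (nat_lit 0)⟩))
 (.l ⟨(nat_lit 0xa0000d), (nat_lit 0x1f06c1106815), (nat_lit 0x1695710471014015b188), (nat_lit 0)⟩))
 (.n (.n (.l ⟨(nat_lit 0x120000d), (nat_lit 0xc54022576), (nat_lit 0x7c660dcf9), (nat_lit 0)⟩)
 (.l ⟨(nat_lit 0x1200013), (nat_lit 0x1b0381307007), (nat_lit 0x189571010e5cd4a), (nat_lit 0)⟩))
 (.l ⟨(nat_lit 0xc0000d), (nat_lit 0x1c0741a07407), (nat_lit 0x1709c72048050054566d7901d4b64972), (nat_lit 0)⟩)))))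
 (.n (.n (.n (.n (.n (.l ⟨(nat_lit 0xc0000b), (nat_lit 0xc1281b8eb), (nat_lit 0x4a8bb14843), (nat_lit 0)⟩)
 (.l ⟨(nat_lit 0xc0000d), (nat_lit 0x1d06c1206415), (nat_lit 0x4e0c41c05c050054155191), (nat_lit 0)⟩))
 (.n (.l ⟨(nat_lit 0x600005), (nat_lit 0x1c1e07011), (nat_lit 0x34d8f403d435294f), (nat_lit 0)⟩)
 (.l ⟨(nat_lit 0xc00015), (nat_lit 0x160641f07014), (nat_lit 0x4855884250050054d57977), (nat_lit 0)⟩)))
 (.n (.n (.l ⟨(nat_lit 0xc0000d), (nat_lit 0x51191c832), (nat_lit 0xd99b18814), (nat_lit 0)⟩)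
 (.l ⟨(nat_lit 0xc0000d), (nat_lit 0x641d0700707013), (nat_lit 0x63165350a54360571), (nat_lit 0)⟩))
 (.l ⟨(nat_lit 0xa0000d), (nat_lit 0x1106c1006415), (nat_lit 0x1741c272f005005476698d), (nat_lit 0)⟩)))
 (.n (.n (.n (.l ⟨(nat_lit 0xc0000d), (nat_lit 0x1bc455544d), (nat_lit 0x4c8362012), (nat_lit 0)⟩)
 (.l ⟨(nat_lit 0xc0000d), (nat_lit 0x130141307007), (nat_lit 0x201fd3922405005476299e), (nat_lit 0)⟩))
 (.l ⟨(nat_lit 0xe0000b), (nat_lit 0x130701d07011), (nat_lit 0x511b0831f94158d65), (nat_lit 0)⟩))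
 (.n (.n (.l ⟨(nat_lit 0x1200007), (nat_lit 0x1b8c31891f), (nat_lit 0x4605c66821), (nat_lit 0)⟩)
 (.l ⟨(nat_lit 0x80000f), (nat_lit 0x1e06c2101416), (nat_lit 0x403311005005595c188), (nat_lit 0)⟩))
 (.l ⟨(nat_lit 0xc0000d), (nat_lit 0x382107010), (nat_lit 0x4d5b43b131415796d), (nat_lit 0)⟩))))
 (.n (.n (.n (.n (.l ⟨(nat_lit 0xc0000d), (nat_lit 0x3d1924412), (nat_lit 0xd4700a867), (nat_lit 0)⟩)
 (.l ⟨(nat_lit 0xc0000d), (nat_lit 0x1a0541a04803), (nat_lit 0x1135552049555c989), (nat_lit 0)⟩))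
 (.l ⟨(nat_lit 0xc0000b), (nat_lit 0x801b05c03), (nat_lit 0x1c468644454c5b183), (nat_lit 0)⟩))
 (.n (.n (.l ⟨(nat_lit 0xc0000d), (nat_lit 0x9d0d1e813), (nat_lit 0x374c06a18c050054d66d8b020030140101007), (nat_lit 0)⟩)
 (.l ⟨(nat_lit 0xc0000d), (nat_lit 0x1406c2106415), (nat_lit 0x151a9120a96b53580), (nat_lit 0)⟩))
 (.l ⟨(nat_lit 0xc0000d), (nat_lit 0x1b0801907c0b), (nat_lit 0x5909d361a405005436717c), (nat_lit 0)⟩)))
 (.n (.n (.n (.l ⟨(nat_lit 0xc0000d), (nat_lit 0xcc5049d3a), (nat_lit 0x1619d24c43), (nat_lit 0)⟩)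
 (.l ⟨(nat_lit 0xc0000d), (nat_lit 0x741b04c0505c03), (nat_lit 0x1214889604050055362d76), (nat_lit 0)⟩))
 (.l ⟨(nat_lit 0xc0000d), (nat_lit 0x1306c110141d), (nat_lit 0x4d481370d4050054962174), (nat_lit 0)⟩))
 (.n (.n (.l ⟨(nat_lit 0x140000b), (nat_lit 0x727c10), (nat_lit 0x2fc5e5e821), (nat_lit 0)⟩)
 (.l ⟨(nat_lit 0xc00013), (nat_lit 0x70702001415), (nat_lit 0xe15948803405005415357f), (nat_lit 0)⟩))
 (.l ⟨(nat_lit 0xc0000d), (nat_lit 0x130680f07013), (nat_lit 0x581b0343d0050054161599), (nat_lit 0)⟩))))))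
 (.n (.n (.n (.n (.n (.n (.l ⟨(nat_lit 0xc00007), (nat_lit 0x198940d818), (nat_lit 0x4c694000f), (nat_lit 0)⟩)
 (.l ⟨(nat_lit 0xc0000d), (nat_lit 0x210701f07012), (nat_lit 0x8c69560285b979), (nat_lit 0)⟩))
 (.n (.l ⟨(nat_lit 0x140000d), (nat_lit 0x4d06e12c4b), (nat_lit 0x18cc21c958), (nat_lit 0)⟩)
 (.l ⟨(nat_lit 0xc00015), (nat_lit 0x6c1807010), (nat_lit 0x444a02f554050054f67570), (nat_lit 0)⟩)))
 (.n (.n (.l ⟨(nat_lit 0xc0000d), (nat_lit 0x108ec40854), (nat_lit 0x804d17c4b), (nat_lit 0)⟩)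
 (.l ⟨(nat_lit 0xc0000d), (nat_lit 0x741a0381207007), (nat_lit 0xd45a4a47900405005475417c), (nat_lit 0)⟩))
 (.l ⟨(nat_lit 0xc0000d), (nat_lit 0x220141d), (nat_lit 0x5163c611614960975), (nat_lit 0)⟩)))
 (.n (.n (.n (.l ⟨(nat_lit 0xc0000d), (nat_lit 0x305f1f90d), (nat_lit 0xe5344545b), (nat_lit 0)⟩)
 (.l ⟨(nat_lit 0xc0000d), (nat_lit 0x150681107007), (nat_lit 0x642244b1c95664184), (nat_lit 0)⟩))
 (.l ⟨(nat_lit 0xc0000b), (nat_lit 0x150641606815), (nat_lit 0x1b133014280154361988), (nat_lit 0)⟩))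
 (.n (.n (.l ⟨(nat_lit 0xe0000d), (nat_lit 0x61881c99d), (nat_lit 0x696448120d6656d92020030140101007), (nat_lit 0)⟩)
 (.l ⟨(nat_lit 0xc0000f), (nat_lit 18451), (nat_lit 0x66c4d3ac200140165d72), (nat_lit 0)⟩))
 (.l ⟨(nat_lit 0xa0000d), (nat_lit 0x1506c1307010), (nat_lit 0x6309c6b1c405005475ed75), (nat_lit 0)⟩))))
 (.n (.n (.n (.n (.l ⟨(nat_lit 0xc0000b), (nat_lit 0x15cb422061), (nat_lit 0x707f57c0c), (nat_lit 0)⟩)
 (.l ⟨(nat_lit 0xc0000d), (nat_lit 0x44130140707007), (nat_lit 0x692ec7e030050055167945), (nat_lit 0)⟩))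
 (.l ⟨(nat_lit 0x140000b), (nat_lit 0x200141e), (nat_lit 0x5209d5901d4753193), (nat_lit 0)⟩))
 (.n (.n (.l ⟨(nat_lit 0xc0000d), (nat_lit 0x4b4c99d14401), (nat_lit 0x1b07b5dc4b), (nat_lit 0)⟩)
 (.l ⟨(nat_lit 0xc0000d), (nat_lit 0x1406c1207014), (nat_lit 0x346587a30c05005575f964), (nat_lit 0)⟩))
 (.l ⟨(nat_lit 0xc0000d), (nat_lit 0x6c2207016), (nat_lit 0x4d41c4f10d4c5ad72), (nat_lit 0)⟩)))
 (.n (.n (.n (.l ⟨(nat_lit 0xc0000d), (nat_lit 0x1315a1a11a), (nat_lit 0xa5561c4a3), (nat_lit 0)⟩)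
 (.l ⟨(nat_lit 0xc0000d), (nat_lit 0x160141707012), (nat_lit 0x4062cb213d435bd7a), (nat_lit 0)⟩))
 (.l ⟨(nat_lit 0xc0000d), (nat_lit 0x200700706c1d), (nat_lit 0x506902c19004050054563d74), (nat_lit 0)⟩))
 (.n (.n (.l ⟨(nat_lit 0x120000d), (nat_lit 0x6211a2004e), (nat_lit 0xc7b0dd9a), (nat_lit 0)⟩)
 (.l ⟨(nat_lit 0xc00013), (nat_lit 0x106c110701e), (nat_lit 0x282887928405005456756e), (nat_lit 0)⟩))
 (.l ⟨(nat_lit 0xa0000d), (nat_lit 0x160141f07012), (nat_lit 0x6b6300b144050054a5c582), (nat_lit 0)⟩)))))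
 (.n (.n (.n (.n (.n (.l ⟨(nat_lit 0xc0000b), (nat_lit 0x65605ec6f), (nat_lit 0x6c6e5d419), (nat_lit 0)⟩)
 (.l ⟨(nat_lit 0xc0000d), (nat_lit 0x80180701107007), (nat_lit 0x281c8572f4050054d58d9e), (nat_lit 0)⟩))
 (.n (.l ⟨(nat_lit 0xc00007), (nat_lit 0x680701416), (nat_lit 0x60c736501362594), (nat_lit 0)⟩)
 (.l ⟨(nat_lit 0xc00015), (nat_lit 0x6c1306c1107011), (nat_lit 0x29105021b805005525a166), (nat_lit 0)⟩)))
 (.n (.n (.l ⟨(nat_lit 0x80000d), (nat_lit 0x150bb5707b), (nat_lit 0x170ff1dc0f), (nat_lit 0)⟩)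
 (.l ⟨(nat_lit 0xc0000d), (nat_lit 0x441b04c1c04c03), (nat_lit 0x563dd661d94b5d17d), (nat_lit 0)⟩))
 (.l ⟨(nat_lit 0xc0000d), (nat_lit 0x200701806c1e), (nat_lit 0x4f4347717d5857d9a), (nat_lit 0)⟩)))
 (.n (.n (.n (.l ⟨(nat_lit 0xc0000d), (nat_lit 0x5e4d11b418), (nat_lit 0x17c941b99d), (nat_lit 0)⟩)
 (.l ⟨(nat_lit 0x120000d), (nat_lit 0xd0681d07007), (nat_lit 0x5a12c42201585fd4d), (nat_lit 0)⟩))
 (.l ⟨(nat_lit 0xa0000d), (nat_lit 0x1b0740c), (nat_lit 0x3c3b2e0050054a5fd58), (nat_lit 0)⟩))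
 (.n (.n (.l ⟨(nat_lit 0x120000d), (nat_lit 0x4c5e4040f), (nat_lit 0x175020c466), (nat_lit 0)⟩)
 (.l ⟨(nat_lit 0xc0000f), (nat_lit 0x200140707014), (nat_lit 0x1831c94a05405005546795f), (nat_lit 0)⟩))
 (.l ⟨(nat_lit 0xc0000d), (nat_lit 0x160702207007), (nat_lit 0x1c70044015d578), (nat_lit 0)⟩))))
 (.n (.n (.n (.n (.l ⟨(nat_lit 0xc0000d), (nat_lit 0x11d6715c22), (nat_lit 0x41c682440e), (nat_lit 0)⟩)
 (.l ⟨(nat_lit 0xc0000d), (nat_lit 0x5c1e0142007007), (nat_lit 0x6001d9b420050054b60591), (nat_lit 0)⟩))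
 (.l ⟨(nat_lit 0xc0000b), (nat_lit 0x841d0141307007), (nat_lit 0x735447307d515fd78), (nat_lit 0)⟩))
 (.n (.n (.l ⟨(nat_lit 0xc0000d), (nat_lit 0x4f4403444f), (nat_lit 0xa0103cc58), (nat_lit 0)⟩)
 (.l ⟨(nat_lit 0xc0000d), (nat_lit 0x680f06c0f07012), (nat_lit 0x6549d8f0654c5cd9a), (nat_lit 0)⟩))
 (.l ⟨(nat_lit 0xc0000d), (nat_lit 0x741c0381207007), (nat_lit 0x4b4f4115b94961576), (nat_lit 0)⟩)))
 (.n (.n (.n (.l ⟨(nat_lit 0xc0000d), (nat_lit 0x492214d8f), (nat_lit 0x49c7b63016), (nat_lit 0)⟩)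
 (.l ⟨(nat_lit 0xc0000d), (nat_lit 0x706c1007013), (nat_lit 0x190ec2104f004050054956182), (nat_lit 0)⟩))
 (.l ⟨(nat_lit 0xc0000d), (nat_lit 0x150141d), (nat_lit 0x184496147965d99), (nat_lit 0)⟩))
 (.n (.n (.l ⟨(nat_lit 0x140000d), (nat_lit 0x114b166c07), (nat_lit 0x7c7760037), (nat_lit 0)⟩)
 (.l ⟨(nat_lit 0xa00013), (nat_lit 0xd0701f07007), (nat_lit 0x5b215970fc050055258d7e), (nat_lit 0)⟩))
 (.l ⟨(nat_lit 0xc0000d), (nat_lit 0x1406c1807010), (nat_lit 0x12f1813c0854352d95), (nat_lit 0)⟩)))))))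
noncomputable def T30 : Tr :=
  .n (.n (.n (.n (.n (.n (.n (.n (.l ⟨(nat_lit 0x200002), (nat_lit 14), (nat_lit 0), (nat_lit 0)⟩)
 (.l ⟨(nat_lit 0xc0000d), (nat_lit 0x441f06c2207010), (nat_lit 0x525a05d3894351d64), (nat_lit 0)⟩))
 (.n (.l ⟨(nat_lit 0x140000d), (nat_lit 214065), (nat_lit 0x4902d2f), (nat_lit 0)⟩)
 (.l ⟨(nat_lit 0xc00015), (nat_lit 0x6c1806c1207010), (nat_lit 0x24293c8050054351d73), (nat_lit 0)⟩)))
 (.n (.n (.l ⟨(nat_lit 0xc0000d), (nat_lit 0xa83658c54), (nat_lit 0x311e84e18003), (nat_lit 0)⟩)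
 (.l ⟨(nat_lit 0xc0000d), (nat_lit 0x1e0141107012), (nat_lit 0x1a86e1e4030140157970), (nat_lit 0)⟩))
 (.l ⟨(nat_lit 0xa0000d), (nat_lit 0x6c0f06c070641e), (nat_lit 0x1c1fd8b1d4050055d64171), (nat_lit 0)⟩)))
 (.n (.n (.n (.l ⟨(nat_lit 0xc0000d), (nat_lit 0x184291aceb), (nat_lit 0x808644883), (nat_lit 0)⟩)
 (.l ⟨(nat_lit 0xc0000d), (nat_lit 0x130701306c16), (nat_lit 0xc11081254050058665d47), (nat_lit 0)⟩))
 (.l ⟨(nat_lit 0xe0000b), (nat_lit 0x1e0680706416), (nat_lit 0x2f1fc0e1f1795b573), (nat_lit 0)⟩))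
 (.n (.n (.l ⟨(nat_lit 0xe0000b), (nat_lit 0x5cd0705409), (nat_lit 0x2102c50), (nat_lit 0)⟩)
 (.l ⟨(nat_lit 0xc0000d), (nat_lit 0x160141d0681d), (nat_lit 0x6c1ed7712d475e16a), (nat_lit 0)⟩))
 (.l ⟨(nat_lit 0xc0000d), (nat_lit 0x1f06c1807010), (nat_lit 0x1788a3f0440140165160), (nat_lit 0)⟩))))
 (.n (.n (.n (.n (.l ⟨(nat_lit 0xc0000b), (nat_lit 0xdc5661c79), (nat_lit 0xe42f63c2a), (nat_lit 0)⟩)
 (.l ⟨(nat_lit 0xc0000d), (nat_lit 0x88070141607007), (nat_lit 0x40d518d98004050054361d74), (nat_lit 0)⟩))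
 (.l ⟨(nat_lit 0x200009), (nat_lit 0), (nat_lit 0x1601401), (nat_lit 0)⟩))
 (.n (.n (.l ⟨(nat_lit 0xc0000d), (nat_lit 0x1907d4e887), (nat_lit 0xec6b62039), (nat_lit 0)⟩)
 (.l ⟨(nat_lit 0xc0000d), (nat_lit 0x64150681007011), (nat_lit 0x907b42c0c6395a), (nat_lit 0)⟩))
 (.l ⟨(nat_lit 0xc0000d), (nat_lit 0x502207012), (nat_lit 0x1503f2090e004050055755194), (nat_lit 0)⟩)))
 (.n (.n (.n (.l ⟨(nat_lit 0xc0000d), (nat_lit 0x1683c1d823), (nat_lit 0x2181c15811), (nat_lit 0)⟩)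
 (.l ⟨(nat_lit 0xc0000d), (nat_lit 0x2006c1307016), (nat_lit 0x5e5686b0e80165d65), (nat_lit 0)⟩))
 (.l ⟨(nat_lit 0x140000d), (nat_lit 25619), (nat_lit 0x1240b4bd415bd98), (nat_lit 0)⟩))
 (.n (.n (.l ⟨(nat_lit 0x120000d), (nat_lit 0x145691c97d), (nat_lit 0x1b5370d841), (nat_lit 0)⟩)
 (.l ⟨(nat_lit 0xc00013), (nat_lit 0x2006c120701d), (nat_lit 0x3f5fc7e664050055a5a599), (nat_lit 0)⟩))
 (.l ⟨(nat_lit 0x120000d), (nat_lit 0x106c1307013), (nat_lit 0x362117a57d655318d), (nat_lit 0)⟩)))))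
 (.n (.n (.n (.n (.n (.l ⟨(nat_lit 0xc0000b), (nat_lit 0x1d9c01c05), (nat_lit 0x10c5b1c0af), (nat_lit 0)⟩)
 (.l ⟨(nat_lit 0xc0000d), (nat_lit 0x210681407012), (nat_lit 0x144185867005005595e958), (nat_lit 0)⟩))
 (.n (.l ⟨(nat_lit 0x200002), (nat_lit 0x801b074050880508820), (nat_lit 0), (nat_lit 0)⟩)
 (.l ⟨(nat_lit 0xc00015), (nat_lit 0x641e07011), (nat_lit 0x1b4296050a0140155999), (nat_lit 0)⟩)))
 (.n (.n (.l ⟨(nat_lit 0xc0000d), (nat_lit 0x185876146e), (nat_lit 0x1588764803), (nat_lit 0)⟩)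
 (.l ⟨(nat_lit 0x60000d), (nat_lit 0x34210641007007), (nat_lit 0x6f185293e14354186), (nat_lit 0)⟩))
 (.l ⟨(nat_lit 0xc0000d), (nat_lit 0x881807010), (nat_lit 0x480e4641994c5e997), (nat_lit 0)⟩)))
 (.n (.n (.n (.l ⟨(nat_lit 0xc0000d), (nat_lit 0x15c9f10011), (nat_lit 0x78625d080), (nat_lit 0)⟩)
 (.l ⟨(nat_lit 0xc0000d), (nat_lit 0x706c1f07007), (nat_lit 0x53548330756a6795f), (nat_lit 0)⟩))
 (.l ⟨(nat_lit 0x140000b), (nat_lit 0x1f0641207011), (nat_lit 0x2a4a4702454b63588), (nat_lit 0)⟩))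
 (.n (.n (.l ⟨(nat_lit 0xe0000d), (nat_lit 0xbd000501e), (nat_lit 0x403a57c80), (nat_lit 0)⟩)
 (.l ⟨(nat_lit 0xc0000f), (nat_lit 0x5c1f0680707007), (nat_lit 0x1308538160050054564d75), (nat_lit 0)⟩))
 (.l ⟨(nat_lit 0xc0000d), (nat_lit 0x601106c1107010), (nat_lit 0x6310907089576719e), (nat_lit 0)⟩))))
 (.n (.n (.n (.n (.l ⟨(nat_lit 0xc0000d), (nat_lit 0x504556824), (nat_lit 0x14cb620c6a), (nat_lit 0)⟩)
 (.l ⟨(nat_lit 0xc0000d), (nat_lit 0x1f06c1107011), (nat_lit 0x294593e0e5635657c), (nat_lit 0)⟩))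
 (.l ⟨(nat_lit 0xc0000b), (nat_lit 0x1d0641307012), (nat_lit 0x62175360816551d8f), (nat_lit 0)⟩))
 (.n (.n (.l ⟨(nat_lit 0xc0000d), (nat_lit 0x13c7a190d2), (nat_lit 0x1f84f61c155a980020030140101007), (nat_lit 0)⟩)
 (.l ⟨(nat_lit 0xc0000d), (nat_lit 0x1706c140681e), (nat_lit 0x18c861b4fa0140165d60), (nat_lit 0)⟩))
 (.l ⟨(nat_lit 0xc0000d), (nat_lit 0x200641f06c16), (nat_lit 0x4f1a44e1114b58580), (nat_lit 0)⟩)))
 (.n (.n (.n (.l ⟨(nat_lit 0xc0000d), (nat_lit 0x691b83242001), (nat_lit 0x64122018e), (nat_lit 0)⟩)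
 (.l ⟨(nat_lit 0xc0000d), (nat_lit 0x200701207012), (nat_lit 0x6d051593f94c5cd70), (nat_lit 0)⟩))
 (.l ⟨(nat_lit 0xc0000d), (nat_lit 0x1007011), (nat_lit 0x5a1752c0d54c5ad9401d415c586), (nat_lit 0)⟩))
 (.n (.n (.l ⟨(nat_lit 0x1200013), (nat_lit 0x131b50704801), (nat_lit 0x180433e87354172020030140101007), (nat_lit 0)⟩)
 (.l ⟨(nat_lit 0xc00013), (nat_lit 0x70100701207011), (nat_lit 0x3fc8a1a8050054d62d9b), (nat_lit 0)⟩))
 (.l ⟨(nat_lit 0xc0000d), (nat_lit 0x1f06c1607011), (nat_lit 0xd121070854967966), (nat_lit 0)⟩))))))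
 (.n (.n (.n (.n (.n (.n (.l ⟨(nat_lit 0xa0000b), (nat_lit 0x25971e01a), (nat_lit 0x10c195ac07), (nat_lit 0)⟩)
 (.l ⟨(nat_lit 0xc0000d), (nat_lit 0x1e0701707011), (nat_lit 0x162c88628d4a55d6d), (nat_lit 0)⟩))
 (.n (.l ⟨(nat_lit 0x140000d), (nat_lit 0xa52848476), (nat_lit 0x1255907084), (nat_lit 0)⟩)
 (.l ⟨(nat_lit 0xa00015), (nat_lit 0x641e0701207011), (nat_lit 0x353457417005005525dd65), (nat_lit 0)⟩)))
 (.n (.n (.l ⟨(nat_lit 0xc0000d), (nat_lit 0xc6427c55), (nat_lit 0x1655916029), (nat_lit 0)⟩)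
 (.l ⟨(nat_lit 0xc0000d), (nat_lit 0xf0641607011), (nat_lit 0x6640456054050054963188), (nat_lit 0)⟩))
 (.l ⟨(nat_lit 0xc0000d), (nat_lit 0x740e07014), (nat_lit 0x1c61cd1151455c97b), (nat_lit 0)⟩)))
 (.n (.n (.n (.l ⟨(nat_lit 0xc0000d), (nat_lit 0x135204dc35), (nat_lit 0x1cc5941c24), (nat_lit 0)⟩)
 (.l ⟨(nat_lit 0x120000d), (nat_lit 0x140141207011), (nat_lit 0x1bc0b1ec415054b), (nat_lit 0)⟩))
 (.l ⟨(nat_lit 0xc0000b), (nat_lit 0x841b03c03), (nat_lit 0x294458b2094159d92), (nat_lit 0)⟩))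
 (.n (.n (.l ⟨(nat_lit 0xe0000d), (nat_lit 0x17d5a1b938), (nat_lit 0x1993331011), (nat_lit 0)⟩)
 (.l ⟨(nat_lit 0xe0000e), (nat_lit 0x641f0600508019), (nat_lit 0), (nat_lit 0)⟩))
 (.l ⟨(nat_lit 0xc0000d), (nat_lit 0x6c110141d), (nat_lit 0x406145a354050055266d9a), (nat_lit 0)⟩))))
 (.n (.n (.n (.n (.l ⟨(nat_lit 0xc0000b), (nat_lit 0x81644c807), (nat_lit 0x711a19111), (nat_lit 0)⟩)
 (.l ⟨(nat_lit 0xc0000d), (nat_lit 0x30220641d), (nat_lit 0x511a994069435257d), (nat_lit 0)⟩))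
 (.l ⟨(nat_lit 0xc0000b), (nat_lit 0x801a07412), (nat_lit 0x1c1684109d5159570), (nat_lit 0)⟩))
 (.n (.n (.l ⟨(nat_lit 0xc0000d), (nat_lit 0x624ac7410805), (nat_lit 0x5c6530c3f), (nat_lit 0)⟩)
 (.l ⟨(nat_lit 0xc0000d), (nat_lit 0x6c1d06c1607007), (nat_lit 0x144e98e170050055d6658f), (nat_lit 0)⟩))
 (.l ⟨(nat_lit 0x120000d), (nat_lit 0x6c140681f), (nat_lit 0x6d2258a2154150d9d), (nat_lit 0)⟩)))
 (.n (.n (.n (.l ⟨(nat_lit 0xc0000d), (nat_lit 0x6f62c1d16403), (nat_lit 0x604e07e34d5951d85020030140101007), (nat_lit 0)⟩)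
 (.l ⟨(nat_lit 0xc0000d), (nat_lit 0x34210140707007), (nat_lit 0x172f16e0c405005455c586), (nat_lit 0)⟩))
 (.l ⟨(nat_lit 0xe0000d), (nat_lit 0x130681e07013), (nat_lit 0x6e0698d11d415c597), (nat_lit 0)⟩))
 (.n (.n (.l ⟨(nat_lit 0x120000d), (nat_lit 0x121251cc61), (nat_lit 0x50250821314d63d6f020030140101007), (nat_lit 0)⟩)
 (.l ⟨(nat_lit 0x1200013), (nat_lit 0x1206c0707011), (nat_lit 0x1543a458370140157175), (nat_lit 0)⟩))
 (.l ⟨(nat_lit 0xc0000d), (nat_lit 0x1d0701606415), (nat_lit 0x404bd7a1d94a5999e), (nat_lit 0)⟩)))))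
 (.n (.n (.n (.n (.n (.l ⟨(nat_lit 0xc0000b), (nat_lit 0x124815f829), (nat_lit 0x3418d2e0c401), (nat_lit 0)⟩)
 (.l ⟨(nat_lit 0xc0000d), (nat_lit 0x68160141e), (nat_lit 0x2065c3f1d4050054f5e59e), (nat_lit 0)⟩))
 (.n (.l ⟨(nat_lit 0xc00007), (nat_lit 0x110642207013), (nat_lit 0x3a20c6e1e95d61d79), (nat_lit 0)⟩)
 (.l ⟨(nat_lit 0xc00015), (nat_lit 0x701f06c2007007), (nat_lit 0x241205400c050054956d8d), (nat_lit 0)⟩)))
 (.n (.n (.l ⟨(nat_lit 0xc0000d), (nat_lit 0x5e4093a1b407), (nat_lit 0x570242718801), (nat_lit 0)⟩)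
 (.l ⟨(nat_lit 0x80000d), (nat_lit 0x702106c1f07010), (nat_lit 0x481c58c460050055166593), (nat_lit 0)⟩))
 (.l ⟨(nat_lit 0xc0000d), (nat_lit 0x1b0401f07013), (nat_lit 0x5e4f4191c9495f554), (nat_lit 0)⟩)))
 (.n (.n (.n (.l ⟨(nat_lit 0xc0000d), (nat_lit 0xa88110c74), (nat_lit 0x30e221cc3), (nat_lit 0)⟩)
 (.l ⟨(nat_lit 0xc0000d), (nat_lit 0x1e0642107007), (nat_lit 0x4746f4b8410140163591), (nat_lit 0)⟩))
 (.l ⟨(nat_lit 0xc0000d), (nat_lit 11271), (nat_lit 0x6f19d24175495d577), (nat_lit 0)⟩))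
 (.n (.n (.l ⟨(nat_lit 0x120000d), (nat_lit 0x8086130f1), (nat_lit 0x1e90f1f836), (nat_lit 0)⟩)
 (.l ⟨(nat_lit 0xc0000f), (nat_lit 0x2c1307007), (nat_lit 0x3657910100050054152d91), (nat_lit 0)⟩))
 (.l ⟨(nat_lit 0xc0000d), (nat_lit 0x701f06c1807007), (nat_lit 0x281ac950f1525f578), (nat_lit 0)⟩))))
 (.n (.n (.n (.n (.l ⟨(nat_lit 0xc0000d), (nat_lit 0x2d401745f), (nat_lit 0xd56c0d476), (nat_lit 0)⟩)
 (.l ⟨(nat_lit 0xe0000d), (nat_lit 0x140680707007), (nat_lit 0x4722019089506499d), (nat_lit 0)⟩))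
 (.l ⟨(nat_lit 0xc0000b), (nat_lit 0x1306c1206416), (nat_lit 0x3418d2e0c4016117f), (nat_lit 0)⟩))
 (.n (.n (.l ⟨(nat_lit 0xc0000d), (nat_lit 0x1701b5a883), (nat_lit 0x4d13486125645d575020030140101007), (nat_lit 0)⟩)
 (.l ⟨(nat_lit 0xc0000d), (nat_lit 0x5c210701107007), (nat_lit 0x435945b12005005505497f), (nat_lit 0)⟩))
 (.l ⟨(nat_lit 0xa0000d), (nat_lit 0x80130681107007), (nat_lit 0x6814d050c0050054c61180), (nat_lit 0)⟩)))
 (.n (.n (.n (.l ⟨(nat_lit 0xc0000d), (nat_lit 0x175793448a), (nat_lit 0x6824d9908801), (nat_lit 0)⟩)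
 (.l ⟨(nat_lit 0xc0000d), (nat_lit 0x1d0681406816), (nat_lit 0x671552005405005475f996), (nat_lit 0)⟩))
 (.l ⟨(nat_lit 0xc0000d), (nat_lit 0x220642106815), (nat_lit 0x54fd4d0070140164960), (nat_lit 0)⟩))
 (.n (.n (.l ⟨(nat_lit 0x140000b), (nat_lit 0x84580a084), (nat_lit 0xa9291c091), (nat_lit 0)⟩)
 (.l ⟨(nat_lit 0xc00013), (nat_lit 0x70640f07007), (nat_lit 0x224c4585d805005536198e), (nat_lit 0)⟩))
 (.l ⟨(nat_lit 0xc0000d), (nat_lit 0x130681307017), (nat_lit 0xf15fc8a0055962d99), (nat_lit 0)⟩)))))))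
 (.n (.n (.n (.n (.n (.n (.n (.l ⟨(nat_lit 0x600007), (nat_lit 0x553e09003), (nat_lit 0x712960c35), (nat_lit 0)⟩)
 (.l ⟨(nat_lit 0xa0000d), (nat_lit 0x701d014110141d), (nat_lit 0x5007c8934405005415816a), (nat_lit 0)⟩))
 (.n (.l ⟨(nat_lit 0x140000d), (nat_lit 0x17c353cc03), (nat_lit 0x1950709d6a), (nat_lit 0)⟩)
 (.l ⟨(nat_lit 0xc00015), (nat_lit 0x142007014), (nat_lit 0x638132f0050054566d83), (nat_lit 0)⟩)))
 (.n (.n (.l ⟨(nat_lit 0xc0000d), (nat_lit 0x1150f2f01e), (nat_lit 0x1548a1700f55d7b020030140101007), (nat_lit 0)⟩)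
 (.l ⟨(nat_lit 0xc0000d), (nat_lit 0x68210141f07010), (nat_lit 0x654003c1554151d82), (nat_lit 0)⟩))
 (.l ⟨(nat_lit 0xc0000d), (nat_lit 0x681e01415), (nat_lit 0xb1f0f30a55155d47), (nat_lit 0)⟩)))
 (.n (.n (.n (.l ⟨(nat_lit 0xc0000d), (nat_lit 0xcc591f45b), (nat_lit 0x7d93170f4), (nat_lit 0)⟩)
 (.l ⟨(nat_lit 0xc0000d), (nat_lit 0x1e0701d07014), (nat_lit 0x375fd3609005005475c15b), (nat_lit 0)⟩))
 (.l ⟨(nat_lit 0xe0000b), (nat_lit 0x1e06816), (nat_lit 0x421a0794a54d6515f0200301401010075a160), (nat_lit 0)⟩))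
 (.n (.n (.l ⟨(nat_lit 0xe0000d), (nat_lit 0x3c3554824), (nat_lit 0x6d36084bb), (nat_lit 0)⟩)
 (.l ⟨(nat_lit 0xe0000d), (nat_lit 0x1006c1f0141f), (nat_lit 0x403a57c8053168), (nat_lit 0)⟩))
 (.l ⟨(nat_lit 0xc0000d), (nat_lit 0x1e0641f07014), (nat_lit 0x51099604d475917c), (nat_lit 0)⟩))))
 (.n (.n (.n (.n (.l ⟨(nat_lit 0xc0000b), (nat_lit 0x345dc700f003), (nat_lit 0x1447200454), (nat_lit 0)⟩)
 (.l ⟨(nat_lit 0x120000d), (nat_lit 0x38200682007007), (nat_lit 0x11444571e56166578), (nat_lit 0)⟩))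
 (.l ⟨(nat_lit 0x1200009), (nat_lit 0xc06c1007007), (nat_lit 0x6f664191615f6217c), (nat_lit 0)⟩))
 (.n (.n (.l ⟨(nat_lit 0xc0000d), (nat_lit 0x110a213c1a), (nat_lit 0x5e8754f84d), (nat_lit 0)⟩)
 (.l ⟨(nat_lit 0xc0000d), (nat_lit 0x70701207014), (nat_lit 0x181980d164050056164969), (nat_lit 0)⟩))
 (.l ⟨(nat_lit 0xc0000d), (nat_lit 0x120641407013), (nat_lit 0x184e47508d4164d5b), (nat_lit 0)⟩)))
 (.n (.n (.n (.l ⟨(nat_lit 0xc0000d), (nat_lit 0x63215240fc01), (nat_lit 0x14c2027c1d52d95020030140101007), (nat_lit 0)⟩)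
 (.l ⟨(nat_lit 0x120000d), (nat_lit 0x6c1e06c1207011), (nat_lit 0x112fc8715d4f5b174), (nat_lit 0)⟩))
 (.l ⟨(nat_lit 0x120000d), (nat_lit 0x1d06c1307011), (nat_lit 0x6d01c6e3ad5767180), (nat_lit 0)⟩))
 (.n (.n (.l ⟨(nat_lit 0x120000d), (nat_lit 0x145350097), (nat_lit 0x250375cc07), (nat_lit 0)⟩)
 (.l ⟨(nat_lit 0xc00013), (nat_lit 0x110681107014), (nat_lit 0x343e440388050054154979), (nat_lit 0)⟩))
 (.l ⟨(nat_lit 0xc0000d), (nat_lit 0xf0701e07007), (nat_lit 0x4d18c3a0854359986), (nat_lit 0)⟩)))))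
 (.n (.n (.n (.n (.n (.l ⟨(nat_lit 0xc0000b), (nat_lit 0x456687904805), (nat_lit 0x18c5b4fc4c), (nat_lit 0)⟩)
 (.l ⟨(nat_lit 0x120000d), (nat_lit 0x160641407007), (nat_lit 0x32438601355359178), (nat_lit 0)⟩))
 (.n (.l ⟨(nat_lit 0xc00007), (nat_lit 7), (nat_lit 0x2343d6c01d49), (nat_lit 0)⟩)
 (.l ⟨(nat_lit 0xc00015), (nat_lit 0x220680f07010), (nat_lit 0x4009c5400c05005585958b), (nat_lit 0)⟩)))
 (.n (.n (.l ⟨(nat_lit 0xc0000d), (nat_lit 0x787907c48), (nat_lit 0x1590e11c62), (nat_lit 0)⟩)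
 (.l ⟨(nat_lit 0xc0000d), (nat_lit 0x1e0681f01421), (nat_lit 0x5322167201456699e), (nat_lit 0)⟩))
 (.l ⟨(nat_lit 0xc0000d), (nat_lit 0x130701306c1e), (nat_lit 0x601785c01c05005666159d), (nat_lit 0)⟩)))
 (.n (.n (.n (.l ⟨(nat_lit 0xc0000d), (nat_lit 0x846c0d01b), (nat_lit 0x12133208475157b57c07), (nat_lit 0)⟩)
 (.l ⟨(nat_lit 0x140000d), (nat_lit 0x160680707011), (nat_lit 0x194d0153dd4f), (nat_lit 0)⟩))
 (.l ⟨(nat_lit 0xc0000c), (nat_lit 0x2c210501c), (nat_lit 0), (nat_lit 0)⟩))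
 (.n (.n (.l ⟨(nat_lit 0x120000b), (nat_lit 0x16ceb12c70), (nat_lit 0x11993919003), (nat_lit 0)⟩)
 (.l ⟨(nat_lit 0xe0000f), (nat_lit 0x1e0681d06415), (nat_lit 0x1853c2106352581558020180901c050200a0300c0300901c050200a02c0701408014010200b02d4354551), (nat_lit 0)⟩))
 (.l ⟨(nat_lit 0x140000d), (nat_lit 0x2c1e07012), (nat_lit 0x4f574561214b6658b), (nat_lit 0)⟩))))
 (.n (.n (.n (.n (.l ⟨(nat_lit 0x60000d), (nat_lit 0x846c10c3f), (nat_lit 0x2255522836), (nat_lit 0)⟩)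
 (.l ⟨(nat_lit 0xa0000d), (nat_lit 0x781c0841c05c03), (nat_lit 0x1755c2041000405005435ad9b), (nat_lit 0)⟩))
 (.l ⟨(nat_lit 0xe0000b), (nat_lit 0xf0141506415), (nat_lit 0x1593c5d84150d91604075b172), (nat_lit 0)⟩))
 (.n (.n (.l ⟨(nat_lit 0xc0000d), (nat_lit 0x16d0018865), (nat_lit 0x702a21c7a), (nat_lit 0)⟩)
 (.l ⟨(nat_lit 0x80000d), (nat_lit 0x301e0141007007), (nat_lit 0x65209761c005005495d175), (nat_lit 0)⟩))
 (.l ⟨(nat_lit 0xc0000d), (nat_lit 0x140141607017), (nat_lit 0x332d8832f405005475d15c), (nat_lit 0)⟩)))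
 (.n (.n (.n (.l ⟨(nat_lit 0xc0000d), (nat_lit 0x1095818434), (nat_lit 0x559e084fd), (nat_lit 0)⟩)
 (.l ⟨(nat_lit 0xc0000d), (nat_lit 0x5c1306c1307007), (nat_lit 0x10c18c6f00c050055966959), (nat_lit 0)⟩))
 (.l ⟨(nat_lit 0xc0000d), (nat_lit 0x1c0681807007), (nat_lit 0x1981d575104050055b64d4a), (nat_lit 0)⟩))
 (.n (.n (.l ⟨(nat_lit 0x140000b), (nat_lit 0x68313d024), (nat_lit 0x1482756407), (nat_lit 0)⟩)
 (.l ⟨(nat_lit 0xc00013), (nat_lit 0x100701107014), (nat_lit 0x4917c7f41405005575856c), (nat_lit 0)⟩))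
 (.l ⟨(nat_lit 0xa0000d), (nat_lit 0x1b0481c04c03), (nat_lit 0x11c585d84c004050056861d75), (nat_lit 0)⟩))))))
 (.n (.n (.n (.n (.n (.n (.l ⟨(nat_lit 0xc00007), (nat_lit 0x4987d5f43c), (nat_lit 0x184eb14977), (nat_lit 0)⟩)
 (.l ⟨(nat_lit 0xc0000d), (nat_lit 0x6c0f0641f), (nat_lit 0xff1411d014015958a), (nat_lit 0)⟩))
 (.n (.l ⟨(nat_lit 0x140000d), (nat_lit 0xd53d65833), (nat_lit 0x134284400c), (nat_lit 0)⟩)
 (.l ⟨(nat_lit 0xc00015), (nat_lit 0xf0141f07017), (nat_lit 0x418eb074050054d66d57), (nat_lit 0)⟩)))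
 (.n (.n (.l ⟨(nat_lit 0xc0000d), (nat_lit 0x850f5a012), (nat_lit 0x7c104c015), (nat_lit 0)⟩)
 (.l ⟨(nat_lit 0x140000d), (nat_lit 0x17064100641d), (nat_lit 0x52d6d5c80800c050040401d4557d84), (nat_lit 0)⟩))
 (.l ⟨(nat_lit 0xc0000d), (nat_lit 0x6c1306c1706c20), (nat_lit 0x1a99e218100140151584), (nat_lit 0)⟩)))
 (.n (.n (.n (.l ⟨(nat_lit 0xc0000d), (nat_lit 0x16c434240d), (nat_lit 0x84a21b80b), (nat_lit 0)⟩)
 (.l ⟨(nat_lit 0xc0000d), (nat_lit 0x1d0681407013), (nat_lit 0x184844291600c05005605ad8f), (nat_lit 0)⟩))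
 (.l ⟨(nat_lit 0xc0000b), (nat_lit 0x6c1506c2201415), (nat_lit 0xc51e14c3c58d76), (nat_lit 0)⟩))
 (.n (.n (.l ⟨(nat_lit 0xe0000d), (nat_lit 0xdc660e963), (nat_lit 0x1b4bc07959), (nat_lit 0)⟩)
 (.l ⟨(nat_lit 0xc0000f), (nat_lit 0x106c1406816), (nat_lit 0x1982a1ac660140165581), (nat_lit 0)⟩))
 (.l ⟨(nat_lit 0x140000d), (nat_lit 0x5c1906c1107007), (nat_lit 0x3b5d46164d435b186), (nat_lit 0)⟩))))
 (.n (.n (.n (.n (.l ⟨(nat_lit 0xc0000b), (nat_lit 0x60865fc45), (nat_lit 0x1048a46840), (nat_lit 0)⟩)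
 (.l ⟨(nat_lit 0xc0000d), (nat_lit 0x220142007010), (nat_lit 0x1344d21849591755d40800c050040401d415499d), (nat_lit 0)⟩))
 (.l ⟨(nat_lit 0xc0000b), (nat_lit 0x141706416), (nat_lit 0x18d90158bd6419b), (nat_lit 0)⟩))
 (.n (.n (.l ⟨(nat_lit 0xc0000d), (nat_lit 0x1a8411947c), (nat_lit 0x48a0eca2), (nat_lit 0)⟩)
 (.l ⟨(nat_lit 0xc0000d), (nat_lit 0x701406c100681e), (nat_lit 0x7011cc302c050055561d9a), (nat_lit 0)⟩))
 (.l ⟨(nat_lit 0xc0000d), (nat_lit 0x106c0707011), (nat_lit 0x5b5646a0e8050054a5fd6c), (nat_lit 0)⟩)))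
 (.n (.n (.n (.l ⟨(nat_lit 0xc0000d), (nat_lit 0x16c0747436), (nat_lit 0x713b2111b), (nat_lit 0)⟩)
 (.l ⟨(nat_lit 0xc0000d), (nat_lit 0x14210140f07011), (nat_lit 0x108c2454500054f61599), (nat_lit 0)⟩))
 (.l ⟨(nat_lit 0x120000d), (nat_lit 0x2206c1f), (nat_lit 0xc0a31083654198), (nat_lit 0)⟩))
 (.n (.n (.l ⟨(nat_lit 0x120000f), (nat_lit 0x305b63c7c), (nat_lit 0x4c863f432), (nat_lit 0)⟩)
 (.l ⟨(nat_lit 0x1200013), (nat_lit 25631), (nat_lit 0x64810c108555875340800c050040401d475e982), (nat_lit 0)⟩))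
 (.l ⟨(nat_lit 0xc0000d), (nat_lit 0x6c1f07011), (nat_lit 0x5b598742d5695dd77), (nat_lit 0)⟩)))))
 (.n (.n (.n (.n (.n (.l ⟨(nat_lit 0xc0000b), (nat_lit 0x513e0c097), (nat_lit 0xe59604c5f), (nat_lit 0)⟩)
 (.l ⟨(nat_lit 0x120000d), (nat_lit 0x64100641e), (nat_lit 0x21158514b1546156c), (nat_lit 0)⟩))
 (.n (.l ⟨(nat_lit 0xc00007), (nat_lit 0x1b0741903c03), (nat_lit 0x1c1cc7a0bd4d54165), (nat_lit 0)⟩)
 (.l ⟨(nat_lit 0xc00015), (nat_lit 0x1f06c1007016), (nat_lit 0x115323e8170140151d55), (nat_lit 0)⟩)))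
 (.n (.n (.l ⟨(nat_lit 0xc0000d), (nat_lit 0x142201a1bc01), (nat_lit 0xc4f416069), (nat_lit 0)⟩)
 (.l ⟨(nat_lit 0xc0000d), (nat_lit 0x17070100641d), (nat_lit 0x58488283ec050054561165), (nat_lit 0)⟩))
 (.l ⟨(nat_lit 0x140000d), (nat_lit 0x781a03c03), (nat_lit 0x561ec6300d4967154), (nat_lit 0)⟩)))
 (.n (.n (.n (.l ⟨(nat_lit 0xc0000d), (nat_lit 0x16d7e1b00f), (nat_lit 0x1681811c69), (nat_lit 0)⟩)
 (.l ⟨(nat_lit 0xc0000d), (nat_lit 0x20070140681e), (nat_lit 0x18106610540140152d65), (nat_lit 0)⟩))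
 (.l ⟨(nat_lit 0xc0000d), (nat_lit 0x1106c1207010), (nat_lit 0x4094040050054166968), (nat_lit 0)⟩))
 (.n (.n (.l ⟨(nat_lit 0x120000d), (nat_lit 0xb70811d), (nat_lit 0x2c665b420), (nat_lit 0)⟩)
 (.l ⟨(nat_lit 0x80000f), (nat_lit 0x64210681207013), (nat_lit 0x1e4286d600050054d5b59a), (nat_lit 0)⟩))
 (.l ⟨(nat_lit 0xc0000d), (nat_lit 0x170702201416), (nat_lit 0x812a0801101401505725940800c050040401d435419d), (nat_lit 0)⟩))))
 (.n (.n (.n (.n (.l ⟨(nat_lit 0xc0000d), (nat_lit 0x6f16c440c401), (nat_lit 0x9c221c0ec), (nat_lit 0)⟩)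
 (.l ⟨(nat_lit 0xe0000d), (nat_lit 0x16064120681e), (nat_lit 0x1394c08a1015860d9b), (nat_lit 0)⟩))
 (.l ⟨(nat_lit 0xc0000b), (nat_lit 0x701706c1807010), (nat_lit 0x65953d04d51560), (nat_lit 0)⟩))
 (.n (.n (.l ⟨(nat_lit 0xc0000d), (nat_lit 0x1812b0c125), (nat_lit 0x104eb08401), (nat_lit 0)⟩)
 (.l ⟨(nat_lit 0xc0000d), (nat_lit 0x706c1d0681d), (nat_lit 0x1255f11c56014015a991), (nat_lit 0)⟩))
 (.l ⟨(nat_lit 0xc0000d), (nat_lit 0x44180701207013), (nat_lit 0x5420909064050054556572), (nat_lit 0)⟩)))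
 (.n (.n (.n (.l ⟨(nat_lit 0xc0000d), (nat_lit 0x545f1898b), (nat_lit 0x19d601f0f9), (nat_lit 0)⟩)
 (.l ⟨(nat_lit 0xc0000d), (nat_lit 0x1e0681d0641d), (nat_lit 0x350cc5d0d0050054564d68), (nat_lit 0)⟩))
 (.l ⟨(nat_lit 0xc0000d), (nat_lit 0x1806c1d07011), (nat_lit 0x113ac653f405005515797f008060280300806010075c57c), (nat_lit 0)⟩))
 (.n (.n (.l ⟨(nat_lit 0x140000d), (nat_lit 0x2c46f4a040), (nat_lit 0x6e4848a), (nat_lit 0)⟩)
 (.l ⟨(nat_lit 0xe00013), (nat_lit 0x5c130141d), (nat_lit 0x4920c4b050050055161998), (nat_lit 0)⟩))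
 (.l ⟨(nat_lit 0x120000d), (nat_lit 0x141006c2107007), (nat_lit 0x5619876089435357c), (nat_lit 0)⟩)))))))
noncomputable def T31 : Tr :=
  .n (.n (.n (.n (.n (.n (.n (.n (.l ⟨(nat_lit 0), (nat_lit 0), (nat_lit 0), (nat_lit 0)⟩)
 (.l ⟨(nat_lit 0xc0000d), (nat_lit 0x581e01415), (nat_lit 0x654ed290a54c63964), (nat_lit 0)⟩))
 (.n (.l ⟨(nat_lit 0x140000d), (nat_lit 0x444b02401), (nat_lit 0x18706094), (nat_lit 0)⟩)
 (.l ⟨(nat_lit 0xc00013), (nat_lit 0x200141107010), (nat_lit 0x6d1c081088010140166186), (nat_lit 0)⟩)))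
 (.n (.n (.l ⟨(nat_lit 0xc0000d), (nat_lit 0x133f01314001), (nat_lit 0x184535d876), (nat_lit 0)⟩)
 (.l ⟨(nat_lit 0xc0000d), (nat_lit 0x160681107011), (nat_lit 0x1786e63536014015e99c), (nat_lit 0)⟩))
 (.l ⟨(nat_lit 0x80000d), (nat_lit 0x1d0141d01416), (nat_lit 0x654e07c14405005595b187), (nat_lit 0)⟩)))
 (.n (.n (.n (.l ⟨(nat_lit 0xc0000d), (nat_lit 0xc4161dc61), (nat_lit 0xc08662cfa), (nat_lit 0)⟩)
 (.l ⟨(nat_lit 0x60000d), (nat_lit 0x64200141007007), (nat_lit 0x3f1ad7f0154b5c18b), (nat_lit 0)⟩))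
 (.l ⟨(nat_lit 0xe0000b), (nat_lit 0x64160701207007), (nat_lit 0x543b042415435f56d), (nat_lit 0)⟩))
 (.n (.n (.l ⟨(nat_lit 0xe0000e), (nat_lit 145), (nat_lit 0), (nat_lit 0)⟩)
 (.l ⟨(nat_lit 0x120000d), (nat_lit 0x14160701207007), (nat_lit 0x156407d5d54565), (nat_lit 0)⟩))
 (.l ⟨(nat_lit 0x60000d), (nat_lit 0x1d0641507007), (nat_lit 0x3f1d591180050055464d95), (nat_lit 0)⟩))))
 (.n (.n (.n (.n (.l ⟨(nat_lit 0xc0000b), (nat_lit 0x1ad050d878), (nat_lit 0x1ad9316c80), (nat_lit 0)⟩)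
 (.l ⟨(nat_lit 0xc0000d), (nat_lit 0x68220641e), (nat_lit 0xd4700a8675157b), (nat_lit 0)⟩))
 (.n (.l ⟨(nat_lit 0x600007), (nat_lit 0xf0141506415), (nat_lit 0x42c44164050054c5e55c), (nat_lit 0)⟩)
 (.l ⟨(nat_lit 0xc00015), (nat_lit 0x1006c1d07012), (nat_lit 0x1215c1d544050055a6199b), (nat_lit 0)⟩)))
 (.n (.n (.l ⟨(nat_lit 0xc0000d), (nat_lit 0xa0f463418), (nat_lit 0xa47712064), (nat_lit 0)⟩)
 (.l ⟨(nat_lit 0xc0000d), (nat_lit 0x1306c0707013), (nat_lit 0xc21548070140155d90), (nat_lit 0)⟩))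
 (.l ⟨(nat_lit 0xe0000d), (nat_lit 0x541a04803), (nat_lit 0x1405c454795ed68), (nat_lit 0)⟩)))
 (.n (.n (.n (.l ⟨(nat_lit 0xc0000d), (nat_lit 0x1a92f1ad6d), (nat_lit 0x1488534827), (nat_lit 0)⟩)
 (.l ⟨(nat_lit 0xc0000d), (nat_lit 0xf06c120641f), (nat_lit 0x3224175994b5f190), (nat_lit 0)⟩))
 (.l ⟨(nat_lit 0xe0000d), (nat_lit 24593), (nat_lit 0x310d3cd50), (nat_lit 0)⟩))
 (.n (.n (.l ⟨(nat_lit 0x120000d), (nat_lit 0xd0f9100e2), (nat_lit 0xfcfc3547c), (nat_lit 0)⟩)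
 (.l ⟨(nat_lit 0x1200011), (nat_lit 0x1906c1107007), (nat_lit 0x73b1081b5435b186), (nat_lit 0)⟩))
 (.l ⟨(nat_lit 0xc0000d), (nat_lit 0x17070160701e), (nat_lit 0x5f3ad2115401014016657d), (nat_lit 0)⟩)))))
 (.n (.n (.n (.n (.n (.l ⟨(nat_lit 0xc00009), (nat_lit 0x100241b8a1), (nat_lit 0x718f16451), (nat_lit 0)⟩)
 (.l ⟨(nat_lit 0xc0000d), (nat_lit 0x381d0642007007), (nat_lit 0x1c5746e1955167991), (nat_lit 0)⟩))
 (.n (.l ⟨(nat_lit 0x1400013), (nat_lit 0x1604d5f8e1), (nat_lit 0x4f0526780d), (nat_lit 0)⟩)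
 (.l ⟨(nat_lit 0xe00015), (nat_lit 0x2006c150641d), (nat_lit 0x3c3891001c05005415f192), (nat_lit 0)⟩)))
 (.n (.n (.l ⟨(nat_lit 0xc0000d), (nat_lit 0x12d7f12c29), (nat_lit 0x13660f405c050055664407), (nat_lit 0)⟩)
 (.l ⟨(nat_lit 0xa0000d), (nat_lit 0x1e014170141d), (nat_lit 0x3a4781d02c05005686518c), (nat_lit 0)⟩))
 (.l ⟨(nat_lit 0xc0000d), (nat_lit 0x64160140707007), (nat_lit 0x604b4f47f014050054963580), (nat_lit 0)⟩)))
 (.n (.n (.n (.l ⟨(nat_lit 0xc0000d), (nat_lit 0x13d6d55c12), (nat_lit 0x1b8b318009), (nat_lit 0)⟩)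
 (.l ⟨(nat_lit 0x140000d), (nat_lit 0x1406c1107007), (nat_lit 0x495641c2114d66998), (nat_lit 0)⟩))
 (.l ⟨(nat_lit 0x140000b), (nat_lit 0x601b03c03), (nat_lit 0x6e0c9400fd5959592), (nat_lit 0)⟩))
 (.n (.n (.l ⟨(nat_lit 0xe0000d), (nat_lit 0x15c375a461), (nat_lit 0x4d991b8bd), (nat_lit 0)⟩)
 (.l ⟨(nat_lit 0xc0000f), (nat_lit 0x6c0701416), (nat_lit 0x6b5b03c1b8050054166d58), (nat_lit 0)⟩))
 (.l ⟨(nat_lit 0xc0000d), (nat_lit 0x401e01415), (nat_lit 0x1010f2217a63145), (nat_lit 0)⟩))))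
 (.n (.n (.n (.n (.l ⟨(nat_lit 0xc0000d), (nat_lit 0x100c15), (nat_lit 0xa1581d41c), (nat_lit 0)⟩)
 (.l ⟨(nat_lit 0xe0000d), (nat_lit 0x60110680707011), (nat_lit 0x136646e2f54566d9b), (nat_lit 0)⟩))
 (.l ⟨(nat_lit 0xc0000b), (nat_lit 0x200141306c20), (nat_lit 0x554b04f1b54d5b988), (nat_lit 0)⟩))
 (.n (.n (.l ⟨(nat_lit 0xc0000d), (nat_lit 0x14783ec55), (nat_lit 0x1005c459195518c020030140101007), (nat_lit 0)⟩)
 (.l ⟨(nat_lit 0xc0000d), (nat_lit 0x1e0701007016), (nat_lit 0x325d8693e405005475a183), (nat_lit 0)⟩))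
 (.l ⟨(nat_lit 0xc0000d), (nat_lit 0x642107012), (nat_lit 0x142150504005005475499e), (nat_lit 0)⟩)))
 (.n (.n (.n (.l ⟨(nat_lit 0xc0000d), (nat_lit 0x179113ac71), (nat_lit 0x54502c45b), (nat_lit 0)⟩)
 (.l ⟨(nat_lit 0x120000d), (nat_lit 0x14220700707007), (nat_lit 0x3068561114a58d6f), (nat_lit 0)⟩))
 (.l ⟨(nat_lit 0xc0000d), (nat_lit 0x640f06c2007007), (nat_lit 0x47178b80f15764979), (nat_lit 0)⟩))
 (.n (.n (.l ⟨(nat_lit 0x1200013), (nat_lit 0xfc6713c95), (nat_lit 0x1906b57011), (nat_lit 0)⟩)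
 (.l ⟨(nat_lit 0xc00013), (nat_lit 0x2c200701107007), (nat_lit 0xa0571d05400c05005545f15c), (nat_lit 0)⟩))
 (.l ⟨(nat_lit 0xc0000d), (nat_lit 0x100142207013), (nat_lit 0x81160f30c97458d73), (nat_lit 0)⟩))))))
 (.n (.n (.n (.n (.n (.n (.l ⟨(nat_lit 0xa0000a), (nat_lit 0x110441012f), (nat_lit 0), (nat_lit 0)⟩)
 (.l ⟨(nat_lit 0x120000d), (nat_lit 0x702206816), (nat_lit 0x121b87b5694c6455f), (nat_lit 0)⟩))
 (.n (.l ⟨(nat_lit 0x140000d), (nat_lit 0xc13466816), (nat_lit 0x682d15c1a805), (nat_lit 0)⟩)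
 (.l ⟨(nat_lit 0xc00015), (nat_lit 25616), (nat_lit 0xd10c405005565f991), (nat_lit 0)⟩)))
 (.n (.n (.l ⟨(nat_lit 0xc0000d), (nat_lit 0x58d0015031), (nat_lit 0x13c1e3f4f4), (nat_lit 0)⟩)
 (.l ⟨(nat_lit 0x120000d), (nat_lit 0x700f0700707011), (nat_lit 0x601dcbb189455457e), (nat_lit 0)⟩))
 (.l ⟨(nat_lit 0xc0000d), (nat_lit 0x160641706c1d), (nat_lit 0x4d01d0d15d5259987), (nat_lit 0)⟩)))
 (.n (.n (.n (.l ⟨(nat_lit 0xc0000d), (nat_lit 0x544118d32), (nat_lit 0x1446b1b42a), (nat_lit 0)⟩)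
 (.l ⟨(nat_lit 0xc0000d), (nat_lit 0x1d0641e06c1d), (nat_lit 0xc5690d1cc050055a62978), (nat_lit 0)⟩))
 (.l ⟨(nat_lit 0xc0000b), (nat_lit 0x180641306816), (nat_lit 0x70c8781614556960), (nat_lit 0)⟩))
 (.n (.n (.l ⟨(nat_lit 0xe0000d), (nat_lit 0x1ad6c0f06e), (nat_lit 0x840b141495997c020030140101007), (nat_lit 0)⟩)
 (.l ⟨(nat_lit 0xc0000d), (nat_lit 0x1c1a06c1207007), (nat_lit 0x1e5994084e0140160d5b), (nat_lit 0)⟩))
 (.l ⟨(nat_lit 0xc0000d), (nat_lit 0x4c1b0800b), (nat_lit 0x2417c5319805005495e99c), (nat_lit 0)⟩))))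
 (.n (.n (.n (.n (.l ⟨(nat_lit 0xc0000b), (nat_lit 0x12d7a0d84e), (nat_lit 0x318619d8c), (nat_lit 0)⟩)
 (.l ⟨(nat_lit 0xe0000d), (nat_lit 0x14070641d), (nat_lit 0x275d06d1454761561), (nat_lit 0)⟩))
 (.l ⟨(nat_lit 0xc00009), (nat_lit 0x682006420), (nat_lit 0x7a17d1d0d94a5fd47), (nat_lit 0)⟩))
 (.n (.n (.l ⟨(nat_lit 0xc0000d), (nat_lit 0x8260487), (nat_lit 0x1b8051d167), (nat_lit 0)⟩)
 (.l ⟨(nat_lit 0xc0000d), (nat_lit 0x6c1d0681107011), (nat_lit 0x4114d1d1414761d77), (nat_lit 0)⟩))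
 (.l ⟨(nat_lit 0xc0000d), (nat_lit 0x1f06c1207007), (nat_lit 0x3f5cd071918062c0800c050040401d505b17c), (nat_lit 0)⟩)))
 (.n (.n (.n (.l ⟨(nat_lit 0xc0000d), (nat_lit 0x151661343c), (nat_lit 0x3c3f0714b63967020030140101007), (nat_lit 0)⟩)
 (.l ⟨(nat_lit 0xc0000d), (nat_lit 0x1f0702007007), (nat_lit 0x424c44e054050054967180), (nat_lit 0)⟩))
 (.l ⟨(nat_lit 0xc0000d), (nat_lit 0x160141406815), (nat_lit 0x64c1c3cc1754551614020180901c050200a0300c0300901c050200a02c0701408014010200b02d6566594), (nat_lit 0)⟩))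
 (.n (.n (.l ⟨(nat_lit 0x120000d), (nat_lit 0x152d06c71), (nat_lit 0x174743f81164152020030140101007), (nat_lit 0)⟩)
 (.l ⟨(nat_lit 0x1200013), (nat_lit 0x781c0840501c03), (nat_lit 0xd41ac6d01c050054a5ad94), (nat_lit 0)⟩))
 (.l ⟨(nat_lit 0x140000d), (nat_lit 0x1d0701207012), (nat_lit 0x187060946719402003014010100765d99), (nat_lit 0)⟩)))))
 (.n (.n (.n (.n (.n (.l ⟨(nat_lit 0xc0000b), (nat_lit 0xc49f0d40b), (nat_lit 0xd41066405), (nat_lit 0)⟩)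
 (.l ⟨(nat_lit 0xc0000d), (nat_lit 0x1d06c1307010), (nat_lit 0xf712c620c1525cd8f), (nat_lit 0)⟩))
 (.n (.l ⟨(nat_lit 0x800007), (nat_lit 0x200641e01416), (nat_lit 0x246418901d5559551), (nat_lit 0)⟩)
 (.l ⟨(nat_lit 0x1400015), (nat_lit 0x641506415), (nat_lit 0x1415c760a14757960), (nat_lit 0)⟩)))
 (.n (.n (.l ⟨(nat_lit 0xc0000d), (nat_lit 0x174416547e), (nat_lit 0x12c201fc1a), (nat_lit 0)⟩)
 (.l ⟨(nat_lit 0xc0000d), (nat_lit 0x1d0681107013), (nat_lit 0x20c4017449014015b54c), (nat_lit 0)⟩))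
 (.l ⟨(nat_lit 0xe0000d), (nat_lit 0x681506c1207014), (nat_lit 0x40b4d48a005415154d), (nat_lit 0)⟩)))
 (.n (.n (.n (.l ⟨(nat_lit 0xc0000d), (nat_lit 0x1752c1e4ff), (nat_lit 0xe478614b4), (nat_lit 0)⟩)
 (.l ⟨(nat_lit 0xc0000d), (nat_lit 0x1006c1307007), (nat_lit 0x3046cfc0855c5f192), (nat_lit 0)⟩))
 (.l ⟨(nat_lit 0xc0000d), (nat_lit 0x150140707012), (nat_lit 0x5b20c9303d435f182), (nat_lit 0)⟩))
 (.n (.n (.l ⟨(nat_lit 0x120000d), (nat_lit 0x164b11f834), (nat_lit 0xc5001c048), (nat_lit 0)⟩)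
 (.l ⟨(nat_lit 0x120000f), (nat_lit 0x841d01415), (nat_lit 0x4e1895a1d14b5a953), (nat_lit 0)⟩))
 (.l ⟨(nat_lit 0xe0000d), (nat_lit 0x210701e07012), (nat_lit 0x5a0114a84e63599), (nat_lit 0)⟩))))
 (.n (.n (.n (.n (.l ⟨(nat_lit 0xc0000d), (nat_lit 0x496006812), (nat_lit 0x1086d060ff), (nat_lit 0)⟩)
 (.l ⟨(nat_lit 0xc0000d), (nat_lit 0x1c0881a05c03), (nat_lit 0xfc1dd7812005005415a174), (nat_lit 0)⟩))
 (.l ⟨(nat_lit 0xc0000b), (nat_lit 0x1d0641407011), (nat_lit 0x1d8bc190215054f), (nat_lit 0)⟩))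
 (.n (.n (.l ⟨(nat_lit 0xc0000d), (nat_lit 0x1c18d0f08401), (nat_lit 0x1ac7a44844), (nat_lit 0)⟩)
 (.l ⟨(nat_lit 0xa0000d), (nat_lit 0x20064170641e), (nat_lit 0x913d01c050054151d73), (nat_lit 0)⟩))
 (.l ⟨(nat_lit 0xc0000d), (nat_lit 0x382007007), (nat_lit 0x6059c13044050054b5b57e), (nat_lit 0)⟩)))
 (.n (.n (.n (.l ⟨(nat_lit 0xc0000d), (nat_lit 0x4f068ff17801), (nat_lit 0x807b66862), (nat_lit 0)⟩)
 (.l ⟨(nat_lit 0x60000d), (nat_lit 0x5c1e0700707011), (nat_lit 0x1b12841c5e0054f6657d), (nat_lit 0)⟩))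
 (.l ⟨(nat_lit 0xa0000d), (nat_lit 0x1b0542007010), (nat_lit 0x6d4f4d6134050054351579), (nat_lit 0)⟩))
 (.n (.n (.l ⟨(nat_lit 0x140000b), (nat_lit 0x145f4e486), (nat_lit 0x1b03617124), (nat_lit 0)⟩)
 (.l ⟨(nat_lit 0x1200013), (nat_lit 0x180701207014), (nat_lit 0xc0af134725918e58c0800c050040401d5a64d69), (nat_lit 0)⟩))
 (.l ⟨(nat_lit 0xc0000d), (nat_lit 0x1706c180701e), (nat_lit 0x6b1358b0a805005535dd6d01d5964570), (nat_lit 0)⟩)))))))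
 (.n (.n (.n (.n (.n (.n (.n (.l ⟨(nat_lit 0x600006), (nat_lit 154815), (nat_lit 0), (nat_lit 0)⟩)
 (.l ⟨(nat_lit 0xa0000d), (nat_lit 0x801b0841a04403), (nat_lit 0x304a06e3ac05005455fd78), (nat_lit 0)⟩))
 (.n (.l ⟨(nat_lit 0x140000d), (nat_lit 0x1b04213883), (nat_lit 0x14753583020030140101007), (nat_lit 0)⟩)
 (.l ⟨(nat_lit 0x1400015), (nat_lit 20500), (nat_lit 0x545f8ec20943679810080602407014080280c0300c02407014080280b01c05020050040802c0b59182), (nat_lit 0)⟩)))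
 (.n (.n (.l ⟨(nat_lit 0xc0000d), (nat_lit 0x10c891400e), (nat_lit 0x39881ecbf), (nat_lit 0)⟩)
 (.l ⟨(nat_lit 0xc0000d), (nat_lit 0x1f0681607011), (nat_lit 0x181e00d1bd4f60977), (nat_lit 0)⟩))
 (.l ⟨(nat_lit 0x120000d), (nat_lit 0x140681e), (nat_lit 0x5c7e3e0e153d4d), (nat_lit 0)⟩)))
 (.n (.n (.n (.l ⟨(nat_lit 0xc0000d), (nat_lit 0x1456a1e93e), (nat_lit 0x883b1ccc2), (nat_lit 0)⟩)
 (.l ⟨(nat_lit 0xc0000d), (nat_lit 0x641d06c1307010), (nat_lit 0x291093b085496319d), (nat_lit 0)⟩))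
 (.l ⟨(nat_lit 0xc0000b), (nat_lit 0x741c0801901c03), (nat_lit 0x3f18c2f45d4164d4d), (nat_lit 0)⟩))
 (.n (.n (.l ⟨(nat_lit 0xe0000b), (nat_lit 0x64765a0f3), (nat_lit 0x150ec10905), (nat_lit 0)⟩)
 (.l ⟨(nat_lit 0xc0000d), (nat_lit 0x1406c1207017), (nat_lit 0x3551d1b4170140158d97), (nat_lit 0)⟩))
 (.l ⟨(nat_lit 0xc0000d), (nat_lit 0x242006c1307010), (nat_lit 0x391e1852d1535e598), (nat_lit 0)⟩))))
 (.n (.n (.n (.n (.l ⟨(nat_lit 0xc0000b), (nat_lit 0xa92a4b007), (nat_lit 0x2d50215c1e), (nat_lit 0)⟩)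
 (.l ⟨(nat_lit 0xc0000d), (nat_lit 0x106c0f0701e), (nat_lit 0x500755508c05005415d582), (nat_lit 0)⟩))
 (.l ⟨(nat_lit 0x1400009), (nat_lit 12308), (nat_lit 0x45911486e5059d), (nat_lit 0)⟩))
 (.n (.n (.l ⟨(nat_lit 0xc0000d), (nat_lit 0x5f3ad2115401), (nat_lit 0x1a12d46463), (nat_lit 0)⟩)
 (.l ⟨(nat_lit 0xc0000d), (nat_lit 0x200700f0641d), (nat_lit 0x50480591214160147), (nat_lit 0)⟩))
 (.l ⟨(nat_lit 0xc0000d), (nat_lit 0x601507010), (nat_lit 0x1071a0910394f59993), (nat_lit 0)⟩)))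
 (.n (.n (.n (.l ⟨(nat_lit 0xc0000d), (nat_lit 0x108681f405), (nat_lit 0x1acc40810f), (nat_lit 0)⟩)
 (.l ⟨(nat_lit 0xc0000d), (nat_lit 0x200141007013), (nat_lit 0x541a58711c050054561594), (nat_lit 0)⟩))
 (.l ⟨(nat_lit 0xc0000d), (nat_lit 0x160681406821), (nat_lit 0x1490e0a0010140155581), (nat_lit 0)⟩))
 (.n (.n (.l ⟨(nat_lit 0x120000d), (nat_lit 0x134a112190), (nat_lit 0x181855e413), (nat_lit 0)⟩)
 (.l ⟨(nat_lit 0xc00013), (nat_lit 0x441d0140707007), (nat_lit 0x54b41b1c405005455cd59), (nat_lit 0)⟩))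
 (.l ⟨(nat_lit 0xc0000d), (nat_lit 0x6c120701e), (nat_lit 0x3217952218050054956966), (nat_lit 0)⟩)))))
 (.n (.n (.n (.n (.n (.l ⟨(nat_lit 0xc0000b), (nat_lit 0x10140b), (nat_lit 217114), (nat_lit 0)⟩)
 (.l ⟨(nat_lit 0xc0000d), (nat_lit 0x1d0641e01416), (nat_lit 0x17a1d53e135556498e), (nat_lit 0)⟩))
 (.n (.l ⟨(nat_lit 0x200005), (nat_lit 0), (nat_lit 0x701401), (nat_lit 0)⟩)
 (.l ⟨(nat_lit 0x1200015), (nat_lit 0x160141306815), (nat_lit 0x35851113500c05005525498b), (nat_lit 0)⟩)))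
 (.n (.n (.l ⟨(nat_lit 0xc0000d), (nat_lit 0x104b443015), (nat_lit 0xbd8c3f01d), (nat_lit 0)⟩)
 (.l ⟨(nat_lit 0xc0000d), (nat_lit 0x220141007011), (nat_lit 0x12c201fc1a59d7c), (nat_lit 0)⟩))
 (.l ⟨(nat_lit 0xc0000d), (nat_lit 0x700f06c0f07007), (nat_lit 0x4e58d320a0050056057590), (nat_lit 0)⟩)))
 (.n (.n (.n (.l ⟨(nat_lit 0xc0000d), (nat_lit 0xc1241d41c), (nat_lit 0x184550d185), (nat_lit 0)⟩)
 (.l ⟨(nat_lit 0xc0000d), (nat_lit 0x64160681807007), (nat_lit 0x3118d6c3d0050054d61979), (nat_lit 0)⟩))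
 (.l ⟨(nat_lit 0xc0000b), (nat_lit 0x1406c1506816), (nat_lit 0x6c884686d5e551), (nat_lit 0)⟩))
 (.n (.n (.l ⟨(nat_lit 0x1000011), (nat_lit 0x911059), (nat_lit 0x1496414c0080602407014080280c0300c02407014080280b01c05020050040802c0b), (nat_lit 0)⟩)
 (.l ⟨(nat_lit 0xc0000f), (nat_lit 0x1e0701707016), (nat_lit 0x6e2006d05c050054762991), (nat_lit 0)⟩))
 (.l ⟨(nat_lit 0xc0000d), (nat_lit 0x341d0641007007), (nat_lit 0x6f1e450084050054c6757b), (nat_lit 0)⟩))))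
 (.n (.n (.n (.n (.l ⟨(nat_lit 0xc0000d), (nat_lit 0x115164f410), (nat_lit 0x36505e12401), (nat_lit 0)⟩)
 (.l ⟨(nat_lit 0xc0000d), (nat_lit 0x1d070180701e), (nat_lit 0x181b11d3094767552), (nat_lit 0)⟩))
 (.l ⟨(nat_lit 0xc0000b), (nat_lit 19475), (nat_lit 0x197044d35154d), (nat_lit 0)⟩))
 (.n (.n (.l ⟨(nat_lit 0xc0000d), (nat_lit 0x4941c6d2bc01), (nat_lit 0x5157c0c0a805005475814c020030140101007), (nat_lit 0)⟩)
 (.l ⟨(nat_lit 0xc0000d), (nat_lit 0x180701207013), (nat_lit 0xc96b1cd850140153176), (nat_lit 0)⟩))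
 (.l ⟨(nat_lit 0xc0000d), (nat_lit 0x6c2006c21), (nat_lit 0x345415c7e5d593), (nat_lit 0)⟩)))
 (.n (.n (.n (.l ⟨(nat_lit 0xc0000d), (nat_lit 0x138471583a), (nat_lit 0x1693a56453), (nat_lit 0)⟩)
 (.l ⟨(nat_lit 0xc0000d), (nat_lit 0x1e070180641e), (nat_lit 0x4f464d3225455fd55), (nat_lit 0)⟩))
 (.l ⟨(nat_lit 0xc0000d), (nat_lit 0x6c1d06c21), (nat_lit 0x12c834893c59947), (nat_lit 0)⟩))
 (.n (.n (.l ⟨(nat_lit 0x1400009), (nat_lit 0x60a35e807), (nat_lit 0xd59b4381e), (nat_lit 0)⟩)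
 (.l ⟨(nat_lit 0xc00013), (nat_lit 0x6c1e0641007014), (nat_lit 0x6a444640d405005515419a), (nat_lit 0)⟩))
 (.l ⟨(nat_lit 0xc0000d), (nat_lit 0x741c0801901c03), (nat_lit 0x308596654762581), (nat_lit 0)⟩))))))
 (.n (.n (.n (.n (.n (.n (.l ⟨(nat_lit 0xc00007), (nat_lit 0x12d354c477), (nat_lit 0x3cf459007), (nat_lit 0)⟩)
 (.l ⟨(nat_lit 0xa0000d), (nat_lit 0x41b0381207007), (nat_lit 0x115d97070050054958d86), (nat_lit 0)⟩))
 (.n (.l ⟨(nat_lit 0x140000d), (nat_lit 0x1c2715001), (nat_lit 0x1553e06d36), (nat_lit 0)⟩)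
 (.l ⟨(nat_lit 0xc00015), (nat_lit 0x41b04c1c04c03), (nat_lit 0x6549d5207405005476559b), (nat_lit 0)⟩)))
 (.n (.n (.l ⟨(nat_lit 0xc0000d), (nat_lit 0x161220a0fb), (nat_lit 0x38391747a), (nat_lit 0)⟩)
 (.l ⟨(nat_lit 0xc0000d), (nat_lit 0x1d0141607011), (nat_lit 0x1e1e41f120050055061161), (nat_lit 0)⟩))
 (.l ⟨(nat_lit 0xc0000d), (nat_lit 0x141506c1d), (nat_lit 0x7c850544b50d4d), (nat_lit 0)⟩)))
 (.n (.n (.n (.l ⟨(nat_lit 0xc0000d), (nat_lit 0xd47f2ec83), (nat_lit 0x688260119), (nat_lit 0)⟩)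
 (.l ⟨(nat_lit 0xc0000d), (nat_lit 0x170701d07011), (nat_lit 0x9c2159435014015d59c), (nat_lit 0)⟩))
 (.l ⟨(nat_lit 0xc0000b), (nat_lit 0x1b0841c05c03), (nat_lit 0x1bcb21744100d4152d8e), (nat_lit 0)⟩))
 (.n (.n (.l ⟨(nat_lit 0xe0000d), (nat_lit 0x1bc5c52423), (nat_lit 0x5a0114a84e), (nat_lit 0)⟩)
 (.l ⟨(nat_lit 0xc0000f), (nat_lit 33795), (nat_lit 0xd1805801014015a171), (nat_lit 0)⟩))
 (.l ⟨(nat_lit 0xc0000d), (nat_lit 0x106c1f07014), (nat_lit 0x4812c6e1894c64d65), (nat_lit 0)⟩))))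
 (.n (.n (.n (.n (.l ⟨(nat_lit 0xc0000b), (nat_lit 0xe4825d419), (nat_lit 0x1885d4d820), (nat_lit 0)⟩)
 (.l ⟨(nat_lit 0xc0000d), (nat_lit 0xf06c110701d), (nat_lit 0x53587b21d475556c), (nat_lit 0)⟩))
 (.l ⟨(nat_lit 0xc0000b), (nat_lit 0x220701806816), (nat_lit 0x1619a498300054c62189), (nat_lit 0)⟩))
 (.n (.n (.l ⟨(nat_lit 0xc0000d), (nat_lit 0x1bc180681f), (nat_lit 0x2c81e1ad6166987020030140101007), (nat_lit 0)⟩)
 (.l ⟨(nat_lit 0xc0000d), (nat_lit 0x801c05c1b05003), (nat_lit 0x911600c6160575), (nat_lit 0)⟩))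
 (.l ⟨(nat_lit 0xc0000d), (nat_lit 0x1706c1707013), (nat_lit 0x2047c2100c05005436395c), (nat_lit 0)⟩)))
 (.n (.n (.n (.l ⟨(nat_lit 0xc0000d), (nat_lit 0x4285c3e43b), (nat_lit 0x681d40857), (nat_lit 0)⟩)
 (.l ⟨(nat_lit 0x120000d), (nat_lit 0x6c210681107010), (nat_lit 0x6a4a518079455f17f), (nat_lit 0)⟩))
 (.l ⟨(nat_lit 0x120000d), (nat_lit 0x1e02c07), (nat_lit 0x2c665b4205417b), (nat_lit 0)⟩))
 (.n (.n (.l ⟨(nat_lit 0x120000d), (nat_lit 0x16d866644e), (nat_lit 0x1a5391d43b), (nat_lit 0)⟩)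
 (.l ⟨(nat_lit 0xc00013), (nat_lit 0x741c0801307007), (nat_lit 0xe8ec080100140164d61), (nat_lit 0)⟩))
 (.l ⟨(nat_lit 0xe0000d), (nat_lit 0x14014140701e), (nat_lit 0x6d2f01e5655362947), (nat_lit 0)⟩)))))
 (.n (.n (.n (.n (.n (.l ⟨(nat_lit 0xc0000b), (nat_lit 0x1005647c59), (nat_lit 0x20401251c805), (nat_lit 0)⟩)
 (.l ⟨(nat_lit 0xc0000d), (nat_lit 0x1f06c120141d), (nat_lit 0x455fc940c405005435557d), (nat_lit 0)⟩))
 (.n (.l ⟨(nat_lit 0xc00007), (nat_lit 0x6c1f0141f), (nat_lit 0x636781d28405005565497d), (nat_lit 0)⟩)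
 (.l ⟨(nat_lit 0xc00015), (nat_lit 0x78180682007007), (nat_lit 0x4e34c692f405005456015f), (nat_lit 0)⟩)))
 (.n (.n (.l ⟨(nat_lit 0xc0000d), (nat_lit 0x138880a821), (nat_lit 0x1656c13424), (nat_lit 0)⟩)
 (.l ⟨(nat_lit 0xc0000d), (nat_lit 0x140702107016), (nat_lit 0x134124c8356197b), (nat_lit 0)⟩))
 (.l ⟨(nat_lit 0x140000d), (nat_lit 0x142101416), (nat_lit 0x11620865594355564), (nat_lit 0)⟩)))
 (.n (.n (.n (.l ⟨(nat_lit 0xc0000d), (nat_lit 0xbd594d050), (nat_lit 0xbd261e020), (nat_lit 0)⟩)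
 (.l ⟨(nat_lit 0xc0000d), (nat_lit 0x681d06c1307007), (nat_lit 0x645005b4894f62145), (nat_lit 0)⟩))
 (.l ⟨(nat_lit 0x120000d), (nat_lit 0x1306c0f0141f), (nat_lit 0x6e1e0852d14560559), (nat_lit 0)⟩))
 (.n (.n (.l ⟨(nat_lit 0x120000d), (nat_lit 0x4d2522085), (nat_lit 0x1ad175fc63), (nat_lit 0)⟩)
 (.l ⟨(nat_lit 0xc0000f), (nat_lit 0x706c180641d), (nat_lit 0x341607849405005585799e), (nat_lit 0)⟩))
 (.l ⟨(nat_lit 0xc0000d), (nat_lit 0x1e0701106415), (nat_lit 0x451692d0555359597), (nat_lit 0)⟩))))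
 (.n (.n (.n (.n (.l ⟨(nat_lit 0xc0000d), (nat_lit 0x10e08198), (nat_lit 0x1110e585), (nat_lit 0)⟩)
 (.l ⟨(nat_lit 0xc0000d), (nat_lit 0x1d0641307013), (nat_lit 0x5c1880d0154152d92), (nat_lit 0)⟩))
 (.l ⟨(nat_lit 0xc0000b), (nat_lit 0x140f06c1d), (nat_lit 0x591a4a1174035bd81), (nat_lit 0)⟩))
 (.n (.n (.l ⟨(nat_lit 0xc0000d), (nat_lit 0x1005a49857), (nat_lit 0x850817934), (nat_lit 0)⟩)
 (.l ⟨(nat_lit 0xc0000d), (nat_lit 0x140706c0707011), (nat_lit 0x351d4500896d5498f), (nat_lit 0)⟩))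
 (.l ⟨(nat_lit 0xc0000d), (nat_lit 0x142107007), (nat_lit 0x3b15c6c1d8010140152d5c), (nat_lit 0)⟩)))
 (.n (.n (.n (.l ⟨(nat_lit 0xc0000d), (nat_lit 0x1204e67871), (nat_lit 0x1746b17910), (nat_lit 0)⟩)
 (.l ⟨(nat_lit 0xc0000d), (nat_lit 0x64210681307007), (nat_lit 0x174207e420050054c5558c), (nat_lit 0)⟩))
 (.l ⟨(nat_lit 0xc0000d), (nat_lit 0x88050580b), (nat_lit 0x48641b80555d72), (nat_lit 0)⟩))
 (.n (.n (.l ⟨(nat_lit 0x140000d), (nat_lit 0x1766c24), (nat_lit 0x708907c1a), (nat_lit 0)⟩)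
 (.l ⟨(nat_lit 0xc00013), (nat_lit 0x140140f07012), (nat_lit 0x5b61999138050054964972), (nat_lit 0)⟩))
 (.l ⟨(nat_lit 0xc0000d), (nat_lit 0x241d06416), (nat_lit 0x125840e94d6514f), (nat_lit 0)⟩)))))))
noncomputable def T : Tr :=
  .n (.n (.n (.n (.n T31
 T30)
 (.n T29
 T28))
 (.n (.n T27
 T26)
 (.n T25
 T24)))
 (.n (.n (.n T23
 T22)
 (.n T21
 T20))
 (.n (.n T19
 T18)
 (.n T17
 T16))))
 (.n (.n (.n (.n T15
 T14)
 (.n T13
 T12))
 (.n (.n T11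
 T10)
 (.n T9
 T8)))
 (.n (.n (.n T7
 T6)
 (.n T5
 T4))
 (.n (.n T3
 T2)
 (.n T1
 T0))))
noncomputable def C : Cf :=
  ⟨false, [5, 1], [], 226, 320, 94,
  [(false, [], []),
  (false, [], [[5, 1], []]),
  (true, [], [[]]),
  (true, [0, 4, 11], [[11, 5, 1], [11, 5, 1]]),
  (true, [6, 8], [[6], [6, 8, 5, 1], [6]]),
  (true, [7], [[6, 3, 5, 1, 2, 9, 5, 1], [6, 3, 0, 4, 2, 5, 9, 7, 5, 1], [6, 3, 5, 1, 2, 7]]),
  (true, [10, 10, 7, 11, 11], [[10, 10, 7, 11, 11, 5, 1], [10, 10, 7, 11, 11, 5, 1], [10, 10, 7, 0, 4, 7, 4, 6, 10, 9, 7, 4, 6, 8, 11, 11, 11, 9, 7, 4, 6, 8, 5, 1]]),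
  (true, [6, 3, 0, 4, 2, 5, 9, 7], [[6, 3, 5, 1, 2, 7], [7, 5, 1], [6, 3, 5, 1, 2, 9, 5, 1]]),
  (true, [6, 8, 4, 3, 5, 1, 2, 7], [[8, 3, 0, 4, 2, 7], [6], [6, 3, 0, 4, 2, 7]]),
  (true, [9, 7], [[7], [9, 7, 5, 1], [7]]),
  (true, [6, 3, 5, 1, 2, 9], [[6, 3, 0, 4, 2, 5, 9, 7, 5, 1], [6, 3, 5, 1, 2, 7], [7, 5, 1]]),
  (true, [10], [[11], [10, 5, 1], [11], [10, 5, 1], [11], [10, 5, 1, 5, 1], [11]])],
  T, CL.ThS.chk⟩
noncomputable def R0 : List (List ℕ) :=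
  [[0],
  [],
  [],
  [],
  [],
  [],
  [],
  [],
  [],
  [],
  [],
  [(nat_lit 1), (nat_lit 0xe3000007), 0, (nat_lit 5)],
  [(nat_lit 1), (nat_lit 0xe5000007), 0, (nat_lit 5)],
  [(nat_lit 1), (nat_lit 0xe7000007), 0, (nat_lit 5)],
  [(nat_lit 1), (nat_lit 0x38cf6000007), 0, (nat_lit 5)],
  [(nat_lit 1), (nat_lit 0xf3430f3000007), 0, (nat_lit 5)],
  [(nat_lit 1), (nat_lit 0xee000007), 0, (nat_lit 5)],
  [(nat_lit 1), (nat_lit 0xef000007), 0, (nat_lit 5)],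
  [(nat_lit 3), (nat_lit 7), 0, (nat_lit 5)],
  [(nat_lit 1), (nat_lit 0xe34013a00000b), (nat_lit 49), (nat_lit 61), (nat_lit 65), (nat_lit 69), (nat_lit 63), (nat_lit 69), (nat_lit 9)],
  [(nat_lit 1), (nat_lit 0xe344d1a00000b), (nat_lit 57), (nat_lit 61), (nat_lit 65), (nat_lit 69), (nat_lit 63), (nat_lit 57), (nat_lit 9)],
  [(nat_lit 1), (nat_lit 0xf64590800000b), (nat_lit 53), (nat_lit 69), (nat_lit 61), (nat_lit 67), (nat_lit 69), (nat_lit 63), (nat_lit 67), (nat_lit 69), (nat_lit 9)],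
  [(nat_lit 1), (nat_lit 0xf34dd3200000b), (nat_lit 49), (nat_lit 53), (nat_lit 69), (nat_lit 61), (nat_lit 53), (nat_lit 61), (nat_lit 69), (nat_lit 61), (nat_lit 9)],
  [(nat_lit 4), (nat_lit 7), 0, (nat_lit 5), (nat_lit 49), (nat_lit 67), (nat_lit 69), (nat_lit 63), (nat_lit 53), (nat_lit 69), (nat_lit 65), (nat_lit 0xf341d37000009)],
  [(nat_lit 1), (nat_lit 0xe700005f), (nat_lit 9)],
  [(nat_lit 5), (nat_lit 0xe9000009), (nat_lit 81), (nat_lit 99), (nat_lit 85), (nat_lit 81), (nat_lit 81), (nat_lit 0xe53e51100000b), (nat_lit 45), (nat_lit 53), (nat_lit 57), (nat_lit 67), (nat_lit 69), (nat_lit 61), (nat_lit 53), (nat_lit 61), (nat_lit 0xfa48d1b000009)],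
  [(nat_lit 5), (nat_lit 0xe74853b00000b), (nat_lit 0xf14fd1d000065), (nat_lit 97), (nat_lit 77), (nat_lit 77), (nat_lit 91), (nat_lit 99), (nat_lit 0xe548d13000067)],
  [(nat_lit 3), (nat_lit 11), (nat_lit 53), (nat_lit 61), (nat_lit 69), (nat_lit 61), (nat_lit 65), (nat_lit 69), (nat_lit 63), (nat_lit 69), (nat_lit 65), (nat_lit 0x4b8f200006b)],
  [(nat_lit 6), (nat_lit 11), (nat_lit 69), (nat_lit 63), (nat_lit 69), (nat_lit 65), (nat_lit 69), (nat_lit 0x1013cd36000049), (nat_lit 45), (nat_lit 57), (nat_lit 69), (nat_lit 61), (nat_lit 67), (nat_lit 69), (nat_lit 61), (nat_lit 57), (nat_lit 65), (nat_lit 0xe548ceb00006b)],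
  [(nat_lit 0x114b6554050058c540020180c5297e5bc01), (nat_lit 0x38cf1000073), (nat_lit 89), (nat_lit 97), (nat_lit 89), (nat_lit 79), (nat_lit 0xec4811100006d)],
  [(nat_lit 7), (nat_lit 0x450f7000065), (nat_lit 77), (nat_lit 117), (nat_lit 87), (nat_lit 91), (nat_lit 83), (nat_lit 0x460f1000069), (nat_lit 69), (nat_lit 63), (nat_lit 69), (nat_lit 65), (nat_lit 69), (nat_lit 0x41537000049)],
  [(nat_lit 1), (nat_lit 0xec4f51300000f), (nat_lit 45), (nat_lit 49), (nat_lit 53), (nat_lit 57), (nat_lit 13)],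
  [(nat_lit 1), (nat_lit 0xe3394ef00000f), (nat_lit 53), (nat_lit 57), (nat_lit 69), (nat_lit 13)],
  [(nat_lit 1), (nat_lit 0x39d0300000f), (nat_lit 45), (nat_lit 49), (nat_lit 57), (nat_lit 13)],
  [(nat_lit 1), (nat_lit 0xe33bcf600000f), (nat_lit 45), (nat_lit 49), (nat_lit 67), (nat_lit 69), (nat_lit 65), (nat_lit 13)],
  [(nat_lit 1), (nat_lit 0xe53c91300000f), (nat_lit 53), (nat_lit 57), (nat_lit 65), (nat_lit 69), (nat_lit 67), (nat_lit 13)],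
  [(nat_lit 8), (nat_lit 0x38ce5000049), (nat_lit 49), (nat_lit 53), (nat_lit 69), (nat_lit 61), (nat_lit 53), (nat_lit 61), (nat_lit 65), (nat_lit 69), (nat_lit 61), (nat_lit 53), (nat_lit 63), (nat_lit 0xfa4a512000079), (nat_lit 69), (nat_lit 61), (nat_lit 53), (nat_lit 65), (nat_lit 69), (nat_lit 61), (nat_lit 53), (nat_lit 67), (nat_lit 0xf44892e00000d)],
  [(nat_lit 5), (nat_lit 0x4a538000079), (nat_lit 49), (nat_lit 53), (nat_lit 69), (nat_lit 61), (nat_lit 57), (nat_lit 67), (nat_lit 69), (nat_lit 67), (nat_lit 0xfd46112000079), (nat_lit 69), (nat_lit 63), (nat_lit 57), (nat_lit 69), (nat_lit 65), (nat_lit 69), (nat_lit 61), (nat_lit 0xeb48d2f000091)],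
  [(nat_lit 0x5259c65801), (nat_lit 0x38cf1000097), (nat_lit 69), (nat_lit 61), (nat_lit 57), (nat_lit 67), (nat_lit 69), (nat_lit 61), (nat_lit 53), (nat_lit 0xeb4f93800000d)],
  [(nat_lit 8), (nat_lit 0x39cef00000b), (nat_lit 49), (nat_lit 53), (nat_lit 67), (nat_lit 69), (nat_lit 61), (nat_lit 53), (nat_lit 61), (nat_lit 69), (nat_lit 67), (nat_lit 0xf54f107000079), (nat_lit 49), (nat_lit 61), (nat_lit 53), (nat_lit 65), (nat_lit 69), (nat_lit 63), (nat_lit 57), (nat_lit 69), (nat_lit 67), (nat_lit 0x408f200000d)],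
  [(nat_lit 3), (nat_lit 0xeb4a105000067), (nat_lit 45), (nat_lit 53), (nat_lit 57), (nat_lit 63), (nat_lit 57), (nat_lit 67), (nat_lit 69), (nat_lit 65), (nat_lit 0xf44952700000d)],
  [(nat_lit 0xd363d00f50d9c63c01), (nat_lit 0xe54bceb0000a3), (nat_lit 91), (nat_lit 117), (nat_lit 117), (nat_lit 85), (nat_lit 0xe54f93100009d)],
  [(nat_lit 8), (nat_lit 0xf44e10f000069), (nat_lit 61), (nat_lit 53), (nat_lit 61), (nat_lit 69), (nat_lit 61), (nat_lit 69), (nat_lit 67), (nat_lit 69), (nat_lit 0xfb4a10b000079), (nat_lit 69), (nat_lit 61), (nat_lit 53), (nat_lit 65), (nat_lit 69), (nat_lit 61), (nat_lit 53), (nat_lit 67), (nat_lit 0xe7428fb00000d)],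
  [(nat_lit 4), (nat_lit 0x3b0f600000f), (nat_lit 49), (nat_lit 61), (nat_lit 67), (nat_lit 69), (nat_lit 61), (nat_lit 67), (nat_lit 69), (nat_lit 61), (nat_lit 53), (nat_lit 57), (nat_lit 0xef460fc000079), (nat_lit 57), (nat_lit 61), (nat_lit 53), (nat_lit 65), (nat_lit 69), (nat_lit 61), (nat_lit 67), (nat_lit 0xf74d51900000d)],
  [(nat_lit 4), (nat_lit 0xe53d0ef00000f), (nat_lit 49), (nat_lit 61), (nat_lit 53), (nat_lit 61), (nat_lit 69), (nat_lit 63), (nat_lit 57), (nat_lit 65), (nat_lit 0xec48506000065), (nat_lit 117), (nat_lit 91), (nat_lit 83), (nat_lit 117), (nat_lit 0xf14891900009d)],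
  [(nat_lit 4), (nat_lit 0xe539d1000000f), (nat_lit 57), (nat_lit 63), (nat_lit 57), (nat_lit 69), (nat_lit 61), (nat_lit 53), (nat_lit 69), (nat_lit 67), (nat_lit 0x470e7000091), (nat_lit 125), (nat_lit 165), (nat_lit 133), (nat_lit 0xe54e5330000b1)],
  [(nat_lit 4), (nat_lit 0xf13f8e900000f), (nat_lit 53), (nat_lit 61), (nat_lit 57), (nat_lit 69), (nat_lit 63), (nat_lit 57), (nat_lit 69), (nat_lit 61), (nat_lit 65), (nat_lit 0xf53f12100000d), (nat_lit 133), (nat_lit 165), (nat_lit 153), (nat_lit 0xec3a5360000b5)],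
  [(nat_lit 9), (nat_lit 0x3b0f600000f), (nat_lit 49), (nat_lit 61), (nat_lit 67), (nat_lit 69), (nat_lit 61), (nat_lit 67), (nat_lit 69), (nat_lit 61), (nat_lit 53), (nat_lit 57), (nat_lit 0xef460fc000079), (nat_lit 69), (nat_lit 61), (nat_lit 53), (nat_lit 65), (nat_lit 69), (nat_lit 61), (nat_lit 53), (nat_lit 67), (nat_lit 0xe74f10700000d)],
  [(nat_lit 8), (nat_lit 0xe74f13200000f), (nat_lit 49), (nat_lit 61), (nat_lit 67), (nat_lit 69), (nat_lit 61), (nat_lit 67), (nat_lit 69), (nat_lit 61), (nat_lit 53), (nat_lit 57), (nat_lit 0x10248509000079), (nat_lit 61), (nat_lit 65), (nat_lit 69), (nat_lit 63), (nat_lit 57), (nat_lit 61), (nat_lit 53), (nat_lit 63), (nat_lit 67), (nat_lit 0x1094053a00000d)],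
  [(nat_lit 3), (nat_lit 15), (nat_lit 45), (nat_lit 49), (nat_lit 53), (nat_lit 69), (nat_lit 67), (nat_lit 0xe343d0500000d)],
  [(nat_lit 6), (nat_lit 0x394f400000f), (nat_lit 61), (nat_lit 53), (nat_lit 61), (nat_lit 69), (nat_lit 65), (nat_lit 69), (nat_lit 61), (nat_lit 53), (nat_lit 61), (nat_lit 69), (nat_lit 0xf33cd2500000d), (nat_lit 125), (nat_lit 165), (nat_lit 133), (nat_lit 0xeb3b51c0000b7)],
  [(nat_lit 6), (nat_lit 0x3b0f600000f), (nat_lit 49), (nat_lit 53), (nat_lit 69), (nat_lit 61), (nat_lit 57), (nat_lit 67), (nat_lit 69), (nat_lit 67), (nat_lit 0x3d0f400006b), (nat_lit 79), (nat_lit 119), (nat_lit 119), (nat_lit 0xe74a11c0000a9)],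
  [(nat_lit 6), (nat_lit 0xe33d0f200000f), (nat_lit 53), (nat_lit 67), (nat_lit 69), (nat_lit 63), (nat_lit 57), (nat_lit 63), (nat_lit 69), (nat_lit 65), (nat_lit 69), (nat_lit 0xef47931000079), (nat_lit 57), (nat_lit 61), (nat_lit 57), (nat_lit 61), (nat_lit 53), (nat_lit 67), (nat_lit 69), (nat_lit 61), (nat_lit 65), (nat_lit 69), (nat_lit 0xf745906000091)],
  [(nat_lit 6), (nat_lit 0xe3470fc00000f), (nat_lit 61), (nat_lit 57), (nat_lit 65), (nat_lit 69), (nat_lit 63), (nat_lit 57), (nat_lit 69), (nat_lit 61), (nat_lit 69), (nat_lit 0xeb4d8fa00000d), (nat_lit 133), (nat_lit 165), (nat_lit 153), (nat_lit 0xf24391c0000cb)],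
  [(nat_lit 6), (nat_lit 0xed44ced000093), (nat_lit 49), (nat_lit 53), (nat_lit 61), (nat_lit 69), (nat_lit 61), (nat_lit 53), (nat_lit 69), (nat_lit 61), (nat_lit 67), (nat_lit 0xe348118000091), (nat_lit 125), (nat_lit 165), (nat_lit 133), (nat_lit 0xf7489200000b5)],
  [(nat_lit 1), (nat_lit 0x4f4ec000013), (nat_lit 63), (nat_lit 57), (nat_lit 61), (nat_lit 67), (nat_lit 17)],
  [(nat_lit 1), (nat_lit 0xe33cd3e000013), (nat_lit 61), (nat_lit 57), (nat_lit 61), (nat_lit 57), (nat_lit 65), (nat_lit 17)],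
  [(nat_lit 5), (nat_lit 0x3a4ee000065), (nat_lit 79), (nat_lit 119), (nat_lit 91), (nat_lit 117), (nat_lit 0xe9478e9000067), (nat_lit 45), (nat_lit 53), (nat_lit 57), (nat_lit 61), (nat_lit 69), (nat_lit 61), (nat_lit 57), (nat_lit 67), (nat_lit 0x3acf5000011)],
  [(nat_lit 0x14a54401), (nat_lit 0x38cf20000e7), (nat_lit 53), (nat_lit 57), (nat_lit 61), (nat_lit 57), (nat_lit 63), (nat_lit 57), (nat_lit 63), (nat_lit 0x3b0f3000011)],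
  [(nat_lit 8), (nat_lit 0xf14f53500009f), (nat_lit 77), (nat_lit 97), (nat_lit 117), (nat_lit 83), (nat_lit 83), (nat_lit 0xe94491b000067), (nat_lit 53), (nat_lit 57), (nat_lit 61), (nat_lit 65), (nat_lit 69), (nat_lit 0x4891f000011)],
  [(nat_lit 6), (nat_lit 0xe7000013), (nat_lit 61), (nat_lit 53), (nat_lit 61), (nat_lit 67), (nat_lit 69), (nat_lit 61), (nat_lit 57), (nat_lit 63), (nat_lit 67), (nat_lit 0xf14f935000091), (nat_lit 133), (nat_lit 153), (nat_lit 0xfb41d370000ed)],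
  [(nat_lit 1), (nat_lit 0xfc3d0ef000017), (nat_lit 67), (nat_lit 69), (nat_lit 61), (nat_lit 57), (nat_lit 61), (nat_lit 53), (nat_lit 61), (nat_lit 69), (nat_lit 65), (nat_lit 21)],
  [(nat_lit 1), (nat_lit 0x39d03000017), (nat_lit 57), (nat_lit 61), (nat_lit 65), (nat_lit 69), (nat_lit 63), (nat_lit 57), (nat_lit 67), (nat_lit 69), (nat_lit 63), (nat_lit 69), (nat_lit 21)],
  [(nat_lit 5), (nat_lit 0xe33d913000091), (nat_lit 125), (nat_lit 155), (nat_lit 129), (nat_lit 167), (nat_lit 0xe54fd16000093), (nat_lit 49), (nat_lit 61), (nat_lit 69), (nat_lit 61), (nat_lit 53), (nat_lit 63), (nat_lit 65), (nat_lit 69), (nat_lit 67), (nat_lit 0xf44a4e9000015)],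
  [(nat_lit 0x18953401), (nat_lit 0xe3441360000ff), (nat_lit 67), (nat_lit 69), (nat_lit 63), (nat_lit 53), (nat_lit 57), (nat_lit 69), (nat_lit 61), (nat_lit 69), (nat_lit 0x4acef000015)],
  [(nat_lit 5), (nat_lit 0xe94d50200009f), (nat_lit 89), (nat_lit 87), (nat_lit 87), (nat_lit 91), (nat_lit 0xfc44134000069), (nat_lit 63), (nat_lit 57), (nat_lit 65), (nat_lit 69), (nat_lit 61), (nat_lit 69), (nat_lit 67), (nat_lit 69), (nat_lit 0xe34bcee000015)],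
  [(nat_lit 8), (nat_lit 0xf4414fc00009f), (nat_lit 77), (nat_lit 81), (nat_lit 89), (nat_lit 81), (nat_lit 89), (nat_lit 0xe94390c00009d), (nat_lit 137), (nat_lit 141), (nat_lit 0x39d0b000105)],
  [(nat_lit 8), (nat_lit 0xef4ad1b0000ab), (nat_lit 119), (nat_lit 77), (nat_lit 81), (nat_lit 89), (nat_lit 0xf54991800009d), (nat_lit 153), (nat_lit 153), (nat_lit 153), (nat_lit 0xe54153b000105)],
  [(nat_lit 3), (nat_lit 19), (nat_lit 57), (nat_lit 63), (nat_lit 57), (nat_lit 63), (nat_lit 69), (nat_lit 67), (nat_lit 69), (nat_lit 0xeb4f91f000015)],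
  [(nat_lit 3), (nat_lit 0xee000017), (nat_lit 45), (nat_lit 49), (nat_lit 53), (nat_lit 57), (nat_lit 69), (nat_lit 67), (nat_lit 0xe34fd0a000015)],
  [(nat_lit 6), (nat_lit 0x39cef000017), (nat_lit 49), (nat_lit 53), (nat_lit 67), (nat_lit 0x3bcf500000d), (nat_lit 133), (nat_lit 167), (nat_lit 153), (nat_lit 0xe74991b00010d)],
  [(nat_lit 3), (nat_lit 0x3d8f4000107), (nat_lit 125), (nat_lit 137), (nat_lit 153), (nat_lit 165), (nat_lit 0x4d4fc00010d)],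
  [(nat_lit 3), (nat_lit 0xf13dcf200010b), (nat_lit 129), (nat_lit 133), (nat_lit 155), (nat_lit 167), (nat_lit 0xf24d12d0000ed)],
  [(nat_lit 7), (nat_lit 0x39d03000113), (nat_lit 223), (nat_lit 225), (nat_lit 233), (nat_lit 227), (nat_lit 0x4c135000111), (nat_lit 0x48926000119)],
  [(nat_lit 8), (nat_lit 0xe9414fd000111), (nat_lit 0x4dcf4000119), (nat_lit 245), (nat_lit 257), (nat_lit 245), (nat_lit 0x11d3eceb000117)],
  [(nat_lit 5), (nat_lit 0x39d140000f1), (nat_lit 221), (nat_lit 235), (nat_lit 225), (nat_lit 0xf243d08000123), (nat_lit 0xe93bd36000115)],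
  [(nat_lit 6), (nat_lit 0xeb3e92b000125), (nat_lit 0xeb4853900012f), (nat_lit 223), (nat_lit 235), (nat_lit 225), (nat_lit 0x394f9000123)],
  [(nat_lit 10), (nat_lit 0xe943530000121), (nat_lit 225), (nat_lit 223), (nat_lit 235), (nat_lit 0xe94a13a00012d), (nat_lit 245), (nat_lit 259), (nat_lit 245), (nat_lit 0x4d50c000107)],
  [(nat_lit 10), (nat_lit 0xe3470fa00010f), (nat_lit 133), (nat_lit 155), (nat_lit 155), (nat_lit 0x1024ed0a000137), (nat_lit 257), (nat_lit 0xf34013400012b)],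
  [(nat_lit 0x404f05136014015418d60001), (nat_lit 0xeb4211f00013b), (nat_lit 247), (nat_lit 0xf24bd2200012b)],
  [(nat_lit 5), (nat_lit 0xe34f90e000127), (nat_lit 245), (nat_lit 257), (nat_lit 245), (nat_lit 0xed4e13e000117), (nat_lit 245), (nat_lit 257), (nat_lit 245), (nat_lit 0xff4bd0f000133)],
  [(nat_lit 8), (nat_lit 0xe743d1e00012b), (nat_lit 221), (nat_lit 221), (nat_lit 221), (nat_lit 317), (nat_lit 0x4193a000129), (nat_lit 247), (nat_lit 257), (nat_lit 0x48940000131)],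
  [(nat_lit 8), (nat_lit 0xe54d93b00012b), (nat_lit 221), (nat_lit 317), (nat_lit 221), (nat_lit 319), (nat_lit 0xeb4351d000129), (nat_lit 245), (nat_lit 0x4b53b00010f)],
  [(nat_lit 8), (nat_lit 0xe54692400012b), (nat_lit 225), (nat_lit 233), (nat_lit 223), (nat_lit 0x1064c8f7000123), (nat_lit 0xe949122000135)],
  [(nat_lit 6), (nat_lit 0x3c90100012b), (nat_lit 223), (nat_lit 319), (nat_lit 223), (nat_lit 223), (nat_lit 0xed4f92b000129), (nat_lit 257), (nat_lit 249), (nat_lit 0xfc4e107000145)],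
  [(nat_lit 8), (nat_lit 0x400f9000109), (nat_lit 0xf43e11f000133), (nat_lit 257), (nat_lit 249), (nat_lit 257), (nat_lit 0xec4c11300014d)],
  [(nat_lit 5), (nat_lit 0xf245d0f000137), (nat_lit 0xe34f529000121), (nat_lit 225), (nat_lit 235), (nat_lit 317), (nat_lit 0xf53d12800012d)],
  [(nat_lit 8), (nat_lit 0xeb4d91d000107), (nat_lit 125), (nat_lit 133), (nat_lit 141), (nat_lit 153), (nat_lit 0xe34d8f700014b), (nat_lit 247), (nat_lit 259), (nat_lit 0xf14091d000131)],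
  [(nat_lit 8), (nat_lit 0xe94991a000115), (nat_lit 247), (nat_lit 259), (nat_lit 247), (nat_lit 0xe942d20000125), (nat_lit 249), (nat_lit 259), (nat_lit 247), (nat_lit 257), (nat_lit 0xef4d53a000145)],
  [(nat_lit 1), (nat_lit 0xe34010f00001b), (nat_lit 61), (nat_lit 57), (nat_lit 63), (nat_lit 25)],
  [(nat_lit 1), (nat_lit 0xe900001b), (nat_lit 57), (nat_lit 61), (nat_lit 57), (nat_lit 63), (nat_lit 57), (nat_lit 25)],
  [(nat_lit 5), (nat_lit 0xeb00000f), (nat_lit 49), (nat_lit 61), (nat_lit 67), (nat_lit 69), (nat_lit 61), (nat_lit 67), (nat_lit 69), (nat_lit 61), (nat_lit 53), (nat_lit 57), (nat_lit 0xf243d22000079), (nat_lit 49), (nat_lit 69), (nat_lit 61), (nat_lit 53), (nat_lit 65), (nat_lit 69), (nat_lit 63), (nat_lit 57), (nat_lit 67), (nat_lit 0xe54ad23000019)],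
  [(nat_lit 8), (nat_lit 0x394f400000f), (nat_lit 61), (nat_lit 65), (nat_lit 69), (nat_lit 63), (nat_lit 57), (nat_lit 61), (nat_lit 69), (nat_lit 61), (nat_lit 67), (nat_lit 69), (nat_lit 0xe9460ed00000d), (nat_lit 129), (nat_lit 133), (nat_lit 141), (nat_lit 0x4852100016d)],
  [(nat_lit 8), (nat_lit 0xf13f8e900000f), (nat_lit 53), (nat_lit 61), (nat_lit 57), (nat_lit 69), (nat_lit 63), (nat_lit 57), (nat_lit 69), (nat_lit 61), (nat_lit 65), (nat_lit 0xed40d3400000d), (nat_lit 129), (nat_lit 137), (nat_lit 0xe53e51700016d)],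
  [(nat_lit 8), (nat_lit 0x1034f52400000f), (nat_lit 53), (nat_lit 61), (nat_lit 57), (nat_lit 67), (nat_lit 69), (nat_lit 63), (nat_lit 57), (nat_lit 69), (nat_lit 61), (nat_lit 0xe94b91c00000d), (nat_lit 137), (nat_lit 141), (nat_lit 0xfe4511900016d)],
  [(nat_lit 7), (nat_lit 15), (nat_lit 53), (nat_lit 61), (nat_lit 57), (nat_lit 63), (nat_lit 65), (nat_lit 69), (nat_lit 67), (nat_lit 0xf24190a00000d), (nat_lit 125), (nat_lit 129), (nat_lit 137), (nat_lit 0xeb00016d)],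
  [(nat_lit 8), (nat_lit 0x3b914000093), (nat_lit 69), (nat_lit 63), (nat_lit 53), (nat_lit 57), (nat_lit 69), (nat_lit 63), (nat_lit 57), (nat_lit 67), (nat_lit 0xe74590700000d), (nat_lit 167), (nat_lit 133), (nat_lit 165), (nat_lit 0xf343d2a00016d)],
  [(nat_lit 8), (nat_lit 0x3b4ef000093), (nat_lit 53), (nat_lit 69), (nat_lit 63), (nat_lit 57), (nat_lit 69), (nat_lit 61), (nat_lit 65), (nat_lit 69), (nat_lit 67), (nat_lit 0xfc4b8f400000d), (nat_lit 165), (nat_lit 125), (nat_lit 167), (nat_lit 0xef4712f00016d)],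
  [(nat_lit 8), (nat_lit 0x114000093), (nat_lit 61), (nat_lit 69), (nat_lit 61), (nat_lit 53), (nat_lit 69), (nat_lit 63), (nat_lit 57), (nat_lit 63), (nat_lit 65), (nat_lit 0xec46d1d00000d), (nat_lit 0xe34d13400016d)],
  [(nat_lit 8), (nat_lit 0xf14592f0000c1), (nat_lit 153), (nat_lit 129), (nat_lit 167), (nat_lit 0xfc4ad3500000f), (nat_lit 57), (nat_lit 69), (nat_lit 61), (nat_lit 57), (nat_lit 61), (nat_lit 0xe94bd29000019)],
  [(nat_lit 8), (nat_lit 0xe74a1190000c1), (nat_lit 153), (nat_lit 129), (nat_lit 167), (nat_lit 0xf13d11d0000b9), (nat_lit 129), (nat_lit 153), (nat_lit 0xed4391a000175)],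
  [(nat_lit 8), (nat_lit 0xfa4851b0000c1), (nat_lit 155), (nat_lit 0xf24911c0000c5), (nat_lit 129), (nat_lit 153), (nat_lit 0xff46d13000185)],
  [(nat_lit 7), (nat_lit 0xe54f5180000ed), (nat_lit 227), (nat_lit 235), (nat_lit 317), (nat_lit 0x100489370000ef), (nat_lit 167), (nat_lit 153), (nat_lit 129), (nat_lit 0x3951400018d)],
  [(nat_lit 7), (nat_lit 0xe94751c0000ed), (nat_lit 221), (nat_lit 317), (nat_lit 233), (nat_lit 227), (nat_lit 0xe5455270000ef), (nat_lit 167), (nat_lit 153), (nat_lit 129), (nat_lit 0xe940d1b00018d)],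
  [(nat_lit 7), (nat_lit 0xf448cfc0000ed), (nat_lit 225), (nat_lit 235), (nat_lit 319), (nat_lit 223), (nat_lit 0xeb4f52e0000ef), (nat_lit 133), (nat_lit 141), (nat_lit 153), (nat_lit 0xe54d90c000199)],
  [(nat_lit 7), (nat_lit 0xed45540000159), (nat_lit 257), (nat_lit 249), (nat_lit 259), (nat_lit 0x10242d3c00010f), (nat_lit 125), (nat_lit 129), (nat_lit 133), (nat_lit 153), (nat_lit 0xfc434ef0001a1)],
  [(nat_lit 7), (nat_lit 0xf14a525000159), (nat_lit 257), (nat_lit 249), (nat_lit 0xe940922000149), (nat_lit 125), (nat_lit 155), (nat_lit 129), (nat_lit 165), (nat_lit 0xef480f80001a5)],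
  [(nat_lit 4), (nat_lit 0xe74051500014b), (nat_lit 247), (nat_lit 257), (nat_lit 245), (nat_lit 0xf54d50e00014d), (nat_lit 125), (nat_lit 153), (nat_lit 0xe339d2d000199)],
  [(nat_lit 5), (nat_lit 0xe74012000014b), (nat_lit 247), (nat_lit 257), (nat_lit 245), (nat_lit 0x13400014d), (nat_lit 141), (nat_lit 0x107458e7000181)],
  [(nat_lit 8), (nat_lit 0x1064c8fd00014b), (nat_lit 247), (nat_lit 257), (nat_lit 245), (nat_lit 0xec4c53e00014d), (nat_lit 165), (nat_lit 133), (nat_lit 0x10139d3c000171)],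
  [(nat_lit 5), (nat_lit 0xfd4bce900014f), (nat_lit 247), (nat_lit 259), (nat_lit 245), (nat_lit 0xed4d8eb000149), (nat_lit 129), (nat_lit 153), (nat_lit 133), (nat_lit 167), (nat_lit 0xeb4412f0001a9)],
  [(nat_lit 8), (nat_lit 0xee4093600014f), (nat_lit 247), (nat_lit 259), (nat_lit 245), (nat_lit 0xe348d0f000149), (nat_lit 125), (nat_lit 155), (nat_lit 129), (nat_lit 165), (nat_lit 0x429390001a5)],
  [(nat_lit 7), (nat_lit 0xe94853d00014f), (nat_lit 259), (nat_lit 245), (nat_lit 249), (nat_lit 257), (nat_lit 0xf34550000010b), (nat_lit 141), (nat_lit 153), (nat_lit 165), (nat_lit 0xf44ed0a0001b9)],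
  [(nat_lit 3), (nat_lit 0xf74c932000157), (nat_lit 125), (nat_lit 129), (nat_lit 167), (nat_lit 141), (nat_lit 0xf342922000199)],
  [(nat_lit 7), (nat_lit 0xef000013), (nat_lit 67), (nat_lit 69), (nat_lit 61), (nat_lit 57), (nat_lit 63), (nat_lit 53), (nat_lit 65), (nat_lit 0x4090800000d), (nat_lit 153), (nat_lit 153), (nat_lit 153), (nat_lit 0xfb4953500016d)],
  [(nat_lit 5), (nat_lit 0xfb415300000ef), (nat_lit 0xe93f4ff0000b3), (nat_lit 167), (nat_lit 129), (nat_lit 167), (nat_lit 0xe5498ed0001b5)],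
  [(nat_lit 5), (nat_lit 0xe74ccf50000ef), (nat_lit 0x435080000b3), (nat_lit 155), (nat_lit 165), (nat_lit 141), (nat_lit 0xf14a12a0001a1)],
  [(nat_lit 5), (nat_lit 0xec43d250000ef), (nat_lit 125), (nat_lit 133), (nat_lit 137), (nat_lit 0x3c8ec0000ed), (nat_lit 221), (nat_lit 233), (nat_lit 319), (nat_lit 227), (nat_lit 0xe945d330001d1)],
  [(nat_lit 8), (nat_lit 0xe54ad1c0000ef), (nat_lit 125), (nat_lit 133), (nat_lit 137), (nat_lit 0xe7448fc0000ed), (nat_lit 221), (nat_lit 317), (nat_lit 235), (nat_lit 223), (nat_lit 0x4f11b0001cd)],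
  [(nat_lit 8), (nat_lit 0xfa4d13b0000ef), (nat_lit 125), (nat_lit 133), (nat_lit 137), (nat_lit 0xf43e4fb0000ed), (nat_lit 221), (nat_lit 225), (nat_lit 0xe94a9330001d1)],
  [(nat_lit 8), (nat_lit 0x1004c1210000ef), (nat_lit 125), (nat_lit 133), (nat_lit 137), (nat_lit 0xe9454fb0000ed), (nat_lit 223), (nat_lit 227), (nat_lit 0xf34bd2a0001d9)],
  [(nat_lit 8), (nat_lit 0x4813f0000ef), (nat_lit 125), (nat_lit 133), (nat_lit 137), (nat_lit 0xe94c9220000ed), (nat_lit 221), (nat_lit 225), (nat_lit 0xee454f90001cd)],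
  [(nat_lit 7), (nat_lit 0xe5419220000ef), (nat_lit 167), (nat_lit 133), (nat_lit 0xfa3ccf1000155), (nat_lit 125), (nat_lit 165), (nat_lit 133), (nat_lit 153), (nat_lit 0xe74b531000199)],
  [(nat_lit 3), (nat_lit 0xf141d340000ef), (nat_lit 133), (nat_lit 137), (nat_lit 167), (nat_lit 153), (nat_lit 0x4a8fb00018d)],
  [(nat_lit 3), (nat_lit 0xe9451320000ef), (nat_lit 125), (nat_lit 137), (nat_lit 141), (nat_lit 153), (nat_lit 0xf14411e000179)],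
  [(nat_lit 8), (nat_lit 0xe73bd03000111), (nat_lit 245), (nat_lit 257), (nat_lit 0xf2484e900010f), (nat_lit 125), (nat_lit 133), (nat_lit 153), (nat_lit 129), (nat_lit 0xec4d5000001a1)],
  [(nat_lit 6), (nat_lit 0x3b13d000111), (nat_lit 245), (nat_lit 257), (nat_lit 0xe744d2c00010b), (nat_lit 129), (nat_lit 167), (nat_lit 125), (nat_lit 0xec4cd09000179)],
  [(nat_lit 5), (nat_lit 0xfa49108000123), (nat_lit 0x1073d911000135), (nat_lit 137), (nat_lit 153), (nat_lit 165), (nat_lit 0x1024393b00019d)],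
  [(nat_lit 5), (nat_lit 0xf14e915000123), (nat_lit 0xf448135000135), (nat_lit 137), (nat_lit 167), (nat_lit 153), (nat_lit 0xf93c8fa0001ad)],
  [(nat_lit 5), (nat_lit 0xf241d27000123), (nat_lit 0xe54452a000135), (nat_lit 137), (nat_lit 155), (nat_lit 165), (nat_lit 0xec4a90c0001b5)],
  [(nat_lit 8), (nat_lit 0xe34d8ef000123), (nat_lit 0xe74092e000135), (nat_lit 133), (nat_lit 167), (nat_lit 125), (nat_lit 0xe3441210001a9)],
  [(nat_lit 8), (nat_lit 0x10744518000123), (nat_lit 249), (nat_lit 257), (nat_lit 245), (nat_lit 0xe7488f200014d), (nat_lit 129), (nat_lit 165), (nat_lit 0xfd481320001b9)],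
  [(nat_lit 8), (nat_lit 0xfa4b53d000123), (nat_lit 249), (nat_lit 257), (nat_lit 245), (nat_lit 0xe3500e700014d), (nat_lit 125), (nat_lit 153), (nat_lit 141), (nat_lit 165), (nat_lit 0xe34d5280001c5)],
  [(nat_lit 8), (nat_lit 0xe347110000123), (nat_lit 249), (nat_lit 257), (nat_lit 245), (nat_lit 0xf64453d00014d), (nat_lit 153), (nat_lit 167), (nat_lit 0xee41d230001bd)],
  [(nat_lit 8), (nat_lit 0x464f5000123), (nat_lit 249), (nat_lit 257), (nat_lit 245), (nat_lit 0xe546d1200014d), (nat_lit 167), (nat_lit 125), (nat_lit 0xf44fcf9000195)],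
  [(nat_lit 4), (nat_lit 0xe94f90a000129), (nat_lit 245), (nat_lit 0xed488f800010f), (nat_lit 125), (nat_lit 141), (nat_lit 155), (nat_lit 165), (nat_lit 0xe342d3c00016d)],
  [(nat_lit 5), (nat_lit 0xef3e4e9000129), (nat_lit 245), (nat_lit 0xf94fd3a00010f), (nat_lit 129), (nat_lit 153), (nat_lit 167), (nat_lit 129), (nat_lit 0xed4b8fb0001a9)],
  [(nat_lit 5), (nat_lit 0x1024bcf2000129), (nat_lit 249), (nat_lit 259), (nat_lit 247), (nat_lit 0xe948918000113), (nat_lit 319), (nat_lit 233), (nat_lit 221), (nat_lit 0x106429200001fd)],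
  [(nat_lit 5), (nat_lit 0xf445d0e000129), (nat_lit 249), (nat_lit 259), (nat_lit 247), (nat_lit 0xfa4c522000113), (nat_lit 319), (nat_lit 233), (nat_lit 221), (nat_lit 0xf64c13e0001d5)],
  [(nat_lit 6), (nat_lit 0x3b0fa000129), (nat_lit 245), (nat_lit 0xeb49cf900010b), (nat_lit 125), (nat_lit 167), (nat_lit 0x43122000179)],
  [(nat_lit 5), (nat_lit 0x42922000017), (nat_lit 53), (nat_lit 57), (nat_lit 69), (nat_lit 61), (nat_lit 57), (nat_lit 65), (nat_lit 69), (nat_lit 61), (nat_lit 57), (nat_lit 69), (nat_lit 63), (nat_lit 0x4452a000091), (nat_lit 129), (nat_lit 167), (nat_lit 153), (nat_lit 0x3ed3b0001c5)],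
  [(nat_lit 5), (nat_lit 0x3e900000017), (nat_lit 53), (nat_lit 67), (nat_lit 69), (nat_lit 61), (nat_lit 57), (nat_lit 69), (nat_lit 65), (nat_lit 69), (nat_lit 61), (nat_lit 57), (nat_lit 0x3bd08000011), (nat_lit 221), (nat_lit 317), (nat_lit 233), (nat_lit 233), (nat_lit 0xe34a9160001e1)],
  [(nat_lit 5), (nat_lit 0x1063d919000017), (nat_lit 53), (nat_lit 67), (nat_lit 69), (nat_lit 61), (nat_lit 57), (nat_lit 69), (nat_lit 65), (nat_lit 69), (nat_lit 61), (nat_lit 57), (nat_lit 0xf84b929000011), (nat_lit 223), (nat_lit 319), (nat_lit 319), (nat_lit 0xe74651e0001d1)],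
  [(nat_lit 8), (nat_lit 0xf442d3d000017), (nat_lit 69), (nat_lit 65), (nat_lit 0x4f917000015), (nat_lit 245), (nat_lit 0xe94a12a000235)],
  [(nat_lit 8), (nat_lit 0x4812e000017), (nat_lit 69), (nat_lit 65), (nat_lit 0xf14a926000015), (nat_lit 245), (nat_lit 0xe34a121000231)],
  [(nat_lit 8), (nat_lit 0xe54b918000017), (nat_lit 69), (nat_lit 65), (nat_lit 0xef480fc000015), (nat_lit 247), (nat_lit 0xf14993c000239)]]
noncomputable def R1 : List (List ℕ) :=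
  [[(nat_lit 8), (nat_lit 0xe741539000017), (nat_lit 53), (nat_lit 65), (nat_lit 69), (nat_lit 63), (nat_lit 57), (nat_lit 61), (nat_lit 69), (nat_lit 67), (nat_lit 69), (nat_lit 0xe53b90c000015), (nat_lit 245), (nat_lit 0x4fd3f000239)],
  [(nat_lit 8), (nat_lit 0xe349134000017), (nat_lit 53), (nat_lit 65), (nat_lit 69), (nat_lit 63), (nat_lit 57), (nat_lit 61), (nat_lit 69), (nat_lit 67), (nat_lit 69), (nat_lit 0xec4f140000015), (nat_lit 0x47139000231)],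
  [(nat_lit 8), (nat_lit 0xe74152d000017), (nat_lit 53), (nat_lit 65), (nat_lit 69), (nat_lit 63), (nat_lit 57), (nat_lit 61), (nat_lit 69), (nat_lit 67), (nat_lit 69), (nat_lit 0xe54b53c000015), (nat_lit 0xf33e4f6000235)],
  [(nat_lit 8), (nat_lit 0xe34cd22000017), (nat_lit 69), (nat_lit 61), (nat_lit 57), (nat_lit 61), (nat_lit 57), (nat_lit 69), (nat_lit 67), (nat_lit 69), (nat_lit 0xe94c93a000015), (nat_lit 0xe94a934000239)],
  [(nat_lit 8), (nat_lit 0xeb3e924000017), (nat_lit 69), (nat_lit 61), (nat_lit 57), (nat_lit 61), (nat_lit 57), (nat_lit 69), (nat_lit 67), (nat_lit 69), (nat_lit 0x4f4ff000015), (nat_lit 247), (nat_lit 0xf14292f000235)],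
  [(nat_lit 8), (nat_lit 0x47cf7000017), (nat_lit 69), (nat_lit 61), (nat_lit 57), (nat_lit 61), (nat_lit 57), (nat_lit 69), (nat_lit 67), (nat_lit 69), (nat_lit 0xec41540000015), (nat_lit 0xe74b105000231)],
  [(nat_lit 7), (nat_lit 0xe7000017), (nat_lit 63), (nat_lit 57), (nat_lit 63), (nat_lit 57), (nat_lit 65), (nat_lit 69), (nat_lit 65), (nat_lit 0x3dd3f00000d), (nat_lit 129), (nat_lit 141), (nat_lit 0x10b4712500016d)],
  [(nat_lit 7), (nat_lit 0x394e7000017), (nat_lit 57), (nat_lit 61), (nat_lit 57), (nat_lit 63), (nat_lit 57), (nat_lit 0x38ce7000015), (nat_lit 245), (nat_lit 0xeb4bd3f000239)],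
  [(nat_lit 7), (nat_lit 0x10b000017), (nat_lit 57), (nat_lit 63), (nat_lit 57), (nat_lit 63), (nat_lit 69), (nat_lit 65), (nat_lit 0xf44d93f000015), (nat_lit 0x3b537000235)],
  [(nat_lit 7), (nat_lit 0x3b4ef000017), (nat_lit 65), (nat_lit 69), (nat_lit 63), (nat_lit 57), (nat_lit 63), (nat_lit 57), (nat_lit 69), (nat_lit 67), (nat_lit 69), (nat_lit 0xe341cf400000d), (nat_lit 133), (nat_lit 137), (nat_lit 0xe95010f00016d)],
  [(nat_lit 7), (nat_lit 0x41900000017), (nat_lit 67), (nat_lit 69), (nat_lit 63), (nat_lit 57), (nat_lit 63), (nat_lit 69), (nat_lit 67), (nat_lit 69), (nat_lit 0xfa4bd1d00000d), (nat_lit 133), (nat_lit 137), (nat_lit 0xe74012f00016d)],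
  [(nat_lit 7), (nat_lit 0x4190a000017), (nat_lit 53), (nat_lit 57), (nat_lit 67), (nat_lit 69), (nat_lit 61), (nat_lit 69), (nat_lit 65), (nat_lit 0xff3d905000015), (nat_lit 247), (nat_lit 0xe94a12a000235)],
  [(nat_lit 7), (nat_lit 0x44cf7000017), (nat_lit 67), (nat_lit 69), (nat_lit 63), (nat_lit 57), (nat_lit 61), (nat_lit 0xe344513000015), (nat_lit 245), (nat_lit 0xe54bd26000239)],
  [(nat_lit 10), (nat_lit 0xe5000017), (nat_lit 53), (nat_lit 61), (nat_lit 57), (nat_lit 61), (nat_lit 57), (nat_lit 69), (nat_lit 65), (nat_lit 69), (nat_lit 0x1124f907000015), (nat_lit 247), (nat_lit 249), (nat_lit 0xe93d13d000251)],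
  [(nat_lit 3), (nat_lit 23), (nat_lit 45), (nat_lit 53), (nat_lit 67), (nat_lit 69), (nat_lit 65), (nat_lit 0x3c914000019)],
  [(nat_lit 3), (nat_lit 0xed000017), (nat_lit 45), (nat_lit 53), (nat_lit 67), (nat_lit 69), (nat_lit 0xe33b513000019)],
  [(nat_lit 6), (nat_lit 0xee000017), (nat_lit 53), (nat_lit 57), (nat_lit 63), (nat_lit 57), (nat_lit 63), (nat_lit 67), (nat_lit 0xee440f2000011), (nat_lit 221), (nat_lit 235), (nat_lit 319), (nat_lit 0xeb4fd36000215)],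
  [(nat_lit 6), (nat_lit 0x39d13000017), (nat_lit 53), (nat_lit 65), (nat_lit 69), (nat_lit 63), (nat_lit 57), (nat_lit 61), (nat_lit 0xef4b50f000011), (nat_lit 221), (nat_lit 227), (nat_lit 235), (nat_lit 221), (nat_lit 0xee41d030001f1)],
  [(nat_lit 6), (nat_lit 0x41924000017), (nat_lit 69), (nat_lit 61), (nat_lit 57), (nat_lit 61), (nat_lit 57), (nat_lit 65), (nat_lit 0x3d905000011), (nat_lit 0xe544d250001f9)],
  [(nat_lit 8), (nat_lit 0xed408ee000107), (nat_lit 125), (nat_lit 137), (nat_lit 165), (nat_lit 155), (nat_lit 0xf64cd18000159), (nat_lit 257), (nat_lit 245), (nat_lit 259), (nat_lit 0xeb4b13e000271)],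
  [(nat_lit 8), (nat_lit 0xef43501000107), (nat_lit 125), (nat_lit 141), (nat_lit 0x408ef000137), (nat_lit 257), (nat_lit 247), (nat_lit 0x1003d128000269)],
  [(nat_lit 8), (nat_lit 0xe7454e9000107), (nat_lit 125), (nat_lit 137), (nat_lit 153), (nat_lit 165), (nat_lit 0xe53c91c000159), (nat_lit 245), (nat_lit 259), (nat_lit 247), (nat_lit 257), (nat_lit 0xeb4b0f3000279)],
  [(nat_lit 8), (nat_lit 0xe34fd08000107), (nat_lit 125), (nat_lit 133), (nat_lit 141), (nat_lit 153), (nat_lit 0xfe4911700014b), (nat_lit 245), (nat_lit 257), (nat_lit 247), (nat_lit 0xe349d0f000261)],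
  [(nat_lit 3), (nat_lit 0x3d93d000107), (nat_lit 133), (nat_lit 167), (nat_lit 0x4490f00016d)],
  [(nat_lit 3), (nat_lit 0xed3d8f4000107), (nat_lit 125), (nat_lit 165), (nat_lit 129), (nat_lit 0x1144b50f000191)],
  [(nat_lit 6), (nat_lit 0x3c4f5000117), (nat_lit 247), (nat_lit 257), (nat_lit 0xe54e51400010f), (nat_lit 125), (nat_lit 165), (nat_lit 129), (nat_lit 0xe94d905000185)],
  [(nat_lit 9), (nat_lit 0x3b913000131), (nat_lit 259), (nat_lit 0xeb4c13b000113), (nat_lit 221), (nat_lit 319), (nat_lit 225), (nat_lit 0xf548d350001cd)],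
  [(nat_lit 9), (nat_lit 0xed000131), (nat_lit 0x3b52c00010b), (nat_lit 133), (nat_lit 167), (nat_lit 0xeb48925000179)],
  [(nat_lit 5), (nat_lit 0xe941924000131), (nat_lit 259), (nat_lit 0xed4e91a000113), (nat_lit 221), (nat_lit 221), (nat_lit 227), (nat_lit 319), (nat_lit 0x3a50800020d)],
  [(nat_lit 5), (nat_lit 0xf44613e000131), (nat_lit 259), (nat_lit 0x3acf2000113), (nat_lit 319), (nat_lit 223), (nat_lit 0x46503000209)],
  [(nat_lit 5), (nat_lit 0xe74e8fc000131), (nat_lit 259), (nat_lit 0xe74cd0b000113), (nat_lit 223), (nat_lit 223), (nat_lit 319), (nat_lit 225), (nat_lit 0xf4414ee0001d9)],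
  [(nat_lit 5), (nat_lit 0xee42117000131), (nat_lit 259), (nat_lit 0x48515000113), (nat_lit 227), (nat_lit 233), (nat_lit 227), (nat_lit 319), (nat_lit 0xe33b92e000205)],
  [(nat_lit 5), (nat_lit 0xe53a51c000131), (nat_lit 259), (nat_lit 0xe73ed07000113), (nat_lit 221), (nat_lit 235), (nat_lit 317), (nat_lit 227), (nat_lit 0xe73f93c0001f5)],
  [(nat_lit 5), (nat_lit 0x1003ed34000131), (nat_lit 0xe54e90600010b), (nat_lit 141), (nat_lit 165), (nat_lit 155), (nat_lit 0xff3a51c00019d)],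
  [(nat_lit 8), (nat_lit 0xe54f134000131), (nat_lit 259), (nat_lit 0xfc4c51d000113), (nat_lit 317), (nat_lit 225), (nat_lit 223), (nat_lit 0xf93d9260001cd)],
  [(nat_lit 8), (nat_lit 0x38cf1000131), (nat_lit 0xe54911200011f), (nat_lit 247), (nat_lit 259), (nat_lit 0x1014e92b0002c1)],
  [(nat_lit 8), (nat_lit 0xe547d21000131), (nat_lit 0xf64912800011f), (nat_lit 247), (nat_lit 0x4b93d0002b9)],
  [(nat_lit 8), (nat_lit 0x47d27000131), (nat_lit 0x4a0fb00011f), (nat_lit 257), (nat_lit 249), (nat_lit 259), (nat_lit 0xf74d93f0002cd)],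
  [(nat_lit 8), (nat_lit 0xe94d90d000131), (nat_lit 0xe93e53900010b), (nat_lit 141), (nat_lit 153), (nat_lit 165), (nat_lit 0xe34c8f90001b9)],
  [(nat_lit 8), (nat_lit 0xf14fd1d000131), (nat_lit 0xe53d11400010b), (nat_lit 167), (nat_lit 129), (nat_lit 155), (nat_lit 0x4b5180001c5)],
  [(nat_lit 8), (nat_lit 0x45cf9000131), (nat_lit 0xf94f51100010b), (nat_lit 125), (nat_lit 129), (nat_lit 137), (nat_lit 155), (nat_lit 0x11041d3400017d)],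
  [(nat_lit 8), (nat_lit 0xeb4391a000131), (nat_lit 0xee4a93400010b), (nat_lit 125), (nat_lit 129), (nat_lit 165), (nat_lit 155), (nat_lit 0xfc4c50a0001b9)],
  [(nat_lit 7), (nat_lit 0xf140914000131), (nat_lit 245), (nat_lit 257), (nat_lit 249), (nat_lit 259), (nat_lit 0xe350133000121), (nat_lit 0xe94a0f5000201)],
  [(nat_lit 7), (nat_lit 0xe34453a000131), (nat_lit 247), (nat_lit 249), (nat_lit 0xec50127000147), (nat_lit 247), (nat_lit 257), (nat_lit 0xed4c4f80002ed)],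
  [(nat_lit 3), (nat_lit 0x3b914000131), (nat_lit 245), (nat_lit 257), (nat_lit 0xed4392d0002b1)],
  [(nat_lit 6), (nat_lit 0x41900000131), (nat_lit 259), (nat_lit 0xe74a527000017), (nat_lit 49), (nat_lit 53), (nat_lit 61), (nat_lit 69), (nat_lit 61), (nat_lit 65), (nat_lit 69), (nat_lit 61), (nat_lit 53), (nat_lit 63), (nat_lit 0xf23d122000019)],
  [(nat_lit 6), (nat_lit 0x38cf2000131), (nat_lit 0xef3d53500010f), (nat_lit 133), (nat_lit 137), (nat_lit 165), (nat_lit 0x10a47122000185)],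
  [(nat_lit 9), (nat_lit 0xf34690f000125), (nat_lit 259), (nat_lit 247), (nat_lit 0xe744929000119), (nat_lit 0xed4691f000301)],
  [(nat_lit 9), (nat_lit 0xf54650a000125), (nat_lit 249), (nat_lit 259), (nat_lit 247), (nat_lit 257), (nat_lit 0xe54d528000145), (nat_lit 245), (nat_lit 257), (nat_lit 249), (nat_lit 0xf74d12b0002f5)],
  [(nat_lit 9), (nat_lit 0xe34a90e000125), (nat_lit 0xe342517000141), (nat_lit 0xf3481310002c5)],
  [(nat_lit 5), (nat_lit 0xf44790e000125), (nat_lit 249), (nat_lit 259), (nat_lit 247), (nat_lit 257), (nat_lit 0xe94a12f000145), (nat_lit 247), (nat_lit 257), (nat_lit 247), (nat_lit 0xf24f93c000259)],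
  [(nat_lit 5), (nat_lit 0xeb3ed33000125), (nat_lit 259), (nat_lit 247), (nat_lit 0x4850e000121), (nat_lit 221), (nat_lit 235), (nat_lit 319), (nat_lit 225), (nat_lit 0xed3dd3d0001dd)],
  [(nat_lit 5), (nat_lit 0xf441520000125), (nat_lit 259), (nat_lit 247), (nat_lit 0xe53ad19000121), (nat_lit 221), (nat_lit 0xf1421380001e9)],
  [(nat_lit 5), (nat_lit 0xf442d2a000125), (nat_lit 259), (nat_lit 247), (nat_lit 0xe5500fd000121), (nat_lit 221), (nat_lit 227), (nat_lit 235), (nat_lit 221), (nat_lit 0xeb4a900000219)],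
  [(nat_lit 5), (nat_lit 0xe34212a000125), (nat_lit 259), (nat_lit 247), (nat_lit 0x40120000121), (nat_lit 319), (nat_lit 225), (nat_lit 317), (nat_lit 0xf146d20000219)],
  [(nat_lit 8), (nat_lit 0x10a4ad06000125), (nat_lit 259), (nat_lit 247), (nat_lit 0xeb45cfa000119), (nat_lit 259), (nat_lit 247), (nat_lit 0xe543537000289)],
  [(nat_lit 8), (nat_lit 0xef49932000125), (nat_lit 249), (nat_lit 259), (nat_lit 247), (nat_lit 257), (nat_lit 0xec4d920000145), (nat_lit 245), (nat_lit 249), (nat_lit 0xe34b531000271)],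
  [(nat_lit 8), (nat_lit 0xe53a527000125), (nat_lit 249), (nat_lit 259), (nat_lit 247), (nat_lit 257), (nat_lit 0xe54a51a000145), (nat_lit 259), (nat_lit 247), (nat_lit 257), (nat_lit 0xf74e4f3000269)],
  [(nat_lit 8), (nat_lit 0xe94151f000125), (nat_lit 249), (nat_lit 259), (nat_lit 247), (nat_lit 257), (nat_lit 0xed4b923000145), (nat_lit 245), (nat_lit 257), (nat_lit 247), (nat_lit 259), (nat_lit 0xf5475320002e1)],
  [(nat_lit 8), (nat_lit 0x47d10000125), (nat_lit 249), (nat_lit 259), (nat_lit 247), (nat_lit 257), (nat_lit 0x44932000145), (nat_lit 257), (nat_lit 245), (nat_lit 0xe74411a0002c1)],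
  [(nat_lit 8), (nat_lit 0xfa47ceb000125), (nat_lit 259), (nat_lit 247), (nat_lit 0xf54d902000121), (nat_lit 227), (nat_lit 233), (nat_lit 319), (nat_lit 225), (nat_lit 0xff405370001ed)],
  [(nat_lit 8), (nat_lit 0xe347917000125), (nat_lit 259), (nat_lit 247), (nat_lit 0xf44990c000121), (nat_lit 221), (nat_lit 317), (nat_lit 235), (nat_lit 223), (nat_lit 0xff43d0d0001ed)],
  [(nat_lit 8), (nat_lit 0xf94e523000125), (nat_lit 259), (nat_lit 247), (nat_lit 0xe94f52b000121), (nat_lit 225), (nat_lit 223), (nat_lit 233), (nat_lit 317), (nat_lit 0xef3e53b0001d5)],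
  [(nat_lit 8), (nat_lit 0xe54593c000125), (nat_lit 259), (nat_lit 247), (nat_lit 0xe94f138000121), (nat_lit 221), (nat_lit 225), (nat_lit 0xe3448fa0001fd)],
  [(nat_lit 8), (nat_lit 0xe542d1c000125), (nat_lit 259), (nat_lit 247), (nat_lit 0xf346532000121), (nat_lit 0x49d1a000205)],
  [(nat_lit 8), (nat_lit 0x4f12e000125), (nat_lit 259), (nat_lit 247), (nat_lit 0xe3458f6000121), (nat_lit 227), (nat_lit 221), (nat_lit 0xe33fd060001e9)],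
  [(nat_lit 8), (nat_lit 0xe34a90e000125), (nat_lit 0xf845d03000141), (nat_lit 245), (nat_lit 257), (nat_lit 249), (nat_lit 259), (nat_lit 0xfe41ceb00024d)],
  [(nat_lit 8), (nat_lit 0xe54bce9000125), (nat_lit 0x4d507000141), (nat_lit 245), (nat_lit 0xe33bd150002c5)],
  [(nat_lit 8), (nat_lit 0x1014d116000125), (nat_lit 0xee4a4f1000141), (nat_lit 245), (nat_lit 0xed420f1000305)],
  [(nat_lit 8), (nat_lit 0xe547936000125), (nat_lit 0xef41d06000141), (nat_lit 247), (nat_lit 257), (nat_lit 0x4fcf1000241)],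
  [(nat_lit 7), (nat_lit 0x1054a10f000125), (nat_lit 257), (nat_lit 0x4453200012f), (nat_lit 221), (nat_lit 319), (nat_lit 235), (nat_lit 317), (nat_lit 0x47534000211)],
  [(nat_lit 7), (nat_lit 0x10841907000125), (nat_lit 245), (nat_lit 257), (nat_lit 247), (nat_lit 259), (nat_lit 0xec4a93b00010b), (nat_lit 167), (nat_lit 129), (nat_lit 155), (nat_lit 0x4a9070001c5)],
  [(nat_lit 10), (nat_lit 0xf141d15000125), (nat_lit 257), (nat_lit 0xe54c12e000135), (nat_lit 129), (nat_lit 153), (nat_lit 133), (nat_lit 0xeb469060001c5)],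
  [(nat_lit 6), (nat_lit 0xfa40105000125), (nat_lit 245), (nat_lit 257), (nat_lit 245), (nat_lit 0x414f5000017), (nat_lit 61), (nat_lit 69), (nat_lit 61), (nat_lit 53), (nat_lit 69), (nat_lit 63), (nat_lit 67), (nat_lit 69), (nat_lit 0xe541d0e000019)],
  [(nat_lit 5), (nat_lit 0xf54f13f00010b), (nat_lit 155), (nat_lit 0xef4f5210000c1), (nat_lit 155), (nat_lit 141), (nat_lit 167), (nat_lit 0xf74e9100001a9)],
  [(nat_lit 5), (nat_lit 0xf449d1b00010b), (nat_lit 141), (nat_lit 167), (nat_lit 155), (nat_lit 0x4150c0000ed), (nat_lit 223), (nat_lit 235), (nat_lit 227), (nat_lit 0xee46d2e000229)],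
  [(nat_lit 5), (nat_lit 0xec4f51300010b), (nat_lit 141), (nat_lit 167), (nat_lit 155), (nat_lit 0xe34ecfa0000ed), (nat_lit 221), (nat_lit 221), (nat_lit 319), (nat_lit 233), (nat_lit 0xf64b533000219)],
  [(nat_lit 8), (nat_lit 0x3b0f100010b), (nat_lit 153), (nat_lit 153), (nat_lit 153), (nat_lit 0xe940934000109), (nat_lit 0xee4d0e7000375)],
  [(nat_lit 8), (nat_lit 0xe54892e00010b), (nat_lit 153), (nat_lit 153), (nat_lit 153), (nat_lit 0x4c102000109), (nat_lit 247), (nat_lit 249), (nat_lit 0x11843518000371)],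
  [(nat_lit 8), (nat_lit 0xf243d0800010b), (nat_lit 153), (nat_lit 153), (nat_lit 153), (nat_lit 0x4cce9000109), (nat_lit 247), (nat_lit 249), (nat_lit 0xe34191b000379)],
  [(nat_lit 8), (nat_lit 0xe53c90e00010b), (nat_lit 141), (nat_lit 167), (nat_lit 155), (nat_lit 0xee3f1380000ed), (nat_lit 225), (nat_lit 223), (nat_lit 233), (nat_lit 317), (nat_lit 0x481190001fd)],
  [(nat_lit 8), (nat_lit 0xf74152200010b), (nat_lit 141), (nat_lit 167), (nat_lit 155), (nat_lit 0x11b3a51e0000ed), (nat_lit 221), (nat_lit 225), (nat_lit 0xe34e9160001d1)],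
  [(nat_lit 8), (nat_lit 0xe544cfa00010b), (nat_lit 141), (nat_lit 167), (nat_lit 155), (nat_lit 0xfa439290000ed), (nat_lit 0xe54e0ee0001d5)],
  [(nat_lit 8), (nat_lit 0xed468ef00010b), (nat_lit 141), (nat_lit 167), (nat_lit 155), (nat_lit 0xe33e9020000ed), (nat_lit 225), (nat_lit 317), (nat_lit 233), (nat_lit 0xf5481140001e1)],
  [(nat_lit 8), (nat_lit 0xfa4213100010b), (nat_lit 141), (nat_lit 167), (nat_lit 155), (nat_lit 0xee495360000ed), (nat_lit 223), (nat_lit 227), (nat_lit 0xf343d150001d9)],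
  [(nat_lit 8), (nat_lit 0xeb488ef00010b), (nat_lit 141), (nat_lit 167), (nat_lit 155), (nat_lit 0xec4d0fc0000ed), (nat_lit 235), (nat_lit 0xe74c516000209)],
  [(nat_lit 8), (nat_lit 0xec4712200010b), (nat_lit 141), (nat_lit 167), (nat_lit 155), (nat_lit 0xf13f1140000ed), (nat_lit 221), (nat_lit 317), (nat_lit 235), (nat_lit 223), (nat_lit 0xfa465180001cd)],
  [(nat_lit 7), (nat_lit 0xf13dce900010b), (nat_lit 129), (nat_lit 153), (nat_lit 167), (nat_lit 133), (nat_lit 0x4ccfb00014b), (nat_lit 259), (nat_lit 247), (nat_lit 0xeb4992a000359)],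
  [(nat_lit 7), (nat_lit 0xe545cf100010b), (nat_lit 165), (nat_lit 0xef458fc000137), (nat_lit 245), (nat_lit 249), (nat_lit 257), (nat_lit 0xee49514000341)],
  [(nat_lit 7), (nat_lit 0xf14010200010b), (nat_lit 125), (nat_lit 129), (nat_lit 153), (nat_lit 0x10e49508000109), (nat_lit 245), (nat_lit 249), (nat_lit 257), (nat_lit 245), (nat_lit 0x4250b000335)],
  [(nat_lit 7), (nat_lit 0xf44312f00010b), (nat_lit 125), (nat_lit 155), (nat_lit 129), (nat_lit 0xe34a0e9000109), (nat_lit 247), (nat_lit 249), (nat_lit 0x4e509000375)],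
  [(nat_lit 7), (nat_lit 0xeb3e4f600010b), (nat_lit 125), (nat_lit 129), (nat_lit 165), (nat_lit 155), (nat_lit 0xfc4492000014f), (nat_lit 257), (nat_lit 249), (nat_lit 0xf93e136000335)],
  [(nat_lit 7), (nat_lit 0xe93f52f00010b), (nat_lit 133), (nat_lit 155), (nat_lit 0xf54b90200014f), (nat_lit 257), (nat_lit 249), (nat_lit 257), (nat_lit 0xed41d05000375)],
  [(nat_lit 5), (nat_lit 0xee3d928000121), (nat_lit 221), (nat_lit 233), (nat_lit 223), (nat_lit 0xe9435310000f1), (nat_lit 221), (nat_lit 233), (nat_lit 319), (nat_lit 0xf54d0e900020d)],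
  [(nat_lit 5), (nat_lit 0x3f132000121), (nat_lit 221), (nat_lit 233), (nat_lit 223), (nat_lit 0x4a11d0000f1), (nat_lit 235), (nat_lit 317), (nat_lit 221), (nat_lit 0xeb4512d000205)],
  [(nat_lit 5), (nat_lit 0xe94092d000121), (nat_lit 221), (nat_lit 233), (nat_lit 223), (nat_lit 0xfa4dd1a0000f1), (nat_lit 223), (nat_lit 317), (nat_lit 227), (nat_lit 0x475340001f5)],
  [(nat_lit 5), (nat_lit 0xf24d532000121), (nat_lit 221), (nat_lit 233), (nat_lit 223), (nat_lit 0xe34b5210000f1), (nat_lit 317), (nat_lit 233), (nat_lit 225), (nat_lit 0xe74f53a0001d9)],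
  [(nat_lit 8), (nat_lit 0x4693c000121), (nat_lit 221), (nat_lit 233), (nat_lit 223), (nat_lit 0x41d1a0000f1), (nat_lit 221), (nat_lit 235), (nat_lit 221), (nat_lit 225), (nat_lit 0x10e4953c0001f9)],
  [(nat_lit 8), (nat_lit 0xed4e93a000121), (nat_lit 227), (nat_lit 235), (nat_lit 227), (nat_lit 0xe348102000129), (nat_lit 247), (nat_lit 249), (nat_lit 257), (nat_lit 0xeb4512f0002ed)],
  [(nat_lit 8), (nat_lit 0xf84811d000121), (nat_lit 227), (nat_lit 235), (nat_lit 227), (nat_lit 0xec4e4f6000129), (nat_lit 247), (nat_lit 0x105455080002c5)],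
  [(nat_lit 8), (nat_lit 0xf44d50d000121), (nat_lit 227), (nat_lit 235), (nat_lit 227), (nat_lit 0xf4434ff000129), (nat_lit 247), (nat_lit 249), (nat_lit 257), (nat_lit 0x10b471250002e9)],
  [(nat_lit 8), (nat_lit 0xee45d1f000121), (nat_lit 227), (nat_lit 235), (nat_lit 227), (nat_lit 0x103470ed000129), (nat_lit 247), (nat_lit 257), (nat_lit 0x4e50a0002e1)],
  [(nat_lit 7), (nat_lit 0xf43c928000121), (nat_lit 223), (nat_lit 225), (nat_lit 317), (nat_lit 0x1064850c00012d), (nat_lit 0xe35011400036d)],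
  [(nat_lit 7), (nat_lit 0xef45536000121), (nat_lit 317), (nat_lit 221), (nat_lit 221), (nat_lit 0xe73cd12000123), (nat_lit 245), (nat_lit 257), (nat_lit 249), (nat_lit 259), (nat_lit 0xe54fd290002e1)],
  [(nat_lit 7), (nat_lit 0xe548529000121), (nat_lit 227), (nat_lit 235), (nat_lit 0x43936000123), (nat_lit 245), (nat_lit 257), (nat_lit 247), (nat_lit 259), (nat_lit 0xee41d0b0002e1)],
  [(nat_lit 7), (nat_lit 0xfc4bd27000121), (nat_lit 317), (nat_lit 221), (nat_lit 221), (nat_lit 0xe348123000129), (nat_lit 247), (nat_lit 257), (nat_lit 0xf44792e0002a5)],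
  [(nat_lit 7), (nat_lit 0xe34a129000121), (nat_lit 233), (nat_lit 223), (nat_lit 0xed41d03000123), (nat_lit 245), (nat_lit 257), (nat_lit 247), (nat_lit 0xef499350002ed)],
  [(nat_lit 7), (nat_lit 0x4313e000121), (nat_lit 223), (nat_lit 319), (nat_lit 223), (nat_lit 235), (nat_lit 0xeb480e700012d), (nat_lit 0x3acf800036d)],
  [(nat_lit 3), (nat_lit 0xe949cf5000121), (nat_lit 0xe54d1070001ed)],
  [(nat_lit 5), (nat_lit 0x4e902000151), (nat_lit 247), (nat_lit 249), (nat_lit 257), (nat_lit 245), (nat_lit 0xf74a92a000145), (nat_lit 257), (nat_lit 249), (nat_lit 259), (nat_lit 0x3dd300002c5)]]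
noncomputable def R2 : List (List ℕ) :=
  [[(nat_lit 5), (nat_lit 0xfc494fd000151), (nat_lit 247), (nat_lit 249), (nat_lit 257), (nat_lit 245), (nat_lit 0x3b50f000145), (nat_lit 0x1224493600024d)],
  [(nat_lit 5), (nat_lit 0x12c47129000151), (nat_lit 247), (nat_lit 249), (nat_lit 257), (nat_lit 245), (nat_lit 0x4a92b000145), (nat_lit 257), (nat_lit 245), (nat_lit 0xe33bd22000359)],
  [(nat_lit 5), (nat_lit 0xf74cd10000151), (nat_lit 247), (nat_lit 249), (nat_lit 257), (nat_lit 245), (nat_lit 0xee4d50b000145), (nat_lit 247), (nat_lit 257), (nat_lit 249), (nat_lit 0x10e45d22000241)],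
  [(nat_lit 5), (nat_lit 0xe74a8fa000151), (nat_lit 245), (nat_lit 259), (nat_lit 247), (nat_lit 257), (nat_lit 0x400f7000151), (nat_lit 249), (nat_lit 259), (nat_lit 245), (nat_lit 0xf44c127000349)],
  [(nat_lit 5), (nat_lit 0xe53a540000151), (nat_lit 245), (nat_lit 259), (nat_lit 247), (nat_lit 257), (nat_lit 0xed45923000151), (nat_lit 257), (nat_lit 247), (nat_lit 259), (nat_lit 0xed4893e0002e9)],
  [(nat_lit 8), (nat_lit 0xe541924000151), (nat_lit 247), (nat_lit 249), (nat_lit 257), (nat_lit 245), (nat_lit 0xee4a518000145), (nat_lit 257), (nat_lit 245), (nat_lit 0xf44393f0002c1)],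
  [(nat_lit 8), (nat_lit 0xe73e8fa000151), (nat_lit 247), (nat_lit 249), (nat_lit 257), (nat_lit 245), (nat_lit 0xf14a50e000145), (nat_lit 259), (nat_lit 247), (nat_lit 257), (nat_lit 0xf44c500000269)],
  [(nat_lit 8), (nat_lit 0xeb47126000151), (nat_lit 247), (nat_lit 249), (nat_lit 257), (nat_lit 245), (nat_lit 0xf13f109000145), (nat_lit 245), (nat_lit 249), (nat_lit 0xe73bd36000271)],
  [(nat_lit 8), (nat_lit 0xfb4a0fc000151), (nat_lit 247), (nat_lit 249), (nat_lit 257), (nat_lit 245), (nat_lit 0xe7474ef000145), (nat_lit 0xe548d11000371)],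
  [(nat_lit 8), (nat_lit 0xf34a102000151), (nat_lit 247), (nat_lit 249), (nat_lit 257), (nat_lit 245), (nat_lit 0xf44d901000145), (nat_lit 245), (nat_lit 249), (nat_lit 259), (nat_lit 247), (nat_lit 0xe74a507000405)],
  [(nat_lit 8), (nat_lit 0xed4b0f2000151), (nat_lit 247), (nat_lit 249), (nat_lit 257), (nat_lit 245), (nat_lit 0x10049130000145), (nat_lit 245), (nat_lit 257), (nat_lit 247), (nat_lit 259), (nat_lit 0xef4990f0002e1)],
  [(nat_lit 8), (nat_lit 0x39513000151), (nat_lit 245), (nat_lit 259), (nat_lit 247), (nat_lit 257), (nat_lit 0xf64410d000151), (nat_lit 245), (nat_lit 257), (nat_lit 247), (nat_lit 0xed4b10200025d)],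
  [(nat_lit 8), (nat_lit 0xfa47d21000151), (nat_lit 245), (nat_lit 259), (nat_lit 247), (nat_lit 257), (nat_lit 0xf64491e000151), (nat_lit 257), (nat_lit 249), (nat_lit 259), (nat_lit 0x4cd33000405)],
  [(nat_lit 7), (nat_lit 0x3bd3d000151), (nat_lit 247), (nat_lit 257), (nat_lit 249), (nat_lit 0xed4312e000147), (nat_lit 247), (nat_lit 257), (nat_lit 0x39d27000365)],
  [(nat_lit 7), (nat_lit 0xf448d19000151), (nat_lit 245), (nat_lit 257), (nat_lit 249), (nat_lit 259), (nat_lit 0xe94fcee000163), (nat_lit 257), (nat_lit 245), (nat_lit 259), (nat_lit 0xe94d9010002bd)],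
  [(nat_lit 7), (nat_lit 0xef3e535000151), (nat_lit 247), (nat_lit 257), (nat_lit 245), (nat_lit 0xe74f92a00015b), (nat_lit 141), (nat_lit 153), (nat_lit 167), (nat_lit 0xf34bd36000171)],
  [(nat_lit 7), (nat_lit 0xe341511000151), (nat_lit 0xe34f4eb000121), (nat_lit 227), (nat_lit 233), (nat_lit 319), (nat_lit 225), (nat_lit 0xe7498f30001ed)],
  [(nat_lit 10), (nat_lit 0xee47cfb000151), (nat_lit 247), (nat_lit 257), (nat_lit 249), (nat_lit 0xee4bcee000147), (nat_lit 247), (nat_lit 249), (nat_lit 257), (nat_lit 0xe53b9310003e9)],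
  [(nat_lit 10), (nat_lit 0xf24052a000151), (nat_lit 247), (nat_lit 259), (nat_lit 0xe349132000131), (nat_lit 247), (nat_lit 257), (nat_lit 249), (nat_lit 259), (nat_lit 0xec4893600037d)],
  [(nat_lit 3), (nat_lit 0xe34a939000151), (nat_lit 245), (nat_lit 257), (nat_lit 249), (nat_lit 0xed409300002f5)],
  [(nat_lit 6), (nat_lit 0xe741910000151), (nat_lit 0x10d4d4fb00015b), (nat_lit 141), (nat_lit 165), (nat_lit 155), (nat_lit 0xeb45108000185)],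
  [(nat_lit 6), (nat_lit 0x3a4f2000151), (nat_lit 245), (nat_lit 0xe55012c000135), (nat_lit 129), (nat_lit 153), (nat_lit 133), (nat_lit 167), (nat_lit 0xfb43d3d000185)],
  [(nat_lit 7), (nat_lit 0xe3000113), (nat_lit 225), (nat_lit 235), (nat_lit 235), (nat_lit 0xeb44106000129), (nat_lit 247), (nat_lit 0xe33c9080002c5)],
  [(nat_lit 7), (nat_lit 0x43914000113), (nat_lit 227), (nat_lit 233), (nat_lit 317), (nat_lit 227), (nat_lit 0xf93d0eb000129), (nat_lit 247), (nat_lit 249), (nat_lit 257), (nat_lit 0xf7459060002f5)],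
  [(nat_lit 3), (nat_lit 0x3e50a000113), (nat_lit 233), (nat_lit 233), (nat_lit 227), (nat_lit 235), (nat_lit 0xe54c90f00022d)],
  [(nat_lit 8), (nat_lit 0x4f53d000115), (nat_lit 247), (nat_lit 259), (nat_lit 247), (nat_lit 0x4b503000125), (nat_lit 257), (nat_lit 247), (nat_lit 0x1104c0ff00025d)],
  [(nat_lit 8), (nat_lit 0xec48114000115), (nat_lit 245), (nat_lit 257), (nat_lit 0x4053300010b), (nat_lit 141), (nat_lit 153), (nat_lit 165), (nat_lit 0xef441270001b9)],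
  [(nat_lit 8), (nat_lit 0x49d1e000115), (nat_lit 245), (nat_lit 257), (nat_lit 0xf74f53f00010b), (nat_lit 125), (nat_lit 129), (nat_lit 137), (nat_lit 155), (nat_lit 0x1034f12f00017d)],
  [(nat_lit 8), (nat_lit 0xe343d32000115), (nat_lit 245), (nat_lit 257), (nat_lit 0xe93d11900010b), (nat_lit 167), (nat_lit 129), (nat_lit 155), (nat_lit 0xe34013c0001c5)],
  [(nat_lit 8), (nat_lit 0xe74d8f3000115), (nat_lit 245), (nat_lit 257), (nat_lit 0xf34691400010b), (nat_lit 125), (nat_lit 129), (nat_lit 165), (nat_lit 155), (nat_lit 0x101441360001b9)],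
  [(nat_lit 8), (nat_lit 0xe749d1e000115), (nat_lit 259), (nat_lit 247), (nat_lit 0xeb4bcf6000131), (nat_lit 257), (nat_lit 249), (nat_lit 257), (nat_lit 0xef500e9000361)],
  [(nat_lit 8), (nat_lit 0xe73bd03000115), (nat_lit 247), (nat_lit 259), (nat_lit 247), (nat_lit 0xef4413c00012f), (nat_lit 221), (nat_lit 221), (nat_lit 235), (nat_lit 319), (nat_lit 0xeb4f910000211)],
  [(nat_lit 7), (nat_lit 0x38d09000115), (nat_lit 245), (nat_lit 249), (nat_lit 257), (nat_lit 0xe74911f000147), (nat_lit 247), (nat_lit 257), (nat_lit 0xee4252a0002ed)],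
  [(nat_lit 8), (nat_lit 0xf14c52600011f), (nat_lit 259), (nat_lit 247), (nat_lit 0xe94c4ed000121), (nat_lit 0x42d33000205)],
  [(nat_lit 7), (nat_lit 0xec3c53f00011f), (nat_lit 247), (nat_lit 0xe94bcec000121), (nat_lit 221), (nat_lit 233), (nat_lit 319), (nat_lit 223), (nat_lit 0xff4a1220001d5)],
  [(nat_lit 7), (nat_lit 0x1134e93100011f), (nat_lit 257), (nat_lit 249), (nat_lit 259), (nat_lit 0xe34d502000131), (nat_lit 249), (nat_lit 0xe943924000355)],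
  [(nat_lit 7), (nat_lit 0xf6500f200011f), (nat_lit 259), (nat_lit 249), (nat_lit 0xed3d11f000163), (nat_lit 245), (nat_lit 249), (nat_lit 259), (nat_lit 245), (nat_lit 0xeb48139000295)],
  [(nat_lit 7), (nat_lit 0xf346d2e00011f), (nat_lit 245), (nat_lit 259), (nat_lit 245), (nat_lit 0xf6454f8000131), (nat_lit 259), (nat_lit 245), (nat_lit 0x3b13e00032d)],
  [(nat_lit 5), (nat_lit 0xeb41d1a00012f), (nat_lit 0xe5471400000f1), (nat_lit 225), (nat_lit 235), (nat_lit 317), (nat_lit 0xec3d91c0001fd)],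
  [(nat_lit 5), (nat_lit 0xee3f11300012f), (nat_lit 0x464f20000f1), (nat_lit 223), (nat_lit 223), (nat_lit 233), (nat_lit 317), (nat_lit 0xe7449100001d1)],
  [(nat_lit 5), (nat_lit 0xec4d51b00012f), (nat_lit 0xe53ad050000f1), (nat_lit 233), (nat_lit 233), (nat_lit 0xe33a52c0001d5)],
  [(nat_lit 5), (nat_lit 0x1164e4f400012f), (nat_lit 235), (nat_lit 227), (nat_lit 235), (nat_lit 0xf64a922000129), (nat_lit 245), (nat_lit 249), (nat_lit 259), (nat_lit 247), (nat_lit 0xf13cd1f000361)],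
  [(nat_lit 8), (nat_lit 0xeb4a10500012f), (nat_lit 235), (nat_lit 227), (nat_lit 235), (nat_lit 0xf44d10b000129), (nat_lit 247), (nat_lit 0xf8500fb0003bd)],
  [(nat_lit 7), (nat_lit 0xe33a51400012f), (nat_lit 221), (nat_lit 227), (nat_lit 221), (nat_lit 317), (nat_lit 0xfc39d40000123), (nat_lit 0x100501390003c5)],
  [(nat_lit 7), (nat_lit 0xe93b90200012f), (nat_lit 317), (nat_lit 221), (nat_lit 0xee40d2800012d), (nat_lit 0xfb44910000499)],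
  [(nat_lit 7), (nat_lit 0xef00012f), (nat_lit 221), (nat_lit 317), (nat_lit 221), (nat_lit 0xf44c93a000123), (nat_lit 245), (nat_lit 257), (nat_lit 249), (nat_lit 259), (nat_lit 0x3e0e90002e1)],
  [(nat_lit 7), (nat_lit 0xfc4292f00012f), (nat_lit 225), (nat_lit 317), (nat_lit 221), (nat_lit 235), (nat_lit 0xf54c0f4000129), (nat_lit 247), (nat_lit 257), (nat_lit 0xeb4213d0002e5)],
  [(nat_lit 7), (nat_lit 0xec3a53d00012f), (nat_lit 223), (nat_lit 225), (nat_lit 317), (nat_lit 225), (nat_lit 0xed4c90600012d), (nat_lit 0x4253b00049d)],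
  [(nat_lit 5), (nat_lit 0xe74613600010f), (nat_lit 133), (nat_lit 137), (nat_lit 0x4552800010d), (nat_lit 247), (nat_lit 257), (nat_lit 247), (nat_lit 0xe541d2d00046d)],
  [(nat_lit 5), (nat_lit 0xe34c92b00010f), (nat_lit 133), (nat_lit 137), (nat_lit 0xe54b52300010d), (nat_lit 249), (nat_lit 259), (nat_lit 247), (nat_lit 257), (nat_lit 0x4751b000489)],
  [(nat_lit 5), (nat_lit 0xeb40d1e00010f), (nat_lit 133), (nat_lit 137), (nat_lit 0x4dd3300010d), (nat_lit 259), (nat_lit 0xf744901000455)],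
  [(nat_lit 8), (nat_lit 0xe74614000010f), (nat_lit 141), (nat_lit 167), (nat_lit 155), (nat_lit 0xe53bd35000105), (nat_lit 245), (nat_lit 259), (nat_lit 0xec41511000445)],
  [(nat_lit 7), (nat_lit 0xf64552a00010f), (nat_lit 125), (nat_lit 155), (nat_lit 0x4d116000137), (nat_lit 247), (nat_lit 257), (nat_lit 249), (nat_lit 259), (nat_lit 0xe33fd0f00045d)],
  [(nat_lit 7), (nat_lit 0xe9494f300010f), (nat_lit 133), (nat_lit 167), (nat_lit 125), (nat_lit 0xf44a50c00014f), (nat_lit 245), (nat_lit 257), (nat_lit 245), (nat_lit 0xe34d90f000259)],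
  [(nat_lit 7), (nat_lit 0xe94fcf400010f), (nat_lit 125), (nat_lit 153), (nat_lit 153), (nat_lit 0xe74c4fe00010d), (nat_lit 247), (nat_lit 259), (nat_lit 0xe94852b000455)],
  [(nat_lit 7), (nat_lit 0xec4392200010f), (nat_lit 167), (nat_lit 141), (nat_lit 0xe74f51b00014b), (nat_lit 245), (nat_lit 257), (nat_lit 249), (nat_lit 0x4a90a000339)],
  [(nat_lit 7), (nat_lit 0xf4434f300010f), (nat_lit 125), (nat_lit 133), (nat_lit 167), (nat_lit 0xf44bd3b00014f), (nat_lit 259), (nat_lit 0x10747d16000495)],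
  [(nat_lit 10), (nat_lit 0x10246d0500010f), (nat_lit 129), (nat_lit 133), (nat_lit 141), (nat_lit 0x1023f13200014f), (nat_lit 245), (nat_lit 249), (nat_lit 259), (nat_lit 0xe9498e9000445)],
  [(nat_lit 8), (nat_lit 0xee4691f000119), (nat_lit 245), (nat_lit 257), (nat_lit 0xf84a8fa00012f), (nat_lit 319), (nat_lit 225), (nat_lit 235), (nat_lit 0xee3f105000229)],
  [(nat_lit 8), (nat_lit 0xf946514000119), (nat_lit 245), (nat_lit 257), (nat_lit 0xf3424f100012f), (nat_lit 221), (nat_lit 235), (nat_lit 227), (nat_lit 235), (nat_lit 0xee420eb000205)],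
  [(nat_lit 8), (nat_lit 0xed4d90b000119), (nat_lit 245), (nat_lit 257), (nat_lit 0x4ed2300011f), (nat_lit 247), (nat_lit 259), (nat_lit 0x1234f4f90002c1)],
  [(nat_lit 8), (nat_lit 0xf24a917000119), (nat_lit 245), (nat_lit 257), (nat_lit 0xeb4513200011f), (nat_lit 249), (nat_lit 257), (nat_lit 245), (nat_lit 0xf3439340003dd)],
  [(nat_lit 8), (nat_lit 0xf44fd0b000119), (nat_lit 0xe74f512000127), (nat_lit 0xe34713c000311)],
  [(nat_lit 8), (nat_lit 0xe94a518000119), (nat_lit 0x40d1e000127), (nat_lit 0xef498ff000321)],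
  [(nat_lit 8), (nat_lit 0xf14a512000119), (nat_lit 0xe741cf7000127), (nat_lit 0x5012c000315)],
  [(nat_lit 5), (nat_lit 0x1084cd25000147), (nat_lit 257), (nat_lit 247), (nat_lit 259), (nat_lit 0xeb3c532000127), (nat_lit 247), (nat_lit 257), (nat_lit 0xf247124000479)],
  [(nat_lit 5), (nat_lit 0xe54c8f2000147), (nat_lit 257), (nat_lit 247), (nat_lit 259), (nat_lit 0xe93e52f000127), (nat_lit 257), (nat_lit 245), (nat_lit 0xfc4b118000379)],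
  [(nat_lit 8), (nat_lit 0xe745128000147), (nat_lit 257), (nat_lit 249), (nat_lit 259), (nat_lit 0xed468eb00010b), (nat_lit 153), (nat_lit 167), (nat_lit 0xe342940000195)],
  [(nat_lit 8), (nat_lit 0x3ad12000147), (nat_lit 257), (nat_lit 249), (nat_lit 259), (nat_lit 0xe74c13200010b), (nat_lit 167), (nat_lit 129), (nat_lit 155), (nat_lit 0x4b8f20001c5)],
  [(nat_lit 8), (nat_lit 0x10847d10000147), (nat_lit 245), (nat_lit 259), (nat_lit 247), (nat_lit 0xef4553d000151), (nat_lit 257), (nat_lit 249), (nat_lit 259), (nat_lit 0x4f10a000411)],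
  [(nat_lit 8), (nat_lit 0x1064453d000147), (nat_lit 245), (nat_lit 259), (nat_lit 247), (nat_lit 0xe74f13d000151), (nat_lit 257), (nat_lit 0xe94c8f2000241)],
  [(nat_lit 8), (nat_lit 0xf14a919000147), (nat_lit 245), (nat_lit 259), (nat_lit 247), (nat_lit 0xef4a507000151), (nat_lit 245), (nat_lit 249), (nat_lit 259), (nat_lit 245), (nat_lit 0xe74c4fd0003c9)],
  [(nat_lit 8), (nat_lit 0xef4d91d000147), (nat_lit 245), (nat_lit 259), (nat_lit 247), (nat_lit 0xe53a514000151), (nat_lit 257), (nat_lit 249), (nat_lit 259), (nat_lit 0x1094851b00040d)],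
  [(nat_lit 8), (nat_lit 0xef4a914000147), (nat_lit 245), (nat_lit 259), (nat_lit 247), (nat_lit 0x10e47110000151), (nat_lit 245), (nat_lit 257), (nat_lit 249), (nat_lit 259), (nat_lit 0xe94290e000509)],
  [(nat_lit 8), (nat_lit 0x47d3d000147), (nat_lit 245), (nat_lit 259), (nat_lit 247), (nat_lit 0xf44ed30000151), (nat_lit 257), (nat_lit 249), (nat_lit 259), (nat_lit 0x444f5000449)],
  [(nat_lit 8), (nat_lit 0xf34813b000147), (nat_lit 245), (nat_lit 259), (nat_lit 247), (nat_lit 0xe748510000151), (nat_lit 245), (nat_lit 257), (nat_lit 247), (nat_lit 0xeb4b8f300025d)],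
  [(nat_lit 8), (nat_lit 0xf6480f9000147), (nat_lit 257), (nat_lit 247), (nat_lit 259), (nat_lit 0xeb4792a000127), (nat_lit 247), (nat_lit 249), (nat_lit 0x10649533000319)],
  [(nat_lit 8), (nat_lit 0xe946cf7000147), (nat_lit 257), (nat_lit 247), (nat_lit 259), (nat_lit 0xee42132000127), (nat_lit 0xe34013a000305)],
  [(nat_lit 8), (nat_lit 0xf445d3e000147), (nat_lit 257), (nat_lit 247), (nat_lit 259), (nat_lit 0xf44f0f9000127), (nat_lit 0xe342d33000315)],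
  [(nat_lit 8), (nat_lit 0xf7494e9000147), (nat_lit 257), (nat_lit 247), (nat_lit 259), (nat_lit 0xe7440f9000127), (nat_lit 0x1034e91a000369)],
  [(nat_lit 7), (nat_lit 0x10141d2d000147), (nat_lit 245), (nat_lit 257), (nat_lit 245), (nat_lit 0x1024f0f9000127), (nat_lit 0xeb4d134000315)],
  [(nat_lit 7), (nat_lit 0xeb46d25000147), (nat_lit 247), (nat_lit 257), (nat_lit 247), (nat_lit 0x11941cf700011f), (nat_lit 249), (nat_lit 257), (nat_lit 245), (nat_lit 0xe93c9220003dd)],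
  [(nat_lit 7), (nat_lit 0xf34a0e9000147), (nat_lit 247), (nat_lit 0x4c100000161), (nat_lit 245), (nat_lit 249), (nat_lit 257), (nat_lit 245), (nat_lit 0xec4cd070004d1)],
  [(nat_lit 6), (nat_lit 0xe9460fb000147), (nat_lit 245), (nat_lit 0xf34a4f4000149), (nat_lit 167), (nat_lit 129), (nat_lit 0xfc3c4fa000185)],
  [(nat_lit 6), (nat_lit 0xeb3e919000147), (nat_lit 257), (nat_lit 247), (nat_lit 0xf9498e900014d), (nat_lit 167), (nat_lit 133), (nat_lit 0xed4190f000179)],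
  [(nat_lit 7), (nat_lit 0xed42118000127), (nat_lit 247), (nat_lit 249), (nat_lit 257), (nat_lit 245), (nat_lit 0xe9494ff000151), (nat_lit 257), (nat_lit 249), (nat_lit 259), (nat_lit 0xe74651b0003fd)],
  [(nat_lit 8), (nat_lit 0xee4e91c000141), (nat_lit 245), (nat_lit 257), (nat_lit 249), (nat_lit 259), (nat_lit 0xec50109000147), (nat_lit 259), (nat_lit 245), (nat_lit 0x1174590500025d)],
  [(nat_lit 8), (nat_lit 0xed484f7000141), (nat_lit 245), (nat_lit 257), (nat_lit 249), (nat_lit 259), (nat_lit 0xe54690e000147), (nat_lit 247), (nat_lit 257), (nat_lit 245), (nat_lit 0xe347d1800033d)],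
  [(nat_lit 8), (nat_lit 0xe33c516000141), (nat_lit 245), (nat_lit 257), (nat_lit 249), (nat_lit 259), (nat_lit 0xe341934000147), (nat_lit 257), (nat_lit 249), (nat_lit 259), (nat_lit 0xed49d1b000379)],
  [(nat_lit 8), (nat_lit 0xe541540000141), (nat_lit 257), (nat_lit 0xf44a937000127), (nat_lit 0xf1400f7000305)],
  [(nat_lit 8), (nat_lit 0xe547138000141), (nat_lit 257), (nat_lit 0xef3c907000127), (nat_lit 247), (nat_lit 249), (nat_lit 0x11f4e522000319)],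
  [(nat_lit 7), (nat_lit 0x3f100000141), (nat_lit 245), (nat_lit 257), (nat_lit 249), (nat_lit 0x38d28000147), (nat_lit 247), (nat_lit 257), (nat_lit 0xe74151c000365)],
  [(nat_lit 7), (nat_lit 0xe54a0f4000141), (nat_lit 249), (nat_lit 257), (nat_lit 0xe74a539000145), (nat_lit 245), (nat_lit 249), (nat_lit 0xf64ed2b000271)],
  [(nat_lit 7), (nat_lit 0xf43ad3c000141), (nat_lit 247), (nat_lit 259), (nat_lit 245), (nat_lit 0x4e535000145), (nat_lit 259), (nat_lit 247), (nat_lit 257), (nat_lit 0xf2500fb000269)],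
  [(nat_lit 6), (nat_lit 0xe350102000141), (nat_lit 249), (nat_lit 257), (nat_lit 245), (nat_lit 0xfc3f11d000149), (nat_lit 141), (nat_lit 165), (nat_lit 125), (nat_lit 0xfa4d135000179)],
  [(nat_lit 5), (nat_lit 0xe33d93900011d), (nat_lit 245), (nat_lit 257), (nat_lit 0xec3f119000119), (nat_lit 249), (nat_lit 259), (nat_lit 247), (nat_lit 257), (nat_lit 0x1024513d00052d)],
  [(nat_lit 5), (nat_lit 0xe54b52f00011d), (nat_lit 245), (nat_lit 257), (nat_lit 0xfb4c133000119), (nat_lit 245), (nat_lit 257), (nat_lit 0xfa45918000551)],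
  [(nat_lit 5), (nat_lit 0xe94c50d00012b), (nat_lit 221), (nat_lit 221), (nat_lit 221), (nat_lit 317), (nat_lit 0xe74cd29000129), (nat_lit 247), (nat_lit 0x39cf3000481)],
  [(nat_lit 7), (nat_lit 0x3d11400012b), (nat_lit 317), (nat_lit 233), (nat_lit 227), (nat_lit 0x3f0f100012d), (nat_lit 0xeb3e12f0004a5)],
  [(nat_lit 5), (nat_lit 0xe73cd2e000133), (nat_lit 259), (nat_lit 247), (nat_lit 0x4c0eb00010b), (nat_lit 125), (nat_lit 165), (nat_lit 155), (nat_lit 129), (nat_lit 0xfb4bceb0001a5)],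
  [(nat_lit 8), (nat_lit 0xe545506000133), (nat_lit 259), (nat_lit 247), (nat_lit 0xef4850200010b), (nat_lit 167), (nat_lit 129), (nat_lit 155), (nat_lit 0x105491170001c5)],
  [(nat_lit 8), (nat_lit 0xe74411b000133), (nat_lit 257), (nat_lit 245), (nat_lit 0xe73bd3c000149), (nat_lit 0x3c9340001b1)]]
noncomputable def R3 : List (List ℕ) :=
  [[(nat_lit 8), (nat_lit 0xe947908000133), (nat_lit 259), (nat_lit 245), (nat_lit 0x4413200014d), (nat_lit 133), (nat_lit 137), (nat_lit 167), (nat_lit 153), (nat_lit 0xf540921000195)],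
  [(nat_lit 8), (nat_lit 0xe74c514000133), (nat_lit 259), (nat_lit 245), (nat_lit 0xe94410b00014d), (nat_lit 165), (nat_lit 133), (nat_lit 0xf54dd3f000171)],
  [(nat_lit 8), (nat_lit 0xe740135000133), (nat_lit 259), (nat_lit 245), (nat_lit 0xee4213e00014d), (nat_lit 125), (nat_lit 165), (nat_lit 155), (nat_lit 129), (nat_lit 0x1084d5200001b9)],
  [(nat_lit 5), (nat_lit 0xf44dd19000145), (nat_lit 245), (nat_lit 257), (nat_lit 249), (nat_lit 0xe74611b000141), (nat_lit 259), (nat_lit 245), (nat_lit 0xf73a52a000341)],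
  [(nat_lit 5), (nat_lit 0xf649d29000145), (nat_lit 245), (nat_lit 257), (nat_lit 249), (nat_lit 0xee4511c000141), (nat_lit 245), (nat_lit 249), (nat_lit 259), (nat_lit 245), (nat_lit 0xeb43cf4000495)],
  [(nat_lit 7), (nat_lit 0xf1408f9000145), (nat_lit 247), (nat_lit 259), (nat_lit 0xf341cf900011d), (nat_lit 0x4e50600038d)],
  [(nat_lit 7), (nat_lit 0x1074812e00014d), (nat_lit 125), (nat_lit 153), (nat_lit 153), (nat_lit 0xfa498ff00014b), (nat_lit 257), (nat_lit 249), (nat_lit 257), (nat_lit 0xfa3d934000535)],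
  [(nat_lit 7), (nat_lit 0x1343d11d00014d), (nat_lit 129), (nat_lit 165), (nat_lit 125), (nat_lit 0x4a911000137), (nat_lit 245), (nat_lit 249), (nat_lit 257), (nat_lit 0xf24613f000341)],
  [(nat_lit 3), (nat_lit 0xf43ad3e000161), (nat_lit 247), (nat_lit 259), (nat_lit 0x112451400002bd)],
  [(nat_lit 5), (nat_lit 0xec4f535000163), (nat_lit 259), (nat_lit 247), (nat_lit 257), (nat_lit 0xf34d52800014d), (nat_lit 141), (nat_lit 167), (nat_lit 155), (nat_lit 0xf44c50c0001c1)],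
  [(nat_lit 5), (nat_lit 0x494f3000163), (nat_lit 259), (nat_lit 247), (nat_lit 257), (nat_lit 0xf54c90000014d), (nat_lit 125), (nat_lit 167), (nat_lit 0xe342907000175)],
  [(nat_lit 5), (nat_lit 0xf749931000163), (nat_lit 259), (nat_lit 247), (nat_lit 257), (nat_lit 0x1104bd3f00014d), (nat_lit 129), (nat_lit 153), (nat_lit 167), (nat_lit 153), (nat_lit 0xe949139000175)],
  [(nat_lit 5), (nat_lit 0x4c53c000163), (nat_lit 259), (nat_lit 247), (nat_lit 257), (nat_lit 0xef4ed2900014d), (nat_lit 133), (nat_lit 137), (nat_lit 167), (nat_lit 153), (nat_lit 0xe94acef0001a9)],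
  [(nat_lit 7), (nat_lit 0xe53b535000163), (nat_lit 259), (nat_lit 245), (nat_lit 249), (nat_lit 257), (nat_lit 0xfd49d0700011d), (nat_lit 247), (nat_lit 249), (nat_lit 0xe34e91600039d)],
  [(nat_lit 10), (nat_lit 0x440ff000163), (nat_lit 0x100464e9000131), (nat_lit 245), (nat_lit 249), (nat_lit 259), (nat_lit 0xe9470fa00041d)],
  [(nat_lit 3), (nat_lit 0xe744d35000163), (nat_lit 245), (nat_lit 249), (nat_lit 259), (nat_lit 245), (nat_lit 0xe5485050003ad)],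
  [(nat_lit 4), (nat_lit 0xe94c8f9000135), (nat_lit 0x4fd30000159), (nat_lit 245), (nat_lit 257), (nat_lit 245), (nat_lit 0x42914000589)],
  [(nat_lit 8), (nat_lit 0xf13f127000135), (nat_lit 0x3d937000159), (nat_lit 245), (nat_lit 249), (nat_lit 257), (nat_lit 0xe33d93200051d)],
  [(nat_lit 5), (nat_lit 0xe7480ee00015b), (nat_lit 167), (nat_lit 155), (nat_lit 0xec4d530000159), (nat_lit 249), (nat_lit 259), (nat_lit 0xf64c12e0005b9)],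
  [(nat_lit 8), (nat_lit 0xed4011100015b), (nat_lit 0xf345906000137), (nat_lit 245), (nat_lit 249), (nat_lit 257), (nat_lit 0xe74b5140004f1)],
  [(nat_lit 7), (nat_lit 0xed4dd2100015b), (nat_lit 133), (nat_lit 165), (nat_lit 129), (nat_lit 0xef4e51b000159), (nat_lit 245), (nat_lit 257), (nat_lit 245), (nat_lit 0xec4bcfa000589)],
  [(nat_lit 7), (nat_lit 0xf23e93500015d), (nat_lit 257), (nat_lit 249), (nat_lit 0xe343900000145), (nat_lit 245), (nat_lit 257), (nat_lit 0x46cfa000345)],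
  [(nat_lit 10), (nat_lit 0x4d4fc00015d), (nat_lit 257), (nat_lit 249), (nat_lit 0xe54b4ec000145), (nat_lit 249), (nat_lit 259), (nat_lit 247), (nat_lit 257), (nat_lit 0x43d280003b1)],
  [(nat_lit 3), (nat_lit 0x1124ed3100015d), (nat_lit 257), (nat_lit 245), (nat_lit 259), (nat_lit 0xe73bd29000599)],
  [(nat_lit 3), (nat_lit 0x1024492000015d), (nat_lit 247), (nat_lit 257), (nat_lit 249), (nat_lit 0x4c0f20005ad)],
  [(nat_lit 4), (nat_lit 27), (nat_lit 0xee3dd3000000d), (nat_lit 125), (nat_lit 129), (nat_lit 137), (nat_lit 0xf33c53d00016d)],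
  [(nat_lit 4), (nat_lit 0xe700001b), (nat_lit 65), (nat_lit 69), (nat_lit 61), (nat_lit 57), (nat_lit 63), (nat_lit 57), (nat_lit 67), (nat_lit 0x3ed09000019), (nat_lit 361), (nat_lit 0x38d0b0005fd)],
  [(nat_lit 4), (nat_lit 0x3b4ef00001b), (nat_lit 53), (nat_lit 63), (nat_lit 57), (nat_lit 61), (nat_lit 57), (nat_lit 69), (nat_lit 67), (nat_lit 69), (nat_lit 0xe349129000015), (nat_lit 245), (nat_lit 0xf34e132000231)],
  [(nat_lit 4), (nat_lit 0x3b91400001b), (nat_lit 49), (nat_lit 57), (nat_lit 65), (nat_lit 0xe340124000015), (nat_lit 0xf64511e00027d)],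
  [(nat_lit 8), (nat_lit 0xf442d3d00001b), (nat_lit 0xe34a93900000d), (nat_lit 167), (nat_lit 133), (nat_lit 165), (nat_lit 0x3e50a00016d)],
  [(nat_lit 8), (nat_lit 0xe54b91800001b), (nat_lit 0xe7454f400000d), (nat_lit 129), (nat_lit 133), (nat_lit 141), (nat_lit 0x4013b00016d)],
  [(nat_lit 8), (nat_lit 0xf14c10600001b), (nat_lit 0xf14a91a00000d), (nat_lit 137), (nat_lit 141), (nat_lit 0xed3e92d00016d)],
  [(nat_lit 8), (nat_lit 0xe74651b00001b), (nat_lit 0xe94592300000d), (nat_lit 153), (nat_lit 153), (nat_lit 153), (nat_lit 0xfc39d3600016d)],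
  [(nat_lit 8), (nat_lit 0x4b52000001b), (nat_lit 0xf53d12a00000d), (nat_lit 129), (nat_lit 137), (nat_lit 0xe748d0900016d)],
  [(nat_lit 8), (nat_lit 0x4ed2d00001b), (nat_lit 0xf35012d00000d), (nat_lit 137), (nat_lit 0x4a12300016d)],
  [(nat_lit 8), (nat_lit 0xe700001b), (nat_lit 65), (nat_lit 69), (nat_lit 61), (nat_lit 57), (nat_lit 63), (nat_lit 57), (nat_lit 67), (nat_lit 0xe940102000019), (nat_lit 0xe348920000601)],
  [(nat_lit 8), (nat_lit 0xe54d50f00001b), (nat_lit 65), (nat_lit 69), (nat_lit 61), (nat_lit 57), (nat_lit 63), (nat_lit 57), (nat_lit 67), (nat_lit 0xe342d3e000019), (nat_lit 357), (nat_lit 0xf20005fd)],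
  [(nat_lit 8), (nat_lit 0x45d1a00001b), (nat_lit 65), (nat_lit 69), (nat_lit 61), (nat_lit 57), (nat_lit 63), (nat_lit 57), (nat_lit 67), (nat_lit 0xf9420f4000019), (nat_lit 0xee4b13c000605)],
  [(nat_lit 8), (nat_lit 0xeb4891f00001b), (nat_lit 65), (nat_lit 69), (nat_lit 61), (nat_lit 57), (nat_lit 63), (nat_lit 57), (nat_lit 67), (nat_lit 0xf74593c000019), (nat_lit 0xe94d50a000609)],
  [(nat_lit 8), (nat_lit 0xef00001b), (nat_lit 69), (nat_lit 65), (nat_lit 69), (nat_lit 61), (nat_lit 57), (nat_lit 63), (nat_lit 57), (nat_lit 0xfb4413b000019), (nat_lit 0xe94293d000601)],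
  [(nat_lit 8), (nat_lit 0xfa4011200001b), (nat_lit 69), (nat_lit 65), (nat_lit 69), (nat_lit 61), (nat_lit 57), (nat_lit 63), (nat_lit 57), (nat_lit 0xeb43d22000019), (nat_lit 357), (nat_lit 0xee4951c000609)],
  [(nat_lit 8), (nat_lit 0xe543d3200001b), (nat_lit 69), (nat_lit 65), (nat_lit 69), (nat_lit 61), (nat_lit 57), (nat_lit 63), (nat_lit 57), (nat_lit 0xf442129000019), (nat_lit 357), (nat_lit 0x4891d000605)],
  [(nat_lit 8), (nat_lit 0xf64d8eb00001b), (nat_lit 69), (nat_lit 65), (nat_lit 69), (nat_lit 61), (nat_lit 57), (nat_lit 63), (nat_lit 57), (nat_lit 0xe74c11e000019), (nat_lit 0xe94d93c0005fd)],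
  [(nat_lit 8), (nat_lit 0x39cef00001b), (nat_lit 57), (nat_lit 69), (nat_lit 67), (nat_lit 69), (nat_lit 61), (nat_lit 57), (nat_lit 63), (nat_lit 0xe74413d000019), (nat_lit 361), (nat_lit 0x1064bd28000601)],
  [(nat_lit 8), (nat_lit 0x1134990d00001b), (nat_lit 57), (nat_lit 69), (nat_lit 67), (nat_lit 69), (nat_lit 61), (nat_lit 57), (nat_lit 63), (nat_lit 0xef4a91b000019), (nat_lit 361), (nat_lit 0x3c938000609)],
  [(nat_lit 8), (nat_lit 0x4153900001b), (nat_lit 57), (nat_lit 69), (nat_lit 67), (nat_lit 69), (nat_lit 61), (nat_lit 57), (nat_lit 63), (nat_lit 0xfa4091f000019), (nat_lit 361), (nat_lit 0xe345514000605)],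
  [(nat_lit 8), (nat_lit 0xe94d8ec00001b), (nat_lit 57), (nat_lit 69), (nat_lit 67), (nat_lit 69), (nat_lit 61), (nat_lit 57), (nat_lit 63), (nat_lit 0xe54453e000019), (nat_lit 361), (nat_lit 0xeb4bd200005fd)],
  [(nat_lit 8), (nat_lit 0xec44d1c00001b), (nat_lit 53), (nat_lit 63), (nat_lit 57), (nat_lit 61), (nat_lit 57), (nat_lit 69), (nat_lit 67), (nat_lit 69), (nat_lit 0xe34b50f000015), (nat_lit 247), (nat_lit 0xe949931000231)],
  [(nat_lit 8), (nat_lit 0xfe3e92f00001b), (nat_lit 53), (nat_lit 63), (nat_lit 57), (nat_lit 61), (nat_lit 57), (nat_lit 69), (nat_lit 67), (nat_lit 69), (nat_lit 0xe349d14000015), (nat_lit 0x4b10800027d)],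
  [(nat_lit 8), (nat_lit 0xe74013900001b), (nat_lit 53), (nat_lit 63), (nat_lit 57), (nat_lit 61), (nat_lit 57), (nat_lit 69), (nat_lit 67), (nat_lit 69), (nat_lit 0x47513000015), (nat_lit 245), (nat_lit 0xed4791f000239)],
  [(nat_lit 8), (nat_lit 0xeb4bd0600001b), (nat_lit 53), (nat_lit 63), (nat_lit 57), (nat_lit 61), (nat_lit 57), (nat_lit 69), (nat_lit 67), (nat_lit 69), (nat_lit 0xe34a107000015), (nat_lit 247), (nat_lit 0xfa3e92f000235)],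
  [(nat_lit 8), (nat_lit 0xe33e91c00001b), (nat_lit 49), (nat_lit 57), (nat_lit 65), (nat_lit 0xe7408ef000015), (nat_lit 247), (nat_lit 0x394f300027d)],
  [(nat_lit 8), (nat_lit 0xef5011100001b), (nat_lit 49), (nat_lit 57), (nat_lit 65), (nat_lit 0xef4a8fa000015), (nat_lit 245), (nat_lit 0xed4a13f000235)],
  [(nat_lit 8), (nat_lit 0x4013900001b), (nat_lit 49), (nat_lit 57), (nat_lit 65), (nat_lit 0x1064f129000015), (nat_lit 245), (nat_lit 0xfe48139000231)],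
  [(nat_lit 8), (nat_lit 0xf14c11d00001b), (nat_lit 49), (nat_lit 57), (nat_lit 65), (nat_lit 0xef3d931000015), (nat_lit 0xf242132000239)],
  [(nat_lit 8), (nat_lit 0xf14d11400001b), (nat_lit 45), (nat_lit 65), (nat_lit 69), (nat_lit 67), (nat_lit 0x1134bcf6000015), (nat_lit 247), (nat_lit 0xec4c113000239)],
  [(nat_lit 8), (nat_lit 0xef4ed2100001b), (nat_lit 45), (nat_lit 65), (nat_lit 69), (nat_lit 67), (nat_lit 0xfc4b4eb000015), (nat_lit 247), (nat_lit 0xed48521000235)],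
  [(nat_lit 8), (nat_lit 0xe33e93a00001b), (nat_lit 45), (nat_lit 65), (nat_lit 69), (nat_lit 67), (nat_lit 0xf64153a000015), (nat_lit 245), (nat_lit 0xed3ed1e00027d)],
  [(nat_lit 8), (nat_lit 0x4d11700001b), (nat_lit 45), (nat_lit 65), (nat_lit 69), (nat_lit 67), (nat_lit 0xee4c909000015), (nat_lit 247), (nat_lit 0x1074793d000231)],
  [(nat_lit 3), (nat_lit 0xed00001b), (nat_lit 57), (nat_lit 61), (nat_lit 57), (nat_lit 63), (nat_lit 65), (nat_lit 0x3ad03000019)],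
  [(nat_lit 6), (nat_lit 27), (nat_lit 57), (nat_lit 65), (nat_lit 0xe53c4ef00000d), (nat_lit 153), (nat_lit 129), (nat_lit 0xe742132000185)],
  [(nat_lit 6), (nat_lit 0xed00001b), (nat_lit 57), (nat_lit 61), (nat_lit 53), (nat_lit 61), (nat_lit 65), (nat_lit 69), (nat_lit 61), (nat_lit 57), (nat_lit 67), (nat_lit 0x10c404ee000091), (nat_lit 125), (nat_lit 155), (nat_lit 129), (nat_lit 0xf142132000179)],
  [(nat_lit 4), (nat_lit 0xeb4051000022f), (nat_lit 223), (nat_lit 227), (nat_lit 0xed44d3e0000f1), (nat_lit 225), (nat_lit 317), (nat_lit 225), (nat_lit 223), (nat_lit 0xf24fd3d0001cd)],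
  [(nat_lit 4), (nat_lit 0xfb440ff00022f), (nat_lit 225), (nat_lit 235), (nat_lit 221), (nat_lit 0xeb3c93a00012d), (nat_lit 0xf449d340002a5)],
  [(nat_lit 4), (nat_lit 0xed498ed00022f), (nat_lit 235), (nat_lit 225), (nat_lit 235), (nat_lit 0x485180000ef), (nat_lit 125), (nat_lit 155), (nat_lit 141), (nat_lit 0xed3dd15000195)],
  [(nat_lit 8), (nat_lit 0xeb4051000022f), (nat_lit 223), (nat_lit 227), (nat_lit 0xf44551b0000f1), (nat_lit 221), (nat_lit 235), (nat_lit 319), (nat_lit 225), (nat_lit 0xed4952a0001cd)],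
  [(nat_lit 8), (nat_lit 0xf4418f400022f), (nat_lit 223), (nat_lit 227), (nat_lit 0xe93f12f0000f1), (nat_lit 221), (nat_lit 317), (nat_lit 225), (nat_lit 319), (nat_lit 0x438f600022d)],
  [(nat_lit 8), (nat_lit 0xf84bd4000022f), (nat_lit 223), (nat_lit 227), (nat_lit 0xf7500fa0000f1), (nat_lit 223), (nat_lit 223), (nat_lit 0x4913c000201)],
  [(nat_lit 8), (nat_lit 0xed44d2400022f), (nat_lit 223), (nat_lit 227), (nat_lit 0x439170000f1), (nat_lit 227), (nat_lit 233), (nat_lit 227), (nat_lit 0xe74b90b0001f9)],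
  [(nat_lit 8), (nat_lit 0xe34590900022f), (nat_lit 223), (nat_lit 227), (nat_lit 0x459230000f1), (nat_lit 223), (nat_lit 233), (nat_lit 319), (nat_lit 225), (nat_lit 0xf54413c0001cd)],
  [(nat_lit 8), (nat_lit 0x4852b00022f), (nat_lit 223), (nat_lit 227), (nat_lit 0x41d140000f1), (nat_lit 221), (nat_lit 235), (nat_lit 221), (nat_lit 225), (nat_lit 0xf7464f20001f9)],
  [(nat_lit 8), (nat_lit 0xeb4b8ff00022f), (nat_lit 223), (nat_lit 227), (nat_lit 0xed4c9110000f1), (nat_lit 221), (nat_lit 233), (nat_lit 223), (nat_lit 0xee4d13f000201)],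
  [(nat_lit 8), (nat_lit 0xe34c51000022f), (nat_lit 225), (nat_lit 233), (nat_lit 223), (nat_lit 0xf43e534000123), (nat_lit 247), (nat_lit 249), (nat_lit 0x4ad230003c1)],
  [(nat_lit 8), (nat_lit 0xef4811500022f), (nat_lit 225), (nat_lit 233), (nat_lit 223), (nat_lit 0x10041cf9000123), (nat_lit 0x4912c0003bd)],
  [(nat_lit 8), (nat_lit 0xee4853400022f), (nat_lit 225), (nat_lit 233), (nat_lit 223), (nat_lit 0x10739d00000123), (nat_lit 247), (nat_lit 249), (nat_lit 0xf44c4fd000135)],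
  [(nat_lit 8), (nat_lit 0xe53dd0b00022f), (nat_lit 225), (nat_lit 233), (nat_lit 223), (nat_lit 0xfd4c53a000123), (nat_lit 245), (nat_lit 257), (nat_lit 249), (nat_lit 259), (nat_lit 0xec4c1350002e1)],
  [(nat_lit 8), (nat_lit 0x3dd3300022f), (nat_lit 225), (nat_lit 233), (nat_lit 223), (nat_lit 0x4e0e9000123), (nat_lit 247), (nat_lit 257), (nat_lit 245), (nat_lit 0xe94b12f00014d)],
  [(nat_lit 8), (nat_lit 0xfa4d10c00022f), (nat_lit 225), (nat_lit 233), (nat_lit 223), (nat_lit 0xef42117000123), (nat_lit 0x1173e9240003c9)],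
  [(nat_lit 8), (nat_lit 0xe94fd3e00022f), (nat_lit 225), (nat_lit 233), (nat_lit 223), (nat_lit 0xe344132000123), (nat_lit 247), (nat_lit 249), (nat_lit 0x4e50a0003c5)],
  [(nat_lit 8), (nat_lit 0xeb4b0ff00022f), (nat_lit 225), (nat_lit 233), (nat_lit 223), (nat_lit 0xe34d507000123), (nat_lit 245), (nat_lit 257), (nat_lit 249), (nat_lit 0xe33f1190002ed)],
  [(nat_lit 8), (nat_lit 0x4c4fe00022f), (nat_lit 223), (nat_lit 235), (nat_lit 225), (nat_lit 233), (nat_lit 0xf448927000129), (nat_lit 247), (nat_lit 0xfe4d5250003bd)],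
  [(nat_lit 8), (nat_lit 0xfe4a94000022f), (nat_lit 223), (nat_lit 235), (nat_lit 225), (nat_lit 233), (nat_lit 0xe33c535000129), (nat_lit 247), (nat_lit 249), (nat_lit 257), (nat_lit 0xe74fd1d0002ed)],
  [(nat_lit 8), (nat_lit 0xe74f10200022f), (nat_lit 223), (nat_lit 235), (nat_lit 225), (nat_lit 233), (nat_lit 0xe54211f000129), (nat_lit 247), (nat_lit 257), (nat_lit 0xee4bd2c0002e5)],
  [(nat_lit 8), (nat_lit 0xef4c50e00022f), (nat_lit 223), (nat_lit 235), (nat_lit 225), (nat_lit 233), (nat_lit 0xee4b8e9000129), (nat_lit 0xf442cfc000585)],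
  [(nat_lit 8), (nat_lit 0xf94c13500022f), (nat_lit 223), (nat_lit 235), (nat_lit 225), (nat_lit 233), (nat_lit 0xe343d0b000129), (nat_lit 247), (nat_lit 249), (nat_lit 0xfb4d9150002c5)],
  [(nat_lit 8), (nat_lit 0x4852900022f), (nat_lit 223), (nat_lit 235), (nat_lit 225), (nat_lit 233), (nat_lit 0xe73ed25000129), (nat_lit 247), (nat_lit 257), (nat_lit 0x445060002e1)],
  [(nat_lit 8), (nat_lit 0xef41d3800022f), (nat_lit 223), (nat_lit 235), (nat_lit 225), (nat_lit 233), (nat_lit 0xe93e118000129), (nat_lit 247), (nat_lit 257), (nat_lit 0x3e91b0002f5)],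
  [(nat_lit 8), (nat_lit 0xe94c50e00022f), (nat_lit 223), (nat_lit 235), (nat_lit 225), (nat_lit 233), (nat_lit 0xef3f936000129), (nat_lit 247), (nat_lit 249), (nat_lit 257), (nat_lit 0x3fd060002e9)],
  [(nat_lit 8), (nat_lit 0xfb440ff00022f), (nat_lit 225), (nat_lit 235), (nat_lit 221), (nat_lit 0x10d3b4f400012d), (nat_lit 249), (nat_lit 257), (nat_lit 245), (nat_lit 0xed4d534000435)],
  [(nat_lit 8), (nat_lit 0xe54690500022f), (nat_lit 225), (nat_lit 235), (nat_lit 221), (nat_lit 0xeb4a0e900012d), (nat_lit 0xe34e91b0004a5)],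
  [(nat_lit 8), (nat_lit 0x10f3d10600022f), (nat_lit 225), (nat_lit 235), (nat_lit 221), (nat_lit 0xfd4752900012d), (nat_lit 0x470f9000499)],
  [(nat_lit 8), (nat_lit 0xee4812200022f), (nat_lit 225), (nat_lit 235), (nat_lit 221), (nat_lit 0xec45cfc00012d), (nat_lit 247), (nat_lit 249), (nat_lit 0xee46d2e00049d)],
  [(nat_lit 8), (nat_lit 0xe539d3800022f), (nat_lit 225), (nat_lit 235), (nat_lit 221), (nat_lit 0xf449d3b00012d), (nat_lit 0xf24e91a0004a1)],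
  [(nat_lit 8), (nat_lit 0xec4d0ee00022f), (nat_lit 225), (nat_lit 235), (nat_lit 221), (nat_lit 0xe33a51400012d), (nat_lit 247), (nat_lit 257), (nat_lit 245), (nat_lit 0x1014bd22000265)],
  [(nat_lit 8), (nat_lit 0x3dd2100022f), (nat_lit 235), (nat_lit 225), (nat_lit 235), (nat_lit 0xeb471360000ef), (nat_lit 129), (nat_lit 153), (nat_lit 133), (nat_lit 167), (nat_lit 0xe348d200006cb)],
  [(nat_lit 8), (nat_lit 0xed4b8e700022f), (nat_lit 235), (nat_lit 225), (nat_lit 235), (nat_lit 0xe944d270000ef), (nat_lit 165), (nat_lit 155), (nat_lit 141), (nat_lit 0xeb405100006c3)],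
  [(nat_lit 8), (nat_lit 0xeb4f13400022f), (nat_lit 235), (nat_lit 225), (nat_lit 235), (nat_lit 0xed4613d0000ef), (nat_lit 133), (nat_lit 141), (nat_lit 153), (nat_lit 0x3f502000199)],
  [(nat_lit 7), (nat_lit 0xe74bcf900022f), (nat_lit 221), (nat_lit 225), (nat_lit 233), (nat_lit 223), (nat_lit 0x475090001d5), (nat_lit 361), (nat_lit 357), (nat_lit 0x10141d060006f7)],
  [(nat_lit 6), (nat_lit 0x4b93000022f), (nat_lit 233), (nat_lit 225), (nat_lit 233), (nat_lit 0x10d00012d), (nat_lit 245), (nat_lit 257), (nat_lit 245), (nat_lit 0xeb3b4f70002ad)],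
  [(nat_lit 6), (nat_lit 0xe53b92d00022f), (nat_lit 225), (nat_lit 233), (nat_lit 221), (nat_lit 0xe54691a000123), (nat_lit 245), (nat_lit 257), (nat_lit 0xf846514000305)],
  [(nat_lit 5), (nat_lit 0xfa4690a000217), (nat_lit 223), (nat_lit 319), (nat_lit 227), (nat_lit 0x3b1130000ef), (nat_lit 165), (nat_lit 0xf4459050001c5)],
  [(nat_lit 8), (nat_lit 0x1074bd33000217), (nat_lit 221), (nat_lit 317), (nat_lit 0xee48500000215), (nat_lit 357), (nat_lit 0xed44d2b000729)],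
  [(nat_lit 8), (nat_lit 0x3bd10000217), (nat_lit 319), (nat_lit 223), (nat_lit 0xe340128000215), (nat_lit 357), (nat_lit 0x1004712f000729)],
  [(nat_lit 8), (nat_lit 0xf44e511000217), (nat_lit 223), (nat_lit 319), (nat_lit 227), (nat_lit 0xe53a5080000ef), (nat_lit 125), (nat_lit 133), (nat_lit 153), (nat_lit 0xfc4d507000199)],
  [(nat_lit 8), (nat_lit 0xf248529000217), (nat_lit 223), (nat_lit 319), (nat_lit 227), (nat_lit 0xe747d350000ef), (nat_lit 165), (nat_lit 141), (nat_lit 155), (nat_lit 0xeb439380006c3)],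
  [(nat_lit 8), (nat_lit 0x1114c906000217), (nat_lit 223), (nat_lit 319), (nat_lit 227), (nat_lit 0xe9429170000ef), (nat_lit 129), (nat_lit 153), (nat_lit 167), (nat_lit 125), (nat_lit 0xe54c12e0006cb)],
  [(nat_lit 7), (nat_lit 0xe34ed16000217), (nat_lit 227), (nat_lit 233), (nat_lit 319), (nat_lit 225), (nat_lit 0x105488f60001f1), (nat_lit 361), (nat_lit 0xe94f93700072d)],
  [(nat_lit 7), (nat_lit 0xe34f53a000217), (nat_lit 227), (nat_lit 317), (nat_lit 235), (nat_lit 0xf54151a000129), (nat_lit 247), (nat_lit 249), (nat_lit 0xf54a4eb0002c5)],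
  [(nat_lit 7), (nat_lit 0xe340124000217), (nat_lit 221), (nat_lit 221), (nat_lit 235), (nat_lit 0xe33e92a00012d), (nat_lit 0xfa3f91c0004a1)],
  [(nat_lit 7), (nat_lit 0xf24a93f000217), (nat_lit 319), (nat_lit 319), (nat_lit 319), (nat_lit 0x4c1210001dd), (nat_lit 361), (nat_lit 357), (nat_lit 0xed4fd09000703)],
  [(nat_lit 7), (nat_lit 0xf646d1b000217), (nat_lit 319), (nat_lit 227), (nat_lit 0xe53e92a000123), (nat_lit 247), (nat_lit 249), (nat_lit 0xfb41d380003bd)],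
  [(nat_lit 7), (nat_lit 0x4c0fc000217), (nat_lit 221), (nat_lit 225), (nat_lit 233), (nat_lit 233), (nat_lit 0xf43f114000129), (nat_lit 247), (nat_lit 249), (nat_lit 257), (nat_lit 0xfa4bd050002f5)],
  [(nat_lit 7), (nat_lit 0xe33f0eb000217), (nat_lit 227), (nat_lit 317), (nat_lit 0xef4ed380001d5), (nat_lit 361), (nat_lit 357), (nat_lit 0xf14f5360006f7)],
  [(nat_lit 7), (nat_lit 0xfc420ec000217), (nat_lit 221), (nat_lit 317), (nat_lit 221), (nat_lit 317), (nat_lit 0xec4a0f30001c9), (nat_lit 357), (nat_lit 0xf83ed1e0001cb)],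
  [(nat_lit 10), (nat_lit 0x42538000217), (nat_lit 221), (nat_lit 319), (nat_lit 233), (nat_lit 225), (nat_lit 0xee4a0fc0001d9), (nat_lit 0xf446d180006ab)]]
noncomputable def R4 : List (List ℕ) :=
  [[(nat_lit 10), (nat_lit 0xff3d121000217), (nat_lit 221), (nat_lit 235), (nat_lit 225), (nat_lit 233), (nat_lit 0xf43e134000123), (nat_lit 247), (nat_lit 257), (nat_lit 0xf23dd2f0002e9)],
  [(nat_lit 6), (nat_lit 0xe54213b000217), (nat_lit 223), (nat_lit 233), (nat_lit 225), (nat_lit 317), (nat_lit 0x4813c000111), (nat_lit 247), (nat_lit 259), (nat_lit 247), (nat_lit 0xe94f91b0002fd)],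
  [(nat_lit 9), (nat_lit 0xec4f9100001cb), (nat_lit 221), (nat_lit 233), (nat_lit 319), (nat_lit 0xfd3d1340001fd), (nat_lit 357), (nat_lit 361), (nat_lit 0xec43d170006c7)],
  [(nat_lit 5), (nat_lit 0xe341cef0001cb), (nat_lit 0xeb40d2a00075f), (nat_lit 361), (nat_lit 0xe34810d00062d)],
  [(nat_lit 5), (nat_lit 0xe941d1f0001cb), (nat_lit 0xf14592200075f), (nat_lit 357), (nat_lit 361), (nat_lit 0xe34911b00070d)],
  [(nat_lit 5), (nat_lit 0xee4ed270001cb), (nat_lit 221), (nat_lit 225), (nat_lit 223), (nat_lit 319), (nat_lit 0xeb4bd18000229), (nat_lit 357), (nat_lit 0xf24411e0006b3)],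
  [(nat_lit 5), (nat_lit 0x3d91b0001cb), (nat_lit 221), (nat_lit 235), (nat_lit 227), (nat_lit 235), (nat_lit 0xe3489360001d5), (nat_lit 361), (nat_lit 0xec4b8e70006e5)],
  [(nat_lit 5), (nat_lit 0xf44390a0001cb), (nat_lit 221), (nat_lit 233), (nat_lit 319), (nat_lit 0xe741d2a0001fd), (nat_lit 357), (nat_lit 361), (nat_lit 0x11640900000655)],
  [(nat_lit 5), (nat_lit 0xf34e51c0001cb), (nat_lit 221), (nat_lit 233), (nat_lit 319), (nat_lit 0xe74d0f40001fd), (nat_lit 357), (nat_lit 361), (nat_lit 357), (nat_lit 0xf24f0fb000631)],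
  [(nat_lit 8), (nat_lit 0xef4e93f0001cb), (nat_lit 221), (nat_lit 221), (nat_lit 235), (nat_lit 0xed47d29000219), (nat_lit 357), (nat_lit 361), (nat_lit 357), (nat_lit 0xed47d0300070f)],
  [(nat_lit 8), (nat_lit 0xee4e5390001cb), (nat_lit 221), (nat_lit 221), (nat_lit 235), (nat_lit 0xe53b936000219), (nat_lit 357), (nat_lit 361), (nat_lit 357), (nat_lit 0xed43d1900062d)],
  [(nat_lit 8), (nat_lit 0xe53e9360001cb), (nat_lit 221), (nat_lit 233), (nat_lit 227), (nat_lit 233), (nat_lit 0x4cd08000219), (nat_lit 357), (nat_lit 361), (nat_lit 357), (nat_lit 0xf54713100070f)],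
  [(nat_lit 8), (nat_lit 0xef41d2b0001cb), (nat_lit 221), (nat_lit 233), (nat_lit 227), (nat_lit 233), (nat_lit 0x3c90f000219), (nat_lit 357), (nat_lit 361), (nat_lit 357), (nat_lit 0xf34acf100062d)],
  [(nat_lit 8), (nat_lit 0xec4fd3c0001cb), (nat_lit 221), (nat_lit 235), (nat_lit 227), (nat_lit 235), (nat_lit 0xf44a12a0001d5), (nat_lit 361), (nat_lit 357), (nat_lit 0x4bce70006f7)],
  [(nat_lit 8), (nat_lit 0xee4a1290001cb), (nat_lit 317), (nat_lit 233), (nat_lit 233), (nat_lit 0xee4093d0001fd), (nat_lit 0xe746d1e00071f)],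
  [(nat_lit 8), (nat_lit 0x1004f9330001cb), (nat_lit 317), (nat_lit 233), (nat_lit 233), (nat_lit 0xf24693b0001fd), (nat_lit 361), (nat_lit 0xf6469310006db)],
  [(nat_lit 8), (nat_lit 0xe54312e0001cb), (nat_lit 221), (nat_lit 233), (nat_lit 319), (nat_lit 0xe539d3b0001fd), (nat_lit 361), (nat_lit 0x4b1400006db)],
  [(nat_lit 8), (nat_lit 0xeb435360001cb), (nat_lit 221), (nat_lit 225), (nat_lit 223), (nat_lit 319), (nat_lit 0xec48510000229), (nat_lit 357), (nat_lit 0xeb3f11c000737)],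
  [(nat_lit 8), (nat_lit 0xf73e9360001cb), (nat_lit 221), (nat_lit 225), (nat_lit 223), (nat_lit 319), (nat_lit 0xed46910000229), (nat_lit 357), (nat_lit 0xf3468f70006c7)],
  [(nat_lit 8), (nat_lit 0xe94b0e90001cb), (nat_lit 319), (nat_lit 227), (nat_lit 317), (nat_lit 0xe945d1f0001dd), (nat_lit 357), (nat_lit 361), (nat_lit 0xe7499070006f9)],
  [(nat_lit 8), (nat_lit 0xf343d0d0001cb), (nat_lit 319), (nat_lit 233), (nat_lit 233), (nat_lit 0xed47d34000205), (nat_lit 357), (nat_lit 0x46902000607)],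
  [(nat_lit 8), (nat_lit 0xf44bd110001cb), (nat_lit 319), (nat_lit 233), (nat_lit 233), (nat_lit 0xee418eb000205), (nat_lit 357), (nat_lit 361), (nat_lit 0xe34492400066f)],
  [(nat_lit 8), (nat_lit 0xeb40d1c0001cb), (nat_lit 227), (nat_lit 317), (nat_lit 235), (nat_lit 0xf54e13e0001d5), (nat_lit 361), (nat_lit 357), (nat_lit 0x47d250006f7)],
  [(nat_lit 8), (nat_lit 0x11c3a52e0001cb), (nat_lit 225), (nat_lit 319), (nat_lit 225), (nat_lit 0xeb3e8f5000229), (nat_lit 357), (nat_lit 0xf34b8f10006c7)],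
  [(nat_lit 8), (nat_lit 0xf9409230001cb), (nat_lit 225), (nat_lit 319), (nat_lit 225), (nat_lit 0xff4d531000229), (nat_lit 357), (nat_lit 0xf54e121000737)],
  [(nat_lit 7), (nat_lit 0xf3431010001cb), (nat_lit 221), (nat_lit 225), (nat_lit 223), (nat_lit 317), (nat_lit 0x1024f102000123), (nat_lit 0xe5495400003c1)],
  [(nat_lit 7), (nat_lit 0xe34f50a0001cb), (nat_lit 221), (nat_lit 221), (nat_lit 227), (nat_lit 235), (nat_lit 0x4054000020d), (nat_lit 357), (nat_lit 361), (nat_lit 0xfc4513f0007b1)],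
  [(nat_lit 7), (nat_lit 0xe9414fc0001cb), (nat_lit 225), (nat_lit 233), (nat_lit 233), (nat_lit 227), (nat_lit 0xe746d39000215), (nat_lit 357), (nat_lit 0xf14fd1d000729)],
  [(nat_lit 7), (nat_lit 0xef4d9010001cb), (nat_lit 221), (nat_lit 233), (nat_lit 319), (nat_lit 0xff4d928000123), (nat_lit 0x10b4bd1d0003c9)],
  [(nat_lit 7), (nat_lit 0x1014412f0001cb), (nat_lit 221), (nat_lit 235), (nat_lit 221), (nat_lit 0xe54ed21000123), (nat_lit 259), (nat_lit 0x1024a924000461)],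
  [(nat_lit 7), (nat_lit 0xeb4f9000001cb), (nat_lit 221), (nat_lit 317), (nat_lit 227), (nat_lit 233), (nat_lit 0x4d8ff00012d), (nat_lit 249), (nat_lit 257), (nat_lit 245), (nat_lit 0xe94e937000435)],
  [(nat_lit 7), (nat_lit 0xe93b9350001cb), (nat_lit 225), (nat_lit 317), (nat_lit 235), (nat_lit 223), (nat_lit 0xe73f10a0001c9), (nat_lit 0xf945139000771)],
  [(nat_lit 7), (nat_lit 0xf84c9000001cb), (nat_lit 227), (nat_lit 319), (nat_lit 0xe53c4f3000129), (nat_lit 247), (nat_lit 0xf93f0f40002c5)],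
  [(nat_lit 7), (nat_lit 0xe74f9010001cb), (nat_lit 227), (nat_lit 235), (nat_lit 317), (nat_lit 0xfa4a92a000123), (nat_lit 0xf33fd17000135)],
  [(nat_lit 7), (nat_lit 0xf14cd0f0001cb), (nat_lit 233), (nat_lit 227), (nat_lit 221), (nat_lit 0x49d0d0001c9), (nat_lit 0xed4d90c00016f)],
  [(nat_lit 7), (nat_lit 0x10047d210001cb), (nat_lit 223), (nat_lit 225), (nat_lit 319), (nat_lit 233), (nat_lit 0x4c90e000225), (nat_lit 357), (nat_lit 361), (nat_lit 357), (nat_lit 0xf33e1140006f3)],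
  [(nat_lit 7), (nat_lit 0x4d50b0001cb), (nat_lit 233), (nat_lit 319), (nat_lit 223), (nat_lit 0xeb4210f0001f5), (nat_lit 357), (nat_lit 0xe93e911000717)],
  [(nat_lit 7), (nat_lit 0xf14c9070001cb), (nat_lit 223), (nat_lit 223), (nat_lit 319), (nat_lit 227), (nat_lit 0xf94c8ff000123), (nat_lit 247), (nat_lit 249), (nat_lit 0xff3e5280003c5)],
  [(nat_lit 7), (nat_lit 0xe34e5070001cb), (nat_lit 223), (nat_lit 319), (nat_lit 233), (nat_lit 225), (nat_lit 0x10849d0600012d), (nat_lit 0x3ad380004a5)],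
  [(nat_lit 7), (nat_lit 0xe53ad320001cb), (nat_lit 221), (nat_lit 221), (nat_lit 317), (nat_lit 227), (nat_lit 0xef470f6000129), (nat_lit 247), (nat_lit 257), (nat_lit 0xed4cd0b0002f5)],
  [(nat_lit 7), (nat_lit 0xef3e9350001cb), (nat_lit 319), (nat_lit 227), (nat_lit 317), (nat_lit 0xee44930000123), (nat_lit 259), (nat_lit 0xe74bd09000461)],
  [(nat_lit 7), (nat_lit 0x1134a8fd0001cb), (nat_lit 227), (nat_lit 221), (nat_lit 317), (nat_lit 0xfa4c4fd000129), (nat_lit 247), (nat_lit 0x4090d0002c5)],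
  [(nat_lit 7), (nat_lit 0xfe4d90f0001cb), (nat_lit 223), (nat_lit 225), (nat_lit 317), (nat_lit 225), (nat_lit 0xe54d90800012d), (nat_lit 0xee46d2e00049d)],
  [(nat_lit 7), (nat_lit 0x3b1320001cb), (nat_lit 233), (nat_lit 223), (nat_lit 319), (nat_lit 233), (nat_lit 0x38d054712f000111), (nat_lit 247), (nat_lit 259), (nat_lit 247), (nat_lit 0xf83b52f000301)],
  [(nat_lit 7), (nat_lit 0xec4e5070001cb), (nat_lit 235), (nat_lit 317), (nat_lit 227), (nat_lit 0xfe4fd0f00012d), (nat_lit 0xf3404fb0004a1)],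
  [(nat_lit 7), (nat_lit 0x39cfb0001cb), (nat_lit 227), (nat_lit 235), (nat_lit 319), (nat_lit 223), (nat_lit 0x1184d90a0001e1), (nat_lit 357), (nat_lit 361), (nat_lit 357), (nat_lit 0x3b0e90007fb)],
  [(nat_lit 7), (nat_lit 0xe3469060001cb), (nat_lit 221), (nat_lit 221), (nat_lit 235), (nat_lit 0xe3500fa000205), (nat_lit 357), (nat_lit 361), (nat_lit 0x3bd0e00066f)],
  [(nat_lit 7), (nat_lit 0x3cd000001cb), (nat_lit 223), (nat_lit 319), (nat_lit 223), (nat_lit 235), (nat_lit 0x4d5000001c9), (nat_lit 361), (nat_lit 357), (nat_lit 0xf34f10e000629)],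
  [(nat_lit 7), (nat_lit 0xf54ccf90001cb), (nat_lit 225), (nat_lit 233), (nat_lit 319), (nat_lit 0xed501360001c9), (nat_lit 361), (nat_lit 357), (nat_lit 0x10145125000629)],
  [(nat_lit 7), (nat_lit 0x41cef0001cb), (nat_lit 227), (nat_lit 235), (nat_lit 227), (nat_lit 319), (nat_lit 0xe9488ee000123), (nat_lit 247), (nat_lit 249), (nat_lit 0xe53e5170003c9)],
  [(nat_lit 7), (nat_lit 0x3a5330001cb), (nat_lit 233), (nat_lit 221), (nat_lit 235), (nat_lit 0x1154d10f000129), (nat_lit 247), (nat_lit 257), (nat_lit 0xe7400f70002f5)],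
  [(nat_lit 7), (nat_lit 0xed478f30001cb), (nat_lit 221), (nat_lit 317), (nat_lit 0xe9414f80000f1), (nat_lit 221), (nat_lit 235), (nat_lit 221), (nat_lit 0xec42921000201)],
  [(nat_lit 7), (nat_lit 0xe7481070001cb), (nat_lit 317), (nat_lit 233), (nat_lit 227), (nat_lit 0xeb3f13c0001fd), (nat_lit 0xe544cf100071f)],
  [(nat_lit 7), (nat_lit 0xfa4a8eb0001cb), (nat_lit 227), (nat_lit 319), (nat_lit 223), (nat_lit 0xf23b12e0001e9), (nat_lit 357), (nat_lit 361), (nat_lit 357), (nat_lit 0xf144119000835)],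
  [(nat_lit 7), (nat_lit 0x1004d8fe0001cb), (nat_lit 317), (nat_lit 235), (nat_lit 221), (nat_lit 0xec4c51a0000ef), (nat_lit 165), (nat_lit 155), (nat_lit 141), (nat_lit 0x451280006c3)],
  [(nat_lit 7), (nat_lit 0xf93fcf60001cb), (nat_lit 317), (nat_lit 221), (nat_lit 221), (nat_lit 0x3c9130001e1), (nat_lit 357), (nat_lit 0xf64acf200082f)],
  [(nat_lit 7), (nat_lit 0xe94ccf60001cb), (nat_lit 233), (nat_lit 317), (nat_lit 225), (nat_lit 0xf44b91f000123), (nat_lit 247), (nat_lit 249), (nat_lit 0xf748d3f0003c1)],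
  [(nat_lit 7), (nat_lit 0x1024bcfa0001cb), (nat_lit 221), (nat_lit 221), (nat_lit 221), (nat_lit 233), (nat_lit 0xf946d02000229), (nat_lit 357), (nat_lit 0xe947138000737)],
  [(nat_lit 7), (nat_lit 0xe346d050001cb), (nat_lit 233), (nat_lit 223), (nat_lit 225), (nat_lit 233), (nat_lit 0xe348d300001e9), (nat_lit 357), (nat_lit 361), (nat_lit 357), (nat_lit 0xe341d19000835)],
  [(nat_lit 7), (nat_lit 0xf33ed030001cb), (nat_lit 235), (nat_lit 227), (nat_lit 221), (nat_lit 0xff4ed310001f5), (nat_lit 361), (nat_lit 357), (nat_lit 0xfe41d1b000843)],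
  [(nat_lit 7), (nat_lit 0xed4650f0001cb), (nat_lit 221), (nat_lit 235), (nat_lit 225), (nat_lit 235), (nat_lit 0xe946d1800020d), (nat_lit 357), (nat_lit 361), (nat_lit 0xed4551400080b)],
  [(nat_lit 7), (nat_lit 0xe54892d0001cb), (nat_lit 221), (nat_lit 227), (nat_lit 233), (nat_lit 0xef449350000ef), (nat_lit 165), (nat_lit 155), (nat_lit 141), (nat_lit 0xfa4ccee0006c3)],
  [(nat_lit 7), (nat_lit 0xf24e5070001cb), (nat_lit 221), (nat_lit 233), (nat_lit 227), (nat_lit 317), (nat_lit 0x1064e12a0001f5), (nat_lit 357), (nat_lit 0xf347d3b000717)],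
  [(nat_lit 7), (nat_lit 0x4d9210001cb), (nat_lit 317), (nat_lit 233), (nat_lit 227), (nat_lit 0x1144590100012d), (nat_lit 247), (nat_lit 249), (nat_lit 0x3bd110004a5)],
  [(nat_lit 7), (nat_lit 0xec3f1200001cb), (nat_lit 221), (nat_lit 233), (nat_lit 227), (nat_lit 233), (nat_lit 0xec3a515000201), (nat_lit 357), (nat_lit 361), (nat_lit 357), (nat_lit 0xed4ed220007ff)],
  [(nat_lit 7), (nat_lit 0xe73d13f0001cb), (nat_lit 223), (nat_lit 233), (nat_lit 317), (nat_lit 0xeb3f5330001c9), (nat_lit 0xf444903000779)],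
  [(nat_lit 10), (nat_lit 0x3a5350001cb), (nat_lit 227), (nat_lit 317), (nat_lit 225), (nat_lit 0xf340520000129), (nat_lit 245), (nat_lit 257), (nat_lit 249), (nat_lit 259), (nat_lit 0x1013e53000026d)],
  [(nat_lit 10), (nat_lit 0xf8420eb0001cb), (nat_lit 221), (nat_lit 221), (nat_lit 317), (nat_lit 227), (nat_lit 0xe94b8eb000129), (nat_lit 247), (nat_lit 257), (nat_lit 247), (nat_lit 0xec479350004d1)],
  [(nat_lit 10), (nat_lit 0xec4f9240001cb), (nat_lit 233), (nat_lit 317), (nat_lit 225), (nat_lit 0xeb4d92f000123), (nat_lit 245), (nat_lit 257), (nat_lit 249), (nat_lit 0x1134990d00059d)],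
  [(nat_lit 10), (nat_lit 0xec45d1c0001cb), (nat_lit 319), (nat_lit 227), (nat_lit 235), (nat_lit 227), (nat_lit 0xfb46d1e000225), (nat_lit 357), (nat_lit 361), (nat_lit 357), (nat_lit 0xe9500f80007bf)],
  [(nat_lit 10), (nat_lit 0xe33a5050001cb), (nat_lit 223), (nat_lit 319), (nat_lit 233), (nat_lit 225), (nat_lit 0xf14c8ee00012d), (nat_lit 245), (nat_lit 259), (nat_lit 247), (nat_lit 0x3e9110004c1)],
  [(nat_lit 3), (nat_lit 0xed441360001cb), (nat_lit 225), (nat_lit 223), (nat_lit 317), (nat_lit 227), (nat_lit 0xf14bcfb000229)],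
  [(nat_lit 6), (nat_lit 0xf34ccfb0001cb), (nat_lit 0xe33bcf600012d), (nat_lit 245), (nat_lit 249), (nat_lit 257), (nat_lit 0xf34e132000279)],
  [(nat_lit 6), (nat_lit 0x429360001cb), (nat_lit 221), (nat_lit 221), (nat_lit 233), (nat_lit 0xeb4d4fa00012d), (nat_lit 245), (nat_lit 257), (nat_lit 0xf74e934000275)],
  [(nat_lit 6), (nat_lit 0xee4d4ef0001cb), (nat_lit 225), (nat_lit 223), (nat_lit 317), (nat_lit 227), (nat_lit 0x107484ff000129), (nat_lit 247), (nat_lit 259), (nat_lit 245), (nat_lit 0x1064453d0004c1)],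
  [(nat_lit 6), (nat_lit 0xf24ed2e0001cb), (nat_lit 235), (nat_lit 223), (nat_lit 319), (nat_lit 0x419100001d9), (nat_lit 0xf44b13c000791)],
  [(nat_lit 6), (nat_lit 0x1360001cb), (nat_lit 235), (nat_lit 221), (nat_lit 0x4f940000219), (nat_lit 0xef42135000709)],
  [(nat_lit 6), (nat_lit 0x4d8ef0001cb), (nat_lit 319), (nat_lit 235), (nat_lit 317), (nat_lit 0x1004c538000219), (nat_lit 361), (nat_lit 357), (nat_lit 0xe94c10a00070b)],
  [(nat_lit 6), (nat_lit 0x4d8ed0001cb), (nat_lit 223), (nat_lit 225), (nat_lit 317), (nat_lit 0x4251c000229), (nat_lit 361), (nat_lit 357), (nat_lit 0xed461340007cf)],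
  [(nat_lit 6), (nat_lit 0xe53c5360001cb), (nat_lit 225), (nat_lit 319), (nat_lit 225), (nat_lit 0xef3b934000225), (nat_lit 357), (nat_lit 361), (nat_lit 357), (nat_lit 0xe94b93d0007cd)],
  [(nat_lit 4), (nat_lit 0x1084c4ec00016f), (nat_lit 133), (nat_lit 137), (nat_lit 165), (nat_lit 0xeb4893a000105), (nat_lit 0xe346cfa0002b5)],
  [(nat_lit 8), (nat_lit 0x4c10e00016f), (nat_lit 0x3ed3e00000f), (nat_lit 49), (nat_lit 61), (nat_lit 53), (nat_lit 61), (nat_lit 69), (nat_lit 63), (nat_lit 57), (nat_lit 65), (nat_lit 0x48909000065)],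
  [(nat_lit 8), (nat_lit 0xf94b50800016f), (nat_lit 0x3e4fc0007ef), (nat_lit 357), (nat_lit 0xf44c92f000843)],
  [(nat_lit 8), (nat_lit 0xf44593f00016f), (nat_lit 0xf94b5360007ef), (nat_lit 357), (nat_lit 361), (nat_lit 0xee4b50b0007c3)],
  [(nat_lit 8), (nat_lit 0xe749d2900016f), (nat_lit 0xe5421180007ef), (nat_lit 361), (nat_lit 0xe3419320007b5)],
  [(nat_lit 8), (nat_lit 0xe73bd3d00016f), (nat_lit 0xec41cfa00017d), (nat_lit 0xe93d13d0008ad)],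
  [(nat_lit 8), (nat_lit 0xe34d8fc00016f), (nat_lit 0xe7420f900017d), (nat_lit 0x485210008b1)],
  [(nat_lit 8), (nat_lit 0xf340d3300016f), (nat_lit 0x4cd2900017d), (nat_lit 0x3c50b0008b5)],
  [(nat_lit 8), (nat_lit 0x1084c4ec00016f), (nat_lit 133), (nat_lit 137), (nat_lit 165), (nat_lit 0xf644d22000105), (nat_lit 245), (nat_lit 259), (nat_lit 0xef45116000445)],
  [(nat_lit 8), (nat_lit 0xf54193200016f), (nat_lit 133), (nat_lit 137), (nat_lit 165), (nat_lit 0x11045d26000105), (nat_lit 247), (nat_lit 257), (nat_lit 245), (nat_lit 0x459230004e5)],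
  [(nat_lit 8), (nat_lit 0xf14e13c00016f), (nat_lit 133), (nat_lit 137), (nat_lit 165), (nat_lit 0x1013e931000105), (nat_lit 247), (nat_lit 249), (nat_lit 0x10f46d03000515)],
  [(nat_lit 8), (nat_lit 0x438ec00016f), (nat_lit 133), (nat_lit 137), (nat_lit 165), (nat_lit 0xec464f6000105), (nat_lit 245), (nat_lit 259), (nat_lit 0xec4b521000435)],
  [(nat_lit 8), (nat_lit 0xef4d90100016f), (nat_lit 167), (nat_lit 153), (nat_lit 0xf146d0300010d), (nat_lit 247), (nat_lit 249), (nat_lit 0xf24fd1d0004c5)],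
  [(nat_lit 8), (nat_lit 0xe74650000016f), (nat_lit 167), (nat_lit 153), (nat_lit 0xeb4a91700010d), (nat_lit 0xe94c1240004e5)],
  [(nat_lit 8), (nat_lit 0xed41d3d00016f), (nat_lit 167), (nat_lit 153), (nat_lit 0xe33ccf700010d), (nat_lit 247), (nat_lit 249), (nat_lit 0xf8489250004c9)],
  [(nat_lit 8), (nat_lit 0xeb4512200016f), (nat_lit 167), (nat_lit 153), (nat_lit 0xe33cd3a00010d), (nat_lit 245), (nat_lit 257), (nat_lit 247), (nat_lit 259), (nat_lit 0xf343d2f00049d)],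
  [(nat_lit 8), (nat_lit 0x46d1800016f), (nat_lit 167), (nat_lit 153), (nat_lit 0x11743d3400010d), (nat_lit 247), (nat_lit 257), (nat_lit 249), (nat_lit 0xff4091400048d)],
  [(nat_lit 8), (nat_lit 0xeb46d1b00016f), (nat_lit 167), (nat_lit 153), (nat_lit 0xe54c4fa00010d), (nat_lit 245), (nat_lit 259), (nat_lit 247), (nat_lit 0xe74cd08000371)],
  [(nat_lit 8), (nat_lit 0xe34ccff00016f), (nat_lit 167), (nat_lit 153), (nat_lit 0xeb4991000010d), (nat_lit 247), (nat_lit 259), (nat_lit 0x110498f6000455)],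
  [(nat_lit 8), (nat_lit 0xe33952700016f), (nat_lit 167), (nat_lit 153), (nat_lit 0xf14612900010d), (nat_lit 247), (nat_lit 249), (nat_lit 0x4e9160004c1)],
  [(nat_lit 8), (nat_lit 0xe53b92f00016f), (nat_lit 129), (nat_lit 155), (nat_lit 155), (nat_lit 0xf349d16000185), (nat_lit 361), (nat_lit 0xf3435180007c1)],
  [(nat_lit 7), (nat_lit 0xe74f53500016f), (nat_lit 129), (nat_lit 167), (nat_lit 153), (nat_lit 129), (nat_lit 0x3bd0600014b), (nat_lit 247), (nat_lit 257), (nat_lit 0xf3460fa0002e1)]]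
noncomputable def R5 : List (List ℕ) :=
  [[(nat_lit 7), (nat_lit 0xe73ccfb00016f), (nat_lit 133), (nat_lit 141), (nat_lit 165), (nat_lit 0xed4c50a00014b), (nat_lit 257), (nat_lit 249), (nat_lit 0x1093cd2000038d)],
  [(nat_lit 7), (nat_lit 0x4690600016f), (nat_lit 155), (nat_lit 167), (nat_lit 141), (nat_lit 0x1083b122000137), (nat_lit 249), (nat_lit 259), (nat_lit 0xe54d5340002ed)],
  [(nat_lit 7), (nat_lit 0xe94e50700016f), (nat_lit 125), (nat_lit 141), (nat_lit 165), (nat_lit 0x4d5150006cb), (nat_lit 357), (nat_lit 361), (nat_lit 0xe74d90a0006e7)],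
  [(nat_lit 7), (nat_lit 0xe54913500016f), (nat_lit 125), (nat_lit 153), (nat_lit 153), (nat_lit 0x4ed29000157), (nat_lit 129), (nat_lit 0xeb3f13f0001b1)],
  [(nat_lit 7), (nat_lit 0xe941ceb00016f), (nat_lit 125), (nat_lit 137), (nat_lit 165), (nat_lit 153), (nat_lit 0xec3f13f000137), (nat_lit 247), (nat_lit 259), (nat_lit 0xe34652a00042d)],
  [(nat_lit 7), (nat_lit 0xeb3c53200016f), (nat_lit 133), (nat_lit 167), (nat_lit 153), (nat_lit 0xec43d190001c1), (nat_lit 357), (nat_lit 361), (nat_lit 0xe94193f0008b7)],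
  [(nat_lit 7), (nat_lit 0xeb3cd3300016f), (nat_lit 129), (nat_lit 133), (nat_lit 137), (nat_lit 0x4613d0001b5), (nat_lit 361), (nat_lit 357), (nat_lit 0xe94c51a0007b7)],
  [(nat_lit 7), (nat_lit 0xee4953300016f), (nat_lit 155), (nat_lit 133), (nat_lit 165), (nat_lit 0xf444d170001a9), (nat_lit 361), (nat_lit 0x3cd13000751)],
  [(nat_lit 7), (nat_lit 0x4010100016f), (nat_lit 129), (nat_lit 165), (nat_lit 0x10f494fd00014b), (nat_lit 245), (nat_lit 249), (nat_lit 259), (nat_lit 245), (nat_lit 0x49d0900042d)],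
  [(nat_lit 7), (nat_lit 0x3d10500016f), (nat_lit 125), (nat_lit 129), (nat_lit 167), (nat_lit 141), (nat_lit 0xe93bcfa00014f), (nat_lit 259), (nat_lit 249), (nat_lit 0xfe4b507000405)],
  [(nat_lit 7), (nat_lit 0x4f52400016f), (nat_lit 125), (nat_lit 137), (nat_lit 167), (nat_lit 0xf54fd2a00014f), (nat_lit 245), (nat_lit 249), (nat_lit 257), (nat_lit 0xe544522000519)],
  [(nat_lit 6), (nat_lit 0xf34313e00016f), (nat_lit 129), (nat_lit 167), (nat_lit 0xf74bd310000c3), (nat_lit 125), (nat_lit 153), (nat_lit 141), (nat_lit 165), (nat_lit 0xe33bd3a00018d)],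
  [(nat_lit 6), (nat_lit 0x1114bd2000016f), (nat_lit 125), (nat_lit 153), (nat_lit 141), (nat_lit 0xee4b933000185), (nat_lit 0xeb3f9140008a7)],
  [(nat_lit 4), (nat_lit 0xec4f91000026f), (nat_lit 259), (nat_lit 247), (nat_lit 257), (nat_lit 0xec4212500033d), (nat_lit 361), (nat_lit 0xe949920000637)],
  [(nat_lit 4), (nat_lit 0xe74f53500026f), (nat_lit 247), (nat_lit 257), (nat_lit 247), (nat_lit 0x3a5220002c1), (nat_lit 361), (nat_lit 0xe34c5140007c3)],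
  [(nat_lit 5), (nat_lit 0xeb4910b00026f), (nat_lit 257), (nat_lit 249), (nat_lit 259), (nat_lit 0xe33a53b000449), (nat_lit 357), (nat_lit 361), (nat_lit 0xe745140000631)],
  [(nat_lit 5), (nat_lit 0x10a4a51700026f), (nat_lit 257), (nat_lit 249), (nat_lit 259), (nat_lit 0xec4c108000449), (nat_lit 361), (nat_lit 357), (nat_lit 0x10147d1f0007d3)],
  [(nat_lit 5), (nat_lit 0x1004d53700026f), (nat_lit 247), (nat_lit 257), (nat_lit 247), (nat_lit 0xef4d4e70002c1), (nat_lit 357), (nat_lit 0xfc4851000085b)],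
  [(nat_lit 5), (nat_lit 0xe74493500026f), (nat_lit 247), (nat_lit 257), (nat_lit 247), (nat_lit 0xe9435210002c1), (nat_lit 361), (nat_lit 357), (nat_lit 0xee4d934000681)],
  [(nat_lit 5), (nat_lit 0xeb4712600026f), (nat_lit 245), (nat_lit 257), (nat_lit 249), (nat_lit 259), (nat_lit 0xeb3d500000585), (nat_lit 361), (nat_lit 357), (nat_lit 0xf34dd21000865)],
  [(nat_lit 5), (nat_lit 0x1024e91300026f), (nat_lit 245), (nat_lit 257), (nat_lit 249), (nat_lit 259), (nat_lit 0x10746cfa000585), (nat_lit 0xf445d3f0008f7)],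
  [(nat_lit 5), (nat_lit 0xec4412800026f), (nat_lit 245), (nat_lit 259), (nat_lit 0xf3478fa000525), (nat_lit 357), (nat_lit 0x4d90f000671)],
  [(nat_lit 5), (nat_lit 0x1074451a00026f), (nat_lit 249), (nat_lit 257), (nat_lit 245), (nat_lit 259), (nat_lit 0xeb46124000571), (nat_lit 357), (nat_lit 361), (nat_lit 0x4b117000915)],
  [(nat_lit 8), (nat_lit 0xee3dd4000026f), (nat_lit 259), (nat_lit 247), (nat_lit 257), (nat_lit 0xe54613300033d), (nat_lit 0x4c0ec00072f)],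
  [(nat_lit 8), (nat_lit 0xe7480ee00026f), (nat_lit 259), (nat_lit 247), (nat_lit 257), (nat_lit 0x1004813100033d), (nat_lit 361), (nat_lit 357), (nat_lit 0x10b4093f00077d)],
  [(nat_lit 8), (nat_lit 0xe74e92200026f), (nat_lit 259), (nat_lit 247), (nat_lit 257), (nat_lit 0xee4c11b00033d), (nat_lit 357), (nat_lit 0xe34cd1c0006bb)],
  [(nat_lit 8), (nat_lit 0xe74e53000026f), (nat_lit 259), (nat_lit 247), (nat_lit 257), (nat_lit 0xee4711d00033d), (nat_lit 0xe74d53e0001a3)],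
  [(nat_lit 8), (nat_lit 0xe54c8ee00026f), (nat_lit 257), (nat_lit 249), (nat_lit 259), (nat_lit 0xe750128000449), (nat_lit 361), (nat_lit 0x489140008b9)],
  [(nat_lit 8), (nat_lit 0xe74f53500026f), (nat_lit 247), (nat_lit 257), (nat_lit 247), (nat_lit 0xe9488e90002c1), (nat_lit 357), (nat_lit 361), (nat_lit 357), (nat_lit 0xe54a90c000919)],
  [(nat_lit 8), (nat_lit 0x4613f00026f), (nat_lit 247), (nat_lit 257), (nat_lit 247), (nat_lit 0xe93f11c0002c1), (nat_lit 361), (nat_lit 357), (nat_lit 0xe93c9020007bd)],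
  [(nat_lit 8), (nat_lit 0x10a494eb00026f), (nat_lit 247), (nat_lit 257), (nat_lit 247), (nat_lit 0xec3b52e0002c1), (nat_lit 0xe345d0f000707)],
  [(nat_lit 8), (nat_lit 0xe74512600026f), (nat_lit 247), (nat_lit 257), (nat_lit 247), (nat_lit 0xed4c8f20002c1), (nat_lit 0x40d39000909)],
  [(nat_lit 8), (nat_lit 0xeb468f400026f), (nat_lit 245), (nat_lit 257), (nat_lit 249), (nat_lit 0xf64c101000309), (nat_lit 0xef40d3b000723)],
  [(nat_lit 8), (nat_lit 0xee4891900026f), (nat_lit 247), (nat_lit 249), (nat_lit 0x101458f1000475), (nat_lit 0x1074d10e00060b)],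
  [(nat_lit 8), (nat_lit 0x3dd4000026f), (nat_lit 247), (nat_lit 249), (nat_lit 0xec41d06000475), (nat_lit 357), (nat_lit 361), (nat_lit 0xeb41ce70008b9)],
  [(nat_lit 8), (nat_lit 0x3b52700026f), (nat_lit 247), (nat_lit 249), (nat_lit 0xe9500ed000475), (nat_lit 361), (nat_lit 0xee4692d00067f)],
  [(nat_lit 8), (nat_lit 0x49d2600026f), (nat_lit 247), (nat_lit 249), (nat_lit 0x1194753d000475), (nat_lit 357), (nat_lit 361), (nat_lit 0x1123e907000703)],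
  [(nat_lit 8), (nat_lit 0x1233f0f400026f), (nat_lit 257), (nat_lit 247), (nat_lit 0x3dcfe000581), (nat_lit 357), (nat_lit 0xe33d9390006f5)],
  [(nat_lit 8), (nat_lit 0xf44191f00026f), (nat_lit 257), (nat_lit 247), (nat_lit 0x1164f93b000581), (nat_lit 361), (nat_lit 357), (nat_lit 0xf14c13b00098f)],
  [(nat_lit 8), (nat_lit 0xe346d3d00026f), (nat_lit 257), (nat_lit 247), (nat_lit 0xeb4a0fb000581), (nat_lit 357), (nat_lit 361), (nat_lit 357), (nat_lit 0xf3489380006dd)],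
  [(nat_lit 8), (nat_lit 0xf24b50600026f), (nat_lit 257), (nat_lit 247), (nat_lit 259), (nat_lit 0xfb465130004e5), (nat_lit 0xe74013d0007b9)],
  [(nat_lit 8), (nat_lit 0xf748d2f00026f), (nat_lit 249), (nat_lit 257), (nat_lit 245), (nat_lit 259), (nat_lit 0xee4d532000571), (nat_lit 0xe34fd1300097f)],
  [(nat_lit 8), (nat_lit 0xe74cd1400026f), (nat_lit 249), (nat_lit 257), (nat_lit 245), (nat_lit 259), (nat_lit 0xfc4a51a000571), (nat_lit 361), (nat_lit 0xf54f534000821)],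
  [(nat_lit 8), (nat_lit 0x4d11f00026f), (nat_lit 249), (nat_lit 257), (nat_lit 245), (nat_lit 259), (nat_lit 0xee43cfb000571), (nat_lit 361), (nat_lit 357), (nat_lit 0xe74a8e9000731)],
  [(nat_lit 8), (nat_lit 0xe941d2a00026f), (nat_lit 245), (nat_lit 259), (nat_lit 0xe347530000525), (nat_lit 361), (nat_lit 357), (nat_lit 0x3cd0a000731)],
  [(nat_lit 8), (nat_lit 0xe94a92300026f), (nat_lit 245), (nat_lit 259), (nat_lit 0xee4092a000525), (nat_lit 357), (nat_lit 361), (nat_lit 0xe34a9400001a7)],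
  [(nat_lit 8), (nat_lit 0xf44b8fb00026f), (nat_lit 245), (nat_lit 257), (nat_lit 249), (nat_lit 259), (nat_lit 0xed4d534000585), (nat_lit 361), (nat_lit 357), (nat_lit 0x49521000797)],
  [(nat_lit 8), (nat_lit 0xf64713400026f), (nat_lit 245), (nat_lit 257), (nat_lit 249), (nat_lit 259), (nat_lit 0xe7420f4000585), (nat_lit 361), (nat_lit 357), (nat_lit 0xe33cd2300062f)],
  [(nat_lit 8), (nat_lit 0xff4a4e700026f), (nat_lit 245), (nat_lit 257), (nat_lit 249), (nat_lit 259), (nat_lit 0xe949128000585), (nat_lit 357), (nat_lit 361), (nat_lit 0xe33c92e0007bd)],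
  [(nat_lit 8), (nat_lit 0xf34c10f00026f), (nat_lit 259), (nat_lit 245), (nat_lit 249), (nat_lit 257), (nat_lit 0x4590f000335), (nat_lit 361), (nat_lit 357), (nat_lit 0xef4d8f70009bd)],
  [(nat_lit 8), (nat_lit 0xfc3b91300026f), (nat_lit 259), (nat_lit 245), (nat_lit 249), (nat_lit 257), (nat_lit 0xeb4692f000335), (nat_lit 357), (nat_lit 361), (nat_lit 357), (nat_lit 0xef4c5110008f5)],
  [(nat_lit 8), (nat_lit 0xe94191e00026f), (nat_lit 247), (nat_lit 249), (nat_lit 257), (nat_lit 245), (nat_lit 0xf44253c000569), (nat_lit 361), (nat_lit 0x10e471100006b5)],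
  [(nat_lit 8), (nat_lit 0xe94753900026f), (nat_lit 247), (nat_lit 249), (nat_lit 257), (nat_lit 245), (nat_lit 0x4911a000569), (nat_lit 0xf84bd080006f9)],
  [(nat_lit 8), (nat_lit 0x3fd3600026f), (nat_lit 249), (nat_lit 259), (nat_lit 245), (nat_lit 0xf3435290004bd), (nat_lit 357), (nat_lit 361), (nat_lit 357), (nat_lit 0xed4aced000875)],
  [(nat_lit 8), (nat_lit 0x468e900026f), (nat_lit 249), (nat_lit 259), (nat_lit 245), (nat_lit 0xeb45d080004bd), (nat_lit 357), (nat_lit 361), (nat_lit 0xe33c516000839)],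
  [(nat_lit 8), (nat_lit 0xf64cd1f00026f), (nat_lit 247), (nat_lit 257), (nat_lit 249), (nat_lit 259), (nat_lit 0x4611800049d), (nat_lit 357), (nat_lit 361), (nat_lit 357), (nat_lit 0xe9469270008d5)],
  [(nat_lit 8), (nat_lit 0xeb4353600026f), (nat_lit 247), (nat_lit 257), (nat_lit 249), (nat_lit 259), (nat_lit 0xe546d1300049d), (nat_lit 357), (nat_lit 361), (nat_lit 357), (nat_lit 0xf242d32000865)],
  [(nat_lit 8), (nat_lit 0xe94493f00026f), (nat_lit 247), (nat_lit 257), (nat_lit 249), (nat_lit 259), (nat_lit 0xfc4893400049d), (nat_lit 357), (nat_lit 0xe942d3300085d)],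
  [(nat_lit 8), (nat_lit 0x4f91500026f), (nat_lit 247), (nat_lit 257), (nat_lit 249), (nat_lit 259), (nat_lit 0x3d93500049d), (nat_lit 357), (nat_lit 361), (nat_lit 0xff4c8f2000813)],
  [(nat_lit 8), (nat_lit 0xe74f12a00026f), (nat_lit 247), (nat_lit 257), (nat_lit 249), (nat_lit 259), (nat_lit 0xeb4390700049d), (nat_lit 0xec4f90700080f)],
  [(nat_lit 8), (nat_lit 0xe54f92800026f), (nat_lit 245), (nat_lit 259), (nat_lit 245), (nat_lit 0x1194051f0005ed), (nat_lit 361), (nat_lit 0xf24c512000773)],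
  [(nat_lit 8), (nat_lit 0x10e3e8fb00026f), (nat_lit 245), (nat_lit 259), (nat_lit 245), (nat_lit 0x10547d290005ed), (nat_lit 357), (nat_lit 361), (nat_lit 357), (nat_lit 0x1053ed2a00072d)],
  [(nat_lit 8), (nat_lit 0x4a92c00026f), (nat_lit 245), (nat_lit 257), (nat_lit 245), (nat_lit 0x1233f0f400043d), (nat_lit 0xef3e9380001b7)],
  [(nat_lit 8), (nat_lit 0xf23ed2d00026f), (nat_lit 245), (nat_lit 257), (nat_lit 245), (nat_lit 0xef4350f00043d), (nat_lit 0xe5500fb000925)],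
  [(nat_lit 7), (nat_lit 0x3b93500026f), (nat_lit 245), (nat_lit 259), (nat_lit 247), (nat_lit 0x10044936000163), (nat_lit 247), (nat_lit 249), (nat_lit 0xf4455220002b9)],
  [(nat_lit 7), (nat_lit 0xe34f50500026f), (nat_lit 247), (nat_lit 0x10540d30000265), (nat_lit 361), (nat_lit 357), (nat_lit 0xeb4fd3f0007c7)],
  [(nat_lit 7), (nat_lit 0xe34714000026f), (nat_lit 257), (nat_lit 247), (nat_lit 259), (nat_lit 0x4092100010f), (nat_lit 125), (nat_lit 155), (nat_lit 165), (nat_lit 0xed488f30009b3)],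
  [(nat_lit 7), (nat_lit 0xf64d53700026f), (nat_lit 259), (nat_lit 245), (nat_lit 249), (nat_lit 257), (nat_lit 0xe9488f4000531), (nat_lit 361), (nat_lit 0xe94ad0200099b)],
  [(nat_lit 7), (nat_lit 0xed4f93500026f), (nat_lit 245), (nat_lit 249), (nat_lit 257), (nat_lit 0x4c5120005dd), (nat_lit 357), (nat_lit 0xe94a0e700085f)],
  [(nat_lit 7), (nat_lit 0xe94d50b00026f), (nat_lit 245), (nat_lit 259), (nat_lit 0xf43bd3c00015d), (nat_lit 249), (nat_lit 259), (nat_lit 245), (nat_lit 0xef498f500024d)],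
  [(nat_lit 7), (nat_lit 0xe35012900026f), (nat_lit 249), (nat_lit 257), (nat_lit 245), (nat_lit 0xed49501000485), (nat_lit 0x1273d5280006b7)],
  [(nat_lit 7), (nat_lit 0xfb46cfb00026f), (nat_lit 245), (nat_lit 249), (nat_lit 0xfc4212b000505), (nat_lit 357), (nat_lit 0xe53a5050008cd)],
  [(nat_lit 7), (nat_lit 0xf449cf900026f), (nat_lit 245), (nat_lit 259), (nat_lit 0xe34210900032d), (nat_lit 361), (nat_lit 0x1123cd24000a15)],
  [(nat_lit 7), (nat_lit 0xe53c51000026f), (nat_lit 257), (nat_lit 247), (nat_lit 0xe94810700011d), (nat_lit 247), (nat_lit 249), (nat_lit 0xed3ed07000389)],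
  [(nat_lit 7), (nat_lit 0xe34453f00026f), (nat_lit 249), (nat_lit 259), (nat_lit 247), (nat_lit 0xee4190a0005a1), (nat_lit 0xed3bd1e000973)],
  [(nat_lit 7), (nat_lit 0xe34d4e700026f), (nat_lit 249), (nat_lit 259), (nat_lit 247), (nat_lit 0xe54b117000265), (nat_lit 361), (nat_lit 357), (nat_lit 0x3f9240007ab)],
  [(nat_lit 7), (nat_lit 0xef4d8fd00026f), (nat_lit 245), (nat_lit 257), (nat_lit 247), (nat_lit 259), (nat_lit 0xf34052300047d), (nat_lit 361), (nat_lit 0x110481150007fd)],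
  [(nat_lit 7), (nat_lit 0xfe47d2100026f), (nat_lit 247), (nat_lit 257), (nat_lit 249), (nat_lit 0xe54bd140005e5), (nat_lit 361), (nat_lit 357), (nat_lit 0xf3500e900097f)],
  [(nat_lit 7), (nat_lit 0xe34f53500026f), (nat_lit 245), (nat_lit 0xf345d2600014d), (nat_lit 137), (nat_lit 155), (nat_lit 165), (nat_lit 0xf50001b1)],
  [(nat_lit 7), (nat_lit 0x10c40d3300026f), (nat_lit 247), (nat_lit 0xe3451210002c5), (nat_lit 357), (nat_lit 361), (nat_lit 0x424fb0009ad)],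
  [(nat_lit 7), (nat_lit 0xf6460f300026f), (nat_lit 257), (nat_lit 249), (nat_lit 259), (nat_lit 0x44d37000255), (nat_lit 0x1004bd010008b1)],
  [(nat_lit 7), (nat_lit 0xe54f51400026f), (nat_lit 257), (nat_lit 245), (nat_lit 259), (nat_lit 0xf54c900000145), (nat_lit 259), (nat_lit 247), (nat_lit 0xf14c9390004e1)],
  [(nat_lit 7), (nat_lit 0xeb3d93500026f), (nat_lit 245), (nat_lit 259), (nat_lit 245), (nat_lit 0xe34f9200004f1), (nat_lit 357), (nat_lit 361), (nat_lit 0xfc4e51f000a35)],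
  [(nat_lit 7), (nat_lit 0x4a93900026f), (nat_lit 259), (nat_lit 247), (nat_lit 0xf5494eb0004fd), (nat_lit 357), (nat_lit 0xf545d33000641)],
  [(nat_lit 7), (nat_lit 0xe53a50500026f), (nat_lit 245), (nat_lit 0xef3dcf300010f), (nat_lit 153), (nat_lit 165), (nat_lit 0x10041d2a000967)],
  [(nat_lit 7), (nat_lit 0xe94892900026f), (nat_lit 247), (nat_lit 257), (nat_lit 249), (nat_lit 0x49917000379), (nat_lit 357), (nat_lit 361), (nat_lit 357), (nat_lit 0xf64dd320008e9)],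
  [(nat_lit 7), (nat_lit 0xe53d13500026f), (nat_lit 245), (nat_lit 249), (nat_lit 0xee424f4000585), (nat_lit 357), (nat_lit 361), (nat_lit 0xf8489270007bd)],
  [(nat_lit 7), (nat_lit 0x3c53200026f), (nat_lit 259), (nat_lit 245), (nat_lit 0xf346d26000469), (nat_lit 361), (nat_lit 0xf24c90e000969)],
  [(nat_lit 7), (nat_lit 0xe54650f00026f), (nat_lit 257), (nat_lit 245), (nat_lit 259), (nat_lit 0xfd4211b00014d), (nat_lit 125), (nat_lit 165), (nat_lit 155), (nat_lit 129), (nat_lit 0xe94b92c0001b9)],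
  [(nat_lit 7), (nat_lit 0x4712300026f), (nat_lit 249), (nat_lit 259), (nat_lit 247), (nat_lit 257), (nat_lit 0x1054493c000399), (nat_lit 357), (nat_lit 0xe94e917000655)],
  [(nat_lit 7), (nat_lit 0xe33cd0500026f), (nat_lit 249), (nat_lit 0xe34d10e000389), (nat_lit 357), (nat_lit 361), (nat_lit 357), (nat_lit 0x1024651b00066d)],
  [(nat_lit 7), (nat_lit 0xf14cd2200026f), (nat_lit 259), (nat_lit 245), (nat_lit 249), (nat_lit 257), (nat_lit 0xeb4211e0003d5), (nat_lit 361), (nat_lit 357), (nat_lit 0xeb4692f000a3b)],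
  [(nat_lit 7), (nat_lit 0xf44750900026f), (nat_lit 249), (nat_lit 257), (nat_lit 0xe54590b000245), (nat_lit 0xe73d1390008dd)],
  [(nat_lit 7), (nat_lit 0xec4613100026f), (nat_lit 245), (nat_lit 257), (nat_lit 249), (nat_lit 259), (nat_lit 0xe94891c000133), (nat_lit 0xeb495210002bd)],
  [(nat_lit 7), (nat_lit 0xe53c53200026f), (nat_lit 249), (nat_lit 259), (nat_lit 247), (nat_lit 0xf5500f5000161), (nat_lit 257), (nat_lit 249), (nat_lit 259), (nat_lit 0xfa3f117000449)],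
  [(nat_lit 7), (nat_lit 0xf344d1a00026f), (nat_lit 245), (nat_lit 259), (nat_lit 247), (nat_lit 257), (nat_lit 0xec4d51b000511), (nat_lit 357), (nat_lit 0xe74cd360009a5)],
  [(nat_lit 7), (nat_lit 0xf34d10200026f), (nat_lit 259), (nat_lit 247), (nat_lit 0x4f924000269), (nat_lit 361), (nat_lit 0xf4491350007cb)],
  [(nat_lit 7), (nat_lit 0xf44213400026f), (nat_lit 247), (nat_lit 257), (nat_lit 247), (nat_lit 0xe9464f40004ed), (nat_lit 357), (nat_lit 361), (nat_lit 357), (nat_lit 0xe54453f000a5f)],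
  [(nat_lit 7), (nat_lit 0xe74810700026f), (nat_lit 249), (nat_lit 259), (nat_lit 0x10f46101000315), (nat_lit 357), (nat_lit 0x1014f92e000881)],
  [(nat_lit 7), (nat_lit 0xeb3ece900026f), (nat_lit 247), (nat_lit 257), (nat_lit 0xed4a51a0005d9), (nat_lit 361), (nat_lit 0xed4cd07000a25)],
  [(nat_lit 7), (nat_lit 0xe34792900026f), (nat_lit 249), (nat_lit 0xe740139000311), (nat_lit 361), (nat_lit 0xe93c93f000a77)],
  [(nat_lit 7), (nat_lit 0xe944cf100026f), (nat_lit 249), (nat_lit 257), (nat_lit 245), (nat_lit 259), (nat_lit 0x3c5210002bd), (nat_lit 357), (nat_lit 361), (nat_lit 357), (nat_lit 0xfc39d2b000761)],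
  [(nat_lit 10), (nat_lit 0xe34d4e700026f), (nat_lit 257), (nat_lit 245), (nat_lit 259), (nat_lit 0x3ad0c0004a5), (nat_lit 361), (nat_lit 357), (nat_lit 0xf244d010007ad)],
  [(nat_lit 3), (nat_lit 0xed4413600026f), (nat_lit 259), (nat_lit 245), (nat_lit 249), (nat_lit 0xe54bd3700057d)]]
noncomputable def R6 : List (List ℕ) :=
  [[(nat_lit 6), (nat_lit 0x3dd3600026f), (nat_lit 245), (nat_lit 259), (nat_lit 0xf647117000161), (nat_lit 247), (nat_lit 259), (nat_lit 0x419250002c1)],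
  [(nat_lit 6), (nat_lit 0xf73a53500026f), (nat_lit 259), (nat_lit 245), (nat_lit 0xec45d070003c1), (nat_lit 361), (nat_lit 0x4d116000861)],
  [(nat_lit 6), (nat_lit 0xe73bd3600026f), (nat_lit 249), (nat_lit 257), (nat_lit 245), (nat_lit 259), (nat_lit 0xe94f107000161), (nat_lit 247), (nat_lit 259), (nat_lit 245), (nat_lit 0xff4e51b00056d)],
  [(nat_lit 6), (nat_lit 0xf24ed2e00026f), (nat_lit 249), (nat_lit 257), (nat_lit 245), (nat_lit 259), (nat_lit 0xef4c4eb000579), (nat_lit 0xf44d915000863)],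
  [(nat_lit 6), (nat_lit 0xe34913600026f), (nat_lit 257), (nat_lit 249), (nat_lit 259), (nat_lit 0xe741d0900044d), (nat_lit 357), (nat_lit 0x1054293c000a8d)],
  [(nat_lit 6), (nat_lit 0x3b53600026f), (nat_lit 259), (nat_lit 247), (nat_lit 0xee4191b000295), (nat_lit 0xe744114000943)],
  [(nat_lit 6), (nat_lit 0xed4293500026f), (nat_lit 247), (nat_lit 0x1024d1400005e9), (nat_lit 357), (nat_lit 361), (nat_lit 357), (nat_lit 0x45d16000a8f)],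
  [(nat_lit 6), (nat_lit 0xe742d3600026f), (nat_lit 257), (nat_lit 249), (nat_lit 259), (nat_lit 0x4b506000409), (nat_lit 357), (nat_lit 361), (nat_lit 0xf64911f0009cf)],
  [(nat_lit 6), (nat_lit 0xe54d8f100026f), (nat_lit 247), (nat_lit 249), (nat_lit 257), (nat_lit 245), (nat_lit 0xfd4d50e0004ed), (nat_lit 357), (nat_lit 361), (nat_lit 0xe93d117000941)],
  [(nat_lit 4), (nat_lit 0xeb3ccfe000263), (nat_lit 259), (nat_lit 245), (nat_lit 257), (nat_lit 0xf24dd3600046d), (nat_lit 0xe74750100077d)],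
  [(nat_lit 4), (nat_lit 0xe349135000263), (nat_lit 247), (nat_lit 259), (nat_lit 247), (nat_lit 0xfb4e1210005d1), (nat_lit 361), (nat_lit 357), (nat_lit 0x4c11b0007df)],
  [(nat_lit 9), (nat_lit 0x3cd00000263), (nat_lit 245), (nat_lit 259), (nat_lit 247), (nat_lit 257), (nat_lit 0x42128000445), (nat_lit 361), (nat_lit 357), (nat_lit 0x40524000a4b)],
  [(nat_lit 9), (nat_lit 0x4a8f9000263), (nat_lit 247), (nat_lit 257), (nat_lit 249), (nat_lit 0x4c8fd000535), (nat_lit 357), (nat_lit 361), (nat_lit 0xf140939000931)],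
  [(nat_lit 5), (nat_lit 0xf547501000263), (nat_lit 247), (nat_lit 257), (nat_lit 249), (nat_lit 259), (nat_lit 0xe74f92b000515), (nat_lit 361), (nat_lit 0xef3e9300008f1)],
  [(nat_lit 5), (nat_lit 0x46d0a000263), (nat_lit 259), (nat_lit 0xf44753900040d), (nat_lit 361), (nat_lit 0xfb4a92300062d)],
  [(nat_lit 5), (nat_lit 0xf345d2f000263), (nat_lit 0xeb3e513000269), (nat_lit 357), (nat_lit 361), (nat_lit 0xeb460fc000747)],
  [(nat_lit 5), (nat_lit 0xed44910000263), (nat_lit 0xfa4711c000269), (nat_lit 357), (nat_lit 361), (nat_lit 357), (nat_lit 0xeb4413900096d)],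
  [(nat_lit 5), (nat_lit 0xe342118000263), (nat_lit 0xe546d21000269), (nat_lit 361), (nat_lit 0xef4f9010009dd)],
  [(nat_lit 5), (nat_lit 0xef4052b000263), (nat_lit 245), (nat_lit 0xe949d0d000239), (nat_lit 361), (nat_lit 357), (nat_lit 0xeb400f3000987)],
  [(nat_lit 5), (nat_lit 0xed40510000263), (nat_lit 247), (nat_lit 257), (nat_lit 249), (nat_lit 259), (nat_lit 0x1034e936000145), (nat_lit 247), (nat_lit 257), (nat_lit 0xf3404f300025d)],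
  [(nat_lit 8), (nat_lit 0xe54f124000263), (nat_lit 0xef3cd34000269), (nat_lit 357), (nat_lit 361), (nat_lit 357), (nat_lit 0xe93c91a000711)],
  [(nat_lit 8), (nat_lit 0x4912e000263), (nat_lit 0xe740d27000269), (nat_lit 361), (nat_lit 0xe3434f40007cb)],
  [(nat_lit 8), (nat_lit 0x4b530000263), (nat_lit 0xe941d30000269), (nat_lit 357), (nat_lit 361), (nat_lit 0xed4a52d000a4f)],
  [(nat_lit 8), (nat_lit 0x11f3ccf7000263), (nat_lit 259), (nat_lit 0xe94c10f00040d), (nat_lit 361), (nat_lit 357), (nat_lit 0xee4a0e9000655)],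
  [(nat_lit 8), (nat_lit 0xef4cd36000263), (nat_lit 259), (nat_lit 0xe73d13500040d), (nat_lit 361), (nat_lit 357), (nat_lit 0xf3481140006c7)],
  [(nat_lit 8), (nat_lit 0xf14c8ed000263), (nat_lit 259), (nat_lit 0xf24713e00040d), (nat_lit 357), (nat_lit 0x1213ed24000881)],
  [(nat_lit 8), (nat_lit 0x448ed000263), (nat_lit 257), (nat_lit 245), (nat_lit 259), (nat_lit 0xeb4d8fb000371), (nat_lit 0xe7468f6000993)],
  [(nat_lit 8), (nat_lit 0x4a109000263), (nat_lit 257), (nat_lit 245), (nat_lit 259), (nat_lit 0xe347d2d000371), (nat_lit 357), (nat_lit 0xec44127000681)],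
  [(nat_lit 8), (nat_lit 0xee408ed000263), (nat_lit 247), (nat_lit 257), (nat_lit 249), (nat_lit 259), (nat_lit 0x4310a000515), (nat_lit 361), (nat_lit 357), (nat_lit 0xe33b9120006f3)],
  [(nat_lit 8), (nat_lit 0x48919000263), (nat_lit 259), (nat_lit 247), (nat_lit 257), (nat_lit 0xee4e0f3000275), (nat_lit 0xe93c92f000b0d)],
  [(nat_lit 8), (nat_lit 0xe346cfa000263), (nat_lit 259), (nat_lit 247), (nat_lit 257), (nat_lit 0xf243ced000275), (nat_lit 361), (nat_lit 0xeb401140007d7)],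
  [(nat_lit 8), (nat_lit 0xf24ed2c000263), (nat_lit 259), (nat_lit 247), (nat_lit 257), (nat_lit 0xe54951c000275), (nat_lit 361), (nat_lit 0xe746d20000633)],
  [(nat_lit 8), (nat_lit 0x3b927000263), (nat_lit 259), (nat_lit 247), (nat_lit 257), (nat_lit 0xe34cd08000275), (nat_lit 0xe93c93f0008b5)],
  [(nat_lit 8), (nat_lit 0x4e539000263), (nat_lit 259), (nat_lit 247), (nat_lit 257), (nat_lit 0x46cfe000275), (nat_lit 361), (nat_lit 357), (nat_lit 0xec4f90f000993)],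
  [(nat_lit 8), (nat_lit 0xed4b91d000263), (nat_lit 259), (nat_lit 247), (nat_lit 257), (nat_lit 0xf13e92f000275), (nat_lit 0xf83f138000af5)],
  [(nat_lit 8), (nat_lit 0x4bcec000263), (nat_lit 259), (nat_lit 247), (nat_lit 257), (nat_lit 0x44110000275), (nat_lit 0xf44f50e0006d5)],
  [(nat_lit 8), (nat_lit 0x4013d000263), (nat_lit 247), (nat_lit 257), (nat_lit 249), (nat_lit 259), (nat_lit 0xec4c107000145), (nat_lit 245), (nat_lit 259), (nat_lit 247), (nat_lit 257), (nat_lit 0xf84f4f900044d)],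
  [(nat_lit 8), (nat_lit 0xf740136000263), (nat_lit 247), (nat_lit 257), (nat_lit 249), (nat_lit 259), (nat_lit 0xf349d21000145), (nat_lit 257), (nat_lit 247), (nat_lit 0x4a5010003e5)],
  [(nat_lit 8), (nat_lit 0x3e108000263), (nat_lit 247), (nat_lit 257), (nat_lit 249), (nat_lit 259), (nat_lit 0xf14791f000145), (nat_lit 0xe94b910000371)],
  [(nat_lit 8), (nat_lit 0xe93e91a000263), (nat_lit 247), (nat_lit 257), (nat_lit 249), (nat_lit 259), (nat_lit 0xed41908000145), (nat_lit 245), (nat_lit 257), (nat_lit 249), (nat_lit 0xe33cd290002f5)],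
  [(nat_lit 8), (nat_lit 0xe94ad20000263), (nat_lit 247), (nat_lit 257), (nat_lit 249), (nat_lit 259), (nat_lit 0xef43521000145), (nat_lit 245), (nat_lit 257), (nat_lit 0xe341539000345)],
  [(nat_lit 8), (nat_lit 0xed4b910000263), (nat_lit 247), (nat_lit 257), (nat_lit 249), (nat_lit 259), (nat_lit 0xf54e51b000145), (nat_lit 245), (nat_lit 257), (nat_lit 245), (nat_lit 0x4251a00030d)],
  [(nat_lit 8), (nat_lit 0x10e4c524000263), (nat_lit 247), (nat_lit 257), (nat_lit 249), (nat_lit 259), (nat_lit 0xe54850b000145), (nat_lit 257), (nat_lit 0xf53e92f000471)],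
  [(nat_lit 8), (nat_lit 0xe745531000263), (nat_lit 247), (nat_lit 257), (nat_lit 249), (nat_lit 259), (nat_lit 0xe543922000145), (nat_lit 245), (nat_lit 257), (nat_lit 249), (nat_lit 259), (nat_lit 0xe5488fb000241)],
  [(nat_lit 8), (nat_lit 0x4c8fa000263), (nat_lit 259), (nat_lit 245), (nat_lit 257), (nat_lit 0xeb45d3000046d), (nat_lit 0xf5485180009ef)],
  [(nat_lit 8), (nat_lit 0xf4494f8000263), (nat_lit 259), (nat_lit 245), (nat_lit 257), (nat_lit 0xe74b10f00046d), (nat_lit 361), (nat_lit 357), (nat_lit 0xe34c928000a95)],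
  [(nat_lit 8), (nat_lit 0xe94b0e9000263), (nat_lit 259), (nat_lit 245), (nat_lit 257), (nat_lit 0x11c4f10800046d), (nat_lit 357), (nat_lit 361), (nat_lit 357), (nat_lit 0xeb439070008d9)],
  [(nat_lit 8), (nat_lit 0x10a494eb000263), (nat_lit 245), (nat_lit 257), (nat_lit 0xe34a90c00039d), (nat_lit 0xe539d12000af9)],
  [(nat_lit 8), (nat_lit 0xf34412d000263), (nat_lit 245), (nat_lit 257), (nat_lit 0xe7470e900039d), (nat_lit 361), (nat_lit 0xee42532000847)],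
  [(nat_lit 8), (nat_lit 0xe745126000263), (nat_lit 245), (nat_lit 257), (nat_lit 0x1004f93300039d), (nat_lit 357), (nat_lit 361), (nat_lit 0x4cd0d0008dd)],
  [(nat_lit 8), (nat_lit 0xf93a527000263), (nat_lit 247), (nat_lit 259), (nat_lit 245), (nat_lit 0xf24a9360004b9), (nat_lit 361), (nat_lit 357), (nat_lit 0xe941d34000ad9)],
  [(nat_lit 8), (nat_lit 0xe34cd09000263), (nat_lit 257), (nat_lit 245), (nat_lit 0xef40540000549), (nat_lit 361), (nat_lit 357), (nat_lit 0x434ff0008a3)],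
  [(nat_lit 8), (nat_lit 0x127000263), (nat_lit 257), (nat_lit 245), (nat_lit 0xeb44927000549), (nat_lit 0xfd3e4e900065f)],
  [(nat_lit 8), (nat_lit 0xe74e530000263), (nat_lit 257), (nat_lit 245), (nat_lit 0xf14e92f000549), (nat_lit 357), (nat_lit 0xf54ed1a0008f9)],
  [(nat_lit 8), (nat_lit 0xe744536000263), (nat_lit 247), (nat_lit 257), (nat_lit 249), (nat_lit 259), (nat_lit 0xe53bd39000251), (nat_lit 361), (nat_lit 357), (nat_lit 0x4892d0008c9)],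
  [(nat_lit 8), (nat_lit 0xe54490f000263), (nat_lit 247), (nat_lit 257), (nat_lit 249), (nat_lit 259), (nat_lit 0xe94ad14000251), (nat_lit 361), (nat_lit 0xef3d91b000869)],
  [(nat_lit 8), (nat_lit 0xf33d915000263), (nat_lit 257), (nat_lit 249), (nat_lit 259), (nat_lit 0xe34190a0003d5), (nat_lit 357), (nat_lit 361), (nat_lit 357), (nat_lit 0xf24d114000a45)],
  [(nat_lit 8), (nat_lit 0xeb4d930000263), (nat_lit 257), (nat_lit 249), (nat_lit 259), (nat_lit 0xeb4bd2a0003d5), (nat_lit 361), (nat_lit 0xe74f1290007b5)],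
  [(nat_lit 8), (nat_lit 0xe73d135000263), (nat_lit 245), (nat_lit 249), (nat_lit 257), (nat_lit 0xf4481060003d1), (nat_lit 357), (nat_lit 361), (nat_lit 0xf94cd0700080b)],
  [(nat_lit 8), (nat_lit 0x3bd26000263), (nat_lit 245), (nat_lit 249), (nat_lit 257), (nat_lit 0xf33e1300003d1), (nat_lit 0x11a42931000a3b)],
  [(nat_lit 8), (nat_lit 0xf24b506000263), (nat_lit 245), (nat_lit 249), (nat_lit 257), (nat_lit 0x405260003d1), (nat_lit 357), (nat_lit 0xe33a528000869)],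
  [(nat_lit 8), (nat_lit 0xed47133000263), (nat_lit 245), (nat_lit 249), (nat_lit 0xe54ad1c00059d), (nat_lit 357), (nat_lit 0xe5460fb000a53)],
  [(nat_lit 8), (nat_lit 0x119000263), (nat_lit 245), (nat_lit 249), (nat_lit 0xe746cfe00059d), (nat_lit 0x3f90e000877)],
  [(nat_lit 8), (nat_lit 0xfa4c132000263), (nat_lit 245), (nat_lit 259), (nat_lit 247), (nat_lit 257), (nat_lit 0xf74990b000445), (nat_lit 0xe34c53e000b4b)],
  [(nat_lit 8), (nat_lit 0xf94f511000263), (nat_lit 245), (nat_lit 259), (nat_lit 247), (nat_lit 257), (nat_lit 0xf243932000445), (nat_lit 357), (nat_lit 361), (nat_lit 357), (nat_lit 0xeb3d533000adf)],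
  [(nat_lit 8), (nat_lit 0xf44bd11000263), (nat_lit 259), (nat_lit 0xed47d02000299), (nat_lit 357), (nat_lit 0xf33dd3e000b7d)],
  [(nat_lit 8), (nat_lit 0xed468e9000263), (nat_lit 259), (nat_lit 0x4212e000299), (nat_lit 361), (nat_lit 0xe33f123000a63)],
  [(nat_lit 8), (nat_lit 0xf43d127000263), (nat_lit 247), (nat_lit 257), (nat_lit 249), (nat_lit 0xf850127000535), (nat_lit 0x103488f3000645)],
  [(nat_lit 8), (nat_lit 0xf34a907000263), (nat_lit 247), (nat_lit 257), (nat_lit 249), (nat_lit 0x115000535), (nat_lit 361), (nat_lit 357), (nat_lit 0xf54193200084b)],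
  [(nat_lit 8), (nat_lit 0xf346513000263), (nat_lit 247), (nat_lit 257), (nat_lit 249), (nat_lit 0xef454ed000535), (nat_lit 361), (nat_lit 0xf245140000735)],
  [(nat_lit 8), (nat_lit 0xe539d29000263), (nat_lit 249), (nat_lit 259), (nat_lit 247), (nat_lit 0xef4950600041d), (nat_lit 357), (nat_lit 0xf1440fa000671)],
  [(nat_lit 8), (nat_lit 0xe341d0d000263), (nat_lit 249), (nat_lit 259), (nat_lit 247), (nat_lit 0x1005013e00041d), (nat_lit 357), (nat_lit 361), (nat_lit 0xe34c512000661)],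
  [(nat_lit 8), (nat_lit 0xf442d1b000263), (nat_lit 249), (nat_lit 259), (nat_lit 247), (nat_lit 0xe93e50300041d), (nat_lit 357), (nat_lit 0xed4c91d0006c7)],
  [(nat_lit 8), (nat_lit 0xe347536000263), (nat_lit 245), (nat_lit 259), (nat_lit 247), (nat_lit 0xff4f522000149), (nat_lit 167), (nat_lit 129), (nat_lit 0x4a50e0007ef)],
  [(nat_lit 8), (nat_lit 0xec4a129000263), (nat_lit 245), (nat_lit 259), (nat_lit 247), (nat_lit 0xfb4d93a000149), (nat_lit 125), (nat_lit 155), (nat_lit 129), (nat_lit 165), (nat_lit 0xe54951a0001a5)],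
  [(nat_lit 8), (nat_lit 0xfc3d10d000263), (nat_lit 245), (nat_lit 259), (nat_lit 247), (nat_lit 0x1154093f000149), (nat_lit 0xe54653c0001ad)],
  [(nat_lit 8), (nat_lit 0xf33e13c000263), (nat_lit 245), (nat_lit 259), (nat_lit 247), (nat_lit 0x4b0f6000149), (nat_lit 125), (nat_lit 129), (nat_lit 153), (nat_lit 153), (nat_lit 0xfa3f1390006cb)],
  [(nat_lit 8), (nat_lit 0xf44412d000263), (nat_lit 245), (nat_lit 259), (nat_lit 247), (nat_lit 0xe949933000149), (nat_lit 0xe94d5170009f7)],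
  [(nat_lit 8), (nat_lit 0xef3d927000263), (nat_lit 247), (nat_lit 257), (nat_lit 249), (nat_lit 0xf243cef000561), (nat_lit 361), (nat_lit 357), (nat_lit 0xee421290006e5)],
  [(nat_lit 8), (nat_lit 0xfc4f518000263), (nat_lit 247), (nat_lit 257), (nat_lit 249), (nat_lit 0xe93e53b000561), (nat_lit 357), (nat_lit 361), (nat_lit 0xf2468f7000661)],
  [(nat_lit 7), (nat_lit 0xf343101000263), (nat_lit 247), (nat_lit 257), (nat_lit 249), (nat_lit 259), (nat_lit 0xe34c0f6000135), (nat_lit 125), (nat_lit 137), (nat_lit 155), (nat_lit 0xf24ed0200019d)],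
  [(nat_lit 7), (nat_lit 0xe543935000263), (nat_lit 247), (nat_lit 0x3b53e000385), (nat_lit 361), (nat_lit 357), (nat_lit 0xf54c91d000a2f)],
  [(nat_lit 7), (nat_lit 0x3cd00000263), (nat_lit 249), (nat_lit 259), (nat_lit 247), (nat_lit 257), (nat_lit 0xfd4fd06000531), (nat_lit 0x4c92300091f)],
  [(nat_lit 7), (nat_lit 0xed40d35000263), (nat_lit 245), (nat_lit 259), (nat_lit 0x11148d130005a1), (nat_lit 357), (nat_lit 361), (nat_lit 357), (nat_lit 0xe33b536000745)],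
  [(nat_lit 7), (nat_lit 0xeb43d38000263), (nat_lit 259), (nat_lit 0xfd4c513000485), (nat_lit 357), (nat_lit 361), (nat_lit 357), (nat_lit 0xe345d2400082f)],
  [(nat_lit 7), (nat_lit 0xed4e13f000263), (nat_lit 259), (nat_lit 245), (nat_lit 249), (nat_lit 257), (nat_lit 0xe9415200002a9), (nat_lit 357), (nat_lit 361), (nat_lit 0xe34152d000bad)],
  [(nat_lit 7), (nat_lit 0xfb4e108000263), (nat_lit 245), (nat_lit 249), (nat_lit 257), (nat_lit 245), (nat_lit 0xee4d0fc000249), (nat_lit 0x4c92c0006ed)],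
  [(nat_lit 7), (nat_lit 0xe343d37000263), (nat_lit 245), (nat_lit 249), (nat_lit 259), (nat_lit 247), (nat_lit 0x4f9060003dd), (nat_lit 357), (nat_lit 0xe74fd3d000a05)],
  [(nat_lit 7), (nat_lit 0xf34d508000263), (nat_lit 247), (nat_lit 249), (nat_lit 0xe94e11f000559), (nat_lit 357), (nat_lit 0xe743d2f00070f)],
  [(nat_lit 7), (nat_lit 0xeb4bd18000263), (nat_lit 249), (nat_lit 257), (nat_lit 0xed4dd08000585), (nat_lit 361), (nat_lit 0x42501000b27)],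
  [(nat_lit 7), (nat_lit 0x3b935000263), (nat_lit 245), (nat_lit 249), (nat_lit 259), (nat_lit 247), (nat_lit 0xe53d1180005f9), (nat_lit 357), (nat_lit 361), (nat_lit 357), (nat_lit 0x110491250006fd)],
  [(nat_lit 7), (nat_lit 0x420eb000263), (nat_lit 257), (nat_lit 0xef4a53b0002c9), (nat_lit 0xe7474ec000979)],
  [(nat_lit 7), (nat_lit 0xe74d134000263), (nat_lit 245), (nat_lit 259), (nat_lit 247), (nat_lit 0xf44ad230004c9), (nat_lit 361), (nat_lit 357), (nat_lit 0xee49532000b13)],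
  [(nat_lit 7), (nat_lit 0x101000263), (nat_lit 247), (nat_lit 249), (nat_lit 257), (nat_lit 245), (nat_lit 0xfa4a8f7000241), (nat_lit 357), (nat_lit 361), (nat_lit 357), (nat_lit 0xe34e53e000add)],
  [(nat_lit 7), (nat_lit 0x50129000263), (nat_lit 249), (nat_lit 259), (nat_lit 247), (nat_lit 257), (nat_lit 0xe94ed13000555), (nat_lit 361), (nat_lit 0xe34d532000b3d)],
  [(nat_lit 7), (nat_lit 0x3d510000263), (nat_lit 249), (nat_lit 0x1084c92b000499), (nat_lit 361), (nat_lit 0xf949508000a55)],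
  [(nat_lit 7), (nat_lit 0xeb3ed11000263), (nat_lit 247), (nat_lit 257), (nat_lit 245), (nat_lit 0xf3415150004ed), (nat_lit 361), (nat_lit 357), (nat_lit 0x10d4d507000859)],
  [(nat_lit 7), (nat_lit 0x10050125000263), (nat_lit 249), (nat_lit 259), (nat_lit 0xe3501350004cd), (nat_lit 0xe348d02000939)],
  [(nat_lit 7), (nat_lit 0x4c4f7000263), (nat_lit 245), (nat_lit 257), (nat_lit 0x41cff000141), (nat_lit 247), (nat_lit 257), (nat_lit 0xe54ed23000241)],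
  [(nat_lit 7), (nat_lit 0xec4c905000263), (nat_lit 245), (nat_lit 257), (nat_lit 247), (nat_lit 259), (nat_lit 0xe34b8ef000241), (nat_lit 361), (nat_lit 357), (nat_lit 0xe94f90a000919)],
  [(nat_lit 7), (nat_lit 0xe34f50a000263), (nat_lit 245), (nat_lit 0xf64f53600026d), (nat_lit 0xe346d1d000951)],
  [(nat_lit 7), (nat_lit 0xe749d3d000263), (nat_lit 245), (nat_lit 257), (nat_lit 249), (nat_lit 259), (nat_lit 0xeb4c8ed000425), (nat_lit 357), (nat_lit 0x3ad1600090d)],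
  [(nat_lit 7), (nat_lit 0xe546921000263), (nat_lit 259), (nat_lit 0xf24d507000145), (nat_lit 0x46519000509)],
  [(nat_lit 7), (nat_lit 0x1214fd16000263), (nat_lit 247), (nat_lit 257), (nat_lit 249), (nat_lit 0xf541d19000161), (nat_lit 245), (nat_lit 0x3ccfe0005a9)],
  [(nat_lit 7), (nat_lit 0xe34d8ef000263), (nat_lit 257), (nat_lit 0xe34591700047d), (nat_lit 361), (nat_lit 0x3f91b000707)],
  [(nat_lit 7), (nat_lit 0x3ed11000263), (nat_lit 247), (nat_lit 257), (nat_lit 245), (nat_lit 0xeb4d508000415), (nat_lit 357), (nat_lit 0xe34c513000a8f)]]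
noncomputable def R7 : List (List ℕ) :=
  [[(nat_lit 7), (nat_lit 0xe34353f000263), (nat_lit 249), (nat_lit 257), (nat_lit 0xed448f90005e1), (nat_lit 361), (nat_lit 357), (nat_lit 0x4c135000a23)],
  [(nat_lit 7), (nat_lit 0xf33f923000263), (nat_lit 245), (nat_lit 259), (nat_lit 245), (nat_lit 0xe53ed36000581), (nat_lit 357), (nat_lit 0x11c3cd06000bcb)],
  [(nat_lit 7), (nat_lit 0x3d128000263), (nat_lit 245), (nat_lit 257), (nat_lit 247), (nat_lit 259), (nat_lit 0xee4d519000275), (nat_lit 361), (nat_lit 0x3dd160007d7)],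
  [(nat_lit 7), (nat_lit 0xeb4b507000263), (nat_lit 259), (nat_lit 245), (nat_lit 249), (nat_lit 257), (nat_lit 0xe34f50d00031d), (nat_lit 357), (nat_lit 361), (nat_lit 357), (nat_lit 0xe74f51700075b)],
  [(nat_lit 3), (nat_lit 0xe747d21000263), (nat_lit 245), (nat_lit 257), (nat_lit 0xeb4a1300003d9)],
  [(nat_lit 3), (nat_lit 0xf34ccfb000263), (nat_lit 245), (nat_lit 257), (nat_lit 0xe7450fa0004c9)],
  [(nat_lit 6), (nat_lit 0x4f90c000263), (nat_lit 257), (nat_lit 247), (nat_lit 259), (nat_lit 0xe94e51d00030d), (nat_lit 361), (nat_lit 357), (nat_lit 0xf14c0e90009b5)],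
  [(nat_lit 6), (nat_lit 0xec46533000263), (nat_lit 245), (nat_lit 259), (nat_lit 0xf64c113000439), (nat_lit 361), (nat_lit 0x1014811200085f)],
  [(nat_lit 6), (nat_lit 0x42935000263), (nat_lit 247), (nat_lit 259), (nat_lit 247), (nat_lit 0xf745d2f0005c5), (nat_lit 0x3e4ee000a21)],
  [(nat_lit 6), (nat_lit 0x42134000263), (nat_lit 259), (nat_lit 249), (nat_lit 0xe54f93a000511), (nat_lit 357), (nat_lit 361), (nat_lit 0xe748539000a23)],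
  [(nat_lit 4), (nat_lit 0xe34913600017f), (nat_lit 155), (nat_lit 167), (nat_lit 155), (nat_lit 0xf84e9080001c1), (nat_lit 357), (nat_lit 0xe93e93e0008d9)],
  [(nat_lit 4), (nat_lit 0x1134a8fd00017f), (nat_lit 125), (nat_lit 133), (nat_lit 155), (nat_lit 155), (nat_lit 0x10f3b534000109), (nat_lit 245), (nat_lit 257), (nat_lit 245), (nat_lit 0xe53ad24000335)],
  [(nat_lit 4), (nat_lit 0xed4d92100017f), (nat_lit 125), (nat_lit 137), (nat_lit 165), (nat_lit 153), (nat_lit 0x10641d21000137), (nat_lit 245), (nat_lit 257), (nat_lit 247), (nat_lit 0xe9488e9000365)],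
  [(nat_lit 9), (nat_lit 0xe34913600017f), (nat_lit 155), (nat_lit 167), (nat_lit 155), (nat_lit 0xf84e9080001c1), (nat_lit 357), (nat_lit 361), (nat_lit 0xe94593c0008b7)],
  [(nat_lit 5), (nat_lit 0x4f53500017f), (nat_lit 155), (nat_lit 167), (nat_lit 155), (nat_lit 0xe34f5160001c1), (nat_lit 361), (nat_lit 357), (nat_lit 0xe94d121000af1)],
  [(nat_lit 5), (nat_lit 0x3f0fa00017f), (nat_lit 141), (nat_lit 165), (nat_lit 155), (nat_lit 0xec4d8fa0001b9), (nat_lit 357), (nat_lit 361), (nat_lit 357), (nat_lit 0xe546d3a000801)],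
  [(nat_lit 8), (nat_lit 0x3c91100017f), (nat_lit 129), (nat_lit 133), (nat_lit 167), (nat_lit 155), (nat_lit 0x478f7000137), (nat_lit 247), (nat_lit 257), (nat_lit 249), (nat_lit 259), (nat_lit 0xe54213100040d)],
  [(nat_lit 8), (nat_lit 0xe54cd1d00017f), (nat_lit 129), (nat_lit 133), (nat_lit 167), (nat_lit 155), (nat_lit 0x4f93b000137), (nat_lit 245), (nat_lit 257), (nat_lit 247), (nat_lit 0xee468fe000365)],
  [(nat_lit 8), (nat_lit 0xec49d3f00017f), (nat_lit 129), (nat_lit 133), (nat_lit 167), (nat_lit 155), (nat_lit 0xf2484ff000137), (nat_lit 247), (nat_lit 257), (nat_lit 249), (nat_lit 259), (nat_lit 0xf74a8ee00045d)],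
  [(nat_lit 8), (nat_lit 0xf14ad1800017f), (nat_lit 129), (nat_lit 133), (nat_lit 167), (nat_lit 155), (nat_lit 0xeb3e934000137), (nat_lit 245), (nat_lit 249), (nat_lit 257), (nat_lit 0xf14a9260005a1)],
  [(nat_lit 8), (nat_lit 0xe34ed0900017f), (nat_lit 129), (nat_lit 133), (nat_lit 167), (nat_lit 155), (nat_lit 0xee3e93f000137), (nat_lit 247), (nat_lit 257), (nat_lit 249), (nat_lit 259), (nat_lit 0x464f30004c1)],
  [(nat_lit 8), (nat_lit 0xe34ed0600017f), (nat_lit 129), (nat_lit 133), (nat_lit 167), (nat_lit 155), (nat_lit 0xee4ed2a000137), (nat_lit 245), (nat_lit 249), (nat_lit 257), (nat_lit 0x10e000341)],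
  [(nat_lit 8), (nat_lit 0xed43d2900017f), (nat_lit 129), (nat_lit 133), (nat_lit 167), (nat_lit 155), (nat_lit 0xe3464ee000137), (nat_lit 249), (nat_lit 259), (nat_lit 245), (nat_lit 0xe33e91d000545)],
  [(nat_lit 8), (nat_lit 0xe34913600017f), (nat_lit 155), (nat_lit 167), (nat_lit 155), (nat_lit 0xf949d320001c1), (nat_lit 0xf93f536000b7d)],
  [(nat_lit 8), (nat_lit 0xf73a50d00017f), (nat_lit 155), (nat_lit 167), (nat_lit 155), (nat_lit 0x485150001c1), (nat_lit 361), (nat_lit 357), (nat_lit 0xe94fd30000ac1)],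
  [(nat_lit 8), (nat_lit 0xf54412d00017f), (nat_lit 155), (nat_lit 167), (nat_lit 155), (nat_lit 0xe74790e0001c1), (nat_lit 357), (nat_lit 361), (nat_lit 357), (nat_lit 0xed4f913000bdd)],
  [(nat_lit 8), (nat_lit 0xe74f53600017f), (nat_lit 129), (nat_lit 133), (nat_lit 167), (nat_lit 155), (nat_lit 0xe54e129000159), (nat_lit 259), (nat_lit 0xe740d3f000325)],
  [(nat_lit 8), (nat_lit 0x3ad3900017f), (nat_lit 129), (nat_lit 133), (nat_lit 167), (nat_lit 155), (nat_lit 0xe94551f000159), (nat_lit 249), (nat_lit 259), (nat_lit 247), (nat_lit 257), (nat_lit 0xf34d53e000499)],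
  [(nat_lit 8), (nat_lit 0xf74d11a00017f), (nat_lit 129), (nat_lit 133), (nat_lit 167), (nat_lit 155), (nat_lit 0xfa4ed10000159), (nat_lit 247), (nat_lit 257), (nat_lit 249), (nat_lit 259), (nat_lit 0xfc461360005c5)],
  [(nat_lit 8), (nat_lit 0x4891100017f), (nat_lit 129), (nat_lit 133), (nat_lit 167), (nat_lit 155), (nat_lit 0xfd4c4fa000159), (nat_lit 259), (nat_lit 245), (nat_lit 0x3ad35000379)],
  [(nat_lit 8), (nat_lit 0x4911800017f), (nat_lit 129), (nat_lit 133), (nat_lit 167), (nat_lit 155), (nat_lit 0xf44251f000159), (nat_lit 245), (nat_lit 257), (nat_lit 247), (nat_lit 0xe94211f000511)],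
  [(nat_lit 8), (nat_lit 0xed4653100017f), (nat_lit 125), (nat_lit 133), (nat_lit 155), (nat_lit 155), (nat_lit 0xf43dd1e000109), (nat_lit 0x3b537000375)],
  [(nat_lit 8), (nat_lit 0xee4d92800017f), (nat_lit 141), (nat_lit 165), (nat_lit 155), (nat_lit 0xe34f5020001b9), (nat_lit 0xf5500f20008ad)],
  [(nat_lit 8), (nat_lit 0xef4d53c00017f), (nat_lit 141), (nat_lit 165), (nat_lit 155), (nat_lit 0xf54613f0001b9), (nat_lit 361), (nat_lit 357), (nat_lit 0x46110000ac1)],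
  [(nat_lit 8), (nat_lit 0x4252f00017f), (nat_lit 0xe7420eb0007ef), (nat_lit 357), (nat_lit 361), (nat_lit 357), (nat_lit 0xf34ad33000999)],
  [(nat_lit 8), (nat_lit 0xee4fd1d00017f), (nat_lit 0xe94b5170007ef), (nat_lit 0xe94613c0008e9)],
  [(nat_lit 8), (nat_lit 0x1053dd3500017f), (nat_lit 153), (nat_lit 133), (nat_lit 0xf34d93b0009f7), (nat_lit 357), (nat_lit 361), (nat_lit 357), (nat_lit 0xe74c51b0008b3)],
  [(nat_lit 8), (nat_lit 0xfd4211700017f), (nat_lit 153), (nat_lit 133), (nat_lit 0xe94d5120009f7), (nat_lit 357), (nat_lit 0xe34412e0009b1)],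
  [(nat_lit 8), (nat_lit 0x3dd3600017f), (nat_lit 155), (nat_lit 133), (nat_lit 165), (nat_lit 0xec4a8eb000159), (nat_lit 259), (nat_lit 245), (nat_lit 249), (nat_lit 0xf445917000449)],
  [(nat_lit 8), (nat_lit 0x4a93500017f), (nat_lit 155), (nat_lit 133), (nat_lit 165), (nat_lit 0xe946119000159), (nat_lit 257), (nat_lit 245), (nat_lit 259), (nat_lit 0xe74a510000271)],
  [(nat_lit 8), (nat_lit 0xe54c8ee00017f), (nat_lit 155), (nat_lit 133), (nat_lit 165), (nat_lit 0x10944d10000159), (nat_lit 249), (nat_lit 259), (nat_lit 247), (nat_lit 257), (nat_lit 0xff40930000499)],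
  [(nat_lit 8), (nat_lit 0xf34413d00017f), (nat_lit 155), (nat_lit 133), (nat_lit 165), (nat_lit 0xf43e8fb000159), (nat_lit 247), (nat_lit 257), (nat_lit 249), (nat_lit 259), (nat_lit 0xe9480ed0005c5)],
  [(nat_lit 8), (nat_lit 0xef4b13100017f), (nat_lit 153), (nat_lit 153), (nat_lit 153), (nat_lit 0xf74712a0007eb), (nat_lit 361), (nat_lit 0xf5461100007a3)],
  [(nat_lit 8), (nat_lit 0x1013e4ef00017f), (nat_lit 153), (nat_lit 153), (nat_lit 153), (nat_lit 0xe548d010007eb), (nat_lit 361), (nat_lit 0xe5485300007a7)],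
  [(nat_lit 8), (nat_lit 0xe94991700017f), (nat_lit 153), (nat_lit 153), (nat_lit 153), (nat_lit 0x45d390007eb), (nat_lit 0x10647d01000775)],
  [(nat_lit 8), (nat_lit 0xf74493d00017f), (nat_lit 153), (nat_lit 153), (nat_lit 153), (nat_lit 0x3e1170007eb), (nat_lit 0xed4ad1d000849)],
  [(nat_lit 8), (nat_lit 0xf1408ee00017f), (nat_lit 125), (nat_lit 129), (nat_lit 141), (nat_lit 0x4cd15000105), (nat_lit 0xe34310a0002b5)],
  [(nat_lit 8), (nat_lit 0xfb46d3e00017f), (nat_lit 125), (nat_lit 129), (nat_lit 141), (nat_lit 0xe349118000105), (nat_lit 245), (nat_lit 257), (nat_lit 245), (nat_lit 0xed4c109000461)],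
  [(nat_lit 8), (nat_lit 0xfb4c13e00017f), (nat_lit 125), (nat_lit 129), (nat_lit 141), (nat_lit 0xf440929000105), (nat_lit 245), (nat_lit 257), (nat_lit 0xe747d09000291)],
  [(nat_lit 8), (nat_lit 0xf54410e00017f), (nat_lit 125), (nat_lit 129), (nat_lit 141), (nat_lit 0xe74a903000105), (nat_lit 245), (nat_lit 249), (nat_lit 259), (nat_lit 0xe347921000435)],
  [(nat_lit 8), (nat_lit 0xe74613e00017f), (nat_lit 125), (nat_lit 129), (nat_lit 141), (nat_lit 0xed490f3000105), (nat_lit 245), (nat_lit 249), (nat_lit 259), (nat_lit 0xeb4391a000445)],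
  [(nat_lit 8), (nat_lit 0xf34e51d00017f), (nat_lit 153), (nat_lit 0xe34d4ee000155), (nat_lit 155), (nat_lit 155), (nat_lit 0xe5419010007ef)],
  [(nat_lit 8), (nat_lit 0xfd4211c00017f), (nat_lit 153), (nat_lit 0xfc43925000155), (nat_lit 133), (nat_lit 167), (nat_lit 153), (nat_lit 0x1073e5200007ef)],
  [(nat_lit 8), (nat_lit 0xf34451800017f), (nat_lit 153), (nat_lit 0xf7498e9000155), (nat_lit 133), (nat_lit 153), (nat_lit 167), (nat_lit 0xf64cd33000199)],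
  [(nat_lit 8), (nat_lit 0xe34f92f00017f), (nat_lit 153), (nat_lit 0xf64511e000155), (nat_lit 129), (nat_lit 155), (nat_lit 167), (nat_lit 155), (nat_lit 0xed4790f000179)],
  [(nat_lit 8), (nat_lit 0x10043d2f00017f), (nat_lit 137), (nat_lit 167), (nat_lit 155), (nat_lit 0x1073dd3c0001b5), (nat_lit 361), (nat_lit 357), (nat_lit 0xe74dcfb000971)],
  [(nat_lit 8), (nat_lit 0xe5468f300017f), (nat_lit 137), (nat_lit 167), (nat_lit 155), (nat_lit 0xf54ed070001b5), (nat_lit 0xe34b5080009cb)],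
  [(nat_lit 8), (nat_lit 0x1003cd3300017f), (nat_lit 137), (nat_lit 167), (nat_lit 155), (nat_lit 0xfd4c9200001b5), (nat_lit 361), (nat_lit 357), (nat_lit 0x3b5100007b7)],
  [(nat_lit 8), (nat_lit 0xf93d92100017f), (nat_lit 125), (nat_lit 165), (nat_lit 155), (nat_lit 129), (nat_lit 0xeb3e91f0001a1), (nat_lit 357), (nat_lit 0xe33b91e0006bb)],
  [(nat_lit 8), (nat_lit 0xe34091300017f), (nat_lit 125), (nat_lit 165), (nat_lit 155), (nat_lit 129), (nat_lit 0xe93c4fa0001a1), (nat_lit 0xee499140001a7)],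
  [(nat_lit 8), (nat_lit 0xf940d3f00017f), (nat_lit 125), (nat_lit 165), (nat_lit 155), (nat_lit 129), (nat_lit 0xe54cd370001a1), (nat_lit 357), (nat_lit 0xec41921000747)],
  [(nat_lit 8), (nat_lit 0xe94b50b00017f), (nat_lit 125), (nat_lit 137), (nat_lit 165), (nat_lit 153), (nat_lit 0xec42135000137), (nat_lit 0x4252f0005d9)],
  [(nat_lit 8), (nat_lit 0xef49d3500017f), (nat_lit 125), (nat_lit 137), (nat_lit 165), (nat_lit 153), (nat_lit 0x1054850b000137), (nat_lit 247), (nat_lit 257), (nat_lit 249), (nat_lit 259), (nat_lit 0x107458ef00045d)],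
  [(nat_lit 8), (nat_lit 0xfb4fd0c00017f), (nat_lit 125), (nat_lit 137), (nat_lit 165), (nat_lit 153), (nat_lit 0xed3f924000137), (nat_lit 259), (nat_lit 245), (nat_lit 249), (nat_lit 257), (nat_lit 0xfb3a5270003e9)],
  [(nat_lit 8), (nat_lit 0x1194c92200017f), (nat_lit 125), (nat_lit 137), (nat_lit 165), (nat_lit 153), (nat_lit 0xf449130000137), (nat_lit 247), (nat_lit 257), (nat_lit 245), (nat_lit 0xf64a50a000411)],
  [(nat_lit 8), (nat_lit 0x101480eb00017f), (nat_lit 125), (nat_lit 137), (nat_lit 165), (nat_lit 153), (nat_lit 0xe9488e9000137), (nat_lit 245), (nat_lit 249), (nat_lit 257), (nat_lit 0xe9449180005a1)],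
  [(nat_lit 8), (nat_lit 0xf34d53e00017f), (nat_lit 125), (nat_lit 137), (nat_lit 165), (nat_lit 153), (nat_lit 0x100484fb000137), (nat_lit 257), (nat_lit 247), (nat_lit 0xe94913c000269)],
  [(nat_lit 8), (nat_lit 0xfb4850c00017f), (nat_lit 125), (nat_lit 137), (nat_lit 165), (nat_lit 153), (nat_lit 0xed5011e000137), (nat_lit 247), (nat_lit 257), (nat_lit 249), (nat_lit 259), (nat_lit 0xfc480ec0004c1)],
  [(nat_lit 8), (nat_lit 0xfa4553600017f), (nat_lit 125), (nat_lit 137), (nat_lit 165), (nat_lit 153), (nat_lit 0xe54c51c000137), (nat_lit 249), (nat_lit 257), (nat_lit 0xf24211500053d)],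
  [(nat_lit 8), (nat_lit 0xe94451c00017f), (nat_lit 125), (nat_lit 137), (nat_lit 165), (nat_lit 153), (nat_lit 0x4b4ec000137), (nat_lit 247), (nat_lit 0xf84810900053d)],
  [(nat_lit 7), (nat_lit 0xeb4590d00017f), (nat_lit 125), (nat_lit 165), (nat_lit 125), (nat_lit 0xe54f1080001ad), (nat_lit 361), (nat_lit 0xef484f5000c6d)],
  [(nat_lit 7), (nat_lit 0xf14b10f00017f), (nat_lit 165), (nat_lit 141), (nat_lit 0xeb3d516000171), (nat_lit 357), (nat_lit 0x3b9330007d1)],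
  [(nat_lit 7), (nat_lit 0x10144d3400017f), (nat_lit 129), (nat_lit 137), (nat_lit 0x1054f903000171), (nat_lit 361), (nat_lit 357), (nat_lit 0xec4c113000a75)],
  [(nat_lit 7), (nat_lit 0xe53e52900017f), (nat_lit 141), (nat_lit 0xed4e4fb00019d), (nat_lit 0xf73cd21000621)],
  [(nat_lit 7), (nat_lit 0xeb4713e00017f), (nat_lit 125), (nat_lit 141), (nat_lit 153), (nat_lit 0xe94fd140007ef), (nat_lit 0xee4d9230008e9)],
  [(nat_lit 7), (nat_lit 0x4e12100017f), (nat_lit 129), (nat_lit 165), (nat_lit 0x4c12c0001b9), (nat_lit 0xf24c515000ad9)],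
  [(nat_lit 7), (nat_lit 0xef4650500017f), (nat_lit 129), (nat_lit 133), (nat_lit 137), (nat_lit 0xfa4cd36000137), (nat_lit 0xed4292f0003bd)],
  [(nat_lit 7), (nat_lit 0x4e13f00017f), (nat_lit 167), (nat_lit 153), (nat_lit 129), (nat_lit 0xf345cfa000189), (nat_lit 357), (nat_lit 0xe94c52d000707)],
  [(nat_lit 7), (nat_lit 0xf54d13d00017f), (nat_lit 129), (nat_lit 155), (nat_lit 167), (nat_lit 0xf14ad080001bd), (nat_lit 361), (nat_lit 357), (nat_lit 0xe74a522000765)],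
  [(nat_lit 7), (nat_lit 0xf54792a00017f), (nat_lit 129), (nat_lit 133), (nat_lit 137), (nat_lit 0x10641d090001b5), (nat_lit 361), (nat_lit 357), (nat_lit 0xed4b8e90007b7)],
  [(nat_lit 7), (nat_lit 0xe94d10200017f), (nat_lit 129), (nat_lit 133), (nat_lit 167), (nat_lit 0x3fcf9000137), (nat_lit 247), (nat_lit 257), (nat_lit 249), (nat_lit 259), (nat_lit 0xed4213f00045d)],
  [(nat_lit 7), (nat_lit 0xec4593d00017f), (nat_lit 125), (nat_lit 0xeb4bcf4000179), (nat_lit 361), (nat_lit 0x49124000b31)],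
  [(nat_lit 7), (nat_lit 0xe94193400017f), (nat_lit 129), (nat_lit 167), (nat_lit 133), (nat_lit 0xf34a4f50001b9), (nat_lit 0xe946d390008ad)],
  [(nat_lit 7), (nat_lit 0xec3e53f00017f), (nat_lit 153), (nat_lit 167), (nat_lit 0xe3481020007eb), (nat_lit 357), (nat_lit 361), (nat_lit 357), (nat_lit 0x43138000b31)],
  [(nat_lit 7), (nat_lit 0xec4911700017f), (nat_lit 133), (nat_lit 153), (nat_lit 129), (nat_lit 0x3a5150001b9), (nat_lit 0x4591d0001c3)],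
  [(nat_lit 7), (nat_lit 0x46d0900017f), (nat_lit 167), (nat_lit 125), (nat_lit 0xe949535000d33), (nat_lit 357), (nat_lit 361), (nat_lit 357), (nat_lit 0xe74212500089b)],
  [(nat_lit 7), (nat_lit 0xe54cd2a00017f), (nat_lit 129), (nat_lit 155), (nat_lit 167), (nat_lit 141), (nat_lit 0xf446d0a0006c3), (nat_lit 361), (nat_lit 0xf93bd29000c81)],
  [(nat_lit 7), (nat_lit 0x4752100017f), (nat_lit 133), (nat_lit 141), (nat_lit 0xf44212c0000ed), (nat_lit 221), (nat_lit 225), (nat_lit 0xe53bd120001d1)],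
  [(nat_lit 7), (nat_lit 0xf24e93100017f), (nat_lit 125), (nat_lit 155), (nat_lit 0x4e507000159), (nat_lit 247), (nat_lit 257), (nat_lit 249), (nat_lit 259), (nat_lit 0xe945d260005c5)],
  [(nat_lit 7), (nat_lit 0x1074b93d00017f), (nat_lit 129), (nat_lit 153), (nat_lit 133), (nat_lit 167), (nat_lit 0xe34893e000189), (nat_lit 357), (nat_lit 361), (nat_lit 357), (nat_lit 0x45532000d21)],
  [(nat_lit 7), (nat_lit 0xe54752100017f), (nat_lit 155), (nat_lit 155), (nat_lit 0xfa4990d00014b), (nat_lit 245), (nat_lit 0x4c90f000575)],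
  [(nat_lit 7), (nat_lit 0xf44bd1700017f), (nat_lit 155), (nat_lit 165), (nat_lit 141), (nat_lit 0xe549d380009b3), (nat_lit 0xec4bcff000d91)],
  [(nat_lit 7), (nat_lit 0xf34c0f500017f), (nat_lit 125), (nat_lit 129), (nat_lit 155), (nat_lit 0xec479100001c5), (nat_lit 357), (nat_lit 361), (nat_lit 357), (nat_lit 0x10f46cfc000d6f)],
  [(nat_lit 7), (nat_lit 0xf34c10300017f), (nat_lit 153), (nat_lit 167), (nat_lit 125), (nat_lit 0xe54acf2000137), (nat_lit 247), (nat_lit 0xf14913300053d)],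
  [(nat_lit 3), (nat_lit 0xe74f53500017f), (nat_lit 133), (nat_lit 141), (nat_lit 165), (nat_lit 0xfc434ec0001a5)],
  [(nat_lit 6), (nat_lit 0xe53cd3300017f), (nat_lit 153), (nat_lit 133), (nat_lit 167), (nat_lit 0xe945116000179), (nat_lit 357), (nat_lit 0xf24691b0006d9)],
  [(nat_lit 6), (nat_lit 0xf24ed2e00017f), (nat_lit 137), (nat_lit 167), (nat_lit 133), (nat_lit 0xe5488ee0001a5), (nat_lit 0xed429160008ff)],
  [(nat_lit 6), (nat_lit 0xeb4a10200017f), (nat_lit 125), (nat_lit 129), (nat_lit 153), (nat_lit 165), (nat_lit 0xe7414f4000967), (nat_lit 0xec4a1190001ab)],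
  [(nat_lit 6), (nat_lit 0xf43d12b00017f), (nat_lit 125), (nat_lit 153), (nat_lit 165), (nat_lit 0x3fd0d0006cb), (nat_lit 0xeb4653c00066d)],
  [(nat_lit 4), (nat_lit 0xf74b508000297), (nat_lit 245), (nat_lit 257), (nat_lit 247), (nat_lit 259), (nat_lit 0x107449200004bd), (nat_lit 357), (nat_lit 0xf54650f000d5f)],
  [(nat_lit 4), (nat_lit 0x3e940000297), (nat_lit 245), (nat_lit 249), (nat_lit 259), (nat_lit 247), (nat_lit 0xfd4d511000315), (nat_lit 357), (nat_lit 0xee4d51b00099f)],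
  [(nat_lit 4), (nat_lit 0xf44c926000297), (nat_lit 257), (nat_lit 245), (nat_lit 259), (nat_lit 0xe74c1330005c1), (nat_lit 361), (nat_lit 0xf343534000a89)],
  [(nat_lit 4), (nat_lit 0xed4e8f3000297), (nat_lit 257), (nat_lit 247), (nat_lit 259), (nat_lit 0x4e9290005f9), (nat_lit 0xe342d3e000a99)],
  [(nat_lit 4), (nat_lit 0xe33fcf2000297), (nat_lit 247), (nat_lit 249), (nat_lit 257), (nat_lit 245), (nat_lit 0x4f518000161), (nat_lit 259), (nat_lit 247), (nat_lit 257), (nat_lit 0x3b4f6000451)],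
  [(nat_lit 4), (nat_lit 0xf54292f000297), (nat_lit 245), (nat_lit 259), (nat_lit 0xf84cd3500038d), (nat_lit 361), (nat_lit 0x1084691e0006fd)]]
noncomputable def R8 : List (List ℕ) :=
  [[(nat_lit 4), (nat_lit 0x41913000297), (nat_lit 259), (nat_lit 0xee3ed2800043d), (nat_lit 361), (nat_lit 357), (nat_lit 0x1153d0fa000ad9)],
  [(nat_lit 9), (nat_lit 0xe33fcf2000297), (nat_lit 247), (nat_lit 249), (nat_lit 257), (nat_lit 245), (nat_lit 0x4f518000161), (nat_lit 245), (nat_lit 257), (nat_lit 0x41d3e0002cd)],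
  [(nat_lit 9), (nat_lit 0xf54292f000297), (nat_lit 245), (nat_lit 259), (nat_lit 0xf84cd3500038d), (nat_lit 361), (nat_lit 357), (nat_lit 0x3f922000abd)],
  [(nat_lit 5), (nat_lit 0xe33a502000297), (nat_lit 245), (nat_lit 259), (nat_lit 247), (nat_lit 0xe74f4f70002bd), (nat_lit 357), (nat_lit 361), (nat_lit 357), (nat_lit 0xec4d51f000acb)],
  [(nat_lit 8), (nat_lit 0x1244d90e000297), (nat_lit 257), (nat_lit 249), (nat_lit 259), (nat_lit 0x10c478f40005a1), (nat_lit 361), (nat_lit 0xf24a92a000879)],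
  [(nat_lit 8), (nat_lit 0xef44115000297), (nat_lit 257), (nat_lit 249), (nat_lit 259), (nat_lit 0xff3ed230005a1), (nat_lit 357), (nat_lit 0xe94a11c000951)],
  [(nat_lit 8), (nat_lit 0xeb40523000297), (nat_lit 257), (nat_lit 249), (nat_lit 259), (nat_lit 0xe541d390005a1), (nat_lit 361), (nat_lit 357), (nat_lit 0xe94b0e9000843)],
  [(nat_lit 8), (nat_lit 0x4092d000297), (nat_lit 257), (nat_lit 249), (nat_lit 259), (nat_lit 0xed4e9020005a1), (nat_lit 357), (nat_lit 361), (nat_lit 0xe548cf1000dc7)],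
  [(nat_lit 8), (nat_lit 0xe345108000297), (nat_lit 245), (nat_lit 249), (nat_lit 257), (nat_lit 0xfc3e902000371), (nat_lit 357), (nat_lit 0xe94b121000681)],
  [(nat_lit 8), (nat_lit 0xe345d0f000297), (nat_lit 245), (nat_lit 249), (nat_lit 257), (nat_lit 0xe93e12f000371), (nat_lit 357), (nat_lit 0xfc3c52c000df1)],
  [(nat_lit 8), (nat_lit 0xf33cd0d000297), (nat_lit 245), (nat_lit 249), (nat_lit 257), (nat_lit 0xed4bd06000371), (nat_lit 0x1003ecff000993)],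
  [(nat_lit 8), (nat_lit 0xe94b8ef000297), (nat_lit 245), (nat_lit 259), (nat_lit 247), (nat_lit 0xed49d0f0002bd), (nat_lit 361), (nat_lit 0x10549138000c29)],
  [(nat_lit 8), (nat_lit 0xe74692a000297), (nat_lit 245), (nat_lit 249), (nat_lit 259), (nat_lit 247), (nat_lit 0xe74f4fe0005b1), (nat_lit 357), (nat_lit 361), (nat_lit 0xeb48cf30009e9)],
  [(nat_lit 8), (nat_lit 0xf14b932000297), (nat_lit 259), (nat_lit 245), (nat_lit 249), (nat_lit 257), (nat_lit 0xe34513f000511), (nat_lit 0xe7408ef000e15)],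
  [(nat_lit 8), (nat_lit 0xe74f92b000297), (nat_lit 259), (nat_lit 245), (nat_lit 249), (nat_lit 257), (nat_lit 0x4c921000511), (nat_lit 357), (nat_lit 361), (nat_lit 0x3bd25000ccb)],
  [(nat_lit 8), (nat_lit 0xf14993d000297), (nat_lit 259), (nat_lit 245), (nat_lit 249), (nat_lit 257), (nat_lit 0xef46d27000511), (nat_lit 357), (nat_lit 361), (nat_lit 0xee45107000b69)],
  [(nat_lit 8), (nat_lit 0xf14a93b000297), (nat_lit 259), (nat_lit 245), (nat_lit 249), (nat_lit 257), (nat_lit 0xe73f117000511), (nat_lit 357), (nat_lit 0xf44152f0009a5)],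
  [(nat_lit 8), (nat_lit 0x4d107000297), (nat_lit 259), (nat_lit 245), (nat_lit 249), (nat_lit 257), (nat_lit 0xf5420f3000511), (nat_lit 0xfa4c8f70009fd)],
  [(nat_lit 8), (nat_lit 0xf74b508000297), (nat_lit 245), (nat_lit 257), (nat_lit 247), (nat_lit 259), (nat_lit 0xee439370004bd), (nat_lit 357), (nat_lit 0x3a506000a45)],
  [(nat_lit 8), (nat_lit 0xe5420e7000297), (nat_lit 245), (nat_lit 257), (nat_lit 247), (nat_lit 259), (nat_lit 0xef479050004bd), (nat_lit 357), (nat_lit 361), (nat_lit 357), (nat_lit 0xeb3f533000c17)],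
  [(nat_lit 8), (nat_lit 0x1004a8ec000297), (nat_lit 245), (nat_lit 257), (nat_lit 247), (nat_lit 259), (nat_lit 0xe743d3c0004bd), (nat_lit 361), (nat_lit 0x1104a901000d21)],
  [(nat_lit 8), (nat_lit 0xf13d12d000297), (nat_lit 245), (nat_lit 257), (nat_lit 247), (nat_lit 259), (nat_lit 0xeb49d320004bd), (nat_lit 361), (nat_lit 357), (nat_lit 0xeb4f912000a61)],
  [(nat_lit 8), (nat_lit 0xee4fd17000297), (nat_lit 245), (nat_lit 249), (nat_lit 259), (nat_lit 247), (nat_lit 0x10139d08000315), (nat_lit 361), (nat_lit 357), (nat_lit 0x1233d0fe000983)],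
  [(nat_lit 8), (nat_lit 0xe53dd3c000297), (nat_lit 245), (nat_lit 249), (nat_lit 259), (nat_lit 247), (nat_lit 0xeb3f10e000315), (nat_lit 357), (nat_lit 361), (nat_lit 357), (nat_lit 0xf3468f3000ae3)],
  [(nat_lit 8), (nat_lit 0x4f127000297), (nat_lit 245), (nat_lit 249), (nat_lit 259), (nat_lit 247), (nat_lit 0xf34590e000315), (nat_lit 0xf13ed180009ad)],
  [(nat_lit 8), (nat_lit 0x1094d4f3000297), (nat_lit 245), (nat_lit 249), (nat_lit 259), (nat_lit 247), (nat_lit 0xef4cd40000315), (nat_lit 357), (nat_lit 0x38d19000d9b)],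
  [(nat_lit 8), (nat_lit 0xef47115000297), (nat_lit 245), (nat_lit 249), (nat_lit 259), (nat_lit 247), (nat_lit 0xed4dd23000315), (nat_lit 357), (nat_lit 0xfe4d11700089d)],
  [(nat_lit 8), (nat_lit 0x3b53a000297), (nat_lit 245), (nat_lit 249), (nat_lit 259), (nat_lit 247), (nat_lit 0xe54a92f000315), (nat_lit 357), (nat_lit 361), (nat_lit 357), (nat_lit 0xf347117000e19)],
  [(nat_lit 8), (nat_lit 0xee4dd18000297), (nat_lit 245), (nat_lit 249), (nat_lit 259), (nat_lit 247), (nat_lit 0xeb4491e000315), (nat_lit 0xec4a901000873)],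
  [(nat_lit 8), (nat_lit 0xed4b112000297), (nat_lit 245), (nat_lit 249), (nat_lit 259), (nat_lit 247), (nat_lit 0xe340121000315), (nat_lit 361), (nat_lit 0xfe414f6000783)],
  [(nat_lit 8), (nat_lit 0xe53c4f7000297), (nat_lit 245), (nat_lit 249), (nat_lit 259), (nat_lit 247), (nat_lit 0x1113ed1e000315), (nat_lit 357), (nat_lit 0xfa4a8ef000c3b)],
  [(nat_lit 8), (nat_lit 0xf43f116000297), (nat_lit 247), (nat_lit 257), (nat_lit 247), (nat_lit 0xee4413300046d), (nat_lit 357), (nat_lit 361), (nat_lit 357), (nat_lit 0xeb4fd360009d1)],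
  [(nat_lit 8), (nat_lit 0xf14a91b000297), (nat_lit 247), (nat_lit 257), (nat_lit 247), (nat_lit 0xe9448f600046d), (nat_lit 0xe33f134000c71)],
  [(nat_lit 8), (nat_lit 0xec41d36000297), (nat_lit 247), (nat_lit 259), (nat_lit 245), (nat_lit 0xfa4693b000465), (nat_lit 357), (nat_lit 0xe94490f000b57)],
  [(nat_lit 8), (nat_lit 0x10e4b8f4000297), (nat_lit 247), (nat_lit 259), (nat_lit 245), (nat_lit 0xe34853f000465), (nat_lit 357), (nat_lit 361), (nat_lit 357), (nat_lit 0xef45907000a7f)],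
  [(nat_lit 8), (nat_lit 0xe548937000297), (nat_lit 247), (nat_lit 249), (nat_lit 257), (nat_lit 0xe34650a0003b1), (nat_lit 357), (nat_lit 361), (nat_lit 357), (nat_lit 0x45529000863)],
  [(nat_lit 8), (nat_lit 0xe33e91d000297), (nat_lit 247), (nat_lit 249), (nat_lit 257), (nat_lit 0xe94c9170003b1), (nat_lit 361), (nat_lit 0xe547d310008bf)],
  [(nat_lit 8), (nat_lit 0xe54fceb000297), (nat_lit 247), (nat_lit 249), (nat_lit 257), (nat_lit 0xf33f1220003b1), (nat_lit 357), (nat_lit 361), (nat_lit 357), (nat_lit 0xee4f126000957)],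
  [(nat_lit 8), (nat_lit 0xf14ad12000297), (nat_lit 247), (nat_lit 249), (nat_lit 257), (nat_lit 0xef5011d0003b1), (nat_lit 357), (nat_lit 0xe94551f000dd5)],
  [(nat_lit 8), (nat_lit 0xeb3e91f000297), (nat_lit 247), (nat_lit 249), (nat_lit 257), (nat_lit 0xf44e1390003b1), (nat_lit 357), (nat_lit 0xe744d1a000729)],
  [(nat_lit 8), (nat_lit 0x43d1c000297), (nat_lit 259), (nat_lit 245), (nat_lit 249), (nat_lit 0xf542535000579), (nat_lit 361), (nat_lit 357), (nat_lit 0x4fd02000a89)],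
  [(nat_lit 8), (nat_lit 0x10c41d16000297), (nat_lit 259), (nat_lit 245), (nat_lit 249), (nat_lit 0xec44d34000579), (nat_lit 0xe94091e000d51)],
  [(nat_lit 8), (nat_lit 0x1074bd1c000297), (nat_lit 245), (nat_lit 249), (nat_lit 259), (nat_lit 0xf84e91c0003c1), (nat_lit 0x12e40d22000e7f)],
  [(nat_lit 8), (nat_lit 0xeb4a0e9000297), (nat_lit 245), (nat_lit 249), (nat_lit 259), (nat_lit 0x3a5100003c1), (nat_lit 361), (nat_lit 0xef45d30000a0f)],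
  [(nat_lit 8), (nat_lit 0xeb4810f000297), (nat_lit 257), (nat_lit 245), (nat_lit 259), (nat_lit 0xf140d080005c1), (nat_lit 357), (nat_lit 361), (nat_lit 357), (nat_lit 0xe53ed1c000acf)],
  [(nat_lit 8), (nat_lit 0xf1404f2000297), (nat_lit 257), (nat_lit 245), (nat_lit 259), (nat_lit 0xe74f91f0005c1), (nat_lit 357), (nat_lit 361), (nat_lit 0x10249cf9000b47)],
  [(nat_lit 8), (nat_lit 0xe942114000297), (nat_lit 247), (nat_lit 259), (nat_lit 245), (nat_lit 0xe34c8f3000541), (nat_lit 357), (nat_lit 361), (nat_lit 0xef46533000c85)],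
  [(nat_lit 8), (nat_lit 0xed3dcf6000297), (nat_lit 247), (nat_lit 259), (nat_lit 245), (nat_lit 0xfc42517000541), (nat_lit 357), (nat_lit 361), (nat_lit 0x1173a528000bdb)],
  [(nat_lit 8), (nat_lit 0xe74f52b000297), (nat_lit 247), (nat_lit 259), (nat_lit 245), (nat_lit 0xe9420ee000541), (nat_lit 0xf44bd06000b69)],
  [(nat_lit 8), (nat_lit 0xeb49532000297), (nat_lit 257), (nat_lit 247), (nat_lit 259), (nat_lit 0xe54a13c0005f9), (nat_lit 361), (nat_lit 357), (nat_lit 0xf447128000a99)],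
  [(nat_lit 8), (nat_lit 0xec4a914000297), (nat_lit 257), (nat_lit 247), (nat_lit 259), (nat_lit 0x424f30005f9), (nat_lit 357), (nat_lit 361), (nat_lit 0xee4c4fa000a99)],
  [(nat_lit 8), (nat_lit 0xe340920000297), (nat_lit 257), (nat_lit 247), (nat_lit 259), (nat_lit 0xfe3cd300005f9), (nat_lit 357), (nat_lit 361), (nat_lit 357), (nat_lit 0xf94b1320006fd)],
  [(nat_lit 8), (nat_lit 0x1024a139000297), (nat_lit 257), (nat_lit 247), (nat_lit 259), (nat_lit 0xff4d5180005f9), (nat_lit 361), (nat_lit 0xe350119000b5d)],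
  [(nat_lit 8), (nat_lit 0x10f4bd08000297), (nat_lit 245), (nat_lit 257), (nat_lit 249), (nat_lit 0xf34cd3c000491), (nat_lit 357), (nat_lit 0xe345939000be7)],
  [(nat_lit 8), (nat_lit 0xeb4653c000297), (nat_lit 245), (nat_lit 257), (nat_lit 249), (nat_lit 0xf54e53e000491), (nat_lit 0xe54f5350009e9)],
  [(nat_lit 8), (nat_lit 0xee43517000297), (nat_lit 245), (nat_lit 257), (nat_lit 249), (nat_lit 0xe94691a000491), (nat_lit 357), (nat_lit 0x4353f000c71)],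
  [(nat_lit 8), (nat_lit 0x11644d3f000297), (nat_lit 245), (nat_lit 257), (nat_lit 249), (nat_lit 0xe943506000491), (nat_lit 0xe348935000b7b)],
  [(nat_lit 8), (nat_lit 0xf34f903000297), (nat_lit 245), (nat_lit 257), (nat_lit 249), (nat_lit 0xed4a135000491), (nat_lit 361), (nat_lit 357), (nat_lit 0xed4693f000be9)],
  [(nat_lit 8), (nat_lit 0x1074c10f000297), (nat_lit 245), (nat_lit 249), (nat_lit 259), (nat_lit 247), (nat_lit 0xe747128000501), (nat_lit 0xf44c10e000873)],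
  [(nat_lit 8), (nat_lit 0xe33cd40000297), (nat_lit 245), (nat_lit 249), (nat_lit 259), (nat_lit 247), (nat_lit 0xf749508000501), (nat_lit 0xee4413f000af5)],
  [(nat_lit 8), (nat_lit 0xe33fcf2000297), (nat_lit 247), (nat_lit 249), (nat_lit 257), (nat_lit 245), (nat_lit 0xe748d08000161), (nat_lit 245), (nat_lit 249), (nat_lit 0xe948524000475)],
  [(nat_lit 8), (nat_lit 0xed4ed3a000297), (nat_lit 247), (nat_lit 249), (nat_lit 257), (nat_lit 245), (nat_lit 0xf54790e000161), (nat_lit 247), (nat_lit 259), (nat_lit 0xf43f13c000305)],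
  [(nat_lit 8), (nat_lit 0xe34152d000297), (nat_lit 247), (nat_lit 249), (nat_lit 257), (nat_lit 245), (nat_lit 0xf24e922000161), (nat_lit 245), (nat_lit 259), (nat_lit 247), (nat_lit 257), (nat_lit 0xf54c505000569)],
  [(nat_lit 8), (nat_lit 0x46927000297), (nat_lit 247), (nat_lit 249), (nat_lit 257), (nat_lit 245), (nat_lit 0xe93e514000161), (nat_lit 259), (nat_lit 245), (nat_lit 0xe33f1160004d9)],
  [(nat_lit 8), (nat_lit 0xf541932000297), (nat_lit 247), (nat_lit 249), (nat_lit 257), (nat_lit 245), (nat_lit 0xf345d17000161), (nat_lit 245), (nat_lit 0xfa4892f00043d)],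
  [(nat_lit 8), (nat_lit 0x1004691b000297), (nat_lit 247), (nat_lit 249), (nat_lit 257), (nat_lit 245), (nat_lit 0xe945507000161), (nat_lit 0xee4b5200005bd)],
  [(nat_lit 8), (nat_lit 0xf14d50e000297), (nat_lit 257), (nat_lit 247), (nat_lit 0xf246cfe0004c5), (nat_lit 361), (nat_lit 0x3c91d000e2b)],
  [(nat_lit 8), (nat_lit 0x39d3e000297), (nat_lit 257), (nat_lit 247), (nat_lit 0xef401310004c5), (nat_lit 357), (nat_lit 361), (nat_lit 0x101471400009b7)],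
  [(nat_lit 8), (nat_lit 0xe3444f3000297), (nat_lit 257), (nat_lit 247), (nat_lit 0x100489280004c5), (nat_lit 357), (nat_lit 361), (nat_lit 0xfa3d13b000a67)],
  [(nat_lit 8), (nat_lit 0xe74890f000297), (nat_lit 245), (nat_lit 259), (nat_lit 0xed4d10d00038d), (nat_lit 357), (nat_lit 361), (nat_lit 0xe53ad350006eb)],
  [(nat_lit 8), (nat_lit 0xec4f107000297), (nat_lit 245), (nat_lit 259), (nat_lit 0xf7484fe00038d), (nat_lit 0xfa3f91c0008ff)],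
  [(nat_lit 8), (nat_lit 0xfb4d123000297), (nat_lit 245), (nat_lit 259), (nat_lit 0xec4b90800038d), (nat_lit 0xf23f111000c5f)],
  [(nat_lit 8), (nat_lit 0x4f0fb000297), (nat_lit 245), (nat_lit 259), (nat_lit 0x4252000038d), (nat_lit 357), (nat_lit 361), (nat_lit 357), (nat_lit 0xf340d30000715)],
  [(nat_lit 8), (nat_lit 0xf545d19000297), (nat_lit 245), (nat_lit 259), (nat_lit 0xe7458f300038d), (nat_lit 357), (nat_lit 0x50132000711)],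
  [(nat_lit 8), (nat_lit 0x45118000297), (nat_lit 245), (nat_lit 259), (nat_lit 0xfc3f135000585), (nat_lit 361), (nat_lit 0xef3f92a000b27)],
  [(nat_lit 8), (nat_lit 0xe7470fa000297), (nat_lit 245), (nat_lit 259), (nat_lit 0xfa470f3000585), (nat_lit 361), (nat_lit 357), (nat_lit 0xf13f0ef000d3b)],
  [(nat_lit 8), (nat_lit 0x470f7000297), (nat_lit 245), (nat_lit 259), (nat_lit 0xeb41908000585), (nat_lit 357), (nat_lit 361), (nat_lit 0xe9480ec000c29)],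
  [(nat_lit 8), (nat_lit 0x1103c935000297), (nat_lit 259), (nat_lit 247), (nat_lit 0x1014b13c000439), (nat_lit 361), (nat_lit 357), (nat_lit 0xf34ed35000cbd)],
  [(nat_lit 8), (nat_lit 0xe348524000297), (nat_lit 259), (nat_lit 247), (nat_lit 0xe3468f6000439), (nat_lit 361), (nat_lit 357), (nat_lit 0xe545529000665)],
  [(nat_lit 8), (nat_lit 0xe346d34000297), (nat_lit 259), (nat_lit 247), (nat_lit 0xec3e4e9000439), (nat_lit 357), (nat_lit 361), (nat_lit 0xe546cfb000635)],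
  [(nat_lit 8), (nat_lit 0x46138000297), (nat_lit 259), (nat_lit 0xe341d1100043d), (nat_lit 357), (nat_lit 0xf74ad3d000ec1)],
  [(nat_lit 8), (nat_lit 0xef4593c000297), (nat_lit 259), (nat_lit 0xed46d2100043d), (nat_lit 361), (nat_lit 357), (nat_lit 0xeb48d3b000a71)],
  [(nat_lit 8), (nat_lit 0xef4f11f000297), (nat_lit 259), (nat_lit 0xe94bd2900043d), (nat_lit 0xf44e8e9000893)],
  [(nat_lit 7), (nat_lit 0x43d30000297), (nat_lit 245), (nat_lit 249), (nat_lit 257), (nat_lit 0xfe3a53c00043d), (nat_lit 0x4551b0001b7)],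
  [(nat_lit 7), (nat_lit 0x42d2a000297), (nat_lit 257), (nat_lit 0xf84b5080002b1), (nat_lit 357), (nat_lit 361), (nat_lit 0xec4812a000d3d)],
  [(nat_lit 7), (nat_lit 0xf64b4e9000297), (nat_lit 257), (nat_lit 247), (nat_lit 0xf64d908000369), (nat_lit 357), (nat_lit 361), (nat_lit 0xf94d510000e7f)],
  [(nat_lit 7), (nat_lit 0xe74c0eb000297), (nat_lit 245), (nat_lit 257), (nat_lit 0x11140920000315), (nat_lit 361), (nat_lit 357), (nat_lit 0x113408ef000ba3)],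
  [(nat_lit 7), (nat_lit 0xed4e8f3000297), (nat_lit 259), (nat_lit 247), (nat_lit 0xe94b13b000535), (nat_lit 357), (nat_lit 0xe3480e7000e77)],
  [(nat_lit 7), (nat_lit 0xf442139000297), (nat_lit 245), (nat_lit 249), (nat_lit 259), (nat_lit 245), (nat_lit 0xf344d3b0005c9), (nat_lit 357), (nat_lit 361), (nat_lit 357), (nat_lit 0xe547d21000e21)],
  [(nat_lit 7), (nat_lit 0xe749901000297), (nat_lit 247), (nat_lit 259), (nat_lit 247), (nat_lit 0xf149119000541), (nat_lit 361), (nat_lit 357), (nat_lit 0xe54190f0007ad)],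
  [(nat_lit 7), (nat_lit 0xef4153d000297), (nat_lit 245), (nat_lit 259), (nat_lit 247), (nat_lit 257), (nat_lit 0xe34f1020005e9), (nat_lit 0xe9429340006b7)],
  [(nat_lit 7), (nat_lit 0xe74a4e3000297), (nat_lit 247), (nat_lit 249), (nat_lit 257), (nat_lit 0x10f4a4f6000455), (nat_lit 357), (nat_lit 0xeb4a917000e5f)],
  [(nat_lit 7), (nat_lit 0xe546d25000297), (nat_lit 247), (nat_lit 259), (nat_lit 247), (nat_lit 0xeb4f923000125), (nat_lit 247), (nat_lit 257), (nat_lit 249), (nat_lit 0x10b4813200025d)],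
  [(nat_lit 7), (nat_lit 0xf14d932000297), (nat_lit 257), (nat_lit 249), (nat_lit 0xfc45124000541), (nat_lit 357), (nat_lit 361), (nat_lit 0xfc47d26000bdb)],
  [(nat_lit 7), (nat_lit 0xfa45902000297), (nat_lit 249), (nat_lit 257), (nat_lit 245), (nat_lit 259), (nat_lit 0xec479340005b1), (nat_lit 0xee47d2a000a29)],
  [(nat_lit 7), (nat_lit 0xe94493e000297), (nat_lit 257), (nat_lit 247), (nat_lit 259), (nat_lit 0xe344931000329), (nat_lit 357), (nat_lit 361), (nat_lit 0xe34f534000ab1)],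
  [(nat_lit 7), (nat_lit 0xe74a4f7000297), (nat_lit 245), (nat_lit 259), (nat_lit 0xe5421280005f9), (nat_lit 357), (nat_lit 361), (nat_lit 0x11447133000ab1)],
  [(nat_lit 7), (nat_lit 0xef4150f000297), (nat_lit 245), (nat_lit 259), (nat_lit 247), (nat_lit 0x38cf40002e1), (nat_lit 0xee4811d0008fb)],
  [(nat_lit 7), (nat_lit 0xe742126000297), (nat_lit 245), (nat_lit 257), (nat_lit 0xfa4211c000135), (nat_lit 125), (nat_lit 137), (nat_lit 155), (nat_lit 0xf44611e00019d)],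
  [(nat_lit 7), (nat_lit 0xf14b0f6000297), (nat_lit 247), (nat_lit 259), (nat_lit 0x49911000541), (nat_lit 361), (nat_lit 357), (nat_lit 0x491010007ad)],
  [(nat_lit 7), (nat_lit 0x10143d34000297), (nat_lit 247), (nat_lit 259), (nat_lit 0xf54253400011d), (nat_lit 0xee4713c0003a1)],
  [(nat_lit 7), (nat_lit 0xf1498f6000297), (nat_lit 259), (nat_lit 245), (nat_lit 0xff3e4e9000535), (nat_lit 357), (nat_lit 0xe94a10f000e77)],
  [(nat_lit 7), (nat_lit 0x40d0e000297), (nat_lit 245), (nat_lit 249), (nat_lit 259), (nat_lit 245), (nat_lit 0xe74ed0800015b), (nat_lit 125), (nat_lit 167), (nat_lit 141), (nat_lit 0xe93f51c00019d)],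
  [(nat_lit 7), (nat_lit 0xf43ad15000297), (nat_lit 245), (nat_lit 249), (nat_lit 0xeb469230005b1), (nat_lit 0xfc48513000a29)],
  [(nat_lit 7), (nat_lit 0xeb4990f000297), (nat_lit 257), (nat_lit 245), (nat_lit 259), (nat_lit 0xfd3cd21000251), (nat_lit 357), (nat_lit 361), (nat_lit 357), (nat_lit 0x41913000ec7)],
  [(nat_lit 7), (nat_lit 0xee4f12b000297), (nat_lit 247), (nat_lit 257), (nat_lit 0xec4d90100057d), (nat_lit 357), (nat_lit 361), (nat_lit 0xf246932000c33)]]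
noncomputable def R9 : List (List ℕ) :=
  [[(nat_lit 7), (nat_lit 0xed40d22000297), (nat_lit 247), (nat_lit 259), (nat_lit 245), (nat_lit 0xef4c9240002c9), (nat_lit 0xe74653b000979)],
  [(nat_lit 7), (nat_lit 0x45d0e000297), (nat_lit 247), (nat_lit 257), (nat_lit 0xe948d330002a9), (nat_lit 361), (nat_lit 357), (nat_lit 0xe741d33000b65)],
  [(nat_lit 7), (nat_lit 0x1323c513000297), (nat_lit 257), (nat_lit 249), (nat_lit 0xe7491240003a1), (nat_lit 361), (nat_lit 0xf43bd2000071b)],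
  [(nat_lit 7), (nat_lit 0xfe4b929000297), (nat_lit 245), (nat_lit 259), (nat_lit 0xee4291c000521), (nat_lit 357), (nat_lit 361), (nat_lit 0x440ec000f7b)],
  [(nat_lit 7), (nat_lit 0x3cd26000297), (nat_lit 259), (nat_lit 245), (nat_lit 0x4f8e900055d), (nat_lit 357), (nat_lit 361), (nat_lit 357), (nat_lit 0xfa4093d00098f)],
  [(nat_lit 7), (nat_lit 0xf546d1b000297), (nat_lit 245), (nat_lit 249), (nat_lit 257), (nat_lit 0x4c93c000519), (nat_lit 357), (nat_lit 0xe946536000ba7)],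
  [(nat_lit 7), (nat_lit 0x49d30000297), (nat_lit 245), (nat_lit 257), (nat_lit 245), (nat_lit 0x4314000038d), (nat_lit 361), (nat_lit 357), (nat_lit 0x3c52b000e0f)],
  [(nat_lit 7), (nat_lit 0xf14a940000297), (nat_lit 245), (nat_lit 259), (nat_lit 247), (nat_lit 0xf33fcee0003a1), (nat_lit 357), (nat_lit 0x10d40cf900064f)],
  [(nat_lit 3), (nat_lit 0xec4713e000297), (nat_lit 257), (nat_lit 245), (nat_lit 259), (nat_lit 0x4e0ee0005d1)],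
  [(nat_lit 6), (nat_lit 0xe94511a000297), (nat_lit 257), (nat_lit 245), (nat_lit 259), (nat_lit 0x424e9000163), (nat_lit 247), (nat_lit 0xf33cd270002d1)],
  [(nat_lit 6), (nat_lit 0xe54912f000297), (nat_lit 245), (nat_lit 249), (nat_lit 259), (nat_lit 245), (nat_lit 0xe33e931000569), (nat_lit 361), (nat_lit 357), (nat_lit 0xeb490f3000a8f)],
  [(nat_lit 6), (nat_lit 0xef42122000297), (nat_lit 245), (nat_lit 249), (nat_lit 257), (nat_lit 0xef45935000551), (nat_lit 357), (nat_lit 0xee4a523000b1d)],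
  [(nat_lit 6), (nat_lit 0xee4ed07000297), (nat_lit 249), (nat_lit 259), (nat_lit 247), (nat_lit 257), (nat_lit 0xfa43d3b0004dd), (nat_lit 357), (nat_lit 361), (nat_lit 0x10c3d92c000ad3)],
  [(nat_lit 6), (nat_lit 0xe94f12b000297), (nat_lit 247), (nat_lit 257), (nat_lit 249), (nat_lit 0xf64891800058d), (nat_lit 357), (nat_lit 0xf349910000c7b)],
  [(nat_lit 6), (nat_lit 0xfe4d50e000297), (nat_lit 249), (nat_lit 257), (nat_lit 0xe74c515000531), (nat_lit 0x10a43932000ad1)],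
  [(nat_lit 6), (nat_lit 0xe33bd24000297), (nat_lit 249), (nat_lit 259), (nat_lit 247), (nat_lit 257), (nat_lit 0xef3ccfb000259), (nat_lit 0xf44c11d00071f)],
  [(nat_lit 6), (nat_lit 0x1294c505000297), (nat_lit 245), (nat_lit 259), (nat_lit 0xe53d10c0003d9), (nat_lit 357), (nat_lit 361), (nat_lit 0x110414ee000c79)],
  [(nat_lit 6), (nat_lit 0x4fd24000297), (nat_lit 245), (nat_lit 257), (nat_lit 249), (nat_lit 0xf44ed29000399), (nat_lit 357), (nat_lit 361), (nat_lit 0xf84b93d00071d)],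
  [(nat_lit 7), (nat_lit 0x3f50e000287), (nat_lit 247), (nat_lit 259), (nat_lit 0xe94a516000351), (nat_lit 357), (nat_lit 0x1074f92c000b55)],
  [(nat_lit 7), (nat_lit 0xf1400f5000287), (nat_lit 257), (nat_lit 245), (nat_lit 259), (nat_lit 0xed4c93a0003b5), (nat_lit 357), (nat_lit 361), (nat_lit 0xf447cf50009d3)],
  [(nat_lit 7), (nat_lit 0x40d14000287), (nat_lit 245), (nat_lit 249), (nat_lit 259), (nat_lit 245), (nat_lit 0xf84c4eb000495), (nat_lit 361), (nat_lit 0xe341d3d000efb)],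
  [(nat_lit 7), (nat_lit 0xeb3b503000287), (nat_lit 257), (nat_lit 0xf24c0fe00036d), (nat_lit 357), (nat_lit 0xe33d8f4000929)],
  [(nat_lit 7), (nat_lit 0x3c500000287), (nat_lit 257), (nat_lit 249), (nat_lit 257), (nat_lit 0xf84653b000365), (nat_lit 357), (nat_lit 0xe74293e000a91)],
  [(nat_lit 7), (nat_lit 0xe749d3d000287), (nat_lit 247), (nat_lit 259), (nat_lit 247), (nat_lit 0xe545cf70005cd), (nat_lit 357), (nat_lit 0xee4a501000d27)],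
  [(nat_lit 7), (nat_lit 0x3b4f7000287), (nat_lit 245), (nat_lit 249), (nat_lit 259), (nat_lit 0xf14a4fc000471), (nat_lit 361), (nat_lit 0xf64612c000731)],
  [(nat_lit 7), (nat_lit 0x3c501000287), (nat_lit 245), (nat_lit 249), (nat_lit 259), (nat_lit 0xe54152a00046d), (nat_lit 357), (nat_lit 361), (nat_lit 357), (nat_lit 0x4dcf40009d1)],
  [(nat_lit 7), (nat_lit 0xe349d18000287), (nat_lit 247), (nat_lit 257), (nat_lit 249), (nat_lit 259), (nat_lit 0xfc42126000385), (nat_lit 361), (nat_lit 357), (nat_lit 0xec4212f00080f)],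
  [(nat_lit 7), (nat_lit 0x3b8fb000287), (nat_lit 257), (nat_lit 245), (nat_lit 259), (nat_lit 0xf7488ee000571), (nat_lit 357), (nat_lit 361), (nat_lit 357), (nat_lit 0xed4b4eb00080d)],
  [(nat_lit 7), (nat_lit 0x4f514000287), (nat_lit 247), (nat_lit 257), (nat_lit 249), (nat_lit 259), (nat_lit 0xe74212f0002ad), (nat_lit 361), (nat_lit 0xed48d1c000c1b)],
  [(nat_lit 7), (nat_lit 0x3ad14000287), (nat_lit 245), (nat_lit 257), (nat_lit 0xe741d330002a9), (nat_lit 0xe54a4f4000689)],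
  [(nat_lit 7), (nat_lit 0xe33d123000287), (nat_lit 259), (nat_lit 245), (nat_lit 257), (nat_lit 0xe94a137000361), (nat_lit 361), (nat_lit 0xf748539000d0b)],
  [(nat_lit 7), (nat_lit 0x3a50d000287), (nat_lit 247), (nat_lit 259), (nat_lit 0x1014d4fb00053d), (nat_lit 357), (nat_lit 361), (nat_lit 357), (nat_lit 0xe740918000a87)],
  [(nat_lit 7), (nat_lit 0xe93b8fc000287), (nat_lit 257), (nat_lit 249), (nat_lit 259), (nat_lit 0xec4d8f4000549), (nat_lit 361), (nat_lit 357), (nat_lit 0xee48131000c71)],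
  [(nat_lit 7), (nat_lit 0x4a940000287), (nat_lit 247), (nat_lit 257), (nat_lit 0x3ad050002f9), (nat_lit 357), (nat_lit 0x418fb000691)],
  [(nat_lit 8), (nat_lit 0x4f53d000283), (nat_lit 249), (nat_lit 259), (nat_lit 247), (nat_lit 0xed461350003cd), (nat_lit 0xfa3f12c000879)],
  [(nat_lit 8), (nat_lit 0xe3394ef000283), (nat_lit 245), (nat_lit 257), (nat_lit 0xe33f1280003f9), (nat_lit 361), (nat_lit 0xe74193b000a63)],
  [(nat_lit 8), (nat_lit 0xf44d0f4000283), (nat_lit 245), (nat_lit 257), (nat_lit 0xe3489350003f9), (nat_lit 357), (nat_lit 0xf246d08000dff)],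
  [(nat_lit 8), (nat_lit 0xec48114000283), (nat_lit 245), (nat_lit 257), (nat_lit 0xf94b53d0003f9), (nat_lit 357), (nat_lit 361), (nat_lit 0xef45d3b000d6f)],
  [(nat_lit 8), (nat_lit 0xe54d509000283), (nat_lit 249), (nat_lit 259), (nat_lit 247), (nat_lit 0xf7440f90002a9), (nat_lit 357), (nat_lit 361), (nat_lit 0xeb4fd1a000bad)],
  [(nat_lit 8), (nat_lit 0xe3438f4000283), (nat_lit 249), (nat_lit 259), (nat_lit 247), (nat_lit 0xfa4bd220002a9), (nat_lit 361), (nat_lit 0xf33f110000b65)],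
  [(nat_lit 8), (nat_lit 0xe34250c000283), (nat_lit 245), (nat_lit 257), (nat_lit 0xe34e902000325), (nat_lit 361), (nat_lit 357), (nat_lit 0xec3e908000905)],
  [(nat_lit 7), (nat_lit 0x3a503000283), (nat_lit 247), (nat_lit 257), (nat_lit 249), (nat_lit 259), (nat_lit 0x43d2a00029d), (nat_lit 357), (nat_lit 361), (nat_lit 0xf54a13b000cdd)],
  [(nat_lit 7), (nat_lit 0x39cf7000283), (nat_lit 257), (nat_lit 249), (nat_lit 0x10142d200004b5), (nat_lit 361), (nat_lit 0xe34f127000cd5)],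
  [(nat_lit 7), (nat_lit 0x3bd03000283), (nat_lit 245), (nat_lit 0xff4f11c0002f9), (nat_lit 357), (nat_lit 0xeb40d2e000691)],
  [(nat_lit 7), (nat_lit 0x394f8000283), (nat_lit 245), (nat_lit 257), (nat_lit 247), (nat_lit 259), (nat_lit 0xed4012900028d), (nat_lit 0xec4a8ec000b57)],
  [(nat_lit 7), (nat_lit 0x40111000283), (nat_lit 249), (nat_lit 257), (nat_lit 245), (nat_lit 259), (nat_lit 0xf6421130004a9), (nat_lit 357), (nat_lit 361), (nat_lit 0xe33d93f000ff1)],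
  [(nat_lit 7), (nat_lit 0x3a4f4000283), (nat_lit 245), (nat_lit 259), (nat_lit 0x129000571), (nat_lit 361), (nat_lit 357), (nat_lit 0xfa4d131000731)],
  [(nat_lit 7), (nat_lit 0x38d0a000283), (nat_lit 249), (nat_lit 259), (nat_lit 245), (nat_lit 0xe742d1c000369), (nat_lit 0xe9468e9000e11)],
  [(nat_lit 7), (nat_lit 0x39cfb000283), (nat_lit 245), (nat_lit 0xe3430f60002a9), (nat_lit 0x10e4c91d000689)],
  [(nat_lit 7), (nat_lit 0x444fd000283), (nat_lit 259), (nat_lit 249), (nat_lit 0xef40d3c0005e9), (nat_lit 357), (nat_lit 361), (nat_lit 0xe93e508000a7d)],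
  [(nat_lit 7), (nat_lit 0xe53e525000283), (nat_lit 257), (nat_lit 249), (nat_lit 257), (nat_lit 0x10e3f13900031d), (nat_lit 361), (nat_lit 0xe33d105000a0f)],
  [(nat_lit 4), (nat_lit 0xfb3b13600056b), (nat_lit 247), (nat_lit 257), (nat_lit 245), (nat_lit 0x494fb000575), (nat_lit 357), (nat_lit 361), (nat_lit 357), (nat_lit 0xf54cd2c000d7b)],
  [(nat_lit 4), (nat_lit 0x3b53f00056b), (nat_lit 245), (nat_lit 259), (nat_lit 247), (nat_lit 0xe34cd3d000319), (nat_lit 361), (nat_lit 357), (nat_lit 0xeb48113001025)],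
  [(nat_lit 4), (nat_lit 0xe94f12700056b), (nat_lit 245), (nat_lit 249), (nat_lit 259), (nat_lit 245), (nat_lit 0xe543d1900026d), (nat_lit 0xe947511000a95)],
  [(nat_lit 4), (nat_lit 0xee4612900056b), (nat_lit 259), (nat_lit 245), (nat_lit 249), (nat_lit 0xf23f10b0002b9), (nat_lit 0xee45d2f000fcd)],
  [(nat_lit 4), (nat_lit 0xe94a50c00056b), (nat_lit 245), (nat_lit 257), (nat_lit 247), (nat_lit 259), (nat_lit 0xf339d08000163), (nat_lit 247), (nat_lit 257), (nat_lit 245), (nat_lit 0xee43536000449)],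
  [(nat_lit 9), (nat_lit 0xee4612900056b), (nat_lit 259), (nat_lit 245), (nat_lit 249), (nat_lit 0xf23f10b0002b9), (nat_lit 357), (nat_lit 0xe34fd33000fad)],
  [(nat_lit 5), (nat_lit 0xf84252200056b), (nat_lit 247), (nat_lit 259), (nat_lit 247), (nat_lit 0xe5484ec000491), (nat_lit 361), (nat_lit 0xe948cfc000b73)],
  [(nat_lit 5), (nat_lit 0xeb4d8f100056b), (nat_lit 247), (nat_lit 257), (nat_lit 245), (nat_lit 0xe94a534000575), (nat_lit 357), (nat_lit 0xe74ed23000979)],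
  [(nat_lit 8), (nat_lit 0xe74051000056b), (nat_lit 259), (nat_lit 245), (nat_lit 0xe54413c000415), (nat_lit 357), (nat_lit 361), (nat_lit 0x11c41d38000db9)],
  [(nat_lit 8), (nat_lit 0xf44d0f400056b), (nat_lit 259), (nat_lit 245), (nat_lit 0xf14b536000415), (nat_lit 357), (nat_lit 0x4552900064b)],
  [(nat_lit 8), (nat_lit 0xe94a92600056b), (nat_lit 259), (nat_lit 245), (nat_lit 0xfc418fb000415), (nat_lit 361), (nat_lit 0xf14e8f5000973)],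
  [(nat_lit 8), (nat_lit 0x424ec00056b), (nat_lit 259), (nat_lit 245), (nat_lit 0xf34fd24000415), (nat_lit 357), (nat_lit 0xeb4f938000a8f)],
  [(nat_lit 8), (nat_lit 0xee448f900056b), (nat_lit 247), (nat_lit 257), (nat_lit 245), (nat_lit 0xf95011e000575), (nat_lit 0xeb3f924000daf)],
  [(nat_lit 8), (nat_lit 0xe34b91100056b), (nat_lit 247), (nat_lit 257), (nat_lit 245), (nat_lit 0xe74850f000575), (nat_lit 357), (nat_lit 361), (nat_lit 0xec4c10f001077)],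
  [(nat_lit 8), (nat_lit 0x3acfe00056b), (nat_lit 247), (nat_lit 257), (nat_lit 245), (nat_lit 0xf94c511000575), (nat_lit 357), (nat_lit 361), (nat_lit 0x1083d124000645)],
  [(nat_lit 8), (nat_lit 0xec4153c00056b), (nat_lit 247), (nat_lit 257), (nat_lit 245), (nat_lit 0x480f1000575), (nat_lit 357), (nat_lit 0xe54312a000f19)],
  [(nat_lit 8), (nat_lit 0xe54051100056b), (nat_lit 259), (nat_lit 245), (nat_lit 0xf14e93d00029d), (nat_lit 361), (nat_lit 0xec41cfe000853)],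
  [(nat_lit 8), (nat_lit 0xed4dcf500056b), (nat_lit 259), (nat_lit 245), (nat_lit 0x11e4c52b00029d), (nat_lit 357), (nat_lit 361), (nat_lit 0xf73e903000cdd)],
  [(nat_lit 8), (nat_lit 0x3b53f00056b), (nat_lit 245), (nat_lit 259), (nat_lit 247), (nat_lit 0xf14053d000319), (nat_lit 357), (nat_lit 361), (nat_lit 0x4391a000749)],
  [(nat_lit 8), (nat_lit 0xe73bd2100056b), (nat_lit 245), (nat_lit 259), (nat_lit 247), (nat_lit 0x3c91c000319), (nat_lit 361), (nat_lit 0x47d2400077d)],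
  [(nat_lit 8), (nat_lit 0xef4bcef00056b), (nat_lit 245), (nat_lit 259), (nat_lit 247), (nat_lit 0xf54a909000319), (nat_lit 0xee43d350007cb)],
  [(nat_lit 8), (nat_lit 0xed3e92e00056b), (nat_lit 245), (nat_lit 259), (nat_lit 247), (nat_lit 0x1004a8ed000319), (nat_lit 361), (nat_lit 357), (nat_lit 0xee3ed28000c77)],
  [(nat_lit 8), (nat_lit 0xf94a51200056b), (nat_lit 247), (nat_lit 259), (nat_lit 247), (nat_lit 0xed4b910000491), (nat_lit 0xfc40918000b7b)],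
  [(nat_lit 8), (nat_lit 0xef4f92500056b), (nat_lit 247), (nat_lit 259), (nat_lit 247), (nat_lit 0xe94cd0c000491), (nat_lit 357), (nat_lit 0x4191f000c71)],
  [(nat_lit 8), (nat_lit 0x10d4ed2900056b), (nat_lit 247), (nat_lit 259), (nat_lit 247), (nat_lit 0xf14a915000491), (nat_lit 361), (nat_lit 357), (nat_lit 0xec470f1000be9)],
  [(nat_lit 8), (nat_lit 0xe94a11d00056b), (nat_lit 247), (nat_lit 259), (nat_lit 247), (nat_lit 0xe54a540000491), (nat_lit 0x3e51d0009e9)],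
  [(nat_lit 8), (nat_lit 0xe34d12f00056b), (nat_lit 245), (nat_lit 259), (nat_lit 245), (nat_lit 0x43107000331), (nat_lit 361), (nat_lit 357), (nat_lit 0xe94e10f000a19)],
  [(nat_lit 8), (nat_lit 0xeb4012600056b), (nat_lit 245), (nat_lit 259), (nat_lit 245), (nat_lit 0xec4650d000331), (nat_lit 357), (nat_lit 361), (nat_lit 0xf93f12f000bef)],
  [(nat_lit 8), (nat_lit 0xe747d0900056b), (nat_lit 245), (nat_lit 259), (nat_lit 245), (nat_lit 0xe54fd33000331), (nat_lit 357), (nat_lit 361), (nat_lit 0xe543124000c37)],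
  [(nat_lit 8), (nat_lit 0xed4091b00056b), (nat_lit 259), (nat_lit 245), (nat_lit 0xfd501230003bd), (nat_lit 361), (nat_lit 0xf85013e000a77)],
  [(nat_lit 8), (nat_lit 0xed4092d00056b), (nat_lit 259), (nat_lit 245), (nat_lit 0x102459210003bd), (nat_lit 0xf33e503000753)],
  [(nat_lit 8), (nat_lit 0xfb4d4f800056b), (nat_lit 259), (nat_lit 245), (nat_lit 0x45cfe0003bd), (nat_lit 361), (nat_lit 357), (nat_lit 0xfd5011000107f)],
  [(nat_lit 8), (nat_lit 0xee41d1d00056b), (nat_lit 259), (nat_lit 245), (nat_lit 0xee4912c0003bd), (nat_lit 357), (nat_lit 0xeb4d1100009c9)],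
  [(nat_lit 8), (nat_lit 0xe94f12700056b), (nat_lit 245), (nat_lit 249), (nat_lit 259), (nat_lit 245), (nat_lit 0xf24711e00026d), (nat_lit 0xf13bd3b000935)],
  [(nat_lit 8), (nat_lit 0xfb464ee00056b), (nat_lit 245), (nat_lit 249), (nat_lit 259), (nat_lit 245), (nat_lit 0xed440fa00026d), (nat_lit 361), (nat_lit 0xee3d93c000173)],
  [(nat_lit 8), (nat_lit 0xe94592800056b), (nat_lit 245), (nat_lit 249), (nat_lit 259), (nat_lit 245), (nat_lit 0xe53b53000026d), (nat_lit 0x4991b000931)],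
  [(nat_lit 8), (nat_lit 0xee4052100056b), (nat_lit 245), (nat_lit 249), (nat_lit 259), (nat_lit 245), (nat_lit 0x4211c00026d), (nat_lit 0xe34512f000955)],
  [(nat_lit 8), (nat_lit 0xf44c93000056b), (nat_lit 245), (nat_lit 249), (nat_lit 259), (nat_lit 245), (nat_lit 0xf246d4000026d), (nat_lit 0xeb3d52200016f)],
  [(nat_lit 8), (nat_lit 0xe945d2c00056b), (nat_lit 245), (nat_lit 249), (nat_lit 259), (nat_lit 245), (nat_lit 0x4ad0900026d), (nat_lit 0xe546d2e000939)],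
  [(nat_lit 8), (nat_lit 0xec4a90700056b), (nat_lit 245), (nat_lit 259), (nat_lit 247), (nat_lit 257), (nat_lit 0x43926000429), (nat_lit 357), (nat_lit 361), (nat_lit 0xef50120000d4d)],
  [(nat_lit 8), (nat_lit 0x38d3f00056b), (nat_lit 245), (nat_lit 259), (nat_lit 247), (nat_lit 257), (nat_lit 0xeb47101000429), (nat_lit 361), (nat_lit 357), (nat_lit 0x4fd19000739)],
  [(nat_lit 8), (nat_lit 0xfb4190f00056b), (nat_lit 245), (nat_lit 259), (nat_lit 247), (nat_lit 257), (nat_lit 0x10145d02000429), (nat_lit 361), (nat_lit 357), (nat_lit 0x4512d00100d)],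
  [(nat_lit 8), (nat_lit 0xfd4d51b00056b), (nat_lit 245), (nat_lit 259), (nat_lit 247), (nat_lit 0xe7409350003ed), (nat_lit 0xe545921000939)],
  [(nat_lit 8), (nat_lit 0xe54b93e00056b), (nat_lit 245), (nat_lit 259), (nat_lit 247), (nat_lit 0xe33d1350003ed), (nat_lit 0xeb49d21000c7d)],
  [(nat_lit 8), (nat_lit 0xef4350200056b), (nat_lit 245), (nat_lit 259), (nat_lit 0xeb3e90700049d), (nat_lit 0xe34791c00080f)],
  [(nat_lit 8), (nat_lit 0xe93bcf900056b), (nat_lit 245), (nat_lit 259), (nat_lit 0x4711e00049d), (nat_lit 357), (nat_lit 361), (nat_lit 357), (nat_lit 0xe948d300008d5)],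
  [(nat_lit 8), (nat_lit 0xed418f400056b), (nat_lit 245), (nat_lit 259), (nat_lit 0xe74611800049d), (nat_lit 357), (nat_lit 361), (nat_lit 357), (nat_lit 0xfc3e92a000865)],
  [(nat_lit 8), (nat_lit 0xef4292900056b), (nat_lit 245), (nat_lit 259), (nat_lit 0xf7450fb00049d), (nat_lit 357), (nat_lit 361), (nat_lit 357), (nat_lit 0xee41d1a000cd1)],
  [(nat_lit 8), (nat_lit 0xed4a91f00056b), (nat_lit 245), (nat_lit 259), (nat_lit 0xf34152900049d), (nat_lit 357), (nat_lit 0xef500e900085d)],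
  [(nat_lit 8), (nat_lit 0x4ed3000056b), (nat_lit 247), (nat_lit 259), (nat_lit 247), (nat_lit 0xe94f54000024d), (nat_lit 361), (nat_lit 357), (nat_lit 0xec4790f000fab)],
  [(nat_lit 8), (nat_lit 0x4213f00056b), (nat_lit 245), (nat_lit 249), (nat_lit 0xf444d15000449), (nat_lit 0xed4792e00106f)],
  [(nat_lit 8), (nat_lit 0xec4c91a00056b), (nat_lit 259), (nat_lit 245), (nat_lit 249), (nat_lit 0xe54490e0002b9), (nat_lit 357), (nat_lit 0xf44c516000945)],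
  [(nat_lit 8), (nat_lit 0xe54c10e00056b), (nat_lit 259), (nat_lit 0x114464ff0002c5), (nat_lit 357), (nat_lit 361), (nat_lit 0xe53ed11000ce7)],
  [(nat_lit 8), (nat_lit 0xe54a12100056b), (nat_lit 259), (nat_lit 0x100405070002c5), (nat_lit 361), (nat_lit 357), (nat_lit 0xeb4e13d000a55)],
  [(nat_lit 8), (nat_lit 0xee4b91800056b), (nat_lit 259), (nat_lit 0xf44a92f0002c5), (nat_lit 0x3bd09000747)],
  [(nat_lit 8), (nat_lit 0xe54d0ee00056b), (nat_lit 247), (nat_lit 257), (nat_lit 247), (nat_lit 0xf64e5280004e9), (nat_lit 0xe944d2c00101b)],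
  [(nat_lit 8), (nat_lit 0xec4152f00056b), (nat_lit 247), (nat_lit 257), (nat_lit 247), (nat_lit 0xe3401310004e9), (nat_lit 357), (nat_lit 0xe54a53b000e19)],
  [(nat_lit 8), (nat_lit 0x44d2d00056b), (nat_lit 247), (nat_lit 257), (nat_lit 247), (nat_lit 0xe34d9230004e9), (nat_lit 0x10e4fd03000a7d)]]
noncomputable def R10 : List (List ℕ) :=
  [[(nat_lit 8), (nat_lit 0x414f700056b), (nat_lit 247), (nat_lit 257), (nat_lit 247), (nat_lit 0xe5475170004e9), (nat_lit 0x46136000a85)],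
  [(nat_lit 8), (nat_lit 0xee5011d00056b), (nat_lit 247), (nat_lit 257), (nat_lit 247), (nat_lit 0x4f9380004e9), (nat_lit 361), (nat_lit 357), (nat_lit 0xf64451800113b)],
  [(nat_lit 8), (nat_lit 0x10a4813c00056b), (nat_lit 247), (nat_lit 257), (nat_lit 247), (nat_lit 0xe34ed060004e9), (nat_lit 357), (nat_lit 0x4f901000e69)],
  [(nat_lit 8), (nat_lit 0xe94a50c00056b), (nat_lit 245), (nat_lit 257), (nat_lit 247), (nat_lit 259), (nat_lit 0xe340912000163), (nat_lit 259), (nat_lit 245), (nat_lit 249), (nat_lit 257), (nat_lit 0xe33d93b0003c9)],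
  [(nat_lit 8), (nat_lit 0xe74cd3500056b), (nat_lit 245), (nat_lit 257), (nat_lit 247), (nat_lit 259), (nat_lit 0x418f5000163), (nat_lit 247), (nat_lit 259), (nat_lit 0xeb3d92100057d)],
  [(nat_lit 8), (nat_lit 0x41d1800056b), (nat_lit 245), (nat_lit 257), (nat_lit 247), (nat_lit 259), (nat_lit 0xe93d134000163), (nat_lit 247), (nat_lit 249), (nat_lit 0xff4d8f70002b9)],
  [(nat_lit 8), (nat_lit 0xf2404f300056b), (nat_lit 245), (nat_lit 257), (nat_lit 247), (nat_lit 259), (nat_lit 0xeb50135000163), (nat_lit 245), (nat_lit 259), (nat_lit 247), (nat_lit 257), (nat_lit 0xe34a525000585)],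
  [(nat_lit 8), (nat_lit 0xf445cf700056b), (nat_lit 245), (nat_lit 257), (nat_lit 247), (nat_lit 259), (nat_lit 0xfc3b527000163), (nat_lit 249), (nat_lit 257), (nat_lit 245), (nat_lit 0xe34f924000585)],
  [(nat_lit 8), (nat_lit 0x4e12900056b), (nat_lit 245), (nat_lit 257), (nat_lit 247), (nat_lit 259), (nat_lit 0xf44e13f000163), (nat_lit 257), (nat_lit 247), (nat_lit 259), (nat_lit 0xfb495130003d1)],
  [(nat_lit 8), (nat_lit 0xe54f53a00056b), (nat_lit 245), (nat_lit 257), (nat_lit 247), (nat_lit 259), (nat_lit 0xe74a924000163), (nat_lit 257), (nat_lit 247), (nat_lit 0xee4c100000531)],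
  [(nat_lit 8), (nat_lit 0xe94211400056b), (nat_lit 245), (nat_lit 249), (nat_lit 0xe539d2b00044d), (nat_lit 0xf13ed2f000c41)],
  [(nat_lit 8), (nat_lit 0xef4753d00056b), (nat_lit 245), (nat_lit 249), (nat_lit 0xe34691100044d), (nat_lit 361), (nat_lit 357), (nat_lit 0xfc458eb000d1d)],
  [(nat_lit 8), (nat_lit 0xeb4051800056b), (nat_lit 245), (nat_lit 249), (nat_lit 0xe53a51600044d), (nat_lit 357), (nat_lit 361), (nat_lit 357), (nat_lit 0xe748d33000d07)],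
  [(nat_lit 8), (nat_lit 0xe74593500056b), (nat_lit 257), (nat_lit 0xee40d35000375), (nat_lit 361), (nat_lit 357), (nat_lit 0xe74692f000dcd)],
  [(nat_lit 7), (nat_lit 0xe74fd0600056b), (nat_lit 245), (nat_lit 259), (nat_lit 0xee4dd080002a1), (nat_lit 357), (nat_lit 361), (nat_lit 0xed3ed12000fed)],
  [(nat_lit 7), (nat_lit 0xec4712700056b), (nat_lit 247), (nat_lit 257), (nat_lit 245), (nat_lit 0xeb4cd0b00044d), (nat_lit 357), (nat_lit 361), (nat_lit 357), (nat_lit 0x4010f000d17)],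
  [(nat_lit 7), (nat_lit 0xe94f11500056b), (nat_lit 245), (nat_lit 249), (nat_lit 259), (nat_lit 0xec4d934000451), (nat_lit 0x10a4a918000bbf)],
  [(nat_lit 7), (nat_lit 0xe93f51300056b), (nat_lit 257), (nat_lit 249), (nat_lit 0xfd4a51c000369), (nat_lit 357), (nat_lit 361), (nat_lit 0xef4d8f100109f)],
  [(nat_lit 7), (nat_lit 0xed4653200056b), (nat_lit 257), (nat_lit 0xe54151a000265), (nat_lit 361), (nat_lit 357), (nat_lit 0x444ff0007ab)],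
  [(nat_lit 7), (nat_lit 0xfd3a50700056b), (nat_lit 249), (nat_lit 259), (nat_lit 245), (nat_lit 0xe545119000585), (nat_lit 357), (nat_lit 361), (nat_lit 0x1074652b000b0d)],
  [(nat_lit 7), (nat_lit 0xef4650600056b), (nat_lit 247), (nat_lit 259), (nat_lit 245), (nat_lit 0x4851a000489), (nat_lit 357), (nat_lit 361), (nat_lit 357), (nat_lit 0xe53ed1800117f)],
  [(nat_lit 7), (nat_lit 0xf64c91c00056b), (nat_lit 247), (nat_lit 249), (nat_lit 257), (nat_lit 0xef4254000031d), (nat_lit 357), (nat_lit 361), (nat_lit 357), (nat_lit 0xe9454f9001111)],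
  [(nat_lit 7), (nat_lit 0x40d2900056b), (nat_lit 0xe945517000133), (nat_lit 247), (nat_lit 249), (nat_lit 0xfd4e51b0002bd)],
  [(nat_lit 7), (nat_lit 0xe54a91100056b), (nat_lit 249), (nat_lit 257), (nat_lit 0xe74693e0005a5), (nat_lit 357), (nat_lit 0xf74bd3c000ed3)],
  [(nat_lit 7), (nat_lit 0xf54152c00056b), (nat_lit 257), (nat_lit 245), (nat_lit 0xf14cd14000489), (nat_lit 361), (nat_lit 357), (nat_lit 0xf450120001163)],
  [(nat_lit 7), (nat_lit 0xec3e93000056b), (nat_lit 257), (nat_lit 247), (nat_lit 259), (nat_lit 0xe544929000325), (nat_lit 357), (nat_lit 0xe34f933000f6b)],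
  [(nat_lit 7), (nat_lit 0x1013ccf500056b), (nat_lit 245), (nat_lit 257), (nat_lit 0xeb41cef000163), (nat_lit 245), (nat_lit 257), (nat_lit 247), (nat_lit 259), (nat_lit 0x1053ccf8000521)],
  [(nat_lit 7), (nat_lit 0x4211800056b), (nat_lit 257), (nat_lit 249), (nat_lit 259), (nat_lit 0x1034351d000389), (nat_lit 361), (nat_lit 357), (nat_lit 0x1184f52e000ca7)],
  [(nat_lit 7), (nat_lit 0xf45011c00056b), (nat_lit 247), (nat_lit 257), (nat_lit 249), (nat_lit 0xef445360003d9), (nat_lit 357), (nat_lit 0xe747cfb00113f)],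
  [(nat_lit 7), (nat_lit 0x464f200056b), (nat_lit 259), (nat_lit 0x1014d1170004c5), (nat_lit 357), (nat_lit 361), (nat_lit 0xf44412f001177)],
  [(nat_lit 7), (nat_lit 0xf2484ef00056b), (nat_lit 259), (nat_lit 245), (nat_lit 257), (nat_lit 0x10247110000411), (nat_lit 357), (nat_lit 0xf340121000bff)],
  [(nat_lit 7), (nat_lit 0xe73d10800056b), (nat_lit 245), (nat_lit 259), (nat_lit 247), (nat_lit 0xe9474fb000381), (nat_lit 0xeb464f600104d)],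
  [(nat_lit 6), (nat_lit 0xeb464e700056b), (nat_lit 259), (nat_lit 245), (nat_lit 257), (nat_lit 0x10f4d131000545), (nat_lit 361), (nat_lit 0xe94a8ed0011ad)],
  [(nat_lit 6), (nat_lit 0xf43f92000056b), (nat_lit 245), (nat_lit 257), (nat_lit 247), (nat_lit 259), (nat_lit 0xef4a5070005d5), (nat_lit 361), (nat_lit 357), (nat_lit 0xfa4ad3e000d9d)],
  [(nat_lit 6), (nat_lit 0xe9420ef00056b), (nat_lit 247), (nat_lit 257), (nat_lit 245), (nat_lit 0x48532000495), (nat_lit 357), (nat_lit 361), (nat_lit 357), (nat_lit 0xeb42132000afd)],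
  [(nat_lit 8), (nat_lit 0x3dd31000463), (nat_lit 245), (nat_lit 0xe3430f60002ad), (nat_lit 357), (nat_lit 0xfc4c122000c33)],
  [(nat_lit 8), (nat_lit 0xf84a937000463), (nat_lit 247), (nat_lit 257), (nat_lit 0xec4211300011f), (nat_lit 249), (nat_lit 259), (nat_lit 0xfa4412e0002c1)],
  [(nat_lit 8), (nat_lit 0xf544940000463), (nat_lit 259), (nat_lit 247), (nat_lit 0xe3424f40002b5), (nat_lit 0x3b140000e33)],
  [(nat_lit 8), (nat_lit 0xeb4c522000463), (nat_lit 259), (nat_lit 247), (nat_lit 0x11046d3c0002b5), (nat_lit 0xe747921001039)],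
  [(nat_lit 8), (nat_lit 0xe346132000463), (nat_lit 259), (nat_lit 247), (nat_lit 0xe93dd160002b5), (nat_lit 357), (nat_lit 361), (nat_lit 357), (nat_lit 0x4a12200104d)],
  [(nat_lit 8), (nat_lit 0x10c3e908000463), (nat_lit 249), (nat_lit 259), (nat_lit 247), (nat_lit 0xf94a51d000127), (nat_lit 247), (nat_lit 249), (nat_lit 0x45cf900031d)],
  [(nat_lit 8), (nat_lit 0xee4c515000463), (nat_lit 249), (nat_lit 259), (nat_lit 247), (nat_lit 0xe34a92a000127), (nat_lit 247), (nat_lit 249), (nat_lit 0x4cce7000315)],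
  [(nat_lit 8), (nat_lit 0xf340539000463), (nat_lit 247), (nat_lit 257), (nat_lit 0xeb4d511000121), (nat_lit 0x3fd170001fd)],
  [(nat_lit 7), (nat_lit 0xe946d0a000463), (nat_lit 259), (nat_lit 247), (nat_lit 0xeb3e51300042d), (nat_lit 0x4cd0a000c19)],
  [(nat_lit 7), (nat_lit 0xeb45d31000463), (nat_lit 245), (nat_lit 249), (nat_lit 259), (nat_lit 247), (nat_lit 0xe948d3f00014d), (nat_lit 165), (nat_lit 125), (nat_lit 167), (nat_lit 0xe73ccfa0009f7)],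
  [(nat_lit 7), (nat_lit 0x103434f9000463), (nat_lit 245), (nat_lit 257), (nat_lit 249), (nat_lit 259), (nat_lit 0xe34613f0003b5), (nat_lit 0x43d38001141)],
  [(nat_lit 4), (nat_lit 0xe93bcee00028b), (nat_lit 247), (nat_lit 259), (nat_lit 245), (nat_lit 0xf94993f000519), (nat_lit 357), (nat_lit 361), (nat_lit 0x438fc000e15)],
  [(nat_lit 4), (nat_lit 0x38cf600028b), (nat_lit 259), (nat_lit 245), (nat_lit 249), (nat_lit 257), (nat_lit 0x10b4a4f4000321), (nat_lit 0x3e1330006bb)],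
  [(nat_lit 5), (nat_lit 0xeb41d0d00028b), (nat_lit 259), (nat_lit 247), (nat_lit 0xe345d0f0002a9), (nat_lit 0xfc4d521000823)],
  [(nat_lit 8), (nat_lit 0x4051000028b), (nat_lit 259), (nat_lit 247), (nat_lit 0xe9500fd0002a9), (nat_lit 0xf44550b000b97)],
  [(nat_lit 8), (nat_lit 0xe93bcee00028b), (nat_lit 247), (nat_lit 259), (nat_lit 245), (nat_lit 0xe53e129000519), (nat_lit 357), (nat_lit 361), (nat_lit 357), (nat_lit 0xf648135000d7f)],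
  [(nat_lit 8), (nat_lit 0x4d90b00028b), (nat_lit 247), (nat_lit 259), (nat_lit 245), (nat_lit 0xe74ad36000519), (nat_lit 357), (nat_lit 0xe94211d000ba7)],
  [(nat_lit 8), (nat_lit 0xf43e92a00028b), (nat_lit 247), (nat_lit 259), (nat_lit 245), (nat_lit 0xe34c8f8000519), (nat_lit 0xe54413900071b)],
  [(nat_lit 8), (nat_lit 0xfa3d12500028b), (nat_lit 247), (nat_lit 259), (nat_lit 245), (nat_lit 0xf5420ed000519), (nat_lit 357), (nat_lit 361), (nat_lit 357), (nat_lit 0x10540928000c37)],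
  [(nat_lit 8), (nat_lit 0x3e0fc00028b), (nat_lit 247), (nat_lit 259), (nat_lit 245), (nat_lit 0x1013b140000519), (nat_lit 0xf3438ff0008f9)],
  [(nat_lit 8), (nat_lit 0x1034591700028b), (nat_lit 247), (nat_lit 259), (nat_lit 245), (nat_lit 0xef49d35000519), (nat_lit 357), (nat_lit 361), (nat_lit 357), (nat_lit 0xec4c903000b39)],
  [(nat_lit 8), (nat_lit 0xf34fd3900028b), (nat_lit 247), (nat_lit 259), (nat_lit 245), (nat_lit 0xe746d02000519), (nat_lit 357), (nat_lit 361), (nat_lit 357), (nat_lit 0xf34bcfb000d8b)],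
  [(nat_lit 8), (nat_lit 0x10947cfb00028b), (nat_lit 245), (nat_lit 257), (nat_lit 247), (nat_lit 259), (nat_lit 0x10244d220003b5), (nat_lit 357), (nat_lit 361), (nat_lit 0x1014ed1a0009d3)],
  [(nat_lit 8), (nat_lit 0x1063f0ee00028b), (nat_lit 245), (nat_lit 257), (nat_lit 247), (nat_lit 259), (nat_lit 0xf34d91f0003b5), (nat_lit 0xe34313e0010d1)],
  [(nat_lit 8), (nat_lit 0xf54cd0700028b), (nat_lit 259), (nat_lit 247), (nat_lit 0xf946d0200012f), (nat_lit 223), (nat_lit 225), (nat_lit 233), (nat_lit 227), (nat_lit 0xe54f513000205)],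
  [(nat_lit 8), (nat_lit 0xee4513d00028b), (nat_lit 245), (nat_lit 249), (nat_lit 0xe94e92a0005dd), (nat_lit 357), (nat_lit 361), (nat_lit 357), (nat_lit 0xe74f91c000ed3)],
  [(nat_lit 8), (nat_lit 0xf2418f500028b), (nat_lit 245), (nat_lit 249), (nat_lit 0xe747d020005dd), (nat_lit 357), (nat_lit 361), (nat_lit 357), (nat_lit 0x3cd1e000957)],
  [(nat_lit 8), (nat_lit 0xe33fd3e00028b), (nat_lit 247), (nat_lit 249), (nat_lit 0xe7420f90004e9), (nat_lit 361), (nat_lit 0x3c912000629)],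
  [(nat_lit 8), (nat_lit 0xe54dcf400028b), (nat_lit 247), (nat_lit 249), (nat_lit 0xef4d9270004e9), (nat_lit 357), (nat_lit 0x1084fd30000855)],
  [(nat_lit 8), (nat_lit 0xef49d2900028b), (nat_lit 247), (nat_lit 249), (nat_lit 0x404f30004e9), (nat_lit 357), (nat_lit 0xec4d53e000fe1)],
  [(nat_lit 8), (nat_lit 0xee4a51c00028b), (nat_lit 247), (nat_lit 249), (nat_lit 0x10738d160004e9), (nat_lit 361), (nat_lit 0x46d3c0006f9)],
  [(nat_lit 8), (nat_lit 0xe900028b), (nat_lit 259), (nat_lit 247), (nat_lit 0xf93f4e900042d), (nat_lit 0xf94f10d00090f)],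
  [(nat_lit 8), (nat_lit 0xe34d4f800028b), (nat_lit 259), (nat_lit 247), (nat_lit 0xe54412200042d), (nat_lit 357), (nat_lit 361), (nat_lit 357), (nat_lit 0xeb3e92300104b)],
  [(nat_lit 8), (nat_lit 0xec4f8e900028b), (nat_lit 259), (nat_lit 247), (nat_lit 0xe53ad2900042d), (nat_lit 357), (nat_lit 361), (nat_lit 357), (nat_lit 0xf94f538000fbf)],
  [(nat_lit 8), (nat_lit 0xf64b91800028b), (nat_lit 259), (nat_lit 245), (nat_lit 249), (nat_lit 257), (nat_lit 0xe55010b000321), (nat_lit 357), (nat_lit 361), (nat_lit 357), (nat_lit 0xe34e522000d0d)],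
  [(nat_lit 8), (nat_lit 0xf54651900028b), (nat_lit 259), (nat_lit 245), (nat_lit 249), (nat_lit 257), (nat_lit 0x10547140000321), (nat_lit 361), (nat_lit 0xed5011e000ff1)],
  [(nat_lit 8), (nat_lit 0xf14a50c00028b), (nat_lit 257), (nat_lit 247), (nat_lit 259), (nat_lit 0xf242108000299), (nat_lit 361), (nat_lit 357), (nat_lit 0xeb4b91000109f)],
  [(nat_lit 8), (nat_lit 0xe34a10800028b), (nat_lit 257), (nat_lit 247), (nat_lit 259), (nat_lit 0x4c908000299), (nat_lit 361), (nat_lit 0xeb4a922000e9f)],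
  [(nat_lit 8), (nat_lit 0xe7494f500028b), (nat_lit 257), (nat_lit 247), (nat_lit 259), (nat_lit 0xe940908000299), (nat_lit 357), (nat_lit 361), (nat_lit 0xeb4e51d000b69)],
  [(nat_lit 8), (nat_lit 0x4e8f500028b), (nat_lit 0xf44c93f0004ed), (nat_lit 0x45126000d85)],
  [(nat_lit 7), (nat_lit 0xe944ced00028b), (nat_lit 245), (nat_lit 249), (nat_lit 259), (nat_lit 245), (nat_lit 0xe74f8fb0004c5), (nat_lit 357), (nat_lit 361), (nat_lit 357), (nat_lit 0x3fd0d000cb5)],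
  [(nat_lit 7), (nat_lit 0x3e54000028b), (nat_lit 259), (nat_lit 245), (nat_lit 249), (nat_lit 0xe34e91b000499), (nat_lit 357), (nat_lit 0xeb4d51d001143)],
  [(nat_lit 7), (nat_lit 0x4091400028b), (nat_lit 247), (nat_lit 257), (nat_lit 249), (nat_lit 259), (nat_lit 0xf43d118000525), (nat_lit 0xed3f936001219)],
  [(nat_lit 7), (nat_lit 0xe53ad2f00028b), (nat_lit 245), (nat_lit 259), (nat_lit 247), (nat_lit 257), (nat_lit 0xef3ad3e000579), (nat_lit 357), (nat_lit 361), (nat_lit 0xf34c0f50011b7)],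
  [(nat_lit 7), (nat_lit 0xe53bd0100028b), (nat_lit 245), (nat_lit 257), (nat_lit 247), (nat_lit 259), (nat_lit 0xe54d11000025d), (nat_lit 0x10241534000cfb)],
  [(nat_lit 7), (nat_lit 0xe73cd2f00028b), (nat_lit 247), (nat_lit 249), (nat_lit 257), (nat_lit 0xe74a528000519), (nat_lit 357), (nat_lit 361), (nat_lit 357), (nat_lit 0xfb3cd3a000d8b)],
  [(nat_lit 7), (nat_lit 0xee408ed00028b), (nat_lit 245), (nat_lit 259), (nat_lit 247), (nat_lit 257), (nat_lit 0x50109000581), (nat_lit 0x4d131000b63)],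
  [(nat_lit 7), (nat_lit 0xfa4051a00028b), (nat_lit 245), (nat_lit 249), (nat_lit 259), (nat_lit 245), (nat_lit 0xeb459360005cd), (nat_lit 0x1024013d0011e9)],
  [(nat_lit 7), (nat_lit 0xf8500f600028b), (nat_lit 245), (nat_lit 259), (nat_lit 247), (nat_lit 257), (nat_lit 0x4b4f2000531), (nat_lit 357), (nat_lit 361), (nat_lit 0xeb440ec00128d)],
  [(nat_lit 6), (nat_lit 0xe93bcee00028b), (nat_lit 245), (nat_lit 257), (nat_lit 249), (nat_lit 259), (nat_lit 0x10f471080003b9), (nat_lit 361), (nat_lit 357), (nat_lit 0x4ad34000be7)],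
  [(nat_lit 4), (nat_lit 0xec4d4f2000307), (nat_lit 247), (nat_lit 257), (nat_lit 0xe93c502000141), (nat_lit 245), (nat_lit 257), (nat_lit 249), (nat_lit 259), (nat_lit 0x1084e53e00052d)],
  [(nat_lit 9), (nat_lit 0xf44f534000307), (nat_lit 247), (nat_lit 0xf14d13d0002d1), (nat_lit 361), (nat_lit 0xef47105000871)],
  [(nat_lit 8), (nat_lit 0xe55013d000307), (nat_lit 247), (nat_lit 257), (nat_lit 0x3ed32000141), (nat_lit 249), (nat_lit 257), (nat_lit 0x106469300004b5)],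
  [(nat_lit 8), (nat_lit 0xee4c8fe000307), (nat_lit 247), (nat_lit 257), (nat_lit 0x4513e000141), (nat_lit 245), (nat_lit 249), (nat_lit 257), (nat_lit 245), (nat_lit 0xf4455190004a1)],
  [(nat_lit 8), (nat_lit 0xe94950f000307), (nat_lit 247), (nat_lit 257), (nat_lit 0xe33bd3e000141), (nat_lit 245), (nat_lit 257), (nat_lit 249), (nat_lit 259), (nat_lit 0xf145940000529)],
  [(nat_lit 8), (nat_lit 0xee4a50a000307), (nat_lit 247), (nat_lit 257), (nat_lit 0xf64d4eb000141), (nat_lit 249), (nat_lit 257), (nat_lit 0xe746d1e000309)],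
  [(nat_lit 8), (nat_lit 0xf4494eb000307), (nat_lit 249), (nat_lit 257), (nat_lit 0x48536000359), (nat_lit 361), (nat_lit 0xfc4d90f000d3d)],
  [(nat_lit 8), (nat_lit 0xe73e93e000307), (nat_lit 257), (nat_lit 245), (nat_lit 0xeb47128000375), (nat_lit 0x3cd0600129d)],
  [(nat_lit 8), (nat_lit 0xf44f534000307), (nat_lit 247), (nat_lit 0xeb489260002d1), (nat_lit 357), (nat_lit 0xfb48d19000603)],
  [(nat_lit 8), (nat_lit 0xed4d512000307), (nat_lit 247), (nat_lit 0x3e9240002d1), (nat_lit 357), (nat_lit 361), (nat_lit 357), (nat_lit 0xf43e5180008e3)],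
  [(nat_lit 8), (nat_lit 0x4c936000307), (nat_lit 247), (nat_lit 0x1073e9330002d1), (nat_lit 357), (nat_lit 0xf64bcf9000db1)],
  [(nat_lit 8), (nat_lit 0xe94a11d000307), (nat_lit 247), (nat_lit 0xe74ccfd0002d1), (nat_lit 357), (nat_lit 361), (nat_lit 0xe745140000a2f)],
  [(nat_lit 8), (nat_lit 0xf94bd10000307), (nat_lit 247), (nat_lit 0x461190002d1), (nat_lit 357), (nat_lit 361), (nat_lit 357), (nat_lit 0xe34d51f000e51)],
  [(nat_lit 8), (nat_lit 0x40d1c000307), (nat_lit 257), (nat_lit 245), (nat_lit 0xe93e936000163), (nat_lit 249), (nat_lit 257), (nat_lit 245), (nat_lit 0xf84a50b000585)],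
  [(nat_lit 8), (nat_lit 0x10a40535000307), (nat_lit 257), (nat_lit 245), (nat_lit 0xf14a131000163), (nat_lit 245), (nat_lit 259), (nat_lit 247), (nat_lit 257), (nat_lit 0xfc3c4fa000585)],
  [(nat_lit 8), (nat_lit 0xef3cd16000307), (nat_lit 257), (nat_lit 245), (nat_lit 0x100500fd000163), (nat_lit 259), (nat_lit 245), (nat_lit 249), (nat_lit 0x41cef000509)],
  [(nat_lit 7), (nat_lit 0xe750136000307), (nat_lit 259), (nat_lit 245), (nat_lit 249), (nat_lit 257), (nat_lit 0xec4d529000409), (nat_lit 357), (nat_lit 361), (nat_lit 357), (nat_lit 0xfb4850c001205)],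
  [(nat_lit 7), (nat_lit 0xeb4d8fc000307), (nat_lit 249), (nat_lit 257), (nat_lit 245), (nat_lit 0xf14f9400002b9), (nat_lit 361), (nat_lit 357), (nat_lit 0x10d4c50b0008b5)],
  [(nat_lit 7), (nat_lit 0x1024a8ff000307), (nat_lit 249), (nat_lit 257), (nat_lit 245), (nat_lit 0xe94bd13000459), (nat_lit 361), (nat_lit 357), (nat_lit 0x4192a000ec3)],
  [(nat_lit 7), (nat_lit 0xf1488f3000307), (nat_lit 249), (nat_lit 259), (nat_lit 0xed41d0b000331), (nat_lit 357), (nat_lit 361), (nat_lit 0xe34f8e900108b)],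
  [(nat_lit 7), (nat_lit 0xe73dd35000307), (nat_lit 247), (nat_lit 259), (nat_lit 245), (nat_lit 0x46cfc0004d5), (nat_lit 0x431190007cb)],
  [(nat_lit 7), (nat_lit 0xec47906000307), (nat_lit 249), (nat_lit 257), (nat_lit 0xee43d18000555), (nat_lit 357), (nat_lit 361), (nat_lit 357), (nat_lit 0xe346915000a91)]]
noncomputable def R11 : List (List ℕ) :=
  [[(nat_lit 7), (nat_lit 0xf83f126000307), (nat_lit 247), (nat_lit 257), (nat_lit 0xe34fd3b000469), (nat_lit 361), (nat_lit 0x10048532000a23)],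
  [(nat_lit 7), (nat_lit 0xe5458f3000307), (nat_lit 247), (nat_lit 257), (nat_lit 249), (nat_lit 0xf54412b000309), (nat_lit 361), (nat_lit 0xe34a91d000f97)],
  [(nat_lit 7), (nat_lit 0xe74e13f000307), (nat_lit 257), (nat_lit 247), (nat_lit 0xf344d34000551), (nat_lit 361), (nat_lit 357), (nat_lit 0xf445cfe0011b5)],
  [(nat_lit 7), (nat_lit 0xf74ccf6000307), (nat_lit 259), (nat_lit 249), (nat_lit 0xf44d4fa000499), (nat_lit 361), (nat_lit 0xe73d11b000c9f)],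
  [(nat_lit 7), (nat_lit 0xeb4a915000307), (nat_lit 245), (nat_lit 257), (nat_lit 249), (nat_lit 259), (nat_lit 0xf145d3a000409), (nat_lit 0x4d503000a77)],
  [(nat_lit 7), (nat_lit 0xeb3f135000307), (nat_lit 247), (nat_lit 257), (nat_lit 245), (nat_lit 0xf43bd350003a5), (nat_lit 357), (nat_lit 361), (nat_lit 357), (nat_lit 0x1064050d000bf5)],
  [(nat_lit 6), (nat_lit 0xf33ecf2000307), (nat_lit 0xe54551900042d), (nat_lit 357), (nat_lit 361), (nat_lit 0xf64dd32000bc7)],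
  [(nat_lit 6), (nat_lit 0xe344138000307), (nat_lit 259), (nat_lit 245), (nat_lit 257), (nat_lit 0xe33fd2800052d), (nat_lit 361), (nat_lit 0x4a1010007c7)],
  [(nat_lit 4), (nat_lit 0xec4292400047b), (nat_lit 245), (nat_lit 249), (nat_lit 257), (nat_lit 245), (nat_lit 0xfb4c105000591), (nat_lit 0xe74f50d000e3d)],
  [(nat_lit 8), (nat_lit 0xec4292400047b), (nat_lit 245), (nat_lit 249), (nat_lit 257), (nat_lit 245), (nat_lit 0x45d2c000591), (nat_lit 361), (nat_lit 0xee4d121000bff)],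
  [(nat_lit 8), (nat_lit 0xe54a12000047b), (nat_lit 245), (nat_lit 249), (nat_lit 257), (nat_lit 245), (nat_lit 0xe94b13d000591), (nat_lit 361), (nat_lit 0xf1458e90011f3)],
  [(nat_lit 8), (nat_lit 0xee4bd2e00047b), (nat_lit 245), (nat_lit 249), (nat_lit 257), (nat_lit 245), (nat_lit 0xe945503000591), (nat_lit 0xf44f4f9000cf3)],
  [(nat_lit 8), (nat_lit 0xfc494fd00047b), (nat_lit 259), (nat_lit 0x1014ad08000389), (nat_lit 361), (nat_lit 357), (nat_lit 0xeb4fd0f000d1b)],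
  [(nat_lit 8), (nat_lit 0xec488e900047b), (nat_lit 259), (nat_lit 0xe9454ec000389), (nat_lit 361), (nat_lit 357), (nat_lit 0xe7485010006e7)],
  [(nat_lit 8), (nat_lit 0xf54b0e900047b), (nat_lit 259), (nat_lit 0xf44f525000389), (nat_lit 361), (nat_lit 357), (nat_lit 0xed4bd0f000ca7)],
  [(nat_lit 8), (nat_lit 0x1024fd1a00047b), (nat_lit 259), (nat_lit 0xfb4e91b000389), (nat_lit 357), (nat_lit 0xf1500f60007b9)],
  [(nat_lit 8), (nat_lit 0xeb4d8eb00047b), (nat_lit 259), (nat_lit 0xed4f934000389), (nat_lit 0xe949d18001177)],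
  [(nat_lit 8), (nat_lit 0x1244791b00047b), (nat_lit 245), (nat_lit 257), (nat_lit 0xe74b4f5000375), (nat_lit 357), (nat_lit 0xeb3e8fb000ef3)],
  [(nat_lit 8), (nat_lit 0x1073c51a00047b), (nat_lit 247), (nat_lit 259), (nat_lit 245), (nat_lit 0xe54651d00049d), (nat_lit 357), (nat_lit 361), (nat_lit 357), (nat_lit 0xf44613e000865)],
  [(nat_lit 8), (nat_lit 0x12343d1500047b), (nat_lit 247), (nat_lit 259), (nat_lit 245), (nat_lit 0xf73c90800049d), (nat_lit 361), (nat_lit 0xe34351c000b5d)],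
  [(nat_lit 8), (nat_lit 0x3f8e900047b), (nat_lit 247), (nat_lit 259), (nat_lit 245), (nat_lit 0x4193b00049d), (nat_lit 361), (nat_lit 357), (nat_lit 0xe744cfb0011a3)],
  [(nat_lit 8), (nat_lit 0xfc3c92200047b), (nat_lit 247), (nat_lit 259), (nat_lit 245), (nat_lit 0xef4810800049d), (nat_lit 357), (nat_lit 361), (nat_lit 357), (nat_lit 0xe546d3a000e87)],
  [(nat_lit 8), (nat_lit 0x11800047b), (nat_lit 257), (nat_lit 249), (nat_lit 0xf93d138000559), (nat_lit 361), (nat_lit 357), (nat_lit 0xf54ed150010c9)],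
  [(nat_lit 8), (nat_lit 0xf4444fb00047b), (nat_lit 257), (nat_lit 249), (nat_lit 0xeb4c1320002e1), (nat_lit 357), (nat_lit 361), (nat_lit 357), (nat_lit 0xe53e11a000c81)],
  [(nat_lit 8), (nat_lit 0x11c4c4f900047b), (nat_lit 247), (nat_lit 249), (nat_lit 257), (nat_lit 0xe5460f300045d), (nat_lit 361), (nat_lit 0xf24091e000bb7)],
  [(nat_lit 8), (nat_lit 0x3ccf500047b), (nat_lit 247), (nat_lit 249), (nat_lit 257), (nat_lit 0x1084652000045d), (nat_lit 357), (nat_lit 361), (nat_lit 357), (nat_lit 0x1184493d0012c9)],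
  [(nat_lit 8), (nat_lit 0xe54a93500047b), (nat_lit 247), (nat_lit 249), (nat_lit 257), (nat_lit 0xeb4613200045d), (nat_lit 361), (nat_lit 0x10247110000f73)],
  [(nat_lit 8), (nat_lit 0x4614000047b), (nat_lit 259), (nat_lit 245), (nat_lit 0x10d4c8fd000365), (nat_lit 357), (nat_lit 361), (nat_lit 357), (nat_lit 0xe73e910000fe9)],
  [(nat_lit 8), (nat_lit 0x1014994000047b), (nat_lit 257), (nat_lit 245), (nat_lit 259), (nat_lit 0xeb4013c0004f1), (nat_lit 357), (nat_lit 361), (nat_lit 0xe544938000659)],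
  [(nat_lit 8), (nat_lit 0x1074912c00047b), (nat_lit 245), (nat_lit 249), (nat_lit 0xe94bcfa0005c9), (nat_lit 361), (nat_lit 0xeb4f11800110d)],
  [(nat_lit 8), (nat_lit 0xe74ed0200047b), (nat_lit 245), (nat_lit 249), (nat_lit 0xe349cfa0005c9), (nat_lit 357), (nat_lit 0xff4c5170010cf)],
  [(nat_lit 8), (nat_lit 0xfa4d8fe00047b), (nat_lit 245), (nat_lit 249), (nat_lit 0xeb41cf20005c9), (nat_lit 357), (nat_lit 361), (nat_lit 0xec40915000b51)],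
  [(nat_lit 8), (nat_lit 0xf54610100047b), (nat_lit 247), (nat_lit 249), (nat_lit 257), (nat_lit 0x4c1390002e5), (nat_lit 357), (nat_lit 0xed41d37000e6f)],
  [(nat_lit 8), (nat_lit 0xf541d3900047b), (nat_lit 247), (nat_lit 249), (nat_lit 257), (nat_lit 0xe94ed2a0002e5), (nat_lit 357), (nat_lit 361), (nat_lit 0xe544140000839)],
  [(nat_lit 8), (nat_lit 0xed3f93500047b), (nat_lit 247), (nat_lit 249), (nat_lit 257), (nat_lit 0x3e9300002e5), (nat_lit 361), (nat_lit 357), (nat_lit 0xeb4c905000bbb)],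
  [(nat_lit 8), (nat_lit 0xec4a93a00047b), (nat_lit 249), (nat_lit 257), (nat_lit 245), (nat_lit 0xe541d05000269), (nat_lit 361), (nat_lit 0xf244128001177)],
  [(nat_lit 8), (nat_lit 0xfb4193f00047b), (nat_lit 257), (nat_lit 245), (nat_lit 0xef4ad130003dd), (nat_lit 0x10247ce9000c51)],
  [(nat_lit 8), (nat_lit 0xfb45d3f00047b), (nat_lit 257), (nat_lit 245), (nat_lit 0xf34b8fd0003dd), (nat_lit 361), (nat_lit 357), (nat_lit 0xe34f4fa0012e1)],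
  [(nat_lit 8), (nat_lit 0xe94c11b00047b), (nat_lit 245), (nat_lit 259), (nat_lit 247), (nat_lit 257), (nat_lit 0x3ad160005f1), (nat_lit 361), (nat_lit 357), (nat_lit 0xe341913000a23)],
  [(nat_lit 8), (nat_lit 0xed4052b00047b), (nat_lit 245), (nat_lit 259), (nat_lit 247), (nat_lit 257), (nat_lit 0xec43d300005f1), (nat_lit 357), (nat_lit 0x100488fb000771)],
  [(nat_lit 8), (nat_lit 0xef4ccf400047b), (nat_lit 245), (nat_lit 259), (nat_lit 247), (nat_lit 257), (nat_lit 0xe54d10f0005f1), (nat_lit 357), (nat_lit 361), (nat_lit 357), (nat_lit 0xe93bcfa00123d)],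
  [(nat_lit 8), (nat_lit 0xe740d1600047b), (nat_lit 245), (nat_lit 259), (nat_lit 247), (nat_lit 257), (nat_lit 0x3f4f90005f1), (nat_lit 361), (nat_lit 357), (nat_lit 0xef3e536001179)],
  [(nat_lit 8), (nat_lit 0x3b90100047b), (nat_lit 245), (nat_lit 259), (nat_lit 247), (nat_lit 257), (nat_lit 0x441170005f1), (nat_lit 357), (nat_lit 361), (nat_lit 0xed4091e00081f)],
  [(nat_lit 7), (nat_lit 0xe34291e00047b), (nat_lit 247), (nat_lit 249), (nat_lit 0xff47521000479), (nat_lit 357), (nat_lit 361), (nat_lit 0xf5441170009f5)],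
  [(nat_lit 7), (nat_lit 0xe34011e00047b), (nat_lit 259), (nat_lit 247), (nat_lit 0xe53b13f000125), (nat_lit 259), (nat_lit 247), (nat_lit 0xe943532000121)],
  [(nat_lit 7), (nat_lit 0xe74413400047b), (nat_lit 247), (nat_lit 259), (nat_lit 245), (nat_lit 0xfc4811100012f), (nat_lit 319), (nat_lit 319), (nat_lit 319), (nat_lit 0x101461060013a3)],
  [(nat_lit 7), (nat_lit 0xe539d1200047b), (nat_lit 257), (nat_lit 245), (nat_lit 259), (nat_lit 0xe73ed3b000481), (nat_lit 357), (nat_lit 361), (nat_lit 357), (nat_lit 0xe9431160012bb)],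
  [(nat_lit 7), (nat_lit 0xfd3cd1e00047b), (nat_lit 245), (nat_lit 259), (nat_lit 0xed440f4000245), (nat_lit 361), (nat_lit 0xf345919000f7d)],
  [(nat_lit 7), (nat_lit 0xf64f11900047b), (nat_lit 247), (nat_lit 249), (nat_lit 0xf34353d000589), (nat_lit 361), (nat_lit 0xf13dd190010d1)],
  [(nat_lit 7), (nat_lit 0xef4410500047b), (nat_lit 259), (nat_lit 245), (nat_lit 249), (nat_lit 257), (nat_lit 0xec46118000301), (nat_lit 0xef48917000723)],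
  [(nat_lit 7), (nat_lit 0x45d3900047b), (nat_lit 259), (nat_lit 247), (nat_lit 0xfa4bd05000345), (nat_lit 0x488e9000f83)],
  [(nat_lit 7), (nat_lit 0xe54c10e00047b), (nat_lit 259), (nat_lit 247), (nat_lit 0xe74d137000339), (nat_lit 0xe94f11b000bdf)],
  [(nat_lit 7), (nat_lit 0xf24a93500047b), (nat_lit 247), (nat_lit 249), (nat_lit 257), (nat_lit 0xeb4590e00040d), (nat_lit 357), (nat_lit 361), (nat_lit 0xe54d909000d49)],
  [(nat_lit 7), (nat_lit 0x4193600047b), (nat_lit 257), (nat_lit 249), (nat_lit 0xef458e900059d), (nat_lit 0xe33d12b000ff1)],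
  [(nat_lit 7), (nat_lit 0x3acf500047b), (nat_lit 247), (nat_lit 0xe54ad2a00046d), (nat_lit 361), (nat_lit 0xf73e501001097)],
  [(nat_lit 7), (nat_lit 0xef4f51a00047b), (nat_lit 245), (nat_lit 257), (nat_lit 249), (nat_lit 0x107418e9000459), (nat_lit 0xe744905000a81)],
  [(nat_lit 6), (nat_lit 0xeb4011000047b), (nat_lit 259), (nat_lit 0xe339d3b000399), (nat_lit 361), (nat_lit 357), (nat_lit 0xe347d02000e2f)],
  [(nat_lit 6), (nat_lit 0xe945d0800047b), (nat_lit 245), (nat_lit 259), (nat_lit 0xe343cf90003f1), (nat_lit 361), (nat_lit 0xf446d2c000fc9)],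
  [(nat_lit 6), (nat_lit 0xfe4f91f00047b), (nat_lit 247), (nat_lit 0xe33f11000048d), (nat_lit 361), (nat_lit 0xed4fceb000cfb)],
  [(nat_lit 6), (nat_lit 0xed4a51400047b), (nat_lit 247), (nat_lit 249), (nat_lit 257), (nat_lit 0xe53d12f0005c5), (nat_lit 361), (nat_lit 0xeb4f51a000d7d)],
  [(nat_lit 6), (nat_lit 0x1103fd1900047b), (nat_lit 245), (nat_lit 0xe34252a000381), (nat_lit 357), (nat_lit 0xe93d10d000739)],
  [(nat_lit 8), (nat_lit 0xf64552a0002b7), (nat_lit 249), (nat_lit 257), (nat_lit 245), (nat_lit 259), (nat_lit 0xe9461380003d1), (nat_lit 357), (nat_lit 0xe948d19000869)],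
  [(nat_lit 8), (nat_lit 0xf14ad360002b7), (nat_lit 249), (nat_lit 257), (nat_lit 245), (nat_lit 259), (nat_lit 0xef4593c0003d1), (nat_lit 357), (nat_lit 361), (nat_lit 0xf34052100105d)],
  [(nat_lit 8), (nat_lit 0x3bd080002b7), (nat_lit 249), (nat_lit 257), (nat_lit 245), (nat_lit 259), (nat_lit 0xe53ad120003d1), (nat_lit 357), (nat_lit 361), (nat_lit 357), (nat_lit 0x4051d0011bb)],
  [(nat_lit 8), (nat_lit 0xf14fcf40002b7), (nat_lit 247), (nat_lit 249), (nat_lit 0xeb4093f0002d9), (nat_lit 0xed4f93f000b13)],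
  [(nat_lit 8), (nat_lit 0x3a51a0002b7), (nat_lit 257), (nat_lit 0xe93e13c00056d), (nat_lit 0x1014b532000797)],
  [(nat_lit 8), (nat_lit 0xf3491190002b7), (nat_lit 257), (nat_lit 0x4512b00056d), (nat_lit 0xef4d13b0013cb)],
  [(nat_lit 8), (nat_lit 0xf64c1050002b7), (nat_lit 257), (nat_lit 0xe74e50700056d), (nat_lit 361), (nat_lit 0xf1500f6000bcb)],
  [(nat_lit 8), (nat_lit 0xee41cff0002b7), (nat_lit 259), (nat_lit 249), (nat_lit 0xf33dcf30002e9), (nat_lit 361), (nat_lit 0xf34990b00116f)],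
  [(nat_lit 8), (nat_lit 0xed4051a0002b7), (nat_lit 247), (nat_lit 249), (nat_lit 0xfa435290002dd), (nat_lit 357), (nat_lit 361), (nat_lit 357), (nat_lit 0x449300009bb)],
  [(nat_lit 8), (nat_lit 0x1073a52e0002b7), (nat_lit 247), (nat_lit 249), (nat_lit 0xe74f51d0002dd), (nat_lit 357), (nat_lit 0x3d1020010fb)],
  [(nat_lit 8), (nat_lit 0x4ed360002b7), (nat_lit 247), (nat_lit 249), (nat_lit 0x3d9380002dd), (nat_lit 361), (nat_lit 357), (nat_lit 0xf43f4f9000957)],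
  [(nat_lit 8), (nat_lit 0xe5441220002b7), (nat_lit 249), (nat_lit 259), (nat_lit 245), (nat_lit 0xee4b5390004b1), (nat_lit 361), (nat_lit 0x469100012bb)],
  [(nat_lit 8), (nat_lit 0x3b1350002b7), (nat_lit 249), (nat_lit 259), (nat_lit 245), (nat_lit 0xf73d1020004b1), (nat_lit 361), (nat_lit 357), (nat_lit 0x4f502000847)],
  [(nat_lit 8), (nat_lit 0xec3cd2b0002b7), (nat_lit 249), (nat_lit 259), (nat_lit 245), (nat_lit 0xe54fd1d0004b1), (nat_lit 357), (nat_lit 361), (nat_lit 357), (nat_lit 0xe948d3f000d67)],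
  [(nat_lit 8), (nat_lit 0x4710a0002b7), (nat_lit 0xf442933000107), (nat_lit 125), (nat_lit 129), (nat_lit 133), (nat_lit 155), (nat_lit 0xfb4f1050007ef)],
  [(nat_lit 8), (nat_lit 0xe74213e0002b7), (nat_lit 247), (nat_lit 257), (nat_lit 0xf54d11b0002c9), (nat_lit 361), (nat_lit 357), (nat_lit 0xf84c50d000d7b)],
  [(nat_lit 8), (nat_lit 0xf43f10e0002b7), (nat_lit 247), (nat_lit 249), (nat_lit 0x4e5100002d5), (nat_lit 357), (nat_lit 361), (nat_lit 0x468ef0010dd)],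
  [(nat_lit 8), (nat_lit 0xf73cd010002b7), (nat_lit 247), (nat_lit 249), (nat_lit 0x38cf40002d5), (nat_lit 357), (nat_lit 361), (nat_lit 0xe941d2a000ce7)],
  [(nat_lit 7), (nat_lit 0x1004d5070002b7), (nat_lit 247), (nat_lit 257), (nat_lit 247), (nat_lit 0xed4e12100053d), (nat_lit 361), (nat_lit 0xeb41cf6001025)],
  [(nat_lit 7), (nat_lit 0x10b4ad360002b7), (nat_lit 245), (nat_lit 257), (nat_lit 249), (nat_lit 259), (nat_lit 0xe740540000515), (nat_lit 357), (nat_lit 361), (nat_lit 357), (nat_lit 0x1094f13000110b)],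
  [(nat_lit 7), (nat_lit 0xe34453d0002b7), (nat_lit 245), (nat_lit 257), (nat_lit 249), (nat_lit 259), (nat_lit 0xe53e92800029d), (nat_lit 357), (nat_lit 361), (nat_lit 0xec4f8f7000e51)],
  [(nat_lit 7), (nat_lit 0xf93f1050002b7), (nat_lit 247), (nat_lit 257), (nat_lit 0xf1404f70003e5), (nat_lit 357), (nat_lit 361), (nat_lit 357), (nat_lit 0xee4b8ee00131b)],
  [(nat_lit 7), (nat_lit 0xe54853e0002b7), (nat_lit 247), (nat_lit 259), (nat_lit 0xee41d18000329), (nat_lit 357), (nat_lit 361), (nat_lit 357), (nat_lit 0xfc4351c000bb1)],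
  [(nat_lit 7), (nat_lit 0xe74a4f70002b7), (nat_lit 257), (nat_lit 249), (nat_lit 259), (nat_lit 0xeb4f92c000161), (nat_lit 245), (nat_lit 0x1074a9330005a9)],
  [(nat_lit 6), (nat_lit 0xed4051a0002b7), (nat_lit 245), (nat_lit 249), (nat_lit 257), (nat_lit 245), (nat_lit 0xf64512f00054d), (nat_lit 357), (nat_lit 361), (nat_lit 0xe53d13f000ef3)],
  [(nat_lit 8), (nat_lit 0x4e51000017b), (nat_lit 125), (nat_lit 153), (nat_lit 141), (nat_lit 0xec3cd3f000155), (nat_lit 125), (nat_lit 153), (nat_lit 129), (nat_lit 165), (nat_lit 0x1034e92a000179)],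
  [(nat_lit 8), (nat_lit 0x4e93200017b), (nat_lit 125), (nat_lit 153), (nat_lit 141), (nat_lit 0xef40d29000155), (nat_lit 141), (nat_lit 167), (nat_lit 0xf646d380010f3)],
  [(nat_lit 8), (nat_lit 0xe33bd0f00017b), (nat_lit 137), (nat_lit 167), (nat_lit 155), (nat_lit 0x10749d130001b1), (nat_lit 361), (nat_lit 0xfc4893c001083)],
  [(nat_lit 8), (nat_lit 0xee4d92500017b), (nat_lit 137), (nat_lit 167), (nat_lit 155), (nat_lit 0xee4613e0001b1), (nat_lit 357), (nat_lit 361), (nat_lit 357), (nat_lit 0xe948d3e0007a1)],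
  [(nat_lit 8), (nat_lit 0x43d1e00017b), (nat_lit 137), (nat_lit 167), (nat_lit 155), (nat_lit 0xe54b50b0001b1), (nat_lit 357), (nat_lit 361), (nat_lit 0xeb45908000de7)],
  [(nat_lit 8), (nat_lit 0xf54592200017b), (nat_lit 137), (nat_lit 167), (nat_lit 155), (nat_lit 0xee429200001b1), (nat_lit 0x498f50006e5)],
  [(nat_lit 8), (nat_lit 0x4a10300017b), (nat_lit 137), (nat_lit 167), (nat_lit 155), (nat_lit 0x102435310001b1), (nat_lit 357), (nat_lit 361), (nat_lit 0xe34c93900144f)],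
  [(nat_lit 8), (nat_lit 0xfb3ad1f00017b), (nat_lit 153), (nat_lit 167), (nat_lit 125), (nat_lit 0xeb4b0f40001c1), (nat_lit 357), (nat_lit 361), (nat_lit 0x1053b5300009e5)],
  [(nat_lit 8), (nat_lit 0xf43f11400017b), (nat_lit 153), (nat_lit 167), (nat_lit 125), (nat_lit 0xf14b5360001c1), (nat_lit 357), (nat_lit 0xf14c1080011b5)],
  [(nat_lit 8), (nat_lit 0xec4412c00017b), (nat_lit 153), (nat_lit 167), (nat_lit 125), (nat_lit 0xed485350001c1), (nat_lit 361), (nat_lit 0xeb46932001343)],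
  [(nat_lit 7), (nat_lit 0xe33cd0c00017b), (nat_lit 125), (nat_lit 155), (nat_lit 165), (nat_lit 0x3f92a0009f7), (nat_lit 357), (nat_lit 361), (nat_lit 0x500ec0010f5)],
  [(nat_lit 7), (nat_lit 0x3951400017b), (nat_lit 125), (nat_lit 129), (nat_lit 133), (nat_lit 153), (nat_lit 0xfc4a901000dcb), (nat_lit 357), (nat_lit 361), (nat_lit 357), (nat_lit 0xf54191c001123)],
  [(nat_lit 7), (nat_lit 0x4c90300017b), (nat_lit 125), (nat_lit 129), (nat_lit 133), (nat_lit 141), (nat_lit 0xee45907000159), (nat_lit 257), (nat_lit 245), (nat_lit 259), (nat_lit 0x3ad08000271)],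
  [(nat_lit 7), (nat_lit 0xeb4852900017b), (nat_lit 125), (nat_lit 0x434ec0001a5), (nat_lit 361), (nat_lit 357), (nat_lit 0x4d11e000be3)],
  [(nat_lit 7), (nat_lit 0x3bd3100017b), (nat_lit 165), (nat_lit 141), (nat_lit 0xec4893e000179), (nat_lit 0xe945920000c2d)],
  [(nat_lit 7), (nat_lit 0xed4f91000017b), (nat_lit 129), (nat_lit 167), (nat_lit 133), (nat_lit 0xee47cf50009b3), (nat_lit 357), (nat_lit 361), (nat_lit 0xf44fd1500080f)],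
  [(nat_lit 7), (nat_lit 0xe75011e00017b), (nat_lit 129), (nat_lit 153), (nat_lit 165), (nat_lit 141), (nat_lit 0xfe434f40001b5), (nat_lit 357), (nat_lit 361), (nat_lit 357), (nat_lit 0xe54551300104b)],
  [(nat_lit 6), (nat_lit 0x4190a00017b), (nat_lit 167), (nat_lit 129), (nat_lit 0xe74891800018d), (nat_lit 357), (nat_lit 361), (nat_lit 0xe543d2e000889)],
  [(nat_lit 8), (nat_lit 0xe74753d000303), (nat_lit 259), (nat_lit 0xe74a53d000319), (nat_lit 357), (nat_lit 361), (nat_lit 357), (nat_lit 0x4f934000761)],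
  [(nat_lit 8), (nat_lit 0xe346cfc000303), (nat_lit 259), (nat_lit 0x3f135000319), (nat_lit 361), (nat_lit 357), (nat_lit 0x10e4413f00145f)]]
noncomputable def R12 : List (List ℕ) :=
  [[(nat_lit 8), (nat_lit 0xf43c92d000303), (nat_lit 259), (nat_lit 0xf14a911000319), (nat_lit 357), (nat_lit 0xf6501030006f9)],
  [(nat_lit 8), (nat_lit 0xf44550b000303), (nat_lit 259), (nat_lit 0xe93e922000319), (nat_lit 361), (nat_lit 357), (nat_lit 0xe34bd2d001025)],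
  [(nat_lit 8), (nat_lit 0x10f4d131000303), (nat_lit 259), (nat_lit 0xed46d39000319), (nat_lit 357), (nat_lit 0x108470f1001235)],
  [(nat_lit 8), (nat_lit 0x3b508000303), (nat_lit 259), (nat_lit 0xfa3a536000319), (nat_lit 0xe74f9010007cb)],
  [(nat_lit 8), (nat_lit 0xf649901000303), (nat_lit 249), (nat_lit 257), (nat_lit 245), (nat_lit 259), (nat_lit 0x10d41d27000399), (nat_lit 361), (nat_lit 357), (nat_lit 0xf140920000d5f)],
  [(nat_lit 8), (nat_lit 0xe54f505000303), (nat_lit 249), (nat_lit 257), (nat_lit 245), (nat_lit 259), (nat_lit 0xe54a106000399), (nat_lit 357), (nat_lit 0xe74a4f9000833)],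
  [(nat_lit 8), (nat_lit 0x42928000303), (nat_lit 259), (nat_lit 247), (nat_lit 0x1093cd20000133), (nat_lit 259), (nat_lit 245), (nat_lit 0x44d2500014d)],
  [(nat_lit 8), (nat_lit 0xe33b91b000303), (nat_lit 259), (nat_lit 247), (nat_lit 0xf13ed00000133), (nat_lit 0xe339d340002bd)],
  [(nat_lit 8), (nat_lit 0xf649d3f000303), (nat_lit 245), (nat_lit 249), (nat_lit 257), (nat_lit 245), (nat_lit 0xe94591f00045d), (nat_lit 0xe343513000d87)],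
  [(nat_lit 8), (nat_lit 0xe54a511000303), (nat_lit 245), (nat_lit 249), (nat_lit 257), (nat_lit 245), (nat_lit 0xe346110000459), (nat_lit 357), (nat_lit 361), (nat_lit 357), (nat_lit 0x1004353b001449)],
  [(nat_lit 8), (nat_lit 0xf24d51b000303), (nat_lit 259), (nat_lit 245), (nat_lit 249), (nat_lit 0x1004b5360004f9), (nat_lit 357), (nat_lit 361), (nat_lit 357), (nat_lit 0xe54dd32000cbd)],
  [(nat_lit 8), (nat_lit 0xed3d934000303), (nat_lit 247), (nat_lit 259), (nat_lit 247), (nat_lit 0xec4913f0004e9), (nat_lit 0xfc47d0a000a85)],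
  [(nat_lit 8), (nat_lit 0x103000303), (nat_lit 259), (nat_lit 247), (nat_lit 0xf346d000004fd), (nat_lit 361), (nat_lit 357), (nat_lit 0xf550114000817)],
  [(nat_lit 7), (nat_lit 0x4052e000303), (nat_lit 257), (nat_lit 249), (nat_lit 0xf43bd260003f1), (nat_lit 357), (nat_lit 361), (nat_lit 357), (nat_lit 0xfc4cd1e001317)],
  [(nat_lit 7), (nat_lit 0xf54c924000303), (nat_lit 259), (nat_lit 245), (nat_lit 249), (nat_lit 257), (nat_lit 0xe7429350004b5), (nat_lit 361), (nat_lit 0xec4c514000df5)],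
  [(nat_lit 7), (nat_lit 0xf14ad08000303), (nat_lit 257), (nat_lit 0x3fd3d00038d), (nat_lit 357), (nat_lit 0xf140930000ad1)],
  [(nat_lit 7), (nat_lit 0x1014b110000303), (nat_lit 259), (nat_lit 247), (nat_lit 0xec4192a000359), (nat_lit 361), (nat_lit 0xf341531000d3d)],
  [(nat_lit 8), (nat_lit 0xf34911f0001fb), (nat_lit 225), (nat_lit 235), (nat_lit 225), (nat_lit 317), (nat_lit 0x112481070001e1), (nat_lit 0x45ce70011db)],
  [(nat_lit 8), (nat_lit 0x1034d10b0001fb), (nat_lit 225), (nat_lit 235), (nat_lit 225), (nat_lit 317), (nat_lit 0x10645d170001e1), (nat_lit 361), (nat_lit 0xe5449220011af)],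
  [(nat_lit 8), (nat_lit 0xeb4313e0001fb), (nat_lit 221), (nat_lit 233), (nat_lit 221), (nat_lit 225), (nat_lit 0xe55011c0001d5), (nat_lit 357), (nat_lit 361), (nat_lit 357), (nat_lit 0xe949112000af1)],
  [(nat_lit 8), (nat_lit 0x43d3a0001fb), (nat_lit 221), (nat_lit 233), (nat_lit 221), (nat_lit 225), (nat_lit 0xef498ff0001d5), (nat_lit 361), (nat_lit 357), (nat_lit 0xf34dd080006f7)],
  [(nat_lit 8), (nat_lit 0xf43f0ed0001fb), (nat_lit 221), (nat_lit 233), (nat_lit 221), (nat_lit 225), (nat_lit 0xe33c51b0001d5), (nat_lit 357), (nat_lit 361), (nat_lit 0x3d1200012b9)],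
  [(nat_lit 8), (nat_lit 0xe547cfb0001fb), (nat_lit 233), (nat_lit 317), (nat_lit 225), (nat_lit 0xe74a50c000211), (nat_lit 361), (nat_lit 357), (nat_lit 0x4ed270014d3)],
  [(nat_lit 8), (nat_lit 0xf34852a0001fb), (nat_lit 223), (nat_lit 227), (nat_lit 317), (nat_lit 225), (nat_lit 0x43d1e0001d1), (nat_lit 357), (nat_lit 0xe93e4ef000ee3)],
  [(nat_lit 8), (nat_lit 0xf84c9030001fb), (nat_lit 223), (nat_lit 227), (nat_lit 317), (nat_lit 225), (nat_lit 0xe73ed1b0001d1), (nat_lit 361), (nat_lit 0xe341524000f13)],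
  [(nat_lit 8), (nat_lit 0xeb5013e0001fb), (nat_lit 223), (nat_lit 227), (nat_lit 317), (nat_lit 225), (nat_lit 0xe94191e0001d1), (nat_lit 0xfc46113000a97)],
  [(nat_lit 8), (nat_lit 0x11f4e0f60001fb), (nat_lit 223), (nat_lit 227), (nat_lit 317), (nat_lit 225), (nat_lit 0xed405400001d1), (nat_lit 0xe74793f000da3)],
  [(nat_lit 8), (nat_lit 0xf74d4ff0001fb), (nat_lit 233), (nat_lit 319), (nat_lit 319), (nat_lit 0xe3474f30001fd), (nat_lit 0xf64690f001049)],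
  [(nat_lit 8), (nat_lit 0xf64acf30001fb), (nat_lit 233), (nat_lit 319), (nat_lit 319), (nat_lit 0xf74f51a0001fd), (nat_lit 0xe94dd21000f29)],
  [(nat_lit 7), (nat_lit 0x3bcf60001fb), (nat_lit 221), (nat_lit 319), (nat_lit 223), (nat_lit 227), (nat_lit 0xf441d0f000209), (nat_lit 357), (nat_lit 361), (nat_lit 357), (nat_lit 0xee4910e0011a9)],
  [(nat_lit 7), (nat_lit 0x3a4ef0001fb), (nat_lit 317), (nat_lit 221), (nat_lit 225), (nat_lit 0xe54c11b000221), (nat_lit 357), (nat_lit 361), (nat_lit 357), (nat_lit 0xf43e53200136d)],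
  [(nat_lit 7), (nat_lit 0xe34f50a0001fb), (nat_lit 317), (nat_lit 225), (nat_lit 319), (nat_lit 0x4a114000209), (nat_lit 0xed45d17000ebf)],
  [(nat_lit 7), (nat_lit 0xf93bcf60001fb), (nat_lit 221), (nat_lit 319), (nat_lit 227), (nat_lit 0xe748532000221), (nat_lit 357), (nat_lit 0xf64f12a00136d)],
  [(nat_lit 7), (nat_lit 0xe3439360001fb), (nat_lit 221), (nat_lit 319), (nat_lit 319), (nat_lit 233), (nat_lit 0x12542106000219), (nat_lit 357), (nat_lit 361), (nat_lit 357), (nat_lit 0xee4954000136d)],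
  [(nat_lit 7), (nat_lit 0xf44c51a0001fb), (nat_lit 221), (nat_lit 235), (nat_lit 227), (nat_lit 319), (nat_lit 0xf44b1090001e5), (nat_lit 357), (nat_lit 361), (nat_lit 0x41ce3000eaf)],
  [(nat_lit 7), (nat_lit 0x11d3a5390001fb), (nat_lit 221), (nat_lit 221), (nat_lit 225), (nat_lit 0xf34990b0001fd), (nat_lit 0xe94a114000f29)],
  [(nat_lit 6), (nat_lit 0x4493d0001fb), (nat_lit 221), (nat_lit 317), (nat_lit 227), (nat_lit 319), (nat_lit 0xe94710e0013a3), (nat_lit 0xf13dd1800149d)],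
  [(nat_lit 8), (nat_lit 0x107461130002ff), (nat_lit 259), (nat_lit 245), (nat_lit 257), (nat_lit 0xfa3dd32000559), (nat_lit 0xe34d8ec0012ff)],
  [(nat_lit 8), (nat_lit 0xf34e5140002ff), (nat_lit 245), (nat_lit 259), (nat_lit 247), (nat_lit 257), (nat_lit 0xf14591c0004fd), (nat_lit 357), (nat_lit 361), (nat_lit 0xf341d24000e21)],
  [(nat_lit 8), (nat_lit 0x461290002ff), (nat_lit 245), (nat_lit 259), (nat_lit 247), (nat_lit 257), (nat_lit 0x40d0d0004fd), (nat_lit 357), (nat_lit 0xf4458f5000641)],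
  [(nat_lit 8), (nat_lit 0xe546d3e0002ff), (nat_lit 245), (nat_lit 259), (nat_lit 247), (nat_lit 257), (nat_lit 0x460f10004fd), (nat_lit 361), (nat_lit 0xf246d10001065)],
  [(nat_lit 8), (nat_lit 0xf74912f0002ff), (nat_lit 259), (nat_lit 247), (nat_lit 0xf44d12500010f), (nat_lit 133), (nat_lit 153), (nat_lit 129), (nat_lit 0xf4419090006cb)],
  [(nat_lit 8), (nat_lit 0xf241d190002ff), (nat_lit 259), (nat_lit 245), (nat_lit 249), (nat_lit 257), (nat_lit 0x3b105000525), (nat_lit 357), (nat_lit 361), (nat_lit 357), (nat_lit 0xed4d1110014b7)],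
  [(nat_lit 8), (nat_lit 0xed409110002ff), (nat_lit 257), (nat_lit 245), (nat_lit 259), (nat_lit 0xe947d140005dd), (nat_lit 0xe54f5170007a1)],
  [(nat_lit 8), (nat_lit 0x479290002ff), (nat_lit 257), (nat_lit 247), (nat_lit 0xec4293c000389), (nat_lit 361), (nat_lit 0x1113f117000a45)],
  [(nat_lit 8), (nat_lit 0xe94c5400002ff), (nat_lit 257), (nat_lit 247), (nat_lit 0xfb4d102000389), (nat_lit 0x4e4ff000a23)],
  [(nat_lit 7), (nat_lit 0xf84f8fb0002ff), (nat_lit 245), (nat_lit 259), (nat_lit 0xe54d0f4000585), (nat_lit 361), (nat_lit 357), (nat_lit 0xf243916000797)],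
  [(nat_lit 7), (nat_lit 0xe54f1270002ff), (nat_lit 247), (nat_lit 0x4712c000365), (nat_lit 357), (nat_lit 0x1084151e000a91)],
  [(nat_lit 8), (nat_lit 0xe34392400055f), (nat_lit 247), (nat_lit 257), (nat_lit 0xf94c51c000565), (nat_lit 361), (nat_lit 357), (nat_lit 0xee44134000bad)],
  [(nat_lit 8), (nat_lit 0xe74650c00055f), (nat_lit 247), (nat_lit 257), (nat_lit 0xe34153c000565), (nat_lit 357), (nat_lit 361), (nat_lit 357), (nat_lit 0x4bd2d000651)],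
  [(nat_lit 8), (nat_lit 0xec420e900055f), (nat_lit 0x3d128000545), (nat_lit 361), (nat_lit 0x4bd3700114d)],
  [(nat_lit 8), (nat_lit 0xfc4511600055f), (nat_lit 245), (nat_lit 257), (nat_lit 0xe94f915000345), (nat_lit 361), (nat_lit 357), (nat_lit 0xe343d3c0007e7)],
  [(nat_lit 8), (nat_lit 0x1064a90900055f), (nat_lit 245), (nat_lit 257), (nat_lit 0x10845128000345), (nat_lit 361), (nat_lit 0xe74553e00077d)],
  [(nat_lit 8), (nat_lit 0xe73f11700055f), (nat_lit 245), (nat_lit 257), (nat_lit 0xe54891c000345), (nat_lit 361), (nat_lit 357), (nat_lit 0xed4a505000fe9)],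
  [(nat_lit 8), (nat_lit 0xe74613f00055f), (nat_lit 245), (nat_lit 249), (nat_lit 259), (nat_lit 245), (nat_lit 0x3e4f3000519), (nat_lit 357), (nat_lit 361), (nat_lit 357), (nat_lit 0xfe45532000f15)],
  [(nat_lit 8), (nat_lit 0x3f53e00055f), (nat_lit 245), (nat_lit 259), (nat_lit 247), (nat_lit 0x49d0d00039d), (nat_lit 357), (nat_lit 361), (nat_lit 0xeb49117000e13)],
  [(nat_lit 8), (nat_lit 0xe94b92900055f), (nat_lit 257), (nat_lit 249), (nat_lit 257), (nat_lit 0xf843d2f000359), (nat_lit 357), (nat_lit 361), (nat_lit 357), (nat_lit 0xf44a50b0014c9)],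
  [(nat_lit 8), (nat_lit 0xe348d1d00055f), (nat_lit 257), (nat_lit 249), (nat_lit 257), (nat_lit 0xe548d18000359), (nat_lit 361), (nat_lit 357), (nat_lit 0x10149910001193)],
  [(nat_lit 8), (nat_lit 0x1054bd0d00055f), (nat_lit 257), (nat_lit 249), (nat_lit 257), (nat_lit 0xe949903000359), (nat_lit 357), (nat_lit 361), (nat_lit 357), (nat_lit 0x1034f129000ca9)],
  [(nat_lit 8), (nat_lit 0xf547d0d00055f), (nat_lit 245), (nat_lit 257), (nat_lit 0x4090e0003c1), (nat_lit 361), (nat_lit 0x45cef000a0f)],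
  [(nat_lit 8), (nat_lit 0xe93c53c00055f), (nat_lit 245), (nat_lit 257), (nat_lit 0xe93c9290003c1), (nat_lit 0xf54dd18000fd7)],
  [(nat_lit 8), (nat_lit 0xf44e4ef00055f), (nat_lit 249), (nat_lit 257), (nat_lit 245), (nat_lit 259), (nat_lit 0x4ed0e000501), (nat_lit 357), (nat_lit 0xe73cd2f001071)],
  [(nat_lit 8), (nat_lit 0x1083a53600055f), (nat_lit 249), (nat_lit 257), (nat_lit 245), (nat_lit 259), (nat_lit 0xf14d137000501), (nat_lit 0xef3c8fc000873)],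
  [(nat_lit 8), (nat_lit 0xed4fcf700055f), (nat_lit 259), (nat_lit 249), (nat_lit 0xfc4751f000481), (nat_lit 361), (nat_lit 357), (nat_lit 0x10d4f8fb000be7)],
  [(nat_lit 8), (nat_lit 0xf24ed2600055f), (nat_lit 259), (nat_lit 249), (nat_lit 0x4fce7000481), (nat_lit 0xfa4913600089d)],
  [(nat_lit 8), (nat_lit 0xef4351a00055f), (nat_lit 249), (nat_lit 259), (nat_lit 247), (nat_lit 257), (nat_lit 0xef4a4f6000251), (nat_lit 357), (nat_lit 0x10b5012d000f55)],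
  [(nat_lit 8), (nat_lit 0xeb49cf900055f), (nat_lit 249), (nat_lit 259), (nat_lit 247), (nat_lit 257), (nat_lit 0xe33e93b000251), (nat_lit 0x10e40d190014ad)],
  [(nat_lit 8), (nat_lit 0x1054550800055f), (nat_lit 245), (nat_lit 249), (nat_lit 259), (nat_lit 247), (nat_lit 0x1134c526000589), (nat_lit 357), (nat_lit 361), (nat_lit 357), (nat_lit 0xee4d92b000707)],
  [(nat_lit 8), (nat_lit 0xfb43d2e00055f), (nat_lit 257), (nat_lit 245), (nat_lit 0xf741908000509), (nat_lit 357), (nat_lit 361), (nat_lit 0x43929000b47)],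
  [(nat_lit 8), (nat_lit 0xed490f300055f), (nat_lit 257), (nat_lit 245), (nat_lit 0x10248509000509), (nat_lit 0xf34d92e00060b)],
  [(nat_lit 8), (nat_lit 0xe94fd1000055f), (nat_lit 257), (nat_lit 245), (nat_lit 0xeb464e7000509), (nat_lit 357), (nat_lit 361), (nat_lit 357), (nat_lit 0xf74b10f00138d)],
  [(nat_lit 8), (nat_lit 0xec4d51500055f), (nat_lit 257), (nat_lit 245), (nat_lit 0xf44691c000509), (nat_lit 361), (nat_lit 0xec3d911000d2d)],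
  [(nat_lit 7), (nat_lit 0x1064413a00055f), (nat_lit 249), (nat_lit 259), (nat_lit 247), (nat_lit 0xe54f527000559), (nat_lit 0xeb4090e0012ff)],
  [(nat_lit 7), (nat_lit 0x438f600055f), (nat_lit 257), (nat_lit 247), (nat_lit 259), (nat_lit 0xf84b13e000429), (nat_lit 0x4410d0001d3)],
  [(nat_lit 7), (nat_lit 0xec43d2300055f), (nat_lit 249), (nat_lit 259), (nat_lit 247), (nat_lit 257), (nat_lit 0xf14c939000481), (nat_lit 361), (nat_lit 357), (nat_lit 0x4ad02000be7)],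
  [(nat_lit 7), (nat_lit 0xe946cfc00055f), (nat_lit 249), (nat_lit 257), (nat_lit 245), (nat_lit 0xf24c139000389), (nat_lit 361), (nat_lit 0xe941d33000a45)],
  [(nat_lit 7), (nat_lit 0xf44750300055f), (nat_lit 245), (nat_lit 257), (nat_lit 249), (nat_lit 259), (nat_lit 0x10e47932000135), (nat_lit 125), (nat_lit 155), (nat_lit 141), (nat_lit 167), (nat_lit 0xfa501350001c5)],
  [(nat_lit 7), (nat_lit 0xf63d11c00055f), (nat_lit 259), (nat_lit 245), (nat_lit 0x1084d5220004c5), (nat_lit 357), (nat_lit 361), (nat_lit 357), (nat_lit 0x1104a8f7001339)],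
  [(nat_lit 7), (nat_lit 0x4c91d00055f), (nat_lit 257), (nat_lit 245), (nat_lit 259), (nat_lit 0x1293cd17000315), (nat_lit 357), (nat_lit 0x4451c000d9b)],
  [(nat_lit 9), (nat_lit 0x478f60002d3), (nat_lit 247), (nat_lit 259), (nat_lit 0xf64392c000425), (nat_lit 361), (nat_lit 357), (nat_lit 0x4f937000ae9)],
  [(nat_lit 8), (nat_lit 0xec4a0fc0002d3), (nat_lit 245), (nat_lit 0xec41507000305), (nat_lit 357), (nat_lit 361), (nat_lit 357), (nat_lit 0x4991b001299)],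
  [(nat_lit 8), (nat_lit 0xe746d2a0002d3), (nat_lit 249), (nat_lit 257), (nat_lit 245), (nat_lit 0xee4d4ef0005d5), (nat_lit 0xef4ad3500133d)],
  [(nat_lit 8), (nat_lit 0x1023f0ec0002d3), (nat_lit 249), (nat_lit 257), (nat_lit 245), (nat_lit 0x3ed060005d5), (nat_lit 0xef40535000dc9)],
  [(nat_lit 8), (nat_lit 0xf34e50d0002d3), (nat_lit 249), (nat_lit 257), (nat_lit 245), (nat_lit 0xe74050c0005d5), (nat_lit 357), (nat_lit 361), (nat_lit 357), (nat_lit 0xed4ed2f000e45)],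
  [(nat_lit 8), (nat_lit 0xf646d120002d3), (nat_lit 249), (nat_lit 257), (nat_lit 245), (nat_lit 0xf14d5210005d5), (nat_lit 361), (nat_lit 357), (nat_lit 0x46d3f001411)],
  [(nat_lit 8), (nat_lit 0xee429220002d3), (nat_lit 247), (nat_lit 0x3c92e0003c1), (nat_lit 357), (nat_lit 0xf24a927000dc9)],
  [(nat_lit 8), (nat_lit 0x3951d0002d3), (nat_lit 247), (nat_lit 0xf3471120003c1), (nat_lit 0x40108000833)],
  [(nat_lit 8), (nat_lit 0xed4e5320002d3), (nat_lit 245), (nat_lit 0xe345cfc0002b9), (nat_lit 357), (nat_lit 361), (nat_lit 0xff44d29001159)],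
  [(nat_lit 8), (nat_lit 0x481320002d3), (nat_lit 245), (nat_lit 0xf547d060002b9), (nat_lit 0xf84fd13000bab)],
  [(nat_lit 8), (nat_lit 0xeb489290002d3), (nat_lit 247), (nat_lit 259), (nat_lit 0xe545cfe000425), (nat_lit 357), (nat_lit 361), (nat_lit 357), (nat_lit 0xf44550b000e61)],
  [(nat_lit 8), (nat_lit 0xe94293b0002d3), (nat_lit 247), (nat_lit 259), (nat_lit 0x4e901000425), (nat_lit 0x3d92e0008a1)],
  [(nat_lit 8), (nat_lit 0xf1401150002d3), (nat_lit 259), (nat_lit 245), (nat_lit 249), (nat_lit 257), (nat_lit 0xed41d130004d1), (nat_lit 361), (nat_lit 357), (nat_lit 0xe341922001439)],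
  [(nat_lit 8), (nat_lit 0xf54f1270002d3), (nat_lit 259), (nat_lit 245), (nat_lit 257), (nat_lit 0xeb4292c000351), (nat_lit 0x474e7001495)],
  [(nat_lit 8), (nat_lit 0xf14ad330002d3), (nat_lit 249), (nat_lit 257), (nat_lit 245), (nat_lit 259), (nat_lit 0xf745d300003a5), (nat_lit 0xe54710e000d1d)],
  [(nat_lit 8), (nat_lit 0x1073c4f40002d3), (nat_lit 249), (nat_lit 257), (nat_lit 245), (nat_lit 259), (nat_lit 0xfd4ed0a0003a5), (nat_lit 361), (nat_lit 357), (nat_lit 0xfb4710e00071f)],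
  [(nat_lit 8), (nat_lit 0xf44fd340002d3), (nat_lit 257), (nat_lit 249), (nat_lit 257), (nat_lit 0x4c1090005cd), (nat_lit 0x461080011af)],
  [(nat_lit 8), (nat_lit 0xeb4bd140002d3), (nat_lit 245), (nat_lit 249), (nat_lit 257), (nat_lit 0x4e4f4000469), (nat_lit 0xf94cd3d000a01)],
  [(nat_lit 8), (nat_lit 0xe74c5140002d3), (nat_lit 247), (nat_lit 257), (nat_lit 245), (nat_lit 0xed42513000315), (nat_lit 0xf94ed00001401)],
  [(nat_lit 7), (nat_lit 0x4f91e0002d3), (nat_lit 249), (nat_lit 257), (nat_lit 245), (nat_lit 0xe74892f000581), (nat_lit 0xec4fd10000b63)],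
  [(nat_lit 7), (nat_lit 0xee41cec0002d3), (nat_lit 259), (nat_lit 245), (nat_lit 0xe741d10000595), (nat_lit 361), (nat_lit 357), (nat_lit 0x48137000c69)],
  [(nat_lit 7), (nat_lit 0x3e0e90002d3), (nat_lit 247), (nat_lit 249), (nat_lit 257), (nat_lit 0xe53a535000405), (nat_lit 357), (nat_lit 361), (nat_lit 0xf54a511000f21)],
  [(nat_lit 6), (nat_lit 0x3f5020002d3), (nat_lit 245), (nat_lit 249), (nat_lit 257), (nat_lit 245), (nat_lit 0xed4c13e000299), (nat_lit 361), (nat_lit 0xee449320009e3)],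
  [(nat_lit 6), (nat_lit 0xe53e8f40002d3), (nat_lit 245), (nat_lit 257), (nat_lit 245), (nat_lit 0xfa438fa0005d5), (nat_lit 357), (nat_lit 361), (nat_lit 357), (nat_lit 0xe94f123000caf)],
  [(nat_lit 4), (nat_lit 0x4e50f0003bb), (nat_lit 247), (nat_lit 249), (nat_lit 257), (nat_lit 245), (nat_lit 0x49101000359), (nat_lit 357), (nat_lit 361), (nat_lit 0x10a4051e000e2b)],
  [(nat_lit 8), (nat_lit 0xe54193e0003bb), (nat_lit 247), (nat_lit 249), (nat_lit 0xee4c1000005a1), (nat_lit 361), (nat_lit 357), (nat_lit 0xed3d91e000a3b)],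
  [(nat_lit 8), (nat_lit 0xe74ad1d0003bb), (nat_lit 247), (nat_lit 249), (nat_lit 0xec48940000375), (nat_lit 357), (nat_lit 361), (nat_lit 0xe53f5360012b9)],
  [(nat_lit 8), (nat_lit 0xf343cf10003bb), (nat_lit 245), (nat_lit 249), (nat_lit 257), (nat_lit 245), (nat_lit 0xeb4d51200050d), (nat_lit 357), (nat_lit 0x43122001145)],
  [(nat_lit 8), (nat_lit 0xe33cd360003bb), (nat_lit 245), (nat_lit 249), (nat_lit 257), (nat_lit 245), (nat_lit 0xf34d4f700050d), (nat_lit 357), (nat_lit 361), (nat_lit 0x3a4f800075b)],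
  [(nat_lit 8), (nat_lit 0x41cfe0003bb), (nat_lit 245), (nat_lit 249), (nat_lit 257), (nat_lit 245), (nat_lit 0xf34890900050d), (nat_lit 357), (nat_lit 361), (nat_lit 357), (nat_lit 0xed4c50a001275)],
  [(nat_lit 8), (nat_lit 0xe53c9140003bb), (nat_lit 247), (nat_lit 249), (nat_lit 257), (nat_lit 245), (nat_lit 0x1034fd06000349), (nat_lit 357), (nat_lit 361), (nat_lit 357), (nat_lit 0xe74d8f4000fdd)]]
noncomputable def R13 : List (List ℕ) :=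
  [[(nat_lit 8), (nat_lit 0x434eb0003bb), (nat_lit 257), (nat_lit 249), (nat_lit 259), (nat_lit 0xe54c12e0003e5), (nat_lit 361), (nat_lit 0xf942936000723)],
  [(nat_lit 8), (nat_lit 0x4792d0003bb), (nat_lit 257), (nat_lit 249), (nat_lit 259), (nat_lit 0xec4a5250003e5), (nat_lit 357), (nat_lit 361), (nat_lit 0x45cf3000a43)],
  [(nat_lit 8), (nat_lit 0xf23e9310003bb), (nat_lit 245), (nat_lit 259), (nat_lit 247), (nat_lit 257), (nat_lit 0xec4891400048d), (nat_lit 0xeb3f94000117d)],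
  [(nat_lit 8), (nat_lit 0xe3419070003bb), (nat_lit 245), (nat_lit 259), (nat_lit 247), (nat_lit 257), (nat_lit 0xec4590f00048d), (nat_lit 361), (nat_lit 0xeb4a90900093d)],
  [(nat_lit 8), (nat_lit 0x471170003bb), (nat_lit 249), (nat_lit 259), (nat_lit 0xeb4793d0002c5), (nat_lit 361), (nat_lit 357), (nat_lit 0x4d4eb00020f)],
  [(nat_lit 7), (nat_lit 0xed408ef0003bb), (nat_lit 245), (nat_lit 257), (nat_lit 249), (nat_lit 259), (nat_lit 0xed4e50f000555), (nat_lit 0xf64512a0010d5)],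
  [(nat_lit 6), (nat_lit 0xfd4b5320003bb), (nat_lit 247), (nat_lit 257), (nat_lit 247), (nat_lit 0xe74f936000145), (nat_lit 247), (nat_lit 0xe9460f80005c5)],
  [(nat_lit 6), (nat_lit 0xef4511f0003bb), (nat_lit 245), (nat_lit 259), (nat_lit 245), (nat_lit 0xf84bd220002c5), (nat_lit 361), (nat_lit 0xe9429170015f7)],
  [(nat_lit 4), (nat_lit 0x3b535000273), (nat_lit 245), (nat_lit 259), (nat_lit 247), (nat_lit 0xf24b92a000379), (nat_lit 357), (nat_lit 361), (nat_lit 357), (nat_lit 0xe93b52d001131)],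
  [(nat_lit 8), (nat_lit 0xfd46110000273), (nat_lit 247), (nat_lit 257), (nat_lit 245), (nat_lit 0x449140004a9), (nat_lit 0xe34813d0001e7)],
  [(nat_lit 8), (nat_lit 0xfc3b0ee000273), (nat_lit 247), (nat_lit 257), (nat_lit 245), (nat_lit 0xe5454f80004a9), (nat_lit 357), (nat_lit 0xec4bd10001445)],
  [(nat_lit 8), (nat_lit 0x39d15000273), (nat_lit 247), (nat_lit 259), (nat_lit 0x4952f000571), (nat_lit 361), (nat_lit 357), (nat_lit 0xe5438fa00070b)],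
  [(nat_lit 8), (nat_lit 0xeb45910000273), (nat_lit 247), (nat_lit 0xf948d0b00051d), (nat_lit 361), (nat_lit 0xe9408ee00080b)],
  [(nat_lit 8), (nat_lit 0xee42940000273), (nat_lit 245), (nat_lit 257), (nat_lit 0xf348d310004fd), (nat_lit 357), (nat_lit 361), (nat_lit 0xf8420ec000bf7)],
  [(nat_lit 8), (nat_lit 0xf14b506000273), (nat_lit 245), (nat_lit 257), (nat_lit 0xed485350004fd), (nat_lit 0xfc4151d000ca1)],
  [(nat_lit 8), (nat_lit 0xee48919000273), (nat_lit 245), (nat_lit 257), (nat_lit 249), (nat_lit 0xf34d52b0004e1), (nat_lit 0x46527000ef1)],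
  [(nat_lit 8), (nat_lit 0xec3e534000273), (nat_lit 245), (nat_lit 257), (nat_lit 249), (nat_lit 0xe94f5340004e1), (nat_lit 361), (nat_lit 357), (nat_lit 0xe93d132000f21)],
  [(nat_lit 8), (nat_lit 0xfb41510000273), (nat_lit 249), (nat_lit 257), (nat_lit 245), (nat_lit 259), (nat_lit 0xf54ed1a00031d), (nat_lit 357), (nat_lit 361), (nat_lit 357), (nat_lit 0xe548d33001307)],
  [(nat_lit 8), (nat_lit 0xed3f918000273), (nat_lit 257), (nat_lit 249), (nat_lit 259), (nat_lit 0xe54492d0002c9), (nat_lit 361), (nat_lit 0x3cd14000b9b)],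
  [(nat_lit 8), (nat_lit 0x112000273), (nat_lit 257), (nat_lit 247), (nat_lit 259), (nat_lit 0xe741d13000265), (nat_lit 361), (nat_lit 0xed3dd2d0015f5)],
  [(nat_lit 8), (nat_lit 0x44140000273), (nat_lit 249), (nat_lit 259), (nat_lit 245), (nat_lit 0x45d19000329), (nat_lit 361), (nat_lit 0xef4f52d000bab)],
  [(nat_lit 8), (nat_lit 0xe744935000273), (nat_lit 247), (nat_lit 249), (nat_lit 257), (nat_lit 245), (nat_lit 0xfc479380004d9), (nat_lit 361), (nat_lit 0xf44412d000a13)],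
  [(nat_lit 8), (nat_lit 0x3fd36000273), (nat_lit 245), (nat_lit 259), (nat_lit 0xef4050d00054d), (nat_lit 361), (nat_lit 0xe34d12e00071b)],
  [(nat_lit 8), (nat_lit 0x4d4e7000273), (nat_lit 245), (nat_lit 249), (nat_lit 0xe9441260003ed), (nat_lit 357), (nat_lit 361), (nat_lit 357), (nat_lit 0xe34013100160d)],
  [(nat_lit 8), (nat_lit 0xe94fd19000273), (nat_lit 245), (nat_lit 259), (nat_lit 247), (nat_lit 0xeb47d09000379), (nat_lit 357), (nat_lit 0xeb4b110000cff)],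
  [(nat_lit 8), (nat_lit 0xe94e934000273), (nat_lit 245), (nat_lit 259), (nat_lit 247), (nat_lit 0xfb4ad18000379), (nat_lit 361), (nat_lit 0xf14fd0c0010d9)],
  [(nat_lit 6), (nat_lit 0xeb3cd24000273), (nat_lit 245), (nat_lit 249), (nat_lit 259), (nat_lit 247), (nat_lit 0x3e4f300053d), (nat_lit 361), (nat_lit 357), (nat_lit 0x39d35000f93)],
  [(nat_lit 8), (nat_lit 0xf64c91d00036f), (nat_lit 245), (nat_lit 259), (nat_lit 245), (nat_lit 0xe53ad360004b1), (nat_lit 357), (nat_lit 0xe33d92900149f)],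
  [(nat_lit 8), (nat_lit 0x1014bd3300036f), (nat_lit 259), (nat_lit 245), (nat_lit 257), (nat_lit 0xf44c50c0002d5), (nat_lit 361), (nat_lit 0xe94811b000edf)],
  [(nat_lit 8), (nat_lit 0xe34d51200036f), (nat_lit 259), (nat_lit 245), (nat_lit 249), (nat_lit 0xed4d1290003d9), (nat_lit 357), (nat_lit 361), (nat_lit 0xed468f300127d)],
  [(nat_lit 8), (nat_lit 0xef3b90800036f), (nat_lit 247), (nat_lit 257), (nat_lit 247), (nat_lit 0xee451160002e5), (nat_lit 357), (nat_lit 0xe345107000e6f)],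
  [(nat_lit 8), (nat_lit 0xe34d51b00036f), (nat_lit 247), (nat_lit 257), (nat_lit 249), (nat_lit 0xfc475190003c5), (nat_lit 357), (nat_lit 0xf34713e0014bb)],
  [(nat_lit 8), (nat_lit 0x1084a0fa00036f), (nat_lit 259), (nat_lit 245), (nat_lit 249), (nat_lit 0xf2441070003d1), (nat_lit 361), (nat_lit 357), (nat_lit 0x1073a52e001529)],
  [(nat_lit 4), (nat_lit 0xe3440f90005d3), (nat_lit 245), (nat_lit 249), (nat_lit 257), (nat_lit 0xef48108000399), (nat_lit 361), (nat_lit 357), (nat_lit 0xfb4510100081f)],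
  [(nat_lit 9), (nat_lit 0xfa4412e0005d3), (nat_lit 249), (nat_lit 259), (nat_lit 0xe74d9050003b5), (nat_lit 357), (nat_lit 361), (nat_lit 357), (nat_lit 0xf24d51e000851)],
  [(nat_lit 8), (nat_lit 0xfd4b53d0005d3), (nat_lit 245), (nat_lit 249), (nat_lit 257), (nat_lit 0xf4470eb000399), (nat_lit 0xf2409060011d7)],
  [(nat_lit 8), (nat_lit 0xe73d11f0005d3), (nat_lit 245), (nat_lit 249), (nat_lit 257), (nat_lit 0xe73d124000399), (nat_lit 361), (nat_lit 357), (nat_lit 0xeb3ed21000e83)],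
  [(nat_lit 8), (nat_lit 0xf93d0ff0005d3), (nat_lit 0x3cd1d000163), (nat_lit 259), (nat_lit 247), (nat_lit 257), (nat_lit 0x10a5010f00014d)],
  [(nat_lit 8), (nat_lit 0xeb4a8f40005d3), (nat_lit 245), (nat_lit 259), (nat_lit 245), (nat_lit 0xf64c105000361), (nat_lit 361), (nat_lit 0xff4cd18000d0b)],
  [(nat_lit 8), (nat_lit 0xe5471330005d3), (nat_lit 245), (nat_lit 259), (nat_lit 245), (nat_lit 0xe53c52d000361), (nat_lit 0x10b50101001653)],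
  [(nat_lit 8), (nat_lit 0xf34f1380005d3), (nat_lit 259), (nat_lit 245), (nat_lit 249), (nat_lit 257), (nat_lit 0xe54f1280002d9), (nat_lit 357), (nat_lit 361), (nat_lit 357), (nat_lit 0xef41508001381)],
  [(nat_lit 8), (nat_lit 0xec4593b0005d3), (nat_lit 245), (nat_lit 259), (nat_lit 245), (nat_lit 0x4d93e000395), (nat_lit 357), (nat_lit 361), (nat_lit 357), (nat_lit 0x4e106000eff)],
  [(nat_lit 8), (nat_lit 0xe94153c0005d3), (nat_lit 249), (nat_lit 259), (nat_lit 0xf3405390003b5), (nat_lit 357), (nat_lit 361), (nat_lit 0xeb45d2a0009d3)],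
  [(nat_lit 8), (nat_lit 0x1144cd330005d3), (nat_lit 245), (nat_lit 257), (nat_lit 0xe94a135000255), (nat_lit 0xec45d1a000d6d)],
  [(nat_lit 8), (nat_lit 0x4e9080005d3), (nat_lit 245), (nat_lit 257), (nat_lit 245), (nat_lit 0xf546cfd000261), (nat_lit 361), (nat_lit 0xf3424f1000859)],
  [(nat_lit 8), (nat_lit 0xfa4c9240005d3), (nat_lit 245), (nat_lit 257), (nat_lit 245), (nat_lit 0x4b93f000261), (nat_lit 0xeb47d1f000ad1)],
  [(nat_lit 8), (nat_lit 0xe34bd180005d3), (nat_lit 249), (nat_lit 257), (nat_lit 0xec4891e000389), (nat_lit 357), (nat_lit 361), (nat_lit 357), (nat_lit 0x4312a00066d)],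
  [(nat_lit 8), (nat_lit 0xe74b4f20005d3), (nat_lit 249), (nat_lit 257), (nat_lit 0xfe4613a000389), (nat_lit 0xeb4e129000987)],
  [(nat_lit 8), (nat_lit 0xf9489400005d3), (nat_lit 249), (nat_lit 257), (nat_lit 0x4c10a000389), (nat_lit 357), (nat_lit 361), (nat_lit 357), (nat_lit 0xeb43d230016c5)],
  [(nat_lit 7), (nat_lit 0xe53d11a0005d3), (nat_lit 245), (nat_lit 259), (nat_lit 0x1024ed2400044d), (nat_lit 0xee425190011cb)],
  [(nat_lit 7), (nat_lit 0xed4b9070005d3), (nat_lit 245), (nat_lit 249), (nat_lit 0xed4052d0003b9), (nat_lit 357), (nat_lit 0x46114000c59)],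
  [(nat_lit 7), (nat_lit 0xe94a50d0005d3), (nat_lit 0xe94e9010002a1), (nat_lit 357), (nat_lit 361), (nat_lit 0x3e1330008a1)],
  [(nat_lit 3), (nat_lit 0xed4013e0005d3), (nat_lit 259), (nat_lit 245), (nat_lit 249), (nat_lit 257), (nat_lit 0xe74a1290005e5)],
  [(nat_lit 8), (nat_lit 0xeb459090003cf), (nat_lit 245), (nat_lit 257), (nat_lit 0xf14d53c000291), (nat_lit 361), (nat_lit 357), (nat_lit 0xe942136000ff5)],
  [(nat_lit 8), (nat_lit 0xf74d4ff0003cf), (nat_lit 257), (nat_lit 247), (nat_lit 259), (nat_lit 0x4813f0005c9), (nat_lit 361), (nat_lit 357), (nat_lit 0xf450128000b25)],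
  [(nat_lit 8), (nat_lit 0x419030003cf), (nat_lit 257), (nat_lit 0xe53ed28000275), (nat_lit 0xe54593e0016d9)],
  [(nat_lit 8), (nat_lit 0xeb4012c0003cf), (nat_lit 245), (nat_lit 257), (nat_lit 245), (nat_lit 0xef4151c000281), (nat_lit 0xe5418eb000187)],
  [(nat_lit 8), (nat_lit 0xe34f1080003cf), (nat_lit 247), (nat_lit 257), (nat_lit 249), (nat_lit 0xf64b4f2000279), (nat_lit 357), (nat_lit 361), (nat_lit 357), (nat_lit 0xed470f5000987)],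
  [(nat_lit 6), (nat_lit 0xed3e8ed0003cf), (nat_lit 259), (nat_lit 247), (nat_lit 0xf345132000133), (nat_lit 259), (nat_lit 245), (nat_lit 0xeb4cd40000441)],
  [(nat_lit 8), (nat_lit 0xe53e53e0003ef), (nat_lit 259), (nat_lit 245), (nat_lit 257), (nat_lit 0xe54e1360005b9), (nat_lit 0xe34b8e70006bf)],
  [(nat_lit 8), (nat_lit 0xed431290003ef), (nat_lit 249), (nat_lit 0xf844cfb0005f1), (nat_lit 357), (nat_lit 0x10645d17000839)],
  [(nat_lit 8), (nat_lit 0xeb41d220003ef), (nat_lit 245), (nat_lit 249), (nat_lit 259), (nat_lit 245), (nat_lit 0xe94291e000361), (nat_lit 357), (nat_lit 361), (nat_lit 0xeb489400009f5)],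
  [(nat_lit 8), (nat_lit 0xed4d8ec0003ef), (nat_lit 245), (nat_lit 249), (nat_lit 259), (nat_lit 245), (nat_lit 0x40910000361), (nat_lit 357), (nat_lit 361), (nat_lit 357), (nat_lit 0x10e4a9220009b1)],
  [(nat_lit 8), (nat_lit 0xeb43d3f0003ef), (nat_lit 247), (nat_lit 257), (nat_lit 249), (nat_lit 259), (nat_lit 0xeb45d28000349), (nat_lit 0x10d43d170001b7)],
  [(nat_lit 8), (nat_lit 0xec441260003ef), (nat_lit 259), (nat_lit 247), (nat_lit 257), (nat_lit 0xec4a93a000595), (nat_lit 357), (nat_lit 361), (nat_lit 357), (nat_lit 0xec4652300070f)],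
  [(nat_lit 8), (nat_lit 0xe94711c0003ef), (nat_lit 259), (nat_lit 247), (nat_lit 257), (nat_lit 0xe34d911000595), (nat_lit 361), (nat_lit 0xf64ed2d00107d)],
  [(nat_lit 7), (nat_lit 0xe5449080003ef), (nat_lit 0xe74d4f70005d9), (nat_lit 361), (nat_lit 357), (nat_lit 0xe74492700070b)],
  [(nat_lit 7), (nat_lit 0xe746d0f0003ef), (nat_lit 247), (nat_lit 259), (nat_lit 245), (nat_lit 0x107485090004dd), (nat_lit 357), (nat_lit 0x42134000eb7)],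
  [(nat_lit 7), (nat_lit 0xeb461290002a7), (nat_lit 247), (nat_lit 249), (nat_lit 0xf44d925000345), (nat_lit 0xee45d31000f83)],
  [(nat_lit 7), (nat_lit 0xee4212d0002a7), (nat_lit 259), (nat_lit 0xee4d129000591), (nat_lit 0xf547908000e3d)],
  [(nat_lit 4), (nat_lit 0x1023f1050002af), (nat_lit 245), (nat_lit 259), (nat_lit 247), (nat_lit 257), (nat_lit 0xf74e4f3000485), (nat_lit 357), (nat_lit 361), (nat_lit 357), (nat_lit 0xf54591d001605)],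
  [(nat_lit 8), (nat_lit 0xf24c13900041f), (nat_lit 245), (nat_lit 257), (nat_lit 247), (nat_lit 259), (nat_lit 0xe947d0f000521), (nat_lit 361), (nat_lit 0x3e5200009c5)],
  [(nat_lit 8), (nat_lit 0x10b4f13600041f), (nat_lit 0xef41cec000561), (nat_lit 357), (nat_lit 361), (nat_lit 0xe9458ef000df1)],
  [(nat_lit 8), (nat_lit 0x3f52200041f), (nat_lit 247), (nat_lit 249), (nat_lit 257), (nat_lit 0xe34b8e9000355), (nat_lit 361), (nat_lit 357), (nat_lit 0xf74613e001099)],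
  [(nat_lit 8), (nat_lit 0x484fe00041f), (nat_lit 247), (nat_lit 249), (nat_lit 257), (nat_lit 0x4212a000355), (nat_lit 0x4fd0d0010ef)],
  [(nat_lit 8), (nat_lit 0x4850200041f), (nat_lit 259), (nat_lit 245), (nat_lit 249), (nat_lit 257), (nat_lit 0x4512a000149), (nat_lit 129), (nat_lit 153), (nat_lit 167), (nat_lit 0x1034810d0010e7)],
  [(nat_lit 8), (nat_lit 0xf44b10900041f), (nat_lit 247), (nat_lit 249), (nat_lit 257), (nat_lit 245), (nat_lit 0xe946531000535), (nat_lit 357), (nat_lit 361), (nat_lit 357), (nat_lit 0xec5011f001035)],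
  [(nat_lit 6), (nat_lit 0xe74451a00041f), (nat_lit 247), (nat_lit 257), (nat_lit 0xe54511a000569), (nat_lit 357), (nat_lit 361), (nat_lit 0xef4b13b000f49)],
  [(nat_lit 8), (nat_lit 0xe93e4f2000187), (nat_lit 129), (nat_lit 141), (nat_lit 165), (nat_lit 0xe34c10b00174f), (nat_lit 357), (nat_lit 361), (nat_lit 357), (nat_lit 0xe53cd0e00093b)],
  [(nat_lit 8), (nat_lit 0xe94ed3a000187), (nat_lit 129), (nat_lit 141), (nat_lit 165), (nat_lit 0xe34611300174f), (nat_lit 357), (nat_lit 361), (nat_lit 0xe53b53a000b1f)],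
  [(nat_lit 8), (nat_lit 0xe33fd14000187), (nat_lit 125), (nat_lit 155), (nat_lit 165), (nat_lit 129), (nat_lit 0xe93b508000105), (nat_lit 245), (nat_lit 249), (nat_lit 259), (nat_lit 0x4891f000435)],
  [(nat_lit 6), (nat_lit 0xed4490f000187), (nat_lit 133), (nat_lit 167), (nat_lit 0xeb3e1200010f3), (nat_lit 357), (nat_lit 0xe33952800132b)],
  [(nat_lit 8), (nat_lit 0xfc48ceb00028f), (nat_lit 259), (nat_lit 245), (nat_lit 0xef4712a000485), (nat_lit 361), (nat_lit 357), (nat_lit 0xe550124000ce1)],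
  [(nat_lit 4), (nat_lit 0xe54b13e0001f3), (nat_lit 221), (nat_lit 319), (nat_lit 233), (nat_lit 317), (nat_lit 0xe53e5230001e9), (nat_lit 361), (nat_lit 357), (nat_lit 0xe74f51b000d27)],
  [(nat_lit 8), (nat_lit 0x4bd3b0001f3), (nat_lit 221), (nat_lit 225), (nat_lit 235), (nat_lit 0x4f52b001663), (nat_lit 0xee4a936000ea7)],
  [(nat_lit 8), (nat_lit 0x1134b50f0001f3), (nat_lit 221), (nat_lit 319), (nat_lit 233), (nat_lit 317), (nat_lit 0xe34a8f90001e9), (nat_lit 357), (nat_lit 361), (nat_lit 357), (nat_lit 0x420ec0008d1)],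
  [(nat_lit 8), (nat_lit 0xe94cd2e000473), (nat_lit 259), (nat_lit 0xe948d0d0003c5), (nat_lit 357), (nat_lit 0x3e936000c37)],
  [(nat_lit 8), (nat_lit 0x4b91d000473), (nat_lit 259), (nat_lit 247), (nat_lit 0xe74d92e000515), (nat_lit 0xff48110001101)],
  [(nat_lit 7), (nat_lit 0x44d3f000473), (nat_lit 257), (nat_lit 0x10145d15000315), (nat_lit 357), (nat_lit 361), (nat_lit 357), (nat_lit 0xf14f13e000e19)],
  [(nat_lit 8), (nat_lit 0xed3f90d0005fb), (nat_lit 245), (nat_lit 257), (nat_lit 247), (nat_lit 259), (nat_lit 0x1094b0f3000295), (nat_lit 0xef48939000df1)],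
  [(nat_lit 8), (nat_lit 0xeb4bd2c000467), (nat_lit 249), (nat_lit 259), (nat_lit 247), (nat_lit 0xe54450d0002b1), (nat_lit 357), (nat_lit 0xe54ed12000929)],
  [(nat_lit 8), (nat_lit 0x10d46503000467), (nat_lit 259), (nat_lit 249), (nat_lit 0xe33d13d0003c5), (nat_lit 0x4f53a001611)],
  [(nat_lit 7), (nat_lit 0xe93b540000467), (nat_lit 247), (nat_lit 249), (nat_lit 257), (nat_lit 0x10c4a5210003ed), (nat_lit 0xeb4811d0009a5)],
  [(nat_lit 6), (nat_lit 0xe34f510000467), (nat_lit 257), (nat_lit 247), (nat_lit 0xe34d52200015d), (nat_lit 257), (nat_lit 245), (nat_lit 0xf94c8f3000389)],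
  [(nat_lit 6), (nat_lit 0xe7404f2000467), (nat_lit 245), (nat_lit 259), (nat_lit 0xe949d290004e5), (nat_lit 361), (nat_lit 357), (nat_lit 0xf341cf900150d)],
  [(nat_lit 6), (nat_lit 0x394ee000467), (nat_lit 247), (nat_lit 257), (nat_lit 0xee420ed000133), (nat_lit 247), (nat_lit 257), (nat_lit 0xfb4b501000359)],
  [(nat_lit 8), (nat_lit 0xf23e91c0002bb), (nat_lit 259), (nat_lit 247), (nat_lit 257), (nat_lit 0xe5484fe0004d9), (nat_lit 357), (nat_lit 361), (nat_lit 0x1114a9360007b5)],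
  [(nat_lit 7), (nat_lit 0x3f8e90002bb), (nat_lit 257), (nat_lit 245), (nat_lit 0x3f52d00047d), (nat_lit 361), (nat_lit 0xed4d93d0015f5)],
  [(nat_lit 8), (nat_lit 0x3c4f4000503), (nat_lit 249), (nat_lit 257), (nat_lit 0xf54493e0004c1), (nat_lit 357), (nat_lit 361), (nat_lit 357), (nat_lit 0x1013f93c0009d1)],
  [(nat_lit 8), (nat_lit 0xe74153a0002f3), (nat_lit 247), (nat_lit 257), (nat_lit 249), (nat_lit 0x10b48132000415), (nat_lit 357), (nat_lit 0x10e4093900064b)],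
  [(nat_lit 8), (nat_lit 0xe9439250002f3), (nat_lit 249), (nat_lit 257), (nat_lit 245), (nat_lit 259), (nat_lit 0xf93a5000005ed), (nat_lit 357), (nat_lit 361), (nat_lit 357), (nat_lit 0xed4793500072d)],
  [(nat_lit 7), (nat_lit 0xfc4e4f90002f3), (nat_lit 247), (nat_lit 249), (nat_lit 257), (nat_lit 0xf93ed38000571), (nat_lit 361), (nat_lit 357), (nat_lit 0xe33d115000731)],
  [(nat_lit 7), (nat_lit 0x4b9320004bb), (nat_lit 247), (nat_lit 249), (nat_lit 257), (nat_lit 245), (nat_lit 0xf54b13600043d), (nat_lit 0x4d10c0001b7)],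
  [(nat_lit 7), (nat_lit 0xf54611000024f), (nat_lit 245), (nat_lit 249), (nat_lit 259), (nat_lit 247), (nat_lit 0xf13f120000509), (nat_lit 0xf43dd0500060b)],
  [(nat_lit 8), (nat_lit 0xe54990d000207), (nat_lit 0x448f3000123), (nat_lit 247), (nat_lit 257), (nat_lit 245), (nat_lit 0xf64812800014d)],
  [(nat_lit 8), (nat_lit 0x4a93a0004f3), (nat_lit 257), (nat_lit 247), (nat_lit 259), (nat_lit 0x3b105000479), (nat_lit 0xe54791f000f35)],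
  [(nat_lit 8), (nat_lit 0xfb499100000ed), (nat_lit 235), (nat_lit 0x1004d105000209), (nat_lit 357), (nat_lit 361), (nat_lit 0xef4c93f0016e5)],
  [(nat_lit 1), (nat_lit 0xee00001f), (nat_lit 85), (nat_lit 81), (nat_lit 85), (nat_lit 81), (nat_lit 29)],
  [(nat_lit 1), (nat_lit 0xe900001f), (nat_lit 87), (nat_lit 97), (nat_lit 87), (nat_lit 83), (nat_lit 99), (nat_lit 29)],
  [(nat_lit 8), (nat_lit 0xe900000b), (nat_lit 53), (nat_lit 57), (nat_lit 61), (nat_lit 53), (nat_lit 67), (nat_lit 69), (nat_lit 61), (nat_lit 57), (nat_lit 61), (nat_lit 53), (nat_lit 0x1003ed24000065), (nat_lit 81), (nat_lit 81), (nat_lit 97), (nat_lit 79), (nat_lit 0xe73cd0300001d)],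
  [(nat_lit 0x5156365001), (nat_lit 0x38ce7001807), (nat_lit 97), (nat_lit 97), (nat_lit 97), (nat_lit 0xe74153600001d)],
  [(nat_lit 7), (nat_lit 0xed3f0f2000067), (nat_lit 53), (nat_lit 63), (nat_lit 57), (nat_lit 61), (nat_lit 57), (nat_lit 67), (nat_lit 0xf64711a000065), (nat_lit 91), (nat_lit 97), (nat_lit 79), (nat_lit 81), (nat_lit 0xee4dd3d00001d)],
  [(nat_lit 0x5354a67001), (nat_lit 0xe3488f400180f), (nat_lit 77), (nat_lit 81), (nat_lit 99), (nat_lit 79), (nat_lit 85), (nat_lit 0xef3b13e00001d)]]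
noncomputable def R14 : List (List ℕ) :=
  [[(nat_lit 8), (nat_lit 0xe53d0ef00000f), (nat_lit 49), (nat_lit 61), (nat_lit 53), (nat_lit 61), (nat_lit 69), (nat_lit 63), (nat_lit 57), (nat_lit 65), (nat_lit 0x1074d91f000065), (nat_lit 77), (nat_lit 117), (nat_lit 79), (nat_lit 79), (nat_lit 119), (nat_lit 0x1093ed1100001d)],
  [(nat_lit 5), (nat_lit 0xec3f13a00016d), (nat_lit 0xeb4753b00017f), (nat_lit 155), (nat_lit 167), (nat_lit 0x44d27001815)],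
  [(nat_lit 4), (nat_lit 0xe7000013), (nat_lit 65), (nat_lit 69), (nat_lit 61), (nat_lit 53), (nat_lit 57), (nat_lit 63), (nat_lit 0xfd4c4fa000065), (nat_lit 79), (nat_lit 97), (nat_lit 77), (nat_lit 91), (nat_lit 0xe33d0f200001d)],
  [(nat_lit 9), (nat_lit 0xe7000013), (nat_lit 65), (nat_lit 69), (nat_lit 61), (nat_lit 53), (nat_lit 57), (nat_lit 63), (nat_lit 0xfd4c4fa000065), (nat_lit 97), (nat_lit 79), (nat_lit 85), (nat_lit 85), (nat_lit 0x4293600001d)],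
  [(nat_lit 8), (nat_lit 0xf442d3d000013), (nat_lit 53), (nat_lit 57), (nat_lit 63), (nat_lit 57), (nat_lit 63), (nat_lit 67), (nat_lit 0x3950c000011), (nat_lit 0xf345d3500181d)],
  [(nat_lit 8), (nat_lit 0xeb45922000013), (nat_lit 65), (nat_lit 69), (nat_lit 61), (nat_lit 53), (nat_lit 57), (nat_lit 63), (nat_lit 0xfc434ed000065), (nat_lit 79), (nat_lit 99), (nat_lit 79), (nat_lit 99), (nat_lit 77), (nat_lit 0xe94c50600001d)],
  [(nat_lit 3), (nat_lit 0xed0000f1), (nat_lit 0xee4193500181d)],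
  [(nat_lit 8), (nat_lit 0xf74853d000123), (nat_lit 0xe74851b000135), (nat_lit 167), (nat_lit 141), (nat_lit 0xe34610d001819)],
  [(nat_lit 8), (nat_lit 0x10b500f2000129), (nat_lit 249), (nat_lit 259), (nat_lit 247), (nat_lit 0xf43fd13000113), (nat_lit 221), (nat_lit 221), (nat_lit 221), (nat_lit 0xed4894000182d)],
  [(nat_lit 8), (nat_lit 0x3b914000017), (nat_lit 53), (nat_lit 69), (nat_lit 61), (nat_lit 57), (nat_lit 61), (nat_lit 57), (nat_lit 0x3ccfc000011), (nat_lit 0xeb48d2f001821)],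
  [(nat_lit 8), (nat_lit 0xfa4590d000017), (nat_lit 53), (nat_lit 69), (nat_lit 61), (nat_lit 57), (nat_lit 61), (nat_lit 57), (nat_lit 0xe54dd07000011), (nat_lit 223), (nat_lit 0xe54ed2500181d)],
  [(nat_lit 9), (nat_lit 0x3d93d000107), (nat_lit 125), (nat_lit 137), (nat_lit 165), (nat_lit 155), (nat_lit 0xeb46126000159), (nat_lit 247), (nat_lit 259), (nat_lit 245), (nat_lit 0x3d4f4001839)],
  [(nat_lit 5), (nat_lit 0xe34c8f7000107), (nat_lit 0xf14ed0200009f), (nat_lit 91), (nat_lit 99), (nat_lit 119), (nat_lit 99), (nat_lit 0x4952d00001d)],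
  [(nat_lit 8), (nat_lit 0xe53e13a000107), (nat_lit 133), (nat_lit 0xe33b8f6000105), (nat_lit 247), (nat_lit 249), (nat_lit 0x4991a001841)],
  [(nat_lit 8), (nat_lit 0xf64bd3100027d), (nat_lit 361), (nat_lit 0xe5414fa0001e3), (nat_lit 221), (nat_lit 235), (nat_lit 221), (nat_lit 0xe94ad09001829)],
  [(nat_lit 8), (nat_lit 0xe34a51100027d), (nat_lit 361), (nat_lit 0xe34a4ec0001e3), (nat_lit 227), (nat_lit 235), (nat_lit 317), (nat_lit 0xef4d901001831)],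
  [(nat_lit 8), (nat_lit 0xfc4790c00027d), (nat_lit 361), (nat_lit 0xed4211800025b), (nat_lit 249), (nat_lit 257), (nat_lit 245), (nat_lit 259), (nat_lit 0xe34bd1000183d)],
  [(nat_lit 6), (nat_lit 0x3d50a00027d), (nat_lit 357), (nat_lit 0xe345514000193), (nat_lit 125), (nat_lit 133), (nat_lit 155), (nat_lit 0xed4bd05001815)],
  [(nat_lit 6), (nat_lit 0xee3d92400027d), (nat_lit 357), (nat_lit 0xec3a53600016f), (nat_lit 155), (nat_lit 129), (nat_lit 167), (nat_lit 0xe348d22001815)],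
  [(nat_lit 4), (nat_lit 0x38cf4000281), (nat_lit 357), (nat_lit 0xe5484fb0001f3), (nat_lit 221), (nat_lit 233), (nat_lit 223), (nat_lit 0xe54cd2300182d)],
  [(nat_lit 4), (nat_lit 0xf64550f000239), (nat_lit 357), (nat_lit 361), (nat_lit 0x4253c00020f), (nat_lit 235), (nat_lit 0xed4253c001831)],
  [(nat_lit 5), (nat_lit 0xe949d34000239), (nat_lit 0xed47d2e00027b), (nat_lit 247), (nat_lit 257), (nat_lit 249), (nat_lit 0xe93dd11001865)],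
  [(nat_lit 8), (nat_lit 0xf24091e000239), (nat_lit 361), (nat_lit 0xe94c10f00023f), (nat_lit 259), (nat_lit 245), (nat_lit 0xed40924001845)],
  [(nat_lit 8), (nat_lit 0xef470fc00036d), (nat_lit 361), (nat_lit 0xed420ec0003f7), (nat_lit 247), (nat_lit 257), (nat_lit 249), (nat_lit 259), (nat_lit 0x46138001865)],
  [(nat_lit 8), (nat_lit 0xe34e917000131), (nat_lit 259), (nat_lit 0x420ff000113), (nat_lit 221), (nat_lit 221), (nat_lit 221), (nat_lit 0x450fe00182d)],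
  [(nat_lit 8), (nat_lit 0xe540515000385), (nat_lit 361), (nat_lit 0xe54d93300043b), (nat_lit 257), (nat_lit 0x3ad26001869)],
  [(nat_lit 8), (nat_lit 0xf34bce7000385), (nat_lit 357), (nat_lit 0xf34cd2300024b), (nat_lit 245), (nat_lit 257), (nat_lit 247), (nat_lit 0xe9454e9001869)],
  [(nat_lit 7), (nat_lit 0x49532000445), (nat_lit 361), (nat_lit 357), (nat_lit 0xf546d210003ef), (nat_lit 257), (nat_lit 245), (nat_lit 259), (nat_lit 0x10b4c52000186d)],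
  [(nat_lit 8), (nat_lit 0xe73bd33000471), (nat_lit 357), (nat_lit 361), (nat_lit 0xf648138000543), (nat_lit 245), (nat_lit 257), (nat_lit 249), (nat_lit 0x4cd0d001865)],
  [(nat_lit 5), (nat_lit 0x11e4c52b0002c1), (nat_lit 361), (nat_lit 0xe34a50d0017e9), (nat_lit 137), (nat_lit 155), (nat_lit 165), (nat_lit 0x4c136001819)],
  [(nat_lit 5), (nat_lit 0xeb4a532000495), (nat_lit 357), (nat_lit 361), (nat_lit 0x1063a513000427), (nat_lit 249), (nat_lit 257), (nat_lit 0xfe4b4fc00187d)],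
  [(nat_lit 5), (nat_lit 0xe346533000495), (nat_lit 0x4c9080004e3), (nat_lit 259), (nat_lit 245), (nat_lit 257), (nat_lit 0xf44491e00184d)],
  [(nat_lit 8), (nat_lit 0xe54314000037d), (nat_lit 361), (nat_lit 0xe339d320005eb), (nat_lit 249), (nat_lit 0x4a53a001881)],
  [(nat_lit 8), (nat_lit 0xe546d3800046d), (nat_lit 0xee3d9280017f5), (nat_lit 165), (nat_lit 141), (nat_lit 0xf44990c001819)],
  [(nat_lit 5), (nat_lit 0xee4514000001b), (nat_lit 57), (nat_lit 61), (nat_lit 57), (nat_lit 63), (nat_lit 57), (nat_lit 0xeb4a90700000d), (nat_lit 165), (nat_lit 125), (nat_lit 167), (nat_lit 0xef49d3b001819)],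
  [(nat_lit 5), (nat_lit 0xe73f10e00001b), (nat_lit 57), (nat_lit 61), (nat_lit 57), (nat_lit 63), (nat_lit 57), (nat_lit 0xe54f12000000d), (nat_lit 125), (nat_lit 153), (nat_lit 133), (nat_lit 0xe740d1a001819)],
  [(nat_lit 8), (nat_lit 0xed4952000001b), (nat_lit 65), (nat_lit 69), (nat_lit 61), (nat_lit 57), (nat_lit 63), (nat_lit 57), (nat_lit 67), (nat_lit 0x444f1000019), (nat_lit 0x4713900189d)],
  [(nat_lit 8), (nat_lit 0x4bd1c00001b), (nat_lit 65), (nat_lit 69), (nat_lit 61), (nat_lit 57), (nat_lit 63), (nat_lit 57), (nat_lit 67), (nat_lit 0xe54cd2b000019), (nat_lit 357), (nat_lit 0x118435180018a1)],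
  [(nat_lit 8), (nat_lit 0xf23e91c00001b), (nat_lit 69), (nat_lit 65), (nat_lit 69), (nat_lit 61), (nat_lit 57), (nat_lit 63), (nat_lit 57), (nat_lit 0xe33d124000019), (nat_lit 0xee4bd2c0018a1)],
  [(nat_lit 8), (nat_lit 0xe34c11d00001b), (nat_lit 69), (nat_lit 65), (nat_lit 69), (nat_lit 61), (nat_lit 57), (nat_lit 63), (nat_lit 57), (nat_lit 0xec4892a000019), (nat_lit 357), (nat_lit 0xf24fd1d00189d)],
  [(nat_lit 8), (nat_lit 0xf14cd2200001b), (nat_lit 57), (nat_lit 69), (nat_lit 67), (nat_lit 69), (nat_lit 61), (nat_lit 57), (nat_lit 63), (nat_lit 0x3dd38000019), (nat_lit 0xe35012700189d)],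
  [(nat_lit 8), (nat_lit 0xec470ff00001b), (nat_lit 57), (nat_lit 69), (nat_lit 67), (nat_lit 69), (nat_lit 61), (nat_lit 57), (nat_lit 63), (nat_lit 0xef43d31000019), (nat_lit 357), (nat_lit 0xe53e9160018a1)],
  [(nat_lit 8), (nat_lit 0x39d1400001b), (nat_lit 57), (nat_lit 67), (nat_lit 69), (nat_lit 63), (nat_lit 57), (nat_lit 61), (nat_lit 57), (nat_lit 67), (nat_lit 0xeb4bd0f000011), (nat_lit 223), (nat_lit 0xf24912e001821)],
  [(nat_lit 8), (nat_lit 0xfd46d1400001b), (nat_lit 57), (nat_lit 67), (nat_lit 69), (nat_lit 63), (nat_lit 57), (nat_lit 61), (nat_lit 57), (nat_lit 67), (nat_lit 0xed424f3000011), (nat_lit 223), (nat_lit 0xef4652300181d)],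
  [(nat_lit 5), (nat_lit 0xe54d52100060d), (nat_lit 0x4f0fe000173), (nat_lit 125), (nat_lit 129), (nat_lit 141), (nat_lit 155), (nat_lit 0x10547d29001819)],
  [(nat_lit 8), (nat_lit 0xec4ccee00060d), (nat_lit 0xe93b927000173), (nat_lit 129), (nat_lit 155), (nat_lit 133), (nat_lit 0xe34a538001819)],
  [(nat_lit 7), (nat_lit 0xe93b93900060d), (nat_lit 361), (nat_lit 357), (nat_lit 0xe74013c0014ad), (nat_lit 0xfa3a5120018c5)],
  [(nat_lit 6), (nat_lit 0xe53cd0c00060d), (nat_lit 361), (nat_lit 357), (nat_lit 0xe948cfd00047b), (nat_lit 245), (nat_lit 249), (nat_lit 0xe343d30001899)],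
  [(nat_lit 6), (nat_lit 0x4393500060d), (nat_lit 361), (nat_lit 357), (nat_lit 0xec4a93b000473), (nat_lit 259), (nat_lit 245), (nat_lit 249), (nat_lit 257), (nat_lit 0xec4b502001899)],
  [(nat_lit 6), (nat_lit 0xf3414f100060d), (nat_lit 361), (nat_lit 357), (nat_lit 0xe93e4fd00055f), (nat_lit 245), (nat_lit 259), (nat_lit 0xf34f134001899)],
  [(nat_lit 6), (nat_lit 0xe74c92000060d), (nat_lit 357), (nat_lit 361), (nat_lit 357), (nat_lit 0xed4dd000005d3), (nat_lit 259), (nat_lit 245), (nat_lit 249), (nat_lit 257), (nat_lit 0x4e136001899)],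
  [(nat_lit 6), (nat_lit 0x38cf60005fd), (nat_lit 361), (nat_lit 0xee4c520000217), (nat_lit 223), (nat_lit 233), (nat_lit 225), (nat_lit 317), (nat_lit 0x488fd00182d)],
  [(nat_lit 6), (nat_lit 0xe90005fd), (nat_lit 0xe53b93f00022f), (nat_lit 221), (nat_lit 225), (nat_lit 223), (nat_lit 0xed4312900182d)],
  [(nat_lit 6), (nat_lit 0x3b4ef0005fd), (nat_lit 0x10345d1000021f), (nat_lit 221), (nat_lit 225), (nat_lit 223), (nat_lit 0x3b93600182d)],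
  [(nat_lit 7), (nat_lit 0x3b0f1000687), (nat_lit 357), (nat_lit 361), (nat_lit 357), (nat_lit 0xee4991400141d), (nat_lit 361), (nat_lit 357), (nat_lit 0xf34851a0018bd)],
  [(nat_lit 7), (nat_lit 0x3b4f4000687), (nat_lit 361), (nat_lit 357), (nat_lit 0xf14a52300036b), (nat_lit 245), (nat_lit 249), (nat_lit 259), (nat_lit 245), (nat_lit 0xeb41cf9001839)],
  [(nat_lit 8), (nat_lit 0x418f7000601), (nat_lit 357), (nat_lit 0x10f4153c0002b3), (nat_lit 257), (nat_lit 247), (nat_lit 0xff4a52d00187d)],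
  [(nat_lit 8), (nat_lit 0xe74c922000601), (nat_lit 361), (nat_lit 357), (nat_lit 0xeb3f92100040f), (nat_lit 247), (nat_lit 249), (nat_lit 257), (nat_lit 0xec4690f001855)],
  [(nat_lit 8), (nat_lit 0xfb45d22000601), (nat_lit 357), (nat_lit 0x4f93e0002d3), (nat_lit 245), (nat_lit 0xf24493e001885)],
  [(nat_lit 8), (nat_lit 0xec4c939000601), (nat_lit 357), (nat_lit 0xec4a5370002d3), (nat_lit 245), (nat_lit 257), (nat_lit 245), (nat_lit 0xeb4211e001841)],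
  [(nat_lit 6), (nat_lit 0x3b8f6000601), (nat_lit 361), (nat_lit 0x4c4f700034f), (nat_lit 257), (nat_lit 245), (nat_lit 259), (nat_lit 0xeb4c510001895)],
  [(nat_lit 7), (nat_lit 0xe34291e000217), (nat_lit 221), (nat_lit 317), (nat_lit 227), (nat_lit 319), (nat_lit 0xf846529000201), (nat_lit 361), (nat_lit 0xe9421060018d1)],
  [(nat_lit 7), (nat_lit 0xf450102000217), (nat_lit 221), (nat_lit 225), (nat_lit 223), (nat_lit 317), (nat_lit 0x3ecf90001fd), (nat_lit 0x43d150018d9)],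
  [(nat_lit 3), (nat_lit 0xec4a922000217), (nat_lit 221), (nat_lit 319), (nat_lit 235), (nat_lit 0xfa3a536001829)],
  [(nat_lit 7), (nat_lit 0xf44d8f4000695), (nat_lit 357), (nat_lit 0xeb441000017e3), (nat_lit 357), (nat_lit 361), (nat_lit 357), (nat_lit 0xed46d080018cd)],
  [(nat_lit 7), (nat_lit 0xe54411d000695), (nat_lit 361), (nat_lit 0x1104691f00048b), (nat_lit 257), (nat_lit 249), (nat_lit 259), (nat_lit 0xe340922001871)],
  [(nat_lit 7), (nat_lit 0xe33b53e000695), (nat_lit 357), (nat_lit 0x41cfa000503), (nat_lit 247), (nat_lit 259), (nat_lit 247), (nat_lit 0xf74511900187d)],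
  [(nat_lit 7), (nat_lit 0xe946536000695), (nat_lit 357), (nat_lit 0xe74611a000faf), (nat_lit 357), (nat_lit 361), (nat_lit 357), (nat_lit 0x499020018fd)],
  [(nat_lit 8), (nat_lit 0xe54390f0001cb), (nat_lit 221), (nat_lit 233), (nat_lit 227), (nat_lit 233), (nat_lit 0xe54f0fd000219), (nat_lit 361), (nat_lit 0xec3e5360018c1)],
  [(nat_lit 8), (nat_lit 0x10d4ccfc0001cb), (nat_lit 317), (nat_lit 233), (nat_lit 233), (nat_lit 0xf646d2b0001fd), (nat_lit 0xf24b9290018d9)],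
  [(nat_lit 8), (nat_lit 0xe74052d0001cb), (nat_lit 223), (nat_lit 235), (nat_lit 227), (nat_lit 0xee3e91a000219), (nat_lit 361), (nat_lit 0xf3419130018c1)],
  [(nat_lit 7), (nat_lit 0xe34453f0001cb), (nat_lit 225), (nat_lit 223), (nat_lit 235), (nat_lit 0xed46cf60001fd), (nat_lit 0xe5495290018d9)],
  [(nat_lit 8), (nat_lit 0x11b4093d0007d1), (nat_lit 361), (nat_lit 357), (nat_lit 0xe54d911001025), (nat_lit 357), (nat_lit 361), (nat_lit 357), (nat_lit 0xe94d53e0018ed)],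
  [(nat_lit 7), (nat_lit 0xe54c90f0007d1), (nat_lit 0xfa401190002ff), (nat_lit 245), (nat_lit 257), (nat_lit 0xe34d12100185d)],
  [(nat_lit 7), (nat_lit 0xe3419100007d1), (nat_lit 357), (nat_lit 0xeb3e13300046f), (nat_lit 245), (nat_lit 259), (nat_lit 245), (nat_lit 0x4d8ef001869)],
  [(nat_lit 7), (nat_lit 0xe54d1350007d1), (nat_lit 357), (nat_lit 0xe344d35000ac9), (nat_lit 361), (nat_lit 357), (nat_lit 0x40d2a00193d)],
  [(nat_lit 6), (nat_lit 0xe34c1070007d1), (nat_lit 361), (nat_lit 357), (nat_lit 0x1214510f000257), (nat_lit 249), (nat_lit 257), (nat_lit 245), (nat_lit 259), (nat_lit 0xfc4553e001889)],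
  [(nat_lit 6), (nat_lit 0xed3ecf20007d1), (nat_lit 361), (nat_lit 0x4413200031b), (nat_lit 247), (nat_lit 259), (nat_lit 247), (nat_lit 0xf14a12a001871)],
  [(nat_lit 8), (nat_lit 0xe54d90c000609), (nat_lit 361), (nat_lit 0xe94590b0013a1), (nat_lit 221), (nat_lit 235), (nat_lit 225), (nat_lit 235), (nat_lit 0xff500ed001835)],
  [(nat_lit 8), (nat_lit 0x4693000016f), (nat_lit 133), (nat_lit 137), (nat_lit 165), (nat_lit 0x1053cd3e000105), (nat_lit 247), (nat_lit 249), (nat_lit 0xff5012d001841)],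
  [(nat_lit 8), (nat_lit 0xee46d1800016f), (nat_lit 133), (nat_lit 137), (nat_lit 165), (nat_lit 0xf54a506000105), (nat_lit 0xe53b538001845)],
  [(nat_lit 6), (nat_lit 0xfc494f400016f), (nat_lit 129), (nat_lit 165), (nat_lit 125), (nat_lit 0x1004353b000105), (nat_lit 245), (nat_lit 257), (nat_lit 0xf84c50700185d)],
  [(nat_lit 6), (nat_lit 0xe346cf900016f), (nat_lit 125), (nat_lit 137), (nat_lit 165), (nat_lit 0xf64512a000105), (nat_lit 245), (nat_lit 257), (nat_lit 245), (nat_lit 0x488ec001861)],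
  [(nat_lit 9), (nat_lit 0xf344902000713), (nat_lit 357), (nat_lit 361), (nat_lit 0xf242d1b0003f7), (nat_lit 257), (nat_lit 245), (nat_lit 0xe941ce9001889)],
  [(nat_lit 5), (nat_lit 0x3ecec000713), (nat_lit 0xe34a11d000719), (nat_lit 357), (nat_lit 0xee4c535001929)],
  [(nat_lit 5), (nat_lit 0xf341512000713), (nat_lit 357), (nat_lit 361), (nat_lit 0xe549d2c000d2b), (nat_lit 361), (nat_lit 0x103409220018fd)],
  [(nat_lit 8), (nat_lit 0x10e464ed000713), (nat_lit 0xed46140000699), (nat_lit 0x3ad3700195d)],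
  [(nat_lit 8), (nat_lit 0xe548928000713), (nat_lit 357), (nat_lit 361), (nat_lit 0xf74e4f40003f7), (nat_lit 247), (nat_lit 257), (nat_lit 249), (nat_lit 259), (nat_lit 0x458eb001865)],
  [(nat_lit 8), (nat_lit 0xe54411b000713), (nat_lit 357), (nat_lit 0x1053cd0300045f), (nat_lit 257), (nat_lit 245), (nat_lit 259), (nat_lit 0xfb4912a001869)],
  [(nat_lit 6), (nat_lit 0xe54ed21000713), (nat_lit 357), (nat_lit 361), (nat_lit 0xf34b517000da3), (nat_lit 0x418ff00194d)],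
  [(nat_lit 8), (nat_lit 0xec4d50e000c61), (nat_lit 357), (nat_lit 361), (nat_lit 357), (nat_lit 0xf2484f7000da7), (nat_lit 357), (nat_lit 361), (nat_lit 0x3d53000196d)],
  [(nat_lit 8), (nat_lit 0xf646cfa000c61), (nat_lit 357), (nat_lit 361), (nat_lit 357), (nat_lit 0xf145919001189), (nat_lit 357), (nat_lit 361), (nat_lit 0x105404fa001961)],
  [(nat_lit 7), (nat_lit 0xfb4f122000c61), (nat_lit 357), (nat_lit 0x3e92a0016f3), (nat_lit 357), (nat_lit 0xee4bce90018d9)],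
  [(nat_lit 8), (nat_lit 0xee49d35001069), (nat_lit 0xe94d53f000573), (nat_lit 245), (nat_lit 257), (nat_lit 247), (nat_lit 259), (nat_lit 0xe74c91d001859)],
  [(nat_lit 8), (nat_lit 0xe93b12a001069), (nat_lit 361), (nat_lit 0xe54511e001599), (nat_lit 357), (nat_lit 361), (nat_lit 0x45ce9001909)],
  [(nat_lit 7), (nat_lit 0xf44a92f001069), (nat_lit 357), (nat_lit 361), (nat_lit 357), (nat_lit 0xf14853400040f), (nat_lit 247), (nat_lit 249), (nat_lit 257), (nat_lit 0xf2474f3001855)],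
  [(nat_lit 8), (nat_lit 0xeb3d91f000de5), (nat_lit 0x49d07000e6b), (nat_lit 361), (nat_lit 0xe54990600191d)],
  [(nat_lit 7), (nat_lit 0xf150128000de5), (nat_lit 361), (nat_lit 357), (nat_lit 0x1034810d000ded), (nat_lit 361), (nat_lit 0xe34a518001935)],
  [(nat_lit 8), (nat_lit 0xf14d8fa000f1d), (nat_lit 357), (nat_lit 0xf948d320004c7), (nat_lit 257), (nat_lit 245), (nat_lit 0xec42127001849)],
  [(nat_lit 8), (nat_lit 0xf547521000f1d), (nat_lit 357), (nat_lit 0xf44710a0004c7), (nat_lit 259), (nat_lit 249), (nat_lit 0x1083f534001875)],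
  [(nat_lit 8), (nat_lit 0xe748940000f1d), (nat_lit 357), (nat_lit 361), (nat_lit 357), (nat_lit 0xf84f0f9000637), (nat_lit 357), (nat_lit 0x4e1290018a1)],
  [(nat_lit 8), (nat_lit 0x10b47d1b000f1d), (nat_lit 357), (nat_lit 361), (nat_lit 357), (nat_lit 0xe74650d0004cf), (nat_lit 245), (nat_lit 0xf34b93d001891)],
  [(nat_lit 8), (nat_lit 0xe9408f4000f1d), (nat_lit 357), (nat_lit 361), (nat_lit 357), (nat_lit 0xf4429120004cf), (nat_lit 247), (nat_lit 259), (nat_lit 245), (nat_lit 0xe543520001895)],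
  [(nat_lit 7), (nat_lit 0x10641d3c000f1d), (nat_lit 361), (nat_lit 357), (nat_lit 0xe541d360017af), (nat_lit 361), (nat_lit 0xed3dd3d001931)],
  [(nat_lit 8), (nat_lit 0xfb49507001125), (nat_lit 357), (nat_lit 0xef484ef001449), (nat_lit 357), (nat_lit 361), (nat_lit 357), (nat_lit 0xf24c9400019ad)],
  [(nat_lit 8), (nat_lit 0xf840505001125), (nat_lit 357), (nat_lit 361), (nat_lit 0xfd3cd24000ed7), (nat_lit 357), (nat_lit 361), (nat_lit 0x444fc00199d)],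
  [(nat_lit 8), (nat_lit 0x1163a51c001125), (nat_lit 357), (nat_lit 361), (nat_lit 0xed4d530000ed7), (nat_lit 0x438fe001979)],
  [(nat_lit 8), (nat_lit 0xe53d12e001125), (nat_lit 357), (nat_lit 361), (nat_lit 0x43502000ed7), (nat_lit 0xe34f52b0018cd)],
  [(nat_lit 8), (nat_lit 0xee46cf7001125), (nat_lit 361), (nat_lit 357), (nat_lit 0x1334f51b00069f), (nat_lit 361), (nat_lit 0xe7001945)],
  [(nat_lit 8), (nat_lit 0xee4212900069d), (nat_lit 0xf246d290006b7), (nat_lit 0x10a001999)],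
  [(nat_lit 8), (nat_lit 0x10d3bd2200026f), (nat_lit 245), (nat_lit 259), (nat_lit 0x10849d3f000525), (nat_lit 361), (nat_lit 0xee48524001941)],
  [(nat_lit 7), (nat_lit 0xed4693f00026f), (nat_lit 247), (nat_lit 257), (nat_lit 247), (nat_lit 0xfa43d280003c5), (nat_lit 361), (nat_lit 357), (nat_lit 0xe34792f001931)]]
noncomputable def R15 : List (List ℕ) :=
  [[(nat_lit 6), (nat_lit 0xee44d3500026f), (nat_lit 259), (nat_lit 247), (nat_lit 0xf2474f30003ad), (nat_lit 357), (nat_lit 361), (nat_lit 357), (nat_lit 0x10d4c4ed0019b5)],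
  [(nat_lit 6), (nat_lit 0xeb4590d00026f), (nat_lit 259), (nat_lit 247), (nat_lit 0xe34ccf90004a9), (nat_lit 361), (nat_lit 357), (nat_lit 0xf83fd22001919)],
  [(nat_lit 6), (nat_lit 0xeb4813900026f), (nat_lit 0xed47d3b00046d), (nat_lit 357), (nat_lit 361), (nat_lit 0xfc44927001951)],
  [(nat_lit 6), (nat_lit 0x4d8ed00026f), (nat_lit 257), (nat_lit 249), (nat_lit 0xf442d1b00037d), (nat_lit 361), (nat_lit 357), (nat_lit 0xeb500ee001985)],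
  [(nat_lit 8), (nat_lit 0xf546d3c001071), (nat_lit 357), (nat_lit 361), (nat_lit 357), (nat_lit 0xfc4d8fb000c1d), (nat_lit 357), (nat_lit 0x10f4610100198d)],
  [(nat_lit 8), (nat_lit 0x480f3001071), (nat_lit 357), (nat_lit 361), (nat_lit 357), (nat_lit 0xff3ed06001131), (nat_lit 357), (nat_lit 361), (nat_lit 357), (nat_lit 0x4e9150019ad)],
  [(nat_lit 8), (nat_lit 0x105500f30010f9), (nat_lit 357), (nat_lit 361), (nat_lit 357), (nat_lit 0xe54bd39000333), (nat_lit 259), (nat_lit 247), (nat_lit 257), (nat_lit 0xe94e13e001889)],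
  [(nat_lit 8), (nat_lit 0x3e90a0010f9), (nat_lit 361), (nat_lit 0x107448fa000a7f), (nat_lit 357), (nat_lit 361), (nat_lit 357), (nat_lit 0x47d100019b9)],
  [(nat_lit 8), (nat_lit 0xef500e9000263), (nat_lit 247), (nat_lit 257), (nat_lit 249), (nat_lit 259), (nat_lit 0xeb4a4ee0005a5), (nat_lit 357), (nat_lit 0xeb4d93f0019f1)],
  [(nat_lit 8), (nat_lit 0x500fc000263), (nat_lit 247), (nat_lit 259), (nat_lit 247), (nat_lit 0xf14ad180005d1), (nat_lit 0x4f1240018d1)],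
  [(nat_lit 8), (nat_lit 0xef498f500069b), (nat_lit 0xf53f12c000711), (nat_lit 357), (nat_lit 0xfc3f9400018e1)],
  [(nat_lit 8), (nat_lit 0xf34fd2a00148d), (nat_lit 357), (nat_lit 0xfb4d919000823), (nat_lit 357), (nat_lit 0x10945d100018b1)],
  [(nat_lit 7), (nat_lit 0xe34d9080007db), (nat_lit 357), (nat_lit 361), (nat_lit 357), (nat_lit 0x10a4592100094b), (nat_lit 0xe74f52c0018e1)],
  [(nat_lit 8), (nat_lit 0xed4d8ff000605), (nat_lit 0xed41d16000683), (nat_lit 357), (nat_lit 0xf24c5150018f9)],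
  [(nat_lit 8), (nat_lit 0x41d0f00017f), (nat_lit 125), (nat_lit 133), (nat_lit 155), (nat_lit 155), (nat_lit 0xec43d32000109), (nat_lit 259), (nat_lit 247), (nat_lit 0xf14a13b001859)],
  [(nat_lit 8), (nat_lit 0xe949917000d65), (nat_lit 357), (nat_lit 361), (nat_lit 357), (nat_lit 0x3ed230004b3), (nat_lit 249), (nat_lit 0xf54a118001865)],
  [(nat_lit 8), (nat_lit 0xe34b4f4000d65), (nat_lit 361), (nat_lit 357), (nat_lit 0x459170012b5), (nat_lit 361), (nat_lit 357), (nat_lit 0xf44312f0019f5)],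
  [(nat_lit 8), (nat_lit 0x3f92a000dd9), (nat_lit 357), (nat_lit 361), (nat_lit 0xf343ce7001147), (nat_lit 357), (nat_lit 0xf7455070018c1)],
  [(nat_lit 7), (nat_lit 0x1004f906000297), (nat_lit 259), (nat_lit 245), (nat_lit 0xf15013b000135), (nat_lit 167), (nat_lit 141), (nat_lit 0xee3e93f001819)],
  [(nat_lit 6), (nat_lit 0x3bcf7000297), (nat_lit 245), (nat_lit 257), (nat_lit 247), (nat_lit 0xe54f91f0003c9), (nat_lit 357), (nat_lit 361), (nat_lit 0xe549540001971)],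
  [(nat_lit 8), (nat_lit 0xee4c51f0009ff), (nat_lit 361), (nat_lit 0xec41d20000923), (nat_lit 357), (nat_lit 361), (nat_lit 357), (nat_lit 0x4ed2d0019f5)],
  [(nat_lit 8), (nat_lit 0xf641cee000a6d), (nat_lit 361), (nat_lit 0xe93c5400005cf), (nat_lit 247), (nat_lit 257), (nat_lit 0xe33f114001889)],
  [(nat_lit 8), (nat_lit 0x3ed01000a6d), (nat_lit 361), (nat_lit 0xec4a1350005cf), (nat_lit 257), (nat_lit 249), (nat_lit 0xf14011000183d)],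
  [(nat_lit 8), (nat_lit 0x3d92f000727), (nat_lit 357), (nat_lit 0xf64f129000c89), (nat_lit 357), (nat_lit 361), (nat_lit 357), (nat_lit 0xf14c4ff0019c1)],
  [(nat_lit 8), (nat_lit 0xe33cd24000881), (nat_lit 361), (nat_lit 357), (nat_lit 0x4d0ee000abf), (nat_lit 0x4dcf20019d5)],
  [(nat_lit 8), (nat_lit 0xe54e10f000fd1), (nat_lit 0x3d52a0001e3), (nat_lit 221), (nat_lit 235), (nat_lit 221), (nat_lit 0xf54092a001829)],
  [(nat_lit 8), (nat_lit 0xe74613d0002b7), (nat_lit 257), (nat_lit 0xf44d92100056d), (nat_lit 357), (nat_lit 361), (nat_lit 0x102444f100192d)],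
  [(nat_lit 8), (nat_lit 0x4f90c000931), (nat_lit 357), (nat_lit 361), (nat_lit 357), (nat_lit 0xec3c53a000749), (nat_lit 361), (nat_lit 357), (nat_lit 0xeb48539001921)],
  [(nat_lit 6), (nat_lit 0x39d1300001f), (nat_lit 77), (nat_lit 77), (nat_lit 89), (nat_lit 119), (nat_lit 79), (nat_lit 0x10d43d370008ab), (nat_lit 361), (nat_lit 0xf4449030018f1)],
  [(nat_lit 6), (nat_lit 0x3b0f600001f), (nat_lit 97), (nat_lit 97), (nat_lit 119), (nat_lit 83), (nat_lit 85), (nat_lit 0xf44012800009d), (nat_lit 125), (nat_lit 165), (nat_lit 129), (nat_lit 155), (nat_lit 0xeb48cf8001815)],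
  [(nat_lit 8), (nat_lit 0xe54393a001827), (nat_lit 223), (nat_lit 319), (nat_lit 223), (nat_lit 227), (nat_lit 0x44d3c000219), (nat_lit 361), (nat_lit 0xeb3f13c0018c1)],
  [(nat_lit 1), (nat_lit 0xe54b91f000023), (nat_lit 153), (nat_lit 153), (nat_lit 167), (nat_lit 33)],
  [(nat_lit 1), (nat_lit 0xe7408fa000023), (nat_lit 141), (nat_lit 165), (nat_lit 153), (nat_lit 33)],
  [(nat_lit 8), (nat_lit 0xe5485390000c1), (nat_lit 125), (nat_lit 155), (nat_lit 155), (nat_lit 0xe3430f60000db), (nat_lit 125), (nat_lit 141), (nat_lit 167), (nat_lit 0x12a000021)],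
  [(nat_lit 0x5259262401), (nat_lit 0x10b42114001a5b), (nat_lit 125), (nat_lit 167), (nat_lit 129), (nat_lit 0xeb4d12b000021)],
  [(nat_lit 8), (nat_lit 0xe54a91a0001b9), (nat_lit 0xe9400f90001c3), (nat_lit 153), (nat_lit 153), (nat_lit 0x1024a92c000021)],
  [(nat_lit 0x5459d62001), (nat_lit 0xf74813c001a63), (nat_lit 129), (nat_lit 155), (nat_lit 167), (nat_lit 141), (nat_lit 0xf34fd2a000021)],
  [(nat_lit 6), (nat_lit 0xf247139001125), (nat_lit 361), (nat_lit 0xfc4f934000183), (nat_lit 133), (nat_lit 137), (nat_lit 167), (nat_lit 0xf14d131000021)],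
  [(nat_lit 6), (nat_lit 0x44915001125), (nat_lit 361), (nat_lit 0xeb4890d000177), (nat_lit 133), (nat_lit 141), (nat_lit 165), (nat_lit 0xec490f3000021)],
  [(nat_lit 8), (nat_lit 0x47cef00069b), (nat_lit 357), (nat_lit 0xef3d52e0017ed), (nat_lit 361), (nat_lit 0x4190d001a69)],
  [(nat_lit 8), (nat_lit 0xee4511900069b), (nat_lit 357), (nat_lit 0xe34d9200017ed), (nat_lit 361), (nat_lit 0xe54993f001a6d)],
  [(nat_lit 8), (nat_lit 0xf64552a000727), (nat_lit 357), (nat_lit 361), (nat_lit 357), (nat_lit 0xeb4c93f000fa1), (nat_lit 0xeb49d3d001a71)],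
  [(nat_lit 8), (nat_lit 0x4a52600076b), (nat_lit 0x40102001295), (nat_lit 0xe940126001a6d)],
  [(nat_lit 6), (nat_lit 0xe9000023), (nat_lit 129), (nat_lit 167), (nat_lit 0xe34092f0000b9), (nat_lit 137), (nat_lit 0xeb4c8ee000021)],
  [(nat_lit 1), (nat_lit 0x46524000027), (nat_lit 155), (nat_lit 167), (nat_lit 37)],
  [(nat_lit 1), (nat_lit 0xf33d527000027), (nat_lit 125), (nat_lit 155), (nat_lit 141), (nat_lit 167), (nat_lit 37)],
  [(nat_lit 8), (nat_lit 0xf2479240000b3), (nat_lit 125), (nat_lit 155), (nat_lit 155), (nat_lit 0xf43f1260000d9), (nat_lit 125), (nat_lit 167), (nat_lit 129), (nat_lit 0x1094c913000025)],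
  [(nat_lit 0x5157d63801), (nat_lit 0xe94a0ec001a8f), (nat_lit 125), (nat_lit 155), (nat_lit 129), (nat_lit 165), (nat_lit 0xe747d30000025)],
  [(nat_lit 8), (nat_lit 0x4012a00018d), (nat_lit 361), (nat_lit 0x1004c53400019f), (nat_lit 125), (nat_lit 153), (nat_lit 141), (nat_lit 0xe53d135000025)],
  [(nat_lit 5), (nat_lit 0xe54b50800139f), (nat_lit 357), (nat_lit 361), (nat_lit 0xf54b4e90001ab), (nat_lit 129), (nat_lit 153), (nat_lit 167), (nat_lit 125), (nat_lit 0xf54b930001a95)],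
  [(nat_lit 8), (nat_lit 0xee4c53700139f), (nat_lit 357), (nat_lit 361), (nat_lit 0x4f92f0001ab), (nat_lit 153), (nat_lit 153), (nat_lit 0xed3d138001a99)],
  [(nat_lit 8), (nat_lit 0xe54b4fd0009f7), (nat_lit 361), (nat_lit 357), (nat_lit 0xeb4413b00139d), (nat_lit 0xe547915001a99)],
  [(nat_lit 8), (nat_lit 0x10746513000123), (nat_lit 249), (nat_lit 257), (nat_lit 245), (nat_lit 0xed454f300014d), (nat_lit 153), (nat_lit 167), (nat_lit 125), (nat_lit 0xe33d122001a9d)],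
  [(nat_lit 8), (nat_lit 0xe7485340003cd), (nat_lit 0xe34f917000193), (nat_lit 125), (nat_lit 129), (nat_lit 137), (nat_lit 0x4c92a001a95)],
  [(nat_lit 8), (nat_lit 0x498ec0003cd), (nat_lit 0xec454f4000193), (nat_lit 153), (nat_lit 133), (nat_lit 0xe550105001a95)],
  [(nat_lit 7), (nat_lit 0x10a4fd1000185d), (nat_lit 6143), (nat_lit 6145), (nat_lit 6161), (nat_lit 6161), (nat_lit 0xf23f10500181b), (nat_lit 129), (nat_lit 167), (nat_lit 155), (nat_lit 0x1104cd10001a9d)],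
  [(nat_lit 8), (nat_lit 0xe34790f000385), (nat_lit 361), (nat_lit 0xed4711500043b), (nat_lit 245), (nat_lit 257), (nat_lit 0x1244b0e9001aad)],
  [(nat_lit 7), (nat_lit 0x47905000385), (nat_lit 0xf64e1330005db), (nat_lit 259), (nat_lit 247), (nat_lit 257), (nat_lit 0x4910e001aad)],
  [(nat_lit 7), (nat_lit 0xe9438f6000385), (nat_lit 357), (nat_lit 0x4b5020001db), (nat_lit 227), (nat_lit 317), (nat_lit 225), (nat_lit 0x10646d3c001aa5)],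
  [(nat_lit 10), (nat_lit 0xe7500f6000445), (nat_lit 357), (nat_lit 361), (nat_lit 0xfa3ed000005cf), (nat_lit 247), (nat_lit 249), (nat_lit 257), (nat_lit 0x10f46d03001ab5)],
  [(nat_lit 5), (nat_lit 0xe94413a000471), (nat_lit 357), (nat_lit 361), (nat_lit 0x10640539000543), (nat_lit 249), (nat_lit 0xeb44130001aa9)],
  [(nat_lit 8), (nat_lit 0xee43130000471), (nat_lit 357), (nat_lit 361), (nat_lit 0x1103c935000543), (nat_lit 245), (nat_lit 257), (nat_lit 0x3b510001ab1)],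
  [(nat_lit 6), (nat_lit 0xef415350002c1), (nat_lit 357), (nat_lit 361), (nat_lit 357), (nat_lit 0xf44ed240006c1), (nat_lit 153), (nat_lit 0x47921001a95)],
  [(nat_lit 4), (nat_lit 0xee47935001841), (nat_lit 6141), (nat_lit 6145), (nat_lit 6153), (nat_lit 6163), (nat_lit 0xf24992a00184b), (nat_lit 247), (nat_lit 257), (nat_lit 249), (nat_lit 0xef3d519001ac1)],
  [(nat_lit 8), (nat_lit 0xed4ed01001841), (nat_lit 6141), (nat_lit 6155), (nat_lit 6163), (nat_lit 6155), (nat_lit 0xe746512001883), (nat_lit 249), (nat_lit 259), (nat_lit 245), (nat_lit 0xfa42506001ac1)],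
  [(nat_lit 8), (nat_lit 0xe344532001841), (nat_lit 6141), (nat_lit 6145), (nat_lit 6163), (nat_lit 6155), (nat_lit 0x1024892f00188b), (nat_lit 259), (nat_lit 245), (nat_lit 249), (nat_lit 0xf440935001abd)],
  [(nat_lit 8), (nat_lit 0xe34d93d001841), (nat_lit 6145), (nat_lit 6153), (nat_lit 0xe73f936001847), (nat_lit 245), (nat_lit 257), (nat_lit 245), (nat_lit 0xec3b91a001ad1)],
  [(nat_lit 7), (nat_lit 0x1073d525001841), (nat_lit 6141), (nat_lit 6161), (nat_lit 6153), (nat_lit 0xe944d2f001897), (nat_lit 245), (nat_lit 259), (nat_lit 247), (nat_lit 0xf347cec001ad1)],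
  [(nat_lit 8), (nat_lit 0xe746503000495), (nat_lit 361), (nat_lit 357), (nat_lit 0xef4953e0005cf), (nat_lit 245), (nat_lit 257), (nat_lit 247), (nat_lit 259), (nat_lit 0xec3d92d001ac5)],
  [(nat_lit 8), (nat_lit 0x4e938000571), (nat_lit 0xef4650f0005db), (nat_lit 257), (nat_lit 247), (nat_lit 0xe94b91a001ad9)],
  [(nat_lit 5), (nat_lit 0x1074b52800060d), (nat_lit 0x46505000173), (nat_lit 153), (nat_lit 167), (nat_lit 133), (nat_lit 0x4092a001a9d)],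
  [(nat_lit 5), (nat_lit 0xe94e50700060d), (nat_lit 357), (nat_lit 361), (nat_lit 357), (nat_lit 0xfb4e12400041f), (nat_lit 249), (nat_lit 259), (nat_lit 245), (nat_lit 0xf141d2f001aad)],
  [(nat_lit 8), (nat_lit 0x3e92500060d), (nat_lit 0x3a51e000173), (nat_lit 125), (nat_lit 167), (nat_lit 125), (nat_lit 0xee48501001a9d)],
  [(nat_lit 7), (nat_lit 0xe94f51400060d), (nat_lit 357), (nat_lit 361), (nat_lit 357), (nat_lit 0xec3e9240014af), (nat_lit 357), (nat_lit 361), (nat_lit 0xe74a507001aed)],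
  [(nat_lit 7), (nat_lit 0xe33ccf700060d), (nat_lit 357), (nat_lit 361), (nat_lit 357), (nat_lit 0x39d02000487), (nat_lit 245), (nat_lit 257), (nat_lit 247), (nat_lit 0xf241d21001acd)],
  [(nat_lit 8), (nat_lit 0x459330005fd), (nat_lit 0xf94c516000193), (nat_lit 125), (nat_lit 129), (nat_lit 137), (nat_lit 0xf74a4ef001a95)],
  [(nat_lit 8), (nat_lit 0xed4012d0005fd), (nat_lit 0xf342922000193), (nat_lit 133), (nat_lit 153), (nat_lit 0x1104a934001a95)],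
  [(nat_lit 8), (nat_lit 0x418fe0005fd), (nat_lit 0xed4a4e7000619), (nat_lit 357), (nat_lit 361), (nat_lit 357), (nat_lit 0xe74012f001b05)],
  [(nat_lit 8), (nat_lit 0x471220005fd), (nat_lit 0xe93e90f000619), (nat_lit 357), (nat_lit 361), (nat_lit 357), (nat_lit 0xee454f9001b01)],
  [(nat_lit 8), (nat_lit 0xf74d4ff0005fd), (nat_lit 0xf94c8fd00018b), (nat_lit 165), (nat_lit 133), (nat_lit 0xf1470ed001aa1)],
  [(nat_lit 8), (nat_lit 0xf14c9390005fd), (nat_lit 0x41d2b00018b), (nat_lit 133), (nat_lit 153), (nat_lit 167), (nat_lit 0xf141cf1001a95)],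
  [(nat_lit 8), (nat_lit 0xe34192800022f), (nat_lit 225), (nat_lit 235), (nat_lit 221), (nat_lit 0xe5494f400012d), (nat_lit 245), (nat_lit 0xed498eb001ad9)],
  [(nat_lit 8), (nat_lit 0xe948d3100022f), (nat_lit 225), (nat_lit 235), (nat_lit 221), (nat_lit 0xef4a90f00012d), (nat_lit 249), (nat_lit 257), (nat_lit 245), (nat_lit 0xe34f52b001ac9)],
  [(nat_lit 8), (nat_lit 0xfc4710f000601), (nat_lit 0xf54b8ff000697), (nat_lit 0x43d08001b1d)],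
  [(nat_lit 8), (nat_lit 0xe54b4fd000601), (nat_lit 0xe742120000697), (nat_lit 357), (nat_lit 361), (nat_lit 357), (nat_lit 0xed4551b001b19)],
  [(nat_lit 8), (nat_lit 0xef43902000601), (nat_lit 0xe94a11d000643), (nat_lit 361), (nat_lit 357), (nat_lit 0x10a4b508001aed)],
  [(nat_lit 8), (nat_lit 0xe34ed21000601), (nat_lit 361), (nat_lit 0xe74acfc000327), (nat_lit 247), (nat_lit 249), (nat_lit 257), (nat_lit 245), (nat_lit 0x3e903001add)],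
  [(nat_lit 8), (nat_lit 0xe94b4e9000601), (nat_lit 0xed4dce9000653), (nat_lit 357), (nat_lit 0xe93c52d001aed)],
  [(nat_lit 8), (nat_lit 0xef49503000601), (nat_lit 0xed44132000653), (nat_lit 361), (nat_lit 357), (nat_lit 0xf14b93d001b29)],
  [(nat_lit 8), (nat_lit 0xf64d4ec000601), (nat_lit 357), (nat_lit 0xf3405070002b3), (nat_lit 245), (nat_lit 259), (nat_lit 247), (nat_lit 0x1034f135001add)],
  [(nat_lit 8), (nat_lit 0xed3f8e9000601), (nat_lit 361), (nat_lit 357), (nat_lit 0xee4090000040f), (nat_lit 0xf14890f001ac5)],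
  [(nat_lit 7), (nat_lit 0x3d110000601), (nat_lit 357), (nat_lit 361), (nat_lit 0x4cd01000635), (nat_lit 0xe94310f001b35)],
  [(nat_lit 7), (nat_lit 0x38cf4500fc000217), (nat_lit 223), (nat_lit 223), (nat_lit 0xe343d1e00012d), (nat_lit 245), (nat_lit 249), (nat_lit 0xe94b0f4001ad9)],
  [(nat_lit 8), (nat_lit 0xed4d8ff00068d), (nat_lit 0xfb45508000697), (nat_lit 0x4c10e001b19)],
  [(nat_lit 8), (nat_lit 0xf34811400068d), (nat_lit 0xfc4d4f4000697), (nat_lit 0x4551b001b1d)],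
  [(nat_lit 7), (nat_lit 0x40d3d00068d), (nat_lit 361), (nat_lit 0xe73f13a0012e5), (nat_lit 361), (nat_lit 0xfd4d527001b49)],
  [(nat_lit 7), (nat_lit 0xe53ad0500068d), (nat_lit 357), (nat_lit 361), (nat_lit 357), (nat_lit 0xec440f9000f35), (nat_lit 167), (nat_lit 125), (nat_lit 0x3b917001aa1)],
  [(nat_lit 7), (nat_lit 0xe74e4f600068d), (nat_lit 361), (nat_lit 357), (nat_lit 0xeb41932001549), (nat_lit 361), (nat_lit 0xfb3cd37001b49)],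
  [(nat_lit 10), (nat_lit 0xe73d0f200068d), (nat_lit 357), (nat_lit 361), (nat_lit 0xe74411700137d), (nat_lit 361), (nat_lit 357), (nat_lit 0x101458f1001afd)],
  [(nat_lit 8), (nat_lit 0xe9454f3000695), (nat_lit 357), (nat_lit 361), (nat_lit 0xf44ad3e0010b7), (nat_lit 357), (nat_lit 0xe93f135001b39)],
  [(nat_lit 7), (nat_lit 0xf34c0f7000695), (nat_lit 357), (nat_lit 361), (nat_lit 357), (nat_lit 0x3e1290003df), (nat_lit 257), (nat_lit 249), (nat_lit 259), (nat_lit 0xeb4d4eb001ab9)],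
  [(nat_lit 6), (nat_lit 0xe34a136000695), (nat_lit 361), (nat_lit 0x4652100105f), (nat_lit 0xed41907001b45)],
  [(nat_lit 5), (nat_lit 0xe73d1350001cb), (nat_lit 221), (nat_lit 221), (nat_lit 233), (nat_lit 227), (nat_lit 0xf93a53b000211), (nat_lit 361), (nat_lit 0xf648506001b1d)],
  [(nat_lit 5), (nat_lit 0xe7489020001cb), (nat_lit 235), (nat_lit 227), (nat_lit 235), (nat_lit 0xec401100015bf), (nat_lit 361), (nat_lit 0xf247140001b6d)],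
  [(nat_lit 7), (nat_lit 0x10b471400001cb), (nat_lit 225), (nat_lit 233), (nat_lit 227), (nat_lit 235), (nat_lit 0xed3ed030001c9), (nat_lit 0xeb4ad30001b71)],
  [(nat_lit 3), (nat_lit 0x441360001cb), (nat_lit 221), (nat_lit 221), (nat_lit 235), (nat_lit 0xed48d1c001aa5)],
  [(nat_lit 8), (nat_lit 0x111405330007d1), (nat_lit 361), (nat_lit 357), (nat_lit 0xe34a532000631), (nat_lit 357), (nat_lit 361), (nat_lit 357), (nat_lit 0x4892d001b29)],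
  [(nat_lit 8), (nat_lit 0xe346d330007d1), (nat_lit 361), (nat_lit 357), (nat_lit 0xe54cce90008c3), (nat_lit 357), (nat_lit 0x3cd3a001b49)],
  [(nat_lit 8), (nat_lit 0x1023e9080007d1), (nat_lit 361), (nat_lit 357), (nat_lit 0xf141d2b0008c3), (nat_lit 0xf142931001b01)],
  [(nat_lit 7), (nat_lit 0xf7401070007d1), (nat_lit 361), (nat_lit 0x1003dd3500039b), (nat_lit 257), (nat_lit 247), (nat_lit 259), (nat_lit 0x3dd3c001ac1)],
  [(nat_lit 7), (nat_lit 0xe34ccf30007d1), (nat_lit 357), (nat_lit 361), (nat_lit 357), (nat_lit 0xe740110000ecf), (nat_lit 0xf54bd26001b39)],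
  [(nat_lit 7), (nat_lit 0xe74fd170007d1), (nat_lit 0xf53d12f00142f), (nat_lit 361), (nat_lit 0xe74c4f1001b55)],
  [(nat_lit 3), (nat_lit 0x4510f0007d1), (nat_lit 361), (nat_lit 357), (nat_lit 0xed46d06001b1d)],
  [(nat_lit 8), (nat_lit 0xe93f0fa000609), (nat_lit 0xef4a0fc00067f), (nat_lit 357), (nat_lit 0xf442131001b3d)],
  [(nat_lit 8), (nat_lit 0xe74a8fb000609), (nat_lit 361), (nat_lit 0xfc4bceb000477), (nat_lit 245), (nat_lit 257), (nat_lit 247), (nat_lit 0xf83d111001aad)]]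
noncomputable def R16 : List (List ℕ) :=
  [[(nat_lit 8), (nat_lit 0xe94a8ef00016f), (nat_lit 129), (nat_lit 155), (nat_lit 155), (nat_lit 0xeb3cd24000185), (nat_lit 357), (nat_lit 361), (nat_lit 357), (nat_lit 0x4613a001b09)],
  [(nat_lit 8), (nat_lit 0xe34012e00016f), (nat_lit 129), (nat_lit 155), (nat_lit 155), (nat_lit 0xe740526000185), (nat_lit 0x12449514001b0d)],
  [(nat_lit 8), (nat_lit 0xeb4712c000713), (nat_lit 0xe345529000453), (nat_lit 249), (nat_lit 0xf83c938001ae1)],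
  [(nat_lit 8), (nat_lit 0xe54b0e9000713), (nat_lit 361), (nat_lit 0x1054f51400159b), (nat_lit 357), (nat_lit 361), (nat_lit 357), (nat_lit 0xf249940001b35)],
  [(nat_lit 8), (nat_lit 0xe343d36000713), (nat_lit 357), (nat_lit 0xf64410d0016af), (nat_lit 357), (nat_lit 0xf142125001b1d)],
  [(nat_lit 8), (nat_lit 0xf93fd22000713), (nat_lit 357), (nat_lit 361), (nat_lit 0x3ed330003f7), (nat_lit 257), (nat_lit 245), (nat_lit 259), (nat_lit 0xe54fd2a001ac5)],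
  [(nat_lit 8), (nat_lit 0xe33e922000713), (nat_lit 0xe346129000639), (nat_lit 361), (nat_lit 0xed49d00001b89)],
  [(nat_lit 8), (nat_lit 0xf44291b000713), (nat_lit 357), (nat_lit 0x43d1b00038f), (nat_lit 247), (nat_lit 257), (nat_lit 245), (nat_lit 0xef4f4f9001ad1)],
  [(nat_lit 8), (nat_lit 0xf24c537000713), (nat_lit 357), (nat_lit 361), (nat_lit 357), (nat_lit 0xed421360006e7), (nat_lit 357), (nat_lit 361), (nat_lit 357), (nat_lit 0xf543900001b65)],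
  [(nat_lit 7), (nat_lit 0xeb4e107000713), (nat_lit 357), (nat_lit 361), (nat_lit 0xed4d53b001245), (nat_lit 361), (nat_lit 0xe54a533001b4d)],
  [(nat_lit 7), (nat_lit 0xe54e0f3000713), (nat_lit 357), (nat_lit 0xe74f1360013ff), (nat_lit 357), (nat_lit 0xe948112001b29)],
  [(nat_lit 7), (nat_lit 0xee40d20000713), (nat_lit 357), (nat_lit 361), (nat_lit 357), (nat_lit 0xee4d8f4000b81), (nat_lit 361), (nat_lit 357), (nat_lit 0xed4c10f001b79)],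
  [(nat_lit 6), (nat_lit 0xe74c501000713), (nat_lit 361), (nat_lit 0x3d13b000b2f), (nat_lit 0xe34c921001b05)],
  [(nat_lit 9), (nat_lit 0x10945d10000c61), (nat_lit 357), (nat_lit 361), (nat_lit 357), (nat_lit 0xee4e932000a2f), (nat_lit 357), (nat_lit 361), (nat_lit 0xf244d16001b09)],
  [(nat_lit 9), (nat_lit 0xf94bd10000c61), (nat_lit 361), (nat_lit 0xf73a533001271), (nat_lit 361), (nat_lit 357), (nat_lit 0xe745140001b3d)],
  [(nat_lit 8), (nat_lit 0xed41933000c61), (nat_lit 357), (nat_lit 361), (nat_lit 357), (nat_lit 0xe54d920000c5b), (nat_lit 357), (nat_lit 361), (nat_lit 0xed4d10c001bad)],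
  [(nat_lit 8), (nat_lit 0xf444903000c61), (nat_lit 357), (nat_lit 361), (nat_lit 0xf64bceb001507), (nat_lit 357), (nat_lit 361), (nat_lit 0xe548531001b2d)],
  [(nat_lit 8), (nat_lit 0x118454f4000c61), (nat_lit 361), (nat_lit 357), (nat_lit 0xee43d130011b7), (nat_lit 357), (nat_lit 0xf150108001bcd)],
  [(nat_lit 8), (nat_lit 0x1343d11d000c61), (nat_lit 0xee4412500142f), (nat_lit 361), (nat_lit 0xe34c8fd001b55)],
  [(nat_lit 8), (nat_lit 0xeb4c8e7000c61), (nat_lit 0xee4d90300142f), (nat_lit 357), (nat_lit 361), (nat_lit 0xfa46903001be1)],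
  [(nat_lit 8), (nat_lit 0xf94ed32000c61), (nat_lit 357), (nat_lit 361), (nat_lit 357), (nat_lit 0xe94d13f000c85), (nat_lit 357), (nat_lit 0xf64c0f4001b91)],
  [(nat_lit 8), (nat_lit 0xed4bcf3000c61), (nat_lit 357), (nat_lit 361), (nat_lit 357), (nat_lit 0xfa4dd1a001189), (nat_lit 361), (nat_lit 357), (nat_lit 0xe9460fb001aed)],
  [(nat_lit 8), (nat_lit 0xe94a0f8000c61), (nat_lit 357), (nat_lit 0x3ed3b0015d5), (nat_lit 357), (nat_lit 361), (nat_lit 0xed3f8e9001bc5)],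
  [(nat_lit 7), (nat_lit 0xef4ecf4000c61), (nat_lit 361), (nat_lit 357), (nat_lit 0xf44a116000eb9), (nat_lit 357), (nat_lit 361), (nat_lit 0xe54e932001bf9)],
  [(nat_lit 7), (nat_lit 0xef3cd3a000c61), (nat_lit 361), (nat_lit 357), (nat_lit 0x11c41d380008c3), (nat_lit 0x42529001b01)],
  [(nat_lit 7), (nat_lit 0xec47924000c61), (nat_lit 0xe74d52b0001fb), (nat_lit 225), (nat_lit 223), (nat_lit 235), (nat_lit 0xec49d06001aa5)],
  [(nat_lit 7), (nat_lit 0x3951e000c61), (nat_lit 361), (nat_lit 0x4d11f000bc3), (nat_lit 357), (nat_lit 361), (nat_lit 0xe74c51d001c01)],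
  [(nat_lit 7), (nat_lit 0x4a93c000c61), (nat_lit 0xe54c52100171d), (nat_lit 357), (nat_lit 0xe33e532001b81)],
  [(nat_lit 7), (nat_lit 0xe9458f1000c61), (nat_lit 357), (nat_lit 361), (nat_lit 357), (nat_lit 0xeb4714000023f), (nat_lit 245), (nat_lit 257), (nat_lit 247), (nat_lit 0xf243d34001ad9)],
  [(nat_lit 7), (nat_lit 0xfb3c91a000c61), (nat_lit 357), (nat_lit 361), (nat_lit 0x1054bd1d0008c5), (nat_lit 361), (nat_lit 357), (nat_lit 0xf64a53c001b6d)],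
  [(nat_lit 6), (nat_lit 0xee40533000c61), (nat_lit 357), (nat_lit 0xed445210012b1), (nat_lit 357), (nat_lit 0x4f0f3001c01)],
  [(nat_lit 4), (nat_lit 0x1064a919001069), (nat_lit 357), (nat_lit 361), (nat_lit 357), (nat_lit 0xe3454f40014ff), (nat_lit 357), (nat_lit 361), (nat_lit 0xe546d3d001bfd)],
  [(nat_lit 4), (nat_lit 0x1074352f001069), (nat_lit 357), (nat_lit 361), (nat_lit 0xed3dd3d000517), (nat_lit 247), (nat_lit 259), (nat_lit 247), (nat_lit 0x3b911001ae1)],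
  [(nat_lit 8), (nat_lit 0x1064a919001069), (nat_lit 357), (nat_lit 361), (nat_lit 357), (nat_lit 0xe5454eb0014ff), (nat_lit 357), (nat_lit 361), (nat_lit 0xef40131001b59)],
  [(nat_lit 8), (nat_lit 0xe740928001069), (nat_lit 357), (nat_lit 361), (nat_lit 357), (nat_lit 0xe54e50d0014ff), (nat_lit 357), (nat_lit 361), (nat_lit 0xeb4ad35001b35)],
  [(nat_lit 8), (nat_lit 0xe343d25001069), (nat_lit 0xe3414e9000fa3), (nat_lit 0xe342d22001b39)],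
  [(nat_lit 8), (nat_lit 0xe543929001069), (nat_lit 0xe546125000573), (nat_lit 247), (nat_lit 259), (nat_lit 0xe94f8f7001aa9)],
  [(nat_lit 8), (nat_lit 0xf24c51e001069), (nat_lit 361), (nat_lit 0xeb3cd1c001599), (nat_lit 361), (nat_lit 357), (nat_lit 0x42523001b4d)],
  [(nat_lit 8), (nat_lit 0xeb4a8ee001069), (nat_lit 361), (nat_lit 0xfc49921001599), (nat_lit 357), (nat_lit 361), (nat_lit 357), (nat_lit 0x40507001c31)],
  [(nat_lit 8), (nat_lit 0xf14a530001069), (nat_lit 357), (nat_lit 361), (nat_lit 0x41d30000517), (nat_lit 247), (nat_lit 249), (nat_lit 0xe341933001aad)],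
  [(nat_lit 7), (nat_lit 0xe54a512001069), (nat_lit 0xe54813f0012eb), (nat_lit 361), (nat_lit 357), (nat_lit 0xe54a51d001b51)],
  [(nat_lit 8), (nat_lit 0xe54e901000de5), (nat_lit 361), (nat_lit 357), (nat_lit 0x44d30000def), (nat_lit 361), (nat_lit 357), (nat_lit 0x4d106001c1d)],
  [(nat_lit 8), (nat_lit 0xf6468eb000de5), (nat_lit 357), (nat_lit 361), (nat_lit 357), (nat_lit 0x494f8001245), (nat_lit 361), (nat_lit 357), (nat_lit 0xe53b135001c41)],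
  [(nat_lit 7), (nat_lit 0xff4f538000de5), (nat_lit 361), (nat_lit 0xe744d2f000667), (nat_lit 0xe74792f001b21)],
  [(nat_lit 8), (nat_lit 0xff4cd18000f1d), (nat_lit 357), (nat_lit 361), (nat_lit 357), (nat_lit 0xe94c517000637), (nat_lit 357), (nat_lit 0xe53ed33001b31)],
  [(nat_lit 8), (nat_lit 0xe948516000f1d), (nat_lit 361), (nat_lit 357), (nat_lit 0x38d0748509001339), (nat_lit 0x4913b001b91)],
  [(nat_lit 8), (nat_lit 0xec3f10d000f1d), (nat_lit 361), (nat_lit 0xe74411f001347), (nat_lit 0xf93ad07001b91)],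
  [(nat_lit 8), (nat_lit 0xf33fd23000f1d), (nat_lit 357), (nat_lit 361), (nat_lit 0xee47932000c35), (nat_lit 357), (nat_lit 361), (nat_lit 357), (nat_lit 0xe549528001afd)],
  [(nat_lit 7), (nat_lit 0x4e4ff000f1d), (nat_lit 0xe34a91b001363), (nat_lit 357), (nat_lit 361), (nat_lit 357), (nat_lit 0xe54b93e001ba1)],
  [(nat_lit 4), (nat_lit 0xef4a119001125), (nat_lit 361), (nat_lit 357), (nat_lit 0xe54694000069f), (nat_lit 0xe543d05001b5d)],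
  [(nat_lit 5), (nat_lit 0xee4453e001125), (nat_lit 357), (nat_lit 0x1334c91f001449), (nat_lit 357), (nat_lit 0xe74ed2d001c19)],
  [(nat_lit 5), (nat_lit 0xeb40908001125), (nat_lit 361), (nat_lit 0xe74ccff0006b5), (nat_lit 357), (nat_lit 361), (nat_lit 0x10f3b53f001c09)],
  [(nat_lit 8), (nat_lit 0xfa4a4f9001125), (nat_lit 361), (nat_lit 357), (nat_lit 0xec3e4f4000a6d), (nat_lit 357), (nat_lit 0x1184853f001b89)],
  [(nat_lit 8), (nat_lit 0xf250119001125), (nat_lit 361), (nat_lit 357), (nat_lit 0xe93f10d00069f), (nat_lit 361), (nat_lit 357), (nat_lit 0x11a4b503001c59)],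
  [(nat_lit 7), (nat_lit 0x3cd36001125), (nat_lit 361), (nat_lit 0x479350012cf), (nat_lit 357), (nat_lit 361), (nat_lit 0xf14f53c001b21)],
  [(nat_lit 7), (nat_lit 0xfa3d519001125), (nat_lit 361), (nat_lit 0xec3a535000533), (nat_lit 257), (nat_lit 249), (nat_lit 259), (nat_lit 0xe946d21001ac1)],
  [(nat_lit 8), (nat_lit 0xe54ad3c00069d), (nat_lit 357), (nat_lit 0xec4913500018b), (nat_lit 153), (nat_lit 133), (nat_lit 167), (nat_lit 0x1074d137001a95)],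
  [(nat_lit 8), (nat_lit 0xf249d3f00069d), (nat_lit 357), (nat_lit 0xf24ecf400018b), (nat_lit 125), (nat_lit 165), (nat_lit 0xec4792d001aa1)],
  [(nat_lit 8), (nat_lit 0x1004651200069d), (nat_lit 0xf2409280006a3), (nat_lit 0xf24f92f001b7d)],
  [(nat_lit 8), (nat_lit 0x3b93f00069d), (nat_lit 357), (nat_lit 361), (nat_lit 0xf24c519001125), (nat_lit 0xee49540001c6d)],
  [(nat_lit 7), (nat_lit 0xe339d1800069d), (nat_lit 357), (nat_lit 0xe94f1150001ab), (nat_lit 153), (nat_lit 153), (nat_lit 0xed4c524001a99)],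
  [(nat_lit 7), (nat_lit 0xe33c50800069d), (nat_lit 361), (nat_lit 0xf54a921001633), (nat_lit 361), (nat_lit 357), (nat_lit 0xeb45521001c79)],
  [(nat_lit 4), (nat_lit 0xe53e93600026f), (nat_lit 259), (nat_lit 245), (nat_lit 249), (nat_lit 257), (nat_lit 0xfa4c924000335), (nat_lit 357), (nat_lit 361), (nat_lit 357), (nat_lit 0xf14093a001bc9)],
  [(nat_lit 8), (nat_lit 0x4b12f00026f), (nat_lit 249), (nat_lit 257), (nat_lit 245), (nat_lit 259), (nat_lit 0xe944d2f000571), (nat_lit 0xfd4cd12001c59)],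
  [(nat_lit 8), (nat_lit 0x3b12900026f), (nat_lit 247), (nat_lit 249), (nat_lit 257), (nat_lit 245), (nat_lit 0xec4c10f000569), (nat_lit 361), (nat_lit 0xe548d20001af5)],
  [(nat_lit 8), (nat_lit 0x1004353600026f), (nat_lit 247), (nat_lit 249), (nat_lit 257), (nat_lit 245), (nat_lit 0xed4391a000569), (nat_lit 0xe950139001b45)],
  [(nat_lit 8), (nat_lit 0x10f4b53000026f), (nat_lit 245), (nat_lit 259), (nat_lit 245), (nat_lit 0x1014c1050005ed), (nat_lit 357), (nat_lit 361), (nat_lit 357), (nat_lit 0x1073bd33001c1d)],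
  [(nat_lit 7), (nat_lit 0xe93c93f00026f), (nat_lit 245), (nat_lit 257), (nat_lit 247), (nat_lit 259), (nat_lit 0xe94ed260002f9), (nat_lit 357), (nat_lit 0xe346d1d001ba5)],
  [(nat_lit 7), (nat_lit 0xee4d53700026f), (nat_lit 247), (nat_lit 259), (nat_lit 245), (nat_lit 0x1004b4f4000269), (nat_lit 357), (nat_lit 0xee4d129001c39)],
  [(nat_lit 3), (nat_lit 0x4413600026f), (nat_lit 257), (nat_lit 249), (nat_lit 259), (nat_lit 0xf449cf9001ac1)],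
  [(nat_lit 6), (nat_lit 0x4d4ef00026f), (nat_lit 249), (nat_lit 0xe7488f8000491), (nat_lit 0xe54f924001b4d)],
  [(nat_lit 6), (nat_lit 0xe53c93600026f), (nat_lit 249), (nat_lit 0xef4ad02000399), (nat_lit 357), (nat_lit 361), (nat_lit 357), (nat_lit 0xfc4293d001c29)],
  [(nat_lit 8), (nat_lit 0xe543936001071), (nat_lit 0xef4ed29000cbb), (nat_lit 357), (nat_lit 361), (nat_lit 357), (nat_lit 0x106484ef001b85)],
  [(nat_lit 8), (nat_lit 0x3d126001071), (nat_lit 357), (nat_lit 361), (nat_lit 357), (nat_lit 0x4fd26000ed7), (nat_lit 357), (nat_lit 0xef4c520001c69)],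
  [(nat_lit 7), (nat_lit 0xf940d24001071), (nat_lit 361), (nat_lit 357), (nat_lit 0x39d3e00051b), (nat_lit 245), (nat_lit 249), (nat_lit 259), (nat_lit 245), (nat_lit 0xe54d117001ab5)],
  [(nat_lit 7), (nat_lit 0xe945108001071), (nat_lit 361), (nat_lit 357), (nat_lit 0xfc450fa001455), (nat_lit 357), (nat_lit 361), (nat_lit 0xf84f119001c5d)],
  [(nat_lit 6), (nat_lit 0xe3484f6001071), (nat_lit 361), (nat_lit 357), (nat_lit 0x43d280005a7), (nat_lit 245), (nat_lit 249), (nat_lit 0x1074d11e001ad9)],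
  [(nat_lit 6), (nat_lit 0xfd4c135001071), (nat_lit 361), (nat_lit 0x39d1800129f), (nat_lit 0x38d3a001b2d)],
  [(nat_lit 8), (nat_lit 0xe74fcfc0010f9), (nat_lit 357), (nat_lit 0x10e3e1080016df), (nat_lit 361), (nat_lit 0x4cd2a001b6d)],
  [(nat_lit 8), (nat_lit 0xef4f52c0010f9), (nat_lit 0x11b46d3f0015e5), (nat_lit 0xe944d28001c55)],
  [(nat_lit 8), (nat_lit 0x435300010f9), (nat_lit 357), (nat_lit 0xf3480f1000223), (nat_lit 221), (nat_lit 225), (nat_lit 319), (nat_lit 0xe34a933001aa5)],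
  [(nat_lit 8), (nat_lit 0xee499230010f9), (nat_lit 357), (nat_lit 0xfb3c8fb000223), (nat_lit 221), (nat_lit 319), (nat_lit 233), (nat_lit 221), (nat_lit 0xe94d0e7001aa5)],
  [(nat_lit 8), (nat_lit 0xe33b9280010f9), (nat_lit 357), (nat_lit 0xee49d10000223), (nat_lit 223), (nat_lit 319), (nat_lit 319), (nat_lit 233), (nat_lit 0x1134a918001aa5)],
  [(nat_lit 8), (nat_lit 0xe94ad1b0010f9), (nat_lit 361), (nat_lit 0x480f4000e29), (nat_lit 357), (nat_lit 361), (nat_lit 0xe74e91b001b25)],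
  [(nat_lit 8), (nat_lit 0xe53c51b0010f9), (nat_lit 357), (nat_lit 361), (nat_lit 357), (nat_lit 0xee4e92a001765), (nat_lit 0xeb3e907001c45)],
  [(nat_lit 7), (nat_lit 0xf6451290010f9), (nat_lit 357), (nat_lit 361), (nat_lit 357), (nat_lit 0x3e10f000397), (nat_lit 247), (nat_lit 249), (nat_lit 257), (nat_lit 0x43508001ae5)],
  [(nat_lit 6), (nat_lit 0xe9491350010f9), (nat_lit 361), (nat_lit 357), (nat_lit 0xe945d22000763), (nat_lit 361), (nat_lit 0xeb40140001b69)],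
  [(nat_lit 8), (nat_lit 0xec459070019d9), (nat_lit 6145), (nat_lit 6153), (nat_lit 6163), (nat_lit 6153), (nat_lit 0xf3494ee00186b), (nat_lit 249), (nat_lit 257), (nat_lit 245), (nat_lit 259), (nat_lit 0x11541915001aa9)],
  [(nat_lit 8), (nat_lit 0xf348d340019d9), (nat_lit 6141), (nat_lit 6153), (nat_lit 0xee3d9360018b7), (nat_lit 357), (nat_lit 361), (nat_lit 357), (nat_lit 0x4c8f4001b39)],
  [(nat_lit 8), (nat_lit 0xec3f11c0019d9), (nat_lit 6141), (nat_lit 6153), (nat_lit 0xf93ccf20018b7), (nat_lit 357), (nat_lit 0xe7480fc001b35)],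
  [(nat_lit 8), (nat_lit 0xf2419210019d9), (nat_lit 6161), (nat_lit 0xe74711f0018b7), (nat_lit 357), (nat_lit 361), (nat_lit 357), (nat_lit 0xf4418f4001b39)],
  [(nat_lit 8), (nat_lit 0x45d2c0019d9), (nat_lit 6143), (nat_lit 6153), (nat_lit 6161), (nat_lit 6155), (nat_lit 0xf64c101001953), (nat_lit 357), (nat_lit 361), (nat_lit 357), (nat_lit 0xe53c51f001b4d)],
  [(nat_lit 8), (nat_lit 0x111485130019d9), (nat_lit 6143), (nat_lit 6153), (nat_lit 6161), (nat_lit 6155), (nat_lit 0x4bd17001953), (nat_lit 357), (nat_lit 361), (nat_lit 357), (nat_lit 0xeb43d23001cf1)],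
  [(nat_lit 8), (nat_lit 0xec4c9330019d9), (nat_lit 6143), (nat_lit 6145), (nat_lit 6155), (nat_lit 0xe93dd3a001a3b), (nat_lit 357), (nat_lit 361), (nat_lit 357), (nat_lit 0xfa42536001c81)],
  [(nat_lit 9), (nat_lit 0xeb4f900000263), (nat_lit 259), (nat_lit 0x4a10e000299), (nat_lit 361), (nat_lit 357), (nat_lit 0xf64d108001c15)],
  [(nat_lit 8), (nat_lit 0xe55012d000263), (nat_lit 257), (nat_lit 245), (nat_lit 259), (nat_lit 0xe74e52a000371), (nat_lit 357), (nat_lit 361), (nat_lit 0xe34f53a001cd9)],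
  [(nat_lit 8), (nat_lit 0xe94a121000263), (nat_lit 247), (nat_lit 257), (nat_lit 249), (nat_lit 259), (nat_lit 0xfa4bd350005a5), (nat_lit 361), (nat_lit 357), (nat_lit 0xe54d929001d05)],
  [(nat_lit 8), (nat_lit 0xe545531000263), (nat_lit 247), (nat_lit 257), (nat_lit 249), (nat_lit 259), (nat_lit 0xe93b91e0005a5), (nat_lit 361), (nat_lit 0xf645d22001cfd)],
  [(nat_lit 8), (nat_lit 0xfc4a51d000263), (nat_lit 247), (nat_lit 257), (nat_lit 249), (nat_lit 259), (nat_lit 0xf33e909000251), (nat_lit 361), (nat_lit 357), (nat_lit 0xef4f919001c69)],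
  [(nat_lit 8), (nat_lit 0xf33d526000263), (nat_lit 259), (nat_lit 0xe33f128000299), (nat_lit 0xef4c102001c99)],
  [(nat_lit 6), (nat_lit 0xe74f93e000263), (nat_lit 247), (nat_lit 257), (nat_lit 249), (nat_lit 0xe94acf10003b5), (nat_lit 357), (nat_lit 0xf34d51f001b41)],
  [(nat_lit 8), (nat_lit 0xe94550000148d), (nat_lit 0xf64d4ef000ed7), (nat_lit 357), (nat_lit 0xeb40522001c69)],
  [(nat_lit 8), (nat_lit 0x10a3cd0f0007db), (nat_lit 357), (nat_lit 0xee3d9210010e3), (nat_lit 357), (nat_lit 0xf93b936001c6d)],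
  [(nat_lit 8), (nat_lit 0xeb3ed030007db), (nat_lit 357), (nat_lit 0x102435190010e3), (nat_lit 357), (nat_lit 361), (nat_lit 0x4050c001cd1)],
  [(nat_lit 8), (nat_lit 0xfb3a51e0007db), (nat_lit 357), (nat_lit 361), (nat_lit 357), (nat_lit 0xf13ed1800137d), (nat_lit 361), (nat_lit 0xef4c511001cd1)],
  [(nat_lit 8), (nat_lit 0xfc425060007db), (nat_lit 357), (nat_lit 361), (nat_lit 357), (nat_lit 0xe34013600137d), (nat_lit 357), (nat_lit 0x4c512001cbd)],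
  [(nat_lit 8), (nat_lit 0xe54f4ef000605), (nat_lit 0x1023f13900025f), (nat_lit 249), (nat_lit 257), (nat_lit 0x39d1c001ab1)],
  [(nat_lit 8), (nat_lit 0x4a8fd000691), (nat_lit 0xf14c8fe00069f), (nat_lit 361), (nat_lit 0xe94350b001c59)],
  [(nat_lit 8), (nat_lit 0xfc3b534000721), (nat_lit 357), (nat_lit 0xe34a540000d0d), (nat_lit 357), (nat_lit 361), (nat_lit 0xfa3d125001d09)],
  [(nat_lit 8), (nat_lit 0xef4a8fe000721), (nat_lit 357), (nat_lit 361), (nat_lit 357), (nat_lit 0xe949934001045), (nat_lit 361), (nat_lit 357), (nat_lit 0xe94b13d001cc9)],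
  [(nat_lit 8), (nat_lit 0xeb4591000017f), (nat_lit 155), (nat_lit 133), (nat_lit 165), (nat_lit 0x1064a507000159), (nat_lit 247), (nat_lit 257), (nat_lit 245), (nat_lit 0xec3cd16001acd)],
  [(nat_lit 8), (nat_lit 0x4350200017f), (nat_lit 125), (nat_lit 129), (nat_lit 0xeb4a0fb0010f3), (nat_lit 357), (nat_lit 361), (nat_lit 0xe93d12e001cc5)],
  [(nat_lit 8), (nat_lit 0x1053dd2d000d65), (nat_lit 357), (nat_lit 361), (nat_lit 357), (nat_lit 0xf344d34000fd9), (nat_lit 357), (nat_lit 0x4c4e3001bdd)],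
  [(nat_lit 8), (nat_lit 0xf140519000d65), (nat_lit 357), (nat_lit 361), (nat_lit 357), (nat_lit 0xfc3e91b000b1d), (nat_lit 357), (nat_lit 361), (nat_lit 357), (nat_lit 0x4d93f001b19)]]
noncomputable def R17 : List (List ℕ) :=
  [[(nat_lit 8), (nat_lit 0xe5418fe000d65), (nat_lit 0xf549d31000675), (nat_lit 357), (nat_lit 361), (nat_lit 357), (nat_lit 0xe74c0ed001b41)],
  [(nat_lit 8), (nat_lit 0xfd4211d000d65), (nat_lit 361), (nat_lit 357), (nat_lit 0x4e51f0012b5), (nat_lit 0x42113001bf1)],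
  [(nat_lit 8), (nat_lit 0xe54ad3d000d65), (nat_lit 361), (nat_lit 357), (nat_lit 0x41d220012b5), (nat_lit 361), (nat_lit 357), (nat_lit 0xee4912a001d35)],
  [(nat_lit 8), (nat_lit 0xf64acf3000d65), (nat_lit 0xe345d34001215), (nat_lit 361), (nat_lit 0x3e13d001b39)],
  [(nat_lit 7), (nat_lit 0xe54c139000d65), (nat_lit 361), (nat_lit 0xf449540000d5d), (nat_lit 361), (nat_lit 0xe94ed00001c1d)],
  [(nat_lit 8), (nat_lit 0x4a51b000ad1), (nat_lit 361), (nat_lit 357), (nat_lit 0xfa3f534000f0f), (nat_lit 0xf348506001b21)],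
  [(nat_lit 7), (nat_lit 0xe54a936000a99), (nat_lit 357), (nat_lit 361), (nat_lit 0x1084691e0006e1), (nat_lit 361), (nat_lit 357), (nat_lit 0xeb4bcfb001b89)],
  [(nat_lit 8), (nat_lit 0xf44e92b000dd9), (nat_lit 357), (nat_lit 0xed4d135001497), (nat_lit 361), (nat_lit 0xfc4c90b001b51)],
  [(nat_lit 8), (nat_lit 0xe745501000297), (nat_lit 247), (nat_lit 259), (nat_lit 245), (nat_lit 0xef4d93c000541), (nat_lit 361), (nat_lit 357), (nat_lit 0x3d92e001c3d)],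
  [(nat_lit 8), (nat_lit 0xed3dd1500061b), (nat_lit 0xee44d3500092f), (nat_lit 0xe342917001b4d)],
  [(nat_lit 8), (nat_lit 0xf149d3100061b), (nat_lit 357), (nat_lit 361), (nat_lit 357), (nat_lit 0x100481310015dd), (nat_lit 361), (nat_lit 0x3c93c001c91)],
  [(nat_lit 8), (nat_lit 0xfa4c1390009ff), (nat_lit 0xe5464ee000951), (nat_lit 357), (nat_lit 0xf93a51c001ba9)],
  [(nat_lit 8), (nat_lit 0x1193d0ef000997), (nat_lit 357), (nat_lit 0xed409080015b5), (nat_lit 361), (nat_lit 357), (nat_lit 0xf14850c001b11)],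
  [(nat_lit 8), (nat_lit 0x48510000a6d), (nat_lit 357), (nat_lit 0xec49d3a000de5), (nat_lit 361), (nat_lit 0x10d4850e001cd9)],
  [(nat_lit 8), (nat_lit 0xeb3ed17000a6d), (nat_lit 361), (nat_lit 0xf2451290005cf), (nat_lit 245), (nat_lit 257), (nat_lit 247), (nat_lit 259), (nat_lit 0xf140922001ac5)],
  [(nat_lit 8), (nat_lit 0x40914001945), (nat_lit 6145), (nat_lit 6153), (nat_lit 6163), (nat_lit 0xeb4f5340018b7), (nat_lit 357), (nat_lit 0xf54293b001b41)],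
  [(nat_lit 8), (nat_lit 0xf34d0fc00028b), (nat_lit 257), (nat_lit 247), (nat_lit 259), (nat_lit 0xf24c13c000299), (nat_lit 357), (nat_lit 361), (nat_lit 0xe94e121001b6d)],
  [(nat_lit 8), (nat_lit 0xeb3e4f6000627), (nat_lit 0xf34f9100005af), (nat_lit 257), (nat_lit 249), (nat_lit 257), (nat_lit 0xfd4a518001ae5)],
  [(nat_lit 8), (nat_lit 0xe34212f0018d5), (nat_lit 6145), (nat_lit 6155), (nat_lit 6163), (nat_lit 6155), (nat_lit 0xeb4810c001847), (nat_lit 249), (nat_lit 257), (nat_lit 0x1074812e001ac1)],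
  [(nat_lit 8), (nat_lit 0xe9475300002b7), (nat_lit 247), (nat_lit 257), (nat_lit 0x4bcf30002c9), (nat_lit 357), (nat_lit 361), (nat_lit 357), (nat_lit 0x4cd01001c89)],
  [(nat_lit 8), (nat_lit 0xfa4c1320002b7), (nat_lit 247), (nat_lit 257), (nat_lit 0xf43bd350002c9), (nat_lit 357), (nat_lit 361), (nat_lit 0xf93fd36001d05)],
  [(nat_lit 6), (nat_lit 0xe54a110001823), (nat_lit 223), (nat_lit 317), (nat_lit 221), (nat_lit 233), (nat_lit 0xf43f0ed0001c9), (nat_lit 361), (nat_lit 357), (nat_lit 0xe54e52a001d75)],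
  [(nat_lit 8), (nat_lit 0xed4fd1d0018eb), (nat_lit 0xf44911f00028f), (nat_lit 257), (nat_lit 247), (nat_lit 259), (nat_lit 0xe54ed31001ae9)],
  [(nat_lit 8), (nat_lit 0xf44e5100018eb), (nat_lit 0xf44b8ff00028f), (nat_lit 249), (nat_lit 259), (nat_lit 247), (nat_lit 257), (nat_lit 0xed494fb001acd)],
  [(nat_lit 8), (nat_lit 0xee501360018eb), (nat_lit 357), (nat_lit 361), (nat_lit 357), (nat_lit 0xe74a53a00044f), (nat_lit 0xef4d91c001ac1)],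
  [(nat_lit 8), (nat_lit 0xfb43d3d0018eb), (nat_lit 357), (nat_lit 361), (nat_lit 357), (nat_lit 0xfc4012200044f), (nat_lit 245), (nat_lit 259), (nat_lit 247), (nat_lit 0x1024c0f3001ab1)],
  [(nat_lit 8), (nat_lit 0x414f40018eb), (nat_lit 357), (nat_lit 361), (nat_lit 357), (nat_lit 0xeb3cd3f00044f), (nat_lit 257), (nat_lit 247), (nat_lit 0xeb4211a001aa9)],
  [(nat_lit 8), (nat_lit 0xf5429390018eb), (nat_lit 357), (nat_lit 361), (nat_lit 357), (nat_lit 0xe54e1290003f3), (nat_lit 247), (nat_lit 257), (nat_lit 249), (nat_lit 259), (nat_lit 0x4bd28001acd)],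
  [(nat_lit 8), (nat_lit 0xe946d18001897), (nat_lit 249), (nat_lit 257), (nat_lit 245), (nat_lit 259), (nat_lit 0xed429350003ad), (nat_lit 357), (nat_lit 361), (nat_lit 0x10b4f4fe001d15)],
  [(nat_lit 8), (nat_lit 0x45d34001897), (nat_lit 249), (nat_lit 257), (nat_lit 245), (nat_lit 0xe54051400055d), (nat_lit 357), (nat_lit 361), (nat_lit 0xe749d3b001aed)],
  [(nat_lit 4), (nat_lit 0xe9000023), (nat_lit 153), (nat_lit 129), (nat_lit 167), (nat_lit 0xe74f93b0000d9), (nat_lit 167), (nat_lit 133), (nat_lit 141), (nat_lit 0x1073a4fa000025)],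
  [(nat_lit 4), (nat_lit 0x38cf6000023), (nat_lit 129), (nat_lit 155), (nat_lit 167), (nat_lit 141), (nat_lit 0xf34ad23000021), (nat_lit 0xeb4593f001de1)],
  [(nat_lit 8), (nat_lit 0xf14c106000023), (nat_lit 155), (nat_lit 155), (nat_lit 0xf24c5280001c1), (nat_lit 357), (nat_lit 361), (nat_lit 0xec50132001cbd)],
  [(nat_lit 8), (nat_lit 0xe345908000023), (nat_lit 129), (nat_lit 155), (nat_lit 167), (nat_lit 141), (nat_lit 0xe54451d000021), (nat_lit 6749), (nat_lit 6757), (nat_lit 6749), (nat_lit 6757), (nat_lit 6741), (nat_lit 0xe74950f001de5)],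
  [(nat_lit 8), (nat_lit 0xf93b902001a6b), (nat_lit 0xe7500f2000d35), (nat_lit 361), (nat_lit 0xfa470f4001afd)],
  [(nat_lit 4), (nat_lit 0x39cef000027), (nat_lit 153), (nat_lit 153), (nat_lit 0x11c4d91f0017f9), (nat_lit 125), (nat_lit 153), (nat_lit 141), (nat_lit 0x1084991b000025)],
  [(nat_lit 9), (nat_lit 0x39cef000027), (nat_lit 153), (nat_lit 153), (nat_lit 0x11c4d91f0017f9), (nat_lit 167), (nat_lit 141), (nat_lit 0xfa408ef001a99)],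
  [(nat_lit 8), (nat_lit 0xed49520000027), (nat_lit 153), (nat_lit 165), (nat_lit 141), (nat_lit 0xe33d905000d97), (nat_lit 357), (nat_lit 361), (nat_lit 0x1014d528001b81)],
  [(nat_lit 8), (nat_lit 0xeb4b13b000027), (nat_lit 129), (nat_lit 137), (nat_lit 141), (nat_lit 0x5012f001a99), (nat_lit 6803), (nat_lit 6793), (nat_lit 6803), (nat_lit 0xe94d0ef001df9)],
  [(nat_lit 8), (nat_lit 0xe54b4f8000027), (nat_lit 129), (nat_lit 137), (nat_lit 141), (nat_lit 0xfa40910001a99), (nat_lit 6789), (nat_lit 6795), (nat_lit 0xf34a134001df9)],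
  [(nat_lit 8), (nat_lit 0xe54d518000027), (nat_lit 165), (nat_lit 125), (nat_lit 167), (nat_lit 0xfb3e52f000171), (nat_lit 0xe33d92a001af5)],
  [(nat_lit 6), (nat_lit 0xe9000027), (nat_lit 0x3b8f60000bd), (nat_lit 141), (nat_lit 165), (nat_lit 153), (nat_lit 0xe34fd36000025)],
  [(nat_lit 8), (nat_lit 0xf34e12a001b97), (nat_lit 357), (nat_lit 361), (nat_lit 357), (nat_lit 0xef3cd0500167d), (nat_lit 0xfa3ccf1001d99)],
  [(nat_lit 8), (nat_lit 0x3f0ed001b97), (nat_lit 357), (nat_lit 361), (nat_lit 357), (nat_lit 0xe94393400167d), (nat_lit 357), (nat_lit 0x1023bd22001db9)],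
  [(nat_lit 8), (nat_lit 0xeb4d105001b97), (nat_lit 357), (nat_lit 361), (nat_lit 0xec4a51b0014bf), (nat_lit 361), (nat_lit 357), (nat_lit 0xef4052a001b09)],
  [(nat_lit 8), (nat_lit 0xe53d0f4001b97), (nat_lit 0xf44a134001051), (nat_lit 357), (nat_lit 361), (nat_lit 357), (nat_lit 0xec41d05001bd1)],
  [(nat_lit 8), (nat_lit 0xe35012d001b97), (nat_lit 361), (nat_lit 0x41517001063), (nat_lit 361), (nat_lit 0xe545d25001cd1)],
  [(nat_lit 8), (nat_lit 0x100474f4001b97), (nat_lit 361), (nat_lit 0xf749d24000a8f), (nat_lit 0xe9488f8001c99)],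
  [(nat_lit 8), (nat_lit 0xe34a93a001b97), (nat_lit 357), (nat_lit 361), (nat_lit 357), (nat_lit 0xff48101000b4b), (nat_lit 357), (nat_lit 361), (nat_lit 357), (nat_lit 0x1064c105001d45)],
  [(nat_lit 8), (nat_lit 0x1083d12a001b97), (nat_lit 357), (nat_lit 361), (nat_lit 357), (nat_lit 0x4052000094d), (nat_lit 361), (nat_lit 357), (nat_lit 0xec4a136001d21)],
  [(nat_lit 8), (nat_lit 0xe54e53d001b97), (nat_lit 357), (nat_lit 361), (nat_lit 0xf14c90d001aed), (nat_lit 6789), (nat_lit 6803), (nat_lit 6789), (nat_lit 6801), (nat_lit 0x3d917001dfd)],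
  [(nat_lit 8), (nat_lit 0xeb3f8f3001b97), (nat_lit 357), (nat_lit 361), (nat_lit 0xe94f5160018dd), (nat_lit 6143), (nat_lit 0x4dcfe001ddd)],
  [(nat_lit 7), (nat_lit 0xf54792a001b97), (nat_lit 357), (nat_lit 0x480ee001465), (nat_lit 357), (nat_lit 361), (nat_lit 0xec44935001c05)],
  [(nat_lit 6), (nat_lit 0xe343d3a001b97), (nat_lit 361), (nat_lit 357), (nat_lit 0xf54152f0006af), (nat_lit 357), (nat_lit 361), (nat_lit 357), (nat_lit 0xee4850e001bc5)],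
  [(nat_lit 8), (nat_lit 0xfc3fcf4001b1b), (nat_lit 0xe74c92e000709), (nat_lit 357), (nat_lit 361), (nat_lit 0x3c914001d39)],
  [(nat_lit 8), (nat_lit 0x10c3d51e001ab7), (nat_lit 247), (nat_lit 257), (nat_lit 247), (nat_lit 0xf13d10800184d), (nat_lit 6143), (nat_lit 6163), (nat_lit 0xf74a4ef001dc5)],
  [(nat_lit 1), (nat_lit 0xf94753f00002b), (nat_lit 125), (nat_lit 141), (nat_lit 41)],
  [(nat_lit 8), (nat_lit 0x401370000a9), (nat_lit 125), (nat_lit 155), (nat_lit 129), (nat_lit 167), (nat_lit 0xef4411e0000b7), (nat_lit 129), (nat_lit 153), (nat_lit 167), (nat_lit 129), (nat_lit 0xf244d2e000029)],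
  [(nat_lit 8), (nat_lit 0xe33c50a0000a9), (nat_lit 0xf4498eb0000b7), (nat_lit 133), (nat_lit 167), (nat_lit 153), (nat_lit 0xe345509000029)],
  [(nat_lit 0x785e3d0225698665c01), (nat_lit 0xf44091c001e53), (nat_lit 77), (nat_lit 81), (nat_lit 91), (nat_lit 0xfc4a139001e4d)],
  [(nat_lit 5), (nat_lit 0xe93b914000093), (nat_lit 53), (nat_lit 69), (nat_lit 63), (nat_lit 57), (nat_lit 69), (nat_lit 61), (nat_lit 65), (nat_lit 69), (nat_lit 67), (nat_lit 0x3f12e00000d), (nat_lit 125), (nat_lit 155), (nat_lit 0x4e934000029)],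
  [(nat_lit 8), (nat_lit 0x38cf1000093), (nat_lit 53), (nat_lit 57), (nat_lit 61), (nat_lit 53), (nat_lit 61), (nat_lit 57), (nat_lit 69), (nat_lit 63), (nat_lit 53), (nat_lit 69), (nat_lit 0xe53a527000091), (nat_lit 125), (nat_lit 129), (nat_lit 133), (nat_lit 0x4613b001e59)],
  [(nat_lit 7), (nat_lit 0xe33b4f6000093), (nat_lit 49), (nat_lit 53), (nat_lit 61), (nat_lit 65), (nat_lit 69), (nat_lit 63), (nat_lit 53), (nat_lit 57), (nat_lit 67), (nat_lit 0xee4a505000091), (nat_lit 125), (nat_lit 129), (nat_lit 141), (nat_lit 0xf14ed2b001e59)],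
  [(nat_lit 5), (nat_lit 0xf54191100016d), (nat_lit 0xe34a12300017f), (nat_lit 133), (nat_lit 167), (nat_lit 133), (nat_lit 0x4a119001e5d)],
  [(nat_lit 10), (nat_lit 0xe74c10700016d), (nat_lit 361), (nat_lit 0xf641930000173), (nat_lit 165), (nat_lit 125), (nat_lit 167), (nat_lit 0xec40920001e65)],
  [(nat_lit 0x1b0b321d755317f5f401), (nat_lit 0xee4d4fe001e6b), (nat_lit 125), (nat_lit 129), (nat_lit 137), (nat_lit 141), (nat_lit 0xee4851f001e65)],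
  [(nat_lit 5), (nat_lit 0x11442132001747), (nat_lit 361), (nat_lit 357), (nat_lit 0xf5501020010f1), (nat_lit 125), (nat_lit 129), (nat_lit 133), (nat_lit 0xe747507001e59)],
  [(nat_lit 5), (nat_lit 0xe33bd40000013), (nat_lit 61), (nat_lit 69), (nat_lit 63), (nat_lit 57), (nat_lit 61), (nat_lit 53), (nat_lit 61), (nat_lit 67), (nat_lit 0xeb3d53c000065), (nat_lit 83), (nat_lit 79), (nat_lit 119), (nat_lit 81), (nat_lit 97), (nat_lit 0xec3b932001e4d)],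
  [(nat_lit 5), (nat_lit 0x4c53f000013), (nat_lit 61), (nat_lit 69), (nat_lit 63), (nat_lit 57), (nat_lit 61), (nat_lit 53), (nat_lit 61), (nat_lit 67), (nat_lit 0xed44d31000065), (nat_lit 77), (nat_lit 77), (nat_lit 77), (nat_lit 89), (nat_lit 117), (nat_lit 0xfa4c53e001e4d)],
  [(nat_lit 8), (nat_lit 0xed4990d000013), (nat_lit 53), (nat_lit 57), (nat_lit 63), (nat_lit 57), (nat_lit 63), (nat_lit 67), (nat_lit 0xe34513e000011), (nat_lit 227), (nat_lit 0xe347139001e75)],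
  [(nat_lit 8), (nat_lit 0xe74bd1c000013), (nat_lit 53), (nat_lit 57), (nat_lit 63), (nat_lit 57), (nat_lit 63), (nat_lit 67), (nat_lit 0x3ed30000011), (nat_lit 221), (nat_lit 221), (nat_lit 225), (nat_lit 0xf74e934001e79)],
  [(nat_lit 7), (nat_lit 0x394ef000013), (nat_lit 67), (nat_lit 69), (nat_lit 63), (nat_lit 57), (nat_lit 69), (nat_lit 63), (nat_lit 57), (nat_lit 0xe93d118000011), (nat_lit 221), (nat_lit 0xe54ad30001e75)],
  [(nat_lit 7), (nat_lit 0x39cef000013), (nat_lit 57), (nat_lit 61), (nat_lit 57), (nat_lit 65), (nat_lit 69), (nat_lit 61), (nat_lit 57), (nat_lit 69), (nat_lit 63), (nat_lit 0xe74e13e000091), (nat_lit 125), (nat_lit 0xeb4fd30001e59)],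
  [(nat_lit 3), (nat_lit 0xed421090000ef), (nat_lit 125), (nat_lit 129), (nat_lit 133), (nat_lit 155), (nat_lit 0x1024b923001e59)],
  [(nat_lit 4), (nat_lit 0x39cef000017), (nat_lit 61), (nat_lit 53), (nat_lit 61), (nat_lit 67), (nat_lit 69), (nat_lit 61), (nat_lit 57), (nat_lit 63), (nat_lit 67), (nat_lit 0x45102000091), (nat_lit 141), (nat_lit 0xf73e51b001e59)],
  [(nat_lit 4), (nat_lit 0x3b914000017), (nat_lit 53), (nat_lit 69), (nat_lit 61), (nat_lit 57), (nat_lit 61), (nat_lit 57), (nat_lit 0x404ec000011), (nat_lit 221), (nat_lit 225), (nat_lit 223), (nat_lit 0x3e12f001e75)],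
  [(nat_lit 9), (nat_lit 0x39cef000017), (nat_lit 61), (nat_lit 53), (nat_lit 61), (nat_lit 67), (nat_lit 69), (nat_lit 61), (nat_lit 57), (nat_lit 63), (nat_lit 67), (nat_lit 0x45102000091), (nat_lit 165), (nat_lit 125), (nat_lit 167), (nat_lit 0xf844d34001e59)],
  [(nat_lit 9), (nat_lit 0x3b914000017), (nat_lit 53), (nat_lit 69), (nat_lit 61), (nat_lit 57), (nat_lit 61), (nat_lit 57), (nat_lit 0x404ec000011), (nat_lit 225), (nat_lit 0xe545d25001e79)],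
  [(nat_lit 8), (nat_lit 23), (nat_lit 69), (nat_lit 65), (nat_lit 0x48d03000015), (nat_lit 247), (nat_lit 0xf44d92b001e99)],
  [(nat_lit 8), (nat_lit 0xed4990d000017), (nat_lit 69), (nat_lit 65), (nat_lit 0xe54c129000015), (nat_lit 247), (nat_lit 0xe7420f4001e95)],
  [(nat_lit 8), (nat_lit 0xe74bd1c000017), (nat_lit 69), (nat_lit 65), (nat_lit 0xf44950d000015), (nat_lit 247), (nat_lit 0x4fd26001e9d)],
  [(nat_lit 8), (nat_lit 0x11646123000017), (nat_lit 69), (nat_lit 65), (nat_lit 0xec46510000015), (nat_lit 257), (nat_lit 0xe33f0f9001e91)],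
  [(nat_lit 8), (nat_lit 0xef000017), (nat_lit 53), (nat_lit 65), (nat_lit 69), (nat_lit 63), (nat_lit 57), (nat_lit 61), (nat_lit 69), (nat_lit 67), (nat_lit 69), (nat_lit 0xe93f0f4000015), (nat_lit 0x42d0b001e99)],
  [(nat_lit 8), (nat_lit 0xf23e91c000017), (nat_lit 53), (nat_lit 65), (nat_lit 69), (nat_lit 63), (nat_lit 57), (nat_lit 61), (nat_lit 69), (nat_lit 67), (nat_lit 69), (nat_lit 0x3bd3e000015), (nat_lit 245), (nat_lit 0xe53b90c001e91)],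
  [(nat_lit 8), (nat_lit 0xeb4b13b000017), (nat_lit 53), (nat_lit 65), (nat_lit 69), (nat_lit 63), (nat_lit 57), (nat_lit 61), (nat_lit 69), (nat_lit 67), (nat_lit 69), (nat_lit 0x4d53e000015), (nat_lit 0x45109001e95)],
  [(nat_lit 8), (nat_lit 0xf14cd22000017), (nat_lit 61), (nat_lit 53), (nat_lit 61), (nat_lit 67), (nat_lit 69), (nat_lit 61), (nat_lit 57), (nat_lit 63), (nat_lit 67), (nat_lit 0xe34d918000091), (nat_lit 167), (nat_lit 133), (nat_lit 165), (nat_lit 0xe34e4ff001e59)],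
  [(nat_lit 8), (nat_lit 0xec470ff000017), (nat_lit 61), (nat_lit 53), (nat_lit 61), (nat_lit 67), (nat_lit 69), (nat_lit 61), (nat_lit 57), (nat_lit 63), (nat_lit 67), (nat_lit 0xf3000091), (nat_lit 125), (nat_lit 0xf64d512001e59)],
  [(nat_lit 8), (nat_lit 0xf542532000017), (nat_lit 61), (nat_lit 53), (nat_lit 61), (nat_lit 67), (nat_lit 69), (nat_lit 61), (nat_lit 57), (nat_lit 63), (nat_lit 67), (nat_lit 0xe33a518000091), (nat_lit 0xeb48521001e59)],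
  [(nat_lit 8), (nat_lit 0xe33e91c000017), (nat_lit 53), (nat_lit 69), (nat_lit 61), (nat_lit 57), (nat_lit 61), (nat_lit 57), (nat_lit 0xe73d0fa000011), (nat_lit 223), (nat_lit 0xe34b93c001e75)],
  [(nat_lit 8), (nat_lit 0x40139000017), (nat_lit 53), (nat_lit 69), (nat_lit 61), (nat_lit 57), (nat_lit 61), (nat_lit 57), (nat_lit 0xe348118000011), (nat_lit 223), (nat_lit 0xee4d134001e79)],
  [(nat_lit 8), (nat_lit 0xe74ed21000017), (nat_lit 53), (nat_lit 69), (nat_lit 61), (nat_lit 57), (nat_lit 61), (nat_lit 57), (nat_lit 0xe3484e7000011), (nat_lit 0xe54c124001e75)],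
  [(nat_lit 8), (nat_lit 0xe54453c000017), (nat_lit 53), (nat_lit 69), (nat_lit 61), (nat_lit 57), (nat_lit 61), (nat_lit 57), (nat_lit 0xe94c90d000011), (nat_lit 221), (nat_lit 0xef48114001e75)],
  [(nat_lit 8), (nat_lit 0x468fe000017), (nat_lit 53), (nat_lit 69), (nat_lit 61), (nat_lit 57), (nat_lit 61), (nat_lit 57), (nat_lit 0x3dd2b000011), (nat_lit 221), (nat_lit 221), (nat_lit 221), (nat_lit 0x1014412f001e79)],
  [(nat_lit 8), (nat_lit 0xe350112000017), (nat_lit 69), (nat_lit 61), (nat_lit 57), (nat_lit 61), (nat_lit 57), (nat_lit 69), (nat_lit 67), (nat_lit 69), (nat_lit 0xe33f134000015), (nat_lit 257), (nat_lit 0x48103001e91)],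
  [(nat_lit 8), (nat_lit 0xe745933000017), (nat_lit 69), (nat_lit 61), (nat_lit 57), (nat_lit 61), (nat_lit 57), (nat_lit 69), (nat_lit 67), (nat_lit 69), (nat_lit 0xe74ed2f000015), (nat_lit 0x4c13b001e95)],
  [(nat_lit 8), (nat_lit 0xf1468f7000017), (nat_lit 69), (nat_lit 61), (nat_lit 57), (nat_lit 61), (nat_lit 57), (nat_lit 69), (nat_lit 67), (nat_lit 69), (nat_lit 0xe54853b000015), (nat_lit 0xf247921001e9d)],
  [(nat_lit 7), (nat_lit 0xe53b4ef000017), (nat_lit 57), (nat_lit 61), (nat_lit 57), (nat_lit 61), (nat_lit 53), (nat_lit 67), (nat_lit 69), (nat_lit 61), (nat_lit 65), (nat_lit 69), (nat_lit 0xe94291c000015), (nat_lit 245), (nat_lit 0x394ec001e9d)],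
  [(nat_lit 7), (nat_lit 0x39d23000017), (nat_lit 65), (nat_lit 69), (nat_lit 61), (nat_lit 57), (nat_lit 65), (nat_lit 69), (nat_lit 63), (nat_lit 65), (nat_lit 0xe34c503000011), (nat_lit 221), (nat_lit 225), (nat_lit 223), (nat_lit 0xed4391a001e75)],
  [(nat_lit 9), (nat_lit 0xe33d10a000107), (nat_lit 125), (nat_lit 137), (nat_lit 153), (nat_lit 165), (nat_lit 0xec41d40000159), (nat_lit 247), (nat_lit 259), (nat_lit 247), (nat_lit 0xf14c4ee001ecd)],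
  [(nat_lit 5), (nat_lit 0xf3404f3000107), (nat_lit 125), (nat_lit 165), (nat_lit 129), (nat_lit 155), (nat_lit 0xe73e915000159), (nat_lit 249), (nat_lit 259), (nat_lit 245), (nat_lit 0xed4bcfc001ee1)],
  [(nat_lit 5), (nat_lit 0xeb43d11000107), (nat_lit 125), (nat_lit 165), (nat_lit 129), (nat_lit 155), (nat_lit 0xed4312f000159), (nat_lit 247), (nat_lit 259), (nat_lit 245), (nat_lit 0x1154a517001e95)],
  [(nat_lit 5), (nat_lit 0xe54152d000107), (nat_lit 0xef4a13b000137), (nat_lit 257), (nat_lit 247), (nat_lit 259), (nat_lit 0xe34c107001ea5)],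
  [(nat_lit 8), (nat_lit 0xf34150f000107), (nat_lit 133), (nat_lit 0xe544113000105), (nat_lit 0xe74ad1d001ef9)],
  [(nat_lit 8), (nat_lit 0xe74c124000107), (nat_lit 133), (nat_lit 0xf93ed25000105), (nat_lit 0xec48521001ef1)],
  [(nat_lit 9), (nat_lit 0xe93c50a00027d), (nat_lit 0x10747d0a0001cf), (nat_lit 223), (nat_lit 319), (nat_lit 0xe53c93c001e79)],
  [(nat_lit 8), (nat_lit 0xe34391a00027d), (nat_lit 0x3ecf3000253), (nat_lit 259), (nat_lit 245), (nat_lit 249), (nat_lit 257), (nat_lit 0xe33f134001ea9)],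
  [(nat_lit 8), (nat_lit 0xe34ed2d00027d), (nat_lit 0x1073d534000253), (nat_lit 257), (nat_lit 247), (nat_lit 259), (nat_lit 0x4510f001ea5)],
  [(nat_lit 8), (nat_lit 0xe345d1a00027d), (nat_lit 361), (nat_lit 0xe94553400023f), (nat_lit 0x39d0b001f0d)],
  [(nat_lit 8), (nat_lit 0xed4712900027d), (nat_lit 361), (nat_lit 0xe95011b00025b), (nat_lit 245), (nat_lit 0xef45908001f15)],
  [(nat_lit 8), (nat_lit 0x4d4fc000281), (nat_lit 357), (nat_lit 0xeb469130001f3), (nat_lit 227), (nat_lit 233), (nat_lit 319), (nat_lit 225), (nat_lit 0xe34fcf4001e8d)],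
  [(nat_lit 8), (nat_lit 0xf84d4ef000281), (nat_lit 357), (nat_lit 0x3f12b0001f3), (nat_lit 223), (nat_lit 319), (nat_lit 225), (nat_lit 0xe54e53c001e89)],
  [(nat_lit 9), (nat_lit 0xe94b107000239), (nat_lit 361), (nat_lit 357), (nat_lit 0x4491f000203), (nat_lit 227), (nat_lit 233), (nat_lit 221), (nat_lit 0xe94790f001e75)],
  [(nat_lit 5), (nat_lit 0x3c8fe00036d), (nat_lit 361), (nat_lit 0x38d054712f0003e3), (nat_lit 247), (nat_lit 249), (nat_lit 257), (nat_lit 245), (nat_lit 0xfb49901001ecd)],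
  [(nat_lit 3), (nat_lit 0x3b513000131), (nat_lit 259), (nat_lit 247), (nat_lit 0xef48926001e99)],
  [(nat_lit 7), (nat_lit 0xec4d9000003cd), (nat_lit 361), (nat_lit 357), (nat_lit 0xf34a9270004cb), (nat_lit 249), (nat_lit 0xe33d915001ee9)],
  [(nat_lit 7), (nat_lit 0xe5430fb00185d), (nat_lit 6143), (nat_lit 6153), (nat_lit 0xe34bd0c001887), (nat_lit 257), (nat_lit 245), (nat_lit 0x3d92c001ee9)],
  [(nat_lit 5), (nat_lit 0xec4d937000385), (nat_lit 0xee4dd1f001675), (nat_lit 225), (nat_lit 233), (nat_lit 225), (nat_lit 317), (nat_lit 0xe741525001e7d)],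
  [(nat_lit 7), (nat_lit 0xeb3cd37000585), (nat_lit 357), (nat_lit 361), (nat_lit 357), (nat_lit 0x4fcf800054b), (nat_lit 257), (nat_lit 245), (nat_lit 0xe33d928001f1d)],
  [(nat_lit 8), (nat_lit 0xf3469400004e5), (nat_lit 361), (nat_lit 357), (nat_lit 0xeb4513200032b), (nat_lit 259), (nat_lit 245), (nat_lit 249), (nat_lit 0x47501001ee1)],
  [(nat_lit 4), (nat_lit 0x39d1400001b), (nat_lit 57), (nat_lit 67), (nat_lit 69), (nat_lit 63), (nat_lit 57), (nat_lit 61), (nat_lit 57), (nat_lit 67), (nat_lit 0xed44cf3000011), (nat_lit 221), (nat_lit 225), (nat_lit 0x1024c0f3001e79)],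
  [(nat_lit 4), (nat_lit 0x4190000001b), (nat_lit 45), (nat_lit 65), (nat_lit 69), (nat_lit 67), (nat_lit 0x460ee000015), (nat_lit 0xf34f903001e95)],
  [(nat_lit 8), (nat_lit 0x4651b00001b), (nat_lit 65), (nat_lit 69), (nat_lit 61), (nat_lit 57), (nat_lit 63), (nat_lit 57), (nat_lit 67), (nat_lit 0xee4c540000019), (nat_lit 357), (nat_lit 0xe74b119001f45)],
  [(nat_lit 8), (nat_lit 0x1004cd3c00001b), (nat_lit 65), (nat_lit 69), (nat_lit 61), (nat_lit 57), (nat_lit 63), (nat_lit 57), (nat_lit 67), (nat_lit 0xeb4b53c000019), (nat_lit 0xfb41d34001f49)],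
  [(nat_lit 8), (nat_lit 0x1134952000001b), (nat_lit 69), (nat_lit 65), (nat_lit 69), (nat_lit 61), (nat_lit 57), (nat_lit 63), (nat_lit 57), (nat_lit 0x4fcee000019), (nat_lit 0xeb4f10e001f49)],
  [(nat_lit 8), (nat_lit 0xe74153900001b), (nat_lit 69), (nat_lit 65), (nat_lit 69), (nat_lit 61), (nat_lit 57), (nat_lit 63), (nat_lit 57), (nat_lit 0xf84e4ed000019), (nat_lit 0xe33fd13001f45)]]
noncomputable def R18 : List (List ℕ) :=
  [[(nat_lit 8), (nat_lit 0xe34d12e00001b), (nat_lit 57), (nat_lit 69), (nat_lit 67), (nat_lit 69), (nat_lit 61), (nat_lit 57), (nat_lit 63), (nat_lit 0xee3f91c000019), (nat_lit 0xe748120001f45)],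
  [(nat_lit 8), (nat_lit 0xf54253200001b), (nat_lit 57), (nat_lit 69), (nat_lit 67), (nat_lit 69), (nat_lit 61), (nat_lit 57), (nat_lit 63), (nat_lit 0x10549117000019), (nat_lit 0xf84cd14001f49)],
  [(nat_lit 8), (nat_lit 0x3b4ef00001b), (nat_lit 53), (nat_lit 63), (nat_lit 57), (nat_lit 61), (nat_lit 57), (nat_lit 69), (nat_lit 67), (nat_lit 69), (nat_lit 0x1004bd23000015), (nat_lit 0xed4650d001e99)],
  [(nat_lit 8), (nat_lit 0xe5454ec00001b), (nat_lit 53), (nat_lit 63), (nat_lit 57), (nat_lit 61), (nat_lit 57), (nat_lit 69), (nat_lit 67), (nat_lit 69), (nat_lit 0xf64a51b000015), (nat_lit 247), (nat_lit 0x1003ed10001e95)],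
  [(nat_lit 8), (nat_lit 0xf34753200001b), (nat_lit 53), (nat_lit 63), (nat_lit 57), (nat_lit 61), (nat_lit 57), (nat_lit 69), (nat_lit 67), (nat_lit 69), (nat_lit 0xf44d11b000015), (nat_lit 247), (nat_lit 0xeb4650d001e9d)],
  [(nat_lit 8), (nat_lit 0x1084bcf400001b), (nat_lit 53), (nat_lit 63), (nat_lit 57), (nat_lit 61), (nat_lit 57), (nat_lit 69), (nat_lit 67), (nat_lit 69), (nat_lit 0xec4b8ef000015), (nat_lit 0x10047d1b001e91)],
  [(nat_lit 8), (nat_lit 0x3b91400001b), (nat_lit 49), (nat_lit 57), (nat_lit 65), (nat_lit 0xe94cd2d000015), (nat_lit 245), (nat_lit 0xfc4d53c001e99)],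
  [(nat_lit 8), (nat_lit 0xf25011200001b), (nat_lit 49), (nat_lit 57), (nat_lit 65), (nat_lit 0xf44ad1a000015), (nat_lit 247), (nat_lit 0x4293b001e9d)],
  [(nat_lit 8), (nat_lit 0xfa4590d00001b), (nat_lit 49), (nat_lit 57), (nat_lit 65), (nat_lit 0xeb4050d000015), (nat_lit 247), (nat_lit 0xf44890f001e95)],
  [(nat_lit 8), (nat_lit 0x1054a13c00001b), (nat_lit 49), (nat_lit 57), (nat_lit 65), (nat_lit 0xf43f0fa000015), (nat_lit 245), (nat_lit 0xeb47119001e91)],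
  [(nat_lit 8), (nat_lit 0xe34cd2200001b), (nat_lit 57), (nat_lit 67), (nat_lit 69), (nat_lit 63), (nat_lit 57), (nat_lit 61), (nat_lit 57), (nat_lit 67), (nat_lit 0xed3bcf2000011), (nat_lit 221), (nat_lit 221), (nat_lit 221), (nat_lit 0xf24fd1d001e79)],
  [(nat_lit 8), (nat_lit 0xf44a92f00001b), (nat_lit 57), (nat_lit 67), (nat_lit 69), (nat_lit 63), (nat_lit 57), (nat_lit 61), (nat_lit 57), (nat_lit 67), (nat_lit 0xe9500f4000011), (nat_lit 221), (nat_lit 0xf1428fe001e75)],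
  [(nat_lit 8), (nat_lit 0xec4292100001b), (nat_lit 57), (nat_lit 67), (nat_lit 69), (nat_lit 63), (nat_lit 57), (nat_lit 61), (nat_lit 57), (nat_lit 67), (nat_lit 0xf44ed0a000011), (nat_lit 223), (nat_lit 223), (nat_lit 0xe342511001e79)],
  [(nat_lit 8), (nat_lit 0xf74c10c00001b), (nat_lit 57), (nat_lit 67), (nat_lit 69), (nat_lit 63), (nat_lit 57), (nat_lit 61), (nat_lit 57), (nat_lit 67), (nat_lit 0x4e92c000011), (nat_lit 0xf24bd1c001e75)],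
  [(nat_lit 8), (nat_lit 0xe35011200001b), (nat_lit 57), (nat_lit 67), (nat_lit 69), (nat_lit 63), (nat_lit 57), (nat_lit 61), (nat_lit 57), (nat_lit 67), (nat_lit 0x3f933000011), (nat_lit 227), (nat_lit 221), (nat_lit 0xfc4d53c001e75)],
  [(nat_lit 8), (nat_lit 0xec4c11b00001b), (nat_lit 57), (nat_lit 67), (nat_lit 69), (nat_lit 63), (nat_lit 57), (nat_lit 61), (nat_lit 57), (nat_lit 67), (nat_lit 0x4d11f000011), (nat_lit 223), (nat_lit 0x1023fd32001e79)],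
  [(nat_lit 8), (nat_lit 0x4190000001b), (nat_lit 45), (nat_lit 65), (nat_lit 69), (nat_lit 67), (nat_lit 0x44cfc000015), (nat_lit 247), (nat_lit 0xe53e12f001e99)],
  [(nat_lit 8), (nat_lit 0xf75013800001b), (nat_lit 45), (nat_lit 65), (nat_lit 69), (nat_lit 67), (nat_lit 0x40d14000015), (nat_lit 245), (nat_lit 0xef4c907001e95)],
  [(nat_lit 8), (nat_lit 0x3dd2c00001b), (nat_lit 45), (nat_lit 65), (nat_lit 69), (nat_lit 67), (nat_lit 0xf13f12f000015), (nat_lit 247), (nat_lit 0xe339d34001e9d)],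
  [(nat_lit 8), (nat_lit 0xe54bd0d00001b), (nat_lit 45), (nat_lit 65), (nat_lit 69), (nat_lit 67), (nat_lit 0xeb4acf6000015), (nat_lit 245), (nat_lit 0xe33d12a001e91)],
  [(nat_lit 5), (nat_lit 0xe34213e00060d), (nat_lit 0x3f509000173), (nat_lit 153), (nat_lit 153), (nat_lit 153), (nat_lit 0xe544d07001e61)],
  [(nat_lit 8), (nat_lit 0xe74651400060d), (nat_lit 0xf14a511000173), (nat_lit 0x40d3d001e61)],
  [(nat_lit 8), (nat_lit 0x4313500060d), (nat_lit 0xee484ef00041f), (nat_lit 257), (nat_lit 249), (nat_lit 257), (nat_lit 0xf43e930001ead)],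
  [(nat_lit 8), (nat_lit 0xfc4992100060d), (nat_lit 0xeb4f92800041f), (nat_lit 259), (nat_lit 249), (nat_lit 0x10345917001eed)],
  [(nat_lit 8), (nat_lit 0xe74c91100060d), (nat_lit 0xe93b9340002d3), (nat_lit 247), (nat_lit 257), (nat_lit 0xee3d935001ea5)],
  [(nat_lit 8), (nat_lit 0x10748d2200060d), (nat_lit 0xf7439340002d3), (nat_lit 245), (nat_lit 249), (nat_lit 257), (nat_lit 0xf93e4f9001ee9)],
  [(nat_lit 7), (nat_lit 0xe93c50a00060d), (nat_lit 357), (nat_lit 361), (nat_lit 0x4d51f0005e3), (nat_lit 249), (nat_lit 259), (nat_lit 247), (nat_lit 0xfc4991b001f41)],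
  [(nat_lit 8), (nat_lit 0xef4d4ff0005fd), (nat_lit 0xed41d160008a9), (nat_lit 77), (nat_lit 77), (nat_lit 89), (nat_lit 85), (nat_lit 85), (nat_lit 0x4f521001e4d)],
  [(nat_lit 8), (nat_lit 0xe9415390005fd), (nat_lit 0xf5481000008a9), (nat_lit 77), (nat_lit 97), (nat_lit 85), (nat_lit 77), (nat_lit 81), (nat_lit 0xe34f8f7001e4d)],
  [(nat_lit 8), (nat_lit 0xf74a1080005fd), (nat_lit 0xf94d9110008a9), (nat_lit 117), (nat_lit 83), (nat_lit 83), (nat_lit 0xf242d29001e4d)],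
  [(nat_lit 8), (nat_lit 0xe94152d0005fd), (nat_lit 0xef4f1350008a9), (nat_lit 87), (nat_lit 119), (nat_lit 91), (nat_lit 85), (nat_lit 0xf546d06001e4d)],
  [(nat_lit 8), (nat_lit 0xed4d8ff0005fd), (nat_lit 0x10841507000613), (nat_lit 0x1173e924001fd1)],
  [(nat_lit 8), (nat_lit 0xf3481140005fd), (nat_lit 0xe945108000613), (nat_lit 0xe54ed1b001fd5)],
  [(nat_lit 8), (nat_lit 0xe947d1a0005fd), (nat_lit 0xf845d03000613), (nat_lit 357), (nat_lit 361), (nat_lit 357), (nat_lit 0xe542d34001fcd)],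
  [(nat_lit 6), (nat_lit 0xef0005fd), (nat_lit 357), (nat_lit 0xe5419300002fb), (nat_lit 259), (nat_lit 247), (nat_lit 0x10847cec001f09)],
  [(nat_lit 6), (nat_lit 0xe33b4f60005fd), (nat_lit 0xf2469210002b7), (nat_lit 259), (nat_lit 247), (nat_lit 0xe94c519001f09)],
  [(nat_lit 6), (nat_lit 0x3a4ed0005fd), (nat_lit 0xf342528000463), (nat_lit 0x38d0d001f09)],
  [(nat_lit 6), (nat_lit 0x418fe0005fd), (nat_lit 357), (nat_lit 0xf34153300027f), (nat_lit 259), (nat_lit 247), (nat_lit 0x10047129001f09)],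
  [(nat_lit 6), (nat_lit 0x419000005fd), (nat_lit 361), (nat_lit 0x3ad1900023b), (nat_lit 257), (nat_lit 0xed4ed31001f09)],
  [(nat_lit 6), (nat_lit 0xe34613d0005fd), (nat_lit 0xe54bcfa0002af), (nat_lit 247), (nat_lit 0xe5480e7001f09)],
  [(nat_lit 6), (nat_lit 0xed44ced0005fd), (nat_lit 357), (nat_lit 0xe54d115000233), (nat_lit 259), (nat_lit 247), (nat_lit 0xe94ad0e001f09)],
  [(nat_lit 6), (nat_lit 0xe5419100005fd), (nat_lit 357), (nat_lit 0xe5459170002ff), (nat_lit 0xec4c518001f09)],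
  [(nat_lit 6), (nat_lit 0xeb4a1050005fd), (nat_lit 357), (nat_lit 0xee418eb000237), (nat_lit 0x484ff001f09)],
  [(nat_lit 6), (nat_lit 0xf24613d0005fd), (nat_lit 0xf14bd27000293), (nat_lit 245), (nat_lit 257), (nat_lit 0xec3a534001f09)],
  [(nat_lit 6), (nat_lit 0xfc409190005fd), (nat_lit 0xfb494fb00028f), (nat_lit 259), (nat_lit 247), (nat_lit 0x101488ff001f09)],
  [(nat_lit 7), (nat_lit 0xe53acf1000687), (nat_lit 0xef4f119000cff), (nat_lit 357), (nat_lit 0xf241d0d001f91)],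
  [(nat_lit 7), (nat_lit 0x47510000687), (nat_lit 357), (nat_lit 361), (nat_lit 0xe7491170003bf), (nat_lit 245), (nat_lit 259), (nat_lit 0xf54511e001ecd)],
  [(nat_lit 4), (nat_lit 0x4c4fe00022f), (nat_lit 223), (nat_lit 235), (nat_lit 225), (nat_lit 233), (nat_lit 0xe93f13d000129), (nat_lit 247), (nat_lit 257), (nat_lit 0xed498eb001f29)],
  [(nat_lit 4), (nat_lit 0xed4553b00022f), (nat_lit 233), (nat_lit 225), (nat_lit 235), (nat_lit 235), (nat_lit 0xeb451240001f9), (nat_lit 0x4ed26002005)],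
  [(nat_lit 6), (nat_lit 0x10e4793000022f), (nat_lit 225), (nat_lit 235), (nat_lit 319), (nat_lit 225), (nat_lit 0xe34293e0001cd), (nat_lit 357), (nat_lit 0x4fd1a001fed)],
  [(nat_lit 8), (nat_lit 0xf5454eb000601), (nat_lit 361), (nat_lit 0x3b52b0004a7), (nat_lit 245), (nat_lit 249), (nat_lit 257), (nat_lit 245), (nat_lit 0xf246913001f1d)],
  [(nat_lit 8), (nat_lit 0xef3e91c000601), (nat_lit 357), (nat_lit 0x1003ed340002b3), (nat_lit 247), (nat_lit 249), (nat_lit 257), (nat_lit 245), (nat_lit 0xe54ed38001eb1)],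
  [(nat_lit 8), (nat_lit 0xe33a514000601), (nat_lit 357), (nat_lit 0xe54f90c0002d3), (nat_lit 247), (nat_lit 257), (nat_lit 0xf750117001ea5)],
  [(nat_lit 8), (nat_lit 0x4d8f8000601), (nat_lit 357), (nat_lit 0xf245d350002d3), (nat_lit 257), (nat_lit 249), (nat_lit 257), (nat_lit 0xe74c8f7001f35)],
  [(nat_lit 8), (nat_lit 0xee4bd31000601), (nat_lit 361), (nat_lit 357), (nat_lit 0xf74412e0001cb), (nat_lit 223), (nat_lit 235), (nat_lit 317), (nat_lit 317), (nat_lit 0x490fd001e7d)],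
  [(nat_lit 8), (nat_lit 0xe9408f9000601), (nat_lit 361), (nat_lit 357), (nat_lit 0xe53f93b0001cb), (nat_lit 225), (nat_lit 223), (nat_lit 235), (nat_lit 0xe93f0f2001e89)],
  [(nat_lit 8), (nat_lit 0xee4b8f5000601), (nat_lit 361), (nat_lit 357), (nat_lit 0xec4491e0001cb), (nat_lit 227), (nat_lit 221), (nat_lit 0xf346540001e75)],
  [(nat_lit 6), (nat_lit 0x3bcf2000601), (nat_lit 361), (nat_lit 0xf24c0f900023b), (nat_lit 257), (nat_lit 0xe74c11d001ebd)],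
  [(nat_lit 6), (nat_lit 0xe345102000601), (nat_lit 357), (nat_lit 0x38cee0002f3), (nat_lit 245), (nat_lit 249), (nat_lit 257), (nat_lit 0xf240515001ea1)],
  [(nat_lit 7), (nat_lit 0x42924000217), (nat_lit 221), (nat_lit 235), (nat_lit 227), (nat_lit 235), (nat_lit 0xe74f5060001d5), (nat_lit 361), (nat_lit 0xf5440ec002029)],
  [(nat_lit 3), (nat_lit 0xe744532000217), (nat_lit 221), (nat_lit 233), (nat_lit 317), (nat_lit 225), (nat_lit 0xef45122001e75)],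
  [(nat_lit 8), (nat_lit 0xeb3c4f4000695), (nat_lit 357), (nat_lit 0xe55011c000af5), (nat_lit 357), (nat_lit 0xe94dd18001fc9)],
  [(nat_lit 8), (nat_lit 0xfc3e936000695), (nat_lit 361), (nat_lit 357), (nat_lit 0xe94a9090012a5), (nat_lit 357), (nat_lit 361), (nat_lit 357), (nat_lit 0xed4ed2f001fd9)],
  [(nat_lit 8), (nat_lit 0x3b5270001cb), (nat_lit 221), (nat_lit 221), (nat_lit 235), (nat_lit 0xe7488fc000219), (nat_lit 361), (nat_lit 357), (nat_lit 0xe94e51c001f85)],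
  [(nat_lit 8), (nat_lit 0xe35013c0001cb), (nat_lit 221), (nat_lit 235), (nat_lit 227), (nat_lit 235), (nat_lit 0xf13f12e0001d5), (nat_lit 361), (nat_lit 0xef4c4ec002029)],
  [(nat_lit 8), (nat_lit 0xe9499330001cb), (nat_lit 223), (nat_lit 235), (nat_lit 227), (nat_lit 0xf442d1b000219), (nat_lit 361), (nat_lit 357), (nat_lit 0xf347133001f85)],
  [(nat_lit 7), (nat_lit 0xe94911f0001cb), (nat_lit 223), (nat_lit 233), (nat_lit 319), (nat_lit 225), (nat_lit 0xe747d310001f1), (nat_lit 0x10948d06002021)],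
  [(nat_lit 7), (nat_lit 0xe54f4ef0001cb), (nat_lit 225), (nat_lit 233), (nat_lit 225), (nat_lit 317), (nat_lit 0xe3485320001d5), (nat_lit 361), (nat_lit 0xeb488e9002029)],
  [(nat_lit 3), (nat_lit 0x489200001cb), (nat_lit 223), (nat_lit 223), (nat_lit 235), (nat_lit 317), (nat_lit 0xeb4f928001e7d)],
  [(nat_lit 6), (nat_lit 0xeb4590d0001cb), (nat_lit 233), (nat_lit 223), (nat_lit 319), (nat_lit 233), (nat_lit 0x5012f001663), (nat_lit 357), (nat_lit 0x3b120002051)],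
  [(nat_lit 6), (nat_lit 0xeb3cd240001cb), (nat_lit 221), (nat_lit 317), (nat_lit 225), (nat_lit 235), (nat_lit 0xe54f91e0001dd), (nat_lit 0x1084c925002049)],
  [(nat_lit 6), (nat_lit 0xeb4c9200001cb), (nat_lit 317), (nat_lit 227), (nat_lit 235), (nat_lit 0xf344519000219), (nat_lit 0xe34f128002025)],
  [(nat_lit 8), (nat_lit 0xf94892a0007d1), (nat_lit 361), (nat_lit 357), (nat_lit 0x1024312f001599), (nat_lit 357), (nat_lit 0xe541d22002001)],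
  [(nat_lit 8), (nat_lit 0xed48d340007d1), (nat_lit 361), (nat_lit 0xf34650d000dc9), (nat_lit 125), (nat_lit 155), (nat_lit 165), (nat_lit 0xe93bd25000029)],
  [(nat_lit 8), (nat_lit 0x10c491280007d1), (nat_lit 361), (nat_lit 0xe942d31000dc9), (nat_lit 125), (nat_lit 137), (nat_lit 165), (nat_lit 0xed43d14000029)],
  [(nat_lit 8), (nat_lit 0xe3431190007d1), (nat_lit 361), (nat_lit 0xe9468e7000dc9), (nat_lit 129), (nat_lit 137), (nat_lit 0xf8464ed001e61)],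
  [(nat_lit 8), (nat_lit 0xe93ed260007d1), (nat_lit 361), (nat_lit 0xe34b8ee000dc9), (nat_lit 125), (nat_lit 141), (nat_lit 153), (nat_lit 153), (nat_lit 0xec41d3f001e61)],
  [(nat_lit 7), (nat_lit 0xe54d1050007d1), (nat_lit 357), (nat_lit 361), (nat_lit 0xeb3ed4000054b), (nat_lit 247), (nat_lit 257), (nat_lit 247), (nat_lit 0xf24790f001ef5)],
  [(nat_lit 6), (nat_lit 0xee40d240007d1), (nat_lit 357), (nat_lit 361), (nat_lit 0xed4613e0003b3), (nat_lit 257), (nat_lit 249), (nat_lit 257), (nat_lit 0xf4498ed001ead)],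
  [(nat_lit 6), (nat_lit 0xf3451020007d1), (nat_lit 357), (nat_lit 361), (nat_lit 0xf14d51e0003ab), (nat_lit 257), (nat_lit 247), (nat_lit 259), (nat_lit 0xe34b4ef001ead)],
  [(nat_lit 6), (nat_lit 0xf5421190007d1), (nat_lit 361), (nat_lit 0xf33ed1500038b), (nat_lit 257), (nat_lit 0xed49119001f41)],
  [(nat_lit 8), (nat_lit 0xeb49d29000609), (nat_lit 357), (nat_lit 361), (nat_lit 357), (nat_lit 0xf448112000243), (nat_lit 247), (nat_lit 257), (nat_lit 0xf246932001eb5)],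
  [(nat_lit 8), (nat_lit 0xef41902000609), (nat_lit 357), (nat_lit 361), (nat_lit 357), (nat_lit 0xef45906000243), (nat_lit 0xf540132001ea1)],
  [(nat_lit 8), (nat_lit 0x1083e529000609), (nat_lit 357), (nat_lit 0x10f47d000010e5), (nat_lit 137), (nat_lit 167), (nat_lit 133), (nat_lit 0xf447d3d001e61)],
  [(nat_lit 8), (nat_lit 0x1014d121000609), (nat_lit 357), (nat_lit 0xe749d180010e5), (nat_lit 125), (nat_lit 129), (nat_lit 137), (nat_lit 141), (nat_lit 0xec41d05001e61)],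
  [(nat_lit 8), (nat_lit 0xe947d01000609), (nat_lit 361), (nat_lit 0xe54d92400050b), (nat_lit 259), (nat_lit 245), (nat_lit 257), (nat_lit 0xf542533001ed1)],
  [(nat_lit 8), (nat_lit 0xf44851f000609), (nat_lit 361), (nat_lit 0xf64f122000667), (nat_lit 0xf2441360020b1)],
  [(nat_lit 8), (nat_lit 0x38cef000609), (nat_lit 0xe53c5310001ef), (nat_lit 221), (nat_lit 319), (nat_lit 235), (nat_lit 221), (nat_lit 0xf745108001e85)],
  [(nat_lit 8), (nat_lit 0xe549d1e000609), (nat_lit 0xe94ad350001ef), (nat_lit 235), (nat_lit 317), (nat_lit 0x48d3c001e89)],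
  [(nat_lit 8), (nat_lit 0xec4a8fb000609), (nat_lit 0xe541d3400065b), (nat_lit 361), (nat_lit 0xeb49910001fdd)],
  [(nat_lit 8), (nat_lit 0x42532000609), (nat_lit 361), (nat_lit 0xe53f9350013a1), (nat_lit 221), (nat_lit 319), (nat_lit 235), (nat_lit 221), (nat_lit 0xf43e937001e7d)],
  [(nat_lit 8), (nat_lit 0xe34550000016f), (nat_lit 133), (nat_lit 137), (nat_lit 165), (nat_lit 0xf24b136000105), (nat_lit 0xe34013a001ef1)],
  [(nat_lit 6), (nat_lit 0x1084d0f600016f), (nat_lit 129), (nat_lit 133), (nat_lit 153), (nat_lit 167), (nat_lit 0xe54a93d00010d), (nat_lit 245), (nat_lit 257), (nat_lit 0xe54fd3f001f2d)],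
  [(nat_lit 6), (nat_lit 0x102458f400016f), (nat_lit 153), (nat_lit 129), (nat_lit 167), (nat_lit 0xe74fd1800010d), (nat_lit 245), (nat_lit 257), (nat_lit 0x49d1b001efd)],
  [(nat_lit 8), (nat_lit 0xe9488f2000713), (nat_lit 361), (nat_lit 357), (nat_lit 0x3bd360004c3), (nat_lit 249), (nat_lit 257), (nat_lit 245), (nat_lit 259), (nat_lit 0xef4892c001ed5)],
  [(nat_lit 8), (nat_lit 0xe349d24000713), (nat_lit 357), (nat_lit 361), (nat_lit 0xe74411c0003f7), (nat_lit 259), (nat_lit 245), (nat_lit 0xe94750d001ef5)],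
  [(nat_lit 8), (nat_lit 0xfc47cec000713), (nat_lit 357), (nat_lit 0xe94c11800045f), (nat_lit 245), (nat_lit 259), (nat_lit 245), (nat_lit 0xf34a0eb001ef5)],
  [(nat_lit 8), (nat_lit 0x1064a919000713), (nat_lit 357), (nat_lit 361), (nat_lit 357), (nat_lit 0x10a4712f0006e7), (nat_lit 0xfb4153a002019)],
  [(nat_lit 7), (nat_lit 0xe74a93f000713), (nat_lit 357), (nat_lit 0x4f4e30006d5), (nat_lit 361), (nat_lit 357), (nat_lit 0xf14c8fd002025)],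
  [(nat_lit 6), (nat_lit 0xe53b521000713), (nat_lit 0xf347906000dab), (nat_lit 361), (nat_lit 357), (nat_lit 0x39d3b0020a1)],
  [(nat_lit 8), (nat_lit 0x4391c000c61), (nat_lit 357), (nat_lit 361), (nat_lit 0xf348911001009), (nat_lit 361), (nat_lit 357), (nat_lit 0xec3f115002015)],
  [(nat_lit 8), (nat_lit 0xfb4010f000c61), (nat_lit 357), (nat_lit 0xe94452f00080f), (nat_lit 357), (nat_lit 0xe34693600202d)],
  [(nat_lit 8), (nat_lit 0x4151a000c61), (nat_lit 361), (nat_lit 357), (nat_lit 0xf44b10b000b3f), (nat_lit 357), (nat_lit 0xe94850d001f89)],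
  [(nat_lit 8), (nat_lit 0x4812a000c61), (nat_lit 357), (nat_lit 361), (nat_lit 357), (nat_lit 0xe546d3d0015b1), (nat_lit 361), (nat_lit 357), (nat_lit 0xe54f922001fcd)],
  [(nat_lit 7), (nat_lit 0xe74cd0a000c61), (nat_lit 0xe34ecfa000537), (nat_lit 245), (nat_lit 259), (nat_lit 0xfd4d8f8001f11)],
  [(nat_lit 6), (nat_lit 0xee420ff000c61), (nat_lit 361), (nat_lit 357), (nat_lit 0xf647d30000f57), (nat_lit 357), (nat_lit 361), (nat_lit 0xf248940002051)],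
  [(nat_lit 6), (nat_lit 0xe54e110000c61), (nat_lit 357), (nat_lit 361), (nat_lit 0xe94d4fa001477), (nat_lit 0xe34b514001f5d)],
  [(nat_lit 6), (nat_lit 0x4e903000c61), (nat_lit 357), (nat_lit 361), (nat_lit 0xf641ce7001067), (nat_lit 361), (nat_lit 0xe54ed07002069)],
  [(nat_lit 8), (nat_lit 0xf14413c001069), (nat_lit 357), (nat_lit 361), (nat_lit 357), (nat_lit 0xe54bd3c000b35), (nat_lit 357), (nat_lit 361), (nat_lit 0xef428f30020d9)],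
  [(nat_lit 8), (nat_lit 0xf54090b001069), (nat_lit 361), (nat_lit 0xee41d1d001599), (nat_lit 357), (nat_lit 0x4f936002001)],
  [(nat_lit 8), (nat_lit 0x1074352f001069), (nat_lit 357), (nat_lit 361), (nat_lit 0xe345130000517), (nat_lit 257), (nat_lit 249), (nat_lit 259), (nat_lit 0x10740d28001ec1)],
  [(nat_lit 6), (nat_lit 0xe54c91a001069), (nat_lit 357), (nat_lit 361), (nat_lit 357), (nat_lit 0xee420f9001165), (nat_lit 357), (nat_lit 361), (nat_lit 357), (nat_lit 0xe3445290020ad)]]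
noncomputable def R19 : List (List ℕ) :=
  [[(nat_lit 8), (nat_lit 0x3cd1c000de5), (nat_lit 0xe34412d000df5), (nat_lit 357), (nat_lit 361), (nat_lit 357), (nat_lit 0xe94792b001f89)],
  [(nat_lit 8), (nat_lit 0xf74c50e000de5), (nat_lit 361), (nat_lit 357), (nat_lit 0xe53ad01000f49), (nat_lit 357), (nat_lit 0xeb4593d0020f5)],
  [(nat_lit 8), (nat_lit 0x4f502000de5), (nat_lit 0xe74d10e0005c7), (nat_lit 257), (nat_lit 0xeb4693d001f1d)],
  [(nat_lit 8), (nat_lit 0xf13d134000de5), (nat_lit 361), (nat_lit 357), (nat_lit 0xe34a9180001b3), (nat_lit 141), (nat_lit 165), (nat_lit 141), (nat_lit 0xf24d540001e61)],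
  [(nat_lit 8), (nat_lit 0xed4e0f4000de5), (nat_lit 361), (nat_lit 357), (nat_lit 0xf83e5290001b3), (nat_lit 167), (nat_lit 133), (nat_lit 141), (nat_lit 0xe34e92f001e71)],
  [(nat_lit 7), (nat_lit 0x3dd33000de5), (nat_lit 357), (nat_lit 361), (nat_lit 357), (nat_lit 0xf43dcf2000fb3), (nat_lit 361), (nat_lit 357), (nat_lit 0x39d33002119)],
  [(nat_lit 7), (nat_lit 0x10143d36000de5), (nat_lit 0x10148d1800168d), (nat_lit 357), (nat_lit 361), (nat_lit 357), (nat_lit 0xe33a502002101)],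
  [(nat_lit 7), (nat_lit 0x4913b000de5), (nat_lit 357), (nat_lit 361), (nat_lit 0xf54211c000a07), (nat_lit 357), (nat_lit 361), (nat_lit 357), (nat_lit 0x3951b0020e9)],
  [(nat_lit 8), (nat_lit 0xee42934000f1d), (nat_lit 361), (nat_lit 357), (nat_lit 0x4311c000207), (nat_lit 221), (nat_lit 317), (nat_lit 0xf548115001e79)],
  [(nat_lit 8), (nat_lit 0xe34491f000f1d), (nat_lit 361), (nat_lit 357), (nat_lit 0x1054f50d000207), (nat_lit 223), (nat_lit 317), (nat_lit 221), (nat_lit 225), (nat_lit 0xeb41935001e7d)],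
  [(nat_lit 8), (nat_lit 0xf24d909000f1d), (nat_lit 361), (nat_lit 0xec3f122001123), (nat_lit 357), (nat_lit 0xeb43d36002001)],
  [(nat_lit 8), (nat_lit 0xe748d22000f1d), (nat_lit 357), (nat_lit 361), (nat_lit 357), (nat_lit 0xf94ed2a0004cf), (nat_lit 245), (nat_lit 259), (nat_lit 247), (nat_lit 257), (nat_lit 0xf447d23001ee5)],
  [(nat_lit 8), (nat_lit 0xed41913000f1d), (nat_lit 357), (nat_lit 361), (nat_lit 357), (nat_lit 0xef495340004cf), (nat_lit 257), (nat_lit 0xf14f92b001eb9)],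
  [(nat_lit 8), (nat_lit 0x1123cd30000f1d), (nat_lit 361), (nat_lit 357), (nat_lit 0x1073e5200004e7), (nat_lit 247), (nat_lit 259), (nat_lit 0xfc4692d001edd)],
  [(nat_lit 7), (nat_lit 0xe93dd28000f1d), (nat_lit 357), (nat_lit 0xf64e13300054f), (nat_lit 257), (nat_lit 0xe33f119001ec5)],
  [(nat_lit 8), (nat_lit 0xf447503001125), (nat_lit 361), (nat_lit 0x3ed190006b5), (nat_lit 361), (nat_lit 0xf449d35002099)],
  [(nat_lit 8), (nat_lit 0x4f511001125), (nat_lit 357), (nat_lit 0xec4651c001449), (nat_lit 357), (nat_lit 0xe34a91c001fbd)],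
  [(nat_lit 8), (nat_lit 0xf149903001125), (nat_lit 357), (nat_lit 361), (nat_lit 0xe741d25000ed7), (nat_lit 0xe54a135002055)],
  [(nat_lit 8), (nat_lit 0xe53bd26001125), (nat_lit 361), (nat_lit 357), (nat_lit 0x4052e00069f), (nat_lit 361), (nat_lit 357), (nat_lit 0xec4d53e00209d)],
  [(nat_lit 8), (nat_lit 0xec4d53b00069d), (nat_lit 357), (nat_lit 361), (nat_lit 0x41cf500025b), (nat_lit 245), (nat_lit 0x4fd2a001f15)],
  [(nat_lit 8), (nat_lit 0x4e4e900069d), (nat_lit 357), (nat_lit 361), (nat_lit 0xec4d0f40004d7), (nat_lit 245), (nat_lit 257), (nat_lit 245), (nat_lit 0xeb494e7001ef1)],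
  [(nat_lit 8), (nat_lit 0xe741d2e00026f), (nat_lit 245), (nat_lit 257), (nat_lit 249), (nat_lit 0xe34e928000309), (nat_lit 0xef4a119001f89)],
  [(nat_lit 8), (nat_lit 0xf34b8fd00026f), (nat_lit 245), (nat_lit 257), (nat_lit 245), (nat_lit 0xf14d10f00043d), (nat_lit 357), (nat_lit 361), (nat_lit 0x3a537001f75)],
  [(nat_lit 8), (nat_lit 0xe94291f001071), (nat_lit 361), (nat_lit 357), (nat_lit 0xf84c5350009f3), (nat_lit 361), (nat_lit 357), (nat_lit 0xe54cd1c001fcd)],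
  [(nat_lit 8), (nat_lit 0x498f4001071), (nat_lit 361), (nat_lit 357), (nat_lit 0xed47d240009f3), (nat_lit 357), (nat_lit 361), (nat_lit 0xe33bd3e002119)],
  [(nat_lit 6), (nat_lit 0xe94acff001071), (nat_lit 357), (nat_lit 361), (nat_lit 0xe33b52a000849), (nat_lit 361), (nat_lit 357), (nat_lit 0xed5011e002179)],
  [(nat_lit 8), (nat_lit 0xf24413d0010f9), (nat_lit 357), (nat_lit 0x3e1310003eb), (nat_lit 245), (nat_lit 249), (nat_lit 0xf74d93f001ea5)],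
  [(nat_lit 8), (nat_lit 0xed4051e0010f9), (nat_lit 357), (nat_lit 0x10143d360003eb), (nat_lit 247), (nat_lit 259), (nat_lit 245), (nat_lit 0xfd47539001ed9)],
  [(nat_lit 8), (nat_lit 0xe54710f0010f9), (nat_lit 357), (nat_lit 0xe94a13a0003eb), (nat_lit 249), (nat_lit 259), (nat_lit 247), (nat_lit 0xfc4a0f8001eed)],
  [(nat_lit 8), (nat_lit 0xf246d080010f9), (nat_lit 361), (nat_lit 357), (nat_lit 0xf64f93300041b), (nat_lit 257), (nat_lit 0x484ee001ea1)],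
  [(nat_lit 8), (nat_lit 0xf14c8ed0010f9), (nat_lit 357), (nat_lit 361), (nat_lit 357), (nat_lit 0xf64850e000333), (nat_lit 247), (nat_lit 0xe94a11b001f35)],
  [(nat_lit 8), (nat_lit 0xfb4cd290019d9), (nat_lit 6145), (nat_lit 6153), (nat_lit 6163), (nat_lit 6153), (nat_lit 0xf94fd1000186b), (nat_lit 245), (nat_lit 257), (nat_lit 247), (nat_lit 259), (nat_lit 0xfa47d21001ef9)],
  [(nat_lit 8), (nat_lit 0xf84a9350019d9), (nat_lit 6143), (nat_lit 6145), (nat_lit 6161), (nat_lit 0x4d9200019eb), (nat_lit 0xe341ceb002095)],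
  [(nat_lit 8), (nat_lit 0xec500e900069b), (nat_lit 0xe54c506000711), (nat_lit 361), (nat_lit 357), (nat_lit 0x1004cd3c00206d)],
  [(nat_lit 8), (nat_lit 0xe94213000017f), (nat_lit 125), (nat_lit 129), (nat_lit 141), (nat_lit 155), (nat_lit 0xe34893b0017f3), (nat_lit 357), (nat_lit 361), (nat_lit 357), (nat_lit 0x1025011d002121)],
  [(nat_lit 8), (nat_lit 0xe93f0eb00017f), (nat_lit 125), (nat_lit 129), (nat_lit 141), (nat_lit 0xe94d51b000105), (nat_lit 0x39d0b001ef5)],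
  [(nat_lit 8), (nat_lit 0xeb4fd1a000d65), (nat_lit 361), (nat_lit 0x3952b0009c9), (nat_lit 361), (nat_lit 0xf34ed21001f9d)],
  [(nat_lit 8), (nat_lit 0xe54d51c000d65), (nat_lit 361), (nat_lit 357), (nat_lit 0x10540d30000cdf), (nat_lit 361), (nat_lit 0xe541915002131)],
  [(nat_lit 8), (nat_lit 0xeb500f6000ad1), (nat_lit 357), (nat_lit 0xef488ee000bb7), (nat_lit 357), (nat_lit 361), (nat_lit 357), (nat_lit 0xe74f50c001fa9)],
  [(nat_lit 8), (nat_lit 0xf747d3d000a99), (nat_lit 357), (nat_lit 0xf54e13e000bad), (nat_lit 0xed4a52600213d)],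
  [(nat_lit 7), (nat_lit 0xec4d8fa000a99), (nat_lit 357), (nat_lit 361), (nat_lit 0xe34d5060015cb), (nat_lit 357), (nat_lit 0xe54c505001f71)],
  [(nat_lit 8), (nat_lit 0xe343508000dd9), (nat_lit 357), (nat_lit 361), (nat_lit 357), (nat_lit 0xe93f0f9001331), (nat_lit 357), (nat_lit 361), (nat_lit 0x3dd28002101)],
  [(nat_lit 8), (nat_lit 0xf4468f4000297), (nat_lit 245), (nat_lit 249), (nat_lit 259), (nat_lit 247), (nat_lit 0x1034351d000315), (nat_lit 357), (nat_lit 361), (nat_lit 0x46932001f69)],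
  [(nat_lit 8), (nat_lit 0xe54392500056b), (nat_lit 259), (nat_lit 0x471320002c5), (nat_lit 357), (nat_lit 361), (nat_lit 0xeb4011f001f8d)],
  [(nat_lit 8), (nat_lit 0xf44d8fc000685), (nat_lit 361), (nat_lit 0xf93d13a000217), (nat_lit 221), (nat_lit 235), (nat_lit 225), (nat_lit 235), (nat_lit 0xe342d3e001e85)],
  [(nat_lit 7), (nat_lit 0xe34cced000929), (nat_lit 357), (nat_lit 361), (nat_lit 357), (nat_lit 0xeb4bcfb001591), (nat_lit 357), (nat_lit 361), (nat_lit 0x3b90f0021a9)],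
  [(nat_lit 8), (nat_lit 0xe73cd300018dd), (nat_lit 6141), (nat_lit 6153), (nat_lit 6161), (nat_lit 0x4e9020018cf), (nat_lit 357), (nat_lit 361), (nat_lit 0xe7488f40020ed)],
  [(nat_lit 8), (nat_lit 0xf4475140018dd), (nat_lit 6145), (nat_lit 6153), (nat_lit 6163), (nat_lit 6153), (nat_lit 0x445160019df), (nat_lit 0x1084f115001fe9)],
  [(nat_lit 8), (nat_lit 0x12b48532000613), (nat_lit 357), (nat_lit 361), (nat_lit 357), (nat_lit 0xeb3e5280017c3), (nat_lit 357), (nat_lit 361), (nat_lit 357), (nat_lit 0xe747d29002155)],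
  [(nat_lit 7), (nat_lit 0xe74ed2b00047b), (nat_lit 245), (nat_lit 0xed3f90d0002ad), (nat_lit 0xf946d12001fe5)],
  [(nat_lit 3), (nat_lit 31), (nat_lit 91), (nat_lit 99), (nat_lit 77), (nat_lit 99), (nat_lit 0xe33c508001e4d)],
  [(nat_lit 6), (nat_lit 31), (nat_lit 87), (nat_lit 99), (nat_lit 77), (nat_lit 87), (nat_lit 97), (nat_lit 0xf84b5320008ab), (nat_lit 0x11a4b920001f95)],
  [(nat_lit 6), (nat_lit 0xfc4793700001f), (nat_lit 77), (nat_lit 99), (nat_lit 0xe34cd1e0008ab), (nat_lit 0x424f2001ff5)],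
  [(nat_lit 6), (nat_lit 0x1034f52400001f), (nat_lit 77), (nat_lit 85), (nat_lit 79), (nat_lit 99), (nat_lit 87), (nat_lit 0xe339d3c0008ab), (nat_lit 0xf24dd1400201d)],
  [(nat_lit 7), (nat_lit 0xe33a4ef001823), (nat_lit 225), (nat_lit 235), (nat_lit 225), (nat_lit 317), (nat_lit 0xe74d9230001f1), (nat_lit 0xe34fd1a002021)],
  [(nat_lit 8), (nat_lit 0x4a930000027), (nat_lit 165), (nat_lit 125), (nat_lit 167), (nat_lit 0xed4c53a000171), (nat_lit 357), (nat_lit 361), (nat_lit 357), (nat_lit 0xf34410e001fb1)],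
  [(nat_lit 8), (nat_lit 0xe93f0ec001b97), (nat_lit 357), (nat_lit 361), (nat_lit 357), (nat_lit 0xf34fd2b00167d), (nat_lit 357), (nat_lit 0x4851a002191)],
  [(nat_lit 8), (nat_lit 0xf848901001b97), (nat_lit 357), (nat_lit 361), (nat_lit 357), (nat_lit 0xe93b53100167d), (nat_lit 357), (nat_lit 0xf948d0d001fad)],
  [(nat_lit 8), (nat_lit 0xe34ccff001b97), (nat_lit 357), (nat_lit 361), (nat_lit 0xf241d190014bf), (nat_lit 361), (nat_lit 0x11f3fd290020f1)],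
  [(nat_lit 8), (nat_lit 0xe34312e001b97), (nat_lit 357), (nat_lit 361), (nat_lit 0xef41d330014bf), (nat_lit 361), (nat_lit 357), (nat_lit 0xee4d53b002105)],
  [(nat_lit 8), (nat_lit 0x4d509001b97), (nat_lit 357), (nat_lit 0xf146d03000df1), (nat_lit 361), (nat_lit 0xf24d93c001f95)],
  [(nat_lit 8), (nat_lit 0xf73ccf3001b97), (nat_lit 357), (nat_lit 0x4053a000df1), (nat_lit 361), (nat_lit 357), (nat_lit 0xed41d17002059)],
  [(nat_lit 8), (nat_lit 0x3c92c001b97), (nat_lit 361), (nat_lit 0x4392a001063), (nat_lit 357), (nat_lit 361), (nat_lit 0x11049125001f5d)],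
  [(nat_lit 7), (nat_lit 0xe33d11d001b97), (nat_lit 0x3951f0011e3), (nat_lit 0xec4593b001f69)],
  [(nat_lit 8), (nat_lit 0xec44d1c00002b), (nat_lit 133), (nat_lit 153), (nat_lit 167), (nat_lit 0xfc438fa000195), (nat_lit 0xe54c124001fdd)],
  [(nat_lit 8), (nat_lit 0xe74013900002b), (nat_lit 133), (nat_lit 153), (nat_lit 167), (nat_lit 0xec464e9000195), (nat_lit 361), (nat_lit 0xef4ad32001fd5)],
  [(nat_lit 8), (nat_lit 0x1084bcf400002b), (nat_lit 133), (nat_lit 153), (nat_lit 167), (nat_lit 0xf24050e000195), (nat_lit 357), (nat_lit 361), (nat_lit 357), (nat_lit 0xef4ed37001fe1)],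
  [(nat_lit 8), (nat_lit 0xe33e91c00002b), (nat_lit 133), (nat_lit 0xe33cd0e000109), (nat_lit 245), (nat_lit 249), (nat_lit 0xe94c13b001ef1)],
  [(nat_lit 8), (nat_lit 0xed4a93000002b), (nat_lit 125), (nat_lit 129), (nat_lit 165), (nat_lit 153), (nat_lit 0xf44b136000199), (nat_lit 357), (nat_lit 361), (nat_lit 357), (nat_lit 0xe541931001fa1)],
  [(nat_lit 11), (nat_lit 43), (nat_lit 129), (nat_lit 153), (nat_lit 133), (nat_lit 167), (nat_lit 0xe34c11b000195), (nat_lit 357), (nat_lit 0xf145d3e0001cf), (nat_lit 227), (nat_lit 235), (nat_lit 227), (nat_lit 319), (nat_lit 0x39514000123), (nat_lit 259), (nat_lit 247), (nat_lit 0xf748917000291), (nat_lit 0xed4b8ff000605), (nat_lit 357), (nat_lit 0x3e50d0020f1)],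
  [(nat_lit 6), (nat_lit 0x39cef00002b), (nat_lit 125), (nat_lit 141), (nat_lit 165), (nat_lit 155), (nat_lit 0x3cd030000d5), (nat_lit 129), (nat_lit 167), (nat_lit 0xe550123001e59)],
  [(nat_lit 0), (nat_lit 65), (nat_lit 69), (nat_lit 61), (nat_lit 57), (nat_lit 61), (nat_lit 69), (nat_lit 63), (nat_lit 53), (nat_lit 69)],
  [(nat_lit 0), (nat_lit 53), (nat_lit 63), (nat_lit 57), (nat_lit 61), (nat_lit 67), (nat_lit 69), (nat_lit 61), (nat_lit 53), (nat_lit 61), (nat_lit 67)],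
  [(nat_lit 0), (nat_lit 69), (nat_lit 63), (nat_lit 57), (nat_lit 67), (nat_lit 69), (nat_lit 63), (nat_lit 65), (nat_lit 69)],
  [(nat_lit 2), (nat_lit 7)],
  [(nat_lit 2), (nat_lit 0x41924000065)],
  [(nat_lit 2), (nat_lit 9)],
  [(nat_lit 2), (nat_lit 0x38ce500004b)],
  [(nat_lit 2), (nat_lit 0x38ce5000049)],
  [(nat_lit 2), (nat_lit 0x49914000079)],
  [(nat_lit 2), (nat_lit 0xe54d12100006b)],
  [(nat_lit 2), (nat_lit 17)],
  [(nat_lit 2), (nat_lit 21)],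
  [(nat_lit 2), (nat_lit 13)],
  [(nat_lit 2), (nat_lit 0x114000091)],
  [(nat_lit 2), (nat_lit 25)],
  [(nat_lit 0), (nat_lit 85), (nat_lit 117), (nat_lit 81), (nat_lit 77)],
  [(nat_lit 0), (nat_lit 85), (nat_lit 117), (nat_lit 81), (nat_lit 85)],
  [(nat_lit 0), (nat_lit 119), (nat_lit 81), (nat_lit 97), (nat_lit 85)],
  [(nat_lit 2), (nat_lit 11)],
  [(nat_lit 2), (nat_lit 0xfb45d35000067)],
  [(nat_lit 2), (nat_lit 0x46539000069)],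
  [(nat_lit 2), (nat_lit 0x38ce500006d)],
  [(nat_lit 2), (nat_lit 29)],
  [(nat_lit 2), (nat_lit 0xf5481100008ab)],
  [(nat_lit 2), (nat_lit 0xe74292a001e4d)],
  [(nat_lit 2), (nat_lit 0x451090000a9)],
  [(nat_lit 2), (nat_lit 0xe53b0f100009d)],
  [(nat_lit 0), (nat_lit 129), (nat_lit 133), (nat_lit 167), (nat_lit 153)],
  [(nat_lit 0), (nat_lit 165), (nat_lit 153)],
  [(nat_lit 0), (nat_lit 129)],
  [(nat_lit 2), (nat_lit 15)],
  [(nat_lit 2), (nat_lit 0xe54cd0b000093)],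
  [(nat_lit 2), (nat_lit 0xf34a10200009f)],
  [(nat_lit 2), (nat_lit 0xe5479260000c1)],
  [(nat_lit 2), (nat_lit 0xeb00016d)],
  [(nat_lit 2), (nat_lit 0x38ce50000c5)],
  [(nat_lit 2), (nat_lit 0x4ccfb000105)],
  [(nat_lit 2), (nat_lit 0x10a41d06000191)],
  [(nat_lit 2), (nat_lit 0xfa40d36000109)],
  [(nat_lit 2), (nat_lit 0xf44351c001e59)],
  [(nat_lit 2), (nat_lit 41)],
  [(nat_lit 2), (nat_lit 0xf34013e0000ab)],
  [(nat_lit 2), (nat_lit 0xe5454ed0000b3)],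
  [(nat_lit 2), (nat_lit 0x1074bd1c000195)],
  [(nat_lit 2), (nat_lit 0xff4a92500010d)],
  [(nat_lit 2), (nat_lit 0x419340000c3)],
  [(nat_lit 2), (nat_lit 0xe5489200000b7)],
  [(nat_lit 2), (nat_lit 0x1023bd24001e5d)],
  [(nat_lit 2), (nat_lit 0xf33cd27001815)],
  [(nat_lit 2), (nat_lit 0xf34ccff000185)],
  [(nat_lit 2), (nat_lit 0xf741cf30000ed)],
  [(nat_lit 2), (nat_lit 0x40d140000c7)],
  [(nat_lit 2), (nat_lit 0x1054712f0000b1)],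
  [(nat_lit 2), (nat_lit 0x4d90d000179)],
  [(nat_lit 2), (nat_lit 0x10d4d53900018d)],
  [(nat_lit 2), (nat_lit 0x38ced0000d5)],
  [(nat_lit 2), (nat_lit 0xe346d050000d7)],
  [(nat_lit 2), (nat_lit 0x4cce70000b5)],
  [(nat_lit 2), (nat_lit 0x3a524001747)],
  [(nat_lit 2), (nat_lit 0xf14c4ff00139f)],
  [(nat_lit 2), (nat_lit 0xe54b5320010e7)],
  [(nat_lit 2), (nat_lit 0xec401100017f7)],
  [(nat_lit 2), (nat_lit 0xe74e8f6001e71)],
  [(nat_lit 2), (nat_lit 0xec415110014b3)],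
  [(nat_lit 2), (nat_lit 0xe5431320009f7)],
  [(nat_lit 2), (nat_lit 0xe94013d001e65)],
  [(nat_lit 2), (nat_lit 0xff4a51b0001b9)],
  [(nat_lit 2), (nat_lit 0xe94ed0e0001a1)],
  [(nat_lit 2), (nat_lit 0x3e92b001819)],
  [(nat_lit 2), (nat_lit 0xf2501080006cb)],
  [(nat_lit 2), (nat_lit 0xe33a534000159)],
  [(nat_lit 2), (nat_lit 0xf53e92b000137)],
  [(nat_lit 2), (nat_lit 0xec4212f0006c3)],
  [(nat_lit 2), (nat_lit 0xe54a8f2000cdb)],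
  [(nat_lit 2), (nat_lit 0x3b91700017d)],
  [(nat_lit 2), (nat_lit 0x3b1300017eb)],
  [(nat_lit 2), (nat_lit 0xf3499200001b5)],
  [(nat_lit 2), (nat_lit 0x1024f12f000199)],
  [(nat_lit 2), (nat_lit 0xed4693e0007eb)],
  [(nat_lit 2), (nat_lit 0xf646d1600014b)],
  [(nat_lit 2), (nat_lit 0x4a11d0010f3)],
  [(nat_lit 2), (nat_lit 0x3ad33001e61)],
  [(nat_lit 2), (nat_lit 0xf83d11f0009b3)],
  [(nat_lit 2), (nat_lit 0xe74a4f70001c5)],
  [(nat_lit 2), (nat_lit 0xee4392f0015ef)],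
  [(nat_lit 2), (nat_lit 0xf5429070007ef)],
  [(nat_lit 2), (nat_lit 0xed4652300174b)],
  [(nat_lit 2), (nat_lit 0xeb4c510001733)],
  [(nat_lit 2), (nat_lit 0xfa4a53800174f)],
  [(nat_lit 2), (nat_lit 0xe342d40000d97)],
  [(nat_lit 2), (nat_lit 0x4ad360001a9)],
  [(nat_lit 2), (nat_lit 0xe94592300014f)],
  [(nat_lit 2), (nat_lit 0xed4f9380001c1)],
  [(nat_lit 2), (nat_lit 0x45d190001a5)],
  [(nat_lit 2), (nat_lit 0xee43d34000967)],
  [(nat_lit 2), (nat_lit 0xf44091c0017f3)],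
  [(nat_lit 2), (nat_lit 0xec4790e0001ad)],
  [(nat_lit 2), (nat_lit 0xf33fcf3000155)],
  [(nat_lit 2), (nat_lit 0xef3c9070001b1)],
  [(nat_lit 2), (nat_lit 0xeb3fd29000dcb)],
  [(nat_lit 2), (nat_lit 0xe74f52e001a95)],
  [(nat_lit 2), (nat_lit 0xee439250016e7)],
  [(nat_lit 2), (nat_lit 0x48512000f37)],
  [(nat_lit 2), (nat_lit 0xfa41d3500019d)],
  [(nat_lit 2), (nat_lit 0xec4f102000157)],
  [(nat_lit 2), (nat_lit 0xef4b5360015e3)],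
  [(nat_lit 2), (nat_lit 0xfa40921001aa1)],
  [(nat_lit 2), (nat_lit 0x3d127000189)],
  [(nat_lit 2), (nat_lit 0xfb41cf2001a99)],
  [(nat_lit 2), (nat_lit 0xfa4c4fd000d33)],
  [(nat_lit 2), (nat_lit 0x1024bce90001bd)],
  [(nat_lit 2), (nat_lit 0xef498ff001a9d)],
  [(nat_lit 2), (nat_lit 0x4313e000175)],
  [(nat_lit 2), (nat_lit 0x4d529000171)],
  [(nat_lit 2), (nat_lit 0xee46cfe0000cb)],
  [(nat_lit 2), (nat_lit 0xeb4b51d0000c9)],
  [(nat_lit 2), (nat_lit 0xe34491e0000b9)],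
  [(nat_lit 2), (nat_lit 0xeb3f13d0017f9)],
  [(nat_lit 2), (nat_lit 0xee499140000bd)],
  [(nat_lit 2), (nat_lit 37)],
  [(nat_lit 2), (nat_lit 33)],
  [(nat_lit 2), (nat_lit 0xe7420f2000181)],
  [(nat_lit 2), (nat_lit 0xee4ed1c0000d9)],
  [(nat_lit 2), (nat_lit 0xf1484e70000db)],
  [(nat_lit 2), (nat_lit 0x439140000ad)],
  [(nat_lit 2), (nat_lit 0xe53ccf30000cd)],
  [(nat_lit 2), (nat_lit 0xec429320000d1)],
  [(nat_lit 0), (nat_lit 319), (nat_lit 235), (nat_lit 235)],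
  [(nat_lit 0), (nat_lit 235), (nat_lit 317), (nat_lit 225)],
  [(nat_lit 0), (nat_lit 319), (nat_lit 225), (nat_lit 317)],
  [(nat_lit 2), (nat_lit 19)],
  [(nat_lit 2), (nat_lit 0xe54712d0000ef)],
  [(nat_lit 2), (nat_lit 0xee0000f1)],
  [(nat_lit 2), (nat_lit 0x38ce5000111)],
  [(nat_lit 2), (nat_lit 0xee420f4000123)],
  [(nat_lit 2), (nat_lit 0xeb4ccfb000129)],
  [(nat_lit 2), (nat_lit 0x3b4ef00012d)],
  [(nat_lit 2), (nat_lit 6177)],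
  [(nat_lit 2), (nat_lit 0xe54952f00022d)],
  [(nat_lit 2), (nat_lit 0x38ce700181d)],
  [(nat_lit 2), (nat_lit 0xe544ced00182d)],
  [(nat_lit 2), (nat_lit 0xe9429320001cd)],
  [(nat_lit 2), (nat_lit 0xed50127001e79)],
  [(nat_lit 2), (nat_lit 0xed4e91c000201)],
  [(nat_lit 2), (nat_lit 0xf1490fc0001ed)],
  [(nat_lit 2), (nat_lit 0xfb41d34001e81)],
  [(nat_lit 2), (nat_lit 0x38d3f001e75)],
  [(nat_lit 2), (nat_lit 0x38cf10001f9)],
  [(nat_lit 2), (nat_lit 0xf24052e001e8d)],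
  [(nat_lit 2), (nat_lit 0xe7468f40001f1)],
  [(nat_lit 2), (nat_lit 0xf44f4fc001829)],
  [(nat_lit 2), (nat_lit 0x4292600021d)],
  [(nat_lit 2), (nat_lit 0xeb4a510000215)],
  [(nat_lit 2), (nat_lit 0xfb418f6001825)],
  [(nat_lit 2), (nat_lit 0xf24c91a00075f)],
  [(nat_lit 2), (nat_lit 0x10d4ecfe000225)],
  [(nat_lit 2), (nat_lit 0x4f12f001e7d)],
  [(nat_lit 2), (nat_lit 0x10b5012d000229)],
  [(nat_lit 2), (nat_lit 0xe53acf10001c9)],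
  [(nat_lit 2), (nat_lit 0x10b4ad36000219)],
  [(nat_lit 2), (nat_lit 0x434f9001677)],
  [(nat_lit 2), (nat_lit 0x118478f6000221)],
  [(nat_lit 2), (nat_lit 0x1014a91e001aa5)],
  [(nat_lit 2), (nat_lit 0xef3d9360001e5)],
  [(nat_lit 2), (nat_lit 0x38ce70001f5)],
  [(nat_lit 2), (nat_lit 0xf44690500020d)],
  [(nat_lit 2), (nat_lit 0xed4ad3f0001dd)],
  [(nat_lit 2), (nat_lit 0xed4ed02001835)],
  [(nat_lit 2), (nat_lit 0x3950b001e85)],
  [(nat_lit 2), (nat_lit 0x38cf1001e89)],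
  [(nat_lit 2), (nat_lit 0xf34b9230001d5)],
  [(nat_lit 2), (nat_lit 0xef4d11f000209)],
  [(nat_lit 2), (nat_lit 0xe9401140001d9)],
  [(nat_lit 2), (nat_lit 0xf339d3d0001fd)],
  [(nat_lit 2), (nat_lit 0xf34292d0015bf)],
  [(nat_lit 2), (nat_lit 0xeb48d3b0001e9)],
  [(nat_lit 2), (nat_lit 0x1054850b001663)],
  [(nat_lit 2), (nat_lit 0xeb4390c000211)],
  [(nat_lit 2), (nat_lit 0xec484e90001d1)],
  [(nat_lit 2), (nat_lit 0xe5414f80001e1)],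
  [(nat_lit 2), (nat_lit 0xe54e1300013a3)],
  [(nat_lit 2), (nat_lit 0xe34c4ee000205)],
  [(nat_lit 2), (nat_lit 0xe543119001831)],
  [(nat_lit 0), (nat_lit 257), (nat_lit 247), (nat_lit 259)],
  [(nat_lit 0), (nat_lit 257), (nat_lit 245), (nat_lit 259)],
  [(nat_lit 0), (nat_lit 245), (nat_lit 257), (nat_lit 249)],
  [(nat_lit 2), (nat_lit 23)],
  [(nat_lit 2), (nat_lit 0xe54dd34000107)],
  [(nat_lit 2), (nat_lit 0x394f300027d)],
  [(nat_lit 2), (nat_lit 0xf246d19000117)],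
  [(nat_lit 2), (nat_lit 0x38ce5000281)],
  [(nat_lit 2), (nat_lit 0x49d16000239)],
  [(nat_lit 2), (nat_lit 0xe53e8ef00036d)],
  [(nat_lit 2), (nat_lit 0xed44ced000131)],
  [(nat_lit 2), (nat_lit 0xf341d120003cd)],
  [(nat_lit 2), (nat_lit 0x38cee00185d)],
  [(nat_lit 2), (nat_lit 0xf343140000385)],
  [(nat_lit 2), (nat_lit 0x3c924000445)],
  [(nat_lit 2), (nat_lit 0xf2001e95)],
  [(nat_lit 2), (nat_lit 0xf84bd19001ebd)],
  [(nat_lit 2), (nat_lit 0xeb4050c000585)],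
  [(nat_lit 2), (nat_lit 0xe93f131001ec9)],
  [(nat_lit 2), (nat_lit 0xf13f917000471)],
  [(nat_lit 2), (nat_lit 0xf83cd100002c1)],
  [(nat_lit 2), (nat_lit 0xec4bcfa001841)],
  [(nat_lit 2), (nat_lit 0xe53b917000435)],
  [(nat_lit 2), (nat_lit 0xfa3e92d001859)],
  [(nat_lit 2), (nat_lit 0xfb4d0f40002a9)],
  [(nat_lit 2), (nat_lit 0xfb500fb000495)],
  [(nat_lit 2), (nat_lit 0xe941d33000571)],
  [(nat_lit 2), (nat_lit 0xee4a92b0002f1)],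
  [(nat_lit 2), (nat_lit 0xf649d0e0005ed)],
  [(nat_lit 2), (nat_lit 0xf45011300037d)],
  [(nat_lit 2), (nat_lit 0xf34690f000125)],
  [(nat_lit 2), (nat_lit 0xe34d11a001efd)],
  [(nat_lit 2), (nat_lit 0xee001f09)],
  [(nat_lit 2), (nat_lit 0xe547d360002a5)],
  [(nat_lit 2), (nat_lit 0x38cf2001e9d)],
  [(nat_lit 2), (nat_lit 0xe93b935001ec1)],
  [(nat_lit 2), (nat_lit 0xf84c53a00010b)],
  [(nat_lit 2), (nat_lit 0xef4f128000121)],
  [(nat_lit 2), (nat_lit 0xee41910000151)],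
  [(nat_lit 2), (nat_lit 0x101419220004e5)],
  [(nat_lit 2), (nat_lit 0x3ad28001ed5)],
  [(nat_lit 2), (nat_lit 0xe746d20000319)],
  [(nat_lit 2), (nat_lit 0xf346d1000046d)],
  [(nat_lit 2), (nat_lit 0x4c93d00043d)],
  [(nat_lit 2), (nat_lit 0xe34f11a001ef9)],
  [(nat_lit 2), (nat_lit 0xef41532000461)],
  [(nat_lit 2), (nat_lit 0xf241932000113)],
  [(nat_lit 2), (nat_lit 0xf24190a001879)],
  [(nat_lit 2), (nat_lit 0x39cef001aa9)],
  [(nat_lit 2), (nat_lit 0xf14e91c000315)],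
  [(nat_lit 2), (nat_lit 0x10f4e51b000369)],
  [(nat_lit 2), (nat_lit 0xf33c4f40004f1)],
  [(nat_lit 2), (nat_lit 0xf5488f80005d9)],
  [(nat_lit 2), (nat_lit 0xfc4950e0004d9)],
  [(nat_lit 2), (nat_lit 0x3e50a000285)],
  [(nat_lit 2), (nat_lit 0x38ce5000115)],
  [(nat_lit 2), (nat_lit 0x4c51e00011f)],
  [(nat_lit 2), (nat_lit 0x39d13000289)],
  [(nat_lit 2), (nat_lit 0xe94a8ec00183d)],
  [(nat_lit 2), (nat_lit 0xef4412a0005e9)],
  [(nat_lit 2), (nat_lit 0xeb47110000559)],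
  [(nat_lit 2), (nat_lit 0x425110004a9)],
  [(nat_lit 2), (nat_lit 0x4952800012f)],
  [(nat_lit 2), (nat_lit 0xfe3cd1b000515)],
  [(nat_lit 2), (nat_lit 0xe541d31000421)],
  [(nat_lit 2), (nat_lit 0xe347d0a0004d1)],
  [(nat_lit 2), (nat_lit 0xeb4f93e000525)],
  [(nat_lit 2), (nat_lit 0x4952100010f)],
  [(nat_lit 2), (nat_lit 0xed4c0ec0002b5)],
  [(nat_lit 2), (nat_lit 0xed3bcf2001e91)],
  [(nat_lit 2), (nat_lit 0x42d120002fd)],
  [(nat_lit 2), (nat_lit 0xf6000309)],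
  [(nat_lit 2), (nat_lit 0xec4a9210003b5)],
  [(nat_lit 2), (nat_lit 0xe53bd1e0004a1)],
  [(nat_lit 2), (nat_lit 0xef3d9360002e9)],
  [(nat_lit 2), (nat_lit 0x1073a531000581)],
  [(nat_lit 2), (nat_lit 0x10744134001eed)],
  [(nat_lit 2), (nat_lit 0xe7501300002cd)],
  [(nat_lit 2), (nat_lit 0x48934000305)],
  [(nat_lit 2), (nat_lit 0xf843d29001f25)],
  [(nat_lit 2), (nat_lit 0xe34fd070003a5)],
  [(nat_lit 2), (nat_lit 0xeb4c136001845)],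
  [(nat_lit 2), (nat_lit 0x38d140005cd)],
  [(nat_lit 2), (nat_lit 0xeb4fceb000231)],
  [(nat_lit 2), (nat_lit 0xed498eb001ef5)],
  [(nat_lit 2), (nat_lit 0xfa4711c000235)],
  [(nat_lit 2), (nat_lit 0x41924000119)],
  [(nat_lit 2), (nat_lit 0xed4c4f90003e9)],
  [(nat_lit 2), (nat_lit 0x4b8fc000579)],
  [(nat_lit 2), (nat_lit 0xe74012f001aad)],
  [(nat_lit 2), (nat_lit 0xf13f917001ec5)],
  [(nat_lit 2), (nat_lit 0x39cef000291)],
  [(nat_lit 2), (nat_lit 0xe94f8f7000475)],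
  [(nat_lit 2), (nat_lit 0xee00028d)],
  [(nat_lit 2), (nat_lit 0x40cfa001f31)]]
noncomputable def R20 : List (List ℕ) :=
  [[(nat_lit 2), (nat_lit 0x4d1340003e5)],
  [(nat_lit 2), (nat_lit 0xe34891400029d)],
  [(nat_lit 2), (nat_lit 0x45d08001ac1)],
  [(nat_lit 2), (nat_lit 0x1084b5300004d5)],
  [(nat_lit 2), (nat_lit 0xee43925000541)],
  [(nat_lit 2), (nat_lit 0xfb49518000311)],
  [(nat_lit 2), (nat_lit 0xe94d50b00033d)],
  [(nat_lit 2), (nat_lit 0xf5469170002a1)],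
  [(nat_lit 2), (nat_lit 0xe54bd05000147)],
  [(nat_lit 2), (nat_lit 0xec4d91c000591)],
  [(nat_lit 2), (nat_lit 0xe5480ec00031d)],
  [(nat_lit 2), (nat_lit 0x3c9330004b5)],
  [(nat_lit 2), (nat_lit 0x43914001861)],
  [(nat_lit 2), (nat_lit 0xee4fd260002ad)],
  [(nat_lit 2), (nat_lit 0xe34190a0003f9)],
  [(nat_lit 2), (nat_lit 0x3a4ed001f05)],
  [(nat_lit 2), (nat_lit 0xe94c93f001ad5)],
  [(nat_lit 2), (nat_lit 0x10f4c537000469)],
  [(nat_lit 2), (nat_lit 0x4452400026d)],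
  [(nat_lit 2), (nat_lit 0xed4c0ec00059d)],
  [(nat_lit 2), (nat_lit 0xef45d3000057d)],
  [(nat_lit 2), (nat_lit 0xe54f93e0004c1)],
  [(nat_lit 2), (nat_lit 0x4d503000549)],
  [(nat_lit 2), (nat_lit 0xe54c50e001ab9)],
  [(nat_lit 2), (nat_lit 0xe7405300005dd)],
  [(nat_lit 2), (nat_lit 0xfb418f600023d)],
  [(nat_lit 2), (nat_lit 0xfa4711c000245)],
  [(nat_lit 2), (nat_lit 0xeb46d1d001875)],
  [(nat_lit 2), (nat_lit 0x38cf10002b9)],
  [(nat_lit 2), (nat_lit 0x3b9140002b1)],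
  [(nat_lit 2), (nat_lit 0xe34c123000127)],
  [(nat_lit 2), (nat_lit 0xee46d3f00025d)],
  [(nat_lit 2), (nat_lit 0xef4c534000381)],
  [(nat_lit 2), (nat_lit 0xf546d1b0002d1)],
  [(nat_lit 2), (nat_lit 0x3c913001ea1)],
  [(nat_lit 2), (nat_lit 0xe343517000141)],
  [(nat_lit 2), (nat_lit 0xe34bd13001ed9)],
  [(nat_lit 2), (nat_lit 0xe34d0ee0002e1)],
  [(nat_lit 2), (nat_lit 0x45109001ee9)],
  [(nat_lit 2), (nat_lit 0x4913f001ed1)],
  [(nat_lit 2), (nat_lit 0x4612f001ee1)],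
  [(nat_lit 2), (nat_lit 0xed3d130000419)],
  [(nat_lit 2), (nat_lit 0xf444d270002c5)],
  [(nat_lit 2), (nat_lit 0xe746d1d001f19)],
  [(nat_lit 2), (nat_lit 0x49921000341)],
  [(nat_lit 2), (nat_lit 0x39514001f2d)],
  [(nat_lit 2), (nat_lit 0x394ed000325)],
  [(nat_lit 2), (nat_lit 0xe74813500011d)],
  [(nat_lit 2), (nat_lit 0xe5441060004fd)],
  [(nat_lit 2), (nat_lit 0xef48119000389)],
  [(nat_lit 2), (nat_lit 0xeb3cd25000335)],
  [(nat_lit 2), (nat_lit 0xf8500f60003f1)],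
  [(nat_lit 2), (nat_lit 0x4fd33000441)],
  [(nat_lit 2), (nat_lit 0x4213d0002e5)],
  [(nat_lit 2), (nat_lit 0x3acf200044d)],
  [(nat_lit 2), (nat_lit 0xed44ced001e99)],
  [(nat_lit 2), (nat_lit 0xe9414fc000255)],
  [(nat_lit 2), (nat_lit 0x3d4f40003bd)],
  [(nat_lit 2), (nat_lit 0xf24a921001869)],
  [(nat_lit 2), (nat_lit 0x3c91e001f29)],
  [(nat_lit 2), (nat_lit 0x445230004ed)],
  [(nat_lit 2), (nat_lit 0xe547d21001ef1)],
  [(nat_lit 2), (nat_lit 0xfa4d50f00012b)],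
  [(nat_lit 2), (nat_lit 0x3a535000481)],
  [(nat_lit 2), (nat_lit 0x4713f000133)],
  [(nat_lit 2), (nat_lit 0x10842133000301)],
  [(nat_lit 2), (nat_lit 0x39d230003c1)],
  [(nat_lit 2), (nat_lit 0x10b500f20002f9)],
  [(nat_lit 2), (nat_lit 0xf34851a00056d)],
  [(nat_lit 2), (nat_lit 0xeb4cd38000321)],
  [(nat_lit 2), (nat_lit 0x4f12f001ea5)],
  [(nat_lit 2), (nat_lit 0xe53d1200005a9)],
  [(nat_lit 2), (nat_lit 0xee40d36000429)],
  [(nat_lit 2), (nat_lit 0x11400047d)],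
  [(nat_lit 2), (nat_lit 0xe34512f000521)],
  [(nat_lit 2), (nat_lit 0xf946d120003b1)],
  [(nat_lit 2), (nat_lit 0x39d020003ad)],
  [(nat_lit 2), (nat_lit 0xe942134000501)],
  [(nat_lit 2), (nat_lit 0xec3c53f000539)],
  [(nat_lit 2), (nat_lit 0xe300030d)],
  [(nat_lit 2), (nat_lit 0xfc445010003dd)],
  [(nat_lit 2), (nat_lit 0x4891d001ecd)],
  [(nat_lit 2), (nat_lit 0x38cf2001839)],
  [(nat_lit 2), (nat_lit 0x3b913000339)],
  [(nat_lit 2), (nat_lit 0x1144c909000431)],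
  [(nat_lit 2), (nat_lit 0xf54d532001ac9)],
  [(nat_lit 2), (nat_lit 0xf3449080005bd)],
  [(nat_lit 2), (nat_lit 0x100464e900052d)],
  [(nat_lit 2), (nat_lit 0xeb4cd40001edd)],
  [(nat_lit 2), (nat_lit 0xe944126000299)],
  [(nat_lit 2), (nat_lit 0x4251e001ab1)],
  [(nat_lit 2), (nat_lit 0xfc4893a0002f5)],
  [(nat_lit 2), (nat_lit 0xe547d0f001881)],
  [(nat_lit 2), (nat_lit 0xe53cd2f000401)],
  [(nat_lit 2), (nat_lit 0x4a91d0005f1)],
  [(nat_lit 2), (nat_lit 0xf83cd100002ed)],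
  [(nat_lit 2), (nat_lit 0xf33dd24001895)],
  [(nat_lit 2), (nat_lit 0x4c123000145)],
  [(nat_lit 2), (nat_lit 0xed4692d001ae9)],
  [(nat_lit 2), (nat_lit 0xf74a914001f39)],
  [(nat_lit 2), (nat_lit 0xf13d53500040d)],
  [(nat_lit 2), (nat_lit 0xed41d09001889)],
  [(nat_lit 2), (nat_lit 0x11c4f51600014d)],
  [(nat_lit 2), (nat_lit 0xe54d918001ad1)],
  [(nat_lit 2), (nat_lit 0xe74d523000595)],
  [(nat_lit 2), (nat_lit 0xe5471170002bd)],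
  [(nat_lit 2), (nat_lit 0xf44591c0003ed)],
  [(nat_lit 2), (nat_lit 0xff4c534001885)],
  [(nat_lit 2), (nat_lit 0x11b43d15001891)],
  [(nat_lit 2), (nat_lit 0xfa3ed210003d1)],
  [(nat_lit 2), (nat_lit 0xe54a90c001abd)],
  [(nat_lit 2), (nat_lit 0x1005012800188d)],
  [(nat_lit 2), (nat_lit 0x4bceb0002d9)],
  [(nat_lit 2), (nat_lit 0x488f1000531)],
  [(nat_lit 2), (nat_lit 0xe546132000349)],
  [(nat_lit 2), (nat_lit 0xed4fd3f0003c5)],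
  [(nat_lit 2), (nat_lit 0xf44a52b0005d5)],
  [(nat_lit 2), (nat_lit 0xfc4710f000569)],
  [(nat_lit 2), (nat_lit 0xe54a52d000295)],
  [(nat_lit 2), (nat_lit 0x45109000275)],
  [(nat_lit 2), (nat_lit 0x4f12b00051d)],
  [(nat_lit 2), (nat_lit 0xe3439300004a5)],
  [(nat_lit 2), (nat_lit 0xe93d13d000241)],
  [(nat_lit 2), (nat_lit 0xe73f91e000259)],
  [(nat_lit 2), (nat_lit 0xe34d4ef000361)],
  [(nat_lit 2), (nat_lit 0xf442d400005a5)],
  [(nat_lit 2), (nat_lit 0xf43d5290003d5)],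
  [(nat_lit 2), (nat_lit 0xe34d502000355)],
  [(nat_lit 2), (nat_lit 0x10344d35000269)],
  [(nat_lit 2), (nat_lit 0xe5414f8001ead)],
  [(nat_lit 2), (nat_lit 0xfc4f4eb000449)],
  [(nat_lit 2), (nat_lit 0xed4f903000329)],
  [(nat_lit 2), (nat_lit 0xf347d07001ae5)],
  [(nat_lit 2), (nat_lit 0xf74c4e70005c5)],
  [(nat_lit 2), (nat_lit 0x3c50a000425)],
  [(nat_lit 2), (nat_lit 0xe74612f001f1d)],
  [(nat_lit 2), (nat_lit 0xe54dd19001ae1)],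
  [(nat_lit 2), (nat_lit 0x1014e9210005c9)],
  [(nat_lit 2), (nat_lit 0xeb5011d000529)],
  [(nat_lit 2), (nat_lit 0x42d12000451)],
  [(nat_lit 2), (nat_lit 0x42902001851)],
  [(nat_lit 2), (nat_lit 0xf84a8ed0005e5)],
  [(nat_lit 2), (nat_lit 0xef4890d000279)],
  [(nat_lit 2), (nat_lit 0xf34510200184d)],
  [(nat_lit 2), (nat_lit 0x10349d32000489)],
  [(nat_lit 2), (nat_lit 0xef44940001ab5)],
  [(nat_lit 2), (nat_lit 0xf34912d000505)],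
  [(nat_lit 2), (nat_lit 0xf24d9080004b1)],
  [(nat_lit 2), (nat_lit 0x1084250b0004e1)],
  [(nat_lit 2), (nat_lit 0x10141d34000249)],
  [(nat_lit 2), (nat_lit 0xf14d53c0005c1)],
  [(nat_lit 2), (nat_lit 0xf24fcf7000415)],
  [(nat_lit 2), (nat_lit 0xec501170004f5)],
  [(nat_lit 2), (nat_lit 0xee3f907001865)],
  [(nat_lit 2), (nat_lit 0x460ed0002d5)],
  [(nat_lit 2), (nat_lit 0xf1428f7001ee5)],
  [(nat_lit 2), (nat_lit 0xe73f1020003d9)],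
  [(nat_lit 2), (nat_lit 0x1134912d001eb5)],
  [(nat_lit 2), (nat_lit 0x45d0f0005d1)],
  [(nat_lit 2), (nat_lit 0xf83bd0100050d)],
  [(nat_lit 2), (nat_lit 0x4810a001f01)],
  [(nat_lit 2), (nat_lit 0x1034d508001871)],
  [(nat_lit 2), (nat_lit 0xf84d900001ac5)],
  [(nat_lit 2), (nat_lit 0x425050005b9)],
  [(nat_lit 2), (nat_lit 0xfc409310002c9)],
  [(nat_lit 2), (nat_lit 0x43d2500049d)],
  [(nat_lit 2), (nat_lit 0x4cd01001f21)],
  [(nat_lit 2), (nat_lit 0xfb3d91e000331)],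
  [(nat_lit 2), (nat_lit 0xeb474ee001849)],
  [(nat_lit 2), (nat_lit 0x3a536000345)],
  [(nat_lit 2), (nat_lit 0xe94290f0003e1)],
  [(nat_lit 2), (nat_lit 0xe74ed300004b9)],
  [(nat_lit 2), (nat_lit 0xe3425340004ad)],
  [(nat_lit 2), (nat_lit 0xe344d35000161)],
  [(nat_lit 2), (nat_lit 0x1173b12a00048d)],
  [(nat_lit 2), (nat_lit 0xf140914000575)],
  [(nat_lit 2), (nat_lit 0x48d14001f0d)],
  [(nat_lit 2), (nat_lit 0xf1001eb1)],
  [(nat_lit 2), (nat_lit 0xf34f9240004c5)],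
  [(nat_lit 2), (nat_lit 0xeb4d530000459)],
  [(nat_lit 2), (nat_lit 0xed4e50f0004dd)],
  [(nat_lit 2), (nat_lit 0xfb451280003f5)],
  [(nat_lit 2), (nat_lit 0xe73cd3c0003a9)],
  [(nat_lit 2), (nat_lit 0xf14b53e000439)],
  [(nat_lit 2), (nat_lit 0x10c4b93e000405)],
  [(nat_lit 2), (nat_lit 0x10540d350003c9)],
  [(nat_lit 2), (nat_lit 0xe3470f10002dd)],
  [(nat_lit 2), (nat_lit 0x3e1090003a1)],
  [(nat_lit 2), (nat_lit 0xe33b530000551)],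
  [(nat_lit 2), (nat_lit 0xee4353c000371)],
  [(nat_lit 2), (nat_lit 0xfa49929000359)],
  [(nat_lit 2), (nat_lit 0xf74c113000409)],
  [(nat_lit 2), (nat_lit 0xec44136000163)],
  [(nat_lit 2), (nat_lit 0xfc39d20000399)],
  [(nat_lit 2), (nat_lit 0xe347139000395)],
  [(nat_lit 2), (nat_lit 0xe34bd0500041d)],
  [(nat_lit 2), (nat_lit 0xe54a12a000555)],
  [(nat_lit 2), (nat_lit 0x10d4d53900038d)],
  [(nat_lit 2), (nat_lit 0xe945513000511)],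
  [(nat_lit 2), (nat_lit 0xf54c9190004f9)],
  [(nat_lit 2), (nat_lit 0xe74f538000391)],
  [(nat_lit 2), (nat_lit 0x10c404ee00039d)],
  [(nat_lit 2), (nat_lit 0xe74a51f000519)],
  [(nat_lit 2), (nat_lit 0x4850000042d)],
  [(nat_lit 2), (nat_lit 0x4151800054d)],
  [(nat_lit 2), (nat_lit 0xf73e8f300058d)],
  [(nat_lit 2), (nat_lit 0x49908000565)],
  [(nat_lit 2), (nat_lit 0xe74fcec0004e9)],
  [(nat_lit 2), (nat_lit 0x11f3ccf70004bd)],
  [(nat_lit 2), (nat_lit 0x46101001ad9)],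
  [(nat_lit 2), (nat_lit 0xf345922000411)],
  [(nat_lit 2), (nat_lit 0xe7474fd00024d)],
  [(nat_lit 2), (nat_lit 0xe33fd13000251)],
  [(nat_lit 2), (nat_lit 0xe33f106000545)],
  [(nat_lit 2), (nat_lit 0xf43f1250004c9)],
  [(nat_lit 2), (nat_lit 0x394ec000261)],
  [(nat_lit 2), (nat_lit 0x394ec000265)],
  [(nat_lit 2), (nat_lit 0xe54b120001899)],
  [(nat_lit 2), (nat_lit 0xf24210800034d)],
  [(nat_lit 2), (nat_lit 0xe940930000599)],
  [(nat_lit 2), (nat_lit 0xfb41d34001ea9)],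
  [(nat_lit 2), (nat_lit 0x1233d0fe000135)],
  [(nat_lit 2), (nat_lit 0xe743d1c0004cd)],
  [(nat_lit 2), (nat_lit 0xf34d51c000535)],
  [(nat_lit 2), (nat_lit 0xe54513f0005f9)],
  [(nat_lit 2), (nat_lit 0x44524000271)],
  [(nat_lit 2), (nat_lit 0x414ed000149)],
  [(nat_lit 2), (nat_lit 0xf74e90700053d)],
  [(nat_lit 2), (nat_lit 0xf44dd1f0005e1)],
  [(nat_lit 2), (nat_lit 0xec0005f5)],
  [(nat_lit 2), (nat_lit 0x404fe001f3d)],
  [(nat_lit 2), (nat_lit 0xee420f9000499)],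
  [(nat_lit 2), (nat_lit 0x11b4a93b000509)],
  [(nat_lit 2), (nat_lit 0xee4f11f000379)],
  [(nat_lit 2), (nat_lit 0xf93f1100003b9)],
  [(nat_lit 2), (nat_lit 0xe34f12f001855)],
  [(nat_lit 2), (nat_lit 0xed4bd2a001f41)],
  [(nat_lit 2), (nat_lit 0xf442922000561)],
  [(nat_lit 2), (nat_lit 0xec4f92e000365)],
  [(nat_lit 2), (nat_lit 0xe93d11300032d)],
  [(nat_lit 2), (nat_lit 0x4d90d000465)],
  [(nat_lit 2), (nat_lit 0xe93e12000055d)],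
  [(nat_lit 2), (nat_lit 0xee50123001eb9)],
  [(nat_lit 2), (nat_lit 0xef4ed3f001f15)],
  [(nat_lit 2), (nat_lit 0xf247d00000375)],
  [(nat_lit 2), (nat_lit 0xf242108001add)],
  [(nat_lit 2), (nat_lit 0x1034c91900045d)],
  [(nat_lit 2), (nat_lit 0xef4c51d000491)],
  [(nat_lit 2), (nat_lit 0xe341d130005a1)],
  [(nat_lit 2), (nat_lit 0xf14f935001f11)],
  [(nat_lit 2), (nat_lit 0xe945d2d00186d)],
  [(nat_lit 2), (nat_lit 0x3e0ec00035d)],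
  [(nat_lit 2), (nat_lit 0x46cf3000351)],
  [(nat_lit 2), (nat_lit 0xee44903000589)],
  [(nat_lit 2), (nat_lit 0xf2459290005b1)],
  [(nat_lit 2), (nat_lit 0xe94c936000479)],
  [(nat_lit 2), (nat_lit 0xe54b519001f35)],
  [(nat_lit 2), (nat_lit 0xe33e5280005b5)],
  [(nat_lit 2), (nat_lit 0x1054793a0003fd)],
  [(nat_lit 2), (nat_lit 0xe93c52f00015b)],
  [(nat_lit 2), (nat_lit 0xe34150700187d)],
  [(nat_lit 2), (nat_lit 0x418e5000455)],
  [(nat_lit 2), (nat_lit 0xf74953d001acd)],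
  [(nat_lit 2), (nat_lit 0xfb42919000485)],
  [(nat_lit 2), (nat_lit 0x1124ed3100015d)],
  [(nat_lit 2), (nat_lit 0x435340005ad)],
  [(nat_lit 0), (nat_lit 361), (nat_lit 357)],
  [(nat_lit 0), (nat_lit 361), (nat_lit 357)],
  [(nat_lit 0), (nat_lit 361)],
  [(nat_lit 2), (nat_lit 27)],
  [(nat_lit 2), (nat_lit 0xfb418f600060d)],
  [(nat_lit 2), (nat_lit 0xe70005fd)],
  [(nat_lit 2), (nat_lit 0xee4d534000687)],
  [(nat_lit 2), (nat_lit 0xef4c11200022f)],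
  [(nat_lit 2), (nat_lit 0x38ce7000601)],
  [(nat_lit 2), (nat_lit 0x1014d940000217)],
  [(nat_lit 2), (nat_lit 0x38cf200068d)],
  [(nat_lit 2), (nat_lit 0xf146cf9000695)],
  [(nat_lit 2), (nat_lit 0x38cee001ff5)],
  [(nat_lit 2), (nat_lit 0x4d4fc0001cb)],
  [(nat_lit 2), (nat_lit 0x3cce70007d1)],
  [(nat_lit 2), (nat_lit 0xf2000609)],
  [(nat_lit 2), (nat_lit 0x4cd0e00016f)],
  [(nat_lit 2), (nat_lit 0x38d31000713)],
  [(nat_lit 2), (nat_lit 0xe547924000c61)],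
  [(nat_lit 2), (nat_lit 0xed44d2b001069)],
  [(nat_lit 2), (nat_lit 0xe7458fc000de5)],
  [(nat_lit 2), (nat_lit 0xf445d26000f1d)],
  [(nat_lit 2), (nat_lit 0xf247139001125)],
  [(nat_lit 2), (nat_lit 0x4611e00069d)],
  [(nat_lit 2), (nat_lit 0xe34150f00026f)],
  [(nat_lit 2), (nat_lit 0x1004ed1a001071)],
  [(nat_lit 2), (nat_lit 0x10c4c1070010f9)],
  [(nat_lit 2), (nat_lit 0xe74711a0019d9)],
  [(nat_lit 2), (nat_lit 0x4551f000263)],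
  [(nat_lit 2), (nat_lit 0xeb4b92100069b)],
  [(nat_lit 2), (nat_lit 0xe33c50a001fe9)],
  [(nat_lit 2), (nat_lit 0xec5012400148d)],
  [(nat_lit 2), (nat_lit 0x41d310007db)],
  [(nat_lit 2), (nat_lit 0xee000605)],
  [(nat_lit 2), (nat_lit 0xeb45d19000691)],
  [(nat_lit 2), (nat_lit 0xe346124000721)],
  [(nat_lit 2), (nat_lit 0x405070008a9)],
  [(nat_lit 2), (nat_lit 0xee4692100017f)],
  [(nat_lit 2), (nat_lit 0xe94a130000d65)],
  [(nat_lit 2), (nat_lit 0xed484f7000ad1)],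
  [(nat_lit 2), (nat_lit 0xfd4753d000a99)],
  [(nat_lit 2), (nat_lit 0xec46936000dd9)],
  [(nat_lit 2), (nat_lit 0x12d000297)],
  [(nat_lit 2), (nat_lit 0x39514000287)],
  [(nat_lit 2), (nat_lit 0xe541924000283)],
  [(nat_lit 2), (nat_lit 0xe94a8fd00204d)],
  [(nat_lit 2), (nat_lit 0x1084a52c00061b)],
  [(nat_lit 2), (nat_lit 0xf3464ec00056b)],
  [(nat_lit 2), (nat_lit 0xf4434ed0009ff)],
  [(nat_lit 2), (nat_lit 0xf23e91c000997)],
  [(nat_lit 2), (nat_lit 0xe748cfb001c69)],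
  [(nat_lit 2), (nat_lit 0xfa4d12d000a6d)],
  [(nat_lit 2), (nat_lit 0xf74fd31001945)],
  [(nat_lit 2), (nat_lit 0x3e50a000685)],
  [(nat_lit 2), (nat_lit 0xfc40919000463)],
  [(nat_lit 2), (nat_lit 0xe54d11a000727)],
  [(nat_lit 2), (nat_lit 0xff4a531000929)],
  [(nat_lit 2), (nat_lit 0xf2438f4000881)],
  [(nat_lit 2), (nat_lit 0xec484fa00028b)],
  [(nat_lit 2), (nat_lit 0xe74152f00076d)],
  [(nat_lit 2), (nat_lit 0xe93dd2f000ecf)],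
  [(nat_lit 2), (nat_lit 0xfa4992a0018dd)],
  [(nat_lit 2), (nat_lit 0xf63d128000fd1)],
  [(nat_lit 2), (nat_lit 0xfc47136000307)],
  [(nat_lit 2), (nat_lit 0x40507000613)],
  [(nat_lit 2), (nat_lit 0x1093d136002019)],
  [(nat_lit 2), (nat_lit 0xe34f10a000627)],
  [(nat_lit 2), (nat_lit 0xe743d2f00206d)],
  [(nat_lit 2), (nat_lit 0x394eb0018d5)],
  [(nat_lit 2), (nat_lit 0xec3e93000047b)],
  [(nat_lit 2), (nat_lit 0x4491b0002b7)],
  [(nat_lit 2), (nat_lit 0xf23b13000076b)],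
  [(nat_lit 2), (nat_lit 0xe54611900189d)],
  [(nat_lit 2), (nat_lit 0xee4992200017b)],
  [(nat_lit 2), (nat_lit 0xf94e5230009eb)],
  [(nat_lit 2), (nat_lit 0xee458fb000fc5)],
  [(nat_lit 2), (nat_lit 0xe94e118001b79)],
  [(nat_lit 2), (nat_lit 0x3e528000827)],
  [(nat_lit 2), (nat_lit 0xe741920000a8f)],
  [(nat_lit 2), (nat_lit 0x3acee001b95)],
  [(nat_lit 2), (nat_lit 0xe33b516000a3d)],
  [(nat_lit 2), (nat_lit 0x38cf2000689)],
  [(nat_lit 2), (nat_lit 0xf20018e9)],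
  [(nat_lit 2), (nat_lit 0x10c404ee0012d9)],
  [(nat_lit 2), (nat_lit 0xee44125001aed)],
  [(nat_lit 2), (nat_lit 0x418f7001f45)],
  [(nat_lit 2), (nat_lit 0xe53b115001911)],
  [(nat_lit 2), (nat_lit 0x4e512001f49)],
  [(nat_lit 2), (nat_lit 0xe549d40000303)],
  [(nat_lit 2), (nat_lit 0xfa3e92d001fe5)],
  [(nat_lit 2), (nat_lit 0xef4f1280019dd)],
  [(nat_lit 2), (nat_lit 0xf34d52500209d)],
  [(nat_lit 2), (nat_lit 0xe549d2c0008a7)],
  [(nat_lit 2), (nat_lit 0x38cee001ffd)],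
  [(nat_lit 2), (nat_lit 0xe5454ec0001fb)],
  [(nat_lit 2), (nat_lit 0x49d05000723)],
  [(nat_lit 2), (nat_lit 0xe34cd0e00124f)],
  [(nat_lit 2), (nat_lit 0xef4a13b0002ff)],
  [(nat_lit 2), (nat_lit 0xe34453a002041)],
  [(nat_lit 2), (nat_lit 0x3f911000939)],
  [(nat_lit 2), (nat_lit 0xeb490fd000c55)],
  [(nat_lit 2), (nat_lit 0xfc4091900086d)],
  [(nat_lit 2), (nat_lit 0x1084951300055f)],
  [(nat_lit 2), (nat_lit 0xee4090a000b4b)],
  [(nat_lit 2), (nat_lit 0xeb3e5320002d3)],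
  [(nat_lit 2), (nat_lit 0xed4fd30000ed7)],
  [(nat_lit 2), (nat_lit 0xed3e8ed000d4b)],
  [(nat_lit 2), (nat_lit 0xf84c512001fad)],
  [(nat_lit 2), (nat_lit 0xf54ad3f0003bb)],
  [(nat_lit 2), (nat_lit 0x44525000273)],
  [(nat_lit 2), (nat_lit 0xe94890f00201d)],
  [(nat_lit 2), (nat_lit 0xe55011f000779)],
  [(nat_lit 2), (nat_lit 0x3b53800036f)],
  [(nat_lit 2), (nat_lit 0xe53e4f1002005)],
  [(nat_lit 2), (nat_lit 0x3dd23000637)],
  [(nat_lit 2), (nat_lit 0xe34393b000c59)],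
  [(nat_lit 2), (nat_lit 0xed47d21000935)],
  [(nat_lit 2), (nat_lit 0xf548115000df1)],
  [(nat_lit 2), (nat_lit 0x11449d1e000baf)],
  [(nat_lit 2), (nat_lit 0x4511d000dc5)],
  [(nat_lit 2), (nat_lit 0xe548d0b000dbd)],
  [(nat_lit 2), (nat_lit 0xef3e931001db9)],
  [(nat_lit 2), (nat_lit 0x4392a0005d3)],
  [(nat_lit 2), (nat_lit 0xfe4f11a001721)],
  [(nat_lit 2), (nat_lit 0xeb4ad06000807)],
  [(nat_lit 2), (nat_lit 0xe34850e0003cf)],
  [(nat_lit 2), (nat_lit 0x494fb000fb3)],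
  [(nat_lit 2), (nat_lit 0xe74f10a002071)],
  [(nat_lit 2), (nat_lit 0xec44136000931)],
  [(nat_lit 2), (nat_lit 0xe54990d002189)],
  [(nat_lit 2), (nat_lit 0xf94f922001c59)],
  [(nat_lit 2), (nat_lit 0xfa4c924000db1)],
  [(nat_lit 2), (nat_lit 0x1054c8f200073b)],
  [(nat_lit 2), (nat_lit 0xe548539000aa1)]]
noncomputable def R21 : List (List ℕ) :=
  [[(nat_lit 2), (nat_lit 0x3bd1d000a39)],
  [(nat_lit 2), (nat_lit 0x10b50128000ad5)],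
  [(nat_lit 2), (nat_lit 0xed49134001065)],
  [(nat_lit 2), (nat_lit 0xe94d1070014bb)],
  [(nat_lit 2), (nat_lit 0xe546cfb0007d7)],
  [(nat_lit 2), (nat_lit 0xe749911000c7d)],
  [(nat_lit 2), (nat_lit 0xe34752f000f03)],
  [(nat_lit 2), (nat_lit 0xe743d2f001cb5)],
  [(nat_lit 2), (nat_lit 0xee3f91c000891)],
  [(nat_lit 2), (nat_lit 0xee489280003ef)],
  [(nat_lit 2), (nat_lit 0xf450120000fb1)],
  [(nat_lit 2), (nat_lit 0x430fa000647)],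
  [(nat_lit 2), (nat_lit 0x1074ed36000fb5)],
  [(nat_lit 2), (nat_lit 0xed4cce900119d)],
  [(nat_lit 2), (nat_lit 0xe54c9230017ed)],
  [(nat_lit 2), (nat_lit 0xf341cef000699)],
  [(nat_lit 2), (nat_lit 0x10749510000fe7)],
  [(nat_lit 2), (nat_lit 0x4b8ec001051)],
  [(nat_lit 2), (nat_lit 0xe74a5060013fb)],
  [(nat_lit 2), (nat_lit 0xef4b4fb0002a7)],
  [(nat_lit 2), (nat_lit 0xfb44138000725)],
  [(nat_lit 2), (nat_lit 0xe9475170006af)],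
  [(nat_lit 2), (nat_lit 0xe34c503000885)],
  [(nat_lit 2), (nat_lit 0xed4d1340012e9)],
  [(nat_lit 2), (nat_lit 0xe345d340008bb)],
  [(nat_lit 2), (nat_lit 0x4bd05000623)],
  [(nat_lit 2), (nat_lit 0xf54492d002099)],
  [(nat_lit 2), (nat_lit 0xee3e91a001b6d)],
  [(nat_lit 2), (nat_lit 0xe344d390018a1)],
  [(nat_lit 2), (nat_lit 0x1103e530000e15)],
  [(nat_lit 2), (nat_lit 0xf14592f000aa9)],
  [(nat_lit 2), (nat_lit 0xee001ff1)],
  [(nat_lit 2), (nat_lit 0xf646d240013c3)],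
  [(nat_lit 2), (nat_lit 0x47ced0002af)],
  [(nat_lit 2), (nat_lit 0x1094c93f00041f)],
  [(nat_lit 2), (nat_lit 0xf84c51e0018c5)],
  [(nat_lit 2), (nat_lit 0xf347107000769)],
  [(nat_lit 2), (nat_lit 0xf10018e1)],
  [(nat_lit 2), (nat_lit 0x4cd33000187)],
  [(nat_lit 2), (nat_lit 0xeb4e51c002021)],
  [(nat_lit 2), (nat_lit 0xe54d12400028f)],
  [(nat_lit 2), (nat_lit 0xe53b134000293)],
  [(nat_lit 2), (nat_lit 0xe93e92d0001f3)],
  [(nat_lit 2), (nat_lit 0xe342cfc000693)],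
  [(nat_lit 2), (nat_lit 0x3c91d001bc1)],
  [(nat_lit 2), (nat_lit 0x4013b000949)],
  [(nat_lit 2), (nat_lit 0xf248515000951)],
  [(nat_lit 2), (nat_lit 0x45522000cb9)],
  [(nat_lit 2), (nat_lit 0xf54151f000e89)],
  [(nat_lit 2), (nat_lit 0xee4052d000fc3)],
  [(nat_lit 2), (nat_lit 0xe74bd1c001cd5)],
  [(nat_lit 2), (nat_lit 0x45507000fd5)],
  [(nat_lit 2), (nat_lit 0xe74c516000d23)],
  [(nat_lit 2), (nat_lit 0xe53bd1e001f4d)],
  [(nat_lit 2), (nat_lit 0xe93e8fc000a51)],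
  [(nat_lit 2), (nat_lit 0x1054293c001fb5)],
  [(nat_lit 2), (nat_lit 0xe54f123000f01)],
  [(nat_lit 2), (nat_lit 0xe54d1290010d9)],
  [(nat_lit 2), (nat_lit 0xe93c914001bd5)],
  [(nat_lit 2), (nat_lit 0xe7400f7001961)],
  [(nat_lit 2), (nat_lit 0x3c93a001b71)],
  [(nat_lit 2), (nat_lit 0x43514001b8d)],
  [(nat_lit 2), (nat_lit 0xe93dd2f000879)],
  [(nat_lit 2), (nat_lit 0xeb4c5220016e9)],
  [(nat_lit 2), (nat_lit 0x4c531000473)],
  [(nat_lit 2), (nat_lit 0xf33cd27001449)],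
  [(nat_lit 2), (nat_lit 0x394ec0018d1)],
  [(nat_lit 2), (nat_lit 0xeb4d90e001c6d)],
  [(nat_lit 2), (nat_lit 0xf84f124000ae9)],
  [(nat_lit 2), (nat_lit 0xe54490f0018d9)],
  [(nat_lit 2), (nat_lit 0xec4291e00086f)],
  [(nat_lit 2), (nat_lit 0x43532000acb)],
  [(nat_lit 2), (nat_lit 0xf94a13a000bf1)],
  [(nat_lit 2), (nat_lit 0xf1498ec0005fb)],
  [(nat_lit 2), (nat_lit 0xed4bd05001af5)],
  [(nat_lit 2), (nat_lit 0x46914001c39)],
  [(nat_lit 2), (nat_lit 0xf94d11b001361)],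
  [(nat_lit 2), (nat_lit 0xef4392a0015a3)],
  [(nat_lit 2), (nat_lit 0xf650103000b49)],
  [(nat_lit 2), (nat_lit 0xfc4a13b001077)],
  [(nat_lit 2), (nat_lit 0xe54f53f000d95)],
  [(nat_lit 2), (nat_lit 0xe34fd390020ad)],
  [(nat_lit 2), (nat_lit 0x3b92f000781)],
  [(nat_lit 2), (nat_lit 0xf34dd21001671)],
  [(nat_lit 2), (nat_lit 0xee4c4e700167f)],
  [(nat_lit 2), (nat_lit 0x44113001989)],
  [(nat_lit 2), (nat_lit 0xe54d0ee001079)],
  [(nat_lit 2), (nat_lit 0xef48119001075)],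
  [(nat_lit 2), (nat_lit 0xee434f9000771)],
  [(nat_lit 2), (nat_lit 0xec3e51d0005af)],
  [(nat_lit 2), (nat_lit 0xf24d13f001b59)],
  [(nat_lit 2), (nat_lit 0x4753f000fa9)],
  [(nat_lit 2), (nat_lit 0xe344d2800106d)],
  [(nat_lit 2), (nat_lit 0x394eb00070d)],
  [(nat_lit 2), (nat_lit 0xed001cd1)],
  [(nat_lit 2), (nat_lit 0xe93bd2f000bf7)],
  [(nat_lit 2), (nat_lit 0x4a90d0009e5)],
  [(nat_lit 2), (nat_lit 0xe9420e90011b3)],
  [(nat_lit 2), (nat_lit 0xf54bd20000b45)],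
  [(nat_lit 2), (nat_lit 0xed40919000a05)],
  [(nat_lit 2), (nat_lit 0xe547933000e83)],
  [(nat_lit 2), (nat_lit 0xf63d136001159)],
  [(nat_lit 2), (nat_lit 0xe348129001595)],
  [(nat_lit 2), (nat_lit 0x4f4f90014b7)],
  [(nat_lit 2), (nat_lit 0x11f000e87)],
  [(nat_lit 2), (nat_lit 0x12542106002095)],
  [(nat_lit 2), (nat_lit 0x3dd1900093d)],
  [(nat_lit 2), (nat_lit 0xed4fd12000adb)],
  [(nat_lit 2), (nat_lit 0x420e90013d9)],
  [(nat_lit 2), (nat_lit 0xee41d03000467)],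
  [(nat_lit 2), (nat_lit 0xef4f13a00076f)],
  [(nat_lit 2), (nat_lit 0xe746d08000d51)],
  [(nat_lit 2), (nat_lit 0x41524001475)],
  [(nat_lit 2), (nat_lit 0xe34d522001737)],
  [(nat_lit 2), (nat_lit 0xf73d91e0002bb)],
  [(nat_lit 2), (nat_lit 0x11b47902000833)],
  [(nat_lit 2), (nat_lit 0xeb4a916000943)],
  [(nat_lit 2), (nat_lit 0xf241d1600071b)],
  [(nat_lit 2), (nat_lit 0x480f1000cbd)],
  [(nat_lit 2), (nat_lit 0xe543d1b0013f3)],
  [(nat_lit 2), (nat_lit 0xe33e531000875)],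
  [(nat_lit 2), (nat_lit 0x1054051c001753)],
  [(nat_lit 2), (nat_lit 0xec4a8fa000c97)],
  [(nat_lit 2), (nat_lit 0xfb454f3000c87)],
  [(nat_lit 2), (nat_lit 0xfd4d4ec000f63)],
  [(nat_lit 2), (nat_lit 0xf44890600172b)],
  [(nat_lit 2), (nat_lit 0x38d0748509000503)],
  [(nat_lit 2), (nat_lit 0xef4a91200104b)],
  [(nat_lit 2), (nat_lit 0xf2474f3000b6b)],
  [(nat_lit 2), (nat_lit 0xe74f517001009)],
  [(nat_lit 2), (nat_lit 0xe341d09001a25)],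
  [(nat_lit 2), (nat_lit 0x40d1c0008b5)],
  [(nat_lit 2), (nat_lit 0xe9471070002f3)],
  [(nat_lit 2), (nat_lit 0xe93bd2b000989)],
  [(nat_lit 2), (nat_lit 0xfc39d28001bdd)],
  [(nat_lit 2), (nat_lit 0xe9434eb0005eb)],
  [(nat_lit 2), (nat_lit 0xf44e50f00169d)],
  [(nat_lit 2), (nat_lit 0xf84711f0012a9)],
  [(nat_lit 2), (nat_lit 0x1074bd3b000e8d)],
  [(nat_lit 2), (nat_lit 0x39cf40009ed)],
  [(nat_lit 2), (nat_lit 0xe539d1b00043f)],
  [(nat_lit 2), (nat_lit 0x4251a0004bb)],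
  [(nat_lit 2), (nat_lit 0xee4fd2800150d)],
  [(nat_lit 2), (nat_lit 0xeb474f40007f3)],
  [(nat_lit 2), (nat_lit 0xfe0007df)],
  [(nat_lit 2), (nat_lit 0xff488ee001463)],
  [(nat_lit 2), (nat_lit 0xef4c90600110f)],
  [(nat_lit 2), (nat_lit 0xf3435190015fb)],
  [(nat_lit 2), (nat_lit 0x11046cfe001657)],
  [(nat_lit 2), (nat_lit 0xec44d3e000871)],
  [(nat_lit 2), (nat_lit 0xe3000625)],
  [(nat_lit 2), (nat_lit 0xf74a907001c71)],
  [(nat_lit 2), (nat_lit 0x4a12200031b)],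
  [(nat_lit 2), (nat_lit 0xf84c5240006f5)],
  [(nat_lit 2), (nat_lit 0xeb3c534000603)],
  [(nat_lit 2), (nat_lit 0xfc3fcef000921)],
  [(nat_lit 2), (nat_lit 0x4d102000a6f)],
  [(nat_lit 2), (nat_lit 0x43914001c1d)],
  [(nat_lit 2), (nat_lit 0xe5481400011e1)],
  [(nat_lit 2), (nat_lit 0xe548d0600062d)],
  [(nat_lit 2), (nat_lit 0xf345d35000661)],
  [(nat_lit 2), (nat_lit 0xeb438ef0006f9)],
  [(nat_lit 2), (nat_lit 0x45109001fed)],
  [(nat_lit 2), (nat_lit 0xf63d13600190d)],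
  [(nat_lit 2), (nat_lit 0xeb4cced000173)],
  [(nat_lit 2), (nat_lit 0xee4a0fc0001eb)],
  [(nat_lit 2), (nat_lit 0xe54451d000979)],
  [(nat_lit 2), (nat_lit 0x4d50f0006fd)],
  [(nat_lit 2), (nat_lit 0xe94c9110007e7)],
  [(nat_lit 2), (nat_lit 0xf345102001fc9)],
  [(nat_lit 2), (nat_lit 0xeb4013200024f)],
  [(nat_lit 2), (nat_lit 0xee4dd18000b31)],
  [(nat_lit 2), (nat_lit 0x3e514000709)],
  [(nat_lit 2), (nat_lit 0xf1401020006d9)],
  [(nat_lit 2), (nat_lit 0xeb4bd1c0011a1)],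
  [(nat_lit 2), (nat_lit 0xe53f93c00099b)],
  [(nat_lit 2), (nat_lit 0x49937001999)],
  [(nat_lit 2), (nat_lit 0xf446119000e8b)],
  [(nat_lit 2), (nat_lit 0xe53b538000775)],
  [(nat_lit 2), (nat_lit 0xeb418f5000765)],
  [(nat_lit 2), (nat_lit 0x4e53b000b91)],
  [(nat_lit 2), (nat_lit 0xe34f1330004af)],
  [(nat_lit 2), (nat_lit 0xe53d11b0012a3)],
  [(nat_lit 2), (nat_lit 0xeb40524000b21)],
  [(nat_lit 2), (nat_lit 0xe94793e0014b5)],
  [(nat_lit 2), (nat_lit 0x4d13d000533)],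
  [(nat_lit 2), (nat_lit 0xf6421290012f3)],
  [(nat_lit 2), (nat_lit 0x48926000aad)],
  [(nat_lit 2), (nat_lit 0x44d1e0011bd)],
  [(nat_lit 2), (nat_lit 0xed46cf9000653)],
  [(nat_lit 2), (nat_lit 0xfb4ad18002155)],
  [(nat_lit 2), (nat_lit 0x1064c905000a95)],
  [(nat_lit 2), (nat_lit 0x10642d31000acd)],
  [(nat_lit 2), (nat_lit 0xe74c51b000efd)],
  [(nat_lit 2), (nat_lit 0xfc4a91f0018a9)],
  [(nat_lit 2), (nat_lit 0xe940102000655)],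
  [(nat_lit 2), (nat_lit 0xe746d1d000619)],
  [(nat_lit 2), (nat_lit 0xef48928000193)],
  [(nat_lit 2), (nat_lit 0xec501150006d5)],
  [(nat_lit 2), (nat_lit 0xfa4711c000611)],
  [(nat_lit 2), (nat_lit 0x4891d00066d)],
  [(nat_lit 2), (nat_lit 0x1013cd18000847)],
  [(nat_lit 2), (nat_lit 0xfb418f6000629)],
  [(nat_lit 2), (nat_lit 0xfd46d320006e9)],
  [(nat_lit 2), (nat_lit 0xfb439290001df)],
  [(nat_lit 2), (nat_lit 0xf84c4f7000b1b)],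
  [(nat_lit 2), (nat_lit 0xeb41934000f93)],
  [(nat_lit 2), (nat_lit 0xee4c1180011f3)],
  [(nat_lit 2), (nat_lit 0xef3d936000671)],
  [(nat_lit 2), (nat_lit 0x469230006b5)],
  [(nat_lit 2), (nat_lit 0xe94152b001b45)],
  [(nat_lit 2), (nat_lit 0xe74c520000363)],
  [(nat_lit 2), (nat_lit 0xf3441300013d3)],
  [(nat_lit 2), (nat_lit 0xeb464f900105d)],
  [(nat_lit 2), (nat_lit 0xf246d3c000207)],
  [(nat_lit 2), (nat_lit 0x10948d06001719)],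
  [(nat_lit 2), (nat_lit 0xf74ace9000c77)],
  [(nat_lit 2), (nat_lit 0x101445320020fd)],
  [(nat_lit 2), (nat_lit 0xef46d3f0016bf)],
  [(nat_lit 2), (nat_lit 0xf749508001931)],
  [(nat_lit 2), (nat_lit 0xff4c9130003e3)],
  [(nat_lit 2), (nat_lit 0xf449d090007f9)],
  [(nat_lit 2), (nat_lit 0xe94190200148f)],
  [(nat_lit 2), (nat_lit 0xe949cf500125d)],
  [(nat_lit 2), (nat_lit 0xe543140000945)],
  [(nat_lit 2), (nat_lit 0x431060016cf)],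
  [(nat_lit 2), (nat_lit 0xe550125000ab9)],
  [(nat_lit 2), (nat_lit 0xf93f11d000cb7)],
  [(nat_lit 2), (nat_lit 0xf23d13a001229)],
  [(nat_lit 2), (nat_lit 0xe54bd210011d9)],
  [(nat_lit 2), (nat_lit 0xe345932000ca5)],
  [(nat_lit 2), (nat_lit 0xe93c934000d5d)],
  [(nat_lit 2), (nat_lit 0xef3e5360016d9)],
  [(nat_lit 2), (nat_lit 0xe94192a000af5)],
  [(nat_lit 2), (nat_lit 0xe7458f100148b)],
  [(nat_lit 2), (nat_lit 0x1034553e001063)],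
  [(nat_lit 2), (nat_lit 0x3c4ef001cf9)],
  [(nat_lit 2), (nat_lit 0xff3c931002125)],
  [(nat_lit 2), (nat_lit 0xe34ed2f000811)],
  [(nat_lit 2), (nat_lit 0xec4d9220010c3)],
  [(nat_lit 2), (nat_lit 0x11e4e92400104d)],
  [(nat_lit 2), (nat_lit 0x4f8f5000b83)],
  [(nat_lit 2), (nat_lit 0xfc4392500172d)],
  [(nat_lit 2), (nat_lit 0xe346510001371)],
  [(nat_lit 2), (nat_lit 0xf34f91d000ef9)],
  [(nat_lit 2), (nat_lit 0x4e50a000641)],
  [(nat_lit 2), (nat_lit 0xe93b9350018b9)],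
  [(nat_lit 2), (nat_lit 0xe33b50a0004f3)],
  [(nat_lit 2), (nat_lit 0xf24ed37000e33)],
  [(nat_lit 2), (nat_lit 0xec41d16001d75)],
  [(nat_lit 2), (nat_lit 0x3a503001cb9)],
  [(nat_lit 2), (nat_lit 0xe34c526000ab7)],
  [(nat_lit 2), (nat_lit 0xf33e4e9001039)],
  [(nat_lit 2), (nat_lit 0x10142d20000ff7)],
  [(nat_lit 2), (nat_lit 0x470fd0018e5)],
  [(nat_lit 2), (nat_lit 0x3fd1f0019e1)],
  [(nat_lit 2), (nat_lit 0xf73cd100010bd)],
  [(nat_lit 2), (nat_lit 0xee4d12b000587)],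
  [(nat_lit 2), (nat_lit 0xee454f9000735)],
  [(nat_lit 2), (nat_lit 0xe54493600153d)],
  [(nat_lit 2), (nat_lit 0xe3500ed0011f1)],
  [(nat_lit 2), (nat_lit 0xeb464f6000ec3)],
  [(nat_lit 2), (nat_lit 0xeb3d512000f89)],
  [(nat_lit 2), (nat_lit 0xe54e931001283)],
  [(nat_lit 2), (nat_lit 0xe74152e002075)],
  [(nat_lit 2), (nat_lit 0xe549cfb0012b7)],
  [(nat_lit 2), (nat_lit 0xe7480f4000b61)],
  [(nat_lit 2), (nat_lit 0xf74bd2d0009ab)],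
  [(nat_lit 2), (nat_lit 0xf442129000af9)],
  [(nat_lit 2), (nat_lit 0xe348129001291)],
  [(nat_lit 2), (nat_lit 0xec4492d000537)],
  [(nat_lit 2), (nat_lit 0xeb441060006e5)],
  [(nat_lit 2), (nat_lit 0x47d3d0002e7)],
  [(nat_lit 2), (nat_lit 0x39d2100102b)],
  [(nat_lit 2), (nat_lit 0x3b914002181)],
  [(nat_lit 2), (nat_lit 0xe94cce9001623)],
  [(nat_lit 2), (nat_lit 0xe34b93f000e99)],
  [(nat_lit 2), (nat_lit 0xf33cd18000507)],
  [(nat_lit 2), (nat_lit 0xec3f1230019f5)],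
  [(nat_lit 2), (nat_lit 0x11400101d)],
  [(nat_lit 2), (nat_lit 0xe946cfa001187)],
  [(nat_lit 2), (nat_lit 0xe94412f0004ef)],
  [(nat_lit 2), (nat_lit 0x10945d10001bad)],
  [(nat_lit 2), (nat_lit 0xec469360005e3)],
  [(nat_lit 2), (nat_lit 0xe74511d00064d)],
  [(nat_lit 2), (nat_lit 0xe54ccf3001049)],
  [(nat_lit 2), (nat_lit 0xe74751c001059)],
  [(nat_lit 2), (nat_lit 0xef500fa000553)],
  [(nat_lit 2), (nat_lit 0x450fa002185)],
  [(nat_lit 2), (nat_lit 0xe5474ec0020cd)],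
  [(nat_lit 2), (nat_lit 0xe53ad2f000805)],
  [(nat_lit 2), (nat_lit 0xf64f122000af3)],
  [(nat_lit 2), (nat_lit 0xe347d2d002159)],
  [(nat_lit 2), (nat_lit 0xe339d3b000327)],
  [(nat_lit 2), (nat_lit 0x114001031)],
  [(nat_lit 2), (nat_lit 0xee4ed2e001041)],
  [(nat_lit 2), (nat_lit 0xef4851b00033f)],
  [(nat_lit 2), (nat_lit 0xef4f12400094d)],
  [(nat_lit 2), (nat_lit 0xe9454fb000bdb)],
  [(nat_lit 2), (nat_lit 0x105449330011c5)],
  [(nat_lit 2), (nat_lit 0x394ef000a75)],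
  [(nat_lit 2), (nat_lit 0xed47d03000ebf)],
  [(nat_lit 2), (nat_lit 0xe94651c000c2b)],
  [(nat_lit 2), (nat_lit 0xe54c522000fbf)],
  [(nat_lit 2), (nat_lit 0xe7415300016eb)],
  [(nat_lit 2), (nat_lit 0xe53dd06001f81)],
  [(nat_lit 2), (nat_lit 0xe34d52200079b)],
  [(nat_lit 2), (nat_lit 0x47901000577)],
  [(nat_lit 2), (nat_lit 0xeb49117001445)],
  [(nat_lit 2), (nat_lit 0xe53ad1f000ff9)],
  [(nat_lit 2), (nat_lit 0xe547d2900040f)],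
  [(nat_lit 2), (nat_lit 0xec4d13f0011cd)],
  [(nat_lit 2), (nat_lit 0x10e3d92c002139)],
  [(nat_lit 2), (nat_lit 0x1084193f000ad9)],
  [(nat_lit 2), (nat_lit 0xe546905000ad3)],
  [(nat_lit 2), (nat_lit 0xf350102000df3)],
  [(nat_lit 2), (nat_lit 0x39d26000f5f)],
  [(nat_lit 2), (nat_lit 0xe743d23000c5d)],
  [(nat_lit 2), (nat_lit 0xe33bcfa000831)],
  [(nat_lit 2), (nat_lit 0xe74ad1b000cad)],
  [(nat_lit 2), (nat_lit 0xef4cd3c001219)],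
  [(nat_lit 2), (nat_lit 0xfc494f400062b)],
  [(nat_lit 2), (nat_lit 0xf94a13a0010d7)],
  [(nat_lit 2), (nat_lit 0xe34f128000cb5)],
  [(nat_lit 2), (nat_lit 0x10545d100005cf)],
  [(nat_lit 2), (nat_lit 0xf44b112000bd1)],
  [(nat_lit 2), (nat_lit 0x4e4f40011d5)],
  [(nat_lit 2), (nat_lit 0x49d000011f9)],
  [(nat_lit 2), (nat_lit 0xe546506000809)],
  [(nat_lit 2), (nat_lit 0xe33d92f0015f3)],
  [(nat_lit 2), (nat_lit 0x46112000941)],
  [(nat_lit 2), (nat_lit 0xe547d10000417)],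
  [(nat_lit 2), (nat_lit 0xeb4bd220014df)],
  [(nat_lit 2), (nat_lit 0xf24c1080010ff)],
  [(nat_lit 2), (nat_lit 0xf54a4fb001037)],
  [(nat_lit 2), (nat_lit 0xeb4613f000d27)],
  [(nat_lit 2), (nat_lit 0xeb42127000ded)],
  [(nat_lit 2), (nat_lit 0xe946538000799)],
  [(nat_lit 2), (nat_lit 0xeb4cd40001f69)],
  [(nat_lit 2), (nat_lit 0xef4a10f000fdd)],
  [(nat_lit 2), (nat_lit 0x4ecef000b39)],
  [(nat_lit 2), (nat_lit 0xed3d92d0001ef)],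
  [(nat_lit 2), (nat_lit 0x4dd1d0002b3)],
  [(nat_lit 2), (nat_lit 0xe9498ec00027f)],
  [(nat_lit 2), (nat_lit 0xe744d15000791)],
  [(nat_lit 2), (nat_lit 0xf948106001fb1)],
  [(nat_lit 2), (nat_lit 0xf64512f000c33)],
  [(nat_lit 2), (nat_lit 0xfc4cd38000c0d)],
  [(nat_lit 2), (nat_lit 0xee47139000719)],
  [(nat_lit 2), (nat_lit 0x445200006b7)],
  [(nat_lit 2), (nat_lit 0xee43d33000c15)],
  [(nat_lit 2), (nat_lit 0xef4f92200164b)],
  [(nat_lit 2), (nat_lit 0xe94bd19002049)],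
  [(nat_lit 2), (nat_lit 0xeb470f1000ab1)],
  [(nat_lit 2), (nat_lit 0xfe45d12001925)],
  [(nat_lit 2), (nat_lit 0xec4d51b00098f)],
  [(nat_lit 2), (nat_lit 0xf14c1130009ad)],
  [(nat_lit 2), (nat_lit 0xf5409220003cb)],
  [(nat_lit 2), (nat_lit 0x49130001109)],
  [(nat_lit 2), (nat_lit 0xe54ed1a0007e5)],
  [(nat_lit 2), (nat_lit 0xeb3f109001995)],
  [(nat_lit 2), (nat_lit 0x10a41d22000487)],
  [(nat_lit 2), (nat_lit 0xe94fcee000e2f)],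
  [(nat_lit 2), (nat_lit 0xfa46129000f7b)],
  [(nat_lit 2), (nat_lit 0x1023fd32000b3b)],
  [(nat_lit 2), (nat_lit 0x1054c1210012e1)],
  [(nat_lit 2), (nat_lit 0xeb4153a000a79)],
  [(nat_lit 2), (nat_lit 0xf247d03000973)],
  [(nat_lit 2), (nat_lit 0x105409390004c7)],
  [(nat_lit 2), (nat_lit 0xee4a532000f09)],
  [(nat_lit 2), (nat_lit 0xe34c51f0013c1)],
  [(nat_lit 2), (nat_lit 0xf741d0b000c1b)],
  [(nat_lit 2), (nat_lit 0xe94f12f00049f)],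
  [(nat_lit 2), (nat_lit 0xe93e129000955)],
  [(nat_lit 2), (nat_lit 0xe5405170015f7)],
  [(nat_lit 2), (nat_lit 0xf33f532001619)],
  [(nat_lit 2), (nat_lit 0x10c40920000873)],
  [(nat_lit 2), (nat_lit 0xe33c92a0004cb)],
  [(nat_lit 2), (nat_lit 0xe54fd15000203)],
  [(nat_lit 2), (nat_lit 0x43cef001643)],
  [(nat_lit 2), (nat_lit 0x10849d3f001547)],
  [(nat_lit 2), (nat_lit 0xfd46d320014f5)],
  [(nat_lit 2), (nat_lit 0x1084a1160020d5)],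
  [(nat_lit 2), (nat_lit 0x3a51600038f)],
  [(nat_lit 2), (nat_lit 0xfc4292a00095b)],
  [(nat_lit 2), (nat_lit 0xf147100001273)],
  [(nat_lit 2), (nat_lit 0xee47136001709)],
  [(nat_lit 2), (nat_lit 0x4413c000c5b)],
  [(nat_lit 2), (nat_lit 0x1004d8f30018b1)],
  [(nat_lit 2), (nat_lit 0xf4429220003df)],
  [(nat_lit 2), (nat_lit 0xe54cd28000443)],
  [(nat_lit 2), (nat_lit 0x3b4fc0019d5)],
  [(nat_lit 2), (nat_lit 0xe947cef0015b9)],
  [(nat_lit 2), (nat_lit 0x498ff0014ed)],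
  [(nat_lit 2), (nat_lit 0xe34591c000f21)],
  [(nat_lit 2), (nat_lit 0xe9474f3000cb1)],
  [(nat_lit 2), (nat_lit 0xe339cef001949)],
  [(nat_lit 2), (nat_lit 0xe54652c0004fb)],
  [(nat_lit 2), (nat_lit 0xfc40931001659)],
  [(nat_lit 2), (nat_lit 0xfc4fd07000bab)]]
noncomputable def R22 : List (List ℕ) :=
  [[(nat_lit 2), (nat_lit 0x3d52e0013cf)],
  [(nat_lit 2), (nat_lit 0xef4d529000e9d)],
  [(nat_lit 2), (nat_lit 0xf34f910001cc5)],
  [(nat_lit 2), (nat_lit 0x4cd1c0005a3)],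
  [(nat_lit 2), (nat_lit 0xeb42939000c7b)],
  [(nat_lit 2), (nat_lit 0xfb485170008e1)],
  [(nat_lit 2), (nat_lit 0x1124c924000d5b)],
  [(nat_lit 2), (nat_lit 0x4492100167d)],
  [(nat_lit 2), (nat_lit 0xed47d080014bf)],
  [(nat_lit 2), (nat_lit 0xec43d29001d4d)],
  [(nat_lit 2), (nat_lit 0xe747501001003)],
  [(nat_lit 2), (nat_lit 0xe74a92000056f)],
  [(nat_lit 2), (nat_lit 0xeb47cf6000be9)],
  [(nat_lit 2), (nat_lit 0x3bd2b000aa3)],
  [(nat_lit 2), (nat_lit 0xef40d3c000ec9)],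
  [(nat_lit 2), (nat_lit 0xf443124000f07)],
  [(nat_lit 2), (nat_lit 0x1084691f00142b)],
  [(nat_lit 2), (nat_lit 0x3e9220005df)],
  [(nat_lit 2), (nat_lit 0xe347d130014b1)],
  [(nat_lit 2), (nat_lit 0xe545d2d001061)],
  [(nat_lit 2), (nat_lit 0xfb0012e7)],
  [(nat_lit 2), (nat_lit 0xe94090b002109)],
  [(nat_lit 2), (nat_lit 0x3e915001105)],
  [(nat_lit 2), (nat_lit 0xeb4d12b001c99)],
  [(nat_lit 2), (nat_lit 0xe74c12b000e1b)],
  [(nat_lit 2), (nat_lit 0xf246d0600084b)],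
  [(nat_lit 2), (nat_lit 0xe94fd0300141b)],
  [(nat_lit 2), (nat_lit 0xf44e501000af1)],
  [(nat_lit 2), (nat_lit 0xe53dd06001f71)],
  [(nat_lit 2), (nat_lit 0xe543535000b4f)],
  [(nat_lit 2), (nat_lit 0x106420ff00152d)],
  [(nat_lit 2), (nat_lit 0x498eb000717)],
  [(nat_lit 2), (nat_lit 0xe343d35000925)],
  [(nat_lit 2), (nat_lit 0xe34d506001b5d)],
  [(nat_lit 2), (nat_lit 0x3e12c0007e9)],
  [(nat_lit 2), (nat_lit 0x4c10e001231)],
  [(nat_lit 2), (nat_lit 0xfa4053c001691)],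
  [(nat_lit 2), (nat_lit 0x11246d0800081b)],
  [(nat_lit 2), (nat_lit 0x4c92c001201)],
  [(nat_lit 2), (nat_lit 0xf44c92f000da1)],
  [(nat_lit 2), (nat_lit 0xfa4ed1a0014d7)],
  [(nat_lit 2), (nat_lit 0xe539d20000abf)],
  [(nat_lit 2), (nat_lit 0xf2001f65)],
  [(nat_lit 2), (nat_lit 0x12a4e902000965)],
  [(nat_lit 2), (nat_lit 0xeb4f8f6001fc5)],
  [(nat_lit 2), (nat_lit 0x4a135000fad)],
  [(nat_lit 2), (nat_lit 0xe747921001b19)],
  [(nat_lit 2), (nat_lit 0xf43f12b000fed)],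
  [(nat_lit 2), (nat_lit 0xeb4b13c0007dd)],
  [(nat_lit 2), (nat_lit 0xf64c536000fb9)],
  [(nat_lit 2), (nat_lit 0xf23e9240009df)],
  [(nat_lit 2), (nat_lit 0xe54894000156b)],
  [(nat_lit 2), (nat_lit 0x45d29000909)],
  [(nat_lit 2), (nat_lit 0xe74a51b000f0d)],
  [(nat_lit 2), (nat_lit 0xee001c21)],
  [(nat_lit 2), (nat_lit 0xf747933001739)],
  [(nat_lit 2), (nat_lit 0xec4c5070006c9)],
  [(nat_lit 2), (nat_lit 0xe54ad1d000197)],
  [(nat_lit 2), (nat_lit 0xe54b118001f79)],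
  [(nat_lit 2), (nat_lit 0xe9500eb0009a3)],
  [(nat_lit 2), (nat_lit 0x4750a001905)],
  [(nat_lit 2), (nat_lit 0xf23e93b000a9d)],
  [(nat_lit 2), (nat_lit 0x3a4f100088d)],
  [(nat_lit 2), (nat_lit 0xe34e4f9000ef5)],
  [(nat_lit 2), (nat_lit 0xfb4191c000f49)],
  [(nat_lit 2), (nat_lit 0xec4313e0006ed)],
  [(nat_lit 2), (nat_lit 0x394ec001035)],
  [(nat_lit 2), (nat_lit 0xeb48114001525)],
  [(nat_lit 2), (nat_lit 0xe5419180020e9)],
  [(nat_lit 2), (nat_lit 0xe744d30000823)],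
  [(nat_lit 2), (nat_lit 0xef47505000995)],
  [(nat_lit 2), (nat_lit 0xef49130000a71)],
  [(nat_lit 2), (nat_lit 0xeb4a527000a83)],
  [(nat_lit 2), (nat_lit 0xe34d902000e2d)],
  [(nat_lit 2), (nat_lit 0xf149122001055)],
  [(nat_lit 2), (nat_lit 0xe5430f300084d)],
  [(nat_lit 2), (nat_lit 0xf93d936000a6b)],
  [(nat_lit 2), (nat_lit 0xef3d51b000ae5)],
  [(nat_lit 2), (nat_lit 0xe9420eb002059)],
  [(nat_lit 2), (nat_lit 0x458ff00131f)],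
  [(nat_lit 2), (nat_lit 0x4e91b001991)],
  [(nat_lit 2), (nat_lit 0xee4251b00092d)],
  [(nat_lit 2), (nat_lit 0xe34613d000887)],
  [(nat_lit 2), (nat_lit 0xed4a10e000697)],
  [(nat_lit 2), (nat_lit 0xe73bd240011fd)],
  [(nat_lit 2), (nat_lit 0xed4d93b000bd3)],
  [(nat_lit 2), (nat_lit 0x10c404ee001471)],
  [(nat_lit 2), (nat_lit 0xfe4ed10001585)],
  [(nat_lit 2), (nat_lit 0x4193a000a21)],
  [(nat_lit 2), (nat_lit 0x12a3bd06000c2d)],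
  [(nat_lit 2), (nat_lit 0xe343d3000027b)],
  [(nat_lit 2), (nat_lit 0x10048911000dd5)],
  [(nat_lit 2), (nat_lit 0xf1421350007a1)],
  [(nat_lit 2), (nat_lit 0xe5435060011c9)],
  [(nat_lit 2), (nat_lit 0xeb4192a000ac9)],
  [(nat_lit 2), (nat_lit 0x4a527001b75)],
  [(nat_lit 2), (nat_lit 0xe34312400126d)],
  [(nat_lit 2), (nat_lit 0x39d29000ca3)],
  [(nat_lit 2), (nat_lit 0xe74751c0007d9)],
  [(nat_lit 2), (nat_lit 0xfb45d3500218d)],
  [(nat_lit 2), (nat_lit 0xec4493d001139)],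
  [(nat_lit 2), (nat_lit 0xe547931000859)],
  [(nat_lit 2), (nat_lit 0x46cfd000d83)],
  [(nat_lit 2), (nat_lit 0xe74e9160011dd)],
  [(nat_lit 2), (nat_lit 0xf34410e00065d)],
  [(nat_lit 2), (nat_lit 0xec4913f001cbd)],
  [(nat_lit 2), (nat_lit 0x3d1220011af)],
  [(nat_lit 2), (nat_lit 0xf23d1350004ff)],
  [(nat_lit 2), (nat_lit 0xe34d4fd0006dd)],
  [(nat_lit 2), (nat_lit 0xf1498f6001537)],
  [(nat_lit 2), (nat_lit 0xe549ce9001589)],
  [(nat_lit 2), (nat_lit 0x4613400078f)],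
  [(nat_lit 2), (nat_lit 0xf54213200211d)],
  [(nat_lit 2), (nat_lit 0xff49d36000903)],
  [(nat_lit 2), (nat_lit 0xe94cd35000ca1)],
  [(nat_lit 2), (nat_lit 0xf94dd23000659)],
  [(nat_lit 2), (nat_lit 0xf7451190006c1)],
  [(nat_lit 2), (nat_lit 0x3951e0010d3)],
  [(nat_lit 2), (nat_lit 0xef4a4ef000d3b)],
  [(nat_lit 2), (nat_lit 0xe34c517001407)],
  [(nat_lit 2), (nat_lit 0x4d108001c2d)],
  [(nat_lit 2), (nat_lit 0xf346126001d65)],
  [(nat_lit 2), (nat_lit 0x116420f9000eaf)],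
  [(nat_lit 2), (nat_lit 0xf345cfa000f35)],
  [(nat_lit 2), (nat_lit 0xf24391e000b75)],
  [(nat_lit 2), (nat_lit 0xf84212f0015cb)],
  [(nat_lit 2), (nat_lit 0xe344513000675)],
  [(nat_lit 2), (nat_lit 0xeb41d0b00205d)],
  [(nat_lit 2), (nat_lit 0xed4d4fe000cd1)],
  [(nat_lit 2), (nat_lit 0x10e4a8eb000c89)],
  [(nat_lit 2), (nat_lit 0xf54693b0010bf)],
  [(nat_lit 2), (nat_lit 0xef4b5350018cd)],
  [(nat_lit 2), (nat_lit 0xf13ed39000b77)],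
  [(nat_lit 2), (nat_lit 0xf546cf40013e1)],
  [(nat_lit 2), (nat_lit 0xfb3a53a000a31)],
  [(nat_lit 2), (nat_lit 0x10047d060008b3)],
  [(nat_lit 2), (nat_lit 0xed4293a000679)],
  [(nat_lit 2), (nat_lit 0xf44e51b000911)],
  [(nat_lit 2), (nat_lit 0xed479310009a1)],
  [(nat_lit 2), (nat_lit 0xe3448fa000785)],
  [(nat_lit 2), (nat_lit 0xe33953f001c15)],
  [(nat_lit 2), (nat_lit 0xed44121001097)],
  [(nat_lit 2), (nat_lit 0xe94d928001f89)],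
  [(nat_lit 2), (nat_lit 0xef3cd2c000c79)],
  [(nat_lit 2), (nat_lit 0xe74750b00060b)],
  [(nat_lit 2), (nat_lit 0xf243d0800085f)],
  [(nat_lit 2), (nat_lit 0xf34052b000a69)],
  [(nat_lit 2), (nat_lit 0xf93f12a000731)],
  [(nat_lit 2), (nat_lit 0xe54dd34000de9)],
  [(nat_lit 2), (nat_lit 0xe54351100110d)],
  [(nat_lit 2), (nat_lit 0xe54993c001b21)],
  [(nat_lit 2), (nat_lit 0xec4cd05000cd9)],
  [(nat_lit 2), (nat_lit 0xe55011c00113b)],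
  [(nat_lit 2), (nat_lit 0x4490300155b)],
  [(nat_lit 2), (nat_lit 0xed471050018f1)],
  [(nat_lit 2), (nat_lit 0xeb41d2b000953)],
  [(nat_lit 2), (nat_lit 0xe54c0fe001073)],
  [(nat_lit 2), (nat_lit 0xe74ed4000092f)],
  [(nat_lit 2), (nat_lit 0xe54b8f1000fcb)],
  [(nat_lit 2), (nat_lit 0xeb4a11300135b)],
  [(nat_lit 2), (nat_lit 0xe34852f0007fb)],
  [(nat_lit 2), (nat_lit 0xed4591c000d67)],
  [(nat_lit 2), (nat_lit 0xeb4a4e700088b)],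
  [(nat_lit 2), (nat_lit 0xfb4153a000841)],
  [(nat_lit 2), (nat_lit 0xee43514000bb9)],
  [(nat_lit 2), (nat_lit 0x3ed3e001541)],
  [(nat_lit 2), (nat_lit 0xeb4793a000ab5)],
  [(nat_lit 2), (nat_lit 0xe9444e9000b51)],
  [(nat_lit 2), (nat_lit 0x4d90d001019)],
  [(nat_lit 2), (nat_lit 0x4a4f500140b)],
  [(nat_lit 2), (nat_lit 0xe342cf400087d)],
  [(nat_lit 2), (nat_lit 0x3e53f000a3f)],
  [(nat_lit 2), (nat_lit 0xec4850e00132f)],
  [(nat_lit 2), (nat_lit 0x3b0f1001299)],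
  [(nat_lit 2), (nat_lit 0x4d8ef00153b)],
  [(nat_lit 2), (nat_lit 0x46d2e001191)],
  [(nat_lit 2), (nat_lit 0x470ee000447)],
  [(nat_lit 2), (nat_lit 0x10a500f10015c7)],
  [(nat_lit 2), (nat_lit 0xef400fb000ffb)],
  [(nat_lit 2), (nat_lit 0x39d33000ea3)],
  [(nat_lit 2), (nat_lit 0xed44130000fab)],
  [(nat_lit 2), (nat_lit 0xe9445400013d1)],
  [(nat_lit 2), (nat_lit 0xe33d123000c95)],
  [(nat_lit 2), (nat_lit 0xec4d525000cf3)],
  [(nat_lit 2), (nat_lit 0xec45d07000dc1)],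
  [(nat_lit 2), (nat_lit 0xef4bcfb0008cf)],
  [(nat_lit 2), (nat_lit 0x48d130003fb)],
  [(nat_lit 2), (nat_lit 0xe94b9320021cd)],
  [(nat_lit 2), (nat_lit 0xe93d1400013bb)],
  [(nat_lit 2), (nat_lit 0xe53c53b001575)],
  [(nat_lit 2), (nat_lit 0xec4c9200014f7)],
  [(nat_lit 2), (nat_lit 0xe547d1f000bfd)],
  [(nat_lit 2), (nat_lit 0xf14c0ec002121)],
  [(nat_lit 2), (nat_lit 0x46d3f00067d)],
  [(nat_lit 2), (nat_lit 0xf647123000d81)],
  [(nat_lit 2), (nat_lit 0x4750a000fd9)],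
  [(nat_lit 2), (nat_lit 0xe75011f001f51)],
  [(nat_lit 2), (nat_lit 0x3e113001791)],
  [(nat_lit 2), (nat_lit 0x10c41d35000a77)],
  [(nat_lit 2), (nat_lit 0xf846d06001a71)],
  [(nat_lit 2), (nat_lit 0x1024750d0013d5)],
  [(nat_lit 2), (nat_lit 0x11047523002131)],
  [(nat_lit 2), (nat_lit 0x4892e001217)],
  [(nat_lit 2), (nat_lit 0x38ced0018bd)],
  [(nat_lit 2), (nat_lit 0xed40d220008b1)],
  [(nat_lit 2), (nat_lit 0x3ad210008a5)],
  [(nat_lit 2), (nat_lit 0xe94b510000711)],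
  [(nat_lit 2), (nat_lit 0x38cf2001f75)],
  [(nat_lit 2), (nat_lit 0x4e529000e93)],
  [(nat_lit 2), (nat_lit 0x40906000d6d)],
  [(nat_lit 2), (nat_lit 0xe545d250010a1)],
  [(nat_lit 2), (nat_lit 0xed3f10b0013dd)],
  [(nat_lit 2), (nat_lit 0xeb4590e0011d1)],
  [(nat_lit 2), (nat_lit 0xef431290009b1)],
  [(nat_lit 2), (nat_lit 0xec3d929001d09)],
  [(nat_lit 2), (nat_lit 0xeb4cd37000715)],
  [(nat_lit 2), (nat_lit 0xe9448ed0021a1)],
  [(nat_lit 2), (nat_lit 0x1034d5080013bf)],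
  [(nat_lit 2), (nat_lit 0x10141d34001f59)],
  [(nat_lit 2), (nat_lit 0xe948927000f1f)],
  [(nat_lit 2), (nat_lit 0x45d35000a49)],
  [(nat_lit 2), (nat_lit 0xed418f50010df)],
  [(nat_lit 2), (nat_lit 0xe548d3500031f)],
  [(nat_lit 2), (nat_lit 0xf446cf90011e5)],
  [(nat_lit 2), (nat_lit 0xe34f93b000b69)],
  [(nat_lit 2), (nat_lit 0xef4bd39000ff3)],
  [(nat_lit 2), (nat_lit 0xef46129000b87)],
  [(nat_lit 2), (nat_lit 0xe93dd20002199)],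
  [(nat_lit 2), (nat_lit 0xe54f91e000a57)],
  [(nat_lit 2), (nat_lit 0x4251700071d)],
  [(nat_lit 2), (nat_lit 0x3950c001965)],
  [(nat_lit 2), (nat_lit 0x4ad12001767)],
  [(nat_lit 2), (nat_lit 0xe9401270008bf)],
  [(nat_lit 2), (nat_lit 0xe33cd38000b99)],
  [(nat_lit 2), (nat_lit 0xe743d31001b4d)],
  [(nat_lit 2), (nat_lit 0xeb40940000eab)],
  [(nat_lit 2), (nat_lit 0xe9458fe000d2b)],
  [(nat_lit 2), (nat_lit 0x1003ed1e0006e1)],
  [(nat_lit 2), (nat_lit 0x10e4acf2000a33)],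
  [(nat_lit 2), (nat_lit 0xe34d501001309)],
  [(nat_lit 2), (nat_lit 0xe7474fd001f99)],
  [(nat_lit 2), (nat_lit 0xe9494f200134b)],
  [(nat_lit 2), (nat_lit 0xe54150f001141)],
  [(nat_lit 2), (nat_lit 0xf83f129000433)],
  [(nat_lit 2), (nat_lit 0xf5408fc001b39)],
  [(nat_lit 2), (nat_lit 0xe33a539001b85)],
  [(nat_lit 2), (nat_lit 0xef4a4fb001477)],
  [(nat_lit 2), (nat_lit 0xec4552900149f)],
  [(nat_lit 2), (nat_lit 0x1023fd13000253)],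
  [(nat_lit 2), (nat_lit 0xf74892d001cd9)],
  [(nat_lit 2), (nat_lit 0xfa4911f000c09)],
  [(nat_lit 2), (nat_lit 0xeb001979)],
  [(nat_lit 2), (nat_lit 0xed43d20000cbf)],
  [(nat_lit 2), (nat_lit 0xe34c91b0007e1)],
  [(nat_lit 2), (nat_lit 0xe53c513001793)],
  [(nat_lit 2), (nat_lit 0xe34d4ef0020c1)],
  [(nat_lit 2), (nat_lit 0x4e93f0014fb)],
  [(nat_lit 2), (nat_lit 0xeb4a8fd001be9)],
  [(nat_lit 2), (nat_lit 0xef4f1150006fb)],
  [(nat_lit 2), (nat_lit 0xfb41d140012f9)],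
  [(nat_lit 2), (nat_lit 0xec4893c0001e3)],
  [(nat_lit 2), (nat_lit 0xee42940000f9d)],
  [(nat_lit 2), (nat_lit 0xeb478f7001373)],
  [(nat_lit 2), (nat_lit 0xe94492e0015bd)],
  [(nat_lit 2), (nat_lit 0xf23f0f1001bf1)],
  [(nat_lit 2), (nat_lit 0x1024c121000ba9)],
  [(nat_lit 2), (nat_lit 0xe74f0f40008fb)],
  [(nat_lit 2), (nat_lit 0xee3ed1e0007c9)],
  [(nat_lit 2), (nat_lit 0xee499220004b3)],
  [(nat_lit 2), (nat_lit 0xec4152f000cff)],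
  [(nat_lit 2), (nat_lit 0xe53ad08000e69)],
  [(nat_lit 2), (nat_lit 0xeb3e1200007ff)],
  [(nat_lit 2), (nat_lit 0xe94850a0011d3)],
  [(nat_lit 2), (nat_lit 0xe9499030003db)],
  [(nat_lit 2), (nat_lit 0x3d8f40003a3)],
  [(nat_lit 2), (nat_lit 0x4c133000a2f)],
  [(nat_lit 2), (nat_lit 0x38d080019fd)],
  [(nat_lit 2), (nat_lit 0xeb4f9280012d3)],
  [(nat_lit 2), (nat_lit 0xec4a532001fb9)],
  [(nat_lit 2), (nat_lit 0xe7484fe000801)],
  [(nat_lit 2), (nat_lit 0xf346d1b000cf5)],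
  [(nat_lit 2), (nat_lit 0xf1440f4000dbf)],
  [(nat_lit 2), (nat_lit 0x3dd090018c1)],
  [(nat_lit 2), (nat_lit 0xef470f50010e3)],
  [(nat_lit 2), (nat_lit 0x3b4fe000d4f)],
  [(nat_lit 2), (nat_lit 0xe346523000c07)],
  [(nat_lit 2), (nat_lit 0xff40d1b0002df)],
  [(nat_lit 2), (nat_lit 0xfa3d510000c3d)],
  [(nat_lit 2), (nat_lit 0xe34a5140006d7)],
  [(nat_lit 2), (nat_lit 0xe7490fc000897)],
  [(nat_lit 2), (nat_lit 0xf83d111000af7)],
  [(nat_lit 2), (nat_lit 0xff3d928001195)],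
  [(nat_lit 2), (nat_lit 0xeb49d18000e29)],
  [(nat_lit 2), (nat_lit 0xfd4a13500150f)],
  [(nat_lit 2), (nat_lit 0xe7480fc000851)],
  [(nat_lit 2), (nat_lit 0xeb4791c001199)],
  [(nat_lit 2), (nat_lit 0xed49540001f55)],
  [(nat_lit 2), (nat_lit 0x10e41d39000a0f)],
  [(nat_lit 2), (nat_lit 0xf64210500138f)],
  [(nat_lit 2), (nat_lit 0xe73bd21001489)],
  [(nat_lit 2), (nat_lit 0xe73ed1400111f)],
  [(nat_lit 2), (nat_lit 0xfc418fb0017e1)],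
  [(nat_lit 2), (nat_lit 0xe94e1210008eb)],
  [(nat_lit 2), (nat_lit 0x4a91100152f)],
  [(nat_lit 2), (nat_lit 0x10e46d36000413)],
  [(nat_lit 2), (nat_lit 0xe546d2c000da7)],
  [(nat_lit 2), (nat_lit 0xec45500001959)],
  [(nat_lit 2), (nat_lit 0xe349cf90020e1)],
  [(nat_lit 2), (nat_lit 0x418f700200d)],
  [(nat_lit 2), (nat_lit 0xef49506001205)],
  [(nat_lit 2), (nat_lit 0xec4cd3d00032b)],
  [(nat_lit 2), (nat_lit 0xeb4a4eb000fc7)],
  [(nat_lit 2), (nat_lit 0x4412200138b)],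
  [(nat_lit 2), (nat_lit 0xed485010013cd)],
  [(nat_lit 2), (nat_lit 0x3c4ef001ff9)],
  [(nat_lit 2), (nat_lit 0xe33c50a002001)],
  [(nat_lit 2), (nat_lit 0xf64d53700018f)],
  [(nat_lit 2), (nat_lit 0xe74e11f000233)],
  [(nat_lit 2), (nat_lit 0xeb3e513000abd)],
  [(nat_lit 2), (nat_lit 0x4b129000dcf)],
  [(nat_lit 2), (nat_lit 0x4552700165d)],
  [(nat_lit 2), (nat_lit 0xfa5010200063f)],
  [(nat_lit 2), (nat_lit 0xec4e4f6000ed5)],
  [(nat_lit 2), (nat_lit 0xeb48d06001f6d)],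
  [(nat_lit 2), (nat_lit 0xe546d2e0004cf)],
  [(nat_lit 2), (nat_lit 0xed43907001785)],
  [(nat_lit 2), (nat_lit 0xef4f12f000da9)],
  [(nat_lit 2), (nat_lit 0xe340108000aed)],
  [(nat_lit 2), (nat_lit 0xf54c9070012d1)],
  [(nat_lit 2), (nat_lit 0xec4d8ef0019cd)],
  [(nat_lit 2), (nat_lit 0xef49910000277)],
  [(nat_lit 2), (nat_lit 0x10144532000eb9)],
  [(nat_lit 2), (nat_lit 0x4d902000b27)],
  [(nat_lit 2), (nat_lit 0x10f4a51a000889)],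
  [(nat_lit 2), (nat_lit 0x3e53d000b59)],
  [(nat_lit 2), (nat_lit 0xf24911c001919)],
  [(nat_lit 2), (nat_lit 0xe3395350018fd)],
  [(nat_lit 2), (nat_lit 0xe54d528001403)],
  [(nat_lit 2), (nat_lit 0xe34f507001be1)],
  [(nat_lit 2), (nat_lit 0xf441d0f00108f)],
  [(nat_lit 2), (nat_lit 0xec41511001461)],
  [(nat_lit 2), (nat_lit 0xeb4f93e0006f1)],
  [(nat_lit 2), (nat_lit 0x130000237)],
  [(nat_lit 2), (nat_lit 0xe34c11b0006b9)],
  [(nat_lit 2), (nat_lit 0xe93b52e00147d)],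
  [(nat_lit 2), (nat_lit 0xfa4b1400006d1)],
  [(nat_lit 2), (nat_lit 0xe54d115001a21)],
  [(nat_lit 2), (nat_lit 0xe53c8fa0018f5)],
  [(nat_lit 2), (nat_lit 0xf546d3a000b01)],
  [(nat_lit 2), (nat_lit 0xec5010d000fcd)],
  [(nat_lit 2), (nat_lit 0xe940d3b0002fb)],
  [(nat_lit 2), (nat_lit 0xec43d26000dc7)],
  [(nat_lit 2), (nat_lit 0xf14993c000aef)],
  [(nat_lit 2), (nat_lit 0xe34c506002101)],
  [(nat_lit 2), (nat_lit 0xe94152a000aa5)],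
  [(nat_lit 2), (nat_lit 0x3a53e002045)],
  [(nat_lit 2), (nat_lit 0x470f90018c9)],
  [(nat_lit 2), (nat_lit 0x42536000563)],
  [(nat_lit 2), (nat_lit 0xe750103000fa5)],
  [(nat_lit 2), (nat_lit 0xff4a9370007d5)],
  [(nat_lit 2), (nat_lit 0xf23d11e000daf)],
  [(nat_lit 2), (nat_lit 0xf93b536000d85)],
  [(nat_lit 2), (nat_lit 0x48110000817)],
  [(nat_lit 2), (nat_lit 0x47ce9001225)],
  [(nat_lit 2), (nat_lit 0xe94191e000b5d)],
  [(nat_lit 2), (nat_lit 0xee4693f00039f)],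
  [(nat_lit 2), (nat_lit 0x41916001519)],
  [(nat_lit 2), (nat_lit 0xfc494f4001093)],
  [(nat_lit 2), (nat_lit 0x47d150010b5)],
  [(nat_lit 2), (nat_lit 0xe745936000e97)],
  [(nat_lit 2), (nat_lit 0xe94c107000fd3)],
  [(nat_lit 2), (nat_lit 0xee45920000ff5)],
  [(nat_lit 2), (nat_lit 0xe743cf400195d)],
  [(nat_lit 2), (nat_lit 0x4c10d00023b)],
  [(nat_lit 2), (nat_lit 0xf24c50e0004f7)],
  [(nat_lit 2), (nat_lit 0xee4b4e9001c49)],
  [(nat_lit 2), (nat_lit 0xef4a92f000975)],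
  [(nat_lit 2), (nat_lit 0x45109001b09)],
  [(nat_lit 2), (nat_lit 0xe339527000607)],
  [(nat_lit 2), (nat_lit 0x47d00001305)],
  [(nat_lit 2), (nat_lit 0xeb4713e00176f)],
  [(nat_lit 2), (nat_lit 0xf43f91b001681)],
  [(nat_lit 2), (nat_lit 0xf24f13d000ca7)],
  [(nat_lit 2), (nat_lit 0xe5465050014cd)],
  [(nat_lit 2), (nat_lit 0x4d12f000d19)],
  [(nat_lit 2), (nat_lit 0xe93f1310019a5)],
  [(nat_lit 2), (nat_lit 0xe349d180015b3)],
  [(nat_lit 2), (nat_lit 0xf44c52f0009fd)],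
  [(nat_lit 2), (nat_lit 0xe35011f000681)],
  [(nat_lit 2), (nat_lit 0xff46508000957)],
  [(nat_lit 2), (nat_lit 0x3fd2f000ca9)],
  [(nat_lit 2), (nat_lit 0xe34151f0016a1)],
  [(nat_lit 2), (nat_lit 0x102424f2000c6d)],
  [(nat_lit 2), (nat_lit 0x12140d08000573)],
  [(nat_lit 2), (nat_lit 0x1084393f001c11)],
  [(nat_lit 2), (nat_lit 0xe746d0e000bf9)],
  [(nat_lit 2), (nat_lit 0xf44f53c000e53)],
  [(nat_lit 2), (nat_lit 0xee48500000b17)],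
  [(nat_lit 2), (nat_lit 0xf84a516000aff)],
  [(nat_lit 2), (nat_lit 0xfc4bceb0008e3)]]
noncomputable def R23 : List (List ℕ) :=
  [[(nat_lit 2), (nat_lit 0x3f53e000853)],
  [(nat_lit 2), (nat_lit 0x1124fcf7000857)],
  [(nat_lit 2), (nat_lit 0xff5012d00077d)],
  [(nat_lit 2), (nat_lit 0x39cf400096d)],
  [(nat_lit 2), (nat_lit 0xe544d1a000b09)],
  [(nat_lit 2), (nat_lit 0xe94f126001c19)],
  [(nat_lit 2), (nat_lit 0xe9474f3000745)],
  [(nat_lit 2), (nat_lit 0xe93bd2d000bed)],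
  [(nat_lit 2), (nat_lit 0xe33a4ef00119b)],
  [(nat_lit 2), (nat_lit 0x4b11d0009bb)],
  [(nat_lit 2), (nat_lit 0xed3ed3d0011c1)],
  [(nat_lit 2), (nat_lit 0xfd4c8fa00077f)],
  [(nat_lit 2), (nat_lit 0xee4d507000e0d)],
  [(nat_lit 2), (nat_lit 0x1073d938000a8b)],
  [(nat_lit 2), (nat_lit 0xf7441330020e5)],
  [(nat_lit 2), (nat_lit 0xf44c51e0008c1)],
  [(nat_lit 2), (nat_lit 0xe53d12f000dcd)],
  [(nat_lit 2), (nat_lit 0xec4fcf60021a9)],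
  [(nat_lit 2), (nat_lit 0xe54612e000bb7)],
  [(nat_lit 2), (nat_lit 0xf44a1230003eb)],
  [(nat_lit 2), (nat_lit 0xe94751700037f)],
  [(nat_lit 2), (nat_lit 0xf64c5360020dd)],
  [(nat_lit 2), (nat_lit 0xe74d4ef001f91)],
  [(nat_lit 2), (nat_lit 0x10644d1900097f)],
  [(nat_lit 2), (nat_lit 0xe946cec00147b)],
  [(nat_lit 2), (nat_lit 0x45940001c61)],
  [(nat_lit 2), (nat_lit 0x1084d111000cd3)],
  [(nat_lit 2), (nat_lit 0x38ced002119)],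
  [(nat_lit 2), (nat_lit 0xe5439280020a9)],
  [(nat_lit 2), (nat_lit 0xe7400fb000b15)],
  [(nat_lit 2), (nat_lit 0xe54bd11001781)],
  [(nat_lit 2), (nat_lit 0x48503000bdd)],
  [(nat_lit 2), (nat_lit 0xef50114000639)],
  [(nat_lit 2), (nat_lit 0xe34e906001405)],
  [(nat_lit 2), (nat_lit 0x40114001295)],
  [(nat_lit 2), (nat_lit 0xf43e4fc0002f7)],
  [(nat_lit 2), (nat_lit 0x48919001029)],
  [(nat_lit 2), (nat_lit 0xe54fd01000d05)],
  [(nat_lit 2), (nat_lit 0xe7465390020bd)],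
  [(nat_lit 2), (nat_lit 0xe73ed2c0021b1)],
  [(nat_lit 2), (nat_lit 0xee4513d000da3)],
  [(nat_lit 2), (nat_lit 0xfa4a511001221)],
  [(nat_lit 2), (nat_lit 0xe94852400146b)],
  [(nat_lit 2), (nat_lit 0xf14c13b001025)],
  [(nat_lit 2), (nat_lit 0x4b8e7000f15)],
  [(nat_lit 2), (nat_lit 0x1073d927001685)],
  [(nat_lit 2), (nat_lit 0xec485130008b7)],
  [(nat_lit 2), (nat_lit 0x10247d270009f3)],
  [(nat_lit 2), (nat_lit 0xf84b93f000f11)],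
  [(nat_lit 2), (nat_lit 0xef4252900097d)],
  [(nat_lit 2), (nat_lit 0x38d12000e3f)],
  [(nat_lit 2), (nat_lit 0xe943517002135)],
  [(nat_lit 2), (nat_lit 0x4750a0020b9)],
  [(nat_lit 2), (nat_lit 0xe348927002029)],
  [(nat_lit 2), (nat_lit 0x10a4d13a000def)],
  [(nat_lit 2), (nat_lit 0xf2441280005e7)],
  [(nat_lit 2), (nat_lit 0xeb4cd3c001341)],
  [(nat_lit 2), (nat_lit 0x47d0e0009bf)],
  [(nat_lit 2), (nat_lit 0xe34a938000b05)],
  [(nat_lit 2), (nat_lit 0x4493b00198d)],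
  [(nat_lit 2), (nat_lit 0xf94f9400008b9)],
  [(nat_lit 2), (nat_lit 0xf74f92d000fe3)],
  [(nat_lit 2), (nat_lit 0xef4a5140018ed)],
  [(nat_lit 2), (nat_lit 0xed4c0ec001723)],
  [(nat_lit 2), (nat_lit 0xeb3ccf700137b)],
  [(nat_lit 2), (nat_lit 0xe74d12500073f)],
  [(nat_lit 2), (nat_lit 0x1154cd02000c85)],
  [(nat_lit 2), (nat_lit 0xef4bd29001c7d)],
  [(nat_lit 2), (nat_lit 0xf34f90300196d)],
  [(nat_lit 2), (nat_lit 0xf44552700138d)],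
  [(nat_lit 2), (nat_lit 0x1023d118001359)],
  [(nat_lit 2), (nat_lit 0x4c523000373)],
  [(nat_lit 2), (nat_lit 0xed45cfa0003c7)],
  [(nat_lit 2), (nat_lit 0xfc4991b000f91)],
  [(nat_lit 2), (nat_lit 0xe947121001583)],
  [(nat_lit 2), (nat_lit 0xe94b129000453)],
  [(nat_lit 2), (nat_lit 0xee4fd1d000e9f)],
  [(nat_lit 2), (nat_lit 0xef4512200171d)],
  [(nat_lit 2), (nat_lit 0xe345d39000de1)],
  [(nat_lit 2), (nat_lit 0xe33fd1b001db5)],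
  [(nat_lit 2), (nat_lit 0xed484f70014a7)],
  [(nat_lit 2), (nat_lit 0xe74f50d000f3d)],
  [(nat_lit 2), (nat_lit 0xe9414fc001f85)],
  [(nat_lit 2), (nat_lit 0xf34a513000c05)],
  [(nat_lit 2), (nat_lit 0xe34010f00116d)],
  [(nat_lit 2), (nat_lit 0xed470f6000ccd)],
  [(nat_lit 2), (nat_lit 0x3dd19001955)],
  [(nat_lit 2), (nat_lit 0x10d3f1090003b7)],
  [(nat_lit 2), (nat_lit 0xec4a903001ca5)],
  [(nat_lit 2), (nat_lit 0x4512300063d)],
  [(nat_lit 2), (nat_lit 0xe94d928002149)],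
  [(nat_lit 2), (nat_lit 0xf64dd18001227)],
  [(nat_lit 2), (nat_lit 0xed4ed2d001f5d)],
  [(nat_lit 2), (nat_lit 0xfa4692100072d)],
  [(nat_lit 2), (nat_lit 0x4051000057b)],
  [(nat_lit 2), (nat_lit 0xe34e9220002cb)],
  [(nat_lit 2), (nat_lit 0xe74e91000075b)],
  [(nat_lit 2), (nat_lit 0xed469130006b3)],
  [(nat_lit 2), (nat_lit 0x4d5320004e3)],
  [(nat_lit 2), (nat_lit 0xf343cfc001493)],
  [(nat_lit 2), (nat_lit 0xf241ce7000d79)],
  [(nat_lit 2), (nat_lit 0xeb41517000eb3)],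
  [(nat_lit 2), (nat_lit 0xee4990f000f05)],
  [(nat_lit 2), (nat_lit 0xf8425360009d3)],
  [(nat_lit 2), (nat_lit 0xe53e129000437)],
  [(nat_lit 2), (nat_lit 0xee41d0d000c2f)],
  [(nat_lit 2), (nat_lit 0xec49117000759)],
  [(nat_lit 2), (nat_lit 0xe53a514001bed)],
  [(nat_lit 2), (nat_lit 0x4bd3b001981)],
  [(nat_lit 2), (nat_lit 0xe94e51400203d)],
  [(nat_lit 2), (nat_lit 0xf44ecfd0019d1)],
  [(nat_lit 2), (nat_lit 0x4a914000c37)],
  [(nat_lit 2), (nat_lit 0x38cf1002009)],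
  [(nat_lit 2), (nat_lit 0xe74ecf7000ef1)],
  [(nat_lit 2), (nat_lit 0xf43bd2c001243)],
  [(nat_lit 2), (nat_lit 0xfc39d2b00084f)],
  [(nat_lit 2), (nat_lit 0xef4a91a000b89)],
  [(nat_lit 2), (nat_lit 0xf44c0fe001fbd)],
  [(nat_lit 2), (nat_lit 0xe53bd27001fc1)],
  [(nat_lit 2), (nat_lit 0x10148123000423)],
  [(nat_lit 2), (nat_lit 0xed4d90e000971)],
  [(nat_lit 2), (nat_lit 0xe5418f4000b2b)],
  [(nat_lit 2), (nat_lit 0xf35010f001699)],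
  [(nat_lit 2), (nat_lit 0xe54fd170010fd)],
  [(nat_lit 2), (nat_lit 0xf447d1a000c71)],
  [(nat_lit 2), (nat_lit 0xf93ed21000e4f)],
  [(nat_lit 2), (nat_lit 0x10a481320002ab)],
  [(nat_lit 2), (nat_lit 0xfb45d2f0011ad)],
  [(nat_lit 2), (nat_lit 0xe342135000e51)],
  [(nat_lit 2), (nat_lit 0xee409020004d3)],
  [(nat_lit 2), (nat_lit 0xe54992a000bef)],
  [(nat_lit 2), (nat_lit 0xe33a520001311)],
  [(nat_lit 2), (nat_lit 0x4290f001b51)],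
  [(nat_lit 2), (nat_lit 0xee4f12b00216d)],
  [(nat_lit 2), (nat_lit 0xe33c5000012bb)],
  [(nat_lit 2), (nat_lit 0xf2001f9d)],
  [(nat_lit 2), (nat_lit 0xeb4c4f8000e1d)],
  [(nat_lit 2), (nat_lit 0xe53ed07001c05)],
  [(nat_lit 2), (nat_lit 0x4192000052f)],
  [(nat_lit 2), (nat_lit 0xf64891c000d87)],
  [(nat_lit 2), (nat_lit 0xf541d3900080d)],
  [(nat_lit 2), (nat_lit 0xef4a0f4000937)],
  [(nat_lit 2), (nat_lit 0x48cfd00111d)],
  [(nat_lit 2), (nat_lit 0x10748509000c81)],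
  [(nat_lit 2), (nat_lit 0xe94c0f40013cb)],
  [(nat_lit 2), (nat_lit 0x49d13000f6d)],
  [(nat_lit 2), (nat_lit 0xf74ed1e0001d7)],
  [(nat_lit 2), (nat_lit 0x39d0b000d0f)],
  [(nat_lit 2), (nat_lit 0x45d1a000cdd)],
  [(nat_lit 2), (nat_lit 0xe74fcf40014e7)],
  [(nat_lit 2), (nat_lit 0xeb488ee000e71)],
  [(nat_lit 2), (nat_lit 0xf345102000705)],
  [(nat_lit 2), (nat_lit 0xf34410e001fa5)],
  [(nat_lit 2), (nat_lit 0xe34d10d0016af)],
  [(nat_lit 2), (nat_lit 0xf34cd2300091d)],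
  [(nat_lit 2), (nat_lit 0xf8421320002e3)],
  [(nat_lit 2), (nat_lit 0xe53c93f0016c9)],
  [(nat_lit 2), (nat_lit 0x4010f002145)],
  [(nat_lit 2), (nat_lit 0xeb448f1001395)],
  [(nat_lit 2), (nat_lit 0xe54d1080014bd)],
  [(nat_lit 2), (nat_lit 0xf843d31001c51)],
  [(nat_lit 2), (nat_lit 0xe74413d002061)],
  [(nat_lit 2), (nat_lit 0xeb4f912000be7)],
  [(nat_lit 2), (nat_lit 0xe940933001329)],
  [(nat_lit 2), (nat_lit 0xe548d34000fe9)],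
  [(nat_lit 2), (nat_lit 0x415330002ef)],
  [(nat_lit 2), (nat_lit 0xe34f91e0007c1)],
  [(nat_lit 2), (nat_lit 0xee4712a000a45)],
  [(nat_lit 2), (nat_lit 0x394ec000fe1)],
  [(nat_lit 2), (nat_lit 0xe54a90d000c99)],
  [(nat_lit 2), (nat_lit 0xee43d1700135d)],
  [(nat_lit 2), (nat_lit 0xe74053b000d41)],
  [(nat_lit 2), (nat_lit 0x4ed1f001483)],
  [(nat_lit 2), (nat_lit 0x1134912d0018ad)],
  [(nat_lit 2), (nat_lit 0xe945935000b57)],
  [(nat_lit 2), (nat_lit 0xf14ed3d0002c7)],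
  [(nat_lit 2), (nat_lit 0xeb4e10d0001ff)],
  [(nat_lit 2), (nat_lit 0x430fb001001)],
  [(nat_lit 2), (nat_lit 0xef4fd1b000649)],
  [(nat_lit 2), (nat_lit 0x1113f12b000a37)],
  [(nat_lit 2), (nat_lit 0xf54792a001941)],
  [(nat_lit 2), (nat_lit 0xf448503000d39)],
  [(nat_lit 2), (nat_lit 0xe943116000c31)],
  [(nat_lit 2), (nat_lit 0xfc42d080010b9)],
  [(nat_lit 2), (nat_lit 0x3ad1000108d)],
  [(nat_lit 2), (nat_lit 0xe545d20000c1f)],
  [(nat_lit 2), (nat_lit 0xe54912d00030b)],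
  [(nat_lit 2), (nat_lit 0x1164a528001bfd)],
  [(nat_lit 2), (nat_lit 0x1073b92f001ce1)],
  [(nat_lit 2), (nat_lit 0x41d0f001625)],
  [(nat_lit 2), (nat_lit 0xf141ce7000a35)],
  [(nat_lit 2), (nat_lit 0xe54a4ed0016cd)],
  [(nat_lit 2), (nat_lit 0x4451b001333)],
  [(nat_lit 2), (nat_lit 0xe54e50f0003d3)],
  [(nat_lit 2), (nat_lit 0x4290e00118d)],
  [(nat_lit 2), (nat_lit 0xe3501130011f5)],
  [(nat_lit 2), (nat_lit 0xf74a5050016ed)],
  [(nat_lit 2), (nat_lit 0xfe45908000a29)],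
  [(nat_lit 2), (nat_lit 0x4610f0011c7)],
  [(nat_lit 2), (nat_lit 0xf44fd26002105)],
  [(nat_lit 2), (nat_lit 0x4850d001473)],
  [(nat_lit 2), (nat_lit 0xf93f12c000a93)],
  [(nat_lit 2), (nat_lit 0x4290f002051)],
  [(nat_lit 2), (nat_lit 0xe547513001901)],
  [(nat_lit 2), (nat_lit 0xeb3f10800109f)],
  [(nat_lit 2), (nat_lit 0xf547d0a00159b)],
  [(nat_lit 2), (nat_lit 0xe54e13d00129d)],
  [(nat_lit 2), (nat_lit 0xe94c10d001615)],
  [(nat_lit 2), (nat_lit 0xee4913300021f)],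
  [(nat_lit 2), (nat_lit 0xe53bd3e0003ff)],
  [(nat_lit 2), (nat_lit 0xfb440ff00109d)],
  [(nat_lit 2), (nat_lit 0xe53b0f1000645)],
  [(nat_lit 2), (nat_lit 0xed4d11400179d)],
  [(nat_lit 2), (nat_lit 0xf83bd3e00063b)],
  [(nat_lit 2), (nat_lit 0xec4e51c00137f)],
  [(nat_lit 2), (nat_lit 0xe93f12f000ebd)],
  [(nat_lit 2), (nat_lit 0xf648140000b0d)],
  [(nat_lit 2), (nat_lit 0xe946d1e000c0b)],
  [(nat_lit 2), (nat_lit 0xed4411c00162d)],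
  [(nat_lit 2), (nat_lit 0x3ad2b000a4b)],
  [(nat_lit 2), (nat_lit 0xe542128000ee9)],
  [(nat_lit 2), (nat_lit 0xfb3cd3700113d)],
  [(nat_lit 2), (nat_lit 0x40513000c39)],
  [(nat_lit 2), (nat_lit 0xe34e512002079)],
  [(nat_lit 2), (nat_lit 0xe34c13300207d)],
  [(nat_lit 2), (nat_lit 0xe74551b0012ed)],
  [(nat_lit 2), (nat_lit 0xfd470f600122b)],
  [(nat_lit 2), (nat_lit 0x4ccf3002011)],
  [(nat_lit 2), (nat_lit 0xf83f0f200091f)],
  [(nat_lit 2), (nat_lit 0xe74553b002039)],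
  [(nat_lit 2), (nat_lit 0xed4b5360003d7)],
  [(nat_lit 2), (nat_lit 0xe74c93000053b)],
  [(nat_lit 2), (nat_lit 0xe74d134000621)],
  [(nat_lit 2), (nat_lit 0xee4ed2e0006db)],
  [(nat_lit 2), (nat_lit 0x11940912000543)],
  [(nat_lit 2), (nat_lit 0xe546d1200091b)],
  [(nat_lit 2), (nat_lit 0x4e53b002111)],
  [(nat_lit 2), (nat_lit 0xee4d10e001401)],
  [(nat_lit 2), (nat_lit 0xe34713a000597)],
  [(nat_lit 2), (nat_lit 0x1054e91c000cc5)],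
  [(nat_lit 2), (nat_lit 0xed44136001c35)],
  [(nat_lit 2), (nat_lit 0xf84d94000029b)],
  [(nat_lit 2), (nat_lit 0xef4512200133d)],
  [(nat_lit 2), (nat_lit 0x3b9400013f7)],
  [(nat_lit 2), (nat_lit 0xf848925000323)],
  [(nat_lit 2), (nat_lit 0x4e134000617)],
  [(nat_lit 2), (nat_lit 0xe944ced000e25)],
  [(nat_lit 2), (nat_lit 0xe94610d000dd3)],
  [(nat_lit 2), (nat_lit 0xe5489110020d1)],
  [(nat_lit 2), (nat_lit 0xf44713b0016b9)],
  [(nat_lit 2), (nat_lit 0xf64790f001389)],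
  [(nat_lit 2), (nat_lit 0xec47140000477)],
  [(nat_lit 2), (nat_lit 0xec42140000e7d)],
  [(nat_lit 2), (nat_lit 0xec48d3d000dc9)],
  [(nat_lit 2), (nat_lit 0x47ced000777)],
  [(nat_lit 2), (nat_lit 0xf1000635)],
  [(nat_lit 2), (nat_lit 0x4713c000733)],
  [(nat_lit 2), (nat_lit 0xe747cf600098d)],
  [(nat_lit 2), (nat_lit 0x47ce7000ffd)],
  [(nat_lit 2), (nat_lit 0xe33e92d00079f)],
  [(nat_lit 2), (nat_lit 0xf144d07000f5d)],
  [(nat_lit 2), (nat_lit 0x11045506000f41)],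
  [(nat_lit 2), (nat_lit 0xe34152400130d)],
  [(nat_lit 2), (nat_lit 0xe749136000c45)],
  [(nat_lit 2), (nat_lit 0xe54d528000bc5)],
  [(nat_lit 2), (nat_lit 0x4e510000651)],
  [(nat_lit 2), (nat_lit 0xf349d3000078d)],
  [(nat_lit 2), (nat_lit 0xfa50102000fbd)],
  [(nat_lit 2), (nat_lit 0xf54b0e90019c1)],
  [(nat_lit 2), (nat_lit 0xf54cd10000f0f)],
  [(nat_lit 2), (nat_lit 0xf24a926000d9f)],
  [(nat_lit 2), (nat_lit 0x458fe000c47)],
  [(nat_lit 2), (nat_lit 0xef3cd3c000e07)],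
  [(nat_lit 2), (nat_lit 0xee47902000d0d)],
  [(nat_lit 2), (nat_lit 0xe7454fb0009fb)],
  [(nat_lit 2), (nat_lit 0xeb4cd230016d5)],
  [(nat_lit 2), (nat_lit 0xec44d24000387)],
  [(nat_lit 2), (nat_lit 0xf34010d000961)],
  [(nat_lit 2), (nat_lit 0xe74c4e70008fd)],
  [(nat_lit 2), (nat_lit 0xe7418fb001335)],
  [(nat_lit 2), (nat_lit 0x450f7001b29)],
  [(nat_lit 2), (nat_lit 0xe346900001119)],
  [(nat_lit 2), (nat_lit 0xec4d4f20009c9)],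
  [(nat_lit 2), (nat_lit 0xed441190019b9)],
  [(nat_lit 2), (nat_lit 0x10b46519001209)],
  [(nat_lit 2), (nat_lit 0x10a45124000eff)],
  [(nat_lit 2), (nat_lit 0xfe4f53a0015d5)],
  [(nat_lit 2), (nat_lit 0x494fb000fc1)],
  [(nat_lit 2), (nat_lit 0x3b53c00051b)],
  [(nat_lit 2), (nat_lit 0xeb4092e000caf)],
  [(nat_lit 2), (nat_lit 0xed484ec000383)],
  [(nat_lit 2), (nat_lit 0xef4f52b00101b)],
  [(nat_lit 2), (nat_lit 0xf13f11e001c79)],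
  [(nat_lit 2), (nat_lit 0xf24d9390009a5)],
  [(nat_lit 2), (nat_lit 0x10c3e90800034f)],
  [(nat_lit 2), (nat_lit 0xf150116000ef7)],
  [(nat_lit 2), (nat_lit 0xe74ed3400173b)],
  [(nat_lit 2), (nat_lit 0xfa4ed000009d7)],
  [(nat_lit 2), (nat_lit 0xf64ad0f0004df)],
  [(nat_lit 2), (nat_lit 0x3c537001137)],
  [(nat_lit 2), (nat_lit 0x11641515000b95)],
  [(nat_lit 2), (nat_lit 0x38d054712f000a7d)],
  [(nat_lit 2), (nat_lit 0xe53ed3c0021b5)],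
  [(nat_lit 2), (nat_lit 0xe349ced00149d)],
  [(nat_lit 2), (nat_lit 0xe943506001453)],
  [(nat_lit 2), (nat_lit 0xe34b4ed00170d)],
  [(nat_lit 2), (nat_lit 0xe33e535001611)],
  [(nat_lit 2), (nat_lit 0xe54b11c000317)],
  [(nat_lit 2), (nat_lit 0xec45902001503)],
  [(nat_lit 2), (nat_lit 0xe53ad2f001fa9)],
  [(nat_lit 2), (nat_lit 0xeb47d15001563)],
  [(nat_lit 2), (nat_lit 0xfa4212e0005cb)],
  [(nat_lit 2), (nat_lit 0xf541532001189)],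
  [(nat_lit 2), (nat_lit 0x3ed2f000be1)],
  [(nat_lit 2), (nat_lit 0xe33c932000ac1)],
  [(nat_lit 2), (nat_lit 0xfb4b539001bd9)],
  [(nat_lit 2), (nat_lit 0xeb50108000d71)],
  [(nat_lit 2), (nat_lit 0xed3e9160004b7)],
  [(nat_lit 2), (nat_lit 0x10248917000753)],
  [(nat_lit 2), (nat_lit 0xeb4b507000e65)],
  [(nat_lit 2), (nat_lit 0xfb45d35000755)],
  [(nat_lit 2), (nat_lit 0xef48939000729)],
  [(nat_lit 2), (nat_lit 0x11f000ff1)],
  [(nat_lit 2), (nat_lit 0xe748517001111)],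
  [(nat_lit 2), (nat_lit 0x4cd12000377)],
  [(nat_lit 2), (nat_lit 0xfa49921001975)],
  [(nat_lit 2), (nat_lit 0x1243f105000a55)],
  [(nat_lit 2), (nat_lit 0x10849d1b0010fb)],
  [(nat_lit 2), (nat_lit 0x3c536000c3b)],
  [(nat_lit 2), (nat_lit 0xfb47d13001551)],
  [(nat_lit 2), (nat_lit 0xe94c4f90009a9)],
  [(nat_lit 2), (nat_lit 0x1034e51b0008ad)],
  [(nat_lit 2), (nat_lit 0xe94ad23000a2d)],
  [(nat_lit 2), (nat_lit 0xe348d0d000d43)],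
  [(nat_lit 2), (nat_lit 0x3f51300127d)],
  [(nat_lit 2), (nat_lit 0x46cfd00107f)],
  [(nat_lit 2), (nat_lit 0xe94090d001391)],
  [(nat_lit 2), (nat_lit 0xe742d22000f79)],
  [(nat_lit 2), (nat_lit 0xe74cd33001ced)],
  [(nat_lit 2), (nat_lit 0xed42114000b25)],
  [(nat_lit 2), (nat_lit 0xe349d3b00132b)],
  [(nat_lit 2), (nat_lit 0xeb41d06000a3b)],
  [(nat_lit 2), (nat_lit 0x1024e913001695)],
  [(nat_lit 2), (nat_lit 0x44cfa001697)],
  [(nat_lit 2), (nat_lit 0x4d0ff0013b1)],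
  [(nat_lit 2), (nat_lit 0xf64c139000c7f)],
  [(nat_lit 2), (nat_lit 0x47523000e77)],
  [(nat_lit 2), (nat_lit 0xe34c8f8000913)],
  [(nat_lit 2), (nat_lit 0x10a4a5170002db)],
  [(nat_lit 2), (nat_lit 0xe741cf70011eb)],
  [(nat_lit 2), (nat_lit 0xe74cd0c001259)],
  [(nat_lit 2), (nat_lit 0xf54f1270011a7)],
  [(nat_lit 2), (nat_lit 0xfe45119002015)],
  [(nat_lit 2), (nat_lit 0xe74b5030013f1)],
  [(nat_lit 2), (nat_lit 0xe73d12c000c4f)],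
  [(nat_lit 2), (nat_lit 0xed44d2d0014ad)],
  [(nat_lit 2), (nat_lit 0xec41d1d000a11)],
  [(nat_lit 2), (nat_lit 0xec4353200155d)],
  [(nat_lit 2), (nat_lit 0xef4553e000b53)],
  [(nat_lit 2), (nat_lit 0xe348d300019b5)],
  [(nat_lit 2), (nat_lit 0x4b512000c29)],
  [(nat_lit 2), (nat_lit 0xf74fd030011ff)],
  [(nat_lit 2), (nat_lit 0xf44ad3e001673)],
  [(nat_lit 2), (nat_lit 0xf53d136000ac5)],
  [(nat_lit 2), (nat_lit 0xfb4cd12000dd1)],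
  [(nat_lit 2), (nat_lit 0xe344140000343)],
  [(nat_lit 2), (nat_lit 0xeb47d0d000d07)],
  [(nat_lit 2), (nat_lit 0x4d4f8001135)],
  [(nat_lit 2), (nat_lit 0xfb41d340010e1)],
  [(nat_lit 2), (nat_lit 0x4c9090004a7)],
  [(nat_lit 2), (nat_lit 0xfa439260012b5)],
  [(nat_lit 2), (nat_lit 0x4b4ec0009e7)],
  [(nat_lit 2), (nat_lit 0xef4892c00160b)],
  [(nat_lit 2), (nat_lit 0xec4a8eb000dad)],
  [(nat_lit 2), (nat_lit 0xf13ecf3000c21)],
  [(nat_lit 2), (nat_lit 0xee4a8ed001385)],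
  [(nat_lit 2), (nat_lit 0xf94d1010020f5)],
  [(nat_lit 2), (nat_lit 0xe34d4ef001145)],
  [(nat_lit 2), (nat_lit 0x4212a000bf5)],
  [(nat_lit 2), (nat_lit 0xe948114000337)],
  [(nat_lit 2), (nat_lit 0xfb4b53b000749)],
  [(nat_lit 2), (nat_lit 0x1074f12f0003b3)],
  [(nat_lit 2), (nat_lit 0xf44851f00041b)],
  [(nat_lit 2), (nat_lit 0xe942932000f51)],
  [(nat_lit 2), (nat_lit 0xe5449240011a5)],
  [(nat_lit 2), (nat_lit 0xed4391a00151d)],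
  [(nat_lit 2), (nat_lit 0xe34312a001b89)],
  [(nat_lit 2), (nat_lit 0xed4fd12001da1)],
  [(nat_lit 2), (nat_lit 0xf24bd2c001bb1)],
  [(nat_lit 2), (nat_lit 0xe34410e000c75)],
  [(nat_lit 2), (nat_lit 0xf341ce7001f8d)],
  [(nat_lit 2), (nat_lit 0xe34b8ff000feb)],
  [(nat_lit 2), (nat_lit 0xe94a8ec001b0d)],
  [(nat_lit 2), (nat_lit 0xeb4951c001b1d)],
  [(nat_lit 2), (nat_lit 0xf3424fb001d2d)],
  [(nat_lit 2), (nat_lit 0x10f4e8e9001129)],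
  [(nat_lit 2), (nat_lit 0xef4d8f100100d)],
  [(nat_lit 2), (nat_lit 0xe34e511000739)],
  [(nat_lit 2), (nat_lit 0x4b51f001485)],
  [(nat_lit 2), (nat_lit 0xe95012d000ddb)]]
noncomputable def R24 : List (List ℕ) :=
  [[(nat_lit 2), (nat_lit 0xeb44126000f1b)],
  [(nat_lit 2), (nat_lit 0xf33e8ec000c43)],
  [(nat_lit 2), (nat_lit 0xe94551f000493)],
  [(nat_lit 2), (nat_lit 0xe74d511000db3)],
  [(nat_lit 2), (nat_lit 0xe53b5370011b1)],
  [(nat_lit 2), (nat_lit 0xe7468fe00070f)],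
  [(nat_lit 2), (nat_lit 0xe346d0a000ead)],
  [(nat_lit 2), (nat_lit 0xe34713a0010f1)],
  [(nat_lit 2), (nat_lit 0xfa4b93f000d89)],
  [(nat_lit 2), (nat_lit 0xf349518000fa3)],
  [(nat_lit 2), (nat_lit 0xeb3d516000e85)],
  [(nat_lit 2), (nat_lit 0xe54b91a001725)],
  [(nat_lit 2), (nat_lit 0xe53bd1e001b31)],
  [(nat_lit 2), (nat_lit 0xe94950700082d)],
  [(nat_lit 2), (nat_lit 0xf348515000213)],
  [(nat_lit 2), (nat_lit 0xf14cd33000e8f)],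
  [(nat_lit 2), (nat_lit 0x4d5020012c1)],
  [(nat_lit 2), (nat_lit 0xe9429330014af)],
  [(nat_lit 2), (nat_lit 0xe54d13a0008d9)],
  [(nat_lit 2), (nat_lit 0xec41d3400179f)],
  [(nat_lit 2), (nat_lit 0x3cd3a000c03)],
  [(nat_lit 2), (nat_lit 0x4f1230012dd)],
  [(nat_lit 2), (nat_lit 0xec4f9030009f5)],
  [(nat_lit 2), (nat_lit 0xf541934000d7d)],
  [(nat_lit 2), (nat_lit 0xee4413c000add)],
  [(nat_lit 2), (nat_lit 0xeb49d18000e7f)],
  [(nat_lit 2), (nat_lit 0xec3f11e0007cd)],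
  [(nat_lit 2), (nat_lit 0xe9414f10011a3)],
  [(nat_lit 2), (nat_lit 0xee4c106001669)],
  [(nat_lit 2), (nat_lit 0x10b47125000f2f)],
  [(nat_lit 2), (nat_lit 0xef46d35000da5)],
  [(nat_lit 2), (nat_lit 0x3952b00021b)],
  [(nat_lit 2), (nat_lit 0xef43d28000f7d)],
  [(nat_lit 2), (nat_lit 0x434f8001635)],
  [(nat_lit 2), (nat_lit 0xf74ad3d0006c7)],
  [(nat_lit 2), (nat_lit 0xed4ad0f000e3d)],
  [(nat_lit 2), (nat_lit 0xed44d2b001b41)],
  [(nat_lit 2), (nat_lit 0x4d113000c65)],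
  [(nat_lit 2), (nat_lit 0xe34c8ed00095f)],
  [(nat_lit 2), (nat_lit 0xf43c93a00073d)],
  [(nat_lit 2), (nat_lit 0xed471290017db)],
  [(nat_lit 2), (nat_lit 0xef3ed25000fc9)],
  [(nat_lit 2), (nat_lit 0xe34d90d001c3d)],
  [(nat_lit 2), (nat_lit 0xe947d35001565)],
  [(nat_lit 2), (nat_lit 0xe53a50600095d)],
  [(nat_lit 2), (nat_lit 0xe54e90100042b)],
  [(nat_lit 2), (nat_lit 0xe942136000813)],
  [(nat_lit 2), (nat_lit 0xeb45d29000fa1)],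
  [(nat_lit 2), (nat_lit 0x1293cd17000e39)],
  [(nat_lit 2), (nat_lit 0xf44791f001381)],
  [(nat_lit 2), (nat_lit 0x424f8000631)],
  [(nat_lit 2), (nat_lit 0xe54e91a001a75)],
  [(nat_lit 2), (nat_lit 0x11745cf4001637)],
  [(nat_lit 2), (nat_lit 0x1024cd18000f83)],
  [(nat_lit 2), (nat_lit 0x40516000a91)],
  [(nat_lit 2), (nat_lit 0xe74a919000ac3)],
  [(nat_lit 2), (nat_lit 0xe348d0d0020f1)],
  [(nat_lit 2), (nat_lit 0x4b1170008cb)],
  [(nat_lit 2), (nat_lit 0xf647517001577)],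
  [(nat_lit 2), (nat_lit 0x10047d2a000cdf)],
  [(nat_lit 2), (nat_lit 0xe74851a0002a3)],
  [(nat_lit 2), (nat_lit 0xf14292f00166d)],
  [(nat_lit 2), (nat_lit 0xeb4cd40001f95)],
  [(nat_lit 2), (nat_lit 0xec3c53a001985)],
  [(nat_lit 2), (nat_lit 0x46d00002065)],
  [(nat_lit 2), (nat_lit 0x4f0f400051f)],
  [(nat_lit 2), (nat_lit 0xeb4313e001661)],
  [(nat_lit 2), (nat_lit 0x3f109000b2d)],
  [(nat_lit 2), (nat_lit 0xf345d26000247)],
  [(nat_lit 2), (nat_lit 0xfb418f6001fd9)],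
  [(nat_lit 2), (nat_lit 0x1024912f0008f5)],
  [(nat_lit 2), (nat_lit 0xe53b12a0014c3)],
  [(nat_lit 2), (nat_lit 0x11542d1f000d1b)],
  [(nat_lit 2), (nat_lit 0x3b10c00018b)],
  [(nat_lit 2), (nat_lit 0xf34350200130f)],
  [(nat_lit 2), (nat_lit 0xf140524000c73)],
  [(nat_lit 2), (nat_lit 0xe34090c00034b)],
  [(nat_lit 2), (nat_lit 0xed4d0fa000a41)],
  [(nat_lit 2), (nat_lit 0xeb48937000483)],
  [(nat_lit 2), (nat_lit 0xe73f12e0001cf)],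
  [(nat_lit 2), (nat_lit 0x4492d001581)],
  [(nat_lit 2), (nat_lit 0xe74f936000a4f)],
  [(nat_lit 2), (nat_lit 0xef3b136001571)],
  [(nat_lit 2), (nat_lit 0x11449d1e001639)],
  [(nat_lit 2), (nat_lit 0xeb4f926000b7d)],
  [(nat_lit 2), (nat_lit 0xe34712e0003f3)],
  [(nat_lit 2), (nat_lit 0xee4191a0010e5)],
  [(nat_lit 2), (nat_lit 0xf84bd190018b5)],
  [(nat_lit 2), (nat_lit 0xe33cd1a000d01)],
  [(nat_lit 2), (nat_lit 0xe74b93f001101)],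
  [(nat_lit 2), (nat_lit 0xf245920000701)],
  [(nat_lit 2), (nat_lit 0xfa3951a000183)],
  [(nat_lit 2), (nat_lit 0xee4cd01001b9d)],
  [(nat_lit 2), (nat_lit 0x48516000bb5)],
  [(nat_lit 2), (nat_lit 0x4911c001795)],
  [(nat_lit 2), (nat_lit 0xe34d90d001011)],
  [(nat_lit 2), (nat_lit 0xfa3d53a0007e3)],
  [(nat_lit 2), (nat_lit 0xf44013900166b)],
  [(nat_lit 2), (nat_lit 0xf84d5390017ab)],
  [(nat_lit 2), (nat_lit 0xf34e132001115)],
  [(nat_lit 2), (nat_lit 0xe94e533000e0f)],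
  [(nat_lit 2), (nat_lit 0xfa5013200098b)],
  [(nat_lit 2), (nat_lit 0x134001b2d)],
  [(nat_lit 2), (nat_lit 0xed4d51200099d)],
  [(nat_lit 2), (nat_lit 0xec4610f000839)],
  [(nat_lit 2), (nat_lit 0x11d3f531000761)],
  [(nat_lit 2), (nat_lit 0xf147d3600033b)],
  [(nat_lit 2), (nat_lit 0xe74d1250006a7)],
  [(nat_lit 2), (nat_lit 0xec3e50f0015a9)],
  [(nat_lit 2), (nat_lit 0x500fa0012bf)],
  [(nat_lit 2), (nat_lit 0xf64d534000f25)],
  [(nat_lit 2), (nat_lit 0x4551700101f)],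
  [(nat_lit 2), (nat_lit 0xf24793200114b)],
  [(nat_lit 2), (nat_lit 0xfa421310013b7)],
  [(nat_lit 2), (nat_lit 0xe746d200009c1)],
  [(nat_lit 2), (nat_lit 0xf7441300006eb)],
  [(nat_lit 2), (nat_lit 0xf14d53e0019bd)],
  [(nat_lit 2), (nat_lit 0xeb40110000547)],
  [(nat_lit 2), (nat_lit 0xe3435020007a5)],
  [(nat_lit 2), (nat_lit 0xee4d910001487)],
  [(nat_lit 2), (nat_lit 0xf1409140011df)],
  [(nat_lit 2), (nat_lit 0x47d210010ed)],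
  [(nat_lit 2), (nat_lit 0xec4492d001431)],
  [(nat_lit 2), (nat_lit 0xe543d390013b5)],
  [(nat_lit 2), (nat_lit 0xeb415280003e7)],
  [(nat_lit 2), (nat_lit 0xf14911a0003bf)],
  [(nat_lit 2), (nat_lit 0xe93f4f100130b)],
  [(nat_lit 2), (nat_lit 0xf141d060012ff)],
  [(nat_lit 2), (nat_lit 0xf6420ef002069)],
  [(nat_lit 2), (nat_lit 0xfb4fd0c00044f)],
  [(nat_lit 2), (nat_lit 0xee47d3e000c8d)],
  [(nat_lit 2), (nat_lit 0xf34b13100080b)],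
  [(nat_lit 2), (nat_lit 0x4411b000d75)],
  [(nat_lit 2), (nat_lit 0x404f7000ae1)],
  [(nat_lit 2), (nat_lit 0xe34d5020011ed)],
  [(nat_lit 2), (nat_lit 0xe54f51b000b55)],
  [(nat_lit 2), (nat_lit 0xeb43d31000643)],
  [(nat_lit 2), (nat_lit 0xe942d3e001451)],
  [(nat_lit 2), (nat_lit 0xec4c11b000d09)],
  [(nat_lit 2), (nat_lit 0x11a4053f0014d9)],
  [(nat_lit 2), (nat_lit 0x41d2c001317)],
  [(nat_lit 2), (nat_lit 0xed46d210016ef)],
  [(nat_lit 2), (nat_lit 0xe94412c001d1d)],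
  [(nat_lit 2), (nat_lit 0x3c52c0020b5)],
  [(nat_lit 2), (nat_lit 0xf7464fc000e09)],
  [(nat_lit 2), (nat_lit 0xe93c512001349)],
  [(nat_lit 2), (nat_lit 0x4a52200044b)],
  [(nat_lit 2), (nat_lit 0x4a512000927)],
  [(nat_lit 2), (nat_lit 0xe34812a000bb3)],
  [(nat_lit 2), (nat_lit 0x4fcf40007af)],
  [(nat_lit 2), (nat_lit 0xf447d29001521)],
  [(nat_lit 2), (nat_lit 0xf94fd180018a5)],
  [(nat_lit 2), (nat_lit 0x449350017d1)],
  [(nat_lit 2), (nat_lit 0x10b49d0800090d)],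
  [(nat_lit 2), (nat_lit 0xf247d030016a7)],
  [(nat_lit 2), (nat_lit 0xe53b90c000177)],
  [(nat_lit 2), (nat_lit 0xf350133000915)],
  [(nat_lit 2), (nat_lit 0xe34391b00061d)],
  [(nat_lit 2), (nat_lit 0xe54e934001015)],
  [(nat_lit 2), (nat_lit 0xe741536001af9)],
  [(nat_lit 2), (nat_lit 0xe94a8ec001f7d)],
  [(nat_lit 2), (nat_lit 0xe548d060014a9)],
  [(nat_lit 2), (nat_lit 0x4a516001d19)],
  [(nat_lit 2), (nat_lit 0x1054bcfc000ced)],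
  [(nat_lit 2), (nat_lit 0x10647d0100145f)],
  [(nat_lit 2), (nat_lit 0xe34d50200191d)],
  [(nat_lit 2), (nat_lit 0xe940102001fa1)],
  [(nat_lit 2), (nat_lit 0xee4c9330020d9)],
  [(nat_lit 2), (nat_lit 0xf24b51400089b)],
  [(nat_lit 2), (nat_lit 0xeb3ed210009ef)],
  [(nat_lit 2), (nat_lit 0xe541d14000821)],
  [(nat_lit 2), (nat_lit 0x3e9290006ef)],
  [(nat_lit 2), (nat_lit 0xfb470fa000977)],
  [(nat_lit 2), (nat_lit 0xe54f135001567)],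
  [(nat_lit 2), (nat_lit 0x4691400054f)],
  [(nat_lit 2), (nat_lit 0xf247d2b0020f9)],
  [(nat_lit 2), (nat_lit 0xee4210f0017e5)],
  [(nat_lit 2), (nat_lit 0xef49901000ddd)],
  [(nat_lit 2), (nat_lit 0xfa000e21)],
  [(nat_lit 2), (nat_lit 0xf347937000f81)],
  [(nat_lit 2), (nat_lit 0x4cd220020ed)],
  [(nat_lit 2), (nat_lit 0x4612d000403)],
  [(nat_lit 2), (nat_lit 0xf43fd0600036b)],
  [(nat_lit 2), (nat_lit 0xf247119001c45)],
  [(nat_lit 2), (nat_lit 0x38d3600081d)],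
  [(nat_lit 2), (nat_lit 0xff4d8fa00102f)],
  [(nat_lit 2), (nat_lit 0x39d4000156f)],
  [(nat_lit 2), (nat_lit 0xf24d111000abb)],
  [(nat_lit 2), (nat_lit 0xf74d1300014c1)],
  [(nat_lit 2), (nat_lit 0xe749d2b0010e9)],
  [(nat_lit 2), (nat_lit 0xf74f8e9001d11)],
  [(nat_lit 2), (nat_lit 0xe948933000b1d)],
  [(nat_lit 2), (nat_lit 0xf4475210005f3)],
  [(nat_lit 2), (nat_lit 0xed4ed3e0007f1)],
  [(nat_lit 2), (nat_lit 0xe54d4ff000cbb)],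
  [(nat_lit 2), (nat_lit 0xf54f115000b7b)],
  [(nat_lit 2), (nat_lit 0xe33d933001517)],
  [(nat_lit 2), (nat_lit 0xf64fd3b001215)],
  [(nat_lit 2), (nat_lit 0x10145932001bf9)],
  [(nat_lit 2), (nat_lit 0xeb3e934001665)],
  [(nat_lit 2), (nat_lit 0xf445911000757)],
  [(nat_lit 2), (nat_lit 0xec438fc0016fd)],
  [(nat_lit 2), (nat_lit 0x43937000527)],
  [(nat_lit 2), (nat_lit 0xed4ccf3001469)],
  [(nat_lit 2), (nat_lit 0xf54191a001afd)],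
  [(nat_lit 2), (nat_lit 0xf241d25000c35)],
  [(nat_lit 2), (nat_lit 0xef4d5050008bd)],
  [(nat_lit 2), (nat_lit 0xe54211e0006f7)],
  [(nat_lit 2), (nat_lit 0x10740d280015d9)],
  [(nat_lit 2), (nat_lit 0xe53c912001af1)],
  [(nat_lit 2), (nat_lit 0xf33c53d001021)],
  [(nat_lit 2), (nat_lit 0xe54ad29001689)],
  [(nat_lit 2), (nat_lit 0x3d0fa00096f)],
  [(nat_lit 2), (nat_lit 0xe744d26001529)],
  [(nat_lit 2), (nat_lit 0xee4a93f001555)],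
  [(nat_lit 2), (nat_lit 0xed4c13e0016f5)],
  [(nat_lit 2), (nat_lit 0xe542d3d00194d)],
  [(nat_lit 2), (nat_lit 0x480ff001033)],
  [(nat_lit 2), (nat_lit 0xf44f5240011b9)],
  [(nat_lit 2), (nat_lit 0xe74452f0010c1)],
  [(nat_lit 2), (nat_lit 0xf4455310014dd)],
  [(nat_lit 2), (nat_lit 0xf2439160010a7)],
  [(nat_lit 2), (nat_lit 0xeb3f13500109b)],
  [(nat_lit 2), (nat_lit 0xec4fd2900058f)],
  [(nat_lit 2), (nat_lit 0xe94cceb000783)],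
  [(nat_lit 2), (nat_lit 0xee3ed2600144f)],
  [(nat_lit 2), (nat_lit 0x4cd13000efb)],
  [(nat_lit 2), (nat_lit 0xef4e92b00030f)],
  [(nat_lit 2), (nat_lit 0xff4e93100129f)],
  [(nat_lit 2), (nat_lit 0xed3dd1500214d)],
  [(nat_lit 2), (nat_lit 0xec4b510002165)],
  [(nat_lit 2), (nat_lit 0xeb4cd100004c3)],
  [(nat_lit 2), (nat_lit 0x4fcf6000dab)],
  [(nat_lit 2), (nat_lit 0xe54c12d00213d)],
  [(nat_lit 2), (nat_lit 0x3c50a000f8f)],
  [(nat_lit 2), (nat_lit 0xeb3f1360005b3)],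
  [(nat_lit 2), (nat_lit 0xf146d40000a1f)],
  [(nat_lit 2), (nat_lit 0xef4c50e001321)],
  [(nat_lit 2), (nat_lit 0xee4253d000b13)],
  [(nat_lit 2), (nat_lit 0xe7485010005ab)],
  [(nat_lit 2), (nat_lit 0x1144c13f001369)],
  [(nat_lit 2), (nat_lit 0xe3421360016f3)],
  [(nat_lit 2), (nat_lit 0xe33f12c000e79)],
  [(nat_lit 2), (nat_lit 0xf6500ec001d0d)],
  [(nat_lit 2), (nat_lit 0xe948531000df5)],
  [(nat_lit 2), (nat_lit 0xe94c9360015c3)],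
  [(nat_lit 2), (nat_lit 0xf64511c00049b)],
  [(nat_lit 2), (nat_lit 0xee4a52d00117b)],
  [(nat_lit 2), (nat_lit 0xec4d52300151b)],
  [(nat_lit 2), (nat_lit 0xe541930000a7b)],
  [(nat_lit 2), (nat_lit 0xeb40d400004eb)],
  [(nat_lit 2), (nat_lit 0x4f12e00102d)],
  [(nat_lit 2), (nat_lit 0xe53dd1f00129b)],
  [(nat_lit 2), (nat_lit 0xe747523000b9d)],
  [(nat_lit 2), (nat_lit 0xed4c8f2001399)],
  [(nat_lit 2), (nat_lit 0xf9420ed001d31)],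
  [(nat_lit 2), (nat_lit 0xf44753b0010ef)],
  [(nat_lit 2), (nat_lit 0xf340d280019f1)],
  [(nat_lit 2), (nat_lit 0xe34f13e000b6d)],
  [(nat_lit 2), (nat_lit 0x49117000dc3)],
  [(nat_lit 2), (nat_lit 0xef415400014d3)],
  [(nat_lit 2), (nat_lit 0xfa468f30012cd)],
  [(nat_lit 2), (nat_lit 0xf44a4ff000b19)],
  [(nat_lit 2), (nat_lit 0xe94e4e9000ee7)],
  [(nat_lit 2), (nat_lit 0xeb4d1090006ab)],
  [(nat_lit 2), (nat_lit 0xf544540000cc7)],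
  [(nat_lit 2), (nat_lit 0xf23f9070003f7)],
  [(nat_lit 2), (nat_lit 0xf245d28000899)],
  [(nat_lit 2), (nat_lit 0xf649d0e001c91)],
  [(nat_lit 2), (nat_lit 0xf1498ec001297)],
  [(nat_lit 2), (nat_lit 0xec46911000513)],
  [(nat_lit 2), (nat_lit 0xe34fcf2002191)],
  [(nat_lit 2), (nat_lit 0x1084cd0800112d)],
  [(nat_lit 2), (nat_lit 0xf73a51b000bf3)],
  [(nat_lit 2), (nat_lit 0xec3f1260001ab)],
  [(nat_lit 2), (nat_lit 0xed3d1350007d3)],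
  [(nat_lit 2), (nat_lit 0xe3429390006a3)],
  [(nat_lit 2), (nat_lit 0xe53bd14001c01)],
  [(nat_lit 2), (nat_lit 0xf344126001439)],
  [(nat_lit 2), (nat_lit 0xe94a8e700149b)],
  [(nat_lit 2), (nat_lit 0xe3444f300118f)],
  [(nat_lit 2), (nat_lit 0x3e4ee000e95)],
  [(nat_lit 2), (nat_lit 0x1004d103001057)],
  [(nat_lit 2), (nat_lit 0xed4c91c001587)],
  [(nat_lit 2), (nat_lit 0x39d1d0006a1)],
  [(nat_lit 2), (nat_lit 0xe344d290010cf)],
  [(nat_lit 2), (nat_lit 0xfa4413c001631)],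
  [(nat_lit 2), (nat_lit 0xe93c938000e35)],
  [(nat_lit 2), (nat_lit 0xe349d2d000b7f)],
  [(nat_lit 2), (nat_lit 0xfc4691c001727)],
  [(nat_lit 2), (nat_lit 0x3e10900141d)],
  [(nat_lit 2), (nat_lit 0x3d10e000983)],
  [(nat_lit 2), (nat_lit 0x430f30012b9)],
  [(nat_lit 2), (nat_lit 0xfc4ad20001711)],
  [(nat_lit 2), (nat_lit 0xed4bd23000e6d)],
  [(nat_lit 2), (nat_lit 0xf339cf40008af)],
  [(nat_lit 2), (nat_lit 0xe33bd0f0004ab)],
  [(nat_lit 2), (nat_lit 0x112495350007a7)],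
  [(nat_lit 2), (nat_lit 0xed4650d00177b)],
  [(nat_lit 2), (nat_lit 0xef4913f000969)],
  [(nat_lit 2), (nat_lit 0xe54a5160013c7)],
  [(nat_lit 2), (nat_lit 0x3bd19001693)],
  [(nat_lit 2), (nat_lit 0x1074f52400110b)],
  [(nat_lit 2), (nat_lit 0x10544519000773)],
  [(nat_lit 2), (nat_lit 0xf13f917001f61)],
  [(nat_lit 2), (nat_lit 0x5013d000eb5)],
  [(nat_lit 2), (nat_lit 0xef3ed24001265)],
  [(nat_lit 2), (nat_lit 0xf7401360002cf)],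
  [(nat_lit 2), (nat_lit 0x4153800103d)],
  [(nat_lit 2), (nat_lit 0x38cf2001a6d)],
  [(nat_lit 2), (nat_lit 0xe345935000b71)],
  [(nat_lit 2), (nat_lit 0xe54d13a000f53)],
  [(nat_lit 2), (nat_lit 0xe54ed0f000c67)],
  [(nat_lit 2), (nat_lit 0xf44d93f0006ad)],
  [(nat_lit 2), (nat_lit 0xee4a90a000eed)],
  [(nat_lit 2), (nat_lit 0xe747907001147)],
  [(nat_lit 2), (nat_lit 0xe345d2400094f)],
  [(nat_lit 2), (nat_lit 0xe74b53c000b85)],
  [(nat_lit 2), (nat_lit 0xf4484e7000c6f)],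
  [(nat_lit 2), (nat_lit 0xe9479130007c7)],
  [(nat_lit 2), (nat_lit 0xeb3d519000fff)],
  [(nat_lit 2), (nat_lit 0xf23ed2d000ecd)],
  [(nat_lit 2), (nat_lit 0x4acf40009d9)],
  [(nat_lit 2), (nat_lit 0x1023fd1900163f)],
  [(nat_lit 2), (nat_lit 0x101490fc000a25)],
  [(nat_lit 2), (nat_lit 0xf84c51e001235)],
  [(nat_lit 2), (nat_lit 0x10649533000cc9)],
  [(nat_lit 2), (nat_lit 0xed424f20008a1)],
  [(nat_lit 2), (nat_lit 0xfa4d108000b35)],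
  [(nat_lit 2), (nat_lit 0x4311c00161d)],
  [(nat_lit 2), (nat_lit 0x4ed2f0012cf)],
  [(nat_lit 2), (nat_lit 0xeb43d3d00069f)],
  [(nat_lit 2), (nat_lit 0x1034ed1a001c9d)],
  [(nat_lit 2), (nat_lit 0x1064911c001417)],
  [(nat_lit 2), (nat_lit 0x11c3d9280016c7)],
  [(nat_lit 2), (nat_lit 0xf445d260007a9)],
  [(nat_lit 2), (nat_lit 0x10e4c524001cad)],
  [(nat_lit 2), (nat_lit 0xfd3d12a001185)],
  [(nat_lit 2), (nat_lit 0xeb47523001d8d)],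
  [(nat_lit 2), (nat_lit 0xf43ad1b00215d)],
  [(nat_lit 2), (nat_lit 0xe54e4e7000bd7)],
  [(nat_lit 2), (nat_lit 0xec46507000a09)],
  [(nat_lit 2), (nat_lit 0x39d2f00133b)],
  [(nat_lit 2), (nat_lit 0x4550d000fe5)],
  [(nat_lit 2), (nat_lit 0xe9435130013c5)],
  [(nat_lit 2), (nat_lit 0xe94f4fa000dd7)],
  [(nat_lit 2), (nat_lit 0xe93b500000c9d)],
  [(nat_lit 2), (nat_lit 0xeb4a0ec000b5f)],
  [(nat_lit 2), (nat_lit 0xe949d03001939)],
  [(nat_lit 2), (nat_lit 0xe33ccf7000ed1)],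
  [(nat_lit 2), (nat_lit 0xed4b0f20001a7)],
  [(nat_lit 2), (nat_lit 0xfc4d8ed001179)],
  [(nat_lit 2), (nat_lit 0x3e4ec0007ed)],
  [(nat_lit 2), (nat_lit 0xeb4550b000e0b)],
  [(nat_lit 2), (nat_lit 0x4311c000cfd)],
  [(nat_lit 2), (nat_lit 0xe54bd39001053)],
  [(nat_lit 2), (nat_lit 0xed3ed03001b11)],
  [(nat_lit 2), (nat_lit 0x10d4fd3d00128d)],
  [(nat_lit 2), (nat_lit 0xfa4411d00125b)],
  [(nat_lit 2), (nat_lit 0x4c506000959)],
  [(nat_lit 2), (nat_lit 0xe94b911000b11)],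
  [(nat_lit 2), (nat_lit 0xf24912c000567)],
  [(nat_lit 2), (nat_lit 0xf94712f001275)],
  [(nat_lit 2), (nat_lit 0xf64a101000c69)],
  [(nat_lit 2), (nat_lit 0xe53ad1f001045)],
  [(nat_lit 2), (nat_lit 0xf24912c0008c7)],
  [(nat_lit 2), (nat_lit 0xf24ed2e0010f5)],
  [(nat_lit 2), (nat_lit 0x128000cab)],
  [(nat_lit 2), (nat_lit 0x481100009cd)],
  [(nat_lit 2), (nat_lit 0xed501150007cb)],
  [(nat_lit 2), (nat_lit 0x4913c000583)],
  [(nat_lit 2), (nat_lit 0x13146915000d61)],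
  [(nat_lit 2), (nat_lit 0xe53ad2c002161)],
  [(nat_lit 2), (nat_lit 0xed470ff00103f)],
  [(nat_lit 2), (nat_lit 0xf2484e700160d)],
  [(nat_lit 2), (nat_lit 0xed3f11c001db1)],
  [(nat_lit 2), (nat_lit 0x11c41d38001357)],
  [(nat_lit 2), (nat_lit 0x3c922001005)],
  [(nat_lit 2), (nat_lit 0xee3e922001017)],
  [(nat_lit 2), (nat_lit 0xe54b918000a15)],
  [(nat_lit 2), (nat_lit 0xe93dd0e0016dd)],
  [(nat_lit 2), (nat_lit 0xeb4c91f001531)],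
  [(nat_lit 2), (nat_lit 0xfa4553b001b25)],
  [(nat_lit 2), (nat_lit 0x414ee000457)],
  [(nat_lit 2), (nat_lit 0xeb4e51b0007cf)],
  [(nat_lit 2), (nat_lit 0xe34213d000e91)],
  [(nat_lit 2), (nat_lit 0xe940918000497)],
  [(nat_lit 2), (nat_lit 0xf241d0d0013ed)],
  [(nat_lit 2), (nat_lit 0xf3500e70014e3)],
  [(nat_lit 2), (nat_lit 0xfc4793b000985)],
  [(nat_lit 2), (nat_lit 0xf73d93c000f57)],
  [(nat_lit 2), (nat_lit 0x3cd3a000a0b)],
  [(nat_lit 2), (nat_lit 0xfb41d0d000d9b)],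
  [(nat_lit 2), (nat_lit 0xf447514000eb7)],
  [(nat_lit 2), (nat_lit 0xf55012c000863)],
  [(nat_lit 2), (nat_lit 0x414eb000fa7)],
  [(nat_lit 2), (nat_lit 0xe33d13f001741)],
  [(nat_lit 2), (nat_lit 0xe93d131001969)],
  [(nat_lit 2), (nat_lit 0xe749d18000f9b)],
  [(nat_lit 2), (nat_lit 0xf14c90f000c57)]]
noncomputable def R25 : List (List ℕ) :=
  [[(nat_lit 2), (nat_lit 0xee4e92a000d63)],
  [(nat_lit 2), (nat_lit 0xe34b91f0016ff)],
  [(nat_lit 2), (nat_lit 0xf941930000e03)],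
  [(nat_lit 2), (nat_lit 0xef4cd2a000d99)],
  [(nat_lit 2), (nat_lit 0xe342d3d000981)],
  [(nat_lit 2), (nat_lit 0xf64cd33000a61)],
  [(nat_lit 2), (nat_lit 0x4b90f001d99)],
  [(nat_lit 2), (nat_lit 0x3bd36001bb9)],
  [(nat_lit 2), (nat_lit 0xe3420ff000fbb)],
  [(nat_lit 2), (nat_lit 0x48926001729)],
  [(nat_lit 2), (nat_lit 0xf345906001735)],
  [(nat_lit 2), (nat_lit 0x1074a9330012f7)],
  [(nat_lit 2), (nat_lit 0xe74f53d001a01)],
  [(nat_lit 2), (nat_lit 0xe54193b000d6b)],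
  [(nat_lit 2), (nat_lit 0xe53cd240021c9)],
  [(nat_lit 2), (nat_lit 0xee4ed3e000789)],
  [(nat_lit 2), (nat_lit 0xec41d0b0013fd)],
  [(nat_lit 2), (nat_lit 0xe348139001599)],
  [(nat_lit 2), (nat_lit 0x46cf3000c13)],
  [(nat_lit 2), (nat_lit 0xe33cd0e001103)],
  [(nat_lit 2), (nat_lit 0xf641930001131)],
  [(nat_lit 2), (nat_lit 0xed4212c001447)],
  [(nat_lit 2), (nat_lit 0xe549d070014c7)],
  [(nat_lit 2), (nat_lit 0x101449350005db)],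
  [(nat_lit 2), (nat_lit 0x1014f92600070b)],
  [(nat_lit 2), (nat_lit 0xe7001d35)],
  [(nat_lit 2), (nat_lit 0xe94b50b00136b)],
  [(nat_lit 2), (nat_lit 0xfa44935000c91)],
  [(nat_lit 2), (nat_lit 0x1053ed1e0014d1)],
  [(nat_lit 2), (nat_lit 0xe74cd06000be5)],
  [(nat_lit 2), (nat_lit 0xeb4acf1000d9d)],
  [(nat_lit 2), (nat_lit 0xfb4a10200106b)],
  [(nat_lit 2), (nat_lit 0xe747d3000112b)],
  [(nat_lit 2), (nat_lit 0xf5500f2000a9f)],
  [(nat_lit 2), (nat_lit 0xf54b932001c29)],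
  [(nat_lit 2), (nat_lit 0xfa4892f0007bb)],
  [(nat_lit 2), (nat_lit 0x4f4eb0008d7)],
  [(nat_lit 2), (nat_lit 0x1233fd220016bd)],
  [(nat_lit 2), (nat_lit 0x4851600071f)],
  [(nat_lit 2), (nat_lit 0xe546124000a1d)],
  [(nat_lit 2), (nat_lit 0x3e513001bbd)],
  [(nat_lit 2), (nat_lit 0x5011f000615)],
  [(nat_lit 2), (nat_lit 0xf140519000e63)],
  [(nat_lit 2), (nat_lit 0xf43f534000e55)],
  [(nat_lit 2), (nat_lit 0xe94fcf4000b29)],
  [(nat_lit 2), (nat_lit 0xe74d922000393)],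
  [(nat_lit 2), (nat_lit 0xed4090e00128f)],
  [(nat_lit 2), (nat_lit 0xe94e13e0006cd)],
  [(nat_lit 2), (nat_lit 0xed49540000669)],
  [(nat_lit 2), (nat_lit 0xe3424f1000895)],
  [(nat_lit 2), (nat_lit 0xf83cd0000121d)],
  [(nat_lit 2), (nat_lit 0xe94d10d000593)],
  [(nat_lit 2), (nat_lit 0xf74512b0006b1)],
  [(nat_lit 2), (nat_lit 0xeb485300010d5)],
  [(nat_lit 2), (nat_lit 0xe748135000e6b)],
  [(nat_lit 2), (nat_lit 0xe33cd2a001279)],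
  [(nat_lit 2), (nat_lit 0x4890b000947)],
  [(nat_lit 2), (nat_lit 0xeb47101000b81)],
  [(nat_lit 2), (nat_lit 0xe9474f3000869)],
  [(nat_lit 2), (nat_lit 0x1343a530000f9f)],
  [(nat_lit 2), (nat_lit 0xe54353d00045b)],
  [(nat_lit 2), (nat_lit 0x1073b9220011c3)],
  [(nat_lit 2), (nat_lit 0xf64391f000e2b)],
  [(nat_lit 2), (nat_lit 0xf34411b000de3)],
  [(nat_lit 2), (nat_lit 0xe74c52f000dbb)],
  [(nat_lit 2), (nat_lit 0xe34e91b000a5b)],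
  [(nat_lit 2), (nat_lit 0xef4a4e9001a05)],
  [(nat_lit 2), (nat_lit 0xe34f907000a59)],
  [(nat_lit 2), (nat_lit 0xee4b5220013e3)],
  [(nat_lit 2), (nat_lit 0xe94b1350014ab)],
  [(nat_lit 2), (nat_lit 0xfd4c0f3000ebb)],
  [(nat_lit 2), (nat_lit 0x394f7002169)],
  [(nat_lit 2), (nat_lit 0xf64613e001c95)],
  [(nat_lit 2), (nat_lit 0x10046507000ad7)],
  [(nat_lit 2), (nat_lit 0xeb4fd3f000f19)],
  [(nat_lit 2), (nat_lit 0x48920001459)],
  [(nat_lit 2), (nat_lit 0xe34291600142f)],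
  [(nat_lit 2), (nat_lit 0x4391400089d)],
  [(nat_lit 2), (nat_lit 0x4490c001315)],
  [(nat_lit 2), (nat_lit 0x10242931000855)],
  [(nat_lit 2), (nat_lit 0xed4ad20001509)],
  [(nat_lit 2), (nat_lit 0x475090006c5)],
  [(nat_lit 2), (nat_lit 0xef3cd2c000ddf)],
  [(nat_lit 2), (nat_lit 0xfa3d92e001443)],
  [(nat_lit 2), (nat_lit 0xe34553c001bd1)],
  [(nat_lit 2), (nat_lit 0xf14d902000bbb)],
  [(nat_lit 2), (nat_lit 0xe7474fd0019e5)],
  [(nat_lit 2), (nat_lit 0xeb4cd320010b7)],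
  [(nat_lit 2), (nat_lit 0xed4a4e70009cb)],
  [(nat_lit 2), (nat_lit 0xe94e13900048f)],
  [(nat_lit 2), (nat_lit 0xf44490e00100f)],
  [(nat_lit 2), (nat_lit 0x47d100019b1)],
  [(nat_lit 2), (nat_lit 0xf24d13f001a2d)],
  [(nat_lit 2), (nat_lit 0x10246d21001629)],
  [(nat_lit 2), (nat_lit 0xe349d16000bff)],
  [(nat_lit 2), (nat_lit 0x4f511000b8f)],
  [(nat_lit 2), (nat_lit 0xed45cf4002091)],
  [(nat_lit 2), (nat_lit 0x4c523000667)],
  [(nat_lit 2), (nat_lit 0xe94091c000f3f)],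
  [(nat_lit 2), (nat_lit 0xeb4511c000eef)],
  [(nat_lit 2), (nat_lit 0x4c121001193)],
  [(nat_lit 2), (nat_lit 0x1063d534001b81)],
  [(nat_lit 2), (nat_lit 0xfc4e13e0011cb)],
  [(nat_lit 2), (nat_lit 0xeb47107001715)],
  [(nat_lit 2), (nat_lit 0x4fd39002195)],
  [(nat_lit 2), (nat_lit 0xe5484fe00143b)],
  [(nat_lit 2), (nat_lit 0xe747127001363)],
  [(nat_lit 2), (nat_lit 0xf24e916001465)],
  [(nat_lit 2), (nat_lit 0xe33b5340014e5)],
  [(nat_lit 2), (nat_lit 0xe94f1290016f1)],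
  [(nat_lit 2), (nat_lit 0xf448d320007bd)],
  [(nat_lit 2), (nat_lit 0xec3e922001083)],
  [(nat_lit 2), (nat_lit 0xe53e92f0009b5)],
  [(nat_lit 2), (nat_lit 0xe7474fd002179)],
  [(nat_lit 2), (nat_lit 0x45d380010ab)],
  [(nat_lit 2), (nat_lit 0xe742d2a000e75)],
  [(nat_lit 2), (nat_lit 0xed48d33000a9b)],
  [(nat_lit 2), (nat_lit 0xe34853b000c23)],
  [(nat_lit 2), (nat_lit 0xed4c4f90001c3)],
  [(nat_lit 2), (nat_lit 0xe542136000b0f)],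
  [(nat_lit 2), (nat_lit 0xec41910001277)],
  [(nat_lit 2), (nat_lit 0xec471100015dd)],
  [(nat_lit 2), (nat_lit 0xe75010f000a13)],
  [(nat_lit 2), (nat_lit 0xf141ced000b1f)],
  [(nat_lit 2), (nat_lit 0xfa4953d001971)],
  [(nat_lit 2), (nat_lit 0xe94613f001775)],
  [(nat_lit 2), (nat_lit 0xe94c930000aeb)],
  [(nat_lit 2), (nat_lit 0xf241d1000131b)],
  [(nat_lit 2), (nat_lit 0x1094851b001481)],
  [(nat_lit 2), (nat_lit 0xe7498e9001ce5)],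
  [(nat_lit 2), (nat_lit 0xe748d18000c25)],
  [(nat_lit 2), (nat_lit 0x4aced000bc3)],
  [(nat_lit 2), (nat_lit 0xe54591f0010d1)],
  [(nat_lit 2), (nat_lit 0xe73d1170013e5)],
  [(nat_lit 2), (nat_lit 0xe541d1e000c53)],
  [(nat_lit 2), (nat_lit 0xe34c1090016d3)],
  [(nat_lit 2), (nat_lit 0xee470ed0020c9)],
  [(nat_lit 2), (nat_lit 0xee42125001ba9)],
  [(nat_lit 2), (nat_lit 0xe749d2d0007b1)],
  [(nat_lit 2), (nat_lit 0xe34f909001027)],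
  [(nat_lit 2), (nat_lit 0xed4492d0016e5)],
  [(nat_lit 2), (nat_lit 0xec3e5180008d5)],
  [(nat_lit 2), (nat_lit 0x4f907001cf5)],
  [(nat_lit 2), (nat_lit 0xe94c9280015c1)],
  [(nat_lit 2), (nat_lit 0xf14f93600144d)],
  [(nat_lit 2), (nat_lit 0xf74c50e0006e7)],
  [(nat_lit 2), (nat_lit 0xe94392e001249)],
  [(nat_lit 2), (nat_lit 0xe34e50d00197d)],
  [(nat_lit 2), (nat_lit 0xeb5013c001621)],
  [(nat_lit 2), (nat_lit 0xeb441140008e7)],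
  [(nat_lit 2), (nat_lit 0xff46921001543)],
  [(nat_lit 2), (nat_lit 0xff4c8f20009b9)],
  [(nat_lit 2), (nat_lit 0xe54451b00192d)],
  [(nat_lit 2), (nat_lit 0xe74f91f001771)],
  [(nat_lit 2), (nat_lit 0xec42134001173)],
  [(nat_lit 2), (nat_lit 0x4bd3c001b7d)],
  [(nat_lit 2), (nat_lit 0x1284e4e900145b)],
  [(nat_lit 2), (nat_lit 0xed4d0ec000815)],
  [(nat_lit 2), (nat_lit 0x468fb001d01)],
  [(nat_lit 2), (nat_lit 0xeb4f8f6000afb)],
  [(nat_lit 2), (nat_lit 0xe74c50c000c93)],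
  [(nat_lit 2), (nat_lit 0x44cf7000f47)],
  [(nat_lit 2), (nat_lit 0xff4ed3000162b)],
  [(nat_lit 2), (nat_lit 0xee4d51b0010cd)],
  [(nat_lit 2), (nat_lit 0xef3d92a001527)],
  [(nat_lit 2), (nat_lit 0x10547d290021e1)],
  [(nat_lit 2), (nat_lit 0x111470ed0001f7)],
  [(nat_lit 2), (nat_lit 0x470ff001929)],
  [(nat_lit 2), (nat_lit 0xec4092d000d53)],
  [(nat_lit 2), (nat_lit 0xf34b131000a43)],
  [(nat_lit 2), (nat_lit 0x4291e000ee3)],
  [(nat_lit 2), (nat_lit 0xe33ccfb0019e9)],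
  [(nat_lit 2), (nat_lit 0xeb4b93f0009f1)],
  [(nat_lit 2), (nat_lit 0xe54e93d001d05)],
  [(nat_lit 2), (nat_lit 0xe34a4f8001d95)],
  [(nat_lit 2), (nat_lit 0xe53b9150017dd)],
  [(nat_lit 2), (nat_lit 0xf148532000fdf)],
  [(nat_lit 2), (nat_lit 0xf83c9380015a5)],
  [(nat_lit 2), (nat_lit 0xe74152c00144b)],
  [(nat_lit 2), (nat_lit 0xef4f9250015cf)],
  [(nat_lit 2), (nat_lit 0xe73ed070014e9)],
  [(nat_lit 2), (nat_lit 0xe54e0f400053f)],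
  [(nat_lit 2), (nat_lit 0x1064392a00075d)],
  [(nat_lit 2), (nat_lit 0xf84d13d000d77)],
  [(nat_lit 2), (nat_lit 0xe546124001769)],
  [(nat_lit 2), (nat_lit 0x3b902001c09)],
  [(nat_lit 2), (nat_lit 0xf440930001cb1)],
  [(nat_lit 2), (nat_lit 0xe54b0f9001511)],
  [(nat_lit 2), (nat_lit 0xe9448fd00065f)],
  [(nat_lit 2), (nat_lit 0xf448d3400083b)],
  [(nat_lit 2), (nat_lit 0xe547121001fcd)],
  [(nat_lit 2), (nat_lit 0xef4751a000795)],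
  [(nat_lit 2), (nat_lit 0x4e51000120f)],
  [(nat_lit 2), (nat_lit 0x100481090009b7)],
  [(nat_lit 2), (nat_lit 0xe7001c65)],
  [(nat_lit 2), (nat_lit 0xf2484ff0006ff)],
  [(nat_lit 2), (nat_lit 0xe541928000ccb)],
  [(nat_lit 2), (nat_lit 0xec4313e0012c5)],
  [(nat_lit 2), (nat_lit 0x1144a90a000edb)],
  [(nat_lit 2), (nat_lit 0x1034a8ef00131d)],
  [(nat_lit 2), (nat_lit 0xe34e906001421)],
  [(nat_lit 2), (nat_lit 0x1014fd28001257)],
  [(nat_lit 2), (nat_lit 0xe93c92800139d)],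
  [(nat_lit 2), (nat_lit 0xe54a13f00146d)],
  [(nat_lit 2), (nat_lit 0xfc4b11a0010cb)],
  [(nat_lit 2), (nat_lit 0xe542122000a7f)],
  [(nat_lit 2), (nat_lit 0xeb47d0d000e05)],
  [(nat_lit 2), (nat_lit 0x41535000a53)],
  [(nat_lit 2), (nat_lit 0x47921001765)],
  [(nat_lit 2), (nat_lit 0xef4993e000877)],
  [(nat_lit 2), (nat_lit 0xe346d360016bb)],
  [(nat_lit 2), (nat_lit 0xef45529001d3d)],
  [(nat_lit 2), (nat_lit 0xe947917000c8b)],
  [(nat_lit 2), (nat_lit 0xf54612c0019c9)],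
  [(nat_lit 2), (nat_lit 0xf347913000eb1)],
  [(nat_lit 2), (nat_lit 0xe34c4fa001633)],
  [(nat_lit 2), (nat_lit 0x3fcf10019f9)],
  [(nat_lit 2), (nat_lit 0xe9499310019ed)],
  [(nat_lit 2), (nat_lit 0xfa3dd2c001cfd)],
  [(nat_lit 2), (nat_lit 0xe94c107000e27)],
  [(nat_lit 2), (nat_lit 0x38ced001c25)],
  [(nat_lit 2), (nat_lit 0x1063f0ee001285)],
  [(nat_lit 2), (nat_lit 0xfa3ad31000beb)],
  [(nat_lit 2), (nat_lit 0xef44118000db5)],
  [(nat_lit 2), (nat_lit 0x4291e001161)],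
  [(nat_lit 2), (nat_lit 0xf34a510000b03)],
  [(nat_lit 2), (nat_lit 0xff4053b0021bd)],
  [(nat_lit 2), (nat_lit 0xe34d510001755)],
  [(nat_lit 2), (nat_lit 0xe94093c0007fd)],
  [(nat_lit 2), (nat_lit 0xf84653b000e9b)],
  [(nat_lit 2), (nat_lit 0xee42935000cb3)],
  [(nat_lit 2), (nat_lit 0xe343d26000f97)],
  [(nat_lit 2), (nat_lit 0xe344d2e00038b)],
  [(nat_lit 2), (nat_lit 0xe342d30000347)],
  [(nat_lit 2), (nat_lit 0xeb47d070014ff)],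
  [(nat_lit 2), (nat_lit 0xe74053c00019b)],
  [(nat_lit 2), (nat_lit 0x45d3e001507)],
  [(nat_lit 2), (nat_lit 0xf14a537001d81)],
  [(nat_lit 2), (nat_lit 0x10b46535001153)],
  [(nat_lit 2), (nat_lit 0xe7480f8000d21)],
  [(nat_lit 2), (nat_lit 0xf14f51b000c5f)],
  [(nat_lit 2), (nat_lit 0xe33e4f400117d)],
  [(nat_lit 2), (nat_lit 0xeb4a8fb000883)],
  [(nat_lit 2), (nat_lit 0xf14d10c001759)],
  [(nat_lit 2), (nat_lit 0xf84c926000d1d)],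
  [(nat_lit 2), (nat_lit 0xee46cfb001313)],
  [(nat_lit 2), (nat_lit 0xef4c13d000a73)],
  [(nat_lit 2), (nat_lit 0xec439280014d5)],
  [(nat_lit 2), (nat_lit 0xf24c12b0001bb)],
  [(nat_lit 2), (nat_lit 0x10344d3500081f)],
  [(nat_lit 2), (nat_lit 0x4cd24001d25)],
  [(nat_lit 2), (nat_lit 0x3b13100025b)],
  [(nat_lit 2), (nat_lit 0x102435310017bf)],
  [(nat_lit 2), (nat_lit 0x10640d06001779)],
  [(nat_lit 2), (nat_lit 0xee434f40013a5)],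
  [(nat_lit 2), (nat_lit 0xf43e5180015cd)],
  [(nat_lit 2), (nat_lit 0x4290f001cc9)],
  [(nat_lit 2), (nat_lit 0x468eb0008df)],
  [(nat_lit 2), (nat_lit 0xe93d12f00219d)],
  [(nat_lit 2), (nat_lit 0x45d2200152b)],
  [(nat_lit 2), (nat_lit 0x4f4f80013e7)],
  [(nat_lit 2), (nat_lit 0xe53cd2a000d93)],
  [(nat_lit 2), (nat_lit 0x4551b00208d)],
  [(nat_lit 2), (nat_lit 0xee4d519000633)],
  [(nat_lit 2), (nat_lit 0xee484eb000f71)],
  [(nat_lit 2), (nat_lit 0xf34092900123b)],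
  [(nat_lit 2), (nat_lit 0xf24e135000ee1)],
  [(nat_lit 2), (nat_lit 0xe544d1b00161f)],
  [(nat_lit 2), (nat_lit 0xef4f13a002141)],
  [(nat_lit 2), (nat_lit 0xec421310008cd)],
  [(nat_lit 2), (nat_lit 0xef4f51b0001d3)],
  [(nat_lit 2), (nat_lit 0x38cf1001a69)],
  [(nat_lit 2), (nat_lit 0x102488ff0015bb)],
  [(nat_lit 2), (nat_lit 0x3a4ef000acf)],
  [(nat_lit 2), (nat_lit 0x1004f9060015c9)],
  [(nat_lit 2), (nat_lit 0xeb47d34001cc1)],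
  [(nat_lit 2), (nat_lit 0xef501140013e9)],
  [(nat_lit 2), (nat_lit 0xef3d9290007a3)],
  [(nat_lit 2), (nat_lit 0xe547d3400089f)],
  [(nat_lit 2), (nat_lit 0xe33d91f001263)],
  [(nat_lit 2), (nat_lit 0x4dd18000517)],
  [(nat_lit 2), (nat_lit 0xe53cd2400121b)],
  [(nat_lit 2), (nat_lit 0xe73cd180011bb)],
  [(nat_lit 2), (nat_lit 0x4891e001c85)],
  [(nat_lit 2), (nat_lit 0x10c50101000f31)],
  [(nat_lit 2), (nat_lit 0xe54c534000797)],
  [(nat_lit 2), (nat_lit 0xe54ad2800217d)],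
  [(nat_lit 2), (nat_lit 0xf4478f7000865)],
  [(nat_lit 2), (nat_lit 0x415380021a5)],
  [(nat_lit 2), (nat_lit 0x48cfd000845)],
  [(nat_lit 2), (nat_lit 0xf6471360007b9)],
  [(nat_lit 2), (nat_lit 0x12e40d22000b8b)],
  [(nat_lit 2), (nat_lit 0xfc4513d000cfb)],
  [(nat_lit 2), (nat_lit 0xf84e4f400105b)],
  [(nat_lit 2), (nat_lit 0x50120001c4d)],
  [(nat_lit 2), (nat_lit 0xe344d39001133)],
  [(nat_lit 2), (nat_lit 0x10f488fb000afd)],
  [(nat_lit 2), (nat_lit 0x3e512001b69)],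
  [(nat_lit 2), (nat_lit 0xf3409290011fb)],
  [(nat_lit 2), (nat_lit 0xe73dd1700085b)],
  [(nat_lit 2), (nat_lit 0xef4a11b000d3f)],
  [(nat_lit 2), (nat_lit 0xfc4a10600059f)],
  [(nat_lit 2), (nat_lit 0x4e93d0001b7)],
  [(nat_lit 2), (nat_lit 0xef4f900000f29)],
  [(nat_lit 2), (nat_lit 0xe93e0f2000825)],
  [(nat_lit 2), (nat_lit 0xec4d921000f87)],
  [(nat_lit 2), (nat_lit 0xe93f131000665)],
  [(nat_lit 2), (nat_lit 0xe34e93f000fcf)],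
  [(nat_lit 2), (nat_lit 0xe94b1400006e3)],
  [(nat_lit 2), (nat_lit 0xf24fd35000751)],
  [(nat_lit 2), (nat_lit 0x10d000a0d)],
  [(nat_lit 2), (nat_lit 0xe349d080016d1)],
  [(nat_lit 2), (nat_lit 0xe94ed38000d91)],
  [(nat_lit 2), (nat_lit 0xe93bd36000ec7)],
  [(nat_lit 2), (nat_lit 0xe53e13b0014c9)],
  [(nat_lit 2), (nat_lit 0xec501140009af)],
  [(nat_lit 2), (nat_lit 0xf100202d)],
  [(nat_lit 2), (nat_lit 0xf84c8f8000a65)],
  [(nat_lit 2), (nat_lit 0xec469100011ab)],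
  [(nat_lit 2), (nat_lit 0xeb4c0eb0016a9)],
  [(nat_lit 2), (nat_lit 0xff4d131001bb5)],
  [(nat_lit 2), (nat_lit 0xe74bd3f001c41)],
  [(nat_lit 2), (nat_lit 0x1094f130000ccf)],
  [(nat_lit 2), (nat_lit 0xe346531000d4d)],
  [(nat_lit 2), (nat_lit 0x4692a001d71)],
  [(nat_lit 2), (nat_lit 0xe7459360001b3)],
  [(nat_lit 2), (nat_lit 0xf34e93f000e73)],
  [(nat_lit 2), (nat_lit 0xec4a92300175f)],
  [(nat_lit 2), (nat_lit 0xf24fd3f000ae7)],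
  [(nat_lit 2), (nat_lit 0xe54150f002055)],
  [(nat_lit 2), (nat_lit 0x4352f001b55)],
  [(nat_lit 2), (nat_lit 0xe9484f500083f)],
  [(nat_lit 2), (nat_lit 0xfe479340009d1)],
  [(nat_lit 2), (nat_lit 0xf34bcee00055b)],
  [(nat_lit 2), (nat_lit 0x4bd28000ea9)],
  [(nat_lit 2), (nat_lit 0xef4151c00159d)],
  [(nat_lit 2), (nat_lit 0xec4b8f3001751)],
  [(nat_lit 2), (nat_lit 0x3cd40001251)],
  [(nat_lit 2), (nat_lit 0xe94ed2c001223)],
  [(nat_lit 2), (nat_lit 0xf344126001a35)],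
  [(nat_lit 2), (nat_lit 0xee4b4e90005c3)],
  [(nat_lit 2), (nat_lit 0x10647d01000407)],
  [(nat_lit 2), (nat_lit 0x3b910001651)],
  [(nat_lit 2), (nat_lit 0xf646cfb00173d)],
  [(nat_lit 2), (nat_lit 0xed4b518000933)],
  [(nat_lit 2), (nat_lit 0xf44613a00066b)],
  [(nat_lit 2), (nat_lit 0xe54c53a00037b)],
  [(nat_lit 2), (nat_lit 0xf5440ec00062f)],
  [(nat_lit 2), (nat_lit 0x4bd33000d0b)],
  [(nat_lit 2), (nat_lit 0xf5500fb000a67)],
  [(nat_lit 2), (nat_lit 0xe93b93b0005b7)],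
  [(nat_lit 2), (nat_lit 0xef4b53200078b)],
  [(nat_lit 2), (nat_lit 0x4251e0012e3)],
  [(nat_lit 2), (nat_lit 0xf142d22000b73)],
  [(nat_lit 2), (nat_lit 0xf54b4e9000e3b)],
  [(nat_lit 2), (nat_lit 0xe94c4fd000f39)],
  [(nat_lit 2), (nat_lit 0x41d24000f75)],
  [(nat_lit 2), (nat_lit 0xf34a90d000f17)],
  [(nat_lit 2), (nat_lit 0x1053b10f00066f)],
  [(nat_lit 2), (nat_lit 0xe74bd2c000901)],
  [(nat_lit 2), (nat_lit 0xf345102002031)],
  [(nat_lit 2), (nat_lit 0x3952d001423)],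
  [(nat_lit 2), (nat_lit 0x48939001645)],
  [(nat_lit 2), (nat_lit 0xee3e93e000e47)],
  [(nat_lit 2), (nat_lit 0xf14a8e7000b8d)],
  [(nat_lit 2), (nat_lit 0xe94fd2a000b37)],
  [(nat_lit 2), (nat_lit 0xec4a13500168d)],
  [(nat_lit 2), (nat_lit 0xe9444f5001169)],
  [(nat_lit 2), (nat_lit 0xe541524001ca9)],
  [(nat_lit 2), (nat_lit 0x1113ed1e000b2f)],
  [(nat_lit 2), (nat_lit 0xf63b135001081)],
  [(nat_lit 2), (nat_lit 0x4c1210017c1)],
  [(nat_lit 2), (nat_lit 0xfa484ef001b05)],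
  [(nat_lit 2), (nat_lit 0x46d2e0006a9)],
  [(nat_lit 2), (nat_lit 0xe545127001b91)],
  [(nat_lit 2), (nat_lit 0xf2441150016b5)],
  [(nat_lit 2), (nat_lit 0x3e13d000e7b)],
  [(nat_lit 2), (nat_lit 0xe34e9400012ad)],
  [(nat_lit 2), (nat_lit 0xe748d3f0005d7)],
  [(nat_lit 2), (nat_lit 0xeb43d34000bcb)],
  [(nat_lit 2), (nat_lit 0x3b507000aab)],
  [(nat_lit 2), (nat_lit 0x3b11b000893)],
  [(nat_lit 2), (nat_lit 0xed4d5010010dd)],
  [(nat_lit 2), (nat_lit 0xe54b90600086b)],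
  [(nat_lit 2), (nat_lit 0xf749d24001495)],
  [(nat_lit 2), (nat_lit 0xed4fcfe001293)],
  [(nat_lit 2), (nat_lit 0xf547d0900100b)],
  [(nat_lit 2), (nat_lit 0xf339d40001233)],
  [(nat_lit 2), (nat_lit 0xfa4892f001921)],
  [(nat_lit 2), (nat_lit 0xed4e136001289)],
  [(nat_lit 2), (nat_lit 0xe34510f000dfb)],
  [(nat_lit 2), (nat_lit 0xec4d5280015e7)],
  [(nat_lit 2), (nat_lit 0x3f91b0004a3)],
  [(nat_lit 2), (nat_lit 0xe942134001411)],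
  [(nat_lit 2), (nat_lit 0xe949d18000741)],
  [(nat_lit 2), (nat_lit 0xe54312a000a2b)],
  [(nat_lit 2), (nat_lit 0xed47932001535)],
  [(nat_lit 2), (nat_lit 0xf24853e0012fb)],
  [(nat_lit 2), (nat_lit 0x1024ed00000d49)],
  [(nat_lit 2), (nat_lit 0x1064c8fd001749)]]
noncomputable def R26 : List (List ℕ) :=
  [[(nat_lit 2), (nat_lit 0x414f4000f85)],
  [(nat_lit 2), (nat_lit 0x44513000ed3)],
  [(nat_lit 2), (nat_lit 0xe94ad3c0017c5)],
  [(nat_lit 2), (nat_lit 0x478f4001d51)],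
  [(nat_lit 2), (nat_lit 0x107445180009e9)],
  [(nat_lit 2), (nat_lit 0x1134912d001479)],
  [(nat_lit 2), (nat_lit 0x10739d000018f9)],
  [(nat_lit 2), (nat_lit 0xf33ed3300020b)],
  [(nat_lit 2), (nat_lit 0xe348d230012c9)],
  [(nat_lit 2), (nat_lit 0xfc46507001b01)],
  [(nat_lit 2), (nat_lit 0xf349506000c01)],
  [(nat_lit 2), (nat_lit 0x10a408fa00164d)],
  [(nat_lit 2), (nat_lit 0x4e5070011e9)],
  [(nat_lit 2), (nat_lit 0xe74ed2b001007)],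
  [(nat_lit 2), (nat_lit 0xe34b93f000b07)],
  [(nat_lit 2), (nat_lit 0xed49928001435)],
  [(nat_lit 2), (nat_lit 0xe54f922001261)],
  [(nat_lit 2), (nat_lit 0xf74ad130011e3)],
  [(nat_lit 2), (nat_lit 0xe53acf100143d)],
  [(nat_lit 2), (nat_lit 0xe543928001fd1)],
  [(nat_lit 2), (nat_lit 0x470e7001c89)],
  [(nat_lit 2), (nat_lit 0xe74fd1d0006a5)],
  [(nat_lit 2), (nat_lit 0x1153b0fc001d6d)],
  [(nat_lit 2), (nat_lit 0xe546106000a19)],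
  [(nat_lit 2), (nat_lit 0xe74fd1d000849)],
  [(nat_lit 2), (nat_lit 0xe34650700077b)],
  [(nat_lit 2), (nat_lit 0xeb4d117000e31)],
  [(nat_lit 2), (nat_lit 0x12046cfb001a7d)],
  [(nat_lit 2), (nat_lit 0xe749d36000a47)],
  [(nat_lit 2), (nat_lit 0xed4cd200008ed)],
  [(nat_lit 2), (nat_lit 0xec488f100125f)],
  [(nat_lit 2), (nat_lit 0xf24dd210014e1)],
  [(nat_lit 2), (nat_lit 0xe542d2f002081)],
  [(nat_lit 2), (nat_lit 0x4292c000c6b)],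
  [(nat_lit 2), (nat_lit 0x1193f11900042f)],
  [(nat_lit 2), (nat_lit 0x1014d121000d7f)],
  [(nat_lit 2), (nat_lit 0x1144c8e700169f)],
  [(nat_lit 2), (nat_lit 0xe3478f3000523)],
  [(nat_lit 2), (nat_lit 0xee4392a000f27)],
  [(nat_lit 2), (nat_lit 0xe3479290008ef)],
  [(nat_lit 2), (nat_lit 0xf448135000f6f)],
  [(nat_lit 2), (nat_lit 0xf247d0300087b)],
  [(nat_lit 2), (nat_lit 0x430f600120b)],
  [(nat_lit 2), (nat_lit 0xe347d3b0008d1)],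
  [(nat_lit 2), (nat_lit 0xf143916001c55)],
  [(nat_lit 2), (nat_lit 0x1004053a001557)],
  [(nat_lit 2), (nat_lit 0xe5459210004db)],
  [(nat_lit 2), (nat_lit 0xf24b8ff0008f9)],
  [(nat_lit 2), (nat_lit 0x10a0015a7)],
  [(nat_lit 2), (nat_lit 0xe7441150007ad)],
  [(nat_lit 2), (nat_lit 0xfb4cd20002089)],
  [(nat_lit 2), (nat_lit 0xf74c5220017bd)],
  [(nat_lit 2), (nat_lit 0xec41934001a1d)],
  [(nat_lit 2), (nat_lit 0xf447d0f000ea7)],
  [(nat_lit 2), (nat_lit 0xed40933001177)],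
  [(nat_lit 2), (nat_lit 0xe74912d000e01)],
  [(nat_lit 2), (nat_lit 0xe9455150017cd)],
  [(nat_lit 2), (nat_lit 0xfb48cec000f67)],
  [(nat_lit 2), (nat_lit 0xe34b91c001491)],
  [(nat_lit 2), (nat_lit 0xeb3f1250015f9)],
  [(nat_lit 2), (nat_lit 0xeb4f9220013db)],
  [(nat_lit 2), (nat_lit 0x3dd25001167)],
  [(nat_lit 2), (nat_lit 0xfc4ed00000663)],
  [(nat_lit 2), (nat_lit 0x494f6000835)],
  [(nat_lit 2), (nat_lit 0x42932000c8f)],
  [(nat_lit 2), (nat_lit 0xf44c13b001579)],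
  [(nat_lit 2), (nat_lit 0x4d4fe001a15)],
  [(nat_lit 2), (nat_lit 0xf94bcee0008ff)],
  [(nat_lit 2), (nat_lit 0x4f8f50003c3)],
  [(nat_lit 2), (nat_lit 0x11b3e119001a3d)],
  [(nat_lit 2), (nat_lit 0x4bcef0012c7)],
  [(nat_lit 2), (nat_lit 0xe94511a001383)],
  [(nat_lit 2), (nat_lit 0x4492d000b6f)],
  [(nat_lit 2), (nat_lit 0xe34a93500156d)],
  [(nat_lit 2), (nat_lit 0x444ec00175d)],
  [(nat_lit 2), (nat_lit 0xe34f52d001d59)],
  [(nat_lit 2), (nat_lit 0xe744d2800176b)],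
  [(nat_lit 2), (nat_lit 0xf14411900177f)],
  [(nat_lit 2), (nat_lit 0xfa3ed38000cf9)],
  [(nat_lit 2), (nat_lit 0x1034810d000c1d)],
  [(nat_lit 2), (nat_lit 0x4611b001a29)],
  [(nat_lit 2), (nat_lit 0xf648513000e4d)],
  [(nat_lit 2), (nat_lit 0xe941d1f001561)],
  [(nat_lit 2), (nat_lit 0xed42118001433)],
  [(nat_lit 2), (nat_lit 0xe34f13d00132d)],
  [(nat_lit 2), (nat_lit 0xf14cce7001165)],
  [(nat_lit 2), (nat_lit 0xf1498f600124d)],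
  [(nat_lit 2), (nat_lit 0x10141d0d0021b9)],
  [(nat_lit 2), (nat_lit 0xf94c12c000a5f)],
  [(nat_lit 2), (nat_lit 0x10d4f140000bbd)],
  [(nat_lit 2), (nat_lit 0xeb3e925001419)],
  [(nat_lit 2), (nat_lit 0xf141d390015d1)],
  [(nat_lit 2), (nat_lit 0xe747921001c31)],
  [(nat_lit 2), (nat_lit 0x40d0b001353)],
  [(nat_lit 2), (nat_lit 0x108470f1000c19)],
  [(nat_lit 2), (nat_lit 0xfb3e90f001505)],
  [(nat_lit 2), (nat_lit 0xf34153e001653)],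
  [(nat_lit 2), (nat_lit 0xe74d1050006f3)],
  [(nat_lit 2), (nat_lit 0xe94c5210019a1)],
  [(nat_lit 2), (nat_lit 0xec4b52100175b)],
  [(nat_lit 2), (nat_lit 0xe54451c001789)],
  [(nat_lit 2), (nat_lit 0xf74890f000f33)],
  [(nat_lit 2), (nat_lit 0xe33c53c000353)],
  [(nat_lit 2), (nat_lit 0xf64c12e000d7b)],
  [(nat_lit 2), (nat_lit 0xfc485110013c9)],
  [(nat_lit 2), (nat_lit 0xf345102001303)],
  [(nat_lit 2), (nat_lit 0xe5418eb000b47)],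
  [(nat_lit 2), (nat_lit 0xf83c5080012eb)],
  [(nat_lit 2), (nat_lit 0xf149d3b000c51)],
  [(nat_lit 2), (nat_lit 0xf644133000cd5)],
  [(nat_lit 2), (nat_lit 0xeb4511a0009e1)],
  [(nat_lit 2), (nat_lit 0xf33e8f7000bad)],
  [(nat_lit 2), (nat_lit 0xfa42136001213)],
  [(nat_lit 2), (nat_lit 0xe5444eb00135f)],
  [(nat_lit 2), (nat_lit 0xe7409280016b3)],
  [(nat_lit 2), (nat_lit 0x4cd13001553)],
  [(nat_lit 2), (nat_lit 0xe748cfd000e43)],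
  [(nat_lit 2), (nat_lit 0x4b8f3001523)],
  [(nat_lit 2), (nat_lit 0xeb5013e000bbf)],
  [(nat_lit 2), (nat_lit 0xf14211d00167b)],
  [(nat_lit 2), (nat_lit 0xe94851500122d)],
  [(nat_lit 2), (nat_lit 0xef499280006bd)],
  [(nat_lit 2), (nat_lit 0x1024812d001713)],
  [(nat_lit 2), (nat_lit 0x4613c00157d)],
  [(nat_lit 2), (nat_lit 0xec41511001b35)],
  [(nat_lit 2), (nat_lit 0xeb4e4e9001605)],
  [(nat_lit 2), (nat_lit 0xe94fd0f000a5d)],
  [(nat_lit 2), (nat_lit 0xed40507001593)],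
  [(nat_lit 2), (nat_lit 0xe54390f001c0d)],
  [(nat_lit 2), (nat_lit 0x48d01000333)],
  [(nat_lit 2), (nat_lit 0xe53a5060017c3)],
  [(nat_lit 2), (nat_lit 0x3bcf7001fd5)],
  [(nat_lit 2), (nat_lit 0xe53e9340020a1)],
  [(nat_lit 2), (nat_lit 0xed40111000d45)],
  [(nat_lit 2), (nat_lit 0x3e112000a17)],
  [(nat_lit 2), (nat_lit 0x4212f000c11)],
  [(nat_lit 2), (nat_lit 0xe74493f0012a1)],
  [(nat_lit 2), (nat_lit 0xeb43ceb000b41)],
  [(nat_lit 2), (nat_lit 0x4e51f001731)],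
  [(nat_lit 2), (nat_lit 0xee5012300210d)],
  [(nat_lit 2), (nat_lit 0xee45512000d25)],
  [(nat_lit 2), (nat_lit 0x4211d0010c5)],
  [(nat_lit 2), (nat_lit 0xec4393e000c0f)],
  [(nat_lit 2), (nat_lit 0xed4b10f001023)],
  [(nat_lit 2), (nat_lit 0xeb4c0f50017f5)],
  [(nat_lit 2), (nat_lit 0xe93d13200140d)],
  [(nat_lit 2), (nat_lit 0x10149cf400093b)],
  [(nat_lit 2), (nat_lit 0xe34a12a000cf7)],
  [(nat_lit 2), (nat_lit 0x4c924001343)],
  [(nat_lit 2), (nat_lit 0xf34bd11001241)],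
  [(nat_lit 2), (nat_lit 0xf44690e000f13)],
  [(nat_lit 2), (nat_lit 0xee484fb000f8d)],
  [(nat_lit 2), (nat_lit 0xfc488ec000677)],
  [(nat_lit 2), (nat_lit 0xf34b4f40021dd)],
  [(nat_lit 2), (nat_lit 0x10546d3e000c9b)],
  [(nat_lit 2), (nat_lit 0xe945913000e6f)],
  [(nat_lit 2), (nat_lit 0xe7484f70012a5)],
  [(nat_lit 2), (nat_lit 0xed4fd1d000cef)],
  [(nat_lit 2), (nat_lit 0xef4c13d001253)],
  [(nat_lit 2), (nat_lit 0xe34fd00000a85)],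
  [(nat_lit 2), (nat_lit 0x11749d3d000d47)],
  [(nat_lit 2), (nat_lit 0xf94ed29000b5b)],
  [(nat_lit 2), (nat_lit 0xeb3e937000ea1)],
  [(nat_lit 2), (nat_lit 0xfa3d1170006bf)],
  [(nat_lit 2), (nat_lit 0xf54b518001497)],
  [(nat_lit 2), (nat_lit 0xe74612f001d9d)],
  [(nat_lit 2), (nat_lit 0xf346132000557)],
  [(nat_lit 2), (nat_lit 0xf946cfd001455)],
  [(nat_lit 2), (nat_lit 0xec4851300103b)],
  [(nat_lit 2), (nat_lit 0x10d3e533001501)],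
  [(nat_lit 2), (nat_lit 0x3ed1e00193d)],
  [(nat_lit 2), (nat_lit 0x41d17001397)],
  [(nat_lit 2), (nat_lit 0xfb4f0fb000f4b)],
  [(nat_lit 2), (nat_lit 0x10845508001207)],
  [(nat_lit 2), (nat_lit 0x10b4a53900114f)],
  [(nat_lit 2), (nat_lit 0xfb41d140016ad)],
  [(nat_lit 2), (nat_lit 0x3a4fb0008dd)],
  [(nat_lit 2), (nat_lit 0xf14993c001441)],
  [(nat_lit 2), (nat_lit 0xe34f10a0014b9)],
  [(nat_lit 2), (nat_lit 0xe74553900083d)],
  [(nat_lit 2), (nat_lit 0xf34950d00025f)],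
  [(nat_lit 2), (nat_lit 0xfb4ecec000ba5)],
  [(nat_lit 2), (nat_lit 0xe74f9070021d5)],
  [(nat_lit 2), (nat_lit 0xe749522002025)],
  [(nat_lit 2), (nat_lit 0xec4a92f000bfb)],
  [(nat_lit 2), (nat_lit 0xf14c105000a07)],
  [(nat_lit 2), (nat_lit 0xe7474e900165b)],
  [(nat_lit 2), (nat_lit 0xee46d2a00067f)],
  [(nat_lit 2), (nat_lit 0xf14ed1f000d31)],
  [(nat_lit 2), (nat_lit 0xe945119000257)],
  [(nat_lit 2), (nat_lit 0xef48914000829)],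
  [(nat_lit 2), (nat_lit 0xf2468ec0015db)],
  [(nat_lit 2), (nat_lit 0xe95011600122f)],
  [(nat_lit 2), (nat_lit 0xf34311b0001af)],
  [(nat_lit 2), (nat_lit 0xeb4cd32001bcd)],
  [(nat_lit 2), (nat_lit 0xe9429170014ef)],
  [(nat_lit 2), (nat_lit 0x1064fd1200079d)],
  [(nat_lit 2), (nat_lit 0xee45d2a00159f)],
  [(nat_lit 2), (nat_lit 0xe53f93300054b)],
  [(nat_lit 2), (nat_lit 0xe73f8e90021c5)],
  [(nat_lit 2), (nat_lit 0xef3d4fa001ccd)],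
  [(nat_lit 2), (nat_lit 0xeb3f534001d21)],
  [(nat_lit 2), (nat_lit 0x1014851a000d2d)],
  [(nat_lit 2), (nat_lit 0x3c90b001761)],
  [(nat_lit 2), (nat_lit 0xe948138000f3b)],
  [(nat_lit 2), (nat_lit 0xf14e8f6001d7d)],
  [(nat_lit 2), (nat_lit 0xef481380005c7)],
  [(nat_lit 2), (nat_lit 0xf3435140015ed)],
  [(nat_lit 2), (nat_lit 0xe349122001499)],
  [(nat_lit 2), (nat_lit 0xf84fcf3000c4d)],
  [(nat_lit 2), (nat_lit 0xe341d33001323)],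
  [(nat_lit 2), (nat_lit 0xe743cfc000f4f)],
  [(nat_lit 2), (nat_lit 0x478f6001143)],
  [(nat_lit 2), (nat_lit 0x1054c9260017af)],
  [(nat_lit 2), (nat_lit 0xe544535001393)],
  [(nat_lit 2), (nat_lit 0xe74ed16002171)],
  [(nat_lit 2), (nat_lit 0xfd46110000eeb)],
  [(nat_lit 2), (nat_lit 0xe94292f000c41)],
  [(nat_lit 2), (nat_lit 0xef4a106000223)],
  [(nat_lit 2), (nat_lit 0xfa4f9370013eb)],
  [(nat_lit 2), (nat_lit 0xee3dd2e000d1f)],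
  [(nat_lit 2), (nat_lit 0xe943135001b3d)],
  [(nat_lit 2), (nat_lit 0xe54853100154b)],
  [(nat_lit 2), (nat_lit 0xe34b920001545)],
  [(nat_lit 2), (nat_lit 0xf34511c0016b1)],
  [(nat_lit 2), (nat_lit 0xf14c4e3000cc1)],
  [(nat_lit 2), (nat_lit 0xf93ed2b0011e7)],
  [(nat_lit 2), (nat_lit 0x4713f001a0d)],
  [(nat_lit 2), (nat_lit 0xeb3e924000923)],
  [(nat_lit 2), (nat_lit 0xe7484e7000bcd)],
  [(nat_lit 2), (nat_lit 0xeb4210f000e59)],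
  [(nat_lit 2), (nat_lit 0xe950139001043)],
  [(nat_lit 2), (nat_lit 0x494e70006d3)],
  [(nat_lit 2), (nat_lit 0xe74e4fb001601)],
  [(nat_lit 2), (nat_lit 0xe73f13b000f43)],
  [(nat_lit 2), (nat_lit 0xe9474e7000427)],
  [(nat_lit 2), (nat_lit 0xe74d50a000b63)],
  [(nat_lit 2), (nat_lit 0x10747938001437)],
  [(nat_lit 2), (nat_lit 0xfc4a51000115d)],
  [(nat_lit 2), (nat_lit 0xee47937000d15)],
  [(nat_lit 2), (nat_lit 0x4390200178b)],
  [(nat_lit 2), (nat_lit 0xfa42d2a001089)],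
  [(nat_lit 2), (nat_lit 0xe34093f00093f)],
  [(nat_lit 2), (nat_lit 0xe33e4e9000843)],
  [(nat_lit 2), (nat_lit 0x1024bcee000b93)],
  [(nat_lit 2), (nat_lit 0xf33c91f0014a3)],
  [(nat_lit 2), (nat_lit 0xe94a53b001307)],
  [(nat_lit 2), (nat_lit 0xe54d4ff00099f)],
  [(nat_lit 2), (nat_lit 0xf44a1300009bd)],
  [(nat_lit 2), (nat_lit 0xf83d11e0016a5)],
  [(nat_lit 2), (nat_lit 0x430f6001655)],
  [(nat_lit 2), (nat_lit 0xe9465270017f1)],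
  [(nat_lit 2), (nat_lit 0x4713e001367)],
  [(nat_lit 2), (nat_lit 0xf6454fb0010b1)],
  [(nat_lit 2), (nat_lit 0xe545907000d37)],
  [(nat_lit 2), (nat_lit 0xe54ed36001087)],
  [(nat_lit 2), (nat_lit 0xee47cef0016cb)],
  [(nat_lit 2), (nat_lit 0xeb45529000b3d)],
  [(nat_lit 2), (nat_lit 0x4310f0015ff)],
  [(nat_lit 2), (nat_lit 0x4093b0005a7)],
  [(nat_lit 2), (nat_lit 0xf53f12c00128b)],
  [(nat_lit 2), (nat_lit 0x49cfb0010a5)],
  [(nat_lit 2), (nat_lit 0xee4a4fd00046f)],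
  [(nat_lit 2), (nat_lit 0xe345134000d59)],
  [(nat_lit 2), (nat_lit 0x38cee002115)],
  [(nat_lit 2), (nat_lit 0x3b51e0008db)],
  [(nat_lit 2), (nat_lit 0xe5480ee000f7f)],
  [(nat_lit 2), (nat_lit 0xf64bcf90015fd)],
  [(nat_lit 2), (nat_lit 0x40112001707)],
  [(nat_lit 2), (nat_lit 0xe33b50f001239)],
  [(nat_lit 2), (nat_lit 0xed41ced0015d3)],
  [(nat_lit 2), (nat_lit 0xed4594000090f)],
  [(nat_lit 2), (nat_lit 0xf14613a001375)],
  [(nat_lit 2), (nat_lit 0xe54390f001379)],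
  [(nat_lit 2), (nat_lit 0xe940930000d8d)],
  [(nat_lit 2), (nat_lit 0xe74c50b001a79)],
  [(nat_lit 2), (nat_lit 0xe942d35001d39)],
  [(nat_lit 2), (nat_lit 0x3f53f00171f)],
  [(nat_lit 2), (nat_lit 0xe545519000db9)],
  [(nat_lit 2), (nat_lit 0xec44d2f001da5)],
  [(nat_lit 2), (nat_lit 0x10744d400010ad)],
  [(nat_lit 2), (nat_lit 0x4c906001573)],
  [(nat_lit 2), (nat_lit 0xe33d116000a03)],
  [(nat_lit 2), (nat_lit 0x3cd07000919)],
  [(nat_lit 2), (nat_lit 0xf1491190008e5)],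
  [(nat_lit 2), (nat_lit 0x41cf4001745)],
  [(nat_lit 2), (nat_lit 0xe54d5160016d7)],
  [(nat_lit 2), (nat_lit 0xec41d0c001377)],
  [(nat_lit 2), (nat_lit 0x4c928000deb)],
  [(nat_lit 2), (nat_lit 0xf749d03000f45)],
  [(nat_lit 2), (nat_lit 0x419080011f7)],
  [(nat_lit 2), (nat_lit 0xe53cd360007b3)],
  [(nat_lit 2), (nat_lit 0xef3d515000ed9)],
  [(nat_lit 2), (nat_lit 0xe7499080015e5)],
  [(nat_lit 2), (nat_lit 0xe749135000ee5)],
  [(nat_lit 2), (nat_lit 0x1094a4e70001e7)],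
  [(nat_lit 2), (nat_lit 0x4993200169b)],
  [(nat_lit 2), (nat_lit 0xfc4bd17000ceb)],
  [(nat_lit 2), (nat_lit 0xe53b51b0017e9)],
  [(nat_lit 2), (nat_lit 0xf3441260020a5)],
  [(nat_lit 2), (nat_lit 0xe33a524001331)],
  [(nat_lit 2), (nat_lit 0x4e0f40016c3)],
  [(nat_lit 2), (nat_lit 0x3f13c000f2d)],
  [(nat_lit 2), (nat_lit 0xf2418fb00166f)],
  [(nat_lit 2), (nat_lit 0xfc4a9210016f9)],
  [(nat_lit 2), (nat_lit 0xe74c4f1001609)],
  [(nat_lit 2), (nat_lit 0xed42108000905)],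
  [(nat_lit 2), (nat_lit 0xe543501000ce9)],
  [(nat_lit 2), (nat_lit 0xf14ed1b001151)],
  [(nat_lit 2), (nat_lit 0x4a9400017d9)],
  [(nat_lit 2), (nat_lit 0xec4b8f30005ef)],
  [(nat_lit 2), (nat_lit 0xeb4a51f0017e7)],
  [(nat_lit 2), (nat_lit 0x4c10c00170f)],
  [(nat_lit 2), (nat_lit 0xfc40917001d41)],
  [(nat_lit 2), (nat_lit 0xec429240016f7)],
  [(nat_lit 2), (nat_lit 0x11850119001717)],
  [(nat_lit 2), (nat_lit 0xe73cd20001d5d)],
  [(nat_lit 2), (nat_lit 0xe94e509000be3)],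
  [(nat_lit 2), (nat_lit 0xec485130009dd)],
  [(nat_lit 2), (nat_lit 0xfb4a121000bc7)],
  [(nat_lit 2), (nat_lit 0xfb3fd40001569)],
  [(nat_lit 2), (nat_lit 0xf14c0e9000d69)],
  [(nat_lit 2), (nat_lit 0xf24d0e9000fef)],
  [(nat_lit 2), (nat_lit 0x10e4fd3b0013a9)],
  [(nat_lit 2), (nat_lit 0xe73bd16001799)],
  [(nat_lit 2), (nat_lit 0xfb4ecf100160f)],
  [(nat_lit 2), (nat_lit 0x4491e0009d5)],
  [(nat_lit 2), (nat_lit 0x38cf1001347)],
  [(nat_lit 2), (nat_lit 0xe33d10c00108b)],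
  [(nat_lit 2), (nat_lit 0xf4415270009a7)],
  [(nat_lit 2), (nat_lit 0xf445d3e001345)],
  [(nat_lit 2), (nat_lit 0xee484fb0001a3)],
  [(nat_lit 2), (nat_lit 0xeb4b92a00153f)],
  [(nat_lit 2), (nat_lit 0x48d11001175)],
  [(nat_lit 2), (nat_lit 0xe94c8f2000bcf)],
  [(nat_lit 2), (nat_lit 0x395370007b5)],
  [(nat_lit 2), (nat_lit 0x10b4253d0007c3)],
  [(nat_lit 2), (nat_lit 0xe74e1350016c1)],
  [(nat_lit 2), (nat_lit 0x4f93800074f)],
  [(nat_lit 2), (nat_lit 0xe343d33001c5d)],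
  [(nat_lit 2), (nat_lit 0xfc4fcfd00039b)],
  [(nat_lit 2), (nat_lit 0xff4cd12000b23)],
  [(nat_lit 2), (nat_lit 0xee49914000e67)],
  [(nat_lit 2), (nat_lit 0xe93f131001b49)],
  [(nat_lit 2), (nat_lit 0xe33a53b000bdf)],
  [(nat_lit 2), (nat_lit 0xe74cd0000173f)],
  [(nat_lit 2), (nat_lit 0xf448934000edf)],
  [(nat_lit 2), (nat_lit 0xe74653b0008c5)],
  [(nat_lit 2), (nat_lit 0xf2499030012c3)],
  [(nat_lit 2), (nat_lit 0xe54a93f00048b)],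
  [(nat_lit 2), (nat_lit 0xe53b51a00212d)],
  [(nat_lit 2), (nat_lit 0xec41d35000e5d)],
  [(nat_lit 2), (nat_lit 0x475130015f1)],
  [(nat_lit 2), (nat_lit 0x4dd1a0016e1)],
  [(nat_lit 2), (nat_lit 0x106484eb00154f)],
  [(nat_lit 2), (nat_lit 0xf94c114001687)],
  [(nat_lit 2), (nat_lit 0xe93c91e000e4b)],
  [(nat_lit 2), (nat_lit 0xec4813c0015af)],
  [(nat_lit 2), (nat_lit 0xf14c50100158b)],
  [(nat_lit 2), (nat_lit 0xf547131000e81)],
  [(nat_lit 2), (nat_lit 0xee458f300139b)],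
  [(nat_lit 2), (nat_lit 0x11b3e1190008e9)],
  [(nat_lit 2), (nat_lit 0xf3449080017b5)],
  [(nat_lit 2), (nat_lit 0xe94ed00001647)],
  [(nat_lit 2), (nat_lit 0xe740526002085)],
  [(nat_lit 2), (nat_lit 0x4bceb000b9b)],
  [(nat_lit 2), (nat_lit 0xf8405230005bb)],
  [(nat_lit 2), (nat_lit 0xfc42cf400043b)],
  [(nat_lit 2), (nat_lit 0xec48134000999)],
  [(nat_lit 2), (nat_lit 0xef3f9360015b5)],
  [(nat_lit 2), (nat_lit 0xfa4ad36000a81)],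
  [(nat_lit 2), (nat_lit 0xe34713c001675)],
  [(nat_lit 2), (nat_lit 0xf44810300080f)],
  [(nat_lit 2), (nat_lit 0xfc46900000b97)],
  [(nat_lit 2), (nat_lit 0x1073d911000ce1)],
  [(nat_lit 2), (nat_lit 0xff47cf60009c3)],
  [(nat_lit 2), (nat_lit 0xe74913f0013b9)],
  [(nat_lit 2), (nat_lit 0xe34d12a000ecb)],
  [(nat_lit 2), (nat_lit 0xf9420ed0011cf)],
  [(nat_lit 2), (nat_lit 0x4511f001705)],
  [(nat_lit 2), (nat_lit 0x10a4d92e00047f)],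
  [(nat_lit 2), (nat_lit 0xeb4b12a001ca1)],
  [(nat_lit 2), (nat_lit 0xec501240009e3)],
  [(nat_lit 2), (nat_lit 0x43513000bc9)],
  [(nat_lit 2), (nat_lit 0xf448935000f61)],
  [(nat_lit 2), (nat_lit 0xe949536000e41)],
  [(nat_lit 2), (nat_lit 0x4d0f600164f)],
  [(nat_lit 2), (nat_lit 0xe7404ec001269)],
  [(nat_lit 2), (nat_lit 0xfb49513001909)],
  [(nat_lit 2), (nat_lit 0xe94d8fc00161b)],
  [(nat_lit 2), (nat_lit 0xf34b92300145d)],
  [(nat_lit 2), (nat_lit 0xf84bd22001b61)],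
  [(nat_lit 2), (nat_lit 0xe33c4fc00074b)],
  [(nat_lit 2), (nat_lit 0x458f3000c9f)],
  [(nat_lit 2), (nat_lit 0x1184351800035b)],
  [(nat_lit 2), (nat_lit 0xe93e937000867)],
  [(nat_lit 2), (nat_lit 0xe53c9280015e1)],
  [(nat_lit 2), (nat_lit 0xeb40d400005f7)],
  [(nat_lit 2), (nat_lit 0xf44d10b001099)],
  [(nat_lit 2), (nat_lit 0xef4e52a0015b1)]]
noncomputable def R27 : List (List ℕ) :=
  [[(nat_lit 2), (nat_lit 0xe3445400019ad)],
  [(nat_lit 2), (nat_lit 0xeb4f9330003ab)],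
  [(nat_lit 2), (nat_lit 0x3c914001be5)],
  [(nat_lit 2), (nat_lit 0x3ad08001163)],
  [(nat_lit 2), (nat_lit 0xf33e13f000d8f)],
  [(nat_lit 2), (nat_lit 0xf13d11d0010c7)],
  [(nat_lit 2), (nat_lit 0x3a51c0013af)],
  [(nat_lit 2), (nat_lit 0x1184a5130009c7)],
  [(nat_lit 2), (nat_lit 0xf44c52f000d5f)],
  [(nat_lit 2), (nat_lit 0xf64cd3b000b9f)],
  [(nat_lit 2), (nat_lit 0xeb3e8e90010af)],
  [(nat_lit 2), (nat_lit 0x4f927000793)],
  [(nat_lit 2), (nat_lit 0x4251e001301)],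
  [(nat_lit 2), (nat_lit 0xeb4610800032f)],
  [(nat_lit 2), (nat_lit 0xfb4413b00178d)],
  [(nat_lit 2), (nat_lit 0x3b0f100140f)],
  [(nat_lit 2), (nat_lit 0xe74891c0010bb)],
  [(nat_lit 2), (nat_lit 0xf8405050016c5)],
  [(nat_lit 2), (nat_lit 0x4bceb0012d5)],
  [(nat_lit 2), (nat_lit 0x1053cd030002d7)],
  [(nat_lit 2), (nat_lit 0xe548d130007f5)],
  [(nat_lit 2), (nat_lit 0x47d0d00050b)],
  [(nat_lit 2), (nat_lit 0xf74e13500163d)],
  [(nat_lit 2), (nat_lit 0xf844cfb00119f)],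
  [(nat_lit 2), (nat_lit 0x421180002bf)],
  [(nat_lit 2), (nat_lit 0xec3b94000058b)],
  [(nat_lit 2), (nat_lit 0xee4e13d0010c9)],
  [(nat_lit 2), (nat_lit 0x4ed2b0021d1)],
  [(nat_lit 2), (nat_lit 0xe74f140000ce5)],
  [(nat_lit 2), (nat_lit 0xe34d50600094b)],
  [(nat_lit 2), (nat_lit 0xee42133000ef3)],
  [(nat_lit 2), (nat_lit 0xee44d250014f9)],
  [(nat_lit 2), (nat_lit 0x3e53a0004e7)],
  [(nat_lit 2), (nat_lit 0xe34911b000faf)],
  [(nat_lit 2), (nat_lit 0xf142927001429)],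
  [(nat_lit 2), (nat_lit 0xf341d120017a3)],
  [(nat_lit 2), (nat_lit 0xe342520000c63)],
  [(nat_lit 2), (nat_lit 0x12746d1000029f)],
  [(nat_lit 2), (nat_lit 0xe341d060009cf)],
  [(nat_lit 2), (nat_lit 0xe74d10c0012fd)],
  [(nat_lit 2), (nat_lit 0xf33ccf7002035)],
  [(nat_lit 2), (nat_lit 0xe94b519002175)],
  [(nat_lit 2), (nat_lit 0xef499320017a5)],
  [(nat_lit 2), (nat_lit 0xef4f937000b65)],
  [(nat_lit 2), (nat_lit 0x43cee0013b3)],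
  [(nat_lit 2), (nat_lit 0xf13d121000b4d)],
  [(nat_lit 2), (nat_lit 0xe94913a001683)],
  [(nat_lit 2), (nat_lit 0xf347517000ce3)],
  [(nat_lit 2), (nat_lit 0xe73bd29001107)],
  [(nat_lit 2), (nat_lit 0x10f4e8e90011b5)],
  [(nat_lit 2), (nat_lit 0xf141d27000357)],
  [(nat_lit 2), (nat_lit 0xe33fd13001cdd)],
  [(nat_lit 2), (nat_lit 0xee45529000e19)],
  [(nat_lit 2), (nat_lit 0x3f92d001091)],
  [(nat_lit 2), (nat_lit 0xf64d908000ae3)],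
  [(nat_lit 2), (nat_lit 0xe94fcf90006cf)],
  [(nat_lit 2), (nat_lit 0xe53cd40000ec1)],
  [(nat_lit 2), (nat_lit 0xe34e935001123)],
  [(nat_lit 2), (nat_lit 0x1113f10e00143f)],
  [(nat_lit 2), (nat_lit 0xe34d9070011d7)],
  [(nat_lit 2), (nat_lit 0xf34ed3500022b)],
  [(nat_lit 2), (nat_lit 0x3d91800127f)],
  [(nat_lit 2), (nat_lit 0x3e50d000787)],
  [(nat_lit 2), (nat_lit 0xe74511d001915)],
  [(nat_lit 2), (nat_lit 0xfc4a53a00177d)],
  [(nat_lit 2), (nat_lit 0xf24051d0013ef)],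
  [(nat_lit 2), (nat_lit 0xed4ccf4001325)],
  [(nat_lit 2), (nat_lit 0xe54f12a000313)],
  [(nat_lit 2), (nat_lit 0xfb43d3d001095)],
  [(nat_lit 2), (nat_lit 0xfe4152900147f)],
  [(nat_lit 2), (nat_lit 0xe54950800046b)],
  [(nat_lit 2), (nat_lit 0x430f5001181)],
  [(nat_lit 2), (nat_lit 0xf6478fe001935)],
  [(nat_lit 2), (nat_lit 0xe74bced000ab3)],
  [(nat_lit 2), (nat_lit 0xf549923000b43)],
  [(nat_lit 2), (nat_lit 0xe93c52f001da9)],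
  [(nat_lit 2), (nat_lit 0x4a11d000a8d)],
  [(nat_lit 2), (nat_lit 0xe34bcfa00126b)],
  [(nat_lit 2), (nat_lit 0xe34d0ff00040b)],
  [(nat_lit 2), (nat_lit 0x40cf2001281)],
  [(nat_lit 2), (nat_lit 0x3bd28000e13)],
  [(nat_lit 2), (nat_lit 0xed498f4001149)],
  [(nat_lit 2), (nat_lit 0xec3d91100178f)],
  [(nat_lit 2), (nat_lit 0xe3491220003af)],
  [(nat_lit 2), (nat_lit 0xed4591f00137d)],
  [(nat_lit 2), (nat_lit 0xe746514001559)],
  [(nat_lit 2), (nat_lit 0x1014ad18001613)],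
  [(nat_lit 2), (nat_lit 0xed4bd150008f1)],
  [(nat_lit 2), (nat_lit 0xe54c921000bd9)],
  [(nat_lit 2), (nat_lit 0xe347d3e000e57)],
  [(nat_lit 2), (nat_lit 0x1174590500057f)],
  [(nat_lit 2), (nat_lit 0xf23e93b0006df)],
  [(nat_lit 2), (nat_lit 0xe749907001183)],
  [(nat_lit 2), (nat_lit 0xf74412e0013bd)],
  [(nat_lit 2), (nat_lit 0xe34d4fc000763)],
  [(nat_lit 2), (nat_lit 0x4b131001763)],
  [(nat_lit 2), (nat_lit 0x4a8ed00176d)],
  [(nat_lit 2), (nat_lit 0xe7489380001db)],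
  [(nat_lit 2), (nat_lit 0xf44e93800019f)],
  [(nat_lit 2), (nat_lit 0xf54fd0f001171)],
  [(nat_lit 2), (nat_lit 0xe94b4ec00052b)],
  [(nat_lit 2), (nat_lit 0x478f4000a4d)],
  [(nat_lit 2), (nat_lit 0xfe41d37001607)],
  [(nat_lit 2), (nat_lit 0xe94392a001a11)],
  [(nat_lit 2), (nat_lit 0xf34892d0007bf)],
  [(nat_lit 2), (nat_lit 0xf54391f00085d)],
  [(nat_lit 2), (nat_lit 0xeb4f11900142d)],
  [(nat_lit 2), (nat_lit 0xe7421360017b3)],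
  [(nat_lit 2), (nat_lit 0x3e532000657)],
  [(nat_lit 2), (nat_lit 0x10c49128000d29)],
  [(nat_lit 2), (nat_lit 0xf5479300014cf)],
  [(nat_lit 2), (nat_lit 0x4311e000d2f)],
  [(nat_lit 2), (nat_lit 0xe345d20000bc1)],
  [(nat_lit 2), (nat_lit 0xf34b5210017ad)],
  [(nat_lit 2), (nat_lit 0xfc409320009db)],
  [(nat_lit 2), (nat_lit 0xed4c0ee0020c5)],
  [(nat_lit 2), (nat_lit 0xe948913001067)],
  [(nat_lit 2), (nat_lit 0xf44c8f4001211)],
  [(nat_lit 2), (nat_lit 0xef4a513001701)],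
  [(nat_lit 2), (nat_lit 0xef45d07000c49)],
  [(nat_lit 2), (nat_lit 0xfb46d05000b0b)],
  [(nat_lit 2), (nat_lit 0xe34a0f30001bf)],
  [(nat_lit 2), (nat_lit 0x10c4a92b00107b)],
  [(nat_lit 2), (nat_lit 0xec4d529001413)],
  [(nat_lit 2), (nat_lit 0x4c0fc001121)],
  [(nat_lit 2), (nat_lit 0xe94f934001fe1)],
  [(nat_lit 2), (nat_lit 0xf84c9200015ad)],
  [(nat_lit 2), (nat_lit 0xe545d22001d91)],
  [(nat_lit 2), (nat_lit 0xf74c53a00064b)],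
  [(nat_lit 2), (nat_lit 0xf246cf2000991)],
  [(nat_lit 2), (nat_lit 0x3c5120007b7)],
  [(nat_lit 2), (nat_lit 0x3a52200116f)],
  [(nat_lit 2), (nat_lit 0xe94a13b001013)],
  [(nat_lit 2), (nat_lit 0xe348d11001255)],
  [(nat_lit 2), (nat_lit 0x3b927000de7)],
  [(nat_lit 2), (nat_lit 0xf14f5150014cb)],
  [(nat_lit 2), (nat_lit 0xe34313c001703)],
  [(nat_lit 2), (nat_lit 0xe73cd3500199d)],
  [(nat_lit 2), (nat_lit 0xed45d0800111b)],
  [(nat_lit 2), (nat_lit 0x1024090d0014f1)],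
  [(nat_lit 2), (nat_lit 0xe3488e9001085)],
  [(nat_lit 2), (nat_lit 0xeb3e51d000707)],
  [(nat_lit 2), (nat_lit 0xee42532000aa7)],
  [(nat_lit 2), (nat_lit 0x10045119001533)],
  [(nat_lit 2), (nat_lit 0xec4891d0004bf)],
  [(nat_lit 2), (nat_lit 0xf34711700035f)],
  [(nat_lit 2), (nat_lit 0x4f4f80017a7)],
  [(nat_lit 2), (nat_lit 0xff4cd18001d45)],
  [(nat_lit 2), (nat_lit 0xe34bd36001a19)],
  [(nat_lit 2), (nat_lit 0xe343d200012af)],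
  [(nat_lit 2), (nat_lit 0x1024fd1a000e11)],
  [(nat_lit 2), (nat_lit 0xe74a8f50016db)],
  [(nat_lit 2), (nat_lit 0x1074413d0013ff)],
  [(nat_lit 2), (nat_lit 0xeb47d3e001627)],
  [(nat_lit 2), (nat_lit 0xeb43ceb000d13)],
  [(nat_lit 2), (nat_lit 0xe7401200013ab)],
  [(nat_lit 2), (nat_lit 0x1034d10b00082f)],
  [(nat_lit 2), (nat_lit 0x10141d170012f5)],
  [(nat_lit 2), (nat_lit 0xe9484ff0010b3)],
  [(nat_lit 2), (nat_lit 0xf548d0600121f)],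
  [(nat_lit 2), (nat_lit 0xe94851b0011db)],
  [(nat_lit 2), (nat_lit 0xf34912500155f)],
  [(nat_lit 2), (nat_lit 0xee455140009c5)],
  [(nat_lit 2), (nat_lit 0x3bd09001515)],
  [(nat_lit 2), (nat_lit 0xef3b11e000f99)],
  [(nat_lit 2), (nat_lit 0xef3d92e00059b)],
  [(nat_lit 2), (nat_lit 0xec4392a000bd5)],
  [(nat_lit 2), (nat_lit 0xe34d8ef000c17)],
  [(nat_lit 2), (nat_lit 0xee46902000c83)],
  [(nat_lit 2), (nat_lit 0xe9461180015ab)],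
  [(nat_lit 2), (nat_lit 0xf94d50e0014db)],
  [(nat_lit 2), (nat_lit 0x10645d17001155)],
  [(nat_lit 2), (nat_lit 0xe94a519001355)],
  [(nat_lit 2), (nat_lit 0xe94c8fa000a89)],
  [(nat_lit 2), (nat_lit 0x11147d07001783)],
  [(nat_lit 2), (nat_lit 0xfe4b4fc001d49)],
  [(nat_lit 2), (nat_lit 0xe94ed1b001467)],
  [(nat_lit 2), (nat_lit 0xf149d31000cc3)],
  [(nat_lit 2), (nat_lit 0x3a51a000cf1)],
  [(nat_lit 2), (nat_lit 0xe9414fc0019a9)],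
  [(nat_lit 2), (nat_lit 0xe5459350003a7)],
  [(nat_lit 2), (nat_lit 0xe74d50a0012b3)],
  [(nat_lit 2), (nat_lit 0x4b9180017a9)],
  [(nat_lit 2), (nat_lit 0xe746539001649)],
  [(nat_lit 2), (nat_lit 0xec43928001d61)],
  [(nat_lit 2), (nat_lit 0xec4f93700045f)],
  [(nat_lit 2), (nat_lit 0x1084b11d000df9)],
  [(nat_lit 2), (nat_lit 0xf33dd2900082b)],
  [(nat_lit 2), (nat_lit 0xff4ed3100124b)],
  [(nat_lit 2), (nat_lit 0xe3418ff000963)],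
  [(nat_lit 2), (nat_lit 0xe345cfc000df7)],
  [(nat_lit 2), (nat_lit 0xe3501120017b1)],
  [(nat_lit 2), (nat_lit 0xe53ad34000f4d)],
  [(nat_lit 2), (nat_lit 0xed4911f00163b)],
  [(nat_lit 2), (nat_lit 0xf54fd1200024b)],
  [(nat_lit 2), (nat_lit 0xf84ed3e00158d)],
  [(nat_lit 2), (nat_lit 0x440fa000b3f)],
  [(nat_lit 2), (nat_lit 0xf84d9280014eb)],
  [(nat_lit 2), (nat_lit 0x4c91d000dfd)],
  [(nat_lit 2), (nat_lit 0xee4fd3d0017d5)],
  [(nat_lit 2), (nat_lit 0xf13f115001ce9)],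
  [(nat_lit 2), (nat_lit 0xe54d1240016fb)],
  [(nat_lit 2), (nat_lit 0xe745502000f5b)],
  [(nat_lit 2), (nat_lit 0xe948915001773)],
  [(nat_lit 2), (nat_lit 0x48d17000ea5)],
  [(nat_lit 2), (nat_lit 0x4d92b00162f)],
  [(nat_lit 2), (nat_lit 0x10b4d93e000bb1)],
  [(nat_lit 2), (nat_lit 0x121000d73)],
  [(nat_lit 2), (nat_lit 0xf342533000907)],
  [(nat_lit 2), (nat_lit 0x3d935002151)],
  [(nat_lit 2), (nat_lit 0xe949923000f95)],
  [(nat_lit 2), (nat_lit 0xeb4011f000837)],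
  [(nat_lit 2), (nat_lit 0xf948106000f77)],
  [(nat_lit 2), (nat_lit 0xec4a5060008a3)],
  [(nat_lit 2), (nat_lit 0xf34a93c001a39)],
  [(nat_lit 2), (nat_lit 0xfe4ed3400136d)],
  [(nat_lit 2), (nat_lit 0xf34613600106f)],
  [(nat_lit 2), (nat_lit 0xed45d2e00126f)],
  [(nat_lit 2), (nat_lit 0xf24fd090012d7)],
  [(nat_lit 2), (nat_lit 0xf43f91b001bc5)],
  [(nat_lit 2), (nat_lit 0xf74a53c000e37)],
  [(nat_lit 2), (nat_lit 0xfa4d105000b67)],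
  [(nat_lit 2), (nat_lit 0xf549936001bc9)],
  [(nat_lit 2), (nat_lit 0xef41527001425)],
  [(nat_lit 2), (nat_lit 0x4bd260012f1)],
  [(nat_lit 2), (nat_lit 0xe746931000f73)],
  [(nat_lit 2), (nat_lit 0x134420f8000cd7)],
  [(nat_lit 2), (nat_lit 0x1074492e00113f)],
  [(nat_lit 2), (nat_lit 0xe34f12f001fdd)],
  [(nat_lit 2), (nat_lit 0xeb50109001757)],
  [(nat_lit 2), (nat_lit 0xf5494f300072f)],
  [(nat_lit 2), (nat_lit 0xe53b53a000f2b)],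
  [(nat_lit 2), (nat_lit 0xf148940001a31)],
  [(nat_lit 2), (nat_lit 0xf946529000d17)],
  [(nat_lit 2), (nat_lit 0xeb4c91d0017e3)],
  [(nat_lit 2), (nat_lit 0xeb40920000db7)],
  [(nat_lit 2), (nat_lit 0xe942925000ba7)],
  [(nat_lit 2), (nat_lit 0xe942128000d11)],
  [(nat_lit 2), (nat_lit 0xe35011400020f)],
  [(nat_lit 2), (nat_lit 0xf54ad360007ab)],
  [(nat_lit 2), (nat_lit 0xed4291a0008f3)],
  [(nat_lit 2), (nat_lit 0xe94591a00026b)],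
  [(nat_lit 2), (nat_lit 0xf73e90f000737)],
  [(nat_lit 2), (nat_lit 0xee420eb0010eb)],
  [(nat_lit 2), (nat_lit 0xf44a118001c75)],
  [(nat_lit 2), (nat_lit 0xe33bcfa0014c5)],
  [(nat_lit 2), (nat_lit 0xfa49922001d55)],
  [(nat_lit 2), (nat_lit 0xec43d1500065b)],
  [(nat_lit 2), (nat_lit 0xec46110000747)],
  [(nat_lit 2), (nat_lit 0xf43d13c000ce7)],
  [(nat_lit 2), (nat_lit 0xe73d136001a09)],
  [(nat_lit 2), (nat_lit 0xed409310014a5)],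
  [(nat_lit 2), (nat_lit 0x4e502000987)],
  [(nat_lit 2), (nat_lit 0xf943d2800105f)],
  [(nat_lit 2), (nat_lit 0x11d3d1370012cb)],
  [(nat_lit 2), (nat_lit 0x4ed070015c5)],
  [(nat_lit 2), (nat_lit 0xf3455290010db)],
  [(nat_lit 2), (nat_lit 0xeb40913000ec5)],
  [(nat_lit 2), (nat_lit 0xec4f937000e5b)],
  [(nat_lit 2), (nat_lit 0xfa41d37000a63)],
  [(nat_lit 2), (nat_lit 0xf743d190009f9)],
  [(nat_lit 2), (nat_lit 0xe544d220002eb)],
  [(nat_lit 2), (nat_lit 0xe94f115001339)],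
  [(nat_lit 2), (nat_lit 0x49d3f0008d3)],
  [(nat_lit 2), (nat_lit 0x4bd3a0008c9)],
  [(nat_lit 2), (nat_lit 0xef46d350015d7)],
  [(nat_lit 2), (nat_lit 0xe54c924000743)],
  [(nat_lit 2), (nat_lit 0x4a93400123d)],
  [(nat_lit 2), (nat_lit 0x3b91800179b)],
  [(nat_lit 2), (nat_lit 0xf147d0b001157)],
  [(nat_lit 2), (nat_lit 0x458e90008f7)],
  [(nat_lit 2), (nat_lit 0xe34bd1500090b)],
  [(nat_lit 2), (nat_lit 0xe346cf9000e5f)],
  [(nat_lit 2), (nat_lit 0xe7499280013f9)],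
  [(nat_lit 2), (nat_lit 0xe3488ef001597)],
  [(nat_lit 2), (nat_lit 0xe541d36000397)],
  [(nat_lit 2), (nat_lit 0x10d3bd22001679)],
  [(nat_lit 2), (nat_lit 0xf13ed39000993)],
  [(nat_lit 2), (nat_lit 0xed4193e0010f7)],
  [(nat_lit 2), (nat_lit 0xf341d1f001951)],
  [(nat_lit 2), (nat_lit 0xe34410b000d8b)],
  [(nat_lit 2), (nat_lit 0xf74f8f8000edd)],
  [(nat_lit 2), (nat_lit 0xed441270004d7)],
  [(nat_lit 2), (nat_lit 0x1074ccf600154d)],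
  [(nat_lit 2), (nat_lit 0xeb45917000227)],
  [(nat_lit 2), (nat_lit 0xfb470fa001603)],
  [(nat_lit 2), (nat_lit 0xe93e93e002129)],
  [(nat_lit 2), (nat_lit 0xf64193f001245)],
  [(nat_lit 2), (nat_lit 0xf940905000683)],
  [(nat_lit 2), (nat_lit 0x12042936001513)],
  [(nat_lit 2), (nat_lit 0xef4f115000a27)],
  [(nat_lit 2), (nat_lit 0xf54f535001b99)],
  [(nat_lit 2), (nat_lit 0xe74550000134d)],
  [(nat_lit 2), (nat_lit 0xe94bd3b001351)],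
  [(nat_lit 2), (nat_lit 0xf93bcf6000243)],
  [(nat_lit 2), (nat_lit 0xf34810f001287)],
  [(nat_lit 2), (nat_lit 0xe545d2f0013a7)],
  [(nat_lit 2), (nat_lit 0xf54892d001591)],
  [(nat_lit 2), (nat_lit 0x42d2f000b79)],
  [(nat_lit 2), (nat_lit 0xe749936001667)],
  [(nat_lit 2), (nat_lit 0xe33a515000267)],
  [(nat_lit 2), (nat_lit 0xe73bd1c001641)],
  [(nat_lit 2), (nat_lit 0xe34193b0017b9)],
  [(nat_lit 2), (nat_lit 0xe73ed110007f7)],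
  [(nat_lit 2), (nat_lit 0xe94193000114d)],
  [(nat_lit 2), (nat_lit 0x4151500141f)],
  [(nat_lit 2), (nat_lit 0xe53ed2d00115f)],
  [(nat_lit 2), (nat_lit 0xe34490200107d)],
  [(nat_lit 2), (nat_lit 0xe54493f000ac7)],
  [(nat_lit 2), (nat_lit 0xe7479210021d9)],
  [(nat_lit 2), (nat_lit 0xe549528001d85)],
  [(nat_lit 2), (nat_lit 0x1053f1050014fd)],
  [(nat_lit 2), (nat_lit 0xe749d310005bf)],
  [(nat_lit 2), (nat_lit 0xf34d8ed0002c3)],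
  [(nat_lit 2), (nat_lit 0xe93b500000f0b)],
  [(nat_lit 2), (nat_lit 0xed4613c001d29)],
  [(nat_lit 2), (nat_lit 0xf23d12100115b)],
  [(nat_lit 2), (nat_lit 0xe346d090020b1)],
  [(nat_lit 2), (nat_lit 0xe74a4e70006bb)],
  [(nat_lit 2), (nat_lit 0xe9461150017bb)],
  [(nat_lit 2), (nat_lit 0xed4391a0013df)],
  [(nat_lit 2), (nat_lit 0xec4313e0017c9)],
  [(nat_lit 2), (nat_lit 0xe74151f0007c5)],
  [(nat_lit 2), (nat_lit 0xf84d8f7000861)],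
  [(nat_lit 2), (nat_lit 0x105498f4000f6b)],
  [(nat_lit 2), (nat_lit 0xfa500fc000a87)],
  [(nat_lit 2), (nat_lit 0xeb44120001457)],
  [(nat_lit 2), (nat_lit 0xfe4d10200174d)],
  [(nat_lit 2), (nat_lit 0xeb4710e001ba5)],
  [(nat_lit 2), (nat_lit 0xe33b53500120d)],
  [(nat_lit 2), (nat_lit 0x46d100016b7)],
  [(nat_lit 2), (nat_lit 0xf743929001c81)],
  [(nat_lit 2), (nat_lit 0x10f3d131001539)],
  [(nat_lit 2), (nat_lit 0xf93d938000d55)],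
  [(nat_lit 2), (nat_lit 0xfc47cec000ba3)],
  [(nat_lit 2), (nat_lit 0xf248901000367)],
  [(nat_lit 2), (nat_lit 0x3d93800074d)],
  [(nat_lit 2), (nat_lit 0x40922001787)],
  [(nat_lit 2), (nat_lit 0xed41d05000d57)],
  [(nat_lit 2), (nat_lit 0x3b50c000a01)],
  [(nat_lit 2), (nat_lit 0xee4553c000f69)],
  [(nat_lit 2), (nat_lit 0xe53ecf900087f)],
  [(nat_lit 2), (nat_lit 0xeb4a5100015f5)],
  [(nat_lit 2), (nat_lit 0xfa4091f0016df)],
  [(nat_lit 2), (nat_lit 0xf24093a000e17)],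
  [(nat_lit 2), (nat_lit 0xe94bcec0017c7)],
  [(nat_lit 2), (nat_lit 0xfc3bd3c00097b)],
  [(nat_lit 2), (nat_lit 0xfb48d06000e23)],
  [(nat_lit 2), (nat_lit 0x4313300171b)],
  [(nat_lit 2), (nat_lit 0xf4495400019c5)],
  [(nat_lit 2), (nat_lit 0xee4691700134f)],
  [(nat_lit 2), (nat_lit 0x4213d0012b1)],
  [(nat_lit 2), (nat_lit 0xf14e8f6001d15)],
  [(nat_lit 2), (nat_lit 0xe34b910000917)],
  [(nat_lit 2), (nat_lit 0xf942540000803)],
  [(nat_lit 2), (nat_lit 0xeb3eceb000e1f)],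
  [(nat_lit 2), (nat_lit 0x101460fc001c8d)],
  [(nat_lit 2), (nat_lit 0xeb4b8e7001549)],
  [(nat_lit 2), (nat_lit 0xf64ed1f000673)],
  [(nat_lit 2), (nat_lit 0xe3475090008c3)],
  [(nat_lit 2), (nat_lit 0x4c13b0017a1)],
  [(nat_lit 2), (nat_lit 0xee4c5110021c1)],
  [(nat_lit 2), (nat_lit 0xf93ad07000a1b)],
  [(nat_lit 2), (nat_lit 0xe941d23000e49)],
  [(nat_lit 2), (nat_lit 0x3cd07001b65)],
  [(nat_lit 2), (nat_lit 0xf14491e00050f)],
  [(nat_lit 2), (nat_lit 0xf44e540001d69)],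
  [(nat_lit 2), (nat_lit 0xf54392f00123f)],
  [(nat_lit 2), (nat_lit 0xed4c101000f23)],
  [(nat_lit 2), (nat_lit 0xfc3e8ef001319)],
  [(nat_lit 2), (nat_lit 0xef4f52d0011a9)],
  [(nat_lit 2), (nat_lit 0xe547cf40013a1)],
  [(nat_lit 2), (nat_lit 0xf447ceb0017cb)],
  [(nat_lit 2), (nat_lit 0x46927001271)],
  [(nat_lit 2), (nat_lit 0x10143d3d000819)],
  [(nat_lit 2), (nat_lit 0xe346518001797)],
  [(nat_lit 2), (nat_lit 0x3ccf3001cf1)],
  [(nat_lit 2), (nat_lit 0xe30012bd)],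
  [(nat_lit 2), (nat_lit 0xe54d93d000d3d)],
  [(nat_lit 2), (nat_lit 0xee3ed18000fd7)],
  [(nat_lit 2), (nat_lit 0xe94690c0015a1)],
  [(nat_lit 2), (nat_lit 0xec4f51300157f)],
  [(nat_lit 2), (nat_lit 0xf54553500165f)],
  [(nat_lit 2), (nat_lit 0xeb46927000c4b)],
  [(nat_lit 2), (nat_lit 0xec4f93a00168f)],
  [(nat_lit 2), (nat_lit 0x1144a4f4001247)],
  [(nat_lit 2), (nat_lit 0x4611d001d79)],
  [(nat_lit 2), (nat_lit 0xe740928000a23)],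
  [(nat_lit 2), (nat_lit 0xfc3d11c0010a9)],
  [(nat_lit 2), (nat_lit 0xf64fcf40015b7)],
  [(nat_lit 2), (nat_lit 0xe94812e000d6f)],
  [(nat_lit 2), (nat_lit 0x10c48114001ba1)],
  [(nat_lit 2), (nat_lit 0x40517001d89)],
  [(nat_lit 2), (nat_lit 0xfa3b534000f55)],
  [(nat_lit 2), (nat_lit 0x10a4850a0017d7)],
  [(nat_lit 2), (nat_lit 0xe74152200146f)],
  [(nat_lit 2), (nat_lit 0x41539000a97)],
  [(nat_lit 2), (nat_lit 0x11548d02000dff)],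
  [(nat_lit 2), (nat_lit 0xf3455330012e5)],
  [(nat_lit 2), (nat_lit 0xe34210900067b)]]
noncomputable def R28 : List (List ℕ) :=
  [[(nat_lit 2), (nat_lit 0xe75011f001b15)],
  [(nat_lit 2), (nat_lit 0xe9489060011b7)],
  [(nat_lit 2), (nat_lit 0xe5481150013f5)],
  [(nat_lit 2), (nat_lit 0xf34e910001237)],
  [(nat_lit 2), (nat_lit 0xec4d92700023f)],
  [(nat_lit 2), (nat_lit 0xe34ecff000703)],
  [(nat_lit 2), (nat_lit 0xe33fd1b001409)],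
  [(nat_lit 2), (nat_lit 0xf14ed3a0011ef)],
  [(nat_lit 2), (nat_lit 0x1074413d00104f)],
  [(nat_lit 2), (nat_lit 0xe74fd3b000d35)],
  [(nat_lit 2), (nat_lit 0xf13ecf200112f)],
  [(nat_lit 2), (nat_lit 0xfa4bd35000b33)],
  [(nat_lit 2), (nat_lit 0x3b90a001a41)],
  [(nat_lit 2), (nat_lit 0xe94bd0e000f59)],
  [(nat_lit 2), (nat_lit 0xe342d29000e61)],
  [(nat_lit 2), (nat_lit 0x4212a00072b)],
  [(nat_lit 2), (nat_lit 0x460ed001365)],
  [(nat_lit 2), (nat_lit 0xe94f4e7001267)],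
  [(nat_lit 2), (nat_lit 0xeb4cd2000136f)],
  [(nat_lit 2), (nat_lit 0xfb4ed0a0015e9)],
  [(nat_lit 2), (nat_lit 0xec41d1500064f)],
  [(nat_lit 2), (nat_lit 0xe34c13c0001c7)],
  [(nat_lit 2), (nat_lit 0xe53e93a00117f)],
  [(nat_lit 2), (nat_lit 0x11041d340015df)],
  [(nat_lit 2), (nat_lit 0xf64751b000f8b)],
  [(nat_lit 2), (nat_lit 0xf34353f0012db)],
  [(nat_lit 2), (nat_lit 0xeb4d4fe0010a3)],
  [(nat_lit 2), (nat_lit 0x4f10a0014a1)],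
  [(nat_lit 2), (nat_lit 0x494fd0012a7)],
  [(nat_lit 2), (nat_lit 0xee41cfa0021ad)],
  [(nat_lit 2), (nat_lit 0xe74a938000f65)],
  [(nat_lit 2), (nat_lit 0xee46902000767)],
  [(nat_lit 2), (nat_lit 0xf546539000ba1)],
  [(nat_lit 2), (nat_lit 0xfb4d91f00116b)],
  [(nat_lit 2), (nat_lit 0xe93f0f90012ab)],
  [(nat_lit 2), (nat_lit 0xe33cd16001bf5)],
  [(nat_lit 2), (nat_lit 0xe3464f3000e45)],
  [(nat_lit 2), (nat_lit 0x4b131001387)],
  [(nat_lit 2), (nat_lit 0xe747cec001777)],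
  [(nat_lit 2), (nat_lit 0xeb3b934001dad)],
  [(nat_lit 2), (nat_lit 0x1034ed35000c3f)],
  [(nat_lit 2), (nat_lit 0xe343122000adf)],
  [(nat_lit 2), (nat_lit 0xee45514001415)],
  [(nat_lit 2), (nat_lit 0x4d93f0013ad)],
  [(nat_lit 0), (nat_lit 6145), (nat_lit 6163), (nat_lit 6163)],
  [(nat_lit 0), (nat_lit 6141), (nat_lit 6153), (nat_lit 6163), (nat_lit 6155)],
  [(nat_lit 0), (nat_lit 6145), (nat_lit 6153)],
  [(nat_lit 2), (nat_lit 31)],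
  [(nat_lit 2), (nat_lit 0xe74550d001823)],
  [(nat_lit 2), (nat_lit 0x3d10e0018eb)],
  [(nat_lit 2), (nat_lit 0x38ce50021e5)],
  [(nat_lit 2), (nat_lit 0x38cf20021e9)],
  [(nat_lit 2), (nat_lit 0xf13d137001897)],
  [(nat_lit 2), (nat_lit 0x1144a53d001827)],
  [(nat_lit 2), (nat_lit 0xf34f8f600183b)],
  [(nat_lit 2), (nat_lit 0xe34bd220018f3)],
  [(nat_lit 2), (nat_lit 0x39526001a13)],
  [(nat_lit 2), (nat_lit 0xed4310100183f)],
  [(nat_lit 2), (nat_lit 0xeb3b51600185f)],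
  [(nat_lit 2), (nat_lit 0xe94e8f2001a3f)],
  [(nat_lit 2), (nat_lit 0x429130018bf)],
  [(nat_lit 2), (nat_lit 0xf84c5120018c3)],
  [(nat_lit 2), (nat_lit 0xe740d1f001a33)],
  [(nat_lit 2), (nat_lit 0x10a4850a001923)],
  [(nat_lit 2), (nat_lit 0xee001a45)],
  [(nat_lit 2), (nat_lit 0xf24892a001dbd)],
  [(nat_lit 2), (nat_lit 0xf43c9240018ff)],
  [(nat_lit 2), (nat_lit 0xf14d5100019ff)],
  [(nat_lit 2), (nat_lit 0x4e5140018ef)],
  [(nat_lit 2), (nat_lit 0xe34f50a00193b)],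
  [(nat_lit 2), (nat_lit 0xe54e523001913)],
  [(nat_lit 2), (nat_lit 0xf94d1300021ed)],
  [(nat_lit 2), (nat_lit 0xed3bd40001ddd)],
  [(nat_lit 2), (nat_lit 0x100001863)],
  [(nat_lit 2), (nat_lit 0xe5430f300196f)],
  [(nat_lit 2), (nat_lit 0xf54a1290019cf)],
  [(nat_lit 2), (nat_lit 0x4dd2300190b)],
  [(nat_lit 2), (nat_lit 0xfa47cef00196b)],
  [(nat_lit 2), (nat_lit 0x3ad240018fb)],
  [(nat_lit 2), (nat_lit 0xf6420ef00188f)],
  [(nat_lit 2), (nat_lit 0xf14853400185b)],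
  [(nat_lit 2), (nat_lit 0xf445d2d0019b7)],
  [(nat_lit 2), (nat_lit 0xe53e93100187b)],
  [(nat_lit 2), (nat_lit 0x3e13a0018f7)],
  [(nat_lit 2), (nat_lit 0xf24c933001937)],
  [(nat_lit 2), (nat_lit 0xf3421400019f7)],
  [(nat_lit 2), (nat_lit 0xf4501380019e7)],
  [(nat_lit 2), (nat_lit 0xf33cd10001dc5)],
  [(nat_lit 2), (nat_lit 0xe74712b001957)],
  [(nat_lit 2), (nat_lit 0xf5401320018e3)],
  [(nat_lit 2), (nat_lit 0x3e5120021f1)],
  [(nat_lit 2), (nat_lit 0xf34b5350018db)],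
  [(nat_lit 2), (nat_lit 0xe34f4fa001903)],
  [(nat_lit 2), (nat_lit 0xee5013c001dd1)],
  [(nat_lit 2), (nat_lit 0xe34f52b0018af)],
  [(nat_lit 2), (nat_lit 0xf645d2600187f)],
  [(nat_lit 2), (nat_lit 0xe34d4f8001dc1)],
  [(nat_lit 2), (nat_lit 0x39d0b00195f)],
  [(nat_lit 2), (nat_lit 0xe53f51c001dd9)],
  [(nat_lit 2), (nat_lit 0xf64551b001a3b)],
  [(nat_lit 2), (nat_lit 0x4f50500191b)],
  [(nat_lit 2), (nat_lit 0xed41d270018cb)],
  [(nat_lit 2), (nat_lit 0xf54191a0021f5)],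
  [(nat_lit 2), (nat_lit 0xe9468f60019a7)],
  [(nat_lit 2), (nat_lit 0xef4d910001983)],
  [(nat_lit 2), (nat_lit 0xe5488ee00195b)],
  [(nat_lit 2), (nat_lit 0x10245d280019ab)],
  [(nat_lit 2), (nat_lit 0x4453a001843)],
  [(nat_lit 2), (nat_lit 0xe74d517001963)],
  [(nat_lit 2), (nat_lit 0xeb4b506001997)],
  [(nat_lit 2), (nat_lit 0x4a90d001a27)],
  [(nat_lit 2), (nat_lit 0xe7400fe0018e7)],
  [(nat_lit 2), (nat_lit 0xe73f114001883)],
  [(nat_lit 2), (nat_lit 0x3952500182b)],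
  [(nat_lit 2), (nat_lit 0xf548506001893)],
  [(nat_lit 2), (nat_lit 0xe7469020019db)],
  [(nat_lit 2), (nat_lit 0xed4b8e90019ef)],
  [(nat_lit 2), (nat_lit 0xe34c515001a37)],
  [(nat_lit 2), (nat_lit 0x4d90d00184b)],
  [(nat_lit 2), (nat_lit 0xe94d4f20019f3)],
  [(nat_lit 2), (nat_lit 0x3c8ec00181f)],
  [(nat_lit 2), (nat_lit 0x1004c53a001a07)],
  [(nat_lit 2), (nat_lit 0x3e127001933)],
  [(nat_lit 2), (nat_lit 0xf44193000199f)],
  [(nat_lit 2), (nat_lit 0xe94b133001973)],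
  [(nat_lit 2), (nat_lit 0xeb43d2b001927)],
  [(nat_lit 2), (nat_lit 0x4851a001867)],
  [(nat_lit 2), (nat_lit 0xef3ed250018b3)],
  [(nat_lit 2), (nat_lit 0xee4490c0019a3)],
  [(nat_lit 2), (nat_lit 0xe949110001817)],
  [(nat_lit 2), (nat_lit 0xe74012f001847)],
  [(nat_lit 2), (nat_lit 0xeb3ed1700197b)],
  [(nat_lit 2), (nat_lit 0xfb4492a00182f)],
  [(nat_lit 2), (nat_lit 0xe74fd310019c3)],
  [(nat_lit 2), (nat_lit 0xf4470fc0019df)],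
  [(nat_lit 2), (nat_lit 0xf33ccf8001a0b)],
  [(nat_lit 2), (nat_lit 0xe94a53a001857)],
  [(nat_lit 2), (nat_lit 0xeb3f924001977)],
  [(nat_lit 2), (nat_lit 0xe74fd1a001a2b)],
  [(nat_lit 2), (nat_lit 0xe5489380019bf)],
  [(nat_lit 2), (nat_lit 0xe53ccf3001a49)],
  [(nat_lit 2), (nat_lit 0xf5484f50019e3)],
  [(nat_lit 2), (nat_lit 0xee3dd2e0018bb)],
  [(nat_lit 2), (nat_lit 0xe34d53700188b)],
  [(nat_lit 2), (nat_lit 0xeb47910001907)],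
  [(nat_lit 2), (nat_lit 0xe54b92100191f)],
  [(nat_lit 2), (nat_lit 0xf44693000198f)],
  [(nat_lit 2), (nat_lit 0xed4d0f9001a17)],
  [(nat_lit 2), (nat_lit 0xec5011d001dc9)],
  [(nat_lit 2), (nat_lit 0xf33d918001873)],
  [(nat_lit 2), (nat_lit 0xeb4a51300198b)],
  [(nat_lit 2), (nat_lit 0x10546d3e001853)],
  [(nat_lit 2), (nat_lit 0x44521001887)],
  [(nat_lit 2), (nat_lit 0x1034790e0018b7)],
  [(nat_lit 2), (nat_lit 0xe53cd2a001947)],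
  [(nat_lit 2), (nat_lit 0xe3461150018a3)],
  [(nat_lit 2), (nat_lit 0xed430f5001dcd)],
  [(nat_lit 2), (nat_lit 0xfa42d2a00193f)],
  [(nat_lit 2), (nat_lit 0xee4dd3c001987)],
  [(nat_lit 2), (nat_lit 0xe53b90c001953)],
  [(nat_lit 2), (nat_lit 0xe94b0fc00189f)],
  [(nat_lit 2), (nat_lit 0xee3f11400186b)],
  [(nat_lit 2), (nat_lit 0xe73e93e00184f)],
  [(nat_lit 2), (nat_lit 0xfa470ee0019bb)],
  [(nat_lit 2), (nat_lit 0xe53c4f400181b)],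
  [(nat_lit 2), (nat_lit 0xf84f1200019d7)],
  [(nat_lit 2), (nat_lit 0xe54f10f0018a7)],
  [(nat_lit 2), (nat_lit 0x1074fd0c001a43)],
  [(nat_lit 2), (nat_lit 0xe74d4fb001dd5)],
  [(nat_lit 2), (nat_lit 0xf35010f0018ab)],
  [(nat_lit 2), (nat_lit 0xe74d1300019eb)],
  [(nat_lit 2), (nat_lit 0xe33cd400019c7)],
  [(nat_lit 2), (nat_lit 0xe33b53300190f)],
  [(nat_lit 2), (nat_lit 0xec3f111001a23)],
  [(nat_lit 2), (nat_lit 0xe74212a0019af)],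
  [(nat_lit 2), (nat_lit 0xeb4153a0018d7)],
  [(nat_lit 2), (nat_lit 0xf8500fb001917)],
  [(nat_lit 2), (nat_lit 0xe35011c0019b3)],
  [(nat_lit 2), (nat_lit 0xe54c0f4001943)],
  [(nat_lit 2), (nat_lit 0xee3ed1900186f)],
  [(nat_lit 2), (nat_lit 0xff4f12b00192b)],
  [(nat_lit 2), (nat_lit 0x41cfa00199b)],
  [(nat_lit 2), (nat_lit 0xed4ecf10018df)],
  [(nat_lit 2), (nat_lit 0xf14690e001a1b)],
  [(nat_lit 2), (nat_lit 0xe543d20001a4d)],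
  [(nat_lit 2), (nat_lit 0xed428ee0018c7)],
  [(nat_lit 2), (nat_lit 0xf74412e00189b)],
  [(nat_lit 2), (nat_lit 0xe33fd220018cf)],
  [(nat_lit 2), (nat_lit 0xfa40140001a2f)],
  [(nat_lit 2), (nat_lit 0xeb4b5340018d3)],
  [(nat_lit 2), (nat_lit 0x43101001a0f)],
  [(nat_lit 2), (nat_lit 0x4bd1c0019d3)],
  [(nat_lit 2), (nat_lit 0x3e1400019cb)],
  [(nat_lit 2), (nat_lit 0xee49131001a1f)],
  [(nat_lit 2), (nat_lit 0xe74c52300192f)],
  [(nat_lit 2), (nat_lit 0xeb4d92e001877)],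
  [(nat_lit 2), (nat_lit 0xf65010100197f)],
  [(nat_lit 2), (nat_lit 0xe949d03001993)],
  [(nat_lit 2), (nat_lit 0x10a41d22001967)],
  [(nat_lit 2), (nat_lit 0xf24d93200194f)],
  [(nat_lit 2), (nat_lit 0x4ccf9001833)],
  [(nat_lit 2), (nat_lit 0xf440927001a03)],
  [(nat_lit 2), (nat_lit 0x1084fd1a00194b)],
  [(nat_lit 2), (nat_lit 0x1340019fb)],
  [(nat_lit 2), (nat_lit 0xef43d3c001837)],
  [(nat_lit 0), (nat_lit 6757), (nat_lit 6749), (nat_lit 6749), (nat_lit 6757), (nat_lit 6741)],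
  [(nat_lit 0), (nat_lit 6741), (nat_lit 6749), (nat_lit 6759), (nat_lit 6737), (nat_lit 6759), (nat_lit 6749)],
  [(nat_lit 0), (nat_lit 6737), (nat_lit 6751), (nat_lit 6757), (nat_lit 6751), (nat_lit 6759)],
  [(nat_lit 2), (nat_lit 35)],
  [(nat_lit 2), (nat_lit 0x4151a001a6b)],
  [(nat_lit 2), (nat_lit 0xe93c517001a7f)],
  [(nat_lit 2), (nat_lit 0x4ccf1001a77)],
  [(nat_lit 2), (nat_lit 0x3f533001a7b)],
  [(nat_lit 2), (nat_lit 0x49d05001a73)],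
  [(nat_lit 2), (nat_lit 0xe347127001a6f)],
  [(nat_lit 2), (nat_lit 0xf2001de5)],
  [(nat_lit 2), (nat_lit 0x5011f001de9)],
  [(nat_lit 2), (nat_lit 0xef3d91c001df1)],
  [(nat_lit 2), (nat_lit 0x3c4ef001a81)],
  [(nat_lit 2), (nat_lit 7649)],
  [(nat_lit 2), (nat_lit 0xe543928001ded)],
  [(nat_lit 0), (nat_lit 6791), (nat_lit 6803), (nat_lit 6793), (nat_lit 6803)],
  [(nat_lit 0), (nat_lit 6803), (nat_lit 6793), (nat_lit 6801)],
  [(nat_lit 0), (nat_lit 6791), (nat_lit 6801)],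
  [(nat_lit 2), (nat_lit 39)],
  [(nat_lit 2), (nat_lit 0xf74651b001b97)],
  [(nat_lit 2), (nat_lit 0xf74e92c001b1b)],
  [(nat_lit 2), (nat_lit 0xeb4c0fe001c67)],
  [(nat_lit 2), (nat_lit 0x3ed2c001b5f)],
  [(nat_lit 2), (nat_lit 0xf94dd07001ccb)],
  [(nat_lit 2), (nat_lit 0x5011f0021f9)],
  [(nat_lit 2), (nat_lit 0xe949910001ab7)],
  [(nat_lit 2), (nat_lit 0x39530001bc3)],
  [(nat_lit 2), (nat_lit 0x3b921001aff)],
  [(nat_lit 2), (nat_lit 0xed44ced001df9)],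
  [(nat_lit 2), (nat_lit 0xe54c514001b4b)],
  [(nat_lit 2), (nat_lit 0xfc42d3b001d1f)],
  [(nat_lit 2), (nat_lit 0xe54fd12001d27)],
  [(nat_lit 2), (nat_lit 0xf547137001d5b)],
  [(nat_lit 2), (nat_lit 0x10d4c907001b07)],
  [(nat_lit 2), (nat_lit 0xe344523001ccf)],
  [(nat_lit 2), (nat_lit 0x4e536001b6b)],
  [(nat_lit 2), (nat_lit 0xfa49135001d4f)],
  [(nat_lit 2), (nat_lit 0x3cd12001abf)],
  [(nat_lit 2), (nat_lit 0x1084391f001dd7)],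
  [(nat_lit 2), (nat_lit 0x1014913a001c8b)],
  [(nat_lit 2), (nat_lit 0xeb40d31001c77)],
  [(nat_lit 2), (nat_lit 0x4b8fb001adf)],
  [(nat_lit 2), (nat_lit 0xee47d3d001c9f)],
  [(nat_lit 2), (nat_lit 0xf74c53e001d6f)],
  [(nat_lit 2), (nat_lit 0x3ccf6001b67)],
  [(nat_lit 2), (nat_lit 0x1075013c001d5f)],
  [(nat_lit 2), (nat_lit 0xe7454fb001d03)],
  [(nat_lit 2), (nat_lit 0x10247518001d73)],
  [(nat_lit 2), (nat_lit 0xe341d39001c7b)],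
  [(nat_lit 2), (nat_lit 0xe34d537001e09)],
  [(nat_lit 2), (nat_lit 0xe73ed0a00220d)],
  [(nat_lit 2), (nat_lit 0xfc4e915001aeb)],
  [(nat_lit 2), (nat_lit 0xf84f4ef001b3b)],
  [(nat_lit 2), (nat_lit 0x4f4ff001cfb)],
  [(nat_lit 2), (nat_lit 0x454ec001e11)],
  [(nat_lit 2), (nat_lit 0x4f8f7001bf7)],
  [(nat_lit 2), (nat_lit 0xe94792e001bef)],
  [(nat_lit 2), (nat_lit 0xe34a51d001b23)],
  [(nat_lit 2), (nat_lit 0x3e92a001b4f)],
  [(nat_lit 2), (nat_lit 0x1073a4fa001b03)],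
  [(nat_lit 2), (nat_lit 0xe34a8fb001c13)],
  [(nat_lit 2), (nat_lit 0xed49929001ba7)],
  [(nat_lit 2), (nat_lit 0xe33d11b001c03)],
  [(nat_lit 2), (nat_lit 0xe54a10c001aaf)],
  [(nat_lit 2), (nat_lit 0xe946900001dc3)],
  [(nat_lit 2), (nat_lit 0xfa4a8fd001d6b)],
  [(nat_lit 2), (nat_lit 0xe93e8f4001a9b)],
  [(nat_lit 2), (nat_lit 0x11c3cd26002211)],
  [(nat_lit 2), (nat_lit 0xe93f128001c43)],
  [(nat_lit 2), (nat_lit 0xf341d17001db3)],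
  [(nat_lit 2), (nat_lit 0xe33fd32001d63)],
  [(nat_lit 2), (nat_lit 0xf24212d001bd7)],
  [(nat_lit 2), (nat_lit 0xe54acef001b17)],
  [(nat_lit 2), (nat_lit 0xeb42120001b5b)],
  [(nat_lit 2), (nat_lit 0xed3bcf2001df5)],
  [(nat_lit 2), (nat_lit 0xe54c101001ac3)],
  [(nat_lit 2), (nat_lit 0xf343ce7001c2f)],
  [(nat_lit 2), (nat_lit 0xf548135001bdb)],
  [(nat_lit 2), (nat_lit 0xec43536001e17)],
  [(nat_lit 2), (nat_lit 0xfc4dcf2001c3f)],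
  [(nat_lit 2), (nat_lit 0xee49d10001dcf)],
  [(nat_lit 2), (nat_lit 0xeb49d05001ad3)],
  [(nat_lit 2), (nat_lit 0x48918001b93)],
  [(nat_lit 2), (nat_lit 0xe548115001a97)],
  [(nat_lit 2), (nat_lit 0xfa3cd34001d53)],
  [(nat_lit 2), (nat_lit 0xee4292d001ceb)],
  [(nat_lit 2), (nat_lit 0x101440ee001e0b)],
  [(nat_lit 2), (nat_lit 0xf445d3e001d13)],
  [(nat_lit 2), (nat_lit 0x10e4d111001ba3)],
  [(nat_lit 2), (nat_lit 0xf44f0fc001c93)],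
  [(nat_lit 2), (nat_lit 0xf34592f001bf3)],
  [(nat_lit 2), (nat_lit 0xf54d8f4001e41)],
  [(nat_lit 2), (nat_lit 0xeb3c4f4001cf3)],
  [(nat_lit 2), (nat_lit 0xe54c907001d47)],
  [(nat_lit 2), (nat_lit 0x3f917001e13)],
  [(nat_lit 2), (nat_lit 0xef3e931001d3f)],
  [(nat_lit 2), (nat_lit 0x48105001aa7)],
  [(nat_lit 2), (nat_lit 0xec4d515001c8f)],
  [(nat_lit 2), (nat_lit 0x38cfa001d3b)],
  [(nat_lit 2), (nat_lit 0xfe4ed10001d9f)],
  [(nat_lit 2), (nat_lit 0x4211e001c9b)],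
  [(nat_lit 2), (nat_lit 0xef434fb001e35)],
  [(nat_lit 2), (nat_lit 0xf14c501001dc7)],
  [(nat_lit 2), (nat_lit 0x1144ccf4001c5f)],
  [(nat_lit 2), (nat_lit 0x4e134001d07)],
  [(nat_lit 2), (nat_lit 0xec42122001d57)],
  [(nat_lit 2), (nat_lit 0x4c906001b2f)],
  [(nat_lit 2), (nat_lit 0xf944924001caf)],
  [(nat_lit 2), (nat_lit 0xed424f3001d33)],
  [(nat_lit 2), (nat_lit 0xeb408ff001b27)],
  [(nat_lit 2), (nat_lit 0x4d503001be7)],
  [(nat_lit 2), (nat_lit 0xe343508001af7)],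
  [(nat_lit 2), (nat_lit 0xec4a93f002209)],
  [(nat_lit 2), (nat_lit 0x3e53e001d7b)],
  [(nat_lit 2), (nat_lit 0xf348140001dab)],
  [(nat_lit 2), (nat_lit 0xec41511001e05)],
  [(nat_lit 2), (nat_lit 0xe745907001e03)],
  [(nat_lit 2), (nat_lit 0x10e4acf2001de7)],
  [(nat_lit 2), (nat_lit 0xe74fd10001dbb)],
  [(nat_lit 2), (nat_lit 0x1084a91f001bdf)],
  [(nat_lit 2), (nat_lit 0xec4cd1f001acf)],
  [(nat_lit 2), (nat_lit 0xe74d516001dd3)],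
  [(nat_lit 2), (nat_lit 0xee4b510001d0b)],
  [(nat_lit 2), (nat_lit 0xf944924001e19)],
  [(nat_lit 2), (nat_lit 0xfb50139001ce7)],
  [(nat_lit 2), (nat_lit 0x4a0fc001daf)],
  [(nat_lit 2), (nat_lit 0xe947124001e45)],
  [(nat_lit 2), (nat_lit 0x4d0e7001be3)],
  [(nat_lit 2), (nat_lit 0xe949d0d001e25)],
  [(nat_lit 2), (nat_lit 0x119001cc7)],
  [(nat_lit 2), (nat_lit 0xfa3f922001cd7)],
  [(nat_lit 2), (nat_lit 0x3d112001d43)],
  [(nat_lit 2), (nat_lit 0xf13cd24001d17)],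
  [(nat_lit 2), (nat_lit 0xe74a120001b33)],
  [(nat_lit 2), (nat_lit 0x4f50c001d1b)],
  [(nat_lit 2), (nat_lit 0xf24c501001bbb)],
  [(nat_lit 2), (nat_lit 0xf84713a001b1f)],
  [(nat_lit 2), (nat_lit 0xf1484f4001c73)],
  [(nat_lit 2), (nat_lit 0xfe488f3001cab)],
  [(nat_lit 2), (nat_lit 0xef4c526001c63)],
  [(nat_lit 2), (nat_lit 0xe94f925001cc3)],
  [(nat_lit 2), (nat_lit 0xe73eceb001d67)],
  [(nat_lit 2), (nat_lit 0xf6478fe001ce3)],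
  [(nat_lit 2), (nat_lit 0xe93f12d001b53)],
  [(nat_lit 2), (nat_lit 0xe34bd40001b63)],
  [(nat_lit 2), (nat_lit 0x46931001c23)],
  [(nat_lit 2), (nat_lit 0xf540132001b7b)],
  [(nat_lit 2), (nat_lit 0xe74a12f001cdf)],
  [(nat_lit 2), (nat_lit 0xee42106001db7)],
  [(nat_lit 2), (nat_lit 0x10d4a923001c37)],
  [(nat_lit 2), (nat_lit 0xec4b532001aab)],
  [(nat_lit 2), (nat_lit 0xef48d320021fd)],
  [(nat_lit 2), (nat_lit 0xe941915001e2d)],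
  [(nat_lit 2), (nat_lit 0xe545cf1001cff)],
  [(nat_lit 2), (nat_lit 0x1084d103001c83)],
  [(nat_lit 2), (nat_lit 0xf44e938001b83)],
  [(nat_lit 2), (nat_lit 0x1003ed26001ab3)],
  [(nat_lit 2), (nat_lit 0xef48912001b6f)],
  [(nat_lit 2), (nat_lit 0xef4b53d001b57)],
  [(nat_lit 2), (nat_lit 0xe341cec001c47)],
  [(nat_lit 2), (nat_lit 0xf140510001af3)],
  [(nat_lit 2), (nat_lit 0xe54d8fa001c33)],
  [(nat_lit 2), (nat_lit 0x48127002205)],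
  [(nat_lit 2), (nat_lit 0xef4d8fd001c27)],
  [(nat_lit 2), (nat_lit 0xf34e916001cbb)],
  [(nat_lit 2), (nat_lit 0xee3ed26001aa3)],
  [(nat_lit 2), (nat_lit 0xef4ad13001b8f)],
  [(nat_lit 2), (nat_lit 0xe342d3e001abb)],
  [(nat_lit 2), (nat_lit 0xe94c523001e27)],
  [(nat_lit 2), (nat_lit 0x1114e523001baf)],
  [(nat_lit 2), (nat_lit 0xe74a8f2001bcf)],
  [(nat_lit 2), (nat_lit 0x10147921001a9f)],
  [(nat_lit 2), (nat_lit 0x4d53b001d77)],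
  [(nat_lit 2), (nat_lit 0xf34d50e001e07)],
  [(nat_lit 2), (nat_lit 0xf33c93c001b77)],
  [(nat_lit 2), (nat_lit 0xec49d07001acb)],
  [(nat_lit 2), (nat_lit 0xf43e90b001e15)],
  [(nat_lit 2), (nat_lit 0x3f108001e43)],
  [(nat_lit 2), (nat_lit 0xed484f6001cb7)],
  [(nat_lit 2), (nat_lit 0x4553c001b47)],
  [(nat_lit 2), (nat_lit 0xe94ecf7001dcb)],
  [(nat_lit 2), (nat_lit 0xf942127001d87)],
  [(nat_lit 2), (nat_lit 0xe33bd21001c57)],
  [(nat_lit 2), (nat_lit 0xe741cef001d8f)],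
  [(nat_lit 2), (nat_lit 0xe74f933001c53)],
  [(nat_lit 2), (nat_lit 0xe542d2b001b87)],
  [(nat_lit 2), (nat_lit 0x4a51f001bb3)],
  [(nat_lit 2), (nat_lit 0xec4d531001ca3)],
  [(nat_lit 2), (nat_lit 0x4f10f001cf7)],
  [(nat_lit 2), (nat_lit 0xec4a507001d97)],
  [(nat_lit 2), (nat_lit 0xf940d0e001d2b)],
  [(nat_lit 2), (nat_lit 0x4e133001b73)],
  [(nat_lit 2), (nat_lit 0xf64710c001e39)],
  [(nat_lit 2), (nat_lit 0xf24c500001b2b)]]
noncomputable def R29 : List (List ℕ) :=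
  [[(nat_lit 2), (nat_lit 0xe54fd26001cef)],
  [(nat_lit 2), (nat_lit 0xee4a937001d0f)],
  [(nat_lit 2), (nat_lit 0xe34b532001b9f)],
  [(nat_lit 2), (nat_lit 0xe74f0f4002201)],
  [(nat_lit 2), (nat_lit 0xeb46d21001de3)],
  [(nat_lit 2), (nat_lit 0x49918001bcb)],
  [(nat_lit 2), (nat_lit 0xe946114001cd3)],
  [(nat_lit 2), (nat_lit 0xee42934001b0b)],
  [(nat_lit 2), (nat_lit 0x3c4ef001e0d)],
  [(nat_lit 2), (nat_lit 0xf944924001b13)],
  [(nat_lit 2), (nat_lit 0xe745129001b3f)],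
  [(nat_lit 2), (nat_lit 0xeb4392a002215)],
  [(nat_lit 2), (nat_lit 0xfc4d50b001e29)],
  [(nat_lit 2), (nat_lit 0xe53e92f001d7f)],
  [(nat_lit 2), (nat_lit 0xeb41517001afb)],
  [(nat_lit 2), (nat_lit 0xf3440f4001d9b)],
  [(nat_lit 2), (nat_lit 0xe545501001dfb)],
  [(nat_lit 2), (nat_lit 0xf13ed28001adb)],
  [(nat_lit 2), (nat_lit 0xeb43d40001c7f)],
  [(nat_lit 2), (nat_lit 0xf346528001b0f)],
  [(nat_lit 2), (nat_lit 0xf44f127001cbf)],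
  [(nat_lit 2), (nat_lit 0xef4593f001cb3)],
  [(nat_lit 2), (nat_lit 0xe746929001bc7)],
  [(nat_lit 2), (nat_lit 0xe34f91c001c1b)],
  [(nat_lit 2), (nat_lit 0x10c41d35001c3b)],
  [(nat_lit 2), (nat_lit 0xeb49cf6001c2b)],
  [(nat_lit 2), (nat_lit 0xed4cd20001d2f)],
  [(nat_lit 2), (nat_lit 0xee4710f001c4b)],
  [(nat_lit 2), (nat_lit 0xf54a130001b8b)],
  [(nat_lit 2), (nat_lit 0xed48931001df3)],
  [(nat_lit 2), (nat_lit 0xe34ed31001bbf)],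
  [(nat_lit 2), (nat_lit 0xf445903001aef)],
  [(nat_lit 2), (nat_lit 0xed4d8fe001e3d)],
  [(nat_lit 2), (nat_lit 0xef4a936001ddb)],
  [(nat_lit 2), (nat_lit 0xf44dd39001c17)],
  [(nat_lit 2), (nat_lit 0xfc4893a001b9b)],
  [(nat_lit 2), (nat_lit 0xf345906001b37)],
  [(nat_lit 2), (nat_lit 0xe33b509001bb7)],
  [(nat_lit 2), (nat_lit 0x4eceb001deb)],
  [(nat_lit 2), (nat_lit 0xf444921001bd3)],
  [(nat_lit 2), (nat_lit 0xec484f6001c0f)],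
  [(nat_lit 2), (nat_lit 0xee4a8fd001c6f)],
  [(nat_lit 2), (nat_lit 0xf33d533001c97)],
  [(nat_lit 2), (nat_lit 0xee50123001e01)],
  [(nat_lit 2), (nat_lit 0xeb4d114001d83)],
  [(nat_lit 2), (nat_lit 0xe34ed00001e31)],
  [(nat_lit 2), (nat_lit 0xe93b116001da7)],
  [(nat_lit 2), (nat_lit 0x4490f001d23)],
  [(nat_lit 2), (nat_lit 0xef3d526001ad7)],
  [(nat_lit 2), (nat_lit 0xe942d28001c5b)],
  [(nat_lit 2), (nat_lit 0xee41903001c87)],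
  [(nat_lit 2), (nat_lit 0x10f3b122001da3)],
  [(nat_lit 2), (nat_lit 0xf441520001ae3)],
  [(nat_lit 2), (nat_lit 0xe74853d001e1d)],
  [(nat_lit 2), (nat_lit 0xe74ed07001d4b)],
  [(nat_lit 2), (nat_lit 0xe74f93a001ac7)],
  [(nat_lit 2), (nat_lit 0x1024193f001b43)],
  [(nat_lit 2), (nat_lit 0xf84c936001e33)],
  [(nat_lit 2), (nat_lit 0x1134ad07001e21)],
  [(nat_lit 2), (nat_lit 0xf34d53e001dff)],
  [(nat_lit 2), (nat_lit 0xf34a13a001dbf)],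
  [(nat_lit 2), (nat_lit 0xf7488f2001c4f)],
  [(nat_lit 2), (nat_lit 0x49133001bff)],
  [(nat_lit 2), (nat_lit 0x4a8ec001ca7)],
  [(nat_lit 2), (nat_lit 0xf446138001bfb)],
  [(nat_lit 2), (nat_lit 0xec4491f001bab)],
  [(nat_lit 2), (nat_lit 0xe347d35001beb)],
  [(nat_lit 2), (nat_lit 0x43119001c6b)],
  [(nat_lit 2), (nat_lit 0xe543931001d8b)],
  [(nat_lit 2), (nat_lit 0x3b12a001c0b)],
  [(nat_lit 2), (nat_lit 0x4151c001b7f)],
  [(nat_lit 2), (nat_lit 0xf93d134001cdb)],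
  [(nat_lit 2), (nat_lit 0xf748530002219)],
  [(nat_lit 2), (nat_lit 0xf64e53e001c1f)],
  [(nat_lit 2), (nat_lit 0xe54ed2c001c07)],
  [(nat_lit 2), (nat_lit 0xec41d17001e1f)],
  [(nat_lit 2), (nat_lit 0x4e928001d93)],
  [(nat_lit 2), (nat_lit 0xe54f10d001ae7)],
  [(nat_lit 2), (nat_lit 0xe34a131001e23)],
  [(nat_lit 2), (nat_lit 0xf14413b001d37)],
  [(nat_lit 2), (nat_lit 0xf94fd18001dfd)],
  [(nat_lit 2), (nat_lit 0xe93f4ef001ddf)],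
  [(nat_lit 2), (nat_lit 0xe346d3d001def)],
  [(nat_lit 0), (nat_lit 7767)],
  [(nat_lit 0), (nat_lit 7765), (nat_lit 7789), (nat_lit 7753), (nat_lit 7789), (nat_lit 7767)],
  [(nat_lit 0), (nat_lit 7753), (nat_lit 7765), (nat_lit 7789), (nat_lit 7753), (nat_lit 7789)],
  [(nat_lit 2), (nat_lit 43)],
  [(nat_lit 2), (nat_lit 0xe53e92d001e4f)],
  [(nat_lit 2), (nat_lit 0xec49117001e5b)],
  [(nat_lit 2), (nat_lit 0xeb45d15001e5f)],
  [(nat_lit 2), (nat_lit 0x3f92d001e63)],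
  [(nat_lit 2), (nat_lit 0xef480ee001e67)],
  [(nat_lit 2), (nat_lit 0xe53a515001ff3)],
  [(nat_lit 2), (nat_lit 0xec42109001f4b)],
  [(nat_lit 2), (nat_lit 8753)],
  [(nat_lit 2), (nat_lit 0x4a13f0020cf)],
  [(nat_lit 2), (nat_lit 0xe53f530001fe7)],
  [(nat_lit 2), (nat_lit 0x1053f91800218f)],
  [(nat_lit 2), (nat_lit 0x4bd2300222f)],
  [(nat_lit 2), (nat_lit 0xe9471120020f3)],
  [(nat_lit 2), (nat_lit 0xe53dd06002225)],
  [(nat_lit 2), (nat_lit 0xfb4291f001f5f)],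
  [(nat_lit 2), (nat_lit 0xe94551d001e97)],
  [(nat_lit 2), (nat_lit 0xe74650a0021eb)],
  [(nat_lit 2), (nat_lit 0xfc44506002033)],
  [(nat_lit 2), (nat_lit 0xe94010800207b)],
  [(nat_lit 2), (nat_lit 0xf54fd18001eab)],
  [(nat_lit 2), (nat_lit 0xef42135001e7b)],
  [(nat_lit 2), (nat_lit 0x41924002235)],
  [(nat_lit 2), (nat_lit 0xe94d93f001f2f)],
  [(nat_lit 2), (nat_lit 0xfb4f53a001feb)],
  [(nat_lit 2), (nat_lit 0xf34ed17001fcf)],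
  [(nat_lit 2), (nat_lit 0xfa4853200201f)],
  [(nat_lit 2), (nat_lit 0x4453f00205b)],
  [(nat_lit 2), (nat_lit 0xfd4d905001f5b)],
  [(nat_lit 2), (nat_lit 0xf7438fb002183)],
  [(nat_lit 2), (nat_lit 0xfe4f507001f0b)],
  [(nat_lit 2), (nat_lit 0xfc47938001f47)],
  [(nat_lit 2), (nat_lit 0xfc414fd0021e7)],
  [(nat_lit 2), (nat_lit 0xf15012f001ec3)],
  [(nat_lit 2), (nat_lit 0xe94e4e7001ef7)],
  [(nat_lit 2), (nat_lit 0xe93f131002229)],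
  [(nat_lit 2), (nat_lit 0xed501200020d7)],
  [(nat_lit 2), (nat_lit 0xe54c515002107)],
  [(nat_lit 2), (nat_lit 0xe74f525002023)],
  [(nat_lit 2), (nat_lit 0x4b13d001e77)],
  [(nat_lit 2), (nat_lit 0x1053d52b00200f)],
  [(nat_lit 2), (nat_lit 0x11046900001f27)],
  [(nat_lit 2), (nat_lit 0xf450102002233)],
  [(nat_lit 2), (nat_lit 0xe34d0fa001ebf)],
  [(nat_lit 2), (nat_lit 0x1024a91c002083)],
  [(nat_lit 2), (nat_lit 0xfa41d370021c3)],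
  [(nat_lit 2), (nat_lit 0xfc3e4ed001e93)],
  [(nat_lit 2), (nat_lit 0x4d53a00201b)],
  [(nat_lit 2), (nat_lit 0x10f444ee001e8f)],
  [(nat_lit 2), (nat_lit 0xe5481060020d3)],
  [(nat_lit 2), (nat_lit 0xf14b53c00211f)],
  [(nat_lit 2), (nat_lit 0xec4b911001e83)],
  [(nat_lit 2), (nat_lit 0xe34f13e0020e7)],
  [(nat_lit 2), (nat_lit 0xe74b102001e73)],
  [(nat_lit 2), (nat_lit 0xf848133002043)],
  [(nat_lit 2), (nat_lit 0xe740108001fe3)],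
  [(nat_lit 2), (nat_lit 0xed4ace7001ff7)],
  [(nat_lit 2), (nat_lit 0xe33cd340021bb)],
  [(nat_lit 2), (nat_lit 0xee4bd27002227)],
  [(nat_lit 2), (nat_lit 0x3d11a00200b)],
  [(nat_lit 2), (nat_lit 0x39d35002007)],
  [(nat_lit 2), (nat_lit 0xfa4e13c001f2b)],
  [(nat_lit 2), (nat_lit 0xf647cfb002053)],
  [(nat_lit 2), (nat_lit 0xf949936001f13)],
  [(nat_lit 2), (nat_lit 0xed41d3c001eff)],
  [(nat_lit 2), (nat_lit 0xfb4cd0c0020e3)],
  [(nat_lit 2), (nat_lit 0xe946527001e9f)],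
  [(nat_lit 2), (nat_lit 0x4d90d001ea3)],
  [(nat_lit 2), (nat_lit 0xf34d135002187)],
  [(nat_lit 2), (nat_lit 0xe74bd01001ffb)],
  [(nat_lit 2), (nat_lit 0xf446507001f33)],
  [(nat_lit 2), (nat_lit 0xf54d10d002003)],
  [(nat_lit 2), (nat_lit 0xf34410e002221)],
  [(nat_lit 2), (nat_lit 0xf345132001e9b)],
  [(nat_lit 2), (nat_lit 0xed3e901002203)],
  [(nat_lit 2), (nat_lit 0x1064f938001fff)],
  [(nat_lit 2), (nat_lit 0x1073d92d001fef)],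
  [(nat_lit 2), (nat_lit 0x10047cf30021f3)],
  [(nat_lit 2), (nat_lit 0xf34f13400206f)],
  [(nat_lit 2), (nat_lit 0x10a4c4ec002223)],
  [(nat_lit 2), (nat_lit 0xf14fd0c00222d)],
  [(nat_lit 2), (nat_lit 0xe54fcf8001fc7)],
  [(nat_lit 2), (nat_lit 0xf24d51b001f6f)],
  [(nat_lit 2), (nat_lit 0x49d31001fdb)],
  [(nat_lit 2), (nat_lit 0xe34353b001ed3)],
  [(nat_lit 2), (nat_lit 0x421130020c3)],
  [(nat_lit 2), (nat_lit 0xe94dd3d0020b7)],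
  [(nat_lit 2), (nat_lit 0xe54c922001fd3)],
  [(nat_lit 2), (nat_lit 0x1014bd39002093)],
  [(nat_lit 2), (nat_lit 0xef3d5200020ef)],
  [(nat_lit 2), (nat_lit 0xeb4810700217b)],
  [(nat_lit 2), (nat_lit 0xe94a933002063)],
  [(nat_lit 2), (nat_lit 0x10e4a53a001e7f)],
  [(nat_lit 2), (nat_lit 0xf349cf600217f)],
  [(nat_lit 2), (nat_lit 0xf14fd12001fbf)],
  [(nat_lit 2), (nat_lit 0xe54950100209f)],
  [(nat_lit 2), (nat_lit 0xf34011a00204f)],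
  [(nat_lit 2), (nat_lit 0xec4d50c0020f7)],
  [(nat_lit 2), (nat_lit 0xef4c911001fa7)],
  [(nat_lit 2), (nat_lit 0xf641531002217)],
  [(nat_lit 2), (nat_lit 0x4b523001eaf)],
  [(nat_lit 2), (nat_lit 0xec4712f001f4f)],
  [(nat_lit 2), (nat_lit 0xef4f4f9002117)],
  [(nat_lit 2), (nat_lit 0xf550125002153)],
  [(nat_lit 2), (nat_lit 0x103481220021bf)],
  [(nat_lit 2), (nat_lit 0xef460f6001f53)],
  [(nat_lit 2), (nat_lit 0xe54dd19002087)],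
  [(nat_lit 2), (nat_lit 0x49cfe001e8b)],
  [(nat_lit 2), (nat_lit 0xe94ed0c001f23)],
  [(nat_lit 2), (nat_lit 0x4ed26001ec7)],
  [(nat_lit 2), (nat_lit 0xed49923001f57)],
  [(nat_lit 2), (nat_lit 0xf845d36001fbb)],
  [(nat_lit 2), (nat_lit 0xe7400f30020a3)],
  [(nat_lit 2), (nat_lit 0xe74f108001eeb)],
  [(nat_lit 2), (nat_lit 0xf84711f00202b)],
  [(nat_lit 2), (nat_lit 0xf44251300206b)],
  [(nat_lit 2), (nat_lit 0xf14c0ee00216b)],
  [(nat_lit 2), (nat_lit 0xf24a92c00213b)],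
  [(nat_lit 2), (nat_lit 0xe3479340021ef)],
  [(nat_lit 2), (nat_lit 0xe74a93500216f)],
  [(nat_lit 2), (nat_lit 0x4ed2b002123)],
  [(nat_lit 2), (nat_lit 0x10a4f5370020db)],
  [(nat_lit 2), (nat_lit 0xe548d180020ab)],
  [(nat_lit 2), (nat_lit 0xe34fd28001f1f)],
  [(nat_lit 2), (nat_lit 0xf14753d002147)],
  [(nat_lit 2), (nat_lit 0xfa4c51000215f)],
  [(nat_lit 2), (nat_lit 0xeb4cd03001fdf)],
  [(nat_lit 2), (nat_lit 0xe54cd37001edf)],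
  [(nat_lit 2), (nat_lit 0xe7480f9001f8b)],
  [(nat_lit 2), (nat_lit 0x464f400218b)],
  [(nat_lit 2), (nat_lit 0xe54150e001f73)],
  [(nat_lit 2), (nat_lit 0x3fd1a0020ff)],
  [(nat_lit 2), (nat_lit 0xe54dd18001f87)],
  [(nat_lit 2), (nat_lit 0xe740536001f67)],
  [(nat_lit 2), (nat_lit 0x3e13b002157)],
  [(nat_lit 2), (nat_lit 0xeb46935002197)],
  [(nat_lit 2), (nat_lit 0x3ed25001fc3)],
  [(nat_lit 2), (nat_lit 0xe34010800202f)],
  [(nat_lit 2), (nat_lit 0xe546d24001f9b)],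
  [(nat_lit 2), (nat_lit 0x4950f001ecb)],
  [(nat_lit 2), (nat_lit 0xe54853b00210b)],
  [(nat_lit 2), (nat_lit 0xf94f511001f0f)],
  [(nat_lit 2), (nat_lit 0xf2440fa001ed7)],
  [(nat_lit 2), (nat_lit 0xf45012f002127)],
  [(nat_lit 2), (nat_lit 0xe54412700208f)],
  [(nat_lit 2), (nat_lit 0xf43f91b001f7b)],
  [(nat_lit 2), (nat_lit 0x3e52300211b)],
  [(nat_lit 2), (nat_lit 0x4911c0021cf)],
  [(nat_lit 2), (nat_lit 0xe5480f8002077)],
  [(nat_lit 2), (nat_lit 0x10d4c5170020fb)],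
  [(nat_lit 2), (nat_lit 0xf43d12d00220b)],
  [(nat_lit 2), (nat_lit 0xeb3e51d002037)],
  [(nat_lit 2), (nat_lit 0xf64ed300020eb)],
  [(nat_lit 2), (nat_lit 0x4812300212f)],
  [(nat_lit 2), (nat_lit 0xe33c92d001fcb)],
  [(nat_lit 2), (nat_lit 0xf44652400210f)],
  [(nat_lit 2), (nat_lit 0xec41d2d002013)],
  [(nat_lit 2), (nat_lit 0xf43ad19001edb)],
  [(nat_lit 2), (nat_lit 0xef40119002137)],
  [(nat_lit 2), (nat_lit 0xe345518002167)],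
  [(nat_lit 2), (nat_lit 0xe74ed0800204b)],
  [(nat_lit 2), (nat_lit 0xed44924002027)],
  [(nat_lit 2), (nat_lit 0xeb471330020b3)],
  [(nat_lit 2), (nat_lit 0xfa4f1290021cb)],
  [(nat_lit 2), (nat_lit 0xe94213b001fa3)],
  [(nat_lit 2), (nat_lit 0xf649d0e00212b)],
  [(nat_lit 2), (nat_lit 0xfa41d2d0020bb)],
  [(nat_lit 2), (nat_lit 0xee4912c002047)],
  [(nat_lit 2), (nat_lit 0x46d130021ab)],
  [(nat_lit 2), (nat_lit 0xee4d0ef0021b3)],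
  [(nat_lit 2), (nat_lit 0xe545127002177)],
  [(nat_lit 2), (nat_lit 0xf44811b002213)],
  [(nat_lit 2), (nat_lit 0xe74511d001eb3)],
  [(nat_lit 2), (nat_lit 0xf346cf8002017)],
  [(nat_lit 2), (nat_lit 0xe344129001f8f)],
  [(nat_lit 2), (nat_lit 0xf1484f6001fb7)],
  [(nat_lit 2), (nat_lit 0x1004e93100215b)],
  [(nat_lit 2), (nat_lit 0xf24c4f900208b)],
  [(nat_lit 2), (nat_lit 0xe74c8ee001f97)],
  [(nat_lit 2), (nat_lit 0x3f0fc00203b)],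
  [(nat_lit 2), (nat_lit 0xe548106001f3f)],
  [(nat_lit 2), (nat_lit 0xfc420ec001f07)],
  [(nat_lit 2), (nat_lit 0xe94010200221d)],
  [(nat_lit 2), (nat_lit 0xef3cd3c001f03)],
  [(nat_lit 2), (nat_lit 0xec4c92a001fd7)],
  [(nat_lit 2), (nat_lit 0x1104bcee001f6b)],
  [(nat_lit 2), (nat_lit 0xec41d0d002193)],
  [(nat_lit 2), (nat_lit 0xf448108001eef)],
  [(nat_lit 2), (nat_lit 0x43d2e002113)],
  [(nat_lit 2), (nat_lit 0xe74d53a00219b)],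
  [(nat_lit 2), (nat_lit 0xfa4091f0020a7)],
  [(nat_lit 2), (nat_lit 0x3f90d00219f)],
  [(nat_lit 2), (nat_lit 0xf44a50900207f)],
  [(nat_lit 2), (nat_lit 0xed4f108001ebb)],
  [(nat_lit 2), (nat_lit 0xf24f9120021ff)],
  [(nat_lit 2), (nat_lit 0xf545533001f7f)],
  [(nat_lit 2), (nat_lit 0x464ec001f37)],
  [(nat_lit 2), (nat_lit 0xe74f4ff00213f)],
  [(nat_lit 2), (nat_lit 0xeb3f52f001f9f)],
  [(nat_lit 2), (nat_lit 0xe34211a0021fb)],
  [(nat_lit 2), (nat_lit 0xf7471030021e3)],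
  [(nat_lit 2), (nat_lit 0x3bcfb0021d3)],
  [(nat_lit 2), (nat_lit 0xfa4891e001ecf)],
  [(nat_lit 2), (nat_lit 0xe93f535001f1b)],
  [(nat_lit 2), (nat_lit 0xe74e532002103)],
  [(nat_lit 2), (nat_lit 0xeb3cd210020df)],
  [(nat_lit 2), (nat_lit 0x4e10d00214f)],
  [(nat_lit 2), (nat_lit 0x1004f52f0020bf)],
  [(nat_lit 2), (nat_lit 0xf846d32001f77)],
  [(nat_lit 2), (nat_lit 0x3fd230021b7)],
  [(nat_lit 2), (nat_lit 0xec4311c0021f7)],
  [(nat_lit 2), (nat_lit 0xf24dd140020cb)],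
  [(nat_lit 2), (nat_lit 0xe946113002133)],
  [(nat_lit 2), (nat_lit 0xed40134001ee3)],
  [(nat_lit 2), (nat_lit 0xe748901002173)],
  [(nat_lit 2), (nat_lit 0xec479080021a3)],
  [(nat_lit 2), (nat_lit 0xe94c93f0020af)],
  [(nat_lit 2), (nat_lit 0xf54a511002073)],
  [(nat_lit 2), (nat_lit 0x42d2f001ee7)],
  [(nat_lit 2), (nat_lit 0xf64893500221f)],
  [(nat_lit 2), (nat_lit 0xf3488f6001f93)],
  [(nat_lit 2), (nat_lit 0x4451d00220f)],
  [(nat_lit 2), (nat_lit 0xf4429080021db)],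
  [(nat_lit 2), (nat_lit 0x45936001fb3)],
  [(nat_lit 2), (nat_lit 0x1054d51f001efb)],
  [(nat_lit 2), (nat_lit 0xe34ed2400209b)],
  [(nat_lit 2), (nat_lit 0xf44c11f002143)],
  [(nat_lit 2), (nat_lit 0xed464e90021a7)],
  [(nat_lit 2), (nat_lit 0xfa4d13a0020c7)],
  [(nat_lit 2), (nat_lit 0xf54cd2a00214b)],
  [(nat_lit 2), (nat_lit 0x3a4f7001fab)],
  [(nat_lit 2), (nat_lit 0xe34911c001ea7)],
  [(nat_lit 2), (nat_lit 0x49d0a001f17)],
  [(nat_lit 2), (nat_lit 0xe53b52e002067)],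
  [(nat_lit 2), (nat_lit 0x40cfc0021c7)],
  [(nat_lit 2), (nat_lit 0xed4ad1d001faf)],
  [(nat_lit 2), (nat_lit 0xe9420ec0021d7)],
  [(nat_lit 2), (nat_lit 0xee40d2200203f)],
  [(nat_lit 2), (nat_lit 0xe344d16002163)],
  [(nat_lit 2), (nat_lit 0xf54ccff001ef3)],
  [(nat_lit 2), (nat_lit 0xe94012c001e87)],
  [(nat_lit 2), (nat_lit 0xeb3cd190021af)],
  [(nat_lit 2), (nat_lit 0x108470f1002057)],
  [(nat_lit 2), (nat_lit 0xfb4f51f001f83)],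
  [(nat_lit 2), (nat_lit 0xeb46528001eb7)],
  [(nat_lit 2), (nat_lit 0xf44990d002207)],
  [(nat_lit 2), (nat_lit 0xfc4a13d00205f)],
  [(nat_lit 2), (nat_lit 0xe54c0f30021df)],
  [(nat_lit 2), (nat_lit 0xf34b909001f63)],
  [(nat_lit 2), (nat_lit 0xf93c92900221b)],
  [(nat_lit 2), (nat_lit 0xed4c12d002097)],
  [(nat_lit 2), (nat_lit 0x102470e7001f43)],
  [(nat_lit 2), (nat_lit 0x10c49130001f3b)]]
noncomputable def ex : List (List ℕ) :=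
  [[236, 227, 230], [234, 229, 232], [233, 231, 228], [238, 234, 230], [247, 241, 226], [238, 242, 229], [248, 240], [252, 231], [250, 226], [251, 246], [255, 237], [256, 246], [254, 228], [259, 243], [264, 241], [264, 232], [264, 234], [267, 261], [268, 273], [269, 230], [276, 240], [273, 274], [277, 252], [281, 239], [286, 267], [284, 267], [287, 240], [286, 248], [290, 263], [292, 227], [290, 273], [299, 281], [297, 300], [303, 287], [296, 300], [300, 276], [303, 306], [313, 235], [307, 305], [310, 288]]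
noncomputable def M : ℕ :=
  (nat_lit 0x7ff)
noncomputable def o1 : Cov :=
  ⟨1, [2190, 2191, 2192], [0, 1, 2, 0, 1, 2, 0, 1, 2, 0, 1, 2, 0, 1, 2, 0, 1, 2, 0],
  [4386, 4404, 4408, 4398, 4390, 4396, 4406, 4394, 4388, 4392, 4400, 4402], 17199⟩
noncomputable def o2 : Cov :=
  ⟨2, [2205, 2206, 2207], [0, 2, 1, 0, 2, 1, 0, 2, 1, 0, 2, 1, 0, 2, 1, 0, 2, 0],
  [4416, 4424, 4418, 4430, 4428, 4426, 4422, 4432, 4420], 45864⟩
noncomputable def o3 : Cov :=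
  ⟨3, [2217, 2218, 2219], [0, 1, 2, 0, 1, 0, 2, 1, 0, 1, 0, 2],
  [4440, 4576, 4574, 4508, 4496, 4588, 4566, 4448, 4536, 4546, 4606, 4550, 4590, 4502, 4564, 4498, 4464, 4532, 4514, 4594, 4488, 4458, 4492, 4618, 4592, 4620, 4522, 4580, 4524, 4450, 4528, 4482, 4456, 4534, 4598, 4542, 4472, 4462, 4610, 4552, 4584, 4558, 4602, 4596, 4554, 4570, 4504, 4568, 4474, 4540, 4452, 4530, 4478, 4490, 4616, 4476, 4562, 4624, 4494, 4454, 4512, 4604, 4470, 4586, 4444, 4506, 4628, 4632, 4548, 4626, 4518, 4614, 4608, 4630, 4612, 4560, 4480, 4556, 4582, 4520, 4484, 4516, 4510, 4446, 4468, 4442, 4572, 4500, 4622, 4578, 4486, 4460, 4526, 4544, 4600, 4466, 4538], 2201472⟩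
noncomputable def o4 : Cov :=
  ⟨4, [2317, 2318, 2319], [0, 2, 1, 0, 2, 1, 0, 1, 2, 0, 1, 2, 0, 0],
  [4640, 4708, 4670, 4744, 4654, 4704, 4700, 4724, 4732, 4656, 4642, 4740, 4734, 4662, 4712, 4646, 4658, 4690, 4664, 4726, 4728, 4710, 4706, 4730, 4738, 4668, 4718, 4696, 4644, 4686, 4714, 4682, 4698, 4688, 4660, 4672, 4684, 4716, 4650, 4648, 4692, 4674, 4666, 4652, 4680, 4722, 4702, 4694, 4720, 4678, 4676, 4742, 4736], 1304576⟩
noncomputable def o5 : Cov :=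
  ⟨5, [2373, 2374, 2375], [2, 0, 2, 0, 2, 2, 2, 0, 2, 0],
  [4752, 5366, 5368, 4952, 5184, 4972, 5376, 5280, 5046, 4958, 5050, 4828, 4794, 5098, 4862, 5040, 5374, 5008, 4826, 5300, 5094, 4886, 4900, 4944, 4880, 5312, 4814, 4756, 5396, 4914, 5206, 4936, 5394, 5334, 5352, 5132, 5104, 4926, 5144, 5236, 5438, 4954, 5400, 5426, 5432, 4780, 4790, 5324, 4990, 5298, 5180, 5362, 5120, 4824, 5072, 4894, 5202, 5372, 4774, 5288, 5178, 5078, 5014, 5230, 5338, 5416, 5034, 5418, 5204, 5402, 5348, 4812, 5246, 5028, 4962, 4830, 4784, 5224, 4904, 5218, 5342, 5038, 4982, 5294, 5428, 5398, 5156, 4764, 5306, 4760, 4854, 4856, 4860, 4806, 5004, 4870, 4778, 4902, 5054, 4758, 4836, 4838, 4810, 4920, 5278, 5346, 4890, 4948, 5316, 5186, 5080, 5240, 4968, 5444, 5420, 5322, 5088, 5182, 4970, 5424, 5244, 5422, 5208, 5464, 5126, 5414, 5030, 4942, 5044, 5258, 4766, 5282, 4950, 5296, 5268, 5006,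 4782, 5092, 5292, 5090, 5036, 5138, 5408, 5222, 5310, 5010, 5388, 4992, 5220, 5386, 5456, 4754, 5446, 5290, 5360, 4922, 5086, 4908, 5188, 5466, 5260, 5276, 5332, 5170, 5270, 4906, 5124, 5318, 4808, 4884, 5210, 5452, 4868, 5378, 5412, 5116, 4896, 5200, 4786, 5354, 4986, 4924, 5042, 4858, 5358, 4946, 4888, 5370, 5410, 4974, 5330, 4892, 5364, 5158, 5308, 5226, 5136, 4768, 4770, 4928, 4932, 4916, 4798, 5148, 5196, 5448, 5442, 4846, 5326, 4762, 5252, 5134, 5392, 5018, 5096, 5384, 4912, 4918, 4792, 5450, 4876, 5118, 5164, 5274, 5212, 5122, 4984, 4796, 4996, 5160, 5100, 4848, 5174, 5198, 5000, 5192, 5380, 5250, 5032, 5068, 5190, 4978, 5128, 5150, 5458, 5344, 4852, 5114, 4866, 5074, 4960, 5012, 5234, 4998, 5026, 4964, 4820, 5266, 4850, 5460, 5154, 5238, 5102, 5176, 5328, 5314, 4910, 5048, 4898, 4818, 5152, 4940, 5058, 5084, 5024, 4832, 5022, 5284, 5254, 4878, 5016, 5248,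 5162, 4980, 5440, 4800, 5216, 5076, 4988, 5256, 5108, 5406, 5336, 4776, 4822, 5064, 5214, 4804, 5242, 4956, 4882, 5052, 4872, 5168, 5228, 4874, 5272, 4788, 5350, 5066, 5056, 5390, 5262, 5140, 4844, 5112, 5070, 5454, 5106, 5060, 5286, 5142, 4802, 4976, 5146, 4816, 4930, 5232, 4842, 4840, 5166, 5082, 5304, 5462, 5062, 5436, 5002, 4934, 5404, 4772, 5110, 5264, 5434, 5320, 5302, 4938, 5382, 5356, 5430, 5340, 5172, 5020, 5130, 4864, 4834, 5194, 4994, 4966], 11741184⟩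
noncomputable def o6 : Cov :=
  ⟨6, [2734, 2735, 2736], [0, 2, 0],
  [5474, 6036, 6140, 6226, 10256, 11396, 9094, 9526, 5762, 7318, 9078, 8132, 6906, 9866, 8366, 11334, 8908, 7384, 10942, 8000, 6612, 5766, 5778, 5768, 5772, 5776, 6410, 8212, 10060, 11034, 7624, 6616, 6620, 9016, 6054, 10236, 6120, 6586, 8374, 11224, 6958, 7366, 8718, 6624, 10058, 9022, 9018, 9020, 6646, 6648, 9030, 8112, 7960, 6650, 9028, 6644, 7022, 8080, 5518, 5640, 11300, 8686, 6684, 9660, 8494, 9050, 7320, 7590, 8256, 6660, 8728, 8268, 7228, 6658, 9494, 9226, 8620, 6656, 7246, 9040, 8654, 11356, 6534, 9744, 7570, 6166, 5786, 9286, 7626, 5870, 10582, 7036, 6714, 8314, 8300, 5740, 5798, 7184, 7302, 6342, 6288, 6732, 6702, 6136, 8456, 6956, 6836, 8340, 6728, 9074, 9818, 11324, 6722, 6852, 7818, 5834, 8032, 9870, 7598, 10704, 9100, 9072, 5896, 10674, 5802, 5520, 5736, 6698, 10944, 11280, 8230, 10618,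 9658, 6596, 9644, 10334, 8062, 10064, 6762, 8746, 7442, 6744, 5648, 7948, 9092, 9428, 6028, 6436, 10174, 6552, 7778, 8138, 6628, 7806, 9088, 9836, 7446, 7114, 7692, 9992, 7144, 9056, 5814, 5816, 5820, 5818, 5530, 5812, 5534, 5478, 5536, 5726, 8172, 6298, 11340, 8100, 8780, 9104, 11242, 5824, 5538, 5540, 7358, 9058, 10732, 7852, 9108, 8966, 8912, 8836, 9044, 5586, 6400, 10326, 5566, 9112, 9820, 8634, 7706, 9888, 8550, 8010, 9534, 6780, 6094, 8790, 7610, 9912, 10032, 7466, 7686, 11402, 10230, 5934, 7824, 10598, 11406, 8732, 6806, 10810, 5876, 8628, 9120, 8878, 7942, 8796, 6106, 9500, 7974, 7254, 5878, 9136, 8432, 10868, 7828, 9178, 9480, 10246, 10562, 9182, 9118, 8786, 9186, 10292, 7092, 10396, 8060, 7726, 10828, 8134, 10250, 10398, 10916, 9116, 6694, 8680, 10452, 9158, 9162, 5866, 6746, 10984, 8442, 10814, 10074, 10758, 9702, 11116, 8034, 11142, 9174, 10764, 6456,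 11262, 8942, 6040, 7896, 9984, 8886, 8744, 6774, 8004, 10194, 7154, 5724, 6736, 6810, 9264, 8182, 10824, 9272, 9252, 6430, 6800, 9360, 7672, 8022, 9210, 8854, 10910, 5680, 8250, 8336, 7772, 9298, 6338, 9598, 11100, 7224, 11364, 9276, 7214, 10774, 10750, 9332, 5936, 6792, 10290, 6178, 6640, 6716, 7838, 7468, 10252, 6464, 9228, 10668, 9838, 9314, 11022, 7516, 8174, 7696, 10882, 11400, 9320, 6448, 6820, 8484, 5830, 9200, 6394, 8894, 10884, 7416, 11104, 8932, 6022, 9216, 9406, 10130, 7536, 9224, 7488, 9232, 10528, 6790, 6440, 11318, 9220, 9752, 8552, 9160, 7496, 7304, 11108, 8358, 8938, 9950, 10812, 9662, 6666, 9138, 9546, 7242, 11192, 10024, 9402, 7554, 11020, 11354, 6850, 9438, 7006, 8082, 6384, 9860, 7020, 7270, 8596, 9416, 7072, 9424, 9422, 9532, 6090, 5704, 6964, 10362, 10790, 7834, 9430, 9780, 5974, 6416, 8884, 9466, 9472, 9930, 7392, 7764, 10500, 8476, 7146, 5828,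 11048, 8402, 8602, 9458, 11350, 8656, 10404, 10726, 10280, 7268, 8940, 11168, 8184, 11030, 6044, 10924, 8538, 9334, 10448, 8384, 7120, 6760, 11074, 11410, 8646, 6206, 9084, 9356, 10662, 11320, 8682, 6844, 8040, 7542, 9288, 10746, 9384, 9340, 11392, 6784, 6614, 5926, 7216, 11294, 7784, 7116, 11398, 8396, 10494, 10918, 9370, 11264, 9048, 11150, 7676, 9374, 9246, 9080, 6388, 8334, 9398, 11346, 9394, 5838, 7038, 9552, 6894, 7634, 10180, 10440, 5508, 9558, 6886, 7482, 6888, 8098, 6682, 6292, 6892, 8594, 6122, 9194, 9584, 8978, 9588, 10744, 9146, 10426, 11248, 9442, 5650, 9570, 11166, 10084, 8774, 10176, 9914, 7048, 9600, 7880, 10080, 8824, 10248, 6006, 5782, 10324, 9664, 6828, 7124, 7978, 9192, 9098, 9378, 5804, 10202, 9492, 6868, 8500, 8530, 6636, 6872, 6874, 10716, 5606, 9516, 6348, 8544, 8572, 9994, 8852, 5636, 9496, 9524, 11238, 9714, 7010, 5826, 9602, 9776, 9928,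 7580, 10488, 6222, 5854, 8516, 9542, 8070, 9530, 6954, 5842, 6928, 5598, 8892, 6156, 6930, 7168, 6934, 6192, 6406, 7026, 6162, 8304, 11206, 6172, 8736, 9070, 10640, 5626, 6198, 9450, 6914, 9576, 8408, 10328, 10740, 8298, 6854, 11144, 8694, 10498, 10584, 9386, 9222, 10314, 7098, 8784, 6798, 7506, 11132, 7028, 10570, 7426, 8652, 7126, 9592, 11390, 10912, 11084, 9172, 8486, 9032, 6926, 6952, 7122, 7262, 8770, 10800, 10164, 11110, 9706, 10318, 8670, 11358, 10858, 9710, 11004, 11180, 8208, 8522, 8028, 8726, 9754, 9666, 6370, 10308, 9670, 7340, 9674, 8860, 7206, 9042, 9536, 9362, 5984, 6802, 8106, 10986, 10902, 7060, 6010, 9634, 8848, 10508, 9490, 9176, 5668, 5836, 7584, 11170, 10780, 9682, 9304, 9486, 6946, 6948, 8766, 7396, 7236, 7012, 6882, 6768, 9778, 5980, 9680, 6696, 8190, 9782, 9786, 8644, 9784, 9946, 10154, 10652, 6000, 8874, 9510, 10484, 7030, 9724, 8574, 6994,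 8130, 6866, 9762, 5532, 7928, 7950, 7142, 8444, 9764, 7776, 9170, 9768, 6604, 11408, 8390, 7058, 9864, 10274, 9868, 9872, 9878, 10834, 6252, 9882, 7066, 9596, 7080, 9890, 10338, 7674, 9896, 8524, 9368, 8954, 7604, 8560, 6990, 9504, 9556, 7998, 7498, 6568, 9166, 7082, 9908, 6712, 11134, 6472, 9802, 10124, 9804, 9876, 9168, 9810, 9814, 7040, 7044, 7046, 8740, 8448, 9262, 11078, 6458, 10506, 11414, 7522, 8800, 11376, 9834, 6032, 5868, 5888, 10644, 9566, 5604, 6026, 9862, 7052, 7568, 9732, 7354, 9856, 7104, 9974, 9976, 7084, 11002, 7110, 5892, 11274, 8026, 9982, 6062, 9990, 9528, 9632, 7920, 10070, 5954, 9414, 9730, 6460, 9774, 11336, 8160, 10546, 9102, 6438, 7794, 7938, 7324, 9816, 7714, 7086, 8496, 6876, 8862, 11258, 11126, 6700, 6896, 9198, 8742, 6710, 7352, 6184, 9302, 11042, 8636, 9350, 5670, 9612, 9364, 9400, 7118, 5886, 9694, 9948, 6068, 7632, 7932, 7454, 10544,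 10522, 7106, 9144, 10436, 10146, 5628, 7760, 7164, 7166, 10004, 7972, 6190, 7148, 7152, 9904, 6360, 7176, 5510, 8118, 6584, 5482, 5574, 5576, 5580, 5578, 5514, 6668, 6080, 7244, 8386, 7202, 9214, 5500, 11036, 7958, 7964, 7230, 7134, 8310, 7294, 5780, 9046, 6154, 5730, 8906, 7898, 7280, 8880, 7300, 6992, 7848, 6708, 7240, 7296, 7250, 7404, 5480, 5554, 5556, 5560, 5562, 6622, 5584, 7054, 5528, 7208, 7766, 7222, 9978, 6772, 5484, 5594, 5596, 5860, 10014, 8650, 10020, 8850, 10030, 9148, 10044, 8488, 6254, 10034, 7314, 7788, 5700, 6838, 10052, 11006, 6442, 10066, 10068, 11220, 9758, 6814, 10996, 10552, 10076, 5872, 10664, 10450, 6476, 10190, 7016, 7278, 5882, 9794, 8426, 10258, 9026, 9348, 10126, 10128, 6258, 10890, 8342, 7650, 9920, 8684, 6606, 10142, 7456, 8566, 7754, 10148, 7774, 10088, 10092, 6754, 5600, 9796, 6794, 8154, 9062, 8708, 7282, 6588, 6262, 7356, 10946,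 9624, 10178, 6274, 11130, 10214, 10184, 8482, 7158, 7376, 8232, 8576, 9280, 7232, 8952, 10204, 6072, 9894, 10888, 6452, 6296, 5564, 9940, 7868, 10110, 7346, 5898, 11208, 10892, 9514, 7576, 9212, 5662, 6418, 6488, 6720, 6422, 8882, 8798, 7374, 11138, 10232, 11128, 7390, 8332, 6280, 10266, 7856, 6920, 9708, 9734, 7378, 8030, 10212, 10140, 10818, 10200, 9652, 7382, 6484, 7032, 8176, 8144, 9188, 5884, 10090, 7200, 6362, 7068, 8258, 6432, 5894, 10262, 7432, 7434, 6018, 7440, 7170, 8688, 6492, 6434, 7350, 7444, 7198, 6194, 5916, 7412, 6248, 7420, 8422, 7422, 6908, 10676, 9840, 10312, 9910, 9204, 7070, 9726, 10336, 7470, 6674, 7484, 7792, 10238, 5966, 8956, 8110, 5794, 10656, 7478, 6842, 9750, 10278, 8498, 8928, 7450, 7458, 6016, 10286, 11384, 9698, 9932, 10680, 9684, 10722, 10298, 10162, 10300, 7504, 5906, 7510, 10382, 7908, 10766, 7512, 10388, 10392, 7308, 6322, 10354,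 10936, 5986, 7490, 6082, 10364, 6904, 6246, 7062, 6630, 10012, 9962, 9686, 10376, 10378, 9240, 8270, 9606, 8224, 10588, 9966, 10686, 9034, 8354, 5988, 10370, 5618, 7276, 10206, 7668, 7534, 7544, 5488, 5630, 6506, 7770, 5632, 7256, 8346, 8124, 8598, 5722, 11158, 10414, 8478, 7472, 10218, 10470, 9330, 10434, 9434, 10542, 8180, 10120, 9942, 8960, 9068, 8808, 6578, 9846, 9568, 6078, 8360, 11292, 10524, 8302, 9236, 11268, 9196, 8518, 6880, 11200, 10422, 10600, 6530, 7002, 8210, 9746, 9704, 7316, 5806, 10614, 10368, 10862, 10152, 9268, 10112, 8054, 7588, 7566, 7702, 6776, 6086, 5660, 9952, 6382, 6970, 10276, 6328, 10268, 7878, 9594, 8458, 10028, 8946, 9770, 10316, 6764, 7786, 7560, 5920, 5944, 9456, 11070, 11412, 11046, 11276, 9342, 10330, 10560, 11290, 10596, 9812, 10788, 7204, 7194, 10962, 9944, 10784, 11416, 7798, 6332, 9448, 10568, 10608, 7612, 10610, 9722, 11162,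 9548, 7952, 6858, 6346, 5690, 10372, 10186, 7800, 9122, 10778, 10650, 10240, 9366, 9554, 6538, 10880, 9690, 9036, 7186, 10776, 9380, 10502, 9960, 10786, 8992, 7132, 10384, 6402, 8046, 8470, 5494, 9376, 6968, 10340, 7740, 8326, 8980, 10694, 6074, 9086, 6900, 11304, 9824, 8632, 6918, 7862, 10756, 10700, 10874, 7816, 7398, 6822, 10006, 7716, 10480, 6220, 6834, 6230, 7290, 8738, 9412, 8588, 6996, 10462, 9902, 10254, 10630, 10196, 9110, 8904, 11226, 5728, 10136, 10520, 10932, 6268, 8170, 6706, 7812, 5708, 7608, 7540, 7622, 9828, 6398, 7312, 5844, 7606, 6282, 9066, 7826, 5908, 8102, 10432, 10420, 11140, 10400, 9954, 10446, 9858, 10642, 9900, 5666, 10304, 7448, 11372, 8998, 9310, 7968, 6042, 10696, 10548, 10826, 10366, 9538, 11202, 9970, 7362, 7820, 9986, 7306, 8352, 7724, 10428, 6832, 7406, 7832, 8514, 6824, 6758, 7684, 7720, 7698, 8898, 6112, 10692, 9408, 6626, 9150,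 10658, 10844, 7758, 7846, 8294, 9574, 10040, 10114, 11244, 10772, 10454, 10802, 10842, 11018, 10856, 6562, 9582, 7892, 9238, 10638, 9934, 11178, 10106, 6548, 7894, 11286, 10872, 7102, 9832, 7742, 9482, 10860, 10182, 8254, 7904, 9518, 11240, 8782, 8828, 7660, 5848, 10156, 7298, 10352, 9444, 10782, 10010, 9462, 11418, 7286, 10876, 9124, 9338, 6750, 10654, 7064, 10122, 10850, 8014, 10538, 10172, 7394, 9668, 11188, 9502, 8490, 8328, 10670, 6982, 10900, 9642, 11404, 6202, 10468, 7940, 7910, 10094, 7644, 8920, 5790, 8974, 6986, 7646, 9300, 9446, 7192, 7912, 10536, 6004, 10896, 5570, 5608, 7546, 7550, 6318, 5614, 5612, 5504, 6786, 9956, 6116, 8534, 7864, 6916, 9544, 5522, 10150, 10458, 10456, 9190, 9540, 10460, 7782, 9656, 8454, 9766, 10018, 11216, 9736, 10482, 5914, 5676, 5496, 10272, 9180, 7600, 7746, 5682, 10514, 9886, 7870, 9082, 8274, 10264, 5524, 8038, 7430, 5616,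 7138, 10646, 10804, 6108, 9318, 9842, 10532, 7808, 10016, 6444, 5918, 10566, 10564, 9808, 7620, 9390, 9090, 8158, 6376, 9132, 6542, 6002, 7532, 9392, 10406, 6250, 5910, 8772, 11122, 10026, 8136, 8206, 10698, 8972, 9452, 6152, 8792, 6118, 8480, 7614, 6672, 9790, 10554, 5922, 7638, 5692, 6942, 7640, 9096, 8822, 5476, 8714, 10512, 9936, 8436, 10000, 6100, 9354, 6404, 7658, 10622, 9964, 7918, 9628, 9880, 5924, 9064, 9230, 10346, 5592, 8614, 6554, 7688, 8114, 6180, 7694, 7520, 7518, 7128, 7272, 8216, 8964, 10374, 11378, 9454, 8700, 7552, 7888, 10666, 6030, 9054, 10168, 8090, 9988, 11278, 11124, 6186, 10108, 10444, 11092, 9672, 5970, 10682, 8622, 5956, 8400, 8710, 7700, 6642, 8382, 9410, 8944, 5938, 6912, 10708, 8676, 6688, 5738, 6046, 5904, 6308, 5718, 7752, 5492, 5652, 5654, 5656, 5658, 5732, 5664, 5642, 10620, 7934, 9426, 9352, 10752, 10394, 10576, 9382, 5686, 9716,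 9700, 9014, 7844, 8016, 7986, 6512, 8984, 9792, 8564, 11080, 6236, 5706, 11112, 11076, 10572, 10192, 5874, 6574, 11086, 6164, 11186, 6490, 10296, 8072, 10234, 10580, 10624, 8958, 6012, 9460, 8078, 6234, 6428, 10930, 8756, 7056, 11082, 9488, 8024, 10516, 10050, 10734, 9282, 10306, 10808, 5832, 11072, 7136, 10792, 7386, 9152, 8338, 8722, 8690, 7712, 6726, 7876, 9788, 6818, 9720, 9476, 6752, 6414, 11054, 9440, 10342, 11096, 10602, 10220, 10660, 6922, 7182, 7984, 6038, 5550, 6426, 8104, 6678, 9848, 8076, 10718, 6924, 10242, 10954, 7418, 10402, 7564, 7464, 8052, 10100, 11106, 7762, 10760, 11058, 6848, 10408, 10022, 9560, 8116, 9258, 7076, 9564, 9906, 6312, 8916, 6420, 10118, 5992, 8120, 5792, 8126, 7218, 6560, 8152, 7162, 8156, 11314, 10386, 6278, 9274, 11000, 10134, 8278, 10898, 10356, 8760, 5742, 10096, 10210, 6210, 8146, 10994, 11146, 9464, 7936, 9418, 10116, 9968,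 8044, 8164, 8092, 10102, 7734, 8578, 6374, 6778, 9130, 9712, 5998, 10952, 10854, 7034, 5490, 5638, 5644, 5646, 10104, 7924, 7574, 6316, 8536, 10904, 10906, 6580, 9202, 10914, 5948, 9260, 5962, 5502, 6304, 5972, 7642, 8558, 7930, 9852, 10358, 7926, 8814, 7088, 8520, 5978, 5546, 5862, 9470, 10632, 10966, 7946, 9270, 10504, 7944, 6424, 5800, 9522, 9692, 6998, 7508, 10982, 7750, 5976, 6380, 6600, 9822, 7188, 10960, 10332, 6528, 9244, 6564, 9756, 6160, 10848, 9506, 10586, 6500, 8856, 5982, 8356, 10046, 5950, 7728, 10412, 7372, 6962, 11282, 10416, 7514, 6326, 6020, 7042, 7556, 9844, 10990, 7954, 7982, 8834, 7996, 9128, 10754, 8398, 6450, 7994, 9234, 6536, 7526, 9498, 8818, 10082, 6446, 11024, 9312, 8178, 7582, 9718, 7586, 9742, 7264, 7710, 9420, 7360, 8292, 8194, 10980, 7842, 10738, 9254, 6988, 8042, 10492, 11060, 11062, 9520, 8926, 7732, 10518, 11052, 8036, 8472, 9650,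 9126, 7380, 7100, 6950, 5516, 6890, 11218, 8466, 10038, 10998, 8218, 9306, 10728, 8720, 8468, 6334, 8276, 8168, 6664, 10870, 10302, 10938, 11254, 10878, 11306, 7822, 8826, 8548, 11160, 8492, 8200, 6932, 6168, 6602, 8198, 7830, 9468, 9738, 6558, 10634, 8986, 9916, 7682, 6466, 6796, 6662, 7596, 7654, 6652, 5850, 7014, 8226, 10002, 5610, 6052, 6742, 7424, 8192, 6240, 6516, 11016, 9924, 6150, 10956, 10438, 11308, 9206, 7414, 8424, 7180, 7480, 7474, 10886, 9648, 6474, 10794, 8474, 9626, 7594, 8372, 8186, 9854, 9052, 6378, 10198, 11038, 7538, 5678, 10424, 7196, 10086, 9998, 10678, 8280, 6146, 9114, 8006, 11050, 7130, 6270, 6110, 8452, 7922, 9512, 6856, 11196, 6480, 11120, 6862, 10908, 8816, 9772, 11420, 10490, 10922, 11148, 11250, 8844, 7854, 7616, 6170, 7602, 7722, 8162, 10636, 9874, 6830, 9590, 8528, 6286, 8976, 7992, 6126, 6860, 8610, 9250, 7172, 7840, 10260, 6972,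 8404, 8870, 8020, 9038, 8368, 8012, 5572, 7018, 9346, 7400, 7074, 5764, 6104, 7860, 9850, 7780, 7174, 8532, 6724, 11298, 9646, 7914, 6182, 7460, 6936, 7078, 8364, 9436, 10612, 11088, 8542, 10510, 7790, 8202, 8344, 8248, 7096, 6060, 11210, 11236, 11230, 7234, 11098, 6654, 9296, 10684, 5810, 6340, 10244, 5712, 8252, 11182, 11184, 6260, 9806, 6840, 8506, 11032, 10170, 6632, 10526, 9740, 10288, 7190, 8922, 5760, 6504, 10606, 8502, 11204, 6788, 8282, 6290, 5548, 8242, 11214, 7178, 9630, 10806, 5754, 7558, 9142, 8510, 8702, 8994, 5788, 5552, 6978, 6730, 8308, 6218, 7150, 8350, 6174, 8838, 7810, 9884, 11234, 10836, 10628, 6048, 11164, 10820, 8290, 6610, 7004, 10472, 8410, 7678, 7970, 7310, 5846, 11284, 7890, 6034, 5544, 11152, 10846, 10894, 7500, 8778, 5880, 9610, 5744, 10054, 6142, 7160, 9972, 8204, 9404, 6544, 9604, 6050, 11174, 10350, 6144, 8220, 9284, 8222, 8730, 10166,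 9618, 6734, 10442, 6008, 9918, 7370, 11190, 8512, 10864, 5624, 5770, 7220, 6056, 6592, 8246, 7866, 5822, 8236, 6066, 8238, 8508, 8240, 7648, 10838, 5486, 5634, 6084, 8084, 5902, 7326, 6718, 8330, 10216, 10978, 10294, 11326, 7322, 11260, 7736, 7108, 5542, 7438, 11256, 11310, 6014, 11246, 8988, 9748, 8088, 9562, 10866, 5930, 7462, 9622, 8128, 8378, 6898, 7090, 10322, 8748, 7628, 7748, 8392, 7266, 8074, 9654, 9006, 9010, 7528, 5590, 6408, 7858, 9688, 9164, 10590, 10042, 10832, 5602, 7210, 7410, 10974, 10144, 8086, 10926, 5582, 9308, 7738, 10320, 6770, 9640, 10702, 7330, 5928, 8296, 9996, 8324, 9002, 8318, 8322, 8320, 10730, 6128, 8446, 8316, 6130, 8450, 8122, 5526, 8348, 8570, 6132, 7226, 6940, 9248, 8094, 7756, 7364, 6134, 6114, 8430, 6944, 8266, 9958, 6638, 11010, 8434, 10410, 9154, 11252, 11302, 9396, 8066, 8214, 5512, 7874, 7836, 11008, 8414, 11118, 6350, 9638,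 8504, 9760, 7962, 10852, 8698, 6878, 10992, 7238, 8924, 7288, 9926, 10688, 6124, 8440, 6864, 5932, 5684, 5498, 5688, 5694, 10270, 10418, 11328, 10798, 5946, 6812, 10530, 10098, 10964, 7562, 6804, 8096, 6690, 9678, 8630, 6826, 6188, 7578, 8438, 8554, 7008, 10762, 7338, 10736, 6808, 8228, 7342, 8556, 8464, 9076, 10558, 8388, 7916, 10940, 11198, 9358, 11044, 9242, 8050, 11102, 9580, 8568, 6756, 7990, 8582, 9060, 5940, 9676, 7274, 10706, 8460, 8288, 7328, 8540, 5968, 7666, 10072, 11026, 10474, 6680, 8640, 9578, 11312, 7730, 6096, 8802, 9208, 6344, 10496, 10724, 6670, 8810, 10742, 7718, 7882, 6354, 7292, 8876, 6352, 7802, 6244, 5784, 6372, 8832, 8804, 10380, 10036, 7212, 8306, 8794, 9290, 10816, 6092, 7334, 6214, 8108, 10464, 8580, 8712, 10768, 11368, 10226, 10550, 10390, 10720, 10830, 6462, 5858, 6320, 11222, 8286, 5994, 8990, 6204, 8840, 9004, 8842, 8616, 11068, 10282,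 8846, 7248, 10284, 7548, 9008, 10748, 11172, 7900, 8788, 7884, 6148, 7886, 5808, 6386, 9294, 11362, 6902, 9322, 8696, 9140, 10208, 8068, 6960, 9328, 10616, 6390, 8864, 8866, 7344, 6356, 8624, 5942, 10770, 7664, 6358, 11370, 8406, 6224, 6522, 7902, 5588, 7252, 11296, 11232, 6692, 6364, 8562, 6572, 6058, 8830, 10360, 8890, 6598, 8140, 5840, 8284, 5716, 8758, 8900, 8902, 6336, 5734, 9316, 9550, 7332, 8362, 6272, 8910, 7804, 8018, 5774, 9106, 7956, 6196, 9344, 9798, 11270, 8888, 10578, 6392, 8526, 7572, 11380, 8868, 5622, 11064, 5720, 11382, 9938, 7850, 8896, 6396, 6138, 8008, 11374, 9218, 10950, 6098, 11114, 10486, 6576, 7690, 8002, 7476, 6412, 6766, 8260, 8812, 8188, 5958, 8584, 10988, 11212, 7486, 8586, 11332, 10138, 10476, 9388, 5852, 8648, 6540, 7284, 11330, 7630, 7966, 6212, 6158, 7428, 6634, 11194, 8600, 11316, 10604, 9336, 6200, 7402, 7652, 9922, 11342, 10970,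 10710, 11344, 7156, 6216, 7000, 8608, 6846, 9898, 7388, 10672, 7336, 9636, 8618, 9800, 8412, 11272, 11176, 6870, 8370, 6228, 6232, 5674, 5748, 8376, 8674, 6176, 5698, 6618, 9586, 6102, 7662, 7814, 8672, 5752, 7768, 7258, 8668, 9278, 6264, 8678, 8148, 7094, 10928, 6510, 10948, 5864, 10158, 7050, 11136, 11154, 9608, 10556, 10626, 8806, 10048, 10934, 7906, 6980, 7524, 9372, 6276, 8704, 9256, 5710, 5672, 8642, 6366, 11266, 10188, 9432, 5620, 10972, 10976, 5890, 9326, 7708, 6238, 9184, 6208, 8244, 9474, 8380, 11040, 6738, 9572, 9696, 7530, 8048, 10310, 9292, 6520, 9826, 8658, 10920, 6256, 8664, 7796, 9616, 6088, 8662, 7618, 6314, 8150, 6294, 9620, 8546, 6266, 8762, 7368, 8764, 10714, 6496, 6324, 8776, 10690, 6608, 6300, 7024, 6302, 7656, 8428, 6330, 9156, 6514, 8592, 8820, 6284, 8706, 5746, 9614, 8752, 8768, 11012, 8950, 7670, 5964, 10056, 8166, 7744, 11014, 7872, 7494,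 8420, 8724, 11352, 8264, 10348, 11422, 7502, 11348, 7680, 10540, 8064, 8604, 9024, 10008, 6686, 6310, 10840, 8948, 8692, 6984, 8638, 10822, 5568, 9478, 10796, 9012, 6502, 6740, 8142, 8056, 9892, 6494, 6024, 9324, 8750, 6508, 8234, 6748, 11386, 6590, 8872, 10478, 7592, 11360, 5558, 8970, 6938, 8416, 8626, 7492, 7436, 11322, 10648, 9728, 6546, 5912, 6910, 10224, 6518, 8660, 11366, 8918, 5750, 8418, 8962, 6524, 6498, 8754, 10968, 5796, 6816, 6306, 6526, 6532, 10430, 11056, 8968, 9266, 8462, 7408, 8272, 6550, 10132, 10594, 8930, 7452, 5758, 9508, 11090, 7704, 10958, 11394, 6556, 7260, 7636, 5856, 9830, 10078, 8590, 8196, 5506, 11094, 8914, 10574, 7980, 5714, 5996, 10222, 10228, 6468, 11388, 10466, 6470, 8058, 11228, 6974, 6676, 8394, 11156, 6478, 8936, 11028, 8934, 10062, 8982, 6454, 6566, 6076, 8734, 8666, 6884, 7988, 11338, 5756, 6482, 6594, 6782, 6486, 7140, 6368,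 9980, 11066, 5702, 10534, 7112, 10344, 8606, 10592, 10160, 11288, 6570, 5696, 8612, 6242, 8716, 6070, 6064, 5960, 5990, 6704, 9134, 5900, 10712, 7348, 7976, 8996, 6966, 6582, 8262, 9484, 8858, 5952, 6976, 9000, 8312], 105670656⟩
noncomputable def o6m0 : ℕ :=
  (cat (nat_lit 0x100000000000001004c020004420402189040221100403242490000180000014000980004820004040010200080800800200000000408920608192050084085000800024800203080040884c1040100090015002404008a0322000806000000012004298001408020020040000020021828100002041800000048880c40000110101a00000240180281004f400830011009030000810020089c301201200400400000843e080506008080100100000100080000040a0202090240140002054e90100200310000011a0881429010043310a010020401708804300400448020040400808032508000001c3412410021c9800426048010880000812010a13802010108801091200a10880840010001202600010240000000312000461a1209024d0cc2002a00000000000000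00000000000000000000000000000000000000000000000000000000000000000000000000000000000000000000000000000000000000000000000000000000000000000000000000000000000000000000000000000000000000000000000000000000000000000000000000000000000000000000000000000000000000000000000000000000000000000000000000000000000000000000000000000000000000000000000000000000000000000000000000000000000000000000000000000000000000000000000000000000000000000000000000000000000000000000000000000000000000000000000000000000000000000000000000000000000000000000000000000000000000000000000000000000000000000000000000000000000000000000000000000000000000000000000000000000000000000000000000000000000000000000000000000000000000000000000000000000000000000000000000000000000000000000000000000000000000000000000000000000000000000000000000000000000000000000000000000000000000000000000000000000000000000000000000000000000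00000000000000000000000000000000000000000000000000000000000000000000000000000000000000000000000000000000000000000000000000000000000000000000000000000000000000000000000000000000000000000000000000000000000000000000000000000000000000000000000000000000000000000000000000000000000000000000000000000000000000000000000000000000000000000000000000000000000000000000000000000000000000000000000000000000000000000000000000000000000000000000000000000000000000000000000000000000000000000000000000000000000000000000000000000000000000000000000000000000000000000000000000000000000000000000000000000000000000000000000000000000000000000000000000000000000000000000000000000000000000000000000000000000000000000000000000000000000000000000000000000000000000000000000000000000000000000000000000000000000000000000000000000000000000000000000000000000000000000000000000000000000000000000000000000000000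00000000000000000000000000000000000000000000000000000000000000000000004361204a0000000020000000041000808500013a02802509208004908004800906400018890042884010c4002064c08082c0310000840801140210800010044420080000100840000e780024830068005418b2111020814210d09040e0af002c4100100320000038090a04002c48040a00002100000000000000000000000000000000000000000000000000000000000000000000000000000000000000000000000000000000000000000000000000000000000000000000000000000000000000000000000000000000000000000000000000000000000000000000000000000000000000000000000000000000000000000000000000000000000000000000000000000000000000000000000000000000000000000000000000000000000000000000000000000000000000000000000000000000000000000000000000000000000000000000000000000000000000000000000000000000000000000000000000000000000000000000002c080009c0d0410800200202200001101528404204402638801690002000000000000000000000000000000000000000000000000000000000000000000000000000000000000000000000000000000000000000000000000000000000a1030f80430810035a000000000000000000000000000000000000f43000005)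 16384
 (nat_lit 0x1400000004501000201000000000000000000000000000000000000000000000000000000000000000000000000000000000000000000000000000000000000000000000000000000000000000000000000000000000000000000000000000000000000000))
noncomputable def o6m1 : ℕ :=
  (cat (nat_lit 0x4400200000000010000000000000000000000000000000000004081800000000200000000000000000000204000002002001240900001001000000200000000000000000000100010000008000400000000020000000000200000008000020000000d81100022d1000000028010010a024a0080940500000c0000600000000a1000142c20480340008040801420000004000b40010480010c02048844060000480008800000100058903001080010204000010000482022004081008b0102018080003000000804400005a800421400820000008892000016004048000010400000402080818808040220001009a948840010300024d2900001010900100004001000200100800800002810419800001404084883206500c104304a00708045104c020004420402189040221100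403242490000180000014000980004820004040010200080800800200000000408920608192050084085000800024800203080040884c1040100090015002404008a0322000806000000012004298001408020020040000020021828100002041800000048880c40000110101a00000240180281004f400830011009030000810020089c301201200400400000843e080506008080100100000100080000040a0202090240140002054e90100200310000011a0881429010043310a010020401708804300400448020040400808032508000001c3412410021c9800426048010880000812010a13802010108801091200a10880840010001202600010240000000312000461a1209024d0cc2002a00000000000000000000000000000000000000000000000000000000000000000000000000000000000000000000000000000000000000000000000000000000000000000000000000000000000000000000000000000000000000000000000000000000000000000000000000000000000000000000000000000000000000000000000000000000000000000000000000000000000000000000000000000000000000000000000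00000000000000000000000000000000000000000000000000000000000000000000000000000000000000000000000000000000000000000000000000000000000000000000000000000000000000000000000000000000000000000000000000000000000000000000000000000000000000000000000000000000000000000000000000000000000000000000000000000000000000000000000000000000000000000000000000000000000000000000000000000000000000000000000000000000000000000000000000000000000000000000000000000000000000000000000000000000000000000000000000000000000000000000000000000000000000000000000000000000000000000000000000000000000000000000000000000000000000000000000000000000000000000000000000000000000000000000000000000000000000000000000000000000000000000000000000000000000000000000000000000000000000000000000000000000000000000000000000000000000000000000000000000000000000000000000000000000000000000000000000000000000000000000000000000000000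00000000000000000000000000000000000000000000000800804502000000000000000000000000000000000000000000000000000000000000000000000000000000000000000020000004000000000000000000000000000000000000000126400000000000000000000000000000000000000000000000000000000400000000000000000020090001418008d043002811d0308020000000048010005000022001011808085488200000010860040000209a0064c07001800e002a48c000804020400104480000007009050808110110208000050002400e100302040001d1115a002002008829a1904020000800380000ac42450064002c052101308844850004003210100210a432048014104a000200100080000220c000000d4204600708001360a4c00808610000000802100000081002682d50c361204a00020c0120000000041000808500013a02802509208004908004800906400018890042884010c4002064c08082c0310000840801140210800010044420080000100840000e780024830068005418b2111020814210d09040e0af002c4100100320000038090a04002c48040a000021000000000000000000000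000000000000000000000000000000000000000000000000000000000000000000000000000000000000000000000000000000000000000000000000000000000000000000000000000000000000000000000000000000000000000000000000000000000000000000000000000000000000000000000000000000000000000000000000000000000000000000000000000000000000000000000000000000000000000000000008000000000000000000000000000000000000000000040800184056010088480c3088046910004200000210170040401125822204820001030140000110258109320806401000002c02e080009c0d0410800200202200001101528404204402638801690002000000000000000000000000000000000000000000000000000000000000000000000000000000000000000000000000000000000000000000102010020002000a1030f80430810035a000000000000000000000000c000181e0dc0f430000bd) 16384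
 (nat_lit 0x1400000004501000201000000000000000000000000000000000000000000000000000000000000000000000000000000000000000000000000000000000000000000000000000000000000000000000000000000000000000000000000000000000000000))
noncomputable def o6m2 : ℕ :=
  (cat (nat_lit 0x400000000800010000100000040400000000000000231800000000022002040048800008a8208159444c00acd09c008000108000080000208380088000088068201104400211000600610038a5c82000004010600400220c0f50000070819040007412008110641a648280441020400002280340124090001109101900424101100406100430380014a01808810a000c804018400a0200200043204040418002c20000000d81100022d1000000028010010a024a0080940500000c0000600000000a1000142c20480340008040801420000004000b40010480010c02048844060000480008800000100058903001080010204000010000482022004081008b0102018080003000000804400005a800421400820000008892000016004048000010400000402080818808040220001009a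948840010300024d2900001010900100004001000200100800800002810419800001404084883206500c104304a00708045104c020004420402189040221100403242490000180000014000980004820004040010200080800800200000000408920608192050084085000800024800203080040884c1040100090015002404008a0322000806000000012004298001408020020040000020021828100002041800000048880c40000110101a00000240180281004f400830011009030000810020089c301201200400400000843e080506008080100100000100080000040a0202090240140002054e90100200310000011a0881429010043310a010020401708804300400448020040400808032508000001c3412410021c9800426048010880000812010a13802010108801091200a10880840010001202600010240000000312000461a1209024d0cc2002a0000000000000000000000000000000000000000000000000000000000000000000000000000000000000000000000000000000000000000000000000000000000000000000000000000000000000000000000000000000000000000000000000000000000000000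00000000000000000000000000000000000000000000000000000000000000000000000000000000000000000000000000000000000000000000000000000000000000000000000000000000000000000000000000000000000000000000000000000000000000000000000000000000000000000000000000000000000000000000000000000000000000000000000000000000000000000000000000000000000000000000000000000000000000000000000000000000000000000000000000000000000000000000000000000000000000000000000000000000000000000000000000000000000000000000000000000000000000000000000000000000000000000000000000000000000000000000000000000000000000000000000000000000000000000000000000000000000000000000000000000000000000000000000000000000200040e0001100120220220008420204100024002000602030084080140003119020882002005014d20003f1a12051085c02b8000100000800000002000000080000000000000000100000000000000000000014016200000000000000200002020004860000000000000000000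040000020004051040000000100000002000000000407001046100101a010089a098002300e400222c027584204080002000a2040282020021000600000508c8211004001460b4201b40020000410410000040890308009008045128000042210200c00020100820000130400002a10204a00000c3011510040252a000032530001000012400268200908640021050c02044a6414004c0008800040c08046412640000438020805162002010400008008008018c1844705000a2080443508011009004000062420090001418008d043002811d0308020000000048010005000022001011808085488200000010860040000209a0064c07001800e002a48c000804020400104480000007009050808110110208000050002400e100302040001d1115a002002008829a1904020000800380000ac42450064002c052101308844850004003210100210a432048014104a000200100080000220c000000d4204600708001360a4c00808610000000802100000081002682d50c361204a00020c0120000000041000808500013a02802509208004908004800906400018890042884010c4002064c08082c0310000840801140210800010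044420080000100840000e780024830068005418b2111020814210d09040e0af002c4100100320000038090a04002c48040a000021000000000000000000000000000000000000000000000000000000000000000000000000000000000000000000000000000000000000000000000000000000000000000000000000000000000000000000000000000000000000000000000000000000000000000000000000000000000000000000000000000000000000000000000000000000000450400084c028020048420000400000000003000000000000000000e2060200001200538057400804008100641200010c24104082000f804088040040001122c0800184056010088480c3088046910004200000210170040401125822204820001030140000110258109320806401000002c02e080009c0d041080020020220000110152840420440263880169000200000000000000000000000000000000000000000000000000000000000000000000000000000000000000000000000200000000801207a400102010020002000a1030f80430810035a00000000000000000008f048c068181e0dc0f430002bd) 16384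
 (nat_lit 0x140000000450100020100000000000000000000000000000000000000000000000000000000000000000000000000000000000000000000000000000000000000000000000000000000000000000000000000008002011412a3005d004016820001100a000))
noncomputable def o6m3 : ℕ :=
  (cat (nat_lit 0x440012804484011010010c228040500000006a14040231800010080022002040048800008a8208159444c00acd09c008000108000080000208380088000088068201104400211000600610038a5c82000004010600400220c0f50000070819040007412008110641a648280441020400002280340124090001109101900424101100406100430380014a01808810a000c804018400a0200200043204040418002c20000000d81100022d1000000028010010a024a0080940500000c0000600000000a1000142c20480340008040801420000004000b40010480010c02048844060000480008800000100058903001080010204000010000482022004081008b0102018080003000000804400005a800421400820000008892000016004048000010400000402080818808040220001009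a948840010300024d2900001010900100004001000200100800800002810419800001404084883206500c104304a00708045104c020004420402189040221100403242490000180000014000980004820004040010200080800800200000000408920608192050084085000800024800203080040884c1040100090015002404008a0322000806000000012004298001408020020040000020021828100002041800000048880c40000110101a00000240180281004f400830011009030000810020089c301201200400400000843e080506008080100100000100080000040a0202090240140002054e90100200310000011a0881429010043310a010020401708804300400448020040400808032508000001c3412410021c9800426048010880000812010a13802010108801091200a10880840010001202600010240000000312000461a1209024d0cc2002a000000000000000000000000000000000000000000000000000000000000000000000000000000000000000000000000000000000000000000000000000000000000000000000000000000000000000000000000000000000000000000000000000000000000000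00000000000000000000000000000000000000000000000100000000000000000000000000000000000000000000000000000000000000000000000000000000000000000000000000000000000000000000000000000000000000000000000000000000000000000000000000000000000000000000000000000000000000001000080200590096082100008c06030560800108480210001248400604481a200081c8001c50410c81509040800002803800d1018400804000004400408208894010802040620001004c000210310848080102004e0010a0081c050108000200200104030210880056008a0050100a5000001040010a0408000081b0000d404408020108041c01381033010008400a3250a020210084014000100a11020120c24810000050e2000160001a4c044821104812200a012000980800148212905022898002401a2207058200040e0001100120220220008420204100024002000602030084080140003119020882002005014d20003f1a12051085c02b800010044194a0000020804000c0102006100208008122004800201818010000014016210000c000000003021121ac004860280041282a6c28c48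106001002000405104011c20810000811242a80b880407001046100101a010089a098002300e400222c027584204080002000a2040282020021000600000508c8211004001460b4201b40020000410410000040890308009008045128000042210200c00020100820000130400002a10204a00000c3011510040252a000032530001000012400268200908640021050c02044a6414004c0008800040c08046412640000438020805162002010400008008008018c1844705000a2080443508011009004000062420090001418008d043002811d0308020000000048010005000022001011808085488200000010860040000209a0064c07001800e002a48c000804020400104480000007009050808110110208000050002400e100302040001d1115a002002008829a1904020000800380000ac42450064002c052101308844850004003210100210a432048014104a000200100080000220c000000d4204600708001360a4c00808610000000802100000081002682d50c361204a00020c0120000000041000808500013a02802509208004908004800906400018890042884010c4002064c08082c031000084080114021080001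0044420080000100840000e780024830068005418b2111020814210d09040e0af002c4100100320000038090a04002c48040a000021000000000000000000000000000000000000000000000000000000000000000000000000000000000000000000000000000000000000000000000000000000000000000000000000000000000200a20854208060804802128000010402c5121481cc090340862280010c002058801101920b09c004a810004080101311c9ac451830647980a001400450400084c02802004842000064010080004320005018b000044400e2060200001200538057400804008100641200010c24104082000f804088040040001122c0800184056010088480c3088046910004200000210170040401125822204820001030140000110258109320806401000002c02e080009c0d041080020020220000110152840420440263880169000200000000000000000000000000000000000000000000000000000000000040044108040874501100080481b822000002000b6000801207a400102010020002000a1030f80430810035a00000000000009041008f1d8c068181e0dc0f430013bd) 16384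
 (nat_lit 0x1400000004501000201000000000000000000000000000000000000000000000000000040100026001850008421e010a002080800608043000802428587508004000409802020010a020104f0860100400800008002011412a3005d004016820001100a000))
noncomputable def o7 : Cov :=
  ⟨7, [5712, 5713, 5714], [0, 1, 2, 1, 2, 0, 1, 2, 1, 0],
  [11430, 11444, 11588, 11696, 11632, 11640, 11660, 11456, 11610, 11554, 11552, 11688, 11686, 11670, 11442, 11642, 11716, 11466, 11582, 11724, 11586, 11680, 11720, 11486, 11540, 11482, 11594, 11664, 11590, 11708, 11690, 11626, 11630, 11526, 11704, 11612, 11476, 11478, 11460, 11484, 11574, 11498, 11506, 11462, 11436, 11454, 11434, 11672, 11564, 11518, 11702, 11700, 11490, 11714, 11580, 11556, 11570, 11512, 11646, 11578, 11438, 11440, 11634, 11644, 11566, 11528, 11608, 11662, 11544, 11738, 11450, 11562, 11496, 11538, 11592, 11550, 11666, 11598, 11516, 11432, 11596,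 11468, 11710, 11472, 11464, 11650, 11674, 11548, 11568, 11734, 11726, 11744, 11620, 11618, 11606, 11694, 11682, 11474, 11534, 11728, 11732, 11706, 11636, 11676, 11652, 11576, 11502, 11648, 11452, 11678, 11604, 11614, 11622, 11658, 11560, 11558, 11616, 11572, 11480, 11730, 11530, 11546, 11520, 11448, 11656, 11600, 11740, 11628, 11488, 11494, 11698, 11584, 11654, 11718, 11736, 11532, 11522, 11624, 11446, 11602, 11638, 11504, 11712, 11668, 11500, 11742, 11692, 11510, 11722, 11524, 11514, 11508, 11536, 11458, 11492, 11470, 11684, 11542], 5031936⟩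
noncomputable def o8 : Cov :=
  ⟨8, [5873, 5874, 5875], [0, 1, 2, 0, 2, 1, 0, 2, 0, 1, 2, 0, 2, 1, 0, 2, 2],
  [11752, 11768, 11770, 11776, 11758, 11756, 11762, 11764, 11774, 11754, 11766, 11772, 11760], 179712⟩
noncomputable def o9 : Cov :=
  ⟨9, [5889, 5890, 5891], [1, 2, 0, 1, 2, 0, 1, 2, 1, 0],
  [11784, 12022, 11904, 11800, 12048, 12046, 11804, 12030, 11840, 11918, 12250, 11794, 11910, 11802, 11818, 12192, 12248, 11900, 11898, 12070, 12190, 11924, 12126, 11860, 12090, 12004, 12226, 12036, 12060, 11912, 12186, 12032, 11970, 11814, 11920, 11810, 11856, 12244, 11926, 11968, 12066, 11978, 11836, 12076, 11914, 12044, 11878, 12220, 12300, 11876, 12240, 12176, 11870, 12236, 12270, 12054, 12052, 12038, 11908, 12196, 12120, 11894, 12286, 12142, 11988, 11828, 12216, 11884, 11838, 12288, 12042, 12010, 12014, 12118, 11874, 12182, 12222, 11812, 11852, 12092, 12072, 12040,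 12146, 11866, 12180, 11864, 11960, 11986, 11950, 12172, 11928, 11936, 11996, 12050, 12274, 11816, 12098, 12292, 12008, 12064, 12162, 11832, 12082, 12254, 11790, 12078, 12204, 12148, 12214, 12002, 11806, 12122, 12086, 12088, 12174, 12200, 11844, 11848, 12154, 12170, 11896, 12224, 11966, 12168, 12102, 12104, 12284, 12238, 12210, 11980, 12268, 12188, 12258, 11940, 12138, 11824, 11862, 11922, 12116, 12150, 12178, 12280, 12260, 12134, 12246, 12012, 12068, 12018, 12218, 11850, 12096, 11964, 11872, 12184, 12128, 11826, 12276, 12160, 12206, 12058, 12006, 12124, 11958, 12230, 12282, 11956, 11820, 12264, 11946, 12202, 11934, 11944, 12112, 11932, 11858, 12140, 12026, 11938, 11890, 11994, 12024, 12242, 11992, 11798, 11792, 12130, 12108, 11948, 12106, 12144, 11916, 11990, 12252, 12294, 12028, 12208, 11976, 12016, 11830, 11998, 11888, 12100, 12074, 11962, 11902, 11788, 11892,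 12296, 12262, 12234, 11880, 12266, 12256, 11822, 11942, 12278, 11982, 11906, 12084, 11842, 12020, 12198, 12232, 11972, 11808, 12228, 12136, 12166, 12298, 12110, 11846, 11786, 12272, 12152, 11868, 11974, 11952, 12062, 11954, 11834, 12114, 12132, 11854, 12290, 12034, 11984, 12212, 11930, 12164, 12080, 12056, 12158, 12194, 12000, 12156, 12094, 11886, 11882, 11796], 8805888⟩
noncomputable def o10 : Cov :=
  ⟨10, [6151, 6152, 6153], [2, 0, 1, 2, 0, 2, 1, 0, 0],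
  [12308, 12360, 12404, 12348, 12648, 12526, 12530, 12714, 12500, 12480, 12452, 12426, 12310, 12394, 12610, 12314, 12410, 12368, 12468, 12364, 12558, 12798, 12612, 12570, 12784, 12322, 12778, 12692, 12522, 12382, 12406, 12572, 12342, 12808, 12420, 12594, 12340, 12746, 12390, 12474, 12738, 12614, 12516, 12584, 12706, 12600, 12652, 12430, 12598, 12330, 12376, 12638, 12362, 12458, 12702, 12736, 12704, 12674, 12698, 12408, 12774, 12588, 12812, 12324, 12760, 12416, 12380, 12592, 12764, 12640, 12602, 12726, 12510, 12730, 12320, 12776, 12464, 12662, 12550, 12754, 12794, 12496, 12678, 12604, 12676, 12634, 12478, 12590, 12446, 12564, 12436, 12344, 12654, 12488, 12586, 12424, 12378, 12752, 12802, 12392, 12734, 12448, 12722, 12646, 12450, 12434, 12528, 12316, 12444, 12656, 12576, 12554, 12552, 12546, 12756, 12438, 12790, 12400, 12796, 12708, 12542, 12372, 12806, 12454, 12800,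 12710, 12476, 12538, 12374, 12666, 12716, 12618, 12750, 12568, 12414, 12596, 12742, 12650, 12690, 12628, 12492, 12636, 12358, 12766, 12352, 12682, 12386, 12418, 12624, 12384, 12514, 12532, 12402, 12644, 12462, 12506, 12810, 12606, 12540, 12370, 12486, 12562, 12548, 12520, 12732, 12456, 12786, 12350, 12518, 12672, 12326, 12412, 12622, 12608, 12718, 12668, 12582, 12658, 12432, 12336, 12630, 12428, 12642, 12724, 12660, 12664, 12744, 12334, 12780, 12720, 12768, 12460, 12396, 12632, 12328, 12346, 12512, 12728, 12388, 12502, 12504, 12440, 12556, 12356, 12332, 12544, 12792, 12616, 12578, 12482, 12684, 12748, 12484, 12536, 12574, 12762, 12670, 12696, 12312, 12472, 12712, 12700, 12318, 12782, 12626, 12770, 12398, 12580, 12422, 12566, 12470, 12490, 12740, 12534, 12686, 12524, 12694, 12772, 12366, 12560, 12788, 12498, 12804, 12620, 12338, 12442, 12508, 12354, 12466, 12494,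 12688, 12758, 12680], 8128512⟩
noncomputable def os : List Cov :=
  [o1, o2, o3, o4, o5, o6, o7, o8, o9, o10]
noncomputable def reps : List (List ℕ) :=
  [[0],
  [0, 8, 0],
  [0, 4, 13, 0],
  [0, 23, 0],
  [0, 31, 0],
  [0, 4, 19, 0],
  [0, 4, 0, 8, 0],
  [0, 8, 29, 33, 27, 33, 0, 4, 13, 0],
  [0, 8, 29, 30, 29, 25, 0, 4, 13, 0],
  [0, 32, 0, 4, 13, 0]]

theorem Az0 : AC.L = mkL AC.al AC.be rels [(4, 2), (6, 1)] := by decide +kernel
theorem Az1 : AC.recs AR0 15 0 = true := by decide +kernel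
theorem Az2 : (rels.getD 0 []).rotate 1 = 0 :: (sh AC.al ++ 0 :: sh AC.be) := by decide +kernel
theorem Az3 : pairR CL.ThS.chk rels 14 Apr 146 138 = true := by decide +kernel
theorem Az4 : pairB CL.ThS.chk 138 14 Aex 152 146 = true := by decide +kernel
theorem Bz0 : BC.L = mkL BC.al BC.be rels [] := by decide +kernel
theorem Bz1 : BC.recs BR0 4 0 = true := by decide +kernel
theorem Bz2 : (rels.getD 0 []).rotate 1 = 0 :: (sh BC.al ++ 0 :: sh BC.be) := by decide +kernel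
theorem Bz3 : pairR CL.ThS.chk rels 30 Bpr 176 166 = true := by decide +kernel
theorem Bz4 : pairB CL.ThS.chk 166 30 Bex 196 176 = true := by decide +kernel
theorem z0 : C.L = mkL C.al C.be rels [(9, 3), (4, 2), (6, 1), (11, 3), (6, 17), (6, 8), (4, 4), (6, 24), (10, 5)] := by decide +kernel
theorem z1 : C.recs R0 146 0 = true := by decide +kernel
theorem z2 : C.recs R1 256 146 = true := by decide +kernel
theorem z3 : C.recs R2 358 256 = true := by decide +kernel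
theorem z4 : C.recs R3 473 358 = true := by decide +kernel
theorem z5 : C.recs R4 575 473 = true := by decide +kernel
theorem z6 : C.recs R5 679 575 = true := by decide +kernel
theorem z7 : C.recs R6 785 679 = true := by decide +kernel
theorem z8 : C.recs R7 890 785 = true := by decide +kernel
theorem z9 : C.recs R8 996 890 = true := by decide +kernel
theorem z10 : C.recs R9 1105 996 = true := by decide +kernel
theorem z11 : C.recs R10 1212 1105 = true := by decide +kernel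
theorem z12 : C.recs R11 1318 1212 = true := by decide +kernel
theorem z13 : C.recs R12 1428 1318 = true := by decide +kernel
theorem z14 : C.recs R13 1541 1428 = true := by decide +kernel
theorem z15 : C.recs R14 1653 1541 = true := by decide +kernel
theorem z16 : C.recs R15 1768 1653 = true := by decide +kernel
theorem z17 : C.recs R16 1882 1768 = true := by decide +kernel
theorem z18 : C.recs R17 2007 1882 = true := by decide +kernel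
theorem z19 : C.recs R18 2119 2007 = true := by decide +kernel
theorem z20 : C.recs R19 2468 2119 = true := by decide +kernel
theorem z21 : C.recs R20 2868 2468 = true := by decide +kernel
theorem z22 : C.recs R21 3268 2868 = true := by decide +kernel
theorem z23 : C.recs R22 3668 3268 = true := by decide +kernel
theorem z24 : C.recs R23 4068 3668 = true := by decide +kernel
theorem z25 : C.recs R24 4468 4068 = true := by decide +kernel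
theorem z26 : C.recs R25 4868 4468 = true := by decide +kernel
theorem z27 : C.recs R26 5268 4868 = true := by decide +kernel
theorem z28 : C.recs R27 5668 5268 = true := by decide +kernel
theorem z29 : C.recs R28 6068 5668 = true := by decide +kernel
theorem z30 : C.recs R29 6407 6068 = true := by decide +kernel
theorem z31 : (rels.getD 0 []).rotate 1 = 0 :: (sh C.al ++ 0 :: sh C.be) := by decide +kernel
theorem z32 : pairT AC 15 94 [3, 4, 5, 6, 14] 236 226 = true := by decide +kernel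
theorem z33 : pairT BC 4 94 [2, 3] 240 236 = true := by decide +kernel
theorem z34 : pairB CL.ThS.chk 226 94 ex 320 240 = true := by decide +kernel
theorem z35 : lamB CL.ThLam.P CL.ThLam.ns CL.ThS.chk 17 226 320 [[226], [228], [230], [232], [234], [236], [238]] [[0], [4], [8], [27, 19, 32, 10], [4, 6, 4, 6], [12], [23, 19, 10, 6]] [[0], [2], [4], [6], [8], [10], [12]] (sg (W (nat_lit 0x14010340302c070040902c0501c09034030140702c0901c0502c09034070040b01c03))) = true := by decide +kernel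
theorem z36 : o1.ok C 6407 CL.ThLam.P.n CL.ThLam.P.N 34 M CL.ThLam.ns = true := by decide +kernel
theorem z37 : CL.ThS.chk (zp [] [[414], [416], [418]] (o1.sw C)) = true := by decide +kernel
theorem z38 : o2.ok C 6407 CL.ThLam.P.n CL.ThLam.P.N 34 M CL.ThLam.ns = true := by decide +kernel
theorem z39 : CL.ThS.chk (zp [] [[424], [426], [428]] (o2.sw C)) = true := by decide +kernel
theorem z40 : o3.ok C 6407 CL.ThLam.P.n CL.ThLam.P.N 34 M CL.ThLam.ns = true := by decide +kernel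
theorem z41 : CL.ThS.chk (zp [] [[434], [436], [438]] (o3.sw C)) = true := by decide +kernel
theorem z42 : o4.ok C 6407 CL.ThLam.P.n CL.ThLam.P.N 34 M CL.ThLam.ns = true := by decide +kernel
theorem z43 : CL.ThS.chk (zp [] [[440], [442], [444]] (o4.sw C)) = true := by decide +kernel
theorem z44 : o5.ok C 6407 CL.ThLam.P.n CL.ThLam.P.N 34 M CL.ThLam.ns = true := by decide +kernel
theorem z45 : CL.ThS.chk (zp [] [[448], [450], [452]] (o5.sw C)) = true := by decide +kernel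
theorem z46 : edgeM C 6407 CL.ThLam.P.N 34 M o6.i CL.ThLam.ns (takeL 599 o6.ed) (fun x => Nat.beq x o6m0) 0 = true := by decide +kernel
theorem z47 : edgeM C 6407 CL.ThLam.P.N 34 M o6.i CL.ThLam.ns (takeL 599 (dropL 599 o6.ed)) (fun x => Nat.beq x o6m1) o6m0 = true := by decide +kernel
theorem z48 : edgeM C 6407 CL.ThLam.P.N 34 M o6.i CL.ThLam.ns (takeL 629 (dropL 599 (dropL 599 o6.ed))) (fun x => Nat.beq x o6m2) o6m1 = true := by decide +kernel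
theorem z49 : edgeM C 6407 CL.ThLam.P.N 34 M o6.i CL.ThLam.ns (takeL 618 (dropL 629 (dropL 599 (dropL 599 o6.ed)))) (fun x => Nat.beq x o6m3) o6m2 = true := by decide +kernel
theorem z50 : edgeM C 6407 CL.ThLam.P.N 34 M o6.i CL.ThLam.ns (dropL 618 (dropL 629 (dropL 599 (dropL 599 o6.ed)))) (fun m => Nat.beq (grow CL.ThLam.P.N CL.ThLam.ns (mapL (fun c => nth [] (o6.sw C) c) o6.sc) m) (ones CL.ThLam.P.n)) o6m3 = true := by decide +kernel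
theorem z51 : allL (fun x => bnd (Nat.ble (Nat.succ x) 6407) (bnd (bnot (C.T.get x).k) (bnd (Nat.beq (C.T.get x).i o6.i)
    (bnd (Nat.beq (C.T.get x).j o6.i) (bnd (Nat.beq (C.T.get x).v 0)
      (allL (fun c => Nat.ble (Nat.succ c) 34) (W (C.T.get x).u))))))) o6.sf = true := by decide +kernel
theorem z52 : CL.ThS.chk (zp [] [[454], [456], [458]] (o6.sw C)) = true := by decide +kernel
theorem z53 : o7.ok C 6407 CL.ThLam.P.n CL.ThLam.P.N 34 M CL.ThLam.ns = true := by decide +kernel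
theorem z54 : CL.ThS.chk (zp [] [[460], [462], [464]] (o7.sw C)) = true := by decide +kernel
theorem z55 : o8.ok C 6407 CL.ThLam.P.n CL.ThLam.P.N 34 M CL.ThLam.ns = true := by decide +kernel
theorem z56 : CL.ThS.chk (zp [] [[466], [468], [470]] (o8.sw C)) = true := by decide +kernel
theorem z57 : o9.ok C 6407 CL.ThLam.P.n CL.ThLam.P.N 34 M CL.ThLam.ns = true := by decide +kernel
theorem z58 : CL.ThS.chk (zp [] [[474], [476], [478]] (o9.sw C)) = true := by decide +kernel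
theorem z59 : o10.ok C 6407 CL.ThLam.P.n CL.ThLam.P.N 34 M CL.ThLam.ns = true := by decide +kernel
theorem z60 : CL.ThS.chk (zp [] [[480], [482], [484]] (o10.sw C)) = true := by decide +kernel
theorem z61 : bnd (Nat.beq (C.T.get 1).h 2097153) (bnd (Nat.beq (C.T.get 1).u 0) (tb M 1)) = true := by decide +kernel
theorem z62 : M = maskC os := by decide +kernel
theorem z63 : bnd (Nat.beq (C.T.get 1).i 0) (bnd (Nat.ble (Nat.succ 0) 1) (CL.ThS.chk [(W (C.T.get 1).u, [])])) = true := by decide +kernel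
theorem z64 : bnd (Nat.beq (C.T.get 2).i 1) (bnd (Nat.ble (Nat.succ 1) 2) (CL.ThS.chk [(W (C.T.get 2).u, [6])])) = true := by decide +kernel
theorem z65 : bnd (Nat.beq (C.T.get 3).i 1) (bnd (Nat.ble (Nat.succ 1) 3) (CL.ThS.chk [(W (C.T.get 3).u, [2, 11])])) = true := by decide +kernel
theorem z66 : bnd (Nat.beq (C.T.get 4).i 1) (bnd (Nat.ble (Nat.succ 1) 4) (CL.ThS.chk [(W (C.T.get 4).u, [21])])) = true := by decide +kernel
theorem z67 : bnd (Nat.beq (C.T.get 5).i 1) (bnd (Nat.ble (Nat.succ 1) 5) (CL.ThS.chk [(W (C.T.get 5).u, [29])])) = true := by decide +kernel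
theorem z68 : bnd (Nat.beq (C.T.get 6).i 1) (bnd (Nat.ble (Nat.succ 1) 6) (CL.ThS.chk [(W (C.T.get 6).u, [2, 17])])) = true := by decide +kernel
theorem z69 : bnd (Nat.beq (C.T.get 7).i 2) (bnd (Nat.ble (Nat.succ 2) 7) (CL.ThS.chk [(W (C.T.get 7).u, [2])])) = true := by decide +kernel
theorem z70 : bnd (Nat.beq (C.T.get 8).i 3) (bnd (Nat.ble (Nat.succ 3) 8) (CL.ThS.chk [(W (C.T.get 8).u, [6, 27, 31, 25, 31])])) = true := by decide +kernel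
theorem z71 : bnd (Nat.beq (C.T.get 9).i 3) (bnd (Nat.ble (Nat.succ 3) 9) (CL.ThS.chk [(W (C.T.get 9).u, [6, 27, 28, 27, 23])])) = true := by decide +kernel
theorem z72 : bnd (Nat.beq (C.T.get 10).i 3) (bnd (Nat.ble (Nat.succ 3) 10) (CL.ThS.chk [(W (C.T.get 10).u, [30])])) = true := by decide +kernel

variable {Γ G X Λ : Type*} [Group Γ] [Group G] [MulAction Γ X] [MulAction Γ Λ] {φ : Γ →* G} {e : ℕ → X} {eL : ℕ → Λ} {g0 gs : List Γ} {t : G}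

theorem Aup {Y : Type*} [MulAction G Y] {gs : List G} {r : Y → G → Y} {q : Y} (S : Sys AC gs t r q) : Upto AC gs t r q 15 :=
  (S.recs _ (Upto.zero _ _ _ _ _)
    Az1)

theorem AL : AC.L = mkL AC.al AC.be rels [(4, 2), (6, 1)] := Az0

theorem Ainv {gs : List G} (hr : ∀ r ∈ rels, wordG (t :: gs) r = 1) : t⁻¹ = wordG gs AC.al * t * wordG gs AC.be :=
  inv_of_rel hr _ _ Az2

theorem Apair {H : Subgroup Γ} (E : Env H g0 gs CL.ThS.chk) (hr : ∀ r ∈ rels, wordG (t :: gs.map φ) r = 1) :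
    PairTo (gs.map φ) t 138 14 152 :=
  PairTo.defs (E.map φ) (by decide) _ (PairTo.rels (E.map φ) (by decide) hr _ (PairTo.nil _ _ 138 14) (by decide) Az3) (by decide)
    Az4

theorem Asys {H : Subgroup Γ} (E : Env H g0 gs CL.ThS.chk) (hr : ∀ r ∈ rels, wordG (t :: gs.map φ) r = 1) :
    Sys AC (gs.map φ) t (fun x a : G => x * a) 1 :=
  sys_tracked (Ainv hr) (Apair E hr) hr AL (E.map φ) rfl

theorem Bup {Y : Type*} [MulAction G Y] {gs : List G} {r : Y → G → Y} {q : Y} (S : Sys BC gs t r q) : Upto BC gs t r q 4 :=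
  (S.recs _ (Upto.zero _ _ _ _ _)
    Bz1)

theorem BL : BC.L = mkL BC.al BC.be rels [] := Bz0

theorem Binv {gs : List G} (hr : ∀ r ∈ rels, wordG (t :: gs) r = 1) : t⁻¹ = wordG gs BC.al * t * wordG gs BC.be :=
  inv_of_rel hr _ _ Bz2

theorem Bpair {H : Subgroup Γ} (E : Env H g0 gs CL.ThS.chk) (hr : ∀ r ∈ rels, wordG (t :: gs.map φ) r = 1) :
    PairTo (gs.map φ) t 166 30 196 :=
  PairTo.defs (E.map φ) (by decide) _ (PairTo.rels (E.map φ) (by decide) hr _ (PairTo.nil _ _ 166 30) (by decide) Bz3) (by decide)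
    Bz4

theorem Bsys {H : Subgroup Γ} (E : Env H g0 gs CL.ThS.chk) (hr : ∀ r ∈ rels, wordG (t :: gs.map φ) r = 1) :
    Sys BC (gs.map φ) t (fun x a : G => x * a) 1 :=
  sys_tracked (Binv hr) (Bpair E hr) hr BL (E.map φ) rfl

theorem up {Y : Type*} [MulAction G Y] {gs : List G} {r : Y → G → Y} {q : Y} (S : Sys C gs t r q) : Upto C gs t r q 6407 :=
  (S.recs _ (S.recs _ (S.recs _ (S.recs _ (S.recs _ (S.recs _ (S.recs _ (S.recs _ (S.recs _ (S.recs _ (S.recs _ (S.recs _ (S.recs _ (S.recs _ (S.recs _ (S.recs _ (S.recs _ (S.recs _ (S.recs _ (S.recs _ (S.recs _ (S.recs _ (S.recs _ (S.recs _ (S.recs _ (S.recs _ (S.recs _ (S.recs _ (S.recs _ (S.recs _ (Upto.zero _ _ _ _ _)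
    z1)
    z2)
    z3)
    z4)
    z5)
    z6)
    z7)
    z8)
    z9)
    z10)
    z11)
    z12)
    z13)
    z14)
    z15)
    z16)
    z17)
    z18)
    z19)
    z20)
    z21)
    z22)
    z23)
    z24)
    z25)
    z26)
    z27)
    z28)
    z29)
    z30)

theorem L : C.L = mkL C.al C.be rels [(9, 3), (4, 2), (6, 1), (11, 3), (6, 17), (6, 8), (4, 4), (6, 24), (10, 5)] := z0

theorem inv {gs : List G} (hr : ∀ r ∈ rels, wordG (t :: gs) r = 1) : t⁻¹ = wordG gs C.al * t * wordG gs C.be :=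
  inv_of_rel hr _ _ z31

theorem pair {H : Subgroup Γ} (E : Env H g0 gs CL.ThS.chk) (hr : ∀ r ∈ rels, wordG (t :: gs.map φ) r = 1) :
    PairTo (gs.map φ) t 226 94 320 :=
  PairTo.defs (E.map φ) (by decide) _ (PairTo.facts (Bsys E hr) (Bup (Bsys E hr)) (by decide) _ (PairTo.facts (Asys E hr) (Aup (Asys E hr)) (by decide) _ (PairTo.nil _ _ 226 94) (by decide) z32) (by decide) z33) (by decide)
    z34

theorem o6_ok : o6.ok C 6407 CL.ThLam.P.n CL.ThLam.P.N 34 M CL.ThLam.ns = true :=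
  bnd_iff.2 ⟨z51, (edgeM_join 599 z46
    (edgeM_join 599 z47
    (edgeM_join 629 z48
    (edgeM_join 618 z49
    z50))))⟩

theorem lam (c : Ctx CL.ThS.P e gs CL.ThS.ns CL.ThS.D CL.ThS.chk) {k : List (List ℕ × List ℕ) → Bool} (cL : Ctx CL.ThLam.P eL g0 CL.ThLam.ns [] k)
    (E : Env (subW g0 [[0], [2], [4], [6], [8], [10], [12]]) g0 gs CL.ThS.chk) (hp : PairTo (gs.map φ) t 226 94 320) (hU : UB (subW g0 [[0], [2], [4], [6], [8], [10], [12]]) 634023936) :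
    Lam φ (subW g0 [[0], [2], [4], [6], [8], [10], [12]]) (gs.map φ) t g0 eL CL.ThLam.P.n CL.ThLam.P.N (2 * 17) CL.ThLam.ns ∧ (subW g0 [[0], [2], [4], [6], [8], [10], [12]]) ⊓ MulAction.stabilizer Γ (eL 0) = subW gs [[226], [228], [230], [232], [234], [236], [238]] ∧
      ∀ i < CL.ThLam.P.n, ∃ h ∈ (subW g0 [[0], [2], [4], [6], [8], [10], [12]]), h • eL 0 = eL i :=
  lam_of cL E hp z35 (CL.ThS.K_lb c) hU

theorem res (c : Ctx CL.ThS.P e gs CL.ThS.ns CL.ThS.D CL.ThS.chk) {k : List (List ℕ × List ℕ) → Bool} (cL : Ctx CL.ThLam.P eL g0 CL.ThLam.ns [] k)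
    (E : Env (subW g0 [[0], [2], [4], [6], [8], [10], [12]]) g0 gs CL.ThS.chk) (hp : PairTo (gs.map φ) t 226 94 320) (hU : UB (subW g0 [[0], [2], [4], [6], [8], [10], [12]]) 634023936)
    (hr : ∀ r ∈ rels, wordG (t :: gs.map φ) r = 1) (hg : ∀ K : Subgroup G, (subW g0 [[0], [2], [4], [6], [8], [10], [12]]).map φ ≤ K → t ∈ K → K = ⊤) :
    Res ((subW g0 [[0], [2], [4], [6], [8], [10], [12]]).map φ) [17199, 45864, 2201472, 1304576, 11741184, 105670656, 5031936, 179712, 8805888, 8128512] :=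
  have A := lam c cL E hp hU
  have S := sys_coset (C := C) (E.mem_map φ) (inv hr) hp hr L (E.map φ)
  res_of_cov (os := os) A.1 S (up S) z62 z61 hg hU
    (List.forall_mem_cons.2 ⟨Cov.lb A.1 E z36 z37 (CL.ThS.S1_lb c) (by decide),
    List.forall_mem_cons.2 ⟨Cov.lb A.1 E z38 z39 (CL.ThS.S2_lb c) (by decide),
    List.forall_mem_cons.2 ⟨Cov.lb A.1 E z40 z41 (CL.ThS.S3_lb c) (by decide),
    List.forall_mem_cons.2 ⟨Cov.lb A.1 E z42 z43 (CL.ThS.S4_lb c) (by decide),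
    List.forall_mem_cons.2 ⟨Cov.lb A.1 E z44 z45 (CL.ThS.S5_lb c) (by decide),
    List.forall_mem_cons.2 ⟨Cov.lb A.1 E o6_ok z52 (CL.ThS.S6_lb c) (by decide),
    List.forall_mem_cons.2 ⟨Cov.lb A.1 E z53 z54 (CL.ThS.S7_lb c) (by decide),
    List.forall_mem_cons.2 ⟨Cov.lb A.1 E z55 z56 (CL.ThS.S8_lb c) (by decide),
    List.forall_mem_cons.2 ⟨Cov.lb A.1 E z57 z58 (CL.ThS.S9_lb c) (by decide),
    List.forall_mem_cons.2 ⟨Cov.lb A.1 E z59 z60 (CL.ThS.S10_lb c) (by decide),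
    fun _ h => absurd h List.not_mem_nil⟩⟩⟩⟩⟩⟩⟩⟩⟩⟩)

theorem q1 {Y : Type*} [MulAction G Y] {gs : List G} (hc : ∀ R, CL.ThS.chk R = true → Rels gs R) (q : Y) :
    qq C.T gs t q 1 = wordG (t :: gs) [0] • q :=
  qq_step hc (qq_zero _ _ _ _) z63

theorem q2 {Y : Type*} [MulAction G Y] {gs : List G} (hc : ∀ R, CL.ThS.chk R = true → Rels gs R) (q : Y) :
    qq C.T gs t q 2 = wordG (t :: gs) [0, 8, 0] • q :=
  qq_step hc (q1 hc q) z64

theorem q3 {Y : Type*} [MulAction G Y] {gs : List G} (hc : ∀ R, CL.ThS.chk R = true → Rels gs R) (q : Y) :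
    qq C.T gs t q 3 = wordG (t :: gs) [0, 4, 13, 0] • q :=
  qq_step hc (q1 hc q) z65

theorem q4 {Y : Type*} [MulAction G Y] {gs : List G} (hc : ∀ R, CL.ThS.chk R = true → Rels gs R) (q : Y) :
    qq C.T gs t q 4 = wordG (t :: gs) [0, 23, 0] • q :=
  qq_step hc (q1 hc q) z66

theorem q5 {Y : Type*} [MulAction G Y] {gs : List G} (hc : ∀ R, CL.ThS.chk R = true → Rels gs R) (q : Y) :
    qq C.T gs t q 5 = wordG (t :: gs) [0, 31, 0] • q :=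
  qq_step hc (q1 hc q) z67

theorem q6 {Y : Type*} [MulAction G Y] {gs : List G} (hc : ∀ R, CL.ThS.chk R = true → Rels gs R) (q : Y) :
    qq C.T gs t q 6 = wordG (t :: gs) [0, 4, 19, 0] • q :=
  qq_step hc (q1 hc q) z68

theorem q7 {Y : Type*} [MulAction G Y] {gs : List G} (hc : ∀ R, CL.ThS.chk R = true → Rels gs R) (q : Y) :
    qq C.T gs t q 7 = wordG (t :: gs) [0, 4, 0, 8, 0] • q :=
  qq_step hc (q2 hc q) z69

theorem q8 {Y : Type*} [MulAction G Y] {gs : List G} (hc : ∀ R, CL.ThS.chk R = true → Rels gs R) (q : Y) :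
    qq C.T gs t q 8 = wordG (t :: gs) [0, 8, 29, 33, 27, 33, 0, 4, 13, 0] • q :=
  qq_step hc (q3 hc q) z70

theorem q9 {Y : Type*} [MulAction G Y] {gs : List G} (hc : ∀ R, CL.ThS.chk R = true → Rels gs R) (q : Y) :
    qq C.T gs t q 9 = wordG (t :: gs) [0, 8, 29, 30, 29, 25, 0, 4, 13, 0] • q :=
  qq_step hc (q3 hc q) z71

theorem q10 {Y : Type*} [MulAction G Y] {gs : List G} (hc : ∀ R, CL.ThS.chk R = true → Rels gs R) (q : Y) :
    qq C.T gs t q 10 = wordG (t :: gs) [0, 32, 0, 4, 13, 0] • q :=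
  qq_step hc (q3 hc q) z72

theorem resW (c : Ctx CL.ThS.P e gs CL.ThS.ns CL.ThS.D CL.ThS.chk) {k : List (List ℕ × List ℕ) → Bool} (cL : Ctx CL.ThLam.P eL g0 CL.ThLam.ns [] k)
    (E : Env (subW g0 [[0], [2], [4], [6], [8], [10], [12]]) g0 gs CL.ThS.chk) (hp : PairTo (gs.map φ) t 226 94 320) (hU : UB (subW g0 [[0], [2], [4], [6], [8], [10], [12]]) 634023936)
    (hr : ∀ r ∈ rels, wordG (t :: gs.map φ) r = 1) (hg : ∀ K : Subgroup G, (subW g0 [[0], [2], [4], [6], [8], [10], [12]]).map φ ≤ K → t ∈ K → K = ⊤) :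
    ResW ((subW g0 [[0], [2], [4], [6], [8], [10], [12]]).map φ) (reps.map (wordG (t :: gs.map φ))) [17199, 45864, 2201472, 1304576, 11741184, 105670656, 5031936, 179712, 8805888, 8128512] :=
  have A := lam c cL E hp hU
  have S := sys_coset (C := C) (E.mem_map φ) (inv hr) hp hr L (E.map φ)
  resW_of_cov (os := os) A.1 S (up S) z62 z61 hg hU
    (List.forall_mem_cons.2 ⟨Cov.lb A.1 E z36 z37 (CL.ThS.S1_lb c) (by decide),
    List.forall_mem_cons.2 ⟨Cov.lb A.1 E z38 z39 (CL.ThS.S2_lb c) (by decide),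
    List.forall_mem_cons.2 ⟨Cov.lb A.1 E z40 z41 (CL.ThS.S3_lb c) (by decide),
    List.forall_mem_cons.2 ⟨Cov.lb A.1 E z42 z43 (CL.ThS.S4_lb c) (by decide),
    List.forall_mem_cons.2 ⟨Cov.lb A.1 E z44 z45 (CL.ThS.S5_lb c) (by decide),
    List.forall_mem_cons.2 ⟨Cov.lb A.1 E o6_ok z52 (CL.ThS.S6_lb c) (by decide),
    List.forall_mem_cons.2 ⟨Cov.lb A.1 E z53 z54 (CL.ThS.S7_lb c) (by decide),
    List.forall_mem_cons.2 ⟨Cov.lb A.1 E z55 z56 (CL.ThS.S8_lb c) (by decide),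
    List.forall_mem_cons.2 ⟨Cov.lb A.1 E z57 z58 (CL.ThS.S9_lb c) (by decide),
    List.forall_mem_cons.2 ⟨Cov.lb A.1 E z59 z60 (CL.ThS.S10_lb c) (by decide),
    fun _ h => absurd h List.not_mem_nil⟩⟩⟩⟩⟩⟩⟩⟩⟩⟩)
    (.cons (q1 (E.map φ) _) (.cons (q2 (E.map φ) _) (.cons (q3 (E.map φ) _) (.cons (q4 (E.map φ) _) (.cons (q5 (E.map φ) _) (.cons (q6 (E.map φ) _) (.cons (q7 (E.map φ) _) (.cons (q8 (E.map φ) _) (.cons (q9 (E.map φ) _) (.cons (q10 (E.map φ) _) .nil))))))))))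


end CL.ThD
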