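/-
Certificate of the double coset enumeration for the group Y333 over Fi22.
Generated by tools/dce.
-/
import Cfsg.Agent.Spor.Y3S
import Cfsg.Agent.Spor.Y3L

set_option autoImplicit false
set_option maxRecDepth 200000
set_option Elab.async false
set_option linter.unusedVariables false

namespace CL.Y3D
open CL.PG CL.DCE

noncomputable def rels : List (List ℕ) :=
  [[0, 0],
  [0, 4, 1, 19],
  [0, 6, 1, 17],
  [0, 8, 1, 9],
  [0, 10, 1, 11],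
  [0, 12, 1, 13],
  [0, 14, 1, 15],
  [0, 16, 1, 7],
  [0, 18, 1, 5],
  [0, 2, 0, 2, 0, 2, 0, 2]]
noncomputable def T0 : Tr :=
  .n (.n (.n (.n (.n (.n (.n (.n (.l ⟨(nat_lit 0), (nat_lit 0), (nat_lit 0), (nat_lit 0)⟩)
 (.l ⟨(nat_lit 0x1400013), (nat_lit 0xd2090a9214a126c8d), (nat_lit 0x378e3348e63ece5008df3d0ea4310240c02), (nat_lit 0)⟩))
 (.n (.l ⟨(nat_lit 0x800008), (nat_lit 0x1e47b240bb2708a), (nat_lit 0), (nat_lit 0)⟩)
 (.l ⟨(nat_lit 0xc0000b), (nat_lit 0x700906801), (nat_lit 0x334ed34901424cf008d83d4c738cd7), (nat_lit 0)⟩)))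
 (.n (.n (.l ⟨(nat_lit 0x400004), (nat_lit 0x39004a91fc952b08a), (nat_lit 0), (nat_lit 0)⟩)
 (.l ⟨(nat_lit 0x1a0001a), (nat_lit 0x18c32228852608e2bc85), (nat_lit 0), (nat_lit 0)⟩))
 (.n (.l ⟨(nat_lit 0xe0000e), (nat_lit 0x50268011f4912e4902a086), (nat_lit 0), (nat_lit 0)⟩)
 (.l ⟨(nat_lit 0x1400013), (nat_lit 0x701707401), (nat_lit 0x378e3348e63ece5008df3d0ea4310240c02304f23bd093f0ec), (nat_lit 0)⟩))))
 (.n (.n (.n (.l ⟨(nat_lit 0x200002), (nat_lit 0x1e492290bd2948b), (nat_lit 0), (nat_lit 0)⟩)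
 (.l ⟨(nat_lit 0x1800011), (nat_lit 0x23c3f1fca91fc9526c83), (nat_lit 0xdb314c93e0dd31c02), (nat_lit 0)⟩))
 (.n (.l ⟨(nat_lit 0xe0000e), (nat_lit 0x24c88270a629c89), (nat_lit 0), (nat_lit 0)⟩)
 (.l ⟨(nat_lit 0xa0000f), (nat_lit 0), (nat_lit 0x1c0508801), (nat_lit 0)⟩)))
 (.n (.n (.l ⟨(nat_lit 0x600005), (nat_lit 0xa023240b61d47b2a88f), (nat_lit 0x3a4e23c50642402), (nat_lit 0)⟩)
 (.l ⟨(nat_lit 0x600006), (nat_lit 0x801e0800503418064130441405413), (nat_lit 0), (nat_lit 0)⟩))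
 (.n (.l ⟨(nat_lit 0x1000010), (nat_lit 0x2438c1f24c93240872bc77), (nat_lit 0), (nat_lit 0)⟩)
 (.l ⟨(nat_lit 0x1800017), (nat_lit 0x1c1706801), (nat_lit 0xcf418ec3f0fc3440233d0934cdd3f4fa), (nat_lit 0)⟩)))))
 (.n (.n (.n (.n (.l ⟨(nat_lit 0x1000009), (nat_lit 0x2006801), (nat_lit 0), (nat_lit 0)⟩)
 (.l ⟨(nat_lit 0x1600013), (nat_lit 0x3bc011fcb42c8a12e498), (nat_lit 0xdf3ccd342ce931c02), (nat_lit 0)⟩))
 (.n (.l ⟨(nat_lit 0xa0000a), (nat_lit 0x2685521c9f3009d2ac94), (nat_lit 0), (nat_lit 0)⟩)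
 (.l ⟨(nat_lit 0xc0000c), (nat_lit 0x3c0508421044130581d03c190580b), (nat_lit 0), (nat_lit 0)⟩)))
 (.n (.n (.l ⟨(nat_lit 0x400004), (nat_lit 0x36c301f4c02548522c79), (nat_lit 0), (nat_lit 0)⟩)
 (.l ⟨(nat_lit 0x400003), (nat_lit 1), (nat_lit 0), (nat_lit 0)⟩))
 (.n (.l ⟨(nat_lit 0x1000010), (nat_lit 0xef1208e2c0982c091), (nat_lit 0), (nat_lit 0)⟩)
 (.l ⟨(nat_lit 0x1200015), (nat_lit 0x641e05401), (nat_lit 0xd2090a9214a126c8d374d4354f9344c9), (nat_lit 0)⟩))))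
 (.n (.n (.n (.l ⟨(nat_lit 0x200002), (nat_lit 0x1ecad1d48c2b498), (nat_lit 0), (nat_lit 0)⟩)
 (.l ⟨(nat_lit 0x1a0001a), (nat_lit 0x4043c214b32989e1fc90), (nat_lit 0), (nat_lit 0)⟩))
 (.n (.l ⟨(nat_lit 0xe0000e), (nat_lit 0x3905321c92254b82a496), (nat_lit 0), (nat_lit 0)⟩)
 (.l ⟨(nat_lit 0x1200012), (nat_lit 0x41a0540102c1e034140581e03c09), (nat_lit 0), (nat_lit 0)⟩)))
 (.n (.n (.l ⟨(nat_lit 0x600006), (nat_lit 0x3ec3e220ba2508125483), (nat_lit 0), (nat_lit 0)⟩)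
 (.l ⟨(nat_lit 0x600009), (nat_lit 0x78140541f), (nat_lit 0x1218912289221c83304fb36109384d1), (nat_lit 0)⟩))
 (.n (.l ⟨(nat_lit 0x120000b), (nat_lit 0x983a1fca91ec8a2e48f), (nat_lit 0xd33d908394f934c02), (nat_lit 0)⟩)
 (.l ⟨(nat_lit 0x1600019), (nat_lit 0x60150501f), (nat_lit 0x570f08e2c8ae29c92220f13b4e842ccd), (nat_lit 0)⟩))))))
 (.n (.n (.n (.n (.n (.l ⟨(nat_lit 0x800003), (nat_lit 32769), (nat_lit 0), (nat_lit 0)⟩)
 (.l ⟨(nat_lit 0x1600016), (nat_lit 0x234962309b2748d), (nat_lit 0), (nat_lit 0)⟩))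
 (.n (.l ⟨(nat_lit 0x800008), (nat_lit 0xd8612349c278a22cc88), (nat_lit 0), (nat_lit 0)⟩)
 (.l ⟨(nat_lit 0x120000b), (nat_lit 0x41901421), (nat_lit 0x34cf6420e53e4d3008d636d0b31cf43240230cd136cc13fcdb), (nat_lit 0)⟩)))
 (.n (.n (.l ⟨(nat_lit 0x400004), (nat_lit 0xe40123ca6228a72b497), (nat_lit 0), (nat_lit 0)⟩)
 (.l ⟨(nat_lit 0x1a00017), (nat_lit 0x7464288872d4a42e475), (nat_lit 0xda3b4fc3d8e036002), (nat_lit 0)⟩))
 (.n (.l ⟨(nat_lit 0x1000009), (nat_lit 0x600b401248bc2d89b2608a), (nat_lit 0xdd41ccf364fb32c02), (nat_lit 0)⟩)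
 (.l ⟨(nat_lit 0x1400014), (nat_lit 0x1301c2001c1106c160741506403), (nat_lit 0), (nat_lit 0)⟩))))
 (.n (.n (.n (.l ⟨(nat_lit 0x200002), (nat_lit 0x21c90284b326483), (nat_lit 0), (nat_lit 0)⟩)
 (.l ⟨(nat_lit 0x1a0001a), (nat_lit 0x22c982c09b21c81), (nat_lit 0), (nat_lit 0)⟩))
 (.n (.l ⟨(nat_lit 0xe0000e), (nat_lit 0x11c011dca12bca01ec86), (nat_lit 0), (nat_lit 0)⟩)
 (.l ⟨(nat_lit 0x800011), (nat_lit 0), (nat_lit 0x2006801), (nat_lit 0)⟩)))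
 (.n (.n (.l ⟨(nat_lit 0x600006), (nat_lit 0x24ca8224bc30081), (nat_lit 0), (nat_lit 0)⟩)
 (.l ⟨(nat_lit 0x1200007), (nat_lit 26625), (nat_lit 0), (nat_lit 0)⟩))
 (.n (.l ⟨(nat_lit 0x1200012), (nat_lit 0x240ba2b09c2c48c), (nat_lit 0), (nat_lit 0)⟩)
 (.l ⟨(nat_lit 0x1800018), (nat_lit 0x840f07c130041a05c1a0581406c05), (nat_lit 0), (nat_lit 0)⟩)))))
 (.n (.n (.n (.n (.l ⟨(nat_lit 0x180000b), (nat_lit 28705), (nat_lit 0), (nat_lit 0)⟩)
 (.l ⟨(nat_lit 0x180000b), (nat_lit 0x22824230ba2b89a23479), (nat_lit 0xd1350e03250132402), (nat_lit 0)⟩))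
 (.n (.l ⟨(nat_lit 0xc00007), (nat_lit 0x27401220991dc8129877), (nat_lit 0x430fc3dcdc38802), (nat_lit 0)⟩)
 (.l ⟨(nat_lit 0x160000d), (nat_lit 0x741506801), (nat_lit 0xd23590a39d09324023610841900418df), (nat_lit 0)⟩)))
 (.n (.n (.l ⟨(nat_lit 0x400004), (nat_lit 0x10308ca52f8b9274b3), (nat_lit 0), (nat_lit 0)⟩)
 (.l ⟨(nat_lit 0x200005), (nat_lit 0), (nat_lit 1), (nat_lit 0)⟩))
 (.n (.l ⟨(nat_lit 0x1000010), (nat_lit 0x43198012209e2a0af248a7), (nat_lit 0), (nat_lit 0)⟩)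
 (.l ⟨(nat_lit 0x800017), (nat_lit 0), (nat_lit 32769), (nat_lit 0)⟩))))
 (.n (.n (.n (.l ⟨(nat_lit 0x400004), (nat_lit 0x1dc8e2847f1f479), (nat_lit 0), (nat_lit 0)⟩)
 (.l ⟨(nat_lit 0x1a0001a), (nat_lit 0x5c48214a826ca92e88c), (nat_lit 0), (nat_lit 0)⟩))
 (.n (.l ⟨(nat_lit 0xe0000e), (nat_lit 0x16c3c204a1268b721c7f), (nat_lit 0), (nat_lit 0)⟩)
 (.l ⟨(nat_lit 0xa00013), (nat_lit 0x10681f), (nat_lit 0x260e87f2a47b228b923cd3384d539101), (nat_lit 0)⟩)))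
 (.n (.n (.l ⟨(nat_lit 0x600006), (nat_lit 0x34202048e2dc9c1f4a3), (nat_lit 0), (nat_lit 0)⟩)
 (.l ⟨(nat_lit 0xa0000a), (nat_lit 0x1406c2102c1b00c090501403c03), (nat_lit 0), (nat_lit 0)⟩))
 (.n (.l ⟨(nat_lit 0x1400014), (nat_lit 0x94274902c48d), (nat_lit 0), (nat_lit 0)⟩)
 (.l ⟨(nat_lit 0x100001b), (nat_lit 0), (nat_lit 0x2206801), (nat_lit 0)⟩)))))))
 (.n (.n (.n (.n (.n (.n (.l ⟨(nat_lit 0x400003), (nat_lit 1), (nat_lit 0), (nat_lit 0)⟩)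
 (.l ⟨(nat_lit 0x1600016), (nat_lit 0x22094274bf27094), (nat_lit 0), (nat_lit 0)⟩))
 (.n (.l ⟨(nat_lit 0x800008), (nat_lit 0x244ab2948f27077), (nat_lit 0), (nat_lit 0)⟩)
 (.l ⟨(nat_lit 0xc0000b), (nat_lit 0x5c1a01c1f), (nat_lit 0x344eb32cff3a8da30402344e03f4cf324c1), (nat_lit 0)⟩)))
 (.n (.n (.l ⟨(nat_lit 0x400004), (nat_lit 0x2508f2c0bf2a877), (nat_lit 0), (nat_lit 0)⟩)
 (.l ⟨(nat_lit 0x1a0001a), (nat_lit 0x18c32228852608e2bc85), (nat_lit 0), (nat_lit 0)⟩))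
 (.n (.l ⟨(nat_lit 0x1000010), (nat_lit 0x1e49f218a52bc7d), (nat_lit 0), (nat_lit 0)⟩)
 (.l ⟨(nat_lit 0x1000013), (nat_lit 0x7c1d04c20), (nat_lit 0x4c3314c937909), (nat_lit 0)⟩))))
 (.n (.n (.n (.l ⟨(nat_lit 0x200002), (nat_lit 0x1d4b7274922b093), (nat_lit 0), (nat_lit 0)⟩)
 (.l ⟨(nat_lit 0x1800017), (nat_lit 0x15c3c238b22b8a724888), (nat_lit 0xcf418ec3f0fc34402), (nat_lit 0)⟩))
 (.n (.l ⟨(nat_lit 0xe0000b), (nat_lit 0x2f02f218a52189029c94), (nat_lit 0x304e4378d634802), (nat_lit 0)⟩)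
 (.l ⟨(nat_lit 0x1000010), (nat_lit 0x190601f0681e0581906c0307419), (nat_lit 0), (nat_lit 0)⟩)))
 (.n (.n (.l ⟨(nat_lit 0x600006), (nat_lit 0xa9220772a886), (nat_lit 0), (nat_lit 0)⟩)
 (.l ⟨(nat_lit 0x800007), (nat_lit 1), (nat_lit 0xde400dc3bcda3500233cd4374d5378d1), (nat_lit 0)⟩))
 (.n (.l ⟨(nat_lit 0x1000010), (nat_lit 0x1785e2148c28cae27c99), (nat_lit 0), (nat_lit 0)⟩)
 (.l ⟨(nat_lit 0x1a00017), (nat_lit 0x680f00420), (nat_lit 0x368ed3f0f6380d8008f6364d23a4ff), (nat_lit 0)⟩)))))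
 (.n (.n (.n (.n (.l ⟨(nat_lit 0x140000f), (nat_lit 1), (nat_lit 0), (nat_lit 0)⟩)
 (.l ⟨(nat_lit 0x1800018), (nat_lit 0x1d49c2f4772f07b), (nat_lit 0), (nat_lit 0)⟩))
 (.n (.l ⟨(nat_lit 0xc0000c), (nat_lit 0x234b823ca92848c), (nat_lit 0), (nat_lit 0)⟩)
 (.l ⟨(nat_lit 0xa0000d), (nat_lit 0x1806422), (nat_lit 0x3bc011fcb42c8a12e498380c13ece93d4c7), (nat_lit 0)⟩)))
 (.n (.n (.l ⟨(nat_lit 0x400004), (nat_lit 0x3bc471ecb6270932c07b), (nat_lit 0), (nat_lit 0)⟩)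
 (.l ⟨(nat_lit 0x400004), (nat_lit 0x581a0541f04415064150741a06011), (nat_lit 0), (nat_lit 0)⟩))
 (.n (.l ⟨(nat_lit 0x1000010), (nat_lit 0x25c51244af26cad2a87d), (nat_lit 0), (nat_lit 0)⟩)
 (.l ⟨(nat_lit 0x1600016), (nat_lit 0x4200502000c0d03c1e0601c07403), (nat_lit 0), (nat_lit 0)⟩))))
 (.n (.n (.n (.l ⟨(nat_lit 0x400004), (nat_lit 0x1fc952a4bd25879), (nat_lit 0), (nat_lit 0)⟩)
 (.l ⟨(nat_lit 0x1a0001a), (nat_lit 0x4043c214b32989e1fc90), (nat_lit 0), (nat_lit 0)⟩))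
 (.n (.l ⟨(nat_lit 0xe0000e), (nat_lit 0x3b8231e49d2848527c77), (nat_lit 0), (nat_lit 0)⟩)
 (.l ⟨(nat_lit 0x600013), (nat_lit 0), (nat_lit 26625), (nat_lit 0)⟩)))
 (.n (.n (.l ⟨(nat_lit 0x600006), (nat_lit 0x3ec3e21887228a22b09e), (nat_lit 0), (nat_lit 0)⟩)
 (.l ⟨(nat_lit 0x1600009), (nat_lit 32769), (nat_lit 0), (nat_lit 0)⟩))
 (.n (.l ⟨(nat_lit 0x120000b), (nat_lit 0x1020bc01220ab24c9528c8a), (nat_lit 0x34cf6420e53e4d3008d636d0b31cf432402), (nat_lit 0)⟩)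
 (.l ⟨(nat_lit 0x1a0001a), (nat_lit 0x1e07021084090541b01419060110640f), (nat_lit 0), (nat_lit 0)⟩))))))
 (.n (.n (.n (.n (.n (.l ⟨(nat_lit 0xc00007), (nat_lit 34), (nat_lit 0), (nat_lit 0)⟩)
 (.l ⟨(nat_lit 0x1600016), (nat_lit 0x41431230a32f4bb28c7f), (nat_lit 0), (nat_lit 0)⟩))
 (.n (.l ⟨(nat_lit 0xa0000a), (nat_lit 0x1fcb7300bb28c83), (nat_lit 0), (nat_lit 0)⟩)
 (.l ⟨(nat_lit 0xe0000b), (nat_lit 0x1c0508801), (nat_lit 0), (nat_lit 0)⟩)))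
 (.n (.n (.l ⟨(nat_lit 0x400004), (nat_lit 0x2d8011f4ad224b022883), (nat_lit 0), (nat_lit 0)⟩)
 (.l ⟨(nat_lit 0x200002), (nat_lit 0x241a024110541e07003), (nat_lit 0), (nat_lit 0)⟩))
 (.n (.l ⟨(nat_lit 0x1000010), (nat_lit 0x3c024240c02f4882b089), (nat_lit 0), (nat_lit 0)⟩)
 (.l ⟨(nat_lit 0xc00015), (nat_lit 0x1906020), (nat_lit 0xba0b4011dcaf294b42f48d37d0b3a8c3374c3), (nat_lit 0)⟩))))
 (.n (.n (.n (.l ⟨(nat_lit 0x200002), (nat_lit 0xb329c9c2e493), (nat_lit 0), (nat_lit 0)⟩)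
 (.l ⟨(nat_lit 0x1a0001a), (nat_lit 0x218b72b4a422c7d), (nat_lit 0), (nat_lit 0)⟩))
 (.n (.l ⟨(nat_lit 0xe0000e), (nat_lit 0xd908c011e485248b82fc85), (nat_lit 0), (nat_lit 0)⟩)
 (.l ⟨(nat_lit 0x1800011), (nat_lit 0x881f06022), (nat_lit 0xdb314c93e0dd31c0234d0a430f8370c3), (nat_lit 0)⟩)))
 (.n (.n (.l ⟨(nat_lit 0x600006), (nat_lit 0x311bc0123ca52b8932488f), (nat_lit 0), (nat_lit 0)⟩)
 (.l ⟨(nat_lit 0x800008), (nat_lit 0x7c0f0501f0241c0601a04c0b01403), (nat_lit 0), (nat_lit 0)⟩))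
 (.n (.l ⟨(nat_lit 0x1200007), (nat_lit 0x700c8ab20c9629886), (nat_lit 0xd43d8d5430cf30402), (nat_lit 0)⟩)
 (.l ⟨(nat_lit 0x1400019), (nat_lit 0xb08020), (nat_lit 0x1a05d1d4be224ac2d107375073a4fb), (nat_lit 0)⟩)))))
 (.n (.n (.n (.n (.l ⟨(nat_lit 0x200002), (nat_lit 0x7f280a421c7d), (nat_lit 0), (nat_lit 0)⟩)
 (.l ⟨(nat_lit 0x180000b), (nat_lit 0x5324801240852bcae2e09d), (nat_lit 0xc9400d3380e038802), (nat_lit 0)⟩))
 (.n (.l ⟨(nat_lit 0xc0000b), (nat_lit 0x3bc011fcb42c8a12e498), (nat_lit 0xcd3b4d24050933c02), (nat_lit 0)⟩)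
 (.l ⟨(nat_lit 0xe0000e), (nat_lit 0x701107c220781a02c18054130580d), (nat_lit 0), (nat_lit 0)⟩)))
 (.n (.n (.l ⟨(nat_lit 0x600006), (nat_lit 0x24ca8224bc30081), (nat_lit 0), (nat_lit 0)⟩)
 (.l ⟨(nat_lit 0x600005), (nat_lit 31), (nat_lit 0), (nat_lit 0)⟩))
 (.n (.l ⟨(nat_lit 0x1000010), (nat_lit 0x501f1e4861e4b72e87f), (nat_lit 0), (nat_lit 0)⟩)
 (.l ⟨(nat_lit 0x1200017), (nat_lit 0x581e0441f), (nat_lit 0x24c2d218a024c9d284a0350e5414cb3ccc5), (nat_lit 0)⟩))))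
 (.n (.n (.n (.l ⟨(nat_lit 0x400004), (nat_lit 1), (nat_lit 0), (nat_lit 0)⟩)
 (.l ⟨(nat_lit 0x1a0001a), (nat_lit 0xe510c901fcb025ca5), (nat_lit 0), (nat_lit 0)⟩))
 (.n (.l ⟨(nat_lit 0xe0000e), (nat_lit 0xbc0e4201e4b52dcc02c485), (nat_lit 0), (nat_lit 0)⟩)
 (.l ⟨(nat_lit 0xa00013), (nat_lit 0x701e03c1f), (nat_lit 0x1020bc01220ab24c9528c8a36502304f93d0d3), (nat_lit 0)⟩)))
 (.n (.n (.l ⟨(nat_lit 0x600006), (nat_lit 0x4183a2348a25c852f887), (nat_lit 0), (nat_lit 0)⟩)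
 (.l ⟨(nat_lit 0x40000b), (nat_lit 0), (nat_lit 32), (nat_lit 0)⟩))
 (.l ⟨(nat_lit 0x140000d), (nat_lit 0xba0b4011dcaf294b42f48d), (nat_lit 0xde38cd2398fb39402), (nat_lit 0)⟩)))))))
 (.n (.n (.n (.n (.n (.n (.n (.l ⟨(nat_lit 0x200001), (nat_lit 0), (nat_lit 0), (nat_lit 0)⟩)
 (.l ⟨(nat_lit 0x1400013), (nat_lit 0x364012388822c862287b), (nat_lit 0x378e3348e63ece5008df3d0ea4310240c0239102424da31402), (nat_lit 0)⟩))
 (.n (.l ⟨(nat_lit 0x800008), (nat_lit 0x9c2cc9a2e4b2), (nat_lit 0), (nat_lit 0)⟩)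
 (.l ⟨(nat_lit 0x120000b), (nat_lit 0x1a03c21), (nat_lit 0xcb40cf93d0e331c0236cf43bced3c4cf), (nat_lit 0)⟩)))
 (.n (.n (.l ⟨(nat_lit 0x400004), (nat_lit 0x26487254b8), (nat_lit 0), (nat_lit 0)⟩)
 (.l ⟨(nat_lit 0x1a0001a), (nat_lit 0x4043c214b32989e1fc90), (nat_lit 0), (nat_lit 0)⟩))
 (.n (.l ⟨(nat_lit 0x1000010), (nat_lit 0xbb1f4b427c75), (nat_lit 0), (nat_lit 0)⟩)
 (.l ⟨(nat_lit 0x1400013), (nat_lit 0x580305801), (nat_lit 0x378e3348e63ece5008df3d0ea4310240c0239102424da3140237ccd3ad0341ccb), (nat_lit 0)⟩))))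
 (.n (.n (.n (.l ⟨(nat_lit 0x200002), (nat_lit 0x204952147522c87), (nat_lit 0), (nat_lit 0)⟩)
 (.l ⟨(nat_lit 0x1800015), (nat_lit 0x68174752f8892b0b4), (nat_lit 0xd740102400e533c02), (nat_lit 0)⟩))
 (.n (.l ⟨(nat_lit 0xe0000e), (nat_lit 0x1dc96268b02c885), (nat_lit 0), (nat_lit 0)⟩)
 (.l ⟨(nat_lit 0x140000f), (nat_lit 1), (nat_lit 0), (nat_lit 0)⟩)))
 (.n (.n (.l ⟨(nat_lit 0x600006), (nat_lit 0x311bc0123ca52b8932488f), (nat_lit 0), (nat_lit 0)⟩)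
 (.l ⟨(nat_lit 0x400007), (nat_lit 0), (nat_lit 31), (nat_lit 0)⟩))
 (.n (.l ⟨(nat_lit 0x1000010), (nat_lit 0xb10f8ad2dc8a25094), (nat_lit 0), (nat_lit 0)⟩)
 (.l ⟨(nat_lit 0xc00017), (nat_lit 0x68110241f), (nat_lit 0x700c8ab20c9629886364fc3b501324cb), (nat_lit 0)⟩)))))
 (.n (.n (.n (.n (.l ⟨(nat_lit 0x1200007), (nat_lit 26625), (nat_lit 0), (nat_lit 0)⟩)
 (.l ⟨(nat_lit 0x1600013), (nat_lit 0x24c2d218a024c9d284a0), (nat_lit 0xc5371053b8d535c02), (nat_lit 0)⟩))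
 (.n (.l ⟨(nat_lit 0xa00009), (nat_lit 0x68174752f8892b0b4), (nat_lit 0x3d8fe394f742402), (nat_lit 0)⟩)
 (.l ⟨(nat_lit 0x60000d), (nat_lit 0), (nat_lit 34), (nat_lit 0)⟩)))
 (.n (.n (.l ⟨(nat_lit 0x400004), (nat_lit 0xaa0f8a02eca32f88a), (nat_lit 0), (nat_lit 0)⟩)
 (.l ⟨(nat_lit 0x800003), (nat_lit 32769), (nat_lit 0), (nat_lit 0)⟩))
 (.n (.l ⟨(nat_lit 0x1000010), (nat_lit 0xa00b49d2c093258be), (nat_lit 0), (nat_lit 0)⟩)
 (.l ⟨(nat_lit 0x1200015), (nat_lit 0x601f08801), (nat_lit 0x364012388822c862287b334e837cf031ce6), (nat_lit 0)⟩))))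
 (.n (.n (.n (.l ⟨(nat_lit 0x200002), (nat_lit 0x2248e2808125085), (nat_lit 0), (nat_lit 0)⟩)
 (.l ⟨(nat_lit 0x1a0001a), (nat_lit 0x48100bb2448f1f493), (nat_lit 0), (nat_lit 0)⟩))
 (.n (.l ⟨(nat_lit 0xe0000e), (nat_lit 0x37452238b822caf26887), (nat_lit 0), (nat_lit 0)⟩)
 (.l ⟨(nat_lit 0x1200012), (nat_lit 0x781105801024180741a01c050781e), (nat_lit 0), (nat_lit 0)⟩)))
 (.n (.n (.l ⟨(nat_lit 0x600006), (nat_lit 0x2901f1eca7280ab2b897), (nat_lit 0), (nat_lit 0)⟩)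
 (.l ⟨(nat_lit 0xa00009), (nat_lit 0x701405401), (nat_lit 0x3d8fe394f74240233cfa36cee37cc9), (nat_lit 0)⟩))
 (.n (.l ⟨(nat_lit 0x120000b), (nat_lit 0xda0f4a2250aa2f08e), (nat_lit 0xcb40cf93d0e331c02), (nat_lit 0)⟩)
 (.l ⟨(nat_lit 0x1000019), (nat_lit 0x78030501f), (nat_lit 0x23c3f1fca91fc9526c83378e33bcd2384c5), (nat_lit 0)⟩))))))
 (.n (.n (.n (.n (.n (.l ⟨(nat_lit 0xa00005), (nat_lit 32), (nat_lit 0), (nat_lit 0)⟩)
 (.l ⟨(nat_lit 0x1600009), (nat_lit 0x3c08896270b026cad), (nat_lit 0xdc30cfc3150331402), (nat_lit 0)⟩))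
 (.n (.l ⟨(nat_lit 0xa0000a), (nat_lit 0x20c8b2d8922b485), (nat_lit 0), (nat_lit 0)⟩)
 (.l ⟨(nat_lit 0x180000b), (nat_lit 28705), (nat_lit 0), (nat_lit 0)⟩)))
 (.n (.n (.l ⟨(nat_lit 0x400004), (nat_lit 0x2f8411ec8f254882b879), (nat_lit 0), (nat_lit 0)⟩)
 (.l ⟨(nat_lit 0x200002), (nat_lit 0xc07064140740304c0d), (nat_lit 0), (nat_lit 0)⟩))
 (.n (.l ⟨(nat_lit 0x1000010), (nat_lit 0x3942220ca52d0bf2a88c), (nat_lit 0), (nat_lit 0)⟩)
 (.l ⟨(nat_lit 0xe00015), (nat_lit 0), (nat_lit 1), (nat_lit 0)⟩))))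
 (.n (.n (.n (.l ⟨(nat_lit 0x200002), (nat_lit 0x1f4a722cb92e4a6), (nat_lit 0), (nat_lit 0)⟩)
 (.l ⟨(nat_lit 0x1a0001a), (nat_lit 0x22c9721cae2dc86), (nat_lit 0), (nat_lit 0)⟩))
 (.n (.l ⟨(nat_lit 0xe0000e), (nat_lit 0xf82c1f49a26cbc23075), (nat_lit 0), (nat_lit 0)⟩)
 (.l ⟨(nat_lit 0x1200011), (nat_lit 1), (nat_lit 0x1c89407c872ecae2807b), (nat_lit 0)⟩)))
 (.n (.n (.l ⟨(nat_lit 0x600006), (nat_lit 0x2901f20c9e2e49c1e48a), (nat_lit 0), (nat_lit 0)⟩)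
 (.l ⟨(nat_lit 0x800008), (nat_lit 0x3c1a04c1a0501406c11), (nat_lit 0), (nat_lit 0)⟩))
 (.n (.l ⟨(nat_lit 0x1200012), (nat_lit 0x220a521c9f2c483), (nat_lit 0), (nat_lit 0)⟩)
 (.l ⟨(nat_lit 0xa00019), (nat_lit 0), (nat_lit 28705), (nat_lit 0)⟩)))))
 (.n (.n (.n (.n (.l ⟨(nat_lit 0x1a00011), (nat_lit 0x2206801), (nat_lit 0), (nat_lit 0)⟩)
 (.l ⟨(nat_lit 0x1800018), (nat_lit 0x890aca123c9f294b0), (nat_lit 0), (nat_lit 0)⟩))
 (.n (.l ⟨(nat_lit 0xc0000c), (nat_lit 0x3a031250922187f27cb0), (nat_lit 0), (nat_lit 0)⟩)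
 (.l ⟨(nat_lit 0x140000d), (nat_lit 0x800b06022), (nat_lit 0xde38cd2398fb39402304e1430e93bccf), (nat_lit 0)⟩)))
 (.n (.n (.l ⟨(nat_lit 0x600006), (nat_lit 0x23cb9280b02989d), (nat_lit 0), (nat_lit 0)⟩)
 (.l ⟨(nat_lit 0xa00005), (nat_lit 32), (nat_lit 0), (nat_lit 0)⟩))
 (.n (.l ⟨(nat_lit 0x1000010), (nat_lit 0xb46924cb228ca32d883), (nat_lit 0), (nat_lit 0)⟩)
 (.l ⟨(nat_lit 0x1200017), (nat_lit 0x880708401), (nat_lit 0x3bc011fcb42c8a12e49832ce9378d1374c3), (nat_lit 0)⟩))))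
 (.n (.n (.n (.l ⟨(nat_lit 0x400003), (nat_lit 1), (nat_lit 2), (nat_lit 0)⟩)
 (.l ⟨(nat_lit 0x1a0001a), (nat_lit 0x6e15c012449e22c9527885), (nat_lit 0), (nat_lit 0)⟩))
 (.n (.l ⟨(nat_lit 0xe0000e), (nat_lit 0x3b42f238a124c7729879), (nat_lit 0), (nat_lit 0)⟩)
 (.l ⟨(nat_lit 0x1600013), (nat_lit 0x5c1a01c1f), (nat_lit 0xc5371053b8d535c02344e03f4cf324c1), (nat_lit 0)⟩)))
 (.n (.n (.l ⟨(nat_lit 0x600006), (nat_lit 0x2314401214bc2347d2f085), (nat_lit 0), (nat_lit 0)⟩)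
 (.l ⟨(nat_lit 0xa0000a), (nat_lit 0x5c1c0341f00c1502c0f0501706809), (nat_lit 0), (nat_lit 0)⟩))
 (.n (.l ⟨(nat_lit 0x1400014), (nat_lit 0x228932ccb022c7d), (nat_lit 0), (nat_lit 0)⟩)
 (.l ⟨(nat_lit 0x160001b), (nat_lit 0x41a04c1f), (nat_lit 0x7464288872d4a42e475354ff408cf334e3), (nat_lit 0)⟩)))))))
 (.n (.n (.n (.n (.n (.n (.l ⟨(nat_lit 0x600005), (nat_lit 31), (nat_lit 0), (nat_lit 0)⟩)
 (.l ⟨(nat_lit 0x1600016), (nat_lit 0x792cc77258a9), (nat_lit 0), (nat_lit 0)⟩))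
 (.n (.l ⟨(nat_lit 0x800007), (nat_lit 0x1218912289221c83), (nat_lit 0xde400dc3bcda35002), (nat_lit 0)⟩)
 (.l ⟨(nat_lit 0x120000b), (nat_lit 0x780307401), (nat_lit 0x34cf6420e53e4d3008f3380cf41ce8), (nat_lit 0)⟩)))
 (.n (.n (.l ⟨(nat_lit 0x400004), (nat_lit 0xfb180af278962e48b), (nat_lit 0), (nat_lit 0)⟩)
 (.l ⟨(nat_lit 0x1a0001a), (nat_lit 0x258582188929ca430081), (nat_lit 0), (nat_lit 0)⟩))
 (.n (.l ⟨(nat_lit 0x1000010), (nat_lit 0x21c8f2dcb52cc9b), (nat_lit 0), (nat_lit 0)⟩)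
 (.l ⟨(nat_lit 0x1400014), (nat_lit 0x1a0501f0141701c170640d04c0f), (nat_lit 0), (nat_lit 0)⟩))))
 (.n (.n (.n (.l ⟨(nat_lit 0x200002), (nat_lit 0x244c02c88e2a48c), (nat_lit 0), (nat_lit 0)⟩)
 (.l ⟨(nat_lit 0x1800017), (nat_lit 0x2ac01228bf2c09c280ab), (nat_lit 0x31ceb398f142c02), (nat_lit 0)⟩))
 (.n (.l ⟨(nat_lit 0xe0000e), (nat_lit 0x2586221c862d88e22890), (nat_lit 0), (nat_lit 0)⟩)
 (.l ⟨(nat_lit 0x1000010), (nat_lit 0x1d024210540103c180541a0600b0741c), (nat_lit 0), (nat_lit 0)⟩)))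
 (.n (.n (.l ⟨(nat_lit 0x600006), (nat_lit 0x238ae284752f881), (nat_lit 0), (nat_lit 0)⟩)
 (.l ⟨(nat_lit 0xc00007), (nat_lit 34), (nat_lit 0), (nat_lit 0)⟩))
 (.n (.l ⟨(nat_lit 0x1200012), (nat_lit 0x234ba218912ec85), (nat_lit 0), (nat_lit 0)⟩)
 (.l ⟨(nat_lit 0x1800018), (nat_lit 0x680b07c0104c13068180700b05c14), (nat_lit 0), (nat_lit 0)⟩)))))
 (.n (.n (.n (.n (.l ⟨(nat_lit 0x1600009), (nat_lit 32769), (nat_lit 0), (nat_lit 0)⟩)
 (.l ⟨(nat_lit 0x1800018), (nat_lit 0x1dca0280982789a), (nat_lit 0), (nat_lit 0)⟩))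
 (.n (.l ⟨(nat_lit 0xc0000c), (nat_lit 0x21cb3274b92b87b), (nat_lit 0), (nat_lit 0)⟩)
 (.l ⟨(nat_lit 0xa0000d), (nat_lit 0x704c20), (nat_lit 0x24c2d218a024c9d284a0374ff38ce93bccd), (nat_lit 0)⟩)))
 (.n (.n (.l ⟨(nat_lit 0x400004), (nat_lit 0x3883e23cb7220a624875), (nat_lit 0), (nat_lit 0)⟩)
 (.l ⟨(nat_lit 0x400004), (nat_lit 0x90680105c1900c090500301413), (nat_lit 0), (nat_lit 0)⟩))
 (.n (.l ⟨(nat_lit 0x1000010), (nat_lit 0x100212149426cb822c75), (nat_lit 0), (nat_lit 0)⟩)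
 (.l ⟨(nat_lit 0x1600016), (nat_lit 0x6c0907c0d06c0302c0f0701902c05), (nat_lit 0), (nat_lit 0)⟩))))
 (.n (.n (.n (.l ⟨(nat_lit 0x400004), (nat_lit 0x8d2d8ad238aa), (nat_lit 0), (nat_lit 0)⟩)
 (.l ⟨(nat_lit 0x1a0001a), (nat_lit 0x1242f1f4b22f4b32447b), (nat_lit 0), (nat_lit 0)⟩))
 (.n (.l ⟨(nat_lit 0xe0000e), (nat_lit 0x10a2bc01248a42408122c79), (nat_lit 0), (nat_lit 0)⟩)
 (.l ⟨(nat_lit 0x1600013), (nat_lit 0x700906801), (nat_lit 0x37cf334d0b3a4c7008d83d4c738cd7), (nat_lit 0)⟩)))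
 (.n (.n (.l ⟨(nat_lit 0x600006), (nat_lit 0xb60a49b1f493268bb), (nat_lit 0), (nat_lit 0)⟩)
 (.l ⟨(nat_lit 0x1000009), (nat_lit 0x2006801), (nat_lit 0), (nat_lit 0)⟩))
 (.n (.l ⟨(nat_lit 0x1200011), (nat_lit 1), (nat_lit 0x1c89407c872ecae2807b), (nat_lit 0)⟩)
 (.l ⟨(nat_lit 0x1a0001a), (nat_lit 0x1908801054010581c0240f05c1e01c16), (nat_lit 0), (nat_lit 0)⟩))))))
 (.n (.n (.n (.n (.n (.l ⟨(nat_lit 0xe0000b), (nat_lit 0x1c0508801), (nat_lit 0), (nat_lit 0)⟩)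
 (.l ⟨(nat_lit 0x160000d), (nat_lit 0x700c8ab20c9629886), (nat_lit 0xd23590a39d0932402), (nat_lit 0)⟩))
 (.n (.l ⟨(nat_lit 0xa00005), (nat_lit 0x3fc2324077300962ac79), (nat_lit 0xcf3f4ea3d8ee36002), (nat_lit 0)⟩)
 (.l ⟨(nat_lit 0xc0000c), (nat_lit 0x581308001054090500702c1905818), (nat_lit 0), (nat_lit 0)⟩)))
 (.n (.n (.l ⟨(nat_lit 0x400004), (nat_lit 0xae088852887d2a08c), (nat_lit 0), (nat_lit 0)⟩)
 (.l ⟨(nat_lit 3), (nat_lit 0), (nat_lit 0), (nat_lit 0)⟩))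
 (.n (.l ⟨(nat_lit 0x1000010), (nat_lit 0x3215c011f4a8244952607f), (nat_lit 0), (nat_lit 0)⟩)
 (.l ⟨(nat_lit 0x1800015), (nat_lit 0x701405401), (nat_lit 0xd740102400e533c0233cfa36cee37cc9), (nat_lit 0)⟩))))
 (.n (.n (.n (.l ⟨(nat_lit 0x200002), (nat_lit 0x1d4952548f20c75), (nat_lit 0), (nat_lit 0)⟩)
 (.l ⟨(nat_lit 0x1a00011), (nat_lit 0x2d2c81f234a2204862b483), (nat_lit 0xd3418d3380d830c02), (nat_lit 0)⟩))
 (.n (.l ⟨(nat_lit 0xe0000e), (nat_lit 0x1d066224811e4be26c75), (nat_lit 0), (nat_lit 0)⟩)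
 (.l ⟨(nat_lit 0x1a00011), (nat_lit 0x2206801), (nat_lit 0), (nat_lit 0)⟩)))
 (.n (.n (.l ⟨(nat_lit 0x600006), (nat_lit 0x25180a31ec8c22097), (nat_lit 0), (nat_lit 0)⟩)
 (.l ⟨(nat_lit 0x200009), (nat_lit 0), (nat_lit 32769), (nat_lit 0)⟩))
 (.n (.l ⟨(nat_lit 0x1200012), (nat_lit 0x1581f1f49e1e4ae2b896), (nat_lit 0), (nat_lit 0)⟩)
 (.l ⟨(nat_lit 0x1600019), (nat_lit 0x1607401), (nat_lit 0xab0048a2fcb0270a02acf841d03424f4), (nat_lit 0)⟩)))))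
 (.n (.n (.n (.n (.l ⟨(nat_lit 0x200002), (nat_lit 0x1dcbb288991dc75), (nat_lit 0), (nat_lit 0)⟩)
 (.l ⟨(nat_lit 0x1800018), (nat_lit 0x1203221c852747528881), (nat_lit 0), (nat_lit 0)⟩))
 (.n (.l ⟨(nat_lit 0xc0000b), (nat_lit 0x24c2d218a024c9d284a0), (nat_lit 0x344eb32cff3a8da30402), (nat_lit 0)⟩)
 (.l ⟨(nat_lit 0xe0000e), (nat_lit 0x601304c0100c1900c0f0741305803), (nat_lit 0), (nat_lit 0)⟩)))
 (.n (.n (.l ⟨(nat_lit 0x600006), (nat_lit 0x240bf27c9c28c81), (nat_lit 0), (nat_lit 0)⟩)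
 (.l ⟨(nat_lit 0x600006), (nat_lit 0x84170241f0241901c1c0540d0781e), (nat_lit 0), (nat_lit 0)⟩))
 (.n (.l ⟨(nat_lit 0x1000010), (nat_lit 0xf81f224972589924095), (nat_lit 0), (nat_lit 0)⟩)
 (.l ⟨(nat_lit 0x1800017), (nat_lit 0x2000422), (nat_lit 0x31ceb398f142c02380dc404e5390c9), (nat_lit 0)⟩))))
 (.n (.n (.n (.l ⟨(nat_lit 0x400004), (nat_lit 0x234a6250752808e), (nat_lit 0), (nat_lit 0)⟩)
 (.l ⟨(nat_lit 0x1a0001a), (nat_lit 0x6e15c012449e22c9527885), (nat_lit 0), (nat_lit 0)⟩))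
 (.n (.l ⟨(nat_lit 0xe0000e), (nat_lit 0xb304c01224aa29ca62bc85), (nat_lit 0), (nat_lit 0)⟩)
 (.l ⟨(nat_lit 0xa00013), (nat_lit 0x1706801), (nat_lit 0xda0f4a2250aa2f08e31ce53a4de3a4d5), (nat_lit 0)⟩)))
 (.n (.n (.l ⟨(nat_lit 0x600006), (nat_lit 0xf43d22c87244bd2207f), (nat_lit 0), (nat_lit 0)⟩)
 (.l ⟨(nat_lit 0x80000b), (nat_lit 0x500b05801), (nat_lit 0x68174752f8892b0b4344ea32d03368c3), (nat_lit 0)⟩))
 (.l ⟨(nat_lit 0x1400014), (nat_lit 0x2a02422c982b47d2fc77), (nat_lit 0), (nat_lit 0)⟩)))))))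
noncomputable def T : Tr :=
  T0
noncomputable def C : Cf :=
  ⟨false, [], [], 116, 192, 76,
  [(false, [], []),
  (false, [], [[], []]),
  (true, [], [[]]),
  (true, [1], [[1], [1], [1]])],
  T, CL.Y3S.chk⟩
noncomputable def R0 : List (List ℕ) :=
  [[0],
  [],
  [],
  [],
  [],
  [],
  [],
  [],
  [],
  [],
  [],
  [],
  [],
  [],
  [(nat_lit 1), (nat_lit 0x7f280a421c7d000007), 0, (nat_lit 5)],
  [(nat_lit 1), (nat_lit 0x1dcbb288991dc75000007), 0, (nat_lit 5)],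
  [(nat_lit 1), (nat_lit 0x1e492290bd2948b000007), 0, (nat_lit 5)],
  [(nat_lit 1), (nat_lit 0x204952147522c87000007), 0, (nat_lit 5)],
  [(nat_lit 1), (nat_lit 0x1d4b7274922b093000007), 0, (nat_lit 5)],
  [(nat_lit 1), (nat_lit 0x244c02c88e2a48c000007), 0, (nat_lit 5)],
  [(nat_lit 1), (nat_lit 0x21c90284b326483000007), 0, (nat_lit 5)],
  [(nat_lit 1), (nat_lit 0x1f4a722cb92e4a6000007), 0, (nat_lit 5)],
  [(nat_lit 1), (nat_lit 0xb329c9c2e493000007), 0, (nat_lit 5)],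
  [(nat_lit 1), (nat_lit 0x1d4952548f20c75000007), 0, (nat_lit 5)],
  [(nat_lit 1), (nat_lit 0x1ecad1d48c2b498000007), 0, (nat_lit 5)],
  [(nat_lit 1), (nat_lit 0x2248e2808125085000007), 0, (nat_lit 5)],
  [(nat_lit 1), (nat_lit 0x1fc952a4bd2587900000b), (nat_lit 101), (nat_lit 9)],
  [(nat_lit 1), (nat_lit 0x8d2d8ad238aa00000b), (nat_lit 97), (nat_lit 9)],
  [(nat_lit 1), (nat_lit 0x1dc8e2847f1f47900000b), (nat_lit 93), (nat_lit 9)],
  [(nat_lit 3), (nat_lit 7), 0, (nat_lit 5), (nat_lit 9)],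
  [(nat_lit 1), (nat_lit 119), (nat_lit 9)],
  [(nat_lit 0), (nat_lit 105), (nat_lit 115), (nat_lit 115)],
  [(nat_lit 0), (nat_lit 115), (nat_lit 115), (nat_lit 123)],
  [(nat_lit 0), (nat_lit 113), (nat_lit 125), (nat_lit 113)],
  [(nat_lit 0), (nat_lit 113), (nat_lit 135), (nat_lit 115)],
  [(nat_lit 0), (nat_lit 125), (nat_lit 109), (nat_lit 129)],
  [(nat_lit 0), (nat_lit 129), (nat_lit 137), (nat_lit 133)],
  [(nat_lit 0), (nat_lit 137), (nat_lit 111), (nat_lit 131)],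
  [(nat_lit 0), (nat_lit 139), (nat_lit 115), (nat_lit 151)],
  [(nat_lit 0), (nat_lit 149), (nat_lit 149), (nat_lit 149)],
  [(nat_lit 0), (nat_lit 141), (nat_lit 147), (nat_lit 155)],
  [(nat_lit 0), (nat_lit 153), (nat_lit 137), (nat_lit 153)],
  [(nat_lit 0), (nat_lit 167), (nat_lit 147), (nat_lit 155)],
  [(nat_lit 0), (nat_lit 161), (nat_lit 147), (nat_lit 171)],
  [(nat_lit 0), (nat_lit 157), (nat_lit 153), (nat_lit 161)],
  [(nat_lit 1), (nat_lit 0x23cb9280b02989d00000f), (nat_lit 121), (nat_lit 145), (nat_lit 155), (nat_lit 157), (nat_lit 105), (nat_lit 105), (nat_lit 13)],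
  [(nat_lit 1), (nat_lit 0x24ca8224bc3008100000f), (nat_lit 165), (nat_lit 177), (nat_lit 121), (nat_lit 151), (nat_lit 121), (nat_lit 179), (nat_lit 13)],
  [(nat_lit 1), (nat_lit 0x240bf27c9c28c8100000f), (nat_lit 109), (nat_lit 167), (nat_lit 109), (nat_lit 149), (nat_lit 109), (nat_lit 109), (nat_lit 13)],
  [(nat_lit 3), (nat_lit 0x22477250b43009a00000b), (nat_lit 89), (nat_lit 0x88218aa23c86000009), (nat_lit 161), (nat_lit 161), (nat_lit 153), (nat_lit 109), (nat_lit 157), (nat_lit 111), (nat_lit 0x9d258a52e8bd00000d)],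
  [(nat_lit 0xcb398fb370f431c01), (nat_lit 0x224b4250752d47d0000c3), (nat_lit 115), (nat_lit 149), (nat_lit 147), (nat_lit 115), (nat_lit 163), (nat_lit 113), (nat_lit 0x1fc9a2bc902a07b00000d)],
  [(nat_lit 0), (nat_lit 185), (nat_lit 191), (nat_lit 183)],
  [(nat_lit 0), (nat_lit 181), (nat_lit 185), (nat_lit 185)],
  [(nat_lit 0), (nat_lit 201), (nat_lit 203), (nat_lit 185)],
  [(nat_lit 0), (nat_lit 199), (nat_lit 185), (nat_lit 205)],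
  [(nat_lit 0), (nat_lit 197), (nat_lit 185), (nat_lit 211)],
  [(nat_lit 0), (nat_lit 201), (nat_lit 181), (nat_lit 217)],
  [(nat_lit 0), (nat_lit 205), (nat_lit 199), (nat_lit 221)],
  [(nat_lit 0), (nat_lit 219), (nat_lit 215), (nat_lit 219)],
  [(nat_lit 0), (nat_lit 227), (nat_lit 203), (nat_lit 229)],
  [(nat_lit 0), (nat_lit 235), (nat_lit 181), (nat_lit 223)],
  [(nat_lit 0), (nat_lit 221), (nat_lit 189), (nat_lit 239)],
  [(nat_lit 0), (nat_lit 241), (nat_lit 223), (nat_lit 237)],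
  [(nat_lit 0), (nat_lit 245), (nat_lit 243), (nat_lit 233)],
  [(nat_lit 0), (nat_lit 247), (nat_lit 205), (nat_lit 245)],
  [(nat_lit 1), (nat_lit 0x1e47b240bb2708a000013), (nat_lit 85), (nat_lit 17)],
  [(nat_lit 1), (nat_lit 0x9c2cc9a2e4b2000013), (nat_lit 81), (nat_lit 17)],
  [(nat_lit 1), (nat_lit 0x244ab2948f27077000013), (nat_lit 77), (nat_lit 17)],
  [(nat_lit 3), (nat_lit 0x218912289221c8300000f), (nat_lit 113), (nat_lit 107), (nat_lit 115), (nat_lit 173), (nat_lit 179), (nat_lit 105), (nat_lit 0xa12f0872bc9400000b), (nat_lit 73), (nat_lit 0x248b4240a323888000011)],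
  [(nat_lit 0x37900370ef368d4008cf350dd354de34401), (nat_lit 0x1e4b726cb423c8800010f), (nat_lit 181), (nat_lit 235), (nat_lit 249), (nat_lit 229), (nat_lit 221), (nat_lit 0x20c88244892488500010d)],
  [(nat_lit 1), (nat_lit 0x20c8b2d8922b485000017), (nat_lit 107), (nat_lit 147), (nat_lit 153), (nat_lit 173), (nat_lit 113), (nat_lit 159), (nat_lit 107), (nat_lit 21)],
  [(nat_lit 1), (nat_lit 0x1fcb7300bb28c83000017), (nat_lit 167), (nat_lit 171), (nat_lit 155), (nat_lit 145), (nat_lit 157), (nat_lit 149), (nat_lit 21)],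
  [(nat_lit 3), (nat_lit 0x230b41dcb02609000000b), (nat_lit 69), (nat_lit 0x224b92d88c2b081000009), (nat_lit 107), (nat_lit 161), (nat_lit 159), (nat_lit 169), (nat_lit 109), (nat_lit 107), (nat_lit 107), (nat_lit 0x20cb1278aa2888c000015)],
  [(nat_lit 0xc932ce13f8dd31c01), (nat_lit 0x214be2a0b52ec8e00011f), (nat_lit 157), (nat_lit 105), (nat_lit 157), (nat_lit 147), (nat_lit 151), (nat_lit 173), (nat_lit 0x1f47f254b22447b000015)],
  [(nat_lit 3), (nat_lit 0x1f49d2b8bd1eca5000013), (nat_lit 65), (nat_lit 0xb3294b6274a4000009), (nat_lit 105), (nat_lit 171), (nat_lit 149), (nat_lit 155), (nat_lit 151), (nat_lit 163), (nat_lit 0xaa2c8992acbd000015)],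
  [(nat_lit 1), (nat_lit 0x234b823ca92848c00001b), (nat_lit 221), (nat_lit 239), (nat_lit 239), (nat_lit 247), (nat_lit 183), (nat_lit 25)],
  [(nat_lit 1), (nat_lit 0x21cb3274b92b87b00001b), (nat_lit 183), (nat_lit 247), (nat_lit 253), (nat_lit 199), (nat_lit 239), (nat_lit 183), (nat_lit 25)],
  [(nat_lit 3), (nat_lit 0x248b02c8c02c09800000f), (nat_lit 177), (nat_lit 167), (nat_lit 175), (nat_lit 107), (nat_lit 147), (nat_lit 153), (nat_lit 0x234a120c982a07900000d), (nat_lit 227), (nat_lit 183), (nat_lit 249), (nat_lit 241), (nat_lit 0xc02c0ab24096000019)],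
  [(nat_lit 0xd9324e93b4c335001), (nat_lit 0x24c89254b928c77000133), (nat_lit 245), (nat_lit 235), (nat_lit 239), (nat_lit 197), (nat_lit 0x2347d274a11dc88000019)],
  [(nat_lit 3), (nat_lit 0x24ca62e8ac23479000017), (nat_lit 169), (nat_lit 151), (nat_lit 163), (nat_lit 175), (nat_lit 163), (nat_lit 175), (nat_lit 0x2189c2b8ab25c8c00000d), (nat_lit 185), (nat_lit 231), (nat_lit 183), (nat_lit 189), (nat_lit 185), (nat_lit 185), (nat_lit 0x204a1218b52f483000019)],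
  [(nat_lit 3), (nat_lit 0xac2a09c2a4b1000017), (nat_lit 169), (nat_lit 151), (nat_lit 163), (nat_lit 175), (nat_lit 163), (nat_lit 175), (nat_lit 0x214b3284892207700000d), (nat_lit 235), (nat_lit 197), (nat_lit 243), (nat_lit 191), (nat_lit 197), (nat_lit 0x8527c7f2cc9e23875000019)],
  [(nat_lit 1), (nat_lit 0x24c88270a629c8900001f), (nat_lit 277), (nat_lit 289), (nat_lit 281), (nat_lit 291), (nat_lit 283), (nat_lit 283), (nat_lit 277), (nat_lit 291), (nat_lit 29)],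
  [(nat_lit 1), (nat_lit 0x1dc96268b02c88500001f), (nat_lit 281), (nat_lit 277), (nat_lit 277), (nat_lit 277), (nat_lit 291), (nat_lit 291), (nat_lit 283), (nat_lit 279), (nat_lit 29)],
  [(nat_lit 3), (nat_lit 0x20cb71e4872a07d000017), (nat_lit 109), (nat_lit 173), (nat_lit 171), (nat_lit 109), (nat_lit 165), (nat_lit 147), (nat_lit 109), (nat_lit 0x230b12f0bc25c81000015), (nat_lit 0x75260922288600001d)],
  [(nat_lit 1), (nat_lit 0x882f88e238a600014b), (nat_lit 29)],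
  [(nat_lit 0), (nat_lit 321), (nat_lit 325), (nat_lit 335)],
  [(nat_lit 0), (nat_lit 333), (nat_lit 339), (nat_lit 323)],
  [(nat_lit 0), (nat_lit 321), (nat_lit 325), (nat_lit 333)],
  [(nat_lit 0), (nat_lit 325), (nat_lit 343), (nat_lit 333)],
  [(nat_lit 0), (nat_lit 347), (nat_lit 333), (nat_lit 343)],
  [(nat_lit 0), (nat_lit 351), (nat_lit 343), (nat_lit 353)],
  [(nat_lit 0), (nat_lit 349), (nat_lit 323), (nat_lit 355)],
  [(nat_lit 0), (nat_lit 345), (nat_lit 347), (nat_lit 347)],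
  [(nat_lit 0), (nat_lit 361), (nat_lit 355), (nat_lit 359)]]
noncomputable def R1 : List (List ℕ) :=
  [[(nat_lit 0), (nat_lit 363), (nat_lit 327), (nat_lit 359)],
  [(nat_lit 0), (nat_lit 357), (nat_lit 349), (nat_lit 365)],
  [(nat_lit 0), (nat_lit 365), (nat_lit 341), (nat_lit 377)],
  [(nat_lit 0), (nat_lit 377), (nat_lit 365), (nat_lit 381)],
  [(nat_lit 1), (nat_lit 0xbb1f4b427c75000023), (nat_lit 267), (nat_lit 267), (nat_lit 261), (nat_lit 265), (nat_lit 259), (nat_lit 261), (nat_lit 265), (nat_lit 33)],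
  [(nat_lit 1), (nat_lit 0x1e49f218a52bc7d000023), (nat_lit 257), (nat_lit 263), (nat_lit 273), (nat_lit 259), (nat_lit 275), (nat_lit 265), (nat_lit 265), (nat_lit 259), (nat_lit 33)],
  [(nat_lit 1), (nat_lit 0x21c8f2dcb52cc9b000023), (nat_lit 265), (nat_lit 259), (nat_lit 273), (nat_lit 265), (nat_lit 261), (nat_lit 265), (nat_lit 33)],
  [(nat_lit 3), (nat_lit 0x228ae2b0812cc8e00010f), (nat_lit 229), (nat_lit 229), (nat_lit 251), (nat_lit 251), (nat_lit 0x214892b8792a87d00010d), (nat_lit 275), (nat_lit 259), (nat_lit 273), (nat_lit 263), (nat_lit 265), (nat_lit 257), (nat_lit 261), (nat_lit 257), (nat_lit 0x244bb20c8d2bc7f000021)],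
  [(nat_lit 0x420f64090231c01), (nat_lit 0x1ecac2e8ac25888000193), (nat_lit 259), (nat_lit 261), (nat_lit 265), (nat_lit 261), (nat_lit 261), (nat_lit 257), (nat_lit 261), (nat_lit 0xbc2a8b62d87b000021)],
  [(nat_lit 0), (nat_lit 405), (nat_lit 405), (nat_lit 405)],
  [(nat_lit 0), (nat_lit 407), (nat_lit 407), (nat_lit 397)],
  [(nat_lit 0), (nat_lit 407), (nat_lit 397), (nat_lit 397)],
  [(nat_lit 0), (nat_lit 419), (nat_lit 409), (nat_lit 417)],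
  [(nat_lit 0), (nat_lit 411), (nat_lit 423), (nat_lit 415)],
  [(nat_lit 0), (nat_lit 423), (nat_lit 415), (nat_lit 425)],
  [(nat_lit 0), (nat_lit 419), (nat_lit 411), (nat_lit 431)],
  [(nat_lit 0), (nat_lit 433), (nat_lit 431), (nat_lit 431)],
  [(nat_lit 0), (nat_lit 425), (nat_lit 397), (nat_lit 431)],
  [(nat_lit 0), (nat_lit 437), (nat_lit 405), (nat_lit 427)],
  [(nat_lit 0), (nat_lit 437), (nat_lit 399), (nat_lit 435)],
  [(nat_lit 0), (nat_lit 441), (nat_lit 439), (nat_lit 439)],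
  [(nat_lit 0), (nat_lit 455), (nat_lit 443), (nat_lit 451)],
  [(nat_lit 1), (nat_lit 0x234ba218912ec85000027), (nat_lit 249), (nat_lit 199), (nat_lit 233), (nat_lit 189), (nat_lit 235), (nat_lit 37)],
  [(nat_lit 1), (nat_lit 0x240ba2b09c2c48c000027), (nat_lit 227), (nat_lit 255), (nat_lit 239), (nat_lit 225), (nat_lit 187), (nat_lit 37)],
  [(nat_lit 1), (nat_lit 0x220a521c9f2c483000027), (nat_lit 181), (nat_lit 255), (nat_lit 225), (nat_lit 233), (nat_lit 37)],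
  [(nat_lit 3), (nat_lit 0xa8234bd1e4bd00000f), (nat_lit 107), (nat_lit 149), (nat_lit 115), (nat_lit 153), (nat_lit 171), (nat_lit 109), (nat_lit 0x2309d2247923c9800000d), (nat_lit 229), (nat_lit 239), (nat_lit 233), (nat_lit 185), (nat_lit 191), (nat_lit 0x220aa224c020c75000025)],
  [(nat_lit 0x404e033cff3bc01), (nat_lit 0x2188c2d48c288920001db), (nat_lit 255), (nat_lit 255), (nat_lit 255), (nat_lit 183), (nat_lit 183), (nat_lit 0xb5250832cca3000025)],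
  [(nat_lit 3), (nat_lit 0xac2748b25c75000017), (nat_lit 169), (nat_lit 151), (nat_lit 163), (nat_lit 175), (nat_lit 163), (nat_lit 175), (nat_lit 0x24ca42409f23c8a00000d), (nat_lit 235), (nat_lit 229), (nat_lit 185), (nat_lit 249), (nat_lit 221), (nat_lit 0x21caa2f0992b487000025)],
  [(nat_lit 3), (nat_lit 0x2a094220a5000017), (nat_lit 169), (nat_lit 151), (nat_lit 163), (nat_lit 175), (nat_lit 163), (nat_lit 175), (nat_lit 0x218882d0932609d00000d), (nat_lit 231), (nat_lit 197), (nat_lit 227), (nat_lit 185), (nat_lit 0x1fcb72b4a825c7b000025)],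
  [(nat_lit 3), (nat_lit 0x234792c0a425875000127), (nat_lit 259), (nat_lit 259), (nat_lit 267), (nat_lit 275), (nat_lit 261), (nat_lit 273), (nat_lit 265), (nat_lit 261), (nat_lit 0x2248c2c8aa2047b000125), (nat_lit 291), (nat_lit 283), (nat_lit 283), (nat_lit 279), (nat_lit 289), (nat_lit 289), (nat_lit 279), (nat_lit 291), (nat_lit 0x2288f2fc7b2a07d0001e1)],
  [(nat_lit 3), (nat_lit 35), (nat_lit 259), (nat_lit 263), (nat_lit 265), (nat_lit 257), (nat_lit 275), (nat_lit 263), (nat_lit 275), (nat_lit 275), (nat_lit 0xb2278a22d8b6000125), (nat_lit 279), (nat_lit 279), (nat_lit 283), (nat_lit 277), (nat_lit 291), (nat_lit 281), (nat_lit 279), (nat_lit 0x204862708f2cc850001e1)],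
  [(nat_lit 1), (nat_lit 0x94274902c48d00002b), (nat_lit 321), (nat_lit 379), (nat_lit 359), (nat_lit 369), (nat_lit 377), (nat_lit 377), (nat_lit 385), (nat_lit 41)],
  [(nat_lit 1), (nat_lit 0x228932ccb022c7d00002b), (nat_lit 325), (nat_lit 381), (nat_lit 325), (nat_lit 359), (nat_lit 385), (nat_lit 375), (nat_lit 371), (nat_lit 41)],
  [(nat_lit 3), (nat_lit 0xa227c9724ca900013f), (nat_lit 0x224a52dca727c8300001d), (nat_lit 323), (nat_lit 363), (nat_lit 327), (nat_lit 321), (nat_lit 365), (nat_lit 383), (nat_lit 0x248972189a2bc99000029)],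
  [(nat_lit 0x378e3348e63ece5008c13850c3a4ef33c01), (nat_lit 0x2189727ca22f4750001fb), (nat_lit 303), (nat_lit 309), (nat_lit 301), (nat_lit 299), (nat_lit 311), (nat_lit 297), (nat_lit 303), (nat_lit 303), (nat_lit 309), (nat_lit 0x1d4953009d28c830001f9)],
  [(nat_lit 3), (nat_lit 0x24897270902ec8a000027), (nat_lit 223), (nat_lit 237), (nat_lit 189), (nat_lit 187), (nat_lit 181), (nat_lit 0x23486228ad22c7b000019), (nat_lit 311), (nat_lit 297), (nat_lit 311), (nat_lit 303), (nat_lit 311), (nat_lit 303), (nat_lit 303), (nat_lit 0x24ca8278c02d8b70001f9)],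
  [(nat_lit 3), (nat_lit 0x1f497220be284a5000027), (nat_lit 183), (nat_lit 239), (nat_lit 239), (nat_lit 229), (nat_lit 249), (nat_lit 199), (nat_lit 0xb82b4ad29079000025), (nat_lit 461), (nat_lit 469), (nat_lit 461), (nat_lit 479), (nat_lit 479), (nat_lit 461), (nat_lit 477), (nat_lit 467), (nat_lit 477), (nat_lit 0x982d8bd23879000201)],
  [(nat_lit 1), (nat_lit 0x22094274bf2709400002f), (nat_lit 261), (nat_lit 257), (nat_lit 261), (nat_lit 265), (nat_lit 259), (nat_lit 267), (nat_lit 261), (nat_lit 45)],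
  [(nat_lit 1), (nat_lit 0x792cc77258a900002f), (nat_lit 257), (nat_lit 267), (nat_lit 259), (nat_lit 267), (nat_lit 275), (nat_lit 257), (nat_lit 273), (nat_lit 259), (nat_lit 45)],
  [(nat_lit 1), (nat_lit 0x234962309b2748d00002f), (nat_lit 259), (nat_lit 265), (nat_lit 273), (nat_lit 259), (nat_lit 273), (nat_lit 261), (nat_lit 273), (nat_lit 259), (nat_lit 45)],
  [(nat_lit 3), (nat_lit 0x22cb924cb024c7500010f), (nat_lit 241), (nat_lit 197), (nat_lit 239), (nat_lit 181), (nat_lit 227), (nat_lit 0x248bb1e4af2dc7700010d), (nat_lit 267), (nat_lit 267), (nat_lit 267), (nat_lit 263), (nat_lit 267), (nat_lit 273), (nat_lit 257), (nat_lit 0x240772c0792dc7900002d)]]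
noncomputable def R2 : List (List ℕ) :=
  [[(nat_lit 0xcf3510c3a4d935401), (nat_lit 0x20c9a218aa2548d000217), (nat_lit 263), (nat_lit 265), (nat_lit 257), (nat_lit 265), (nat_lit 263), (nat_lit 265), (nat_lit 265), (nat_lit 263), (nat_lit 0x20c883009d2348900002d)],
  [(nat_lit 3), (nat_lit 0xa8234bd1e4bd00001b), (nat_lit 185), (nat_lit 185), (nat_lit 233), (nat_lit 255), (nat_lit 183), (nat_lit 0x220bc238ba2d07500010d), (nat_lit 275), (nat_lit 265), (nat_lit 257), (nat_lit 265), (nat_lit 265), (nat_lit 263), (nat_lit 273), (nat_lit 257), (nat_lit 0x2188a2f89b2f47d00002d)],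
  [(nat_lit 3), (nat_lit 0x24ca62e8ac23479000027), (nat_lit 225), (nat_lit 247), (nat_lit 181), (nat_lit 197), (nat_lit 187), (nat_lit 0x1dc7924cae2a08300010d), (nat_lit 259), (nat_lit 261), (nat_lit 257), (nat_lit 267), (nat_lit 267), (nat_lit 263), (nat_lit 0x24ca721cbf2747b00002d)],
  [(nat_lit 3), (nat_lit 0xac2a09c2a4b1000027), (nat_lit 225), (nat_lit 247), (nat_lit 181), (nat_lit 197), (nat_lit 187), (nat_lit 0x1fca3260ab27c8c00010d), (nat_lit 263), (nat_lit 259), (nat_lit 273), (nat_lit 257), (nat_lit 261), (nat_lit 257), (nat_lit 257), (nat_lit 0x1e4902e4a22248b00002d)],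
  [(nat_lit 1), (nat_lit 0x1d49c2f4772f07b000033), (nat_lit 277), (nat_lit 283), (nat_lit 277), (nat_lit 283), (nat_lit 277), (nat_lit 277), (nat_lit 49)],
  [(nat_lit 1), (nat_lit 0x1dca0280982789a000033), (nat_lit 277), (nat_lit 283), (nat_lit 283), (nat_lit 277), (nat_lit 277), (nat_lit 281), (nat_lit 281), (nat_lit 279), (nat_lit 49)],
  [(nat_lit 3), (nat_lit 0x2409829cbf2047f000017), (nat_lit 109), (nat_lit 113), (nat_lit 163), (nat_lit 163), (nat_lit 115), (nat_lit 173), (nat_lit 0x1e47f280be28087000015), (nat_lit 277), (nat_lit 277), (nat_lit 289), (nat_lit 283), (nat_lit 279), (nat_lit 291), (nat_lit 283), (nat_lit 0x214882507d2d47d000031)],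
  [(nat_lit 0x3f0cf3a0f533401), (nat_lit 0x7b23cbb25ca6000233), (nat_lit 279), (nat_lit 279), (nat_lit 283), (nat_lit 283), (nat_lit 277), (nat_lit 281), (nat_lit 281), (nat_lit 0xb020c9c2a481000031)],
  [(nat_lit 3), (nat_lit 0xa323cb927488000127), (nat_lit 257), (nat_lit 257), (nat_lit 265), (nat_lit 257), (nat_lit 257), (nat_lit 261), (nat_lit 257), (nat_lit 0x9f23cbb28481000125), (nat_lit 289), (nat_lit 277), (nat_lit 291), (nat_lit 279), (nat_lit 281), (nat_lit 281), (nat_lit 281), (nat_lit 291), (nat_lit 0x1f4b421c9425096000031)],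
  [(nat_lit 0xd9420c7344fe34c01), (nat_lit 0xa128c8b2f88f00023b), (nat_lit 281), (nat_lit 279), (nat_lit 281), (nat_lit 277), (nat_lit 277), (nat_lit 289), (nat_lit 281), (nat_lit 279), (nat_lit 0x234bc1ec852c887000031)],
  [(nat_lit 3), (nat_lit 0x952d8b0214810001ed), (nat_lit 479), (nat_lit 465), (nat_lit 479), (nat_lit 469), (nat_lit 465), (nat_lit 465), (nat_lit 477), (nat_lit 0x1d4bd248a51f47b0001e3), (nat_lit 281), (nat_lit 291), (nat_lit 279), (nat_lit 281), (nat_lit 289), (nat_lit 277), (nat_lit 289), (nat_lit 281), (nat_lit 0x23c791f4ac2447b000031)],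
  [(nat_lit 3), (nat_lit 0x1f49d2b8bd1eca500002b), (nat_lit 0x1e4a827c992e49300001f), (nat_lit 279), (nat_lit 281), (nat_lit 279), (nat_lit 283), (nat_lit 277), (nat_lit 281), (nat_lit 291), (nat_lit 283), (nat_lit 0x22cb42d8b426483000031)],
  [(nat_lit 3), (nat_lit 0x8b268b92608c00002f), (nat_lit 259), (nat_lit 263), (nat_lit 265), (nat_lit 257), (nat_lit 275), (nat_lit 263), (nat_lit 275), (nat_lit 275), (nat_lit 0x224902c8a123875000125), (nat_lit 281), (nat_lit 281), (nat_lit 281), (nat_lit 277), (nat_lit 283), (nat_lit 283), (nat_lit 279), (nat_lit 283), (nat_lit 0x20cba280b02c085000031)],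
  [(nat_lit 3), (nat_lit 0x24cb128ca62f89f00002f), (nat_lit 259), (nat_lit 263), (nat_lit 265), (nat_lit 257), (nat_lit 275), (nat_lit 263), (nat_lit 275), (nat_lit 275), (nat_lit 0x1d4932888828083000125), (nat_lit 281), (nat_lit 289), (nat_lit 279), (nat_lit 279), (nat_lit 291), (nat_lit 283), (nat_lit 283), (nat_lit 291), (nat_lit 0x7b27c9a294bf000031)],
  [(nat_lit 1), (nat_lit 0x22c982c09b21c81000037), (nat_lit 395), (nat_lit 391), (nat_lit 407), (nat_lit 427), (nat_lit 429), (nat_lit 53)],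
  [(nat_lit 1), (nat_lit 0x22c9721cae2dc86000037), (nat_lit 447), (nat_lit 425), (nat_lit 447), (nat_lit 459), (nat_lit 393), (nat_lit 53)],
  [(nat_lit 1), (nat_lit 0x218b72b4a422c7d000037), (nat_lit 427), (nat_lit 457), (nat_lit 447), (nat_lit 441), (nat_lit 425), (nat_lit 53)],
  [(nat_lit 3), (nat_lit 0x1e4bb1e4b72187b0001ed), (nat_lit 479), (nat_lit 461), (nat_lit 477), (nat_lit 465), (nat_lit 477), (nat_lit 477), (nat_lit 477), (nat_lit 477), (nat_lit 0x214a9244b81dcb00001ef), (nat_lit 449), (nat_lit 435), (nat_lit 391), (nat_lit 407), (nat_lit 391), (nat_lit 0x21cba21c9423077000035)],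
  [(nat_lit 0xc3408dd3650439401), (nat_lit 0x20ca72f8ae2148800025f), (nat_lit 391), (nat_lit 445), (nat_lit 449), (nat_lit 405), (nat_lit 397), (nat_lit 395), (nat_lit 0x1dcb62448d2e099000035)],
  [(nat_lit 0), (nat_lit 611), (nat_lit 601), (nat_lit 603)],
  [(nat_lit 0), (nat_lit 609), (nat_lit 601), (nat_lit 603)],
  [(nat_lit 0), (nat_lit 601), (nat_lit 595), (nat_lit 619)],
  [(nat_lit 0), (nat_lit 623), (nat_lit 615), (nat_lit 621)],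
  [(nat_lit 0), (nat_lit 619), (nat_lit 619), (nat_lit 613)],
  [(nat_lit 0), (nat_lit 629), (nat_lit 595), (nat_lit 623)],
  [(nat_lit 0), (nat_lit 629), (nat_lit 633), (nat_lit 635)],
  [(nat_lit 0), (nat_lit 637), (nat_lit 615), (nat_lit 627)],
  [(nat_lit 0), (nat_lit 629), (nat_lit 617), (nat_lit 631)],
  [(nat_lit 0), (nat_lit 641), (nat_lit 609), (nat_lit 647)],
  [(nat_lit 0), (nat_lit 651), (nat_lit 617), (nat_lit 641)],
  [(nat_lit 3), (nat_lit 0xbd2048e1fc8b000223), (nat_lit 461), (nat_lit 469), (nat_lit 477), (nat_lit 469), (nat_lit 465), (nat_lit 477), (nat_lit 461), (nat_lit 479), (nat_lit 465), (nat_lit 0x218b7220892e8860001ef), (nat_lit 391), (nat_lit 441), (nat_lit 405), (nat_lit 391), (nat_lit 427), (nat_lit 391), (nat_lit 0x238a12c0aa2508c000035)],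
  [(nat_lit 0), (nat_lit 57)],
  [(nat_lit 0), (nat_lit 61)],
  [(nat_lit 2), (nat_lit 7)],
  [(nat_lit 2), (nat_lit 9)],
  [(nat_lit 2), (nat_lit 17)],
  [(nat_lit 0), (nat_lit 109), (nat_lit 167), (nat_lit 169), (nat_lit 109), (nat_lit 161), (nat_lit 149)],
  [(nat_lit 0), (nat_lit 145), (nat_lit 171), (nat_lit 155), (nat_lit 145), (nat_lit 145), (nat_lit 169)],
  [(nat_lit 2), (nat_lit 11)],
  [(nat_lit 2), (nat_lit 21)],
  [(nat_lit 2), (nat_lit 13)],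
  [(nat_lit 0), (nat_lit 187), (nat_lit 199), (nat_lit 187), (nat_lit 225), (nat_lit 183)],
  [(nat_lit 0), (nat_lit 187), (nat_lit 237), (nat_lit 231), (nat_lit 253), (nat_lit 239)],
  [(nat_lit 2), (nat_lit 15)],
  [(nat_lit 2), (nat_lit 0x20c88244892488500010d)],
  [(nat_lit 2), (nat_lit 25)],
  [(nat_lit 2), (nat_lit 37)],
  [(nat_lit 0), (nat_lit 257), (nat_lit 265), (nat_lit 259), (nat_lit 261), (nat_lit 265), (nat_lit 259)],
  [(nat_lit 0), (nat_lit 257), (nat_lit 263), (nat_lit 265), (nat_lit 273), (nat_lit 267), (nat_lit 257), (nat_lit 267), (nat_lit 275)],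
  [(nat_lit 2), (nat_lit 19)],
  [(nat_lit 2), (nat_lit 0x1d4af230bd2548500010f)]]
noncomputable def R3 : List (List ℕ) :=
  [[(nat_lit 2), (nat_lit 0x20cae23ca224c7d000125)],
  [(nat_lit 2), (nat_lit 45)],
  [(nat_lit 2), (nat_lit 33)],
  [(nat_lit 0), (nat_lit 279), (nat_lit 289), (nat_lit 277), (nat_lit 281), (nat_lit 289), (nat_lit 281), (nat_lit 291), (nat_lit 291)],
  [(nat_lit 0), (nat_lit 283), (nat_lit 283), (nat_lit 277), (nat_lit 289), (nat_lit 281), (nat_lit 281), (nat_lit 289), (nat_lit 283)],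
  [(nat_lit 2), (nat_lit 23)],
  [(nat_lit 2), (nat_lit 0x2149e1fcb723877000127)],
  [(nat_lit 2), (nat_lit 0x8c2a47b25c8b000139)],
  [(nat_lit 2), (nat_lit 0x23ca828ca1294830001e5)],
  [(nat_lit 2), (nat_lit 0x214942c4831f47500013d)],
  [(nat_lit 2), (nat_lit 0xa7250832ec9c0001e1)],
  [(nat_lit 2), (nat_lit 0x1dc8523c752cc8f0001e9)],
  [(nat_lit 2), (nat_lit 49)],
  [(nat_lit 2), (nat_lit 29)],
  [(nat_lit 0), (nat_lit 311), (nat_lit 297), (nat_lit 303), (nat_lit 303), (nat_lit 309), (nat_lit 309), (nat_lit 301), (nat_lit 301)],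
  [(nat_lit 0), (nat_lit 309), (nat_lit 299), (nat_lit 311), (nat_lit 303), (nat_lit 303), (nat_lit 309), (nat_lit 303), (nat_lit 309)],
  [(nat_lit 2), (nat_lit 27)],
  [(nat_lit 2), (nat_lit 0x250752bc9d2a47b00013b)],
  [(nat_lit 2), (nat_lit 0x244b325c9d28c8100013f)],
  [(nat_lit 2), (nat_lit 0x230bc2e8b42e89300021d)],
  [(nat_lit 2), (nat_lit 0x1d4953009d28c830001f9)],
  [(nat_lit 0), (nat_lit 333), (nat_lit 363), (nat_lit 377), (nat_lit 375), (nat_lit 375), (nat_lit 321), (nat_lit 321)],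
  [(nat_lit 0), (nat_lit 325), (nat_lit 371), (nat_lit 323), (nat_lit 383), (nat_lit 365), (nat_lit 361), (nat_lit 369)],
  [(nat_lit 2), (nat_lit 31)],
  [(nat_lit 2), (nat_lit 41)],
  [(nat_lit 0), (nat_lit 407), (nat_lit 441), (nat_lit 459), (nat_lit 439), (nat_lit 429)],
  [(nat_lit 0), (nat_lit 399), (nat_lit 445), (nat_lit 389), (nat_lit 437), (nat_lit 447)],
  [(nat_lit 2), (nat_lit 35)],
  [(nat_lit 2), (nat_lit 493)],
  [(nat_lit 2), (nat_lit 0x21cbe300ac24077000241)],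
  [(nat_lit 2), (nat_lit 53)],
  [(nat_lit 0), (nat_lit 467), (nat_lit 469), (nat_lit 477), (nat_lit 467), (nat_lit 467), (nat_lit 467), (nat_lit 479), (nat_lit 479)],
  [(nat_lit 0), (nat_lit 469), (nat_lit 479), (nat_lit 479), (nat_lit 465), (nat_lit 469), (nat_lit 467), (nat_lit 479), (nat_lit 479), (nat_lit 469)],
  [(nat_lit 2), (nat_lit 39)],
  [(nat_lit 2), (nat_lit 0x8c2a47b25c8b000221)],
  [(nat_lit 2), (nat_lit 0x8725489260b50001e3)],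
  [(nat_lit 2), (nat_lit 0x214942c4831f475000225)],
  [(nat_lit 2), (nat_lit 0x234b61d4ad2a0870001eb)],
  [(nat_lit 2), (nat_lit 0x1ec9927492274890001e7)],
  [(nat_lit 2), (nat_lit 0x1d4a628cbd2c0a0000201)],
  [(nat_lit 2), (nat_lit 0x24c8127cb72ec7f000205)],
  [(nat_lit 2), (nat_lit 0x771e47d248bd0001ef)],
  [(nat_lit 0), (nat_lit 497), (nat_lit 511), (nat_lit 499), (nat_lit 501), (nat_lit 501), (nat_lit 509), (nat_lit 499), (nat_lit 499), (nat_lit 501), (nat_lit 499)],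
  [(nat_lit 0), (nat_lit 501), (nat_lit 501), (nat_lit 497), (nat_lit 509), (nat_lit 509), (nat_lit 497), (nat_lit 509), (nat_lit 503), (nat_lit 509), (nat_lit 499)],
  [(nat_lit 2), (nat_lit 43)],
  [(nat_lit 2), (nat_lit 0x24cbf27877244770001fb)],
  [(nat_lit 2), (nat_lit 0x20cae23ca224c7d000245)],
  [(nat_lit 2), (nat_lit 0x24488224ad2147d000203)],
  [(nat_lit 2), (nat_lit 0x2049c24ca41ec9a000207)],
  [(nat_lit 0), (nat_lit 531), (nat_lit 539), (nat_lit 525), (nat_lit 539), (nat_lit 523), (nat_lit 531)],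
  [(nat_lit 0), (nat_lit 531), (nat_lit 539), (nat_lit 523), (nat_lit 523), (nat_lit 531)],
  [(nat_lit 2), (nat_lit 47)],
  [(nat_lit 2), (nat_lit 0x1fc9d2488524477000223)],
  [(nat_lit 2), (nat_lit 0x220992e47f29c79000227)],
  [(nat_lit 2), (nat_lit 0x250902d4992607d00024d)],
  [(nat_lit 2), (nat_lit 0x20cbd21c912c4ae000249)],
  [(nat_lit 2), (nat_lit 0x234b0284b51f47f00021f)],
  [(nat_lit 2), (nat_lit 0xaa23486274b3000291)],
  [(nat_lit 0), (nat_lit 553), (nat_lit 557), (nat_lit 575), (nat_lit 557), (nat_lit 565), (nat_lit 555)],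
  [(nat_lit 0), (nat_lit 553), (nat_lit 559), (nat_lit 565), (nat_lit 557), (nat_lit 553), (nat_lit 575), (nat_lit 557), (nat_lit 565)],
  [(nat_lit 2), (nat_lit 51)],
  [(nat_lit 2), (nat_lit 0xbb244bb274af000247)],
  [(nat_lit 2), (nat_lit 0xac2ecb72f4a800024f)],
  [(nat_lit 2), (nat_lit 0xa52849c2fc8100024b)],
  [(nat_lit 2), (nat_lit 0x2489728c8625479000243)],
  [(nat_lit 0), (nat_lit 653), (nat_lit 595), (nat_lit 629), (nat_lit 593), (nat_lit 641), (nat_lit 599), (nat_lit 593)],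
  [(nat_lit 0), (nat_lit 597), (nat_lit 643), (nat_lit 609), (nat_lit 597), (nat_lit 597), (nat_lit 601)],
  [(nat_lit 2), (nat_lit 55)],
  [(nat_lit 2), (nat_lit 0x224b32d88320497000293)]]
noncomputable def pr : List (ℕ × ℕ × List ℕ × List ℕ) :=
  [(1, 0, [2], [17]), (2, 0, [4], [15]), (3, 0, [6], [7]), (4, 0, [8], [9]), (5, 0, [10], [11]), (6, 0, [12], [13]), (7, 0, [14], [5]), (8, 0, [16], [3])]
noncomputable def ex : List (List ℕ) :=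
  [[126, 122, 128, 120, 118, 124, 116, 130, 128, 126, 118, 124, 130, 116, 120, 122], [120, 118, 130, 122, 116, 126, 128, 124, 116, 124, 120, 128, 122, 118, 126, 130], [120, 126, 124, 122, 128, 130, 118, 116, 130, 124, 128, 120, 122, 126, 116, 118], [134, 132, 132], [138, 133, 138], [140, 140, 136], [140, 135, 140], [145, 142, 139], [145, 145, 140], [149, 136, 149], [147, 139, 150], [153, 153, 148], [140, 137], [144, 137], [149, 138], [153, 137], [152, 136], [150, 146], [165, 165], [160, 166], [169, 140], [161, 162], [168, 161], [172, 149], [176, 164], [170, 170], [181, 182], [182, 148], [178, 185], [188, 134]]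
noncomputable def M : ℕ :=
  (nat_lit 0x3fff)
noncomputable def o1 : Cov :=
  ⟨1, [165, 166], [0, 1, 0, 1, 0, 1, 0, 1, 0, 1, 0, 1, 0, 1, 0, 1, 0, 1, 0, 1, 0, 1, 0],
  [334, 336, 338], 14080⟩
noncomputable def o2 : Cov :=
  ⟨2, [170, 171], [0, 1, 0, 1, 0, 1, 0, 1, 0, 1, 0, 1, 0, 1, 0, 1, 0, 1, 0, 1, 0, 1, 0],
  [344, 348, 346], 694980⟩
noncomputable def o3 : Cov :=
  ⟨3, [175, 176], [0, 1, 0, 1, 0, 1, 0, 1, 0, 1, 0, 1, 0, 1, 0, 1, 0, 1, 0, 1, 0, 1],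
  [354, 356, 360, 358], 17791488⟩
noncomputable def o4 : Cov :=
  ⟨4, [181, 182], [1, 0, 1, 0, 1, 0, 1, 0, 1, 0, 1, 0, 1, 0, 1, 0, 1, 0, 1, 0, 1, 0, 1],
  [366, 370, 374, 372, 368], 38438400⟩
noncomputable def o5 : Cov :=
  ⟨5, [188, 189], [0, 1, 0, 1, 0, 1, 0, 1, 0, 1, 0, 1, 0, 1, 0, 1, 0, 1, 0, 1, 0, 0],
  [380, 382, 384, 390, 396, 388, 392, 386, 394], 400308480⟩
noncomputable def o6 : Cov :=
  ⟨6, [199, 200], [0, 1, 0, 1, 0, 1, 0, 1, 0, 1, 0, 1, 0, 1, 0, 1, 0, 1, 0, 1, 0, 0],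
  [402, 408, 406, 410, 404], 175134960⟩
noncomputable def o7 : Cov :=
  ⟨7, [206, 207], [0, 1, 0, 1, 0, 1, 0, 1, 0, 1, 0, 1, 0, 1, 0, 1, 0, 1, 0, 1, 0, 1, 0, 0],
  [416, 418], 142155⟩
noncomputable def o8 : Cov :=
  ⟨8, [210, 211], [0, 1, 0, 1, 0, 1, 0, 1, 0, 1, 0, 1, 0, 1, 0, 1, 0, 1, 0, 1, 0, 1, 0, 0],
  [424, 426, 430, 428], 15206400⟩
noncomputable def o9 : Cov :=
  ⟨9, [216, 217], [0, 1, 0, 1, 0, 1, 0, 1, 0, 1, 0, 1, 0, 1, 0, 1, 0, 1, 0, 1, 0, 0],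
  [436, 450, 438, 446, 448, 442, 444, 440, 452], 800616960⟩
noncomputable def o10 : Cov :=
  ⟨10, [227, 228], [0, 1, 0, 1, 0, 1, 0, 1, 0, 1, 0, 1, 0, 1, 0, 1, 0, 1, 0, 1, 0, 1, 0],
  [458, 462, 464, 466, 460], 72783360⟩
noncomputable def o11 : Cov :=
  ⟨11, [234, 235], [0, 1, 0, 1, 0, 1, 0, 1, 0, 1, 0, 1, 0, 1, 0, 1, 0, 1, 0, 1, 0, 0],
  [472, 480, 474, 482, 476, 484, 478], 679311360⟩
noncomputable def o12 : Cov :=
  ⟨12, [243, 244], [0, 1, 0, 1, 0, 1, 0, 1, 0, 1, 0, 1, 0, 1, 0, 1, 0, 1, 0, 1, 0, 0],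
  [490, 494, 498, 496, 492], 166795200⟩
noncomputable def o13 : Cov :=
  ⟨13, [250, 251], [0, 1, 0, 1, 0, 1, 0, 1, 0, 1, 0, 1, 0, 1, 0, 1, 0, 1, 0, 1, 0, 1, 0],
  [504, 506], 3592512⟩
noncomputable def os : List Cov :=
  [o1, o2, o3, o4, o5, o6, o7, o8, o9, o10, o11, o12, o13]
noncomputable def reps : List (List ℕ) :=
  [[0],
  [0, 2, 0],
  [0, 32, 0, 2, 0],
  [0, 2, 33, 0],
  [0, 33, 0, 2, 0],
  [0, 35, 0, 32, 0, 2, 0],
  [0, 2, 35, 6, 8, 0, 33, 0, 2, 0],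
  [0, 2, 27, 33, 0, 2, 33, 0],
  [0, 2, 27, 0, 32, 0, 2, 0],
  [0, 2, 0, 2, 35, 6, 8, 0, 33, 0, 2, 0],
  [0, 2, 33, 0, 2, 33, 0],
  [0, 34, 29, 0, 33, 0, 2, 0],
  [0, 2, 27, 35, 0, 2, 27, 33, 0, 2, 33, 0]]

theorem z0 : C.L = mkL C.al C.be rels [(9, 0)] := by decide +kernel
theorem z1 : C.recs R0 93 0 = true := by decide +kernel
theorem z2 : C.recs R1 134 93 = true := by decide +kernel
theorem z3 : C.recs R2 185 134 = true := by decide +kernel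
theorem z4 : C.recs R3 254 185 = true := by decide +kernel
theorem z5 : (rels.getD 0 []).rotate 0 = 0 :: (sh C.al ++ 0 :: sh C.be) := by decide +kernel
theorem z6 : pairR CL.Y3S.chk rels 76 pr 132 116 = true := by decide +kernel
theorem z7 : pairB CL.Y3S.chk 116 76 ex 192 132 = true := by decide +kernel
theorem z8 : lamB CL.Y3L.P CL.Y3L.ns CL.Y3S.chk 17 116 192 [[116], [118], [120], [122], [124], [126], [128], [130]] [[2], [4], [6], [8], [10], [12], [14], [16]] [[0], [2], [4], [6], [8], [10], [12], [14], [16]] (sg (W (nat_lit 0xc0b02407014070340302c050440f0240d01c010140f02c090440700c0903c05034010440b01c0303c0902c050040703c0302405034070440b03c0901c0500c01))) = true := by decide +kernel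
theorem z9 : o1.ok C 254 CL.Y3L.P.n CL.Y3L.P.N 34 M CL.Y3L.ns = true := by decide +kernel
theorem z10 : CL.Y3S.chk (zp [] [[274], [276]] (o1.sw C)) = true := by decide +kernel
theorem z11 : o2.ok C 254 CL.Y3L.P.n CL.Y3L.P.N 34 M CL.Y3L.ns = true := by decide +kernel
theorem z12 : CL.Y3S.chk (zp [] [[286], [288]] (o2.sw C)) = true := by decide +kernel
theorem z13 : o3.ok C 254 CL.Y3L.P.n CL.Y3L.P.N 34 M CL.Y3L.ns = true := by decide +kernel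
theorem z14 : CL.Y3S.chk (zp [] [[298], [300]] (o3.sw C)) = true := by decide +kernel
theorem z15 : o4.ok C 254 CL.Y3L.P.n CL.Y3L.P.N 34 M CL.Y3L.ns = true := by decide +kernel
theorem z16 : CL.Y3S.chk (zp [] [[310], [312]] (o4.sw C)) = true := by decide +kernel
theorem z17 : o5.ok C 254 CL.Y3L.P.n CL.Y3L.P.N 34 M CL.Y3L.ns = true := by decide +kernel
theorem z18 : CL.Y3S.chk (zp [] [[320], [322]] (o5.sw C)) = true := by decide +kernel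
theorem z19 : o6.ok C 254 CL.Y3L.P.n CL.Y3L.P.N 34 M CL.Y3L.ns = true := by decide +kernel
theorem z20 : CL.Y3S.chk (zp [] [[328], [330]] (o6.sw C)) = true := by decide +kernel
theorem z21 : o7.ok C 254 CL.Y3L.P.n CL.Y3L.P.N 34 M CL.Y3L.ns = true := by decide +kernel
theorem z22 : CL.Y3S.chk (zp [] [[340], [342]] (o7.sw C)) = true := by decide +kernel
theorem z23 : o8.ok C 254 CL.Y3L.P.n CL.Y3L.P.N 34 M CL.Y3L.ns = true := by decide +kernel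
theorem z24 : CL.Y3S.chk (zp [] [[358], [360]] (o8.sw C)) = true := by decide +kernel
theorem z25 : o9.ok C 254 CL.Y3L.P.n CL.Y3L.P.N 34 M CL.Y3L.ns = true := by decide +kernel
theorem z26 : CL.Y3S.chk (zp [] [[368], [370]] (o9.sw C)) = true := by decide +kernel
theorem z27 : o10.ok C 254 CL.Y3L.P.n CL.Y3L.P.N 34 M CL.Y3L.ns = true := by decide +kernel
theorem z28 : CL.Y3S.chk (zp [] [[376], [378]] (o10.sw C)) = true := by decide +kernel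
theorem z29 : o11.ok C 254 CL.Y3L.P.n CL.Y3L.P.N 34 M CL.Y3L.ns = true := by decide +kernel
theorem z30 : CL.Y3S.chk (zp [] [[386], [388]] (o11.sw C)) = true := by decide +kernel
theorem z31 : o12.ok C 254 CL.Y3L.P.n CL.Y3L.P.N 34 M CL.Y3L.ns = true := by decide +kernel
theorem z32 : CL.Y3S.chk (zp [] [[394], [396]] (o12.sw C)) = true := by decide +kernel
theorem z33 : o13.ok C 254 CL.Y3L.P.n CL.Y3L.P.N 34 M CL.Y3L.ns = true := by decide +kernel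
theorem z34 : CL.Y3S.chk (zp [] [[402], [404]] (o13.sw C)) = true := by decide +kernel
theorem z35 : bnd (Nat.beq (C.T.get 1).h 2097153) (bnd (Nat.beq (C.T.get 1).u 0) (tb M 1)) = true := by decide +kernel
theorem z36 : M = maskC os := by decide +kernel
theorem z37 : bnd (Nat.beq (C.T.get 1).i 0) (bnd (Nat.ble (Nat.succ 0) 1) (CL.Y3S.chk [(W (C.T.get 1).u, [])])) = true := by decide +kernel
theorem z38 : bnd (Nat.beq (C.T.get 2).i 1) (bnd (Nat.ble (Nat.succ 1) 2) (CL.Y3S.chk [(W (C.T.get 2).u, [0])])) = true := by decide +kernel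
theorem z39 : bnd (Nat.beq (C.T.get 3).i 2) (bnd (Nat.ble (Nat.succ 2) 3) (CL.Y3S.chk [(W (C.T.get 3).u, [30])])) = true := by decide +kernel
theorem z40 : bnd (Nat.beq (C.T.get 4).i 1) (bnd (Nat.ble (Nat.succ 1) 4) (CL.Y3S.chk [(W (C.T.get 4).u, [0, 31])])) = true := by decide +kernel
theorem z41 : bnd (Nat.beq (C.T.get 5).i 2) (bnd (Nat.ble (Nat.succ 2) 5) (CL.Y3S.chk [(W (C.T.get 5).u, [31])])) = true := by decide +kernel
theorem z42 : bnd (Nat.beq (C.T.get 6).i 3) (bnd (Nat.ble (Nat.succ 3) 6) (CL.Y3S.chk [(W (C.T.get 6).u, [33])])) = true := by decide +kernel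
theorem z43 : bnd (Nat.beq (C.T.get 7).i 5) (bnd (Nat.ble (Nat.succ 5) 7) (CL.Y3S.chk [(W (C.T.get 7).u, [0, 33, 4, 6])])) = true := by decide +kernel
theorem z44 : bnd (Nat.beq (C.T.get 8).i 4) (bnd (Nat.ble (Nat.succ 4) 8) (CL.Y3S.chk [(W (C.T.get 8).u, [0, 25, 31])])) = true := by decide +kernel
theorem z45 : bnd (Nat.beq (C.T.get 9).i 3) (bnd (Nat.ble (Nat.succ 3) 9) (CL.Y3S.chk [(W (C.T.get 9).u, [0, 25])])) = true := by decide +kernel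
theorem z46 : bnd (Nat.beq (C.T.get 10).i 7) (bnd (Nat.ble (Nat.succ 7) 10) (CL.Y3S.chk [(W (C.T.get 10).u, [0])])) = true := by decide +kernel
theorem z47 : bnd (Nat.beq (C.T.get 11).i 4) (bnd (Nat.ble (Nat.succ 4) 11) (CL.Y3S.chk [(W (C.T.get 11).u, [0, 31])])) = true := by decide +kernel
theorem z48 : bnd (Nat.beq (C.T.get 12).i 5) (bnd (Nat.ble (Nat.succ 5) 12) (CL.Y3S.chk [(W (C.T.get 12).u, [32, 27])])) = true := by decide +kernel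
theorem z49 : bnd (Nat.beq (C.T.get 13).i 8) (bnd (Nat.ble (Nat.succ 8) 13) (CL.Y3S.chk [(W (C.T.get 13).u, [0, 25, 33])])) = true := by decide +kernel

variable {Γ G X Λ : Type*} [Group Γ] [Group G] [MulAction Γ X] [MulAction Γ Λ] {φ : Γ →* G} {e : ℕ → X} {eL : ℕ → Λ} {g0 gs : List Γ} {t : G}

theorem up {Y : Type*} [MulAction G Y] {gs : List G} {r : Y → G → Y} {q : Y} (S : Sys C gs t r q) : Upto C gs t r q 254 :=
  (S.recs _ (S.recs _ (S.recs _ (S.recs _ (Upto.zero _ _ _ _ _)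
    z1)
    z2)
    z3)
    z4)

theorem L : C.L = mkL C.al C.be rels [(9, 0)] := z0

theorem inv {gs : List G} (hr : ∀ r ∈ rels, wordG (t :: gs) r = 1) : t⁻¹ = wordG gs C.al * t * wordG gs C.be :=
  inv_of_rel hr _ _ z5

theorem pair {H : Subgroup Γ} (E : Env H g0 gs CL.Y3S.chk) (hr : ∀ r ∈ rels, wordG (t :: gs.map φ) r = 1) :
    PairTo (gs.map φ) t 116 76 192 :=
  PairTo.defs (E.map φ) (by decide) _ (PairTo.rels (E.map φ) (by decide) hr _ (PairTo.nil _ _ 116 76) (by decide) z6) (by decide)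
    z7

theorem lam (c : Ctx CL.Y3S.P e gs CL.Y3S.ns CL.Y3S.D CL.Y3S.chk) {k : List (List ℕ × List ℕ) → Bool} (cL : Ctx CL.Y3L.P eL g0 CL.Y3L.ns [] k)
    (E : Env (subW g0 [[0], [2], [4], [6], [8], [10], [12], [14], [16]]) g0 gs CL.Y3S.chk) (hp : PairTo (gs.map φ) t 116 76 192) (hU : UB (subW g0 [[0], [2], [4], [6], [8], [10], [12], [14], [16]]) 64561751654400) :
    Lam φ (subW g0 [[0], [2], [4], [6], [8], [10], [12], [14], [16]]) (gs.map φ) t g0 eL CL.Y3L.P.n CL.Y3L.P.N (2 * 17) CL.Y3L.ns ∧ (subW g0 [[0], [2], [4], [6], [8], [10], [12], [14], [16]]) ⊓ MulAction.stabilizer Γ (eL 0) = subW gs [[116], [118], [120], [122], [124], [126], [128], [130]] ∧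
      ∀ i < CL.Y3L.P.n, ∃ h ∈ (subW g0 [[0], [2], [4], [6], [8], [10], [12], [14], [16]]), h • eL 0 = eL i :=
  lam_of cL E hp z8 (CL.Y3S.K_lb c) hU

theorem res (c : Ctx CL.Y3S.P e gs CL.Y3S.ns CL.Y3S.D CL.Y3S.chk) {k : List (List ℕ × List ℕ) → Bool} (cL : Ctx CL.Y3L.P eL g0 CL.Y3L.ns [] k)
    (E : Env (subW g0 [[0], [2], [4], [6], [8], [10], [12], [14], [16]]) g0 gs CL.Y3S.chk) (hp : PairTo (gs.map φ) t 116 76 192) (hU : UB (subW g0 [[0], [2], [4], [6], [8], [10], [12], [14], [16]]) 64561751654400)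
    (hr : ∀ r ∈ rels, wordG (t :: gs.map φ) r = 1) (hg : ∀ K : Subgroup G, (subW g0 [[0], [2], [4], [6], [8], [10], [12], [14], [16]]).map φ ≤ K → t ∈ K → K = ⊤) :
    Res ((subW g0 [[0], [2], [4], [6], [8], [10], [12], [14], [16]]).map φ) [14080, 694980, 17791488, 38438400, 400308480, 175134960, 142155, 15206400, 800616960, 72783360, 679311360, 166795200, 3592512] :=
  have A := lam c cL E hp hU
  have S := sys_coset (C := C) (E.mem_map φ) (inv hr) hp hr L (E.map φ)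
  res_of_cov (os := os) A.1 S (up S) z36 z35 hg hU
    (List.forall_mem_cons.2 ⟨Cov.lb A.1 E z9 z10 (CL.Y3S.S1_lb c) (by decide),
    List.forall_mem_cons.2 ⟨Cov.lb A.1 E z11 z12 (CL.Y3S.S2_lb c) (by decide),
    List.forall_mem_cons.2 ⟨Cov.lb A.1 E z13 z14 (CL.Y3S.S3_lb c) (by decide),
    List.forall_mem_cons.2 ⟨Cov.lb A.1 E z15 z16 (CL.Y3S.S4_lb c) (by decide),
    List.forall_mem_cons.2 ⟨Cov.lb A.1 E z17 z18 (CL.Y3S.S5_lb c) (by decide),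
    List.forall_mem_cons.2 ⟨Cov.lb A.1 E z19 z20 (CL.Y3S.S6_lb c) (by decide),
    List.forall_mem_cons.2 ⟨Cov.lb A.1 E z21 z22 (CL.Y3S.S7_lb c) (by decide),
    List.forall_mem_cons.2 ⟨Cov.lb A.1 E z23 z24 (CL.Y3S.S8_lb c) (by decide),
    List.forall_mem_cons.2 ⟨Cov.lb A.1 E z25 z26 (CL.Y3S.S9_lb c) (by decide),
    List.forall_mem_cons.2 ⟨Cov.lb A.1 E z27 z28 (CL.Y3S.S10_lb c) (by decide),
    List.forall_mem_cons.2 ⟨Cov.lb A.1 E z29 z30 (CL.Y3S.S11_lb c) (by decide),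
    List.forall_mem_cons.2 ⟨Cov.lb A.1 E z31 z32 (CL.Y3S.S12_lb c) (by decide),
    List.forall_mem_cons.2 ⟨Cov.lb A.1 E z33 z34 (CL.Y3S.S13_lb c) (by decide),
    fun _ h => absurd h List.not_mem_nil⟩⟩⟩⟩⟩⟩⟩⟩⟩⟩⟩⟩⟩)

theorem q1 {Y : Type*} [MulAction G Y] {gs : List G} (hc : ∀ R, CL.Y3S.chk R = true → Rels gs R) (q : Y) :
    qq C.T gs t q 1 = wordG (t :: gs) [0] • q :=
  qq_step hc (qq_zero _ _ _ _) z37

theorem q2 {Y : Type*} [MulAction G Y] {gs : List G} (hc : ∀ R, CL.Y3S.chk R = true → Rels gs R) (q : Y) :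
    qq C.T gs t q 2 = wordG (t :: gs) [0, 2, 0] • q :=
  qq_step hc (q1 hc q) z38

theorem q3 {Y : Type*} [MulAction G Y] {gs : List G} (hc : ∀ R, CL.Y3S.chk R = true → Rels gs R) (q : Y) :
    qq C.T gs t q 3 = wordG (t :: gs) [0, 32, 0, 2, 0] • q :=
  qq_step hc (q2 hc q) z39

theorem q4 {Y : Type*} [MulAction G Y] {gs : List G} (hc : ∀ R, CL.Y3S.chk R = true → Rels gs R) (q : Y) :
    qq C.T gs t q 4 = wordG (t :: gs) [0, 2, 33, 0] • q :=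
  qq_step hc (q1 hc q) z40

theorem q5 {Y : Type*} [MulAction G Y] {gs : List G} (hc : ∀ R, CL.Y3S.chk R = true → Rels gs R) (q : Y) :
    qq C.T gs t q 5 = wordG (t :: gs) [0, 33, 0, 2, 0] • q :=
  qq_step hc (q2 hc q) z41

theorem q6 {Y : Type*} [MulAction G Y] {gs : List G} (hc : ∀ R, CL.Y3S.chk R = true → Rels gs R) (q : Y) :
    qq C.T gs t q 6 = wordG (t :: gs) [0, 35, 0, 32, 0, 2, 0] • q :=
  qq_step hc (q3 hc q) z42

theorem q7 {Y : Type*} [MulAction G Y] {gs : List G} (hc : ∀ R, CL.Y3S.chk R = true → Rels gs R) (q : Y) :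
    qq C.T gs t q 7 = wordG (t :: gs) [0, 2, 35, 6, 8, 0, 33, 0, 2, 0] • q :=
  qq_step hc (q5 hc q) z43

theorem q8 {Y : Type*} [MulAction G Y] {gs : List G} (hc : ∀ R, CL.Y3S.chk R = true → Rels gs R) (q : Y) :
    qq C.T gs t q 8 = wordG (t :: gs) [0, 2, 27, 33, 0, 2, 33, 0] • q :=
  qq_step hc (q4 hc q) z44

theorem q9 {Y : Type*} [MulAction G Y] {gs : List G} (hc : ∀ R, CL.Y3S.chk R = true → Rels gs R) (q : Y) :
    qq C.T gs t q 9 = wordG (t :: gs) [0, 2, 27, 0, 32, 0, 2, 0] • q :=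
  qq_step hc (q3 hc q) z45

theorem q10 {Y : Type*} [MulAction G Y] {gs : List G} (hc : ∀ R, CL.Y3S.chk R = true → Rels gs R) (q : Y) :
    qq C.T gs t q 10 = wordG (t :: gs) [0, 2, 0, 2, 35, 6, 8, 0, 33, 0, 2, 0] • q :=
  qq_step hc (q7 hc q) z46

theorem q11 {Y : Type*} [MulAction G Y] {gs : List G} (hc : ∀ R, CL.Y3S.chk R = true → Rels gs R) (q : Y) :
    qq C.T gs t q 11 = wordG (t :: gs) [0, 2, 33, 0, 2, 33, 0] • q :=
  qq_step hc (q4 hc q) z47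

theorem q12 {Y : Type*} [MulAction G Y] {gs : List G} (hc : ∀ R, CL.Y3S.chk R = true → Rels gs R) (q : Y) :
    qq C.T gs t q 12 = wordG (t :: gs) [0, 34, 29, 0, 33, 0, 2, 0] • q :=
  qq_step hc (q5 hc q) z48

theorem q13 {Y : Type*} [MulAction G Y] {gs : List G} (hc : ∀ R, CL.Y3S.chk R = true → Rels gs R) (q : Y) :
    qq C.T gs t q 13 = wordG (t :: gs) [0, 2, 27, 35, 0, 2, 27, 33, 0, 2, 33, 0] • q :=
  qq_step hc (q8 hc q) z49

theorem resW (c : Ctx CL.Y3S.P e gs CL.Y3S.ns CL.Y3S.D CL.Y3S.chk) {k : List (List ℕ × List ℕ) → Bool} (cL : Ctx CL.Y3L.P eL g0 CL.Y3L.ns [] k)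
    (E : Env (subW g0 [[0], [2], [4], [6], [8], [10], [12], [14], [16]]) g0 gs CL.Y3S.chk) (hp : PairTo (gs.map φ) t 116 76 192) (hU : UB (subW g0 [[0], [2], [4], [6], [8], [10], [12], [14], [16]]) 64561751654400)
    (hr : ∀ r ∈ rels, wordG (t :: gs.map φ) r = 1) (hg : ∀ K : Subgroup G, (subW g0 [[0], [2], [4], [6], [8], [10], [12], [14], [16]]).map φ ≤ K → t ∈ K → K = ⊤) :
    ResW ((subW g0 [[0], [2], [4], [6], [8], [10], [12], [14], [16]]).map φ) (reps.map (wordG (t :: gs.map φ))) [14080, 694980, 17791488, 38438400, 400308480, 175134960, 142155, 15206400, 800616960, 72783360, 679311360, 166795200, 3592512] :=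
  have A := lam c cL E hp hU
  have S := sys_coset (C := C) (E.mem_map φ) (inv hr) hp hr L (E.map φ)
  resW_of_cov (os := os) A.1 S (up S) z36 z35 hg hU
    (List.forall_mem_cons.2 ⟨Cov.lb A.1 E z9 z10 (CL.Y3S.S1_lb c) (by decide),
    List.forall_mem_cons.2 ⟨Cov.lb A.1 E z11 z12 (CL.Y3S.S2_lb c) (by decide),
    List.forall_mem_cons.2 ⟨Cov.lb A.1 E z13 z14 (CL.Y3S.S3_lb c) (by decide),
    List.forall_mem_cons.2 ⟨Cov.lb A.1 E z15 z16 (CL.Y3S.S4_lb c) (by decide),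
    List.forall_mem_cons.2 ⟨Cov.lb A.1 E z17 z18 (CL.Y3S.S5_lb c) (by decide),
    List.forall_mem_cons.2 ⟨Cov.lb A.1 E z19 z20 (CL.Y3S.S6_lb c) (by decide),
    List.forall_mem_cons.2 ⟨Cov.lb A.1 E z21 z22 (CL.Y3S.S7_lb c) (by decide),
    List.forall_mem_cons.2 ⟨Cov.lb A.1 E z23 z24 (CL.Y3S.S8_lb c) (by decide),
    List.forall_mem_cons.2 ⟨Cov.lb A.1 E z25 z26 (CL.Y3S.S9_lb c) (by decide),
    List.forall_mem_cons.2 ⟨Cov.lb A.1 E z27 z28 (CL.Y3S.S10_lb c) (by decide),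
    List.forall_mem_cons.2 ⟨Cov.lb A.1 E z29 z30 (CL.Y3S.S11_lb c) (by decide),
    List.forall_mem_cons.2 ⟨Cov.lb A.1 E z31 z32 (CL.Y3S.S12_lb c) (by decide),
    List.forall_mem_cons.2 ⟨Cov.lb A.1 E z33 z34 (CL.Y3S.S13_lb c) (by decide),
    fun _ h => absurd h List.not_mem_nil⟩⟩⟩⟩⟩⟩⟩⟩⟩⟩⟩⟩⟩)
    (.cons (q1 (E.map φ) _) (.cons (q2 (E.map φ) _) (.cons (q3 (E.map φ) _) (.cons (q4 (E.map φ) _) (.cons (q5 (E.map φ) _) (.cons (q6 (E.map φ) _) (.cons (q7 (E.map φ) _) (.cons (q8 (E.map φ) _) (.cons (q9 (E.map φ) _) (.cons (q10 (E.map φ) _) (.cons (q11 (E.map φ) _) (.cons (q12 (E.map φ) _) (.cons (q13 (E.map φ) _) .nil)))))))))))))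


end CL.Y3D
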